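import Cfsg.Agent.Lib.Helper8.ChevBN3
import Cfsg.Agent.Lib.Helper3.BNPair5

set_option autoImplicit false

namespace Cfsg.Agent.Lib.Helper8.Chev

open Cfsg.Lie Matrix Cfsg.Agent.Lib.Helper3

section

variable {D : ChevalleyDatum}

/-- the `(B, N)`-pair of a Chevalley group -/
noncomputable def chevBN (hD : D ∈ [chevG2, chevB2, chevD4, chevF4, chevE6, chevE7, chevE8])
    (F : Type*) [Field F] : Cfsg.BNPair ↥(D.group F) :=
  Classical.choose (chev_bnpair (F := F) hD)

variable {F : Type*} [Field F]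

theorem chevBN_B (hD : D ∈ [chevG2, chevB2, chevD4, chevF4, chevE6, chevE7, chevE8]) :
    (chevBN hD F).B = (D.borelSubgroup F).subgroupOf (D.group F) :=
  (Classical.choose_spec (chev_bnpair (F := F) hD)).1

theorem chevBN_N (hD : D ∈ [chevG2, chevB2, chevD4, chevF4, chevE6, chevE7, chevE8]) :
    (chevBN hD F).N = (D.monomialSubgroup F).subgroupOf (D.group F) :=
  (Classical.choose_spec (chev_bnpair (F := F) hD)).2.1

theorem chevBN_S (hD : D ∈ [chevG2, chevB2, chevD4, chevF4, chevE6, chevE7, chevE8]) :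
    (chevBN hD F).S = {n : ↥(D.group F) | ∃ i < D.rank,
      ((n : GL D.Idx F) : Matrix D.Idx D.Idx F) = D.nMat F (D.simple i) 1} :=
  (Classical.choose_spec (chev_bnpair (F := F) hD)).2.2

theorem mem_chevBN_B (hD : D ∈ [chevG2, chevB2, chevD4, chevF4, chevE6, chevE7, chevE8])
    {x : ↥(D.group F)} : x ∈ (chevBN hD F).B ↔ (x : GL D.Idx F) ∈ D.borelSubgroup F := by
  rw [chevBN_B]; exact Subgroup.mem_subgroupOf

theorem mem_chevBN_N (hD : D ∈ [chevG2, chevB2, chevD4, chevF4, chevE6, chevE7, chevE8])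
    {x : ↥(D.group F)} : x ∈ (chevBN hD F).N ↔ (x : GL D.Idx F) ∈ D.monomialSubgroup F := by
  rw [chevBN_N]; exact Subgroup.mem_subgroupOf

theorem nG_mem_group (hD : D ∈ [chevG2, chevB2, chevD4, chevF4, chevE6, chevE7, chevE8]) {i : ℕ}
    (hi : i < D.rank) : nG D F i ∈ D.group F :=
  monomial_le_group (valid0_of_mem hD) (valid1_of_mem hD) (nP_mem_monomial hD (l := [i])
    (by simpa using hi) |> fun h => by simpa [nP_cons, nP_nil] using h)

/-- the element `n_{p_i}(1)` of the Chevalley group -/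
noncomputable def sG (hD : D ∈ [chevG2, chevB2, chevD4, chevF4, chevE6, chevE7, chevE8])
    (F : Type*) [Field F] (i : ℕ) : ↥(D.group F) :=
  if hi : i < D.rank then ⟨nG D F i, nG_mem_group hD hi⟩ else 1

theorem coe_sG (hD : D ∈ [chevG2, chevB2, chevD4, chevF4, chevE6, chevE7, chevE8]) {i : ℕ}
    (hi : i < D.rank) : ((sG hD F i : ↥(D.group F)) : GL D.Idx F) = nG D F i := by
  unfold sG
  rw [dif_pos hi]

theorem sG_mem_S (hD : D ∈ [chevG2, chevB2, chevD4, chevF4, chevE6, chevE7, chevE8]) {i : ℕ}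
    (hi : i < D.rank) : sG hD F i ∈ (chevBN hD F).S := by
  rw [chevBN_S]
  exact ⟨i, hi, by rw [coe_sG hD hi, coe_nG (validJ_of_mem hD) (valid1_of_mem hD) hi]⟩

theorem mem_S_iff (hD : D ∈ [chevG2, chevB2, chevD4, chevF4, chevE6, chevE7, chevE8])
    {s : ↥(D.group F)} : s ∈ (chevBN hD F).S ↔ ∃ i < D.rank, s = sG hD F i := by
  rw [chevBN_S]
  constructor
  · rintro ⟨i, hi, hs⟩
    refine ⟨i, hi, Subtype.ext (Units.ext ?_)⟩
    rw [hs, coe_sG hD hi, coe_nG (validJ_of_mem hD) (valid1_of_mem hD) hi]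
  · rintro ⟨i, hi, rfl⟩
    exact ⟨i, hi, by rw [coe_sG hD hi, coe_nG (validJ_of_mem hD) (valid1_of_mem hD) hi]⟩

/-- `B ∪ B n_p B` is a subgroup -/
theorem union_doubleCoset_subgroup (hD : D ∈ [chevG2, chevB2, chevD4, chevF4, chevE6, chevE7, chevE8])
    {i : ℕ} (hi : i < D.rank) (n : GL D.Idx F)
    (hn : (n : Matrix D.Idx D.Idx F) = D.nMat F (D.simple i) 1) :
    ∃ P : Subgroup (GL D.Idx F), (P : Set (GL D.Idx F)) =
      (D.borelSubgroup F : Set (GL D.Idx F)) ∪
        DoubleCoset.doubleCoset n (D.borelSubgroup F : Set (GL D.Idx F)) (D.borelSubgroup F) := by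
  have V := valid0_of_mem hD
  have V1 := valid1_of_mem hD
  have J := validJ_of_mem hD
  have hn' : n = nG D F i := Units.ext (by rw [hn, coe_nG J V1 hi])
  subst hn'
  have hs := sG_mem_S (F := F) hD hi
  refine ⟨((chevBN hD F).parabolic {sG hD F i}).map (D.group F).subtype, ?_⟩
  rw [Subgroup.coe_map, BN.parabolic_singleton _ hs, Set.image_union]
  congr 1
  · ext g
    constructor
    · rintro ⟨x, hx, rfl⟩
      exact (mem_chevBN_B hD).mp hx
    · intro hg
      exact ⟨⟨g, borel_le_group V V1 hg⟩, (mem_chevBN_B hD).mpr hg, rfl⟩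
  · ext g
    rw [DoubleCoset.mem_doubleCoset]
    constructor
    · rintro ⟨x, hx, rfl⟩
      rw [BN.mem_C] at hx
      obtain ⟨b, hb, b', hb', rfl⟩ := hx
      refine ⟨b, (mem_chevBN_B hD).mp hb, b', (mem_chevBN_B hD).mp hb', ?_⟩
      simp [coe_sG hD hi]
    · rintro ⟨b, hb, b', hb', rfl⟩
      refine ⟨⟨b, borel_le_group V V1 hb⟩ * sG hD F i * ⟨b', borel_le_group V V1 hb'⟩, ?_, ?_⟩
      · rw [BN.mem_C]
        exact ⟨_, (mem_chevBN_B hD).mpr hb, _, (mem_chevBN_B hD).mpr hb', rfl⟩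
      · simp [coe_sG hD hi]

end

end Cfsg.Agent.Lib.Helper8.Chev
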