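import Cfsg.Agent.Lib.Helper8.ChevWD1

set_option autoImplicit false

/-! The Poincaré polynomial of the Weyl group of a Chevalley datum, from a certificate. -/

namespace Cfsg.Agent.Lib.Helper8.Chev

open Cfsg.Lie Matrix Cfsg.Agent.Lib.Helper8.Weyl

section

variable {D : ChevalleyDatum}

/-- the Weyl group as a group of permutations of the root indices -/
def WD (hD : D ∈ [chevG2, chevB2, chevD4, chevF4, chevE6, chevE7, chevE8]) :
    Subgroup (Equiv.Perm (Fin D.nroots)) :=
  Subgroup.closure (Set.range (sPerm (validJ_of_mem hD) (validH_of_mem hD) (checkInv_of_mem hD)))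

/-- the number of positive roots made negative -/
def lenD (D : ChevalleyDatum) (w : Equiv.Perm (Fin D.nroots)) : ℕ :=
  (Finset.univ.filter fun r : Fin D.nroots =>
    D.nroots / 2 ≤ r.val ∧ ¬ D.nroots / 2 ≤ (w r).val).card

theorem lenD_eq (hD : D ∈ [chevG2, chevB2, chevD4, chevF4, chevE6, chevE7, chevE8])
    (w : Equiv.Perm (Fin D.nroots)) :
    (chevWD D (validJ_of_mem hD) (validH_of_mem hD) (checkInv_of_mem hD)).len w = lenD D w := rfl

open Classical in
/-- the Poincaré polynomial of the Weyl group against the product formula -/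
theorem poincare_chev (hD : D ∈ [chevG2, chevB2, chevD4, chevF4, chevE6, chevE7, chevE8])
    {SS : ℕ} {pl : List ℕ} {steps : List Step} {degs : List ℕ}
    (h1 : checkSS D SS = true) (h2 : checkCS D SS = true) (h3 : checkCI D = true)
    (h4 : checkPL D pl = true)
    (h5 : checkChain D.nroots D.rank SS pl steps (List.range D.rank) = true)
    (hpoly : pmul (xm1Poly D.rank) (chainPoly steps) = degPoly degs) (q : ℕ) :
    ((q : ℤ) - 1) ^ D.rank *
      ((∑ w ∈ Finset.univ.filter (fun w => w ∈ WD hD), q ^ lenD D w : ℕ) : ℤ) =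
      (degs.map fun d => (q : ℤ) ^ d - 1).prod := by
  have J := validJ_of_mem hD
  have hX := chevWD_ok hD h1 h2 h3
  have hpl := pl_of_check h4
  have hsum := WData.sum_W hX (SS := SS) (pl := pl)
    (fun i r => ss_of_check J h1 i.isLt r.isLt) (fun j => hpl.2 j.val j.isLt) hpl.1 q h5
  have hsum' : ∑ w ∈ Finset.univ.filter (fun w => w ∈ WD hD), q ^ lenD D w = chainProd q steps :=
    hsum
  rw [hsum', ← pev_chainPoly, ← pev_xm1Poly, ← pev_pmul, hpoly, pev_degPoly]

end

end Cfsg.Agent.Lib.Helper8.Chev
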