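import Cfsg.Agent.Lib.Helper8.ChevOrd1
import Cfsg.Agent.Lib.Helper8.ChevWD2

set_option autoImplicit false

/-! The order of a Chevalley group from the Bruhat decomposition. -/

namespace Cfsg.Agent.Lib.Helper8.Chev

open Cfsg.Lie Matrix Cfsg.Agent.Lib.Helper3 Cfsg.Agent.Lib.Helper8.Weyl

section

variable {D : ChevalleyDatum} {F : Type*} [Field F]

/-- the canonical form, with an explicit word -/
theorem bruhat_exists_word (hD : D ∈ [chevG2, chevB2, chevD4, chevF4, chevE6, chevE7, chevE8])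
    {g : GL D.Idx F} (hg : g ∈ D.group F) :
    ∃ b ∈ D.borelSubgroup F, ∃ l : List ℕ, (∀ i ∈ l, i < D.rank) ∧ ∃ u ∈ UnegW D F l,
      g = b * nP D F l * u := by
  have V := valid0_of_mem hD
  have V1 := valid1_of_mem hD
  have J := validJ_of_mem hD
  have H := validH_of_mem hD
  obtain ⟨n, hn, hgC⟩ := BN.bruhat_exists (chevBN hD F) ⟨g, hg⟩
  rw [BN.mem_C] at hgC
  obtain ⟨b1, hb1, b2, hb2, e⟩ := hgC
  rw [mem_chevBN_B] at hb1 hb2
  rw [mem_chevBN_N] at hn
  have e' : g = (b1 : GL D.Idx F) * (n : GL D.Idx F) * (b2 : GL D.Idx F) := by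
    have := congrArg Subtype.val e
    simpa using this
  obtain ⟨h0, hh0, l, hl, en⟩ := monomial_form hD hn
  obtain ⟨h1, hh1, l', hg', _, el⟩ := exists_good (F := F) hD l.length l le_rfl hl
  have hl' := hg'.lt
  obtain ⟨h2, hh2, u2, hu2, eb⟩ := borel_decomp' J V1 H hb2
  obtain ⟨b, hb, u', hu', ec⟩ := good_claim (F := F) hD hg' u2 hu2
  have hc : nP D F l' * h2 * (nP D F l')⁻¹ ∈ D.diagonalSubgroup F :=
    (Subgroup.mem_normalizer_iff.mp (monomial_le_normalizer hD (nP_mem_monomial hD hl')) h2).mp hh2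
  refine ⟨(b1 : GL D.Idx F) * h0 * h1 * (nP D F l' * h2 * (nP D F l')⁻¹) * b, ?_, l', hl', u', hu',
    ?_⟩
  · exact mul_mem (mul_mem (mul_mem (mul_mem hb1 (diagonal_le_borel hh0)) (diagonal_le_borel hh1))
      (diagonal_le_borel hc)) hb
  · rw [e', en, el, eb]
    calc (b1 : GL D.Idx F) * (h0 * (h1 * nP D F l')) * (h2 * u2)
        = (b1 : GL D.Idx F) * h0 * h1 * (nP D F l' * h2 * (nP D F l')⁻¹) * (nP D F l' * u2) := by
          group
      _ = (b1 : GL D.Idx F) * h0 * h1 * (nP D F l' * h2 * (nP D F l')⁻¹) *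
            (b * nP D F l' * u') := by rw [ec]
      _ = (b1 : GL D.Idx F) * h0 * h1 * (nP D F l' * h2 * (nP D F l')⁻¹) * b * nP D F l' * u' := by
          group

/-- words with the same action differ by a torus element -/
theorem nP_mul_inv_mem_diagonal (hD : D ∈ [chevG2, chevB2, chevD4, chevF4, chevE6, chevE7, chevE8])
    {l l' : List ℕ} (hl : ∀ i ∈ l, i < D.rank) (hl' : ∀ i ∈ l', i < D.rank)
    (h : ∀ r < D.nroots, reflWord D l r = reflWord D l' r) :
    nP D F l * (nP D F l')⁻¹ ∈ D.diagonalSubgroup F := by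
  have J := validJ_of_mem hD
  have H := validH_of_mem hD
  have hI := checkInv_of_mem hD
  have hlr : ∀ i ∈ l'.reverse, i < D.rank := fun i hi => hl' i (List.mem_reverse.mp hi)
  have h1 : nP D F (l ++ l'.reverse) ∈ D.diagonalSubgroup F := by
    apply nP_mem_diagonal_of_pos hD _ _ le_rfl
    · intro i hi
      rw [List.mem_append] at hi
      rcases hi with hi | hi
      · exact hl i hi
      · exact hlr i hi
    · intro s hs1 hs2
      rw [reflWord_append, h _ (reflWord_lt J H.nS hlr hs2),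
        reflWord_reverse_cancel J H.nS hI hl' hs2]
      exact hs1
  have h2 : nP D F (l' ++ l'.reverse) ∈ D.diagonalSubgroup F := by
    apply nP_mem_diagonal_of_pos hD _ _ le_rfl
    · intro i hi
      rw [List.mem_append] at hi
      rcases hi with hi | hi
      · exact hl' i hi
      · exact hlr i hi
    · intro s hs1 hs2
      rw [reflWord_append, reflWord_reverse_cancel J H.nS hI hl' hs2]
      exact hs1
  rw [nP_append] at h1 h2
  have e : nP D F l * (nP D F l')⁻¹ =
      (nP D F l * nP D F l'.reverse) * (nP D F l' * nP D F l'.reverse)⁻¹ := by group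
  rw [e]
  exact mul_mem h1 (inv_mem h2)

theorem unegW_congr {l l' : List ℕ} (h : ∀ r < D.nroots, reflWord D l r = reflWord D l' r) :
    UnegW D F l = UnegW D F l' := by
  unfold UnegW
  congr 1
  ext x
  constructor
  · rintro ⟨r, t, h1, h2, h3, hx⟩
    exact ⟨r, t, h1, h2, by rw [← h r h2]; exact h3, hx⟩
  · rintro ⟨r, t, h1, h2, h3, hx⟩
    exact ⟨r, t, h1, h2, by rw [h r h2]; exact h3, hx⟩

/-- the element of the Weyl group given by a word -/
theorem exists_perm_of_word (hD : D ∈ [chevG2, chevB2, chevD4, chevF4, chevE6, chevE7, chevE8])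
    {l : List ℕ} (hl : ∀ i ∈ l, i < D.rank) :
    ∃ w ∈ WD hD, ∀ r : Fin D.nroots, (w r).val = reflWord D l r.val := by
  induction l with
  | nil => exact ⟨1, one_mem _, fun r => rfl⟩
  | cons i l ih =>
    obtain ⟨w, hw, e⟩ := ih (fun j hj => hl j (List.mem_cons_of_mem _ hj))
    have hi := hl i List.mem_cons_self
    refine ⟨sPerm (validJ_of_mem hD) (validH_of_mem hD) (checkInv_of_mem hD) ⟨i, hi⟩ * w,
      mul_mem (Subgroup.subset_closure ⟨⟨i, hi⟩, rfl⟩) hw, fun r => ?_⟩
    rw [Equiv.Perm.mul_apply, sPerm_val, e, reflWord_cons]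

/-- a chosen word for an element of the Weyl group -/
noncomputable def lw (hD : D ∈ [chevG2, chevB2, chevD4, chevF4, chevE6, chevE7, chevE8])
    (w : ↥(WD hD)) : List ℕ :=
  (exists_word_of_mem (validJ_of_mem hD) (validH_of_mem hD) (checkInv_of_mem hD) w.2).choose

theorem lw_lt (hD : D ∈ [chevG2, chevB2, chevD4, chevF4, chevE6, chevE7, chevE8])
    (w : ↥(WD hD)) : ∀ i ∈ lw hD w, i < D.rank :=
  (exists_word_of_mem (validJ_of_mem hD) (validH_of_mem hD) (checkInv_of_mem hD) w.2).choose_spec.1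

theorem lw_val (hD : D ∈ [chevG2, chevB2, chevD4, chevF4, chevE6, chevE7, chevE8])
    (w : ↥(WD hD)) (r : Fin D.nroots) :
    ((w : Equiv.Perm (Fin D.nroots)) r).val = reflWord D (lw hD w) r.val :=
  (exists_word_of_mem (validJ_of_mem hD) (validH_of_mem hD) (checkInv_of_mem hD)
    w.2).choose_spec.2 r

theorem bruhat_mem (hD : D ∈ [chevG2, chevB2, chevD4, chevF4, chevE6, chevE7, chevE8])
    (x : Σ w : ↥(WD hD), ↥(D.borelSubgroup F) × ↥(UnegW D F (lw hD w))) :
    (x.2.1 : GL D.Idx F) * nP D F (lw hD x.1) * (x.2.2 : GL D.Idx F) ∈ D.group F := by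
  have V := valid0_of_mem hD
  have V1 := valid1_of_mem hD
  exact mul_mem (mul_mem (borel_le_group V V1 x.2.1.2)
    (monomial_le_group V V1 (nP_mem_monomial hD (lw_lt hD x.1))))
    (borel_le_group V V1 (pos_le_borel (unegS_le_pos _ (unegW_le_unegS hD (lw_lt hD x.1) x.2.2.2))))

/-- the Bruhat map `(w, b, u) ↦ b n_w u` -/
noncomputable def bruhatMap (hD : D ∈ [chevG2, chevB2, chevD4, chevF4, chevE6, chevE7, chevE8])
    (F : Type*) [Field F]
    (x : Σ w : ↥(WD hD), ↥(D.borelSubgroup F) × ↥(UnegW D F (lw hD w))) : ↥(D.group F) :=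
  ⟨(x.2.1 : GL D.Idx F) * nP D F (lw hD x.1) * (x.2.2 : GL D.Idx F), bruhat_mem hD x⟩

theorem bruhatMap_injective (hD : D ∈ [chevG2, chevB2, chevD4, chevF4, chevE6, chevE7, chevE8]) :
    Function.Injective (bruhatMap hD F) := by
  have V := valid0_of_mem hD
  have V1 := valid1_of_mem hD
  have J := validJ_of_mem hD
  have H := validH_of_mem hD
  have C := copP_of_mem hD
  rintro ⟨w, b, u⟩ ⟨w', b', u'⟩ hxy
  have e : (b : GL D.Idx F) * nP D F (lw hD w) * (u : GL D.Idx F) =
      (b' : GL D.Idx F) * nP D F (lw hD w') * (u' : GL D.Idx F) := congrArg Subtype.val hxy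
  obtain ⟨hH, himp⟩ := bruhat_unique_chev hD b.2 b'.2 (nP_mem_monomial hD (lw_lt hD w))
    (nP_mem_monomial hD (lw_lt hD w')) (unegW_le_unegS hD (lw_lt hD w) u.2)
    (unegW_le_unegS hD (lw_lt hD w') u'.2) e
  have hP := (rootPermN_nP (F := F) J V1 H.nS _ (lw_lt hD w)).rootPerm
  have hP' := (rootPermN_nP (F := F) J V1 H.nS _ (lw_lt hD w')).rootPerm
  have hP2 := hP.mul (rootPerm_torus V (torusLike_of_mem J V1 H hH))
  rw [← Units.val_mul, mul_inv_cancel_left] at hP2
  have hww : w = w' := by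
    apply Subtype.ext
    apply Equiv.ext
    intro r
    apply Fin.ext
    rw [lw_val, lw_val]
    have := rootPerm_unique V C (M := ((nP D F (lw hD w') : GL D.Idx F) : Matrix D.Idx D.Idx F))
      (Mi := (((nP D F (lw hD w'))⁻¹ : GL D.Idx F) : Matrix D.Idx D.Idx F))
      (by rw [← Units.val_mul, mul_inv_cancel, Units.val_one]) hP2 hP' r.isLt
    exact this
  subst hww
  obtain ⟨h1, h2⟩ := himp rfl
  have hb : b = b' := Subtype.ext h1
  have hu : u = u' := Subtype.ext h2
  rw [hb, hu]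

theorem bruhatMap_surjective (hD : D ∈ [chevG2, chevB2, chevD4, chevF4, chevE6, chevE7, chevE8]) :
    Function.Surjective (bruhatMap hD F) := by
  rintro ⟨g, hg⟩
  obtain ⟨b, hb, l, hl, u, hu, e⟩ := bruhat_exists_word hD hg
  obtain ⟨w, hw, ew⟩ := exists_perm_of_word hD hl
  have h : ∀ r < D.nroots, reflWord D l r = reflWord D (lw hD ⟨w, hw⟩) r := by
    intro r hr
    rw [← ew ⟨r, hr⟩, ← lw_val hD ⟨w, hw⟩ ⟨r, hr⟩]
  have ht := nP_mul_inv_mem_diagonal (F := F) hD hl (lw_lt hD ⟨w, hw⟩) h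
  refine ⟨⟨⟨w, hw⟩, ⟨b * (nP D F l * (nP D F (lw hD ⟨w, hw⟩))⁻¹),
    mul_mem hb (diagonal_le_borel ht)⟩, ⟨u, by rw [← unegW_congr h]; exact hu⟩⟩, ?_⟩
  apply Subtype.ext
  show b * (nP D F l * (nP D F (lw hD ⟨w, hw⟩))⁻¹) * nP D F (lw hD ⟨w, hw⟩) * u = g
  rw [e]
  group

/-- `|B| = |U| |H|` -/
theorem card_borel [Fintype F] (hD : D ∈ [chevG2, chevB2, chevD4, chevF4, chevE6, chevE7, chevE8]) :
    Nat.card ↥(D.borelSubgroup F) =
      Fintype.card F ^ (D.nroots / 2) * Nat.card ↥(D.diagonalSubgroup F) := by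
  have V := valid0_of_mem hD
  have V1 := valid1_of_mem hD
  have J := validJ_of_mem hD
  have H := validH_of_mem hD
  have P := posP_of_mem hD
  have Tr := triP_of_mem hD
  rw [← card_posUnipotent (F := F) hD, ← Nat.card_prod]
  symm
  let f : ↥(D.posUnipotent F) × ↥(D.diagonalSubgroup F) → ↥(D.borelSubgroup F) := fun x =>
    ⟨(x.1 : GL D.Idx F) * (x.2 : GL D.Idx F),
      mul_mem (pos_le_borel x.1.2) (diagonal_le_borel x.2.2)⟩
  have hf : Function.Bijective f := by
    constructor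
    · rintro ⟨u, h⟩ ⟨u', h'⟩ hxy
      have e : (u : GL D.Idx F) * (h : GL D.Idx F) = (u' : GL D.Idx F) * (h' : GL D.Idx F) :=
        congrArg Subtype.val hxy
      have hm : (u' : GL D.Idx F)⁻¹ * (u : GL D.Idx F) ∈
          D.posUnipotent F ⊓ D.diagonalSubgroup F := by
        refine Subgroup.mem_inf.mpr ⟨mul_mem (inv_mem u'.2) u.2, ?_⟩
        have : (u' : GL D.Idx F)⁻¹ * (u : GL D.Idx F) =
            (h' : GL D.Idx F) * (h : GL D.Idx F)⁻¹ := by
          rw [inv_mul_eq_iff_eq_mul, ← mul_assoc, ← e, mul_inv_cancel_right]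
        rw [this]
        exact mul_mem h'.2 (inv_mem h.2)
      rw [pos_inf_diagonal J V1 H Tr P, Subgroup.mem_bot, inv_mul_eq_one] at hm
      have hu : u = u' := Subtype.ext hm.symm
      subst hu
      have hh : h = h' := Subtype.ext (mul_left_cancel e)
      rw [hh]
    · rintro ⟨b, hb⟩
      obtain ⟨u, hu, h, hh, e⟩ := borel_decomp J V1 H hb
      exact ⟨⟨⟨u, hu⟩, ⟨h, hh⟩⟩, Subtype.ext e.symm⟩
  exact Nat.card_congr (Equiv.ofBijective f hf)

open Classical in
/-- the order of a Chevalley group, from the Bruhat decomposition -/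
theorem card_group_bruhat [Fintype F]
    (hD : D ∈ [chevG2, chevB2, chevD4, chevF4, chevE6, chevE7, chevE8]) :
    Nat.card ↥(D.group F) =
      Fintype.card F ^ (D.nroots / 2) * Nat.card ↥(D.diagonalSubgroup F) *
        ∑ w ∈ Finset.univ.filter (fun w => w ∈ WD hD), Fintype.card F ^ lenD D w := by
  have e := Nat.card_congr (Equiv.ofBijective (bruhatMap hD F)
    ⟨bruhatMap_injective hD, bruhatMap_surjective hD⟩)
  rw [← e, Nat.card_sigma]
  have h1 : ∀ w : ↥(WD hD), Nat.card (↥(D.borelSubgroup F) × ↥(UnegW D F (lw hD w))) =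
      Fintype.card F ^ (D.nroots / 2) * Nat.card ↥(D.diagonalSubgroup F) *
        Fintype.card F ^ lenD D (w : Equiv.Perm (Fin D.nroots)) := by
    intro w
    rw [Nat.card_prod, card_borel hD, card_unegW hD (lw_lt hD w)]
    congr 2
    unfold lenD
    congr 1
    apply Finset.filter_congr
    intro r _
    rw [lw_val hD w r, not_le]
  rw [Finset.sum_congr rfl (fun w _ => h1 w), ← Finset.mul_sum]
  congr 1
  symm
  exact Finset.sum_subtype (Finset.univ.filter (fun w => w ∈ WD hD))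
    (fun w => by simp) (fun w => Fintype.card F ^ lenD D w)

end

end Cfsg.Agent.Lib.Helper8.Chev
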