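import Cfsg.Agent.Lib.Helper8.Weyl6

set_option autoImplicit false

/-! An element of the reflection group keeping the positive roots outside a parabolic subsystem
positive lies in the parabolic subgroup. -/

namespace Cfsg.Agent.Lib.Helper8.Weyl

open Finset

namespace WData

variable {X : WData}

section

variable (hX : X.Ok)
include hX

theorem mem_WJ_of_pos {J : Set (Fin X.l)} {w : Equiv.Perm (Fin X.n)}
    (hw : w ∈ Subgroup.closure (Set.range X.s))
    (h : ∀ r, X.pos r → ¬ X.inJ J r → X.pos (w r)) : w ∈ X.WJ J := by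
  have hw' : w ∈ X.WJ Set.univ := by rw [WJ_univ]; exact hw
  obtain ⟨u, hu, v, hv, hup, e⟩ :=
    exists_factor hX (Set.subset_univ J) (X.len w) w hw' rfl
  have hu' : u ∈ Subgroup.closure (Set.range X.s) := by rw [← WJ_univ]; exact hu
  have hu1 : u = 1 := by
    apply hX.triv u hu'
    intro r hr
    by_cases hJ : X.inJ J r
    · exact pos_of_inJ hX (lin_of_mem hX hu) hup r hr hJ
    · have hv' : v⁻¹ ∈ X.WJ J := inv_mem hv
      have h1 := pos_WJ hX hv' r hr hJ
      have h2 : ¬ X.inJ J ((v⁻¹ : Equiv.Perm (Fin X.n)) r) := fun h3 =>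
        hJ ((inJ_WJ hX hv' r).mp h3)
      have h3 := h _ h1 h2
      rw [e, Equiv.Perm.mul_apply] at h3
      have h4 : v ((v⁻¹ : Equiv.Perm (Fin X.n)) r) = r := by
        rw [← Equiv.Perm.mul_apply, mul_inv_cancel, Equiv.Perm.one_apply]
      rw [h4] at h3
      exact h3
  rw [e, hu1, one_mul]
  exact hv

end

end WData

end Cfsg.Agent.Lib.Helper8.Weyl
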