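import Cfsg.Agent.Lib.Helper8.ChevPar6
import Cfsg.Agent.Lib.Helper8.Weyl7
import Cfsg.Agent.Lib.Helper8.ChevOrd2
import Cfsg.Agent.Lib.Helper8.ChevBN4

set_option autoImplicit false

/-! The normaliser of the unipotent radical `U_J` in the Chevalley group is the parabolic
subgroup `P_J`. -/

namespace Cfsg.Agent.Lib.Helper8.Chev

open Cfsg.Lie Matrix Cfsg.Agent.Lib.Helper8.Weyl

section

variable {D : ChevalleyDatum} {F : Type*} [Field F]

/-- a non-trivial root element in `U_J` belongs to a root of `Φ⁺ ∖ Φ_J` -/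
theorem x_mem_radical_imp (hD : D ∈ [chevG2, chevB2, chevD4, chevF4, chevE6, chevE7, chevE8])
    (J : Set ℕ) {g : GL D.Idx F} (hg : g ∈ D.unipotentRadical F J) {q : ℕ} (hq : q < D.nroots)
    {c : F} (hc : c ≠ 0) (hm : (g : Matrix D.Idx D.Idx F) = D.x F q c) :
    D.IsPosRoot q ∧ ¬ D.InRootSub J q := by
  have V := valid0_of_mem hD
  have V1 := valid1_of_mem hD
  have J' := validJ_of_mem hD
  have H := validH_of_mem hD
  have P := posP_of_mem hD
  have Tr := triP_of_mem hD
  have C := copP_of_mem hD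
  refine ⟨?_, ?_⟩
  · apply (P q hq).1.mpr
    by_contra hn
    rw [not_le] at hn
    have hneg : D.IsNegRoot q := (P q hq).2.mpr hn
    have h1 : g ∈ D.negUnipotent F := Subgroup.subset_closure ⟨q, c, hneg, hm⟩
    have h2 : g ∈ D.borelSubgroup F := by
      apply pos_le_borel
      have hle : D.unipotentRadical F J ≤ D.posUnipotent F := by
        unfold ChevalleyDatum.unipotentRadical ChevalleyDatum.posUnipotent
        apply Subgroup.closure_mono
        rintro g ⟨r, t, hr, _, hg⟩
        exact ⟨r, t, hr, hg⟩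
      exact hle hg
    have h3 : g ∈ D.borelSubgroup F ⊓ D.negUnipotent F := ⟨h2, h1⟩
    rw [borel_inf_neg J' V1 H Tr P, Subgroup.mem_bot] at h3
    rw [h3, Units.val_one, x_eq_xN] at hm
    exact hc (xN_eq_one V C hq hm.symm)
  · intro hJ
    have h1 := (radical_le_radG hD J hg).1
    have h2 : (g : Matrix D.Idx D.Idx F) ∈ Lev D F (htJ D J) := by
      rw [hm, x_eq_xN]
      exact xN_mem_Lev V (htJ_isWt hD J) hq (htJ_eq_zero hD J hJ) c
    have h3 := eq_one_of_Lev_Rad h2 h1
    rw [h3, x_eq_xN] at hm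
    exact hc (xN_eq_one V C hq hm.symm)

/-- a word normalising `U_J` keeps the roots of `Φ⁺ ∖ Φ_J` positive -/
theorem normalizer_word_pos (hD : D ∈ [chevG2, chevB2, chevD4, chevF4, chevE6, chevE7, chevE8])
    (J : Set ℕ) {l : List ℕ} (hl : ∀ i ∈ l, i < D.rank)
    (hn : nP D F l ∈ Subgroup.normalizer (D.unipotentRadical F J : Set (GL D.Idx F)))
    {r : ℕ} (hr : D.IsPosRoot r) (hrJ : ¬ D.InRootSub J r) : D.IsPosRoot (reflWord D l r) := by
  have V := valid0_of_mem hD
  have V1 := valid1_of_mem hD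
  have J' := validJ_of_mem hD
  have H := validH_of_mem hD
  have hP := (rootPermN_nP (F := F) J' V1 H.nS l hl).rootPerm
  obtain ⟨g, hg⟩ := exists_unit_x (F := F) V V1 hr.1 1
  have hgU : g ∈ D.unipotentRadical F J := Subgroup.subset_closure ⟨r, 1, hr, hrJ, hg⟩
  have hconj := (Subgroup.mem_normalizer_iff.mp hn g).mp hgU
  obtain ⟨ε, hε⟩ := rootPerm_conj hP hr.1 1 g hg
  have hc : ((ε : Fˣ) : F) * 1 ≠ 0 := by
    rw [mul_one]; exact Units.ne_zero ε
  exact (x_mem_radical_imp hD J hconj (hP r hr.1).1 hc hε).1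

/-- `N_G(U_J) = P_J` -/
theorem normalizer_inf_group (hD : D ∈ [chevG2, chevB2, chevD4, chevF4, chevE6, chevE7, chevE8])
    (J : Set ℕ) :
    Subgroup.normalizer (D.unipotentRadical F J : Set (GL D.Idx F)) ⊓ D.group F =
      D.parabolicSubgroup F J := by
  have V := valid0_of_mem hD
  have V1 := valid1_of_mem hD
  have J' := validJ_of_mem hD
  have H := validH_of_mem hD
  have P := posP_of_mem hD
  have hX := chevWD_ok_mem hD
  apply le_antisymm
  · rintro g ⟨hgN, hgG⟩
    obtain ⟨b, hb, l, hl, u, hu, e⟩ := bruhat_exists_word hD hgG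
    have hbP : b ∈ D.parabolicSubgroup F J := borel_le_parabolic J hb
    have huP : u ∈ D.parabolicSubgroup F J :=
      borel_le_parabolic J (pos_le_borel (unegS_le_pos _ (unegW_le_unegS hD hl hu)))
    have hnN : nP D F l ∈ Subgroup.normalizer (D.unipotentRadical F J : Set (GL D.Idx F)) := by
      have : nP D F l = b⁻¹ * g * u⁻¹ := by rw [e]; group
      rw [this]
      exact mul_mem (mul_mem (inv_mem (parabolic_le_normalizer hD J hbP)) hgN)
        (inv_mem (parabolic_le_normalizer hD J huP))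
    obtain ⟨w, hw, ew⟩ := exists_perm_of_word hD hl
    have hwJ : w ∈ (chevWD D (validJ_of_mem hD) (validH_of_mem hD)
        (checkInv_of_mem hD)).WJ (JF D J) := by
      apply WData.mem_WJ_of_pos hX hw
      intro r hr hrJ
      have hr' : D.IsPosRoot r.val := (P r.val r.isLt).1.mpr hr
      have hrJ' : ¬ D.InRootSub J r.val := fun h => hrJ ((inRootSub_iff hD J r).mp h)
      have := normalizer_word_pos hD J hl hnN hr' hrJ'
      have h2 := (P _ this.1).1.mp this
      show D.nroots / 2 ≤ (w r).val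
      rw [ew r]
      exact h2
    obtain ⟨l', hl', el'⟩ := exists_word_of_mem_WJ hD J hwJ
    have hl'' : ∀ i ∈ l', i < D.rank := fun i hi => (hl' i hi).1
    have hsame : ∀ r < D.nroots, reflWord D l r = reflWord D l' r := by
      intro r hr
      rw [← ew ⟨r, hr⟩, ← el' ⟨r, hr⟩]
    have hH := nP_mul_inv_mem_diagonal (F := F) hD hl hl'' hsame
    have hnP : nP D F l ∈ D.parabolicSubgroup F J := by
      have : nP D F l = (nP D F l * (nP D F l')⁻¹) * nP D F l' := by group
      rw [this]
      exact mul_mem (borel_le_parabolic J (diagonal_le_borel hH))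
        (nGens_le_parabolic J (nP_mem_nGens hD J hl'))
    rw [e]
    exact mul_mem (mul_mem hbP hnP) huP
  · refine le_inf (parabolic_le_normalizer hD J) ?_
    unfold ChevalleyDatum.parabolicSubgroup
    refine sup_le (borel_le_group V V1) ?_
    rw [Subgroup.closure_le]
    rintro g ⟨j, _, hj, hg⟩
    have : g = nG D F j := Units.ext (hg.trans (coe_nG J' V1 hj).symm)
    rw [SetLike.mem_coe, this]
    exact nG_mem_group hD hj

end

end Cfsg.Agent.Lib.Helper8.Chev
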