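import Cfsg.Agent.Lib.Helper8.ChevSL2b
import Cfsg.Agent.Lib.Helper8.ChevPar7

set_option autoImplicit false

/-! # The highest root: its root subgroup is central in `U` and normalised by `B`;
subgroups containing `B` are parabolic -/

namespace Cfsg.Agent.Lib.Helper8.Chev

open Cfsg.Lie Matrix

/-- the last root commutes with every other positive root -/
noncomputable def checkHi (D : ChevalleyDatum) : Bool :=
  forallLtF (fun s => Nat.blt s (D.nroots / 2) || Nat.beq s (D.nroots - 1) ||
    decide (D.commTerms (D.nroots - 1) s = [])) D.nroots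

set_option maxRecDepth 100000 in
theorem checkHi_G2 : checkHi chevG2 = true := by decide +kernel
set_option maxRecDepth 100000 in
theorem checkHi_B2 : checkHi chevB2 = true := by decide +kernel
set_option maxRecDepth 100000 in
theorem checkHi_D4 : checkHi chevD4 = true := by decide +kernel
set_option maxRecDepth 100000 in
theorem checkHi_F4 : checkHi chevF4 = true := by decide +kernel
set_option maxRecDepth 100000 in
theorem checkHi_E6 : checkHi chevE6 = true := by decide +kernel
set_option maxRecDepth 100000 in
theorem checkHi_E7 : checkHi chevE7 = true := by decide +kernel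
set_option maxRecDepth 100000 in
theorem checkHi_E8 : checkHi chevE8 = true := by decide +kernel

variable {D : ChevalleyDatum} {F : Type*} [Field F]

theorem commTerms_hi (hD : D ∈ [chevG2, chevB2, chevD4, chevF4, chevE6, chevE7, chevE8]) {s : ℕ}
    (hs : s < D.nroots) (hpos : D.nroots / 2 ≤ s) (hne : s ≠ D.nroots - 1) :
    D.commTerms (D.nroots - 1) s = [] := by
  have h : checkHi D = true := by
    simp only [List.mem_cons, List.not_mem_nil, or_false] at hD
    rcases hD with rfl | rfl | rfl | rfl | rfl | rfl | rfl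
    · exact checkHi_G2
    · exact checkHi_B2
    · exact checkHi_D4
    · exact checkHi_F4
    · exact checkHi_E6
    · exact checkHi_E7
    · exact checkHi_E8
  simp only [checkHi, forallLtF_eq_true, Bool.or_eq_true, decide_eq_true_eq, Nat.blt_eq,
    Nat.beq_eq] at h
  rcases h s hs with (h | h) | h
  · omega
  · exact absurd h hne
  · exact h

theorem hi_lt (hD : D ∈ [chevG2, chevB2, chevD4, chevF4, chevE6, chevE7, chevE8]) :
    D.nroots - 1 < D.nroots := by
  have := (valid0_of_mem hD).even
  have := (validJ_of_mem hD)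
  simp only [List.mem_cons, List.not_mem_nil, or_false] at hD
  rcases hD with rfl | rfl | rfl | rfl | rfl | rfl | rfl <;> decide

/-- root elements commuting when the commutator formula has no terms -/
theorem x_commute_of_nil (hD : D ∈ [chevG2, chevB2, chevD4, chevF4, chevE6, chevE7, chevE8])
    {r s : ℕ} (hr : r < D.nroots) (hs : s < D.nroots) (h1 : s ≠ r) (h2 : s ≠ D.neg r)
    (h : D.commTerms r s = []) (t u : F) : D.x F s u * D.x F r t = D.x F r t * D.x F s u := by
  have := comm_formula hD hr hs h1 h2 t u
  rw [this]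
  unfold ChevalleyDatum.commWord
  rw [h]
  simp [ChevalleyDatum.wordMat]

/-- the root subgroup of the highest root is central in `U` -/
theorem hi_commute (hD : D ∈ [chevG2, chevB2, chevD4, chevF4, chevE6, chevE7, chevE8]) {s : ℕ}
    (hs : D.IsPosRoot s) (t u : F) :
    D.x F s u * D.x F (D.nroots - 1) t = D.x F (D.nroots - 1) t * D.x F s u := by
  have V := valid0_of_mem hD
  have V1 := valid1_of_mem hD
  have P := posP_of_mem hD
  have hr := hi_lt hD
  have hpos := (P s hs.1).1.mp hs
  by_cases hne : s = D.nroots - 1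
  · subst hne
    rw [x_eq_xN, x_eq_xN, xN_mul_xN F V V1 hr, xN_mul_xN F V V1 hr, add_comm]
  · have h2 : s ≠ D.neg (D.nroots - 1) := by
      rw [V.neg_eq _ hr]
      have := V.even
      omega
    exact x_commute_of_nil hD hr hs.1 hne h2 (commTerms_hi hD hs.1 hpos hne) t u

theorem pos_centralizes_hi (hD : D ∈ [chevG2, chevB2, chevD4, chevF4, chevE6, chevE7, chevE8])
    {g : GL D.Idx F} (hg : g ∈ D.posUnipotent F) {x : GL D.Idx F} {t : F}
    (hx : (x : Matrix D.Idx D.Idx F) = D.x F (D.nroots - 1) t) : g * x = x * g := by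
  have hle : D.posUnipotent F ≤ Subgroup.centralizer {x} := by
    unfold ChevalleyDatum.posUnipotent
    rw [Subgroup.closure_le]
    rintro y ⟨s, u, hs, hy⟩
    rw [SetLike.mem_coe, Subgroup.mem_centralizer_iff]
    rintro _ rfl
    apply Units.ext
    rw [Units.val_mul, Units.val_mul, hx, hy]
    exact (hi_commute hD hs t u).symm
  have := hle hg
  rw [Subgroup.mem_centralizer_iff] at this
  exact (this x rfl).symm

/-- `B` acts on the root subgroup of the highest root by scalars -/
theorem borel_conj_hi (hD : D ∈ [chevG2, chevB2, chevD4, chevF4, chevE6, chevE7, chevE8])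
    {b : GL D.Idx F} (hb : b ∈ D.borelSubgroup F) :
    ∃ c : Fˣ, ∀ (t : F) (x : GL D.Idx F), (x : Matrix D.Idx D.Idx F) = D.x F (D.nroots - 1) t →
      ((b * x * b⁻¹ : GL D.Idx F) : Matrix D.Idx D.Idx F) = D.x F (D.nroots - 1) (c * t) := by
  have V := valid0_of_mem hD
  have V1 := valid1_of_mem hD
  have J := validJ_of_mem hD
  have H := validH_of_mem hD
  obtain ⟨u, hu, h, hh, rfl⟩ := borel_decomp J V1 H hb
  obtain ⟨c, hc⟩ := torus_conj_x V (torusLike_of_mem J V1 H hh) (hi_lt hD)
  refine ⟨c, fun t x hx => ?_⟩
  have h1 := hc t x hx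
  have h2 : u * h * x * (u * h)⁻¹ = u * (h * x * h⁻¹) * u⁻¹ := by group
  rw [h2, pos_centralizes_hi hD hu h1, mul_assoc, mul_inv_cancel, mul_one, h1]

theorem borel_le_normalizer_hi (hD : D ∈ [chevG2, chevB2, chevD4, chevF4, chevE6, chevE7, chevE8]) :
    D.borelSubgroup F ≤
      Subgroup.normalizer (D.rootSubgroup F (D.nroots - 1) : Set (GL D.Idx F)) := by
  intro b hb
  unfold ChevalleyDatum.rootSubgroup
  apply mem_normalizer_closure_of
  · rintro x ⟨t, hx⟩
    obtain ⟨c, hc⟩ := borel_conj_hi hD hb
    exact Subgroup.subset_closure ⟨c * t, hc t x hx⟩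
  · rintro x ⟨t, hx⟩
    obtain ⟨c, hc⟩ := borel_conj_hi hD (inv_mem hb)
    have := hc t x hx
    rw [inv_inv] at this
    exact Subgroup.subset_closure ⟨c * t, this⟩

end Cfsg.Agent.Lib.Helper8.Chev
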