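import Cfsg.Agent.Lib.Helper8.ChevRee35

set_option autoImplicit false

/-! Point stabilisers of the Ree group: the coset action. -/

namespace Cfsg.Agent.Lib.Helper8.Chev

open Cfsg.Lie Matrix

section

variable {K : Type*} [Field K] [Fintype K] {m : ℕ} {φ ψ : K →+* K}
variable {τ : ↥(chevG2.group K) →* ↥(chevG2.group K)}

/-- `n₀` as an element of the Ree group -/
noncomputable def reeN0G (hF : ReeField K m φ ψ) : ↥(twistedG2 K (3 ^ m)) :=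
  ⟨reeN0 K, reeN0_mem_twisted hF⟩

/-- the refined Bruhat decomposition: `g = u n₀⁻¹ b` off `B¹` -/
theorem ree_decomp2 (hF : ReeField K m φ ψ) (hK : Fintype.card K = 3 ^ (2 * m + 1))
    (hτ : ReeAut m τ) (g : ↥(twistedG2 K (3 ^ m))) (hg : g ∉ reeB K m) :
    ∃ u : ↥(twistedG2 K (3 ^ m)), (u : GL chevG2.Idx K) ∈ chevG2.posUnipotent K ∧
      ∃ b ∈ reeB K m, g = u * (reeN0G hF)⁻¹ * b := by
  have hfix := fixT_eq_twisted hF hK hτ
  have hg' : ((g⁻¹ : ↥(twistedG2 K (3 ^ m))) : GL chevG2.Idx K) ∈ fixT τ := by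
    rw [hfix]; exact (g⁻¹).2
  rcases ree_bruhat hF hτ hg' with ⟨u₁, hu₁, h₁, hh₁, e⟩ | ⟨u₁, hu₁, h₁, hh₁, u, hu, e⟩
  · exfalso
    apply hg
    have : g⁻¹ ∈ reeB K m := by
      rw [mem_reeB, e]
      exact mul_mem (pos_le_borel hu₁.1) (diagonal_le_borel hh₁.1)
    simpa using inv_mem this
  · rw [hfix] at hu₁ hh₁ hu
    refine ⟨⟨u⁻¹, inv_mem hu.2⟩, inv_mem hu.1, ⟨(u₁ * h₁)⁻¹, inv_mem (mul_mem hu₁.2 hh₁.2)⟩,
      ?_, ?_⟩
    · rw [mem_reeB]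
      exact inv_mem (mul_mem (pos_le_borel hu₁.1) (diagonal_le_borel hh₁.1))
    · apply Subtype.ext
      have e' : (g : GL chevG2.Idx K) = (u₁ * h₁ * reeN0 K * u)⁻¹ := by
        rw [← e]; simp
      rw [e']
      simp only [Subgroup.coe_mul, Subgroup.coe_inv, reeN0G]
      group

omit [Fintype K] in
theorem ree_smul_mk (g a : ↥(twistedG2 K (3 ^ m))) :
    g • (QuotientGroup.mk a : ↥(twistedG2 K (3 ^ m)) ⧸ reeB K m) = QuotientGroup.mk (g * a) :=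
  rfl

/-- three distinct points can be moved to `B¹`, `n₀⁻¹B¹`, `u n₀⁻¹ B¹` -/
theorem ree_three_normal (hF : ReeField K m φ ψ) (hK : Fintype.card K = 3 ^ (2 * m + 1))
    (hτ : ReeAut m τ) (x y z : ↥(twistedG2 K (3 ^ m)) ⧸ reeB K m)
    (hxy : x ≠ y) (hxz : x ≠ z) (hyz : y ≠ z) :
    ∃ g u : ↥(twistedG2 K (3 ^ m)), (u : GL chevG2.Idx K) ∈ chevG2.posUnipotent K ∧ u ≠ 1 ∧
      x = g • (QuotientGroup.mk 1 : ↥(twistedG2 K (3 ^ m)) ⧸ reeB K m) ∧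
      y = g • (QuotientGroup.mk (reeN0G hF)⁻¹ : ↥(twistedG2 K (3 ^ m)) ⧸ reeB K m) ∧
      z = g • (QuotientGroup.mk (u * (reeN0G hF)⁻¹) : ↥(twistedG2 K (3 ^ m)) ⧸ reeB K m) := by
  obtain ⟨a, rfl⟩ := QuotientGroup.mk_surjective x
  obtain ⟨b, rfl⟩ := QuotientGroup.mk_surjective y
  obtain ⟨c, rfl⟩ := QuotientGroup.mk_surjective z
  have hab : a⁻¹ * b ∉ reeB K m := fun h => hxy (QuotientGroup.eq.mpr h)
  obtain ⟨u₁, hu₁, b₁, hb₁, e₁⟩ := ree_decomp2 hF hK hτ _ hab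
  have hu₁B : u₁ ∈ reeB K m := mem_reeB.mpr (pos_le_borel hu₁)
  have hx : (QuotientGroup.mk a : ↥(twistedG2 K (3 ^ m)) ⧸ reeB K m) =
      QuotientGroup.mk (a * u₁) := by
    rw [QuotientGroup.eq]
    have : a⁻¹ * (a * u₁) = u₁ := by group
    rw [this]; exact hu₁B
  have hac : (a * u₁)⁻¹ * c ∉ reeB K m := by
    intro h
    apply hxz
    rw [hx]
    exact QuotientGroup.eq.mpr h
  obtain ⟨u₂, hu₂, b₂, hb₂, e₂⟩ := ree_decomp2 hF hK hτ _ hac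
  have hy : (QuotientGroup.mk b : ↥(twistedG2 K (3 ^ m)) ⧸ reeB K m) =
      QuotientGroup.mk (a * u₁ * (reeN0G hF)⁻¹) := by
    rw [eq_comm, QuotientGroup.eq]
    have : (a * u₁ * (reeN0G hF)⁻¹)⁻¹ * b = b₁ := by
      have : b = a * (a⁻¹ * b) := by group
      rw [this, e₁]; group
    rw [this]; exact hb₁
  have hz : (QuotientGroup.mk c : ↥(twistedG2 K (3 ^ m)) ⧸ reeB K m) =
      QuotientGroup.mk (a * u₁ * (u₂ * (reeN0G hF)⁻¹)) := by
    rw [eq_comm, QuotientGroup.eq]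
    have : (a * u₁ * (u₂ * (reeN0G hF)⁻¹))⁻¹ * c = b₂ := by
      have : c = (a * u₁) * ((a * u₁)⁻¹ * c) := by group
      rw [this, e₂]; group
    rw [this]; exact hb₂
  refine ⟨a * u₁, u₂, hu₂, ?_, ?_, ?_, ?_⟩
  · rintro rfl
    apply hyz
    rw [hy, hz, one_mul]
  · rw [ree_smul_mk, mul_one]; exact hx
  · rw [ree_smul_mk]; exact hy
  · rw [ree_smul_mk]; exact hz

/-- the involution of `H¹` as an element of the Ree group -/
noncomputable def reeInvG (hF : ReeField K m φ ψ) (hK : Fintype.card K = 3 ^ (2 * m + 1))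
    (hτ : ReeAut m τ) : ↥(twistedG2 K (3 ^ m)) :=
  ⟨reeInv K, (reeInv_mem hF hK hτ).2⟩

theorem reeInvG_ne_one (hF : ReeField K m φ ψ) (hK : Fintype.card K = 3 ^ (2 * m + 1))
    (hτ : ReeAut m τ) : reeInvG hF hK hτ ≠ 1 := by
  intro h
  exact reeInv_ne_one hF (congrArg Subtype.val h)

/-- the stabiliser of the three points `B¹`, `n₀⁻¹B¹`, `u n₀⁻¹ B¹` -/
theorem ree_stab_normal (hF : ReeField K m φ ψ) (hK : Fintype.card K = 3 ^ (2 * m + 1))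
    (hτ : ReeAut m τ) {u δ : ↥(twistedG2 K (3 ^ m))}
    (hu : (u : GL chevG2.Idx K) ∈ chevG2.posUnipotent K) (hu1 : u ≠ 1)
    (h1 : δ • (QuotientGroup.mk 1 : ↥(twistedG2 K (3 ^ m)) ⧸ reeB K m) = QuotientGroup.mk 1)
    (h2 : δ • (QuotientGroup.mk (reeN0G hF)⁻¹ : ↥(twistedG2 K (3 ^ m)) ⧸ reeB K m) =
      QuotientGroup.mk (reeN0G hF)⁻¹)
    (h3 : δ • (QuotientGroup.mk (u * (reeN0G hF)⁻¹) : ↥(twistedG2 K (3 ^ m)) ⧸ reeB K m) =
      QuotientGroup.mk (u * (reeN0G hF)⁻¹)) :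
    δ = 1 ∨ δ = reeInvG hF hK hτ := by
  rw [ree_smul_mk, eq_comm, QuotientGroup.eq, mem_reeB] at h1 h2 h3
  have hδB : (δ : GL chevG2.Idx K) ∈ chevG2.borelSubgroup K := by
    simpa using h1
  have h2' : reeN0 K * (δ : GL chevG2.Idx K) * (reeN0 K)⁻¹ ∈ chevG2.borelSubgroup K := by
    have : reeN0 K * (δ : GL chevG2.Idx K) * (reeN0 K)⁻¹ =
        (((reeN0G hF)⁻¹⁻¹ * (δ * (reeN0G hF)⁻¹) : ↥(twistedG2 K (3 ^ m))) :
          GL chevG2.Idx K) := by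
      simp only [Subgroup.coe_mul, Subgroup.coe_inv, reeN0G]
      group
    rw [this]; exact h2
  have hδH := ree_two_point hF hτ hδB h2'
  have h3' : reeN0 K * ((u : GL chevG2.Idx K)⁻¹ * (δ : GL chevG2.Idx K) * (u : GL chevG2.Idx K)) *
      (reeN0 K)⁻¹ ∈ chevG2.borelSubgroup K := by
    have : reeN0 K * ((u : GL chevG2.Idx K)⁻¹ * (δ : GL chevG2.Idx K) * (u : GL chevG2.Idx K)) *
        (reeN0 K)⁻¹ =
        (((u * (reeN0G hF)⁻¹)⁻¹ * (δ * (u * (reeN0G hF)⁻¹)) : ↥(twistedG2 K (3 ^ m))) :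
          GL chevG2.Idx K) := by
      simp only [Subgroup.coe_mul, Subgroup.coe_inv, reeN0G]
      group
    rw [this]; exact h3
  have hcomm := ree_three_point hF hτ hδH hu h3'
  have hu1' : (u : GL chevG2.Idx K) ≠ 1 := fun h => hu1 (Subtype.ext h)
  rcases ree_cent_cases hF hK hτ ⟨hδH, δ.2⟩ ⟨hu, u.2⟩ hu1' hcomm with h | h
  · left; exact Subtype.ext h
  · right; exact Subtype.ext h

/-- three-point stabilisers have order at most two -/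
theorem ree_three_stab_le (hF : ReeField K m φ ψ) (hK : Fintype.card K = 3 ^ (2 * m + 1))
    (hτ : ReeAut m τ) (x y z : ↥(twistedG2 K (3 ^ m)) ⧸ reeB K m)
    (hxy : x ≠ y) (hxz : x ≠ z) (hyz : y ≠ z) :
    Nat.card ↥(MulAction.stabilizer ↥(twistedG2 K (3 ^ m)) x ⊓
      MulAction.stabilizer ↥(twistedG2 K (3 ^ m)) y ⊓
      MulAction.stabilizer ↥(twistedG2 K (3 ^ m)) z) ≤ 2 := by
  obtain ⟨g, u, hu, hu1, rfl, rfl, rfl⟩ := ree_three_normal hF hK hτ x y z hxy hxz hyz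
  have hsub : ((MulAction.stabilizer ↥(twistedG2 K (3 ^ m))
        (g • (QuotientGroup.mk 1 : ↥(twistedG2 K (3 ^ m)) ⧸ reeB K m)) ⊓
      MulAction.stabilizer ↥(twistedG2 K (3 ^ m))
        (g • (QuotientGroup.mk (reeN0G hF)⁻¹ : ↥(twistedG2 K (3 ^ m)) ⧸ reeB K m)) ⊓
      MulAction.stabilizer ↥(twistedG2 K (3 ^ m))
        (g • (QuotientGroup.mk (u * (reeN0G hF)⁻¹) : ↥(twistedG2 K (3 ^ m)) ⧸ reeB K m)) :
        Subgroup ↥(twistedG2 K (3 ^ m))) : Set ↥(twistedG2 K (3 ^ m))) ⊆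
      {1, g * reeInvG hF hK hτ * g⁻¹} := by
    rintro γ ⟨⟨h1, h2⟩, h3⟩
    have key : ∀ p : ↥(twistedG2 K (3 ^ m)) ⧸ reeB K m, γ • g • p = g • p →
        (g⁻¹ * γ * g) • p = p := by
      intro p hp
      rw [mul_smul, mul_smul, hp, inv_smul_smul]
    rcases ree_stab_normal hF hK hτ hu hu1 (key _ h1) (key _ h2) (key _ h3) with h | h
    · left
      have : γ = g * (g⁻¹ * γ * g) * g⁻¹ := by group
      rw [this, h]; group
    · right
      have : γ = g * (g⁻¹ * γ * g) * g⁻¹ := by group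
      rw [Set.mem_singleton_iff, this, h]
  calc Nat.card ↥(MulAction.stabilizer ↥(twistedG2 K (3 ^ m))
        (g • (QuotientGroup.mk 1 : ↥(twistedG2 K (3 ^ m)) ⧸ reeB K m)) ⊓
      MulAction.stabilizer ↥(twistedG2 K (3 ^ m))
        (g • (QuotientGroup.mk (reeN0G hF)⁻¹ : ↥(twistedG2 K (3 ^ m)) ⧸ reeB K m)) ⊓
      MulAction.stabilizer ↥(twistedG2 K (3 ^ m))
        (g • (QuotientGroup.mk (u * (reeN0G hF)⁻¹) : ↥(twistedG2 K (3 ^ m)) ⧸ reeB K m)))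
      = Set.ncard ((MulAction.stabilizer ↥(twistedG2 K (3 ^ m))
        (g • (QuotientGroup.mk 1 : ↥(twistedG2 K (3 ^ m)) ⧸ reeB K m)) ⊓
      MulAction.stabilizer ↥(twistedG2 K (3 ^ m))
        (g • (QuotientGroup.mk (reeN0G hF)⁻¹ : ↥(twistedG2 K (3 ^ m)) ⧸ reeB K m)) ⊓
      MulAction.stabilizer ↥(twistedG2 K (3 ^ m))
        (g • (QuotientGroup.mk (u * (reeN0G hF)⁻¹) : ↥(twistedG2 K (3 ^ m)) ⧸ reeB K m)) :
        Subgroup ↥(twistedG2 K (3 ^ m))) : Set ↥(twistedG2 K (3 ^ m))) :=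
        (Nat.card_coe_set_eq _)
    _ ≤ Set.ncard ({1, g * reeInvG hF hK hτ * g⁻¹} : Set ↥(twistedG2 K (3 ^ m))) :=
        Set.ncard_le_ncard hsub (Set.toFinite _)
    _ ≤ Set.ncard ({g * reeInvG hF hK hτ * g⁻¹} : Set ↥(twistedG2 K (3 ^ m))) + 1 :=
        Set.ncard_insert_le _ _
    _ = 2 := by rw [Set.ncard_singleton]

/-- some three-point stabiliser has order exactly two -/
theorem ree_three_stab_eq (hF : ReeField K m φ ψ) (hK : Fintype.card K = 3 ^ (2 * m + 1))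
    (hτ : ReeAut m τ) :
    ∃ x y z : ↥(twistedG2 K (3 ^ m)) ⧸ reeB K m, x ≠ y ∧ x ≠ z ∧ y ≠ z ∧
    Nat.card ↥(MulAction.stabilizer ↥(twistedG2 K (3 ^ m)) x ⊓
      MulAction.stabilizer ↥(twistedG2 K (3 ^ m)) y ⊓
      MulAction.stabilizer ↥(twistedG2 K (3 ^ m)) z) = 2 := by
  have V1 := valid1_of_mem hDG2
  have J := validJ_of_mem hDG2
  have H := validH_of_mem hDG2
  have P := posP_of_mem hDG2
  have Tr := triP_of_mem hDG2
  obtain ⟨w, hw⟩ := exists_isW' (K := K) (m := m) 0 1 0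
  have hwm := hw.mem hF hτ
  have hwU : w ∈ chevG2.posUnipotent K := (Subgroup.mem_inf.mp hwm).1
  have hwG : w ∈ twistedG2 K (3 ^ m) := (Subgroup.mem_inf.mp hwm).2
  have hw1 : w ≠ 1 := by
    rintro rfl
    exact one_ne_zero (hw.inj hF (isW_one hF)).2.1
  have hn : (reeN0 K)⁻¹ ∉ chevG2.borelSubgroup K := fun h =>
    reeN0_not_mem_borel hF (by simpa using inv_mem h)
  have hxy : (QuotientGroup.mk 1 : ↥(twistedG2 K (3 ^ m)) ⧸ reeB K m) ≠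
      QuotientGroup.mk (reeN0G hF)⁻¹ := by
    intro h
    rw [QuotientGroup.eq, mem_reeB] at h
    apply hn
    simpa [reeN0G] using h
  have hxz : (QuotientGroup.mk 1 : ↥(twistedG2 K (3 ^ m)) ⧸ reeB K m) ≠
      QuotientGroup.mk ((⟨w, hwG⟩ : ↥(twistedG2 K (3 ^ m))) * (reeN0G hF)⁻¹) := by
    intro h
    rw [QuotientGroup.eq, mem_reeB] at h
    apply hn
    have h' : w * (reeN0 K)⁻¹ ∈ chevG2.borelSubgroup K := by simpa [reeN0G] using h
    have := mul_mem (inv_mem (pos_le_borel hwU)) h'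
    rwa [inv_mul_cancel_left] at this
  have hyz : (QuotientGroup.mk (reeN0G hF)⁻¹ : ↥(twistedG2 K (3 ^ m)) ⧸ reeB K m) ≠
      QuotientGroup.mk ((⟨w, hwG⟩ : ↥(twistedG2 K (3 ^ m))) * (reeN0G hF)⁻¹) := by
    intro h
    rw [QuotientGroup.eq, mem_reeB] at h
    have h' : reeN0 K * w * (reeN0 K)⁻¹ ∈ chevG2.borelSubgroup K := by
      simpa [reeN0G, mul_assoc] using h
    have h4 : reeN0 K * w * (reeN0 K)⁻¹ ∈ chevG2.borelSubgroup K ⊓ chevG2.negUnipotent K :=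
      ⟨h', reeN0_conj_pos hF hτ hwU⟩
    rw [borel_inf_neg J V1 H Tr P, Subgroup.mem_bot] at h4
    apply hw1
    have e : w = (reeN0 K)⁻¹ * (reeN0 K * w * (reeN0 K)⁻¹) * reeN0 K := by group
    rw [e, h4]; group
  refine ⟨_, _, _, hxy, hxz, hyz, ?_⟩
  apply le_antisymm (ree_three_stab_le hF hK hτ _ _ _ hxy hxz hyz)
  have hjH : reeInv K ∈ chevG2.diagonalSubgroup K := (reeInv_mem hF hK hτ).1
  have hconj : reeN0 K * (reeInv K)⁻¹ * (reeN0 K)⁻¹ ∈ chevG2.borelSubgroup K :=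
    diagonal_le_borel (conj_mem_diagonal reeN0_mem_monomial (inv_mem hjH))
  have hcomm := reeInv_comm hF hw
  have hmem : reeInvG hF hK hτ ∈ MulAction.stabilizer ↥(twistedG2 K (3 ^ m))
        (QuotientGroup.mk 1 : ↥(twistedG2 K (3 ^ m)) ⧸ reeB K m) ⊓
      MulAction.stabilizer ↥(twistedG2 K (3 ^ m))
        (QuotientGroup.mk (reeN0G hF)⁻¹ : ↥(twistedG2 K (3 ^ m)) ⧸ reeB K m) ⊓
      MulAction.stabilizer ↥(twistedG2 K (3 ^ m))
        (QuotientGroup.mk ((⟨w, hwG⟩ : ↥(twistedG2 K (3 ^ m))) * (reeN0G hF)⁻¹) :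
          ↥(twistedG2 K (3 ^ m)) ⧸ reeB K m) := by
    refine Subgroup.mem_inf.mpr ⟨Subgroup.mem_inf.mpr ⟨?_, ?_⟩, ?_⟩
    · rw [MulAction.mem_stabilizer_iff, ree_smul_mk, QuotientGroup.eq, mem_reeB]
      have : (((reeInvG hF hK hτ * 1)⁻¹ * 1 : ↥(twistedG2 K (3 ^ m))) : GL chevG2.Idx K) =
          (reeInv K)⁻¹ := by simp [reeInvG]
      rw [this]
      exact diagonal_le_borel (inv_mem hjH)
    · rw [MulAction.mem_stabilizer_iff, ree_smul_mk, QuotientGroup.eq, mem_reeB]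
      have : (((reeInvG hF hK hτ * (reeN0G hF)⁻¹)⁻¹ * (reeN0G hF)⁻¹ :
          ↥(twistedG2 K (3 ^ m))) : GL chevG2.Idx K) =
          reeN0 K * (reeInv K)⁻¹ * (reeN0 K)⁻¹ := by
        simp only [Subgroup.coe_mul, Subgroup.coe_inv, reeN0G, reeInvG]
        group
      rw [this]
      exact hconj
    · rw [MulAction.mem_stabilizer_iff, ree_smul_mk, QuotientGroup.eq, mem_reeB]
      have : (((reeInvG hF hK hτ * ((⟨w, hwG⟩ : ↥(twistedG2 K (3 ^ m))) *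
          (reeN0G hF)⁻¹))⁻¹ * ((⟨w, hwG⟩ : ↥(twistedG2 K (3 ^ m))) * (reeN0G hF)⁻¹) :
          ↥(twistedG2 K (3 ^ m))) : GL chevG2.Idx K) =
          reeN0 K * (reeInv K)⁻¹ * (reeN0 K)⁻¹ := by
        simp only [Subgroup.coe_mul, Subgroup.coe_inv, reeN0G, reeInvG]
        have e : (reeInv K)⁻¹ * w = w * (reeInv K)⁻¹ := by
          have : (reeInv K)⁻¹ * (reeInv K * w * (reeInv K)⁻¹) = w * (reeInv K)⁻¹ := by group
          rw [hcomm] at this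
          exact this
        calc ((reeInv K) * (w * (reeN0 K)⁻¹))⁻¹ * (w * (reeN0 K)⁻¹)
            = reeN0 K * w⁻¹ * ((reeInv K)⁻¹ * w) * (reeN0 K)⁻¹ := by group
          _ = reeN0 K * w⁻¹ * (w * (reeInv K)⁻¹) * (reeN0 K)⁻¹ := by rw [e]
          _ = reeN0 K * (reeInv K)⁻¹ * (reeN0 K)⁻¹ := by group
      rw [this]
      exact hconj
  have hne : MulAction.stabilizer ↥(twistedG2 K (3 ^ m))
        (QuotientGroup.mk 1 : ↥(twistedG2 K (3 ^ m)) ⧸ reeB K m) ⊓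
      MulAction.stabilizer ↥(twistedG2 K (3 ^ m))
        (QuotientGroup.mk (reeN0G hF)⁻¹ : ↥(twistedG2 K (3 ^ m)) ⧸ reeB K m) ⊓
      MulAction.stabilizer ↥(twistedG2 K (3 ^ m))
        (QuotientGroup.mk ((⟨w, hwG⟩ : ↥(twistedG2 K (3 ^ m))) * (reeN0G hF)⁻¹) :
          ↥(twistedG2 K (3 ^ m)) ⧸ reeB K m) ≠ ⊥ := by
    intro h
    rw [h, Subgroup.mem_bot] at hmem
    exact reeInvG_ne_one hF hK hτ hmem
  exact (Subgroup.one_lt_card_iff_ne_bot _).mpr hne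

end

end Cfsg.Agent.Lib.Helper8.Chev
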