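import Cfsg.Agent.Lib.Helper8.ChevW2

set_option autoImplicit false

namespace Cfsg.Agent.Lib.Helper8.Chev

open Cfsg.Lie Matrix

section

variable {D : ChevalleyDatum} {F : Type*} [Field F]

/-! ### Invertible matrices of words -/

open Classical in
/-- the invertible matrix of a word in root elements -/
noncomputable def wG (D : ChevalleyDatum) (F : Type*) [Field F] (w : List (ℕ × F)) : GL D.Idx F :=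
  if h : IsUnit (wN D F w) then h.unit else 1

theorem coe_wG (V : Valid0 D) (V1 : Valid1 D) (w : List (ℕ × F)) (hw : ∀ p ∈ w, p.1 < D.nroots) :
    ((wG D F w : GL D.Idx F) : Matrix D.Idx D.Idx F) = wN D F w := by
  have h : IsUnit (wN D F w) := by
    obtain ⟨g, hg⟩ := exists_unit_wN V V1 w hw
    exact ⟨g, hg⟩
  unfold wG
  rw [dif_pos h]
  exact h.unit_spec

/-- the element `n_{p_i}(1)` -/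
noncomputable def nG (D : ChevalleyDatum) (F : Type*) [Field F] (i : ℕ) : GL D.Idx F :=
  wG D F (D.nWord (D.simple i) 1)

theorem coe_nG (J : ValidJ D) (V1 : Valid1 D) {i : ℕ} (hi : i < D.rank) :
    ((nG D F i : GL D.Idx F) : Matrix D.Idx D.Idx F) = D.nMat F (D.simple i) 1 := by
  unfold nG
  rw [coe_wG J.V V1 _ (nWord_lt J.V (J.S i hi).1 1), nMat_eq_wN]

theorem coe_nG_inv (J : ValidJ D) (V1 : Valid1 D) {i : ℕ} (hi : i < D.rank) :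
    (((nG D F i)⁻¹ : GL D.Idx F) : Matrix D.Idx D.Idx F) = D.nMat F (D.simple i) (-1) := by
  rw [Matrix.coe_units_inv, coe_nG J V1 hi]
  apply Matrix.inv_eq_right_inv
  exact nMat_mul_neg J.V V1 (J.S i hi).1 1

/-- the product of the `n_{p_i}(1)` along a word -/
noncomputable def nP (D : ChevalleyDatum) (F : Type*) [Field F] (l : List ℕ) : GL D.Idx F :=
  (l.map (nG D F)).prod

theorem nP_nil : nP D F [] = 1 := by simp [nP]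

theorem nP_cons (i : ℕ) (l : List ℕ) : nP D F (i :: l) = nG D F i * nP D F l := by simp [nP]

theorem nP_append (l l' : List ℕ) : nP D F (l ++ l') = nP D F l * nP D F l' := by simp [nP]

/-! ### Signed permutations of the root subgroups -/

/-- `M x_s(t) = x_{σ(s)}(± t) M`, compatibly with negation of roots -/
def RootPermN (D : ChevalleyDatum) (F : Type*) [Field F] (M : Matrix D.Idx D.Idx F) (σ : ℕ → ℕ) :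
    Prop :=
  ∀ s < D.nroots, σ s < D.nroots ∧ σ (D.neg s) = D.neg (σ s) ∧
    ∃ ε : F, (ε = 1 ∨ ε = -1) ∧ (∀ t : F, M * xN D F s t = xN D F (σ s) (ε * t) * M) ∧
      (∀ t : F, M * xN D F (D.neg s) t = xN D F (D.neg (σ s)) (ε * t) * M)

theorem RootPermN.rootPerm {M : Matrix D.Idx D.Idx F} {σ : ℕ → ℕ} (h : RootPermN D F M σ) :
    RootPerm D F M σ := by
  intro s hs
  obtain ⟨h1, _, ε, hε, h2, _⟩ := h s hs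
  have hu : ∃ u : Fˣ, (u : F) = ε := by
    rcases hε with rfl | rfl
    · exact ⟨1, rfl⟩
    · exact ⟨-1, by simp⟩
  obtain ⟨u, hu⟩ := hu
  exact ⟨h1, u, fun t => by rw [hu]; exact h2 t⟩

theorem rootPermN_one : RootPermN D F 1 id :=
  fun s hs => ⟨hs, rfl, 1, Or.inl rfl, fun t => by simp, fun t => by simp⟩

theorem RootPermN.mul {M N : Matrix D.Idx D.Idx F} {σ τ : ℕ → ℕ} (hM : RootPermN D F M σ)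
    (hN : RootPermN D F N τ) : RootPermN D F (M * N) (σ ∘ τ) := by
  intro s hs
  obtain ⟨h1, hn1, ε1, hε1, e1, e1'⟩ := hN s hs
  obtain ⟨h2, hn2, ε2, hε2, e2, e2'⟩ := hM (τ s) h1
  refine ⟨h2, ?_, ε2 * ε1, ?_, fun t => ?_, fun t => ?_⟩
  · show σ (τ (D.neg s)) = D.neg (σ (τ s))
    rw [hn1, hn2]
  · rcases hε1 with rfl | rfl <;> rcases hε2 with rfl | rfl <;> simp
  · calc M * N * xN D F s t = M * (N * xN D F s t) := Matrix.mul_assoc _ _ _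
      _ = M * xN D F (τ s) (ε1 * t) * N := by rw [e1, Matrix.mul_assoc]
      _ = xN D F (σ (τ s)) (ε2 * (ε1 * t)) * M * N := by rw [e2]
      _ = xN D F ((σ ∘ τ) s) (ε2 * ε1 * t) * (M * N) := by
        rw [Matrix.mul_assoc, ← mul_assoc ε2 ε1 t]; rfl
  · calc M * N * xN D F (D.neg s) t = M * (N * xN D F (D.neg s) t) := Matrix.mul_assoc _ _ _
      _ = M * xN D F (D.neg (τ s)) (ε1 * t) * N := by rw [e1', Matrix.mul_assoc]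
      _ = xN D F (D.neg (σ (τ s))) (ε2 * (ε1 * t)) * M * N := by rw [e2']
      _ = xN D F (D.neg ((σ ∘ τ) s)) (ε2 * ε1 * t) * (M * N) := by
        rw [Matrix.mul_assoc, ← mul_assoc ε2 ε1 t]; rfl

theorem rootPermN_nMat (J : ValidJ D) (V1 : Valid1 D) (hN : checkNS D = true) {i : ℕ}
    (hi : i < D.rank) : RootPermN D F (D.nMat F (D.simple i) 1) (D.reflectRoot i) := by
  rw [nMat_one_eq]
  intro s hs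
  obtain ⟨_, _, h3⟩ := nS_props J hN hi
  obtain ⟨hlt, hpm, _, hrel, hneg⟩ := h3 s hs
  have hns := J.V.neg_lt hs
  obtain ⟨_, hpm', _, _, _⟩ := h3 _ hns
  have heta : etaF D i (D.neg s) = etaF D i s := by
    rcases hpm with h | h <;> rcases hpm' with h' | h' <;> rw [h, h'] at hrel ⊢ <;> omega
  refine ⟨hlt, hneg, ((etaF D i s : ℤ) : F), ?_, fun t => nS_conj J V1 hN hi hs t, fun t => ?_⟩
  · rcases hpm with h | h <;> rw [h] <;> simp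
  · have := nS_conj J V1 hN hi hns (R := F) t
    rw [hneg, heta] at this
    exact this

theorem rootPermN_nP (J : ValidJ D) (V1 : Valid1 D) (hN : checkNS D = true) (l : List ℕ)
    (hl : ∀ i ∈ l, i < D.rank) :
    RootPermN D F ((nP D F l : GL D.Idx F) : Matrix D.Idx D.Idx F) (reflWord D l) := by
  induction l with
  | nil =>
    rw [nP_nil]
    intro s hs
    exact rootPermN_one s hs
  | cons i l ih =>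
    have hi := hl i List.mem_cons_self
    have hP := ih (fun j hj => hl j (List.mem_cons_of_mem _ hj))
    rw [nP_cons, Units.val_mul, coe_nG J V1 hi]
    intro s hs
    exact ((rootPermN_nMat J V1 hN hi).mul hP) s hs

/-- conjugating `n_s(c)` -/
theorem RootPermN.conj_nMat (V : Valid0 D) {M : Matrix D.Idx D.Idx F} {σ : ℕ → ℕ}
    (h : RootPermN D F M σ) {s : ℕ} (hs : s < D.nroots) :
    ∃ ε : F, (ε = 1 ∨ ε = -1) ∧ ∀ c : F, M * D.nMat F s c = D.nMat F (σ s) (ε * c) * M := by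
  obtain ⟨_, _, ε, hε, e1, e2⟩ := h s hs
  refine ⟨ε, hε, fun c => ?_⟩
  have hne : D.neg s ≠ s := by
    rw [V.neg_eq s hs]
    have := V.even
    omega
  let φ : ℕ × F → ℕ × F := fun p => if p.1 = s then (σ s, ε * p.2) else (D.neg (σ s), ε * p.2)
  have hconj : ∀ p ∈ D.nWord s c, M * xN D F p.1 p.2 = xN D F (φ p).1 (φ p).2 * M := by
    intro p hp
    simp only [ChevalleyDatum.nWord, List.mem_cons, List.not_mem_nil, or_false] at hp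
    rcases hp with rfl | rfl | rfl
    · simp only [φ, if_true]; exact e1 c
    · simp only [φ, if_neg hne]; exact e2 _
    · simp only [φ, if_true]; exact e1 c
  rw [nMat_eq_wN, nMat_eq_wN, conj_word φ _ hconj]
  congr 2
  simp only [ChevalleyDatum.nWord, List.map_cons, List.map_nil, φ, if_true, if_neg hne]
  rcases hε with rfl | rfl <;> simp [inv_neg]

/-! ### The subgroup generated by the `n_{p_i}(1)` -/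

/-- the subgroup generated by the `n_{p_i}(1)`, `p_i` fundamental -/
def N0 (D : ChevalleyDatum) (F : Type*) [Field F] : Subgroup (GL D.Idx F) :=
  Subgroup.closure {g | ∃ i < D.rank, g = nG D F i}

theorem nG_mem_N0 {i : ℕ} (hi : i < D.rank) : nG D F i ∈ N0 D F :=
  Subgroup.subset_closure ⟨i, hi, rfl⟩

theorem nP_mem_N0 {l : List ℕ} (hl : ∀ i ∈ l, i < D.rank) : nP D F l ∈ N0 D F := by
  induction l with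
  | nil => rw [nP_nil]; exact one_mem _
  | cons i l ih =>
    rw [nP_cons]
    exact mul_mem (nG_mem_N0 (hl i List.mem_cons_self))
      (ih (fun j hj => hl j (List.mem_cons_of_mem _ hj)))

theorem nG_mem_normalizer (J : ValidJ D) (V1 : Valid1 D) (H : ValidH D) (hI : checkInv D = true)
    {i : ℕ} (hi : i < D.rank) :
    nG D F i ∈ Subgroup.normalizer (D.diagonalSubgroup F : Set (GL D.Idx F)) := by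
  have hnm : ((nG D F i : GL D.Idx F) : Matrix D.Idx D.Idx F) = D.nMat F (D.simple i) 1 :=
    coe_nG J V1 hi
  unfold ChevalleyDatum.diagonalSubgroup
  apply mem_normalizer_closure_of
  · rintro g ⟨r, t, hr, ht, hg⟩
    apply Subgroup.subset_closure
    refine ⟨D.reflectRoot i r, t, ((nS_props J H.nS hi).2.2 r hr).1, ht, ?_⟩
    have key := nS_hMat J V1 H hi hr ht (F := F)
    rw [← hnm] at key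
    rw [Units.val_mul, Units.val_mul, hg, key, Matrix.mul_assoc, ← Units.val_mul, mul_inv_cancel,
      Units.val_one, Matrix.mul_one]
  · rintro g ⟨r, t, hr, ht, hg⟩
    apply Subgroup.subset_closure
    have hr' := ((nS_props J H.nS hi).2.2 r hr).1
    refine ⟨D.reflectRoot i r, t, hr', ht, ?_⟩
    have key := nS_hMat J V1 H hi hr' ht (F := F)
    rw [refl_invol J hI hi hr, ← hnm] at key
    rw [Units.val_mul, Units.val_mul, hg, Matrix.mul_assoc, ← key, ← Matrix.mul_assoc,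
      ← Units.val_mul, inv_mul_cancel, Units.val_one, Matrix.one_mul]

theorem N0_le_normalizer (J : ValidJ D) (V1 : Valid1 D) (H : ValidH D) (hI : checkInv D = true) :
    N0 D F ≤ Subgroup.normalizer (D.diagonalSubgroup F : Set (GL D.Idx F)) := by
  unfold N0
  rw [Subgroup.closure_le]
  rintro g ⟨i, hi, rfl⟩
  exact nG_mem_normalizer J V1 H hI hi

theorem hMat_mem_diagonal {r : ℕ} (hr : r < D.nroots) {t : F} (ht : t ≠ 0) (g : GL D.Idx F)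
    (hg : (g : Matrix D.Idx D.Idx F) = D.hMat F r t) : g ∈ D.diagonalSubgroup F :=
  Subgroup.subset_closure ⟨r, t, hr, ht, hg⟩

/-- every element of `N0` is a torus element times a product of the `n_{p_i}(1)` -/
theorem N0_form (J : ValidJ D) (V1 : Valid1 D) (H : ValidH D) (hI : checkInv D = true)
    {m : GL D.Idx F} (hm : m ∈ N0 D F) :
    ∃ h ∈ D.diagonalSubgroup F, ∃ l : List ℕ, (∀ i ∈ l, i < D.rank) ∧ m = h * nP D F l := by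
  unfold N0 at hm
  induction hm using Subgroup.closure_induction'' with
  | mem g hg =>
    obtain ⟨i, hi, rfl⟩ := hg
    refine ⟨1, one_mem _, [i], ?_, ?_⟩
    · intro j hj
      rw [List.mem_singleton] at hj
      rw [hj]; exact hi
    · rw [nP_cons, nP_nil, one_mul, mul_one]
  | inv_mem g hg =>
    obtain ⟨i, hi, rfl⟩ := hg
    have hp := (J.S i hi).1
    have hm1 : (-1 : F) ≠ 0 := neg_ne_zero.mpr one_ne_zero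
    refine ⟨(nG D F i)⁻¹ * (nG D F i)⁻¹, ?_, [i], ?_, ?_⟩
    · apply hMat_mem_diagonal hp hm1
      rw [Units.val_mul, coe_nG_inv J V1 hi, hMat_eq_nMat_mul]
    · intro j hj
      rw [List.mem_singleton] at hj
      rw [hj]; exact hi
    · rw [nP_cons, nP_nil, mul_one, mul_assoc, inv_mul_cancel, mul_one]
  | one => exact ⟨1, one_mem _, [], by simp, by rw [nP_nil, mul_one]⟩
  | mul g g' _ _ hg hg' =>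
    obtain ⟨h, hh, l, hl, rfl⟩ := hg
    obtain ⟨h', hh', l', hl', rfl⟩ := hg'
    have hnorm := N0_le_normalizer J V1 H hI (nP_mem_N0 (F := F) hl)
    have hc : nP D F l * h' * (nP D F l)⁻¹ ∈ D.diagonalSubgroup F :=
      (Subgroup.mem_normalizer_iff.mp hnorm h').mp hh'
    refine ⟨h * (nP D F l * h' * (nP D F l)⁻¹), mul_mem hh hc, l ++ l', ?_, ?_⟩
    · intro j hj
      rw [List.mem_append] at hj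
      rcases hj with hj | hj
      · exact hl j hj
      · exact hl' j hj
    · rw [nP_append]
      group

end

/-! ### Every root is conjugate to a fundamental root -/

section Reach

open Cfsg.Lie

/-- for every root `r` a word `l` and a fundamental root `p_j` with `w_l(p_j) = r` -/
def reachC (D : ChevalleyDatum) : List (List ℕ × ℕ) :=
  if D.nroots = 12 then [([1, 0, 1], 1), ([0, 1], 1), ([0, 1, 0], 0), ([1, 0], 0), ([0], 0), ([1], 1), ([], 1), ([], 0), ([1], 0), ([0, 1], 0), ([0], 1), ([1, 0], 1)]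
  else if D.nroots = 8 then [([0, 1], 1), ([1, 0], 0), ([0], 0), ([1], 1), ([], 1), ([], 0), ([1], 0), ([0], 1)]
  else if D.nroots = 24 then [([1, 3, 2, 1, 0], 0), ([3, 2, 1, 0], 0), ([2, 1, 0], 0), ([3, 1, 0], 0), ([1, 0], 0), ([0], 0), ([3, 2, 1], 1), ([2, 1], 1), ([3, 1], 1), ([1], 1), ([2], 2), ([3], 3), ([], 3), ([], 2), ([], 1), ([3], 1), ([2], 1), ([3, 2], 1), ([], 0), ([1], 0), ([3, 1], 0), ([2, 1], 0), ([3, 2, 1], 0), ([1, 3, 2, 1], 0)]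
  else if D.nroots = 48 then [([3, 2, 1, 2, 3, 0, 1, 2], 2), ([2, 1, 2, 3, 0, 1, 2], 2), ([1, 2, 3, 0, 1, 2], 2), ([0, 1, 2, 3, 1, 2, 1, 0], 0), ([2, 3, 0, 1, 2], 2), ([3, 0, 1, 2], 2), ([0, 1, 2], 2), ([1, 2, 3, 1, 2, 1, 0], 0), ([2, 3, 1, 2, 1, 0], 0), ([3, 1, 2, 1, 0], 0), ([1, 2, 1, 0], 0), ([3, 2, 1, 0], 0), ([2, 1, 0], 0), ([1, 0], 0), ([0], 0), ([2, 3, 1, 2], 2), ([3, 1, 2], 2), ([1, 2], 2), ([3, 2, 1], 1), ([2, 1], 1), ([1], 1), ([3, 2], 2), ([2], 2), ([3], 3), ([], 3), ([], 2), ([3], 2), ([], 1), ([2], 1), ([3, 2], 1), ([1], 2), ([3, 1], 2), ([2, 3, 1], 2), ([], 0), ([1], 0), ([2, 1], 0), ([3, 2, 1], 0), ([1, 2, 1], 0), ([3, 1, 2, 1], 0), ([2, 3, 1, 2, 1], 0), ([1, 2, 3, 1, 2, 1], 0), ([0, 1], 2), ([3, 0, 1], 2), ([2, 3, 0, 1], 2), ([0, 1, 2, 3, 1, 2, 1], 0), ([1, 2, 3, 0,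 1], 2), ([2, 1, 2, 3, 0, 1], 2), ([3, 2, 1, 2, 3, 0, 1], 2)]
  else if D.nroots = 72 then [([1, 3, 4, 5, 2, 3, 4, 1, 3, 2, 0], 0), ([3, 4, 5, 2, 3, 4, 1, 3, 2, 0], 0), ([4, 5, 2, 3, 4, 1, 3, 2, 0], 0), ([5, 2, 3, 4, 1, 3, 2, 0], 0), ([2, 3, 4, 1, 3, 2, 0], 0), ([4, 5, 3, 4, 1, 3, 2, 0], 0), ([5, 3, 4, 1, 3, 2, 0], 0), ([3, 4, 1, 3, 2, 0], 0), ([5, 4, 1, 3, 2, 0], 0), ([4, 1, 3, 2, 0], 0), ([1, 3, 2, 0], 0), ([5, 4, 3, 2, 0], 0), ([4, 3, 2, 0], 0), ([3, 2, 0], 0), ([2, 0], 0), ([0], 0), ([4, 5, 3, 4, 2, 3, 1], 1), ([5, 3, 4, 2, 3, 1], 1), ([3, 4, 2, 3, 1], 1), ([5, 4, 2, 3, 1], 1), ([4, 2, 3, 1], 1), ([2, 3, 1], 1), ([5, 4, 3, 1], 1), ([4, 3, 1], 1), ([3, 1], 1), ([1], 1), ([5, 4, 3, 2], 2), ([4, 3, 2], 2), ([3, 2], 2), ([2], 2), ([5, 4, 3], 3), ([4, 3], 3), ([3], 3), ([5, 4], 4),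 ([4], 4), ([5], 5), ([], 5), ([], 4), ([5], 4), ([], 3), ([4], 3), ([5, 4], 3), ([], 2), ([3], 2), ([4, 3], 2), ([5, 4, 3], 2), ([], 1), ([3], 1), ([4, 3], 1), ([5, 4, 3], 1), ([2, 3], 1), ([4, 2, 3], 1), ([5, 4, 2, 3], 1), ([3, 4, 2, 3], 1), ([5, 3, 4, 2, 3], 1), ([4, 5, 3, 4, 2, 3], 1), ([], 0), ([2], 0), ([3, 2], 0), ([4, 3, 2], 0), ([5, 4, 3, 2], 0), ([1, 3, 2], 0), ([4, 1, 3, 2], 0), ([5, 4, 1, 3, 2], 0), ([3, 4, 1, 3, 2], 0), ([5, 3, 4, 1, 3, 2], 0), ([4, 5, 3, 4, 1, 3, 2], 0), ([2, 3, 4, 1, 3, 2], 0), ([5, 2, 3, 4, 1, 3, 2], 0), ([4, 5, 2, 3, 4, 1, 3, 2], 0), ([3, 4, 5, 2, 3, 4, 1, 3, 2], 0), ([1, 3, 4, 5, 2, 3, 4, 1, 3, 2], 0)]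
  else if D.nroots = 126 then [([0, 2, 3, 4, 5, 6, 1, 3, 4, 5, 2, 3, 4, 1, 3, 2, 0], 0), ([2, 3, 4, 5, 6, 1, 3, 4, 5, 2, 3, 4, 1, 3, 2, 0], 0), ([3, 4, 5, 6, 1, 3, 4, 5, 2, 3, 4, 1, 3, 2, 0], 0), ([4, 5, 6, 1, 3, 4, 5, 2, 3, 4, 1, 3, 2, 0], 0), ([5, 6, 1, 3, 4, 5, 2, 3, 4, 1, 3, 2, 0], 0), ([6, 1, 3, 4, 5, 2, 3, 4, 1, 3, 2, 0], 0), ([1, 3, 4, 5, 2, 3, 4, 1, 3, 2, 0], 0), ([4, 5, 6, 3, 4, 5, 2, 3, 4, 1, 3, 2, 0], 0), ([5, 6, 3, 4, 5, 2, 3, 4, 1, 3, 2, 0], 0), ([6, 3, 4, 5, 2, 3, 4, 1, 3, 2, 0], 0), ([3, 4, 5, 2, 3, 4, 1, 3, 2, 0], 0), ([5, 6, 4, 5, 2, 3, 4, 1, 3, 2, 0], 0), ([6, 4, 5, 2, 3, 4, 1, 3, 2, 0], 0), ([4, 5, 2, 3, 4, 1, 3, 2, 0], 0), ([6, 5, 2, 3, 4, 1, 3, 2, 0], 0), ([5, 2, 3, 4, 1, 3, 2, 0], 0), ([2, 3, 4, 1, 3, 2, 0], 0), ([5, 6, 4, 5, 3, 4, 1, 3, 2, 0], 0), ([6, 4, 5,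 3, 4, 1, 3, 2, 0], 0), ([4, 5, 3, 4, 1, 3, 2, 0], 0), ([6, 5, 3, 4, 1, 3, 2, 0], 0), ([5, 3, 4, 1, 3, 2, 0], 0), ([3, 4, 1, 3, 2, 0], 0), ([6, 5, 4, 1, 3, 2, 0], 0), ([5, 4, 1, 3, 2, 0], 0), ([4, 1, 3, 2, 0], 0), ([1, 3, 2, 0], 0), ([6, 5, 4, 3, 2, 0], 0), ([5, 4, 3, 2, 0], 0), ([4, 3, 2, 0], 0), ([3, 2, 0], 0), ([2, 0], 0), ([0], 0), ([5, 6, 4, 5, 3, 4, 2, 3, 1], 1), ([6, 4, 5, 3, 4, 2, 3, 1], 1), ([4, 5, 3, 4, 2, 3, 1], 1), ([6, 5, 3, 4, 2, 3, 1], 1), ([5, 3, 4, 2, 3, 1], 1), ([3, 4, 2, 3, 1], 1), ([6, 5, 4, 2, 3, 1], 1), ([5, 4, 2, 3, 1], 1), ([4, 2, 3, 1], 1), ([2, 3, 1], 1), ([6, 5, 4, 3, 1], 1), ([5, 4, 3, 1], 1), ([4, 3, 1], 1), ([3, 1], 1), ([1], 1), ([6, 5, 4, 3, 2], 2), ([5, 4, 3, 2], 2), ([4, 3, 2], 2), ([3, 2], 2), ([2], 2), ([6, 5, 4, 3], 3), ([5, 4, 3], 3), ([4, 3],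 3), ([3], 3), ([6, 5, 4], 4), ([5, 4], 4), ([4], 4), ([6, 5], 5), ([5], 5), ([6], 6), ([], 6), ([], 5), ([6], 5), ([], 4), ([5], 4), ([6, 5], 4), ([], 3), ([4], 3), ([5, 4], 3), ([6, 5, 4], 3), ([], 2), ([3], 2), ([4, 3], 2), ([5, 4, 3], 2), ([6, 5, 4, 3], 2), ([], 1), ([3], 1), ([4, 3], 1), ([5, 4, 3], 1), ([6, 5, 4, 3], 1), ([2, 3], 1), ([4, 2, 3], 1), ([5, 4, 2, 3], 1), ([6, 5, 4, 2, 3], 1), ([3, 4, 2, 3], 1), ([5, 3, 4, 2, 3], 1), ([6, 5, 3, 4, 2, 3], 1), ([4, 5, 3, 4, 2, 3], 1), ([6, 4, 5, 3, 4, 2, 3], 1), ([5, 6, 4, 5, 3, 4, 2, 3], 1), ([], 0), ([2], 0), ([3, 2], 0), ([4, 3, 2], 0), ([5, 4, 3, 2], 0), ([6, 5, 4, 3, 2], 0), ([1, 3, 2], 0), ([4, 1, 3, 2], 0), ([5, 4, 1, 3, 2], 0), ([6, 5, 4, 1, 3, 2], 0), ([3, 4, 1, 3, 2], 0), ([5, 3, 4, 1, 3, 2], 0), ([6, 5, 3, 4, 1, 3, 2], 0),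 ([4, 5, 3, 4, 1, 3, 2], 0), ([6, 4, 5, 3, 4, 1, 3, 2], 0), ([5, 6, 4, 5, 3, 4, 1, 3, 2], 0), ([2, 3, 4, 1, 3, 2], 0), ([5, 2, 3, 4, 1, 3, 2], 0), ([6, 5, 2, 3, 4, 1, 3, 2], 0), ([4, 5, 2, 3, 4, 1, 3, 2], 0), ([6, 4, 5, 2, 3, 4, 1, 3, 2], 0), ([5, 6, 4, 5, 2, 3, 4, 1, 3, 2], 0), ([3, 4, 5, 2, 3, 4, 1, 3, 2], 0), ([6, 3, 4, 5, 2, 3, 4, 1, 3, 2], 0), ([5, 6, 3, 4, 5, 2, 3, 4, 1, 3, 2], 0), ([4, 5, 6, 3, 4, 5, 2, 3, 4, 1, 3, 2], 0), ([1, 3, 4, 5, 2, 3, 4, 1, 3, 2], 0), ([6, 1, 3, 4, 5, 2, 3, 4, 1, 3, 2], 0), ([5, 6, 1, 3, 4, 5, 2, 3, 4, 1, 3, 2], 0), ([4, 5, 6, 1, 3, 4, 5, 2, 3, 4, 1, 3, 2], 0), ([3, 4, 5, 6, 1, 3, 4, 5, 2, 3, 4, 1, 3, 2], 0), ([2, 3, 4, 5, 6, 1, 3, 4, 5, 2, 3, 4, 1, 3, 2], 0), ([0, 2, 3, 4, 5, 6, 1, 3, 4, 5, 2, 3, 4, 1, 3, 2], 0)]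
  else if D.nroots = 240 then [([7, 6, 5, 4, 3, 2, 1, 3, 4, 5, 6, 7, 0, 2, 3, 4, 5, 6, 1, 3, 4, 5, 2, 3, 4, 1, 3, 2, 0], 0), ([6, 5, 4, 3, 2, 1, 3, 4, 5, 6, 7, 0, 2, 3, 4, 5, 6, 1, 3, 4, 5, 2, 3, 4, 1, 3, 2, 0], 0), ([5, 4, 3, 2, 1, 3, 4, 5, 6, 7, 0, 2, 3, 4, 5, 6, 1, 3, 4, 5, 2, 3, 4, 1, 3, 2, 0], 0), ([4, 3, 2, 1, 3, 4, 5, 6, 7, 0, 2, 3, 4, 5, 6, 1, 3, 4, 5, 2, 3, 4, 1, 3, 2, 0], 0), ([3, 2, 1, 3, 4, 5, 6, 7, 0, 2, 3, 4, 5, 6, 1, 3, 4, 5, 2, 3, 4, 1, 3, 2, 0], 0), ([2, 1, 3, 4, 5, 6, 7, 0, 2, 3, 4, 5, 6, 1, 3, 4, 5, 2, 3, 4, 1, 3, 2, 0], 0), ([1, 3, 4, 5, 6, 7, 0, 2, 3, 4, 5, 6, 1, 3, 4, 5, 2, 3, 4, 1, 3, 2, 0], 0), ([2, 3, 4, 5, 6, 7, 0, 2, 3, 4, 5, 6, 1, 3, 4, 5, 2, 3, 4, 1, 3, 2, 0], 0), ([3, 4, 5, 6, 7, 0, 2, 3, 4, 5, 6, 1, 3, 4, 5, 2, 3, 4, 1, 3, 2, 0], 0), ([4, 5, 6, 7, 0,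 2, 3, 4, 5, 6, 1, 3, 4, 5, 2, 3, 4, 1, 3, 2, 0], 0), ([5, 6, 7, 0, 2, 3, 4, 5, 6, 1, 3, 4, 5, 2, 3, 4, 1, 3, 2, 0], 0), ([6, 7, 0, 2, 3, 4, 5, 6, 1, 3, 4, 5, 2, 3, 4, 1, 3, 2, 0], 0), ([7, 0, 2, 3, 4, 5, 6, 1, 3, 4, 5, 2, 3, 4, 1, 3, 2, 0], 0), ([0, 2, 3, 4, 5, 6, 1, 3, 4, 5, 2, 3, 4, 1, 3, 2, 0], 0), ([1, 3, 4, 5, 6, 7, 2, 3, 4, 5, 6, 1, 3, 4, 5, 2, 3, 4, 1, 3, 2, 0], 0), ([3, 4, 5, 6, 7, 2, 3, 4, 5, 6, 1, 3, 4, 5, 2, 3, 4, 1, 3, 2, 0], 0), ([4, 5, 6, 7, 2, 3, 4, 5, 6, 1, 3, 4, 5, 2, 3, 4, 1, 3, 2, 0], 0), ([5, 6, 7, 2, 3, 4, 5, 6, 1, 3, 4, 5, 2, 3, 4, 1, 3, 2, 0], 0), ([6, 7, 2, 3, 4, 5, 6, 1, 3, 4, 5, 2, 3, 4, 1, 3, 2, 0], 0), ([7, 2, 3, 4, 5, 6, 1, 3, 4, 5, 2, 3, 4, 1, 3, 2, 0], 0), ([2, 3, 4, 5, 6, 1, 3, 4, 5, 2, 3, 4, 1, 3, 2, 0], 0), ([4, 5, 6, 7, 3, 4, 5, 6, 1, 3, 4, 5, 2,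 3, 4, 1, 3, 2, 0], 0), ([5, 6, 7, 3, 4, 5, 6, 1, 3, 4, 5, 2, 3, 4, 1, 3, 2, 0], 0), ([6, 7, 3, 4, 5, 6, 1, 3, 4, 5, 2, 3, 4, 1, 3, 2, 0], 0), ([7, 3, 4, 5, 6, 1, 3, 4, 5, 2, 3, 4, 1, 3, 2, 0], 0), ([3, 4, 5, 6, 1, 3, 4, 5, 2, 3, 4, 1, 3, 2, 0], 0), ([5, 6, 7, 4, 5, 6, 1, 3, 4, 5, 2, 3, 4, 1, 3, 2, 0], 0), ([6, 7, 4, 5, 6, 1, 3, 4, 5, 2, 3, 4, 1, 3, 2, 0], 0), ([7, 4, 5, 6, 1, 3, 4, 5, 2, 3, 4, 1, 3, 2, 0], 0), ([4, 5, 6, 1, 3, 4, 5, 2, 3, 4, 1, 3, 2, 0], 0), ([6, 7, 5, 6, 1, 3, 4, 5, 2, 3, 4, 1, 3, 2, 0], 0), ([7, 5, 6, 1, 3, 4, 5, 2, 3, 4, 1, 3, 2, 0], 0), ([5, 6, 1, 3, 4, 5, 2, 3, 4, 1, 3, 2, 0], 0), ([7, 6, 1, 3, 4, 5, 2, 3, 4, 1, 3, 2, 0], 0), ([6, 1, 3, 4, 5, 2, 3, 4, 1, 3, 2, 0], 0), ([1, 3, 4, 5, 2, 3, 4, 1, 3, 2, 0], 0), ([5, 6, 7, 4, 5, 6, 3, 4, 5, 2, 3, 4, 1, 3, 2, 0], 0),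 ([6, 7, 4, 5, 6, 3, 4, 5, 2, 3, 4, 1, 3, 2, 0], 0), ([7, 4, 5, 6, 3, 4, 5, 2, 3, 4, 1, 3, 2, 0], 0), ([4, 5, 6, 3, 4, 5, 2, 3, 4, 1, 3, 2, 0], 0), ([6, 7, 5, 6, 3, 4, 5, 2, 3, 4, 1, 3, 2, 0], 0), ([7, 5, 6, 3, 4, 5, 2, 3, 4, 1, 3, 2, 0], 0), ([5, 6, 3, 4, 5, 2, 3, 4, 1, 3, 2, 0], 0), ([7, 6, 3, 4, 5, 2, 3, 4, 1, 3, 2, 0], 0), ([6, 3, 4, 5, 2, 3, 4, 1, 3, 2, 0], 0), ([3, 4, 5, 2, 3, 4, 1, 3, 2, 0], 0), ([6, 7, 5, 6, 4, 5, 2, 3, 4, 1, 3, 2, 0], 0), ([7, 5, 6, 4, 5, 2, 3, 4, 1, 3, 2, 0], 0), ([5, 6, 4, 5, 2, 3, 4, 1, 3, 2, 0], 0), ([7, 6, 4, 5, 2, 3, 4, 1, 3, 2, 0], 0), ([6, 4, 5, 2, 3, 4, 1, 3, 2, 0], 0), ([4, 5, 2, 3, 4, 1, 3, 2, 0], 0), ([7, 6, 5, 2, 3, 4, 1, 3, 2, 0], 0), ([6, 5, 2, 3, 4, 1, 3, 2, 0], 0), ([5, 2, 3, 4, 1, 3, 2, 0], 0), ([2, 3, 4, 1, 3, 2, 0], 0), ([6, 7, 5, 6, 4,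 5, 3, 4, 1, 3, 2, 0], 0), ([7, 5, 6, 4, 5, 3, 4, 1, 3, 2, 0], 0), ([5, 6, 4, 5, 3, 4, 1, 3, 2, 0], 0), ([7, 6, 4, 5, 3, 4, 1, 3, 2, 0], 0), ([6, 4, 5, 3, 4, 1, 3, 2, 0], 0), ([4, 5, 3, 4, 1, 3, 2, 0], 0), ([7, 6, 5, 3, 4, 1, 3, 2, 0], 0), ([6, 5, 3, 4, 1, 3, 2, 0], 0), ([5, 3, 4, 1, 3, 2, 0], 0), ([3, 4, 1, 3, 2, 0], 0), ([7, 6, 5, 4, 1, 3, 2, 0], 0), ([6, 5, 4, 1, 3, 2, 0], 0), ([5, 4, 1, 3, 2, 0], 0), ([4, 1, 3, 2, 0], 0), ([1, 3, 2, 0], 0), ([7, 6, 5, 4, 3, 2, 0], 0), ([6, 5, 4, 3, 2, 0], 0), ([5, 4, 3, 2, 0], 0), ([4, 3, 2, 0], 0), ([3, 2, 0], 0), ([2, 0], 0), ([0], 0), ([6, 7, 5, 6, 4, 5, 3, 4, 2, 3, 1], 1), ([7, 5, 6, 4, 5, 3, 4, 2, 3, 1], 1), ([5, 6, 4, 5, 3, 4, 2, 3, 1], 1), ([7, 6, 4, 5, 3, 4, 2, 3, 1], 1), ([6, 4, 5, 3, 4, 2, 3, 1], 1), ([4, 5, 3, 4, 2, 3, 1], 1), ([7, 6,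 5, 3, 4, 2, 3, 1], 1), ([6, 5, 3, 4, 2, 3, 1], 1), ([5, 3, 4, 2, 3, 1], 1), ([3, 4, 2, 3, 1], 1), ([7, 6, 5, 4, 2, 3, 1], 1), ([6, 5, 4, 2, 3, 1], 1), ([5, 4, 2, 3, 1], 1), ([4, 2, 3, 1], 1), ([2, 3, 1], 1), ([7, 6, 5, 4, 3, 1], 1), ([6, 5, 4, 3, 1], 1), ([5, 4, 3, 1], 1), ([4, 3, 1], 1), ([3, 1], 1), ([1], 1), ([7, 6, 5, 4, 3, 2], 2), ([6, 5, 4, 3, 2], 2), ([5, 4, 3, 2], 2), ([4, 3, 2], 2), ([3, 2], 2), ([2], 2), ([7, 6, 5, 4, 3], 3), ([6, 5, 4, 3], 3), ([5, 4, 3], 3), ([4, 3], 3), ([3], 3), ([7, 6, 5, 4], 4), ([6, 5, 4], 4), ([5, 4], 4), ([4], 4), ([7, 6, 5], 5), ([6, 5], 5), ([5], 5), ([7, 6], 6), ([6], 6), ([7], 7), ([], 7), ([], 6), ([7], 6), ([], 5), ([6], 5), ([7, 6], 5), ([], 4), ([5], 4), ([6, 5], 4), ([7, 6, 5], 4), ([], 3), ([4], 3), ([5, 4], 3), ([6, 5, 4], 3), ([7, 6,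 5, 4], 3), ([], 2), ([3], 2), ([4, 3], 2), ([5, 4, 3], 2), ([6, 5, 4, 3], 2), ([7, 6, 5, 4, 3], 2), ([], 1), ([3], 1), ([4, 3], 1), ([5, 4, 3], 1), ([6, 5, 4, 3], 1), ([7, 6, 5, 4, 3], 1), ([2, 3], 1), ([4, 2, 3], 1), ([5, 4, 2, 3], 1), ([6, 5, 4, 2, 3], 1), ([7, 6, 5, 4, 2, 3], 1), ([3, 4, 2, 3], 1), ([5, 3, 4, 2, 3], 1), ([6, 5, 3, 4, 2, 3], 1), ([7, 6, 5, 3, 4, 2, 3], 1), ([4, 5, 3, 4, 2, 3], 1), ([6, 4, 5, 3, 4, 2, 3], 1), ([7, 6, 4, 5, 3, 4, 2, 3], 1), ([5, 6, 4, 5, 3, 4, 2, 3], 1), ([7, 5, 6, 4, 5, 3, 4, 2, 3], 1), ([6, 7, 5, 6, 4, 5, 3, 4, 2, 3], 1), ([], 0), ([2], 0), ([3, 2], 0), ([4, 3, 2], 0), ([5, 4, 3, 2], 0), ([6, 5, 4, 3, 2], 0), ([7, 6, 5, 4, 3, 2], 0), ([1, 3, 2], 0), ([4, 1, 3, 2], 0), ([5, 4, 1, 3, 2], 0), ([6, 5, 4, 1, 3, 2], 0), ([7, 6, 5, 4, 1, 3, 2], 0), ([3,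 4, 1, 3, 2], 0), ([5, 3, 4, 1, 3, 2], 0), ([6, 5, 3, 4, 1, 3, 2], 0), ([7, 6, 5, 3, 4, 1, 3, 2], 0), ([4, 5, 3, 4, 1, 3, 2], 0), ([6, 4, 5, 3, 4, 1, 3, 2], 0), ([7, 6, 4, 5, 3, 4, 1, 3, 2], 0), ([5, 6, 4, 5, 3, 4, 1, 3, 2], 0), ([7, 5, 6, 4, 5, 3, 4, 1, 3, 2], 0), ([6, 7, 5, 6, 4, 5, 3, 4, 1, 3, 2], 0), ([2, 3, 4, 1, 3, 2], 0), ([5, 2, 3, 4, 1, 3, 2], 0), ([6, 5, 2, 3, 4, 1, 3, 2], 0), ([7, 6, 5, 2, 3, 4, 1, 3, 2], 0), ([4, 5, 2, 3, 4, 1, 3, 2], 0), ([6, 4, 5, 2, 3, 4, 1, 3, 2], 0), ([7, 6, 4, 5, 2, 3, 4, 1, 3, 2], 0), ([5, 6, 4, 5, 2, 3, 4, 1, 3, 2], 0), ([7, 5, 6, 4, 5, 2, 3, 4, 1, 3, 2], 0), ([6, 7, 5, 6, 4, 5, 2, 3, 4, 1, 3, 2], 0), ([3, 4, 5, 2, 3, 4, 1, 3, 2], 0), ([6, 3, 4, 5, 2, 3, 4, 1, 3, 2], 0), ([7, 6, 3, 4, 5, 2, 3, 4, 1, 3, 2], 0), ([5, 6, 3, 4, 5, 2, 3, 4, 1, 3, 2],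 0), ([7, 5, 6, 3, 4, 5, 2, 3, 4, 1, 3, 2], 0), ([6, 7, 5, 6, 3, 4, 5, 2, 3, 4, 1, 3, 2], 0), ([4, 5, 6, 3, 4, 5, 2, 3, 4, 1, 3, 2], 0), ([7, 4, 5, 6, 3, 4, 5, 2, 3, 4, 1, 3, 2], 0), ([6, 7, 4, 5, 6, 3, 4, 5, 2, 3, 4, 1, 3, 2], 0), ([5, 6, 7, 4, 5, 6, 3, 4, 5, 2, 3, 4, 1, 3, 2], 0), ([1, 3, 4, 5, 2, 3, 4, 1, 3, 2], 0), ([6, 1, 3, 4, 5, 2, 3, 4, 1, 3, 2], 0), ([7, 6, 1, 3, 4, 5, 2, 3, 4, 1, 3, 2], 0), ([5, 6, 1, 3, 4, 5, 2, 3, 4, 1, 3, 2], 0), ([7, 5, 6, 1, 3, 4, 5, 2, 3, 4, 1, 3, 2], 0), ([6, 7, 5, 6, 1, 3, 4, 5, 2, 3, 4, 1, 3, 2], 0), ([4, 5, 6, 1, 3, 4, 5, 2, 3, 4, 1, 3, 2], 0), ([7, 4, 5, 6, 1, 3, 4, 5, 2, 3, 4, 1, 3, 2], 0), ([6, 7, 4, 5, 6, 1, 3, 4, 5, 2, 3, 4, 1, 3, 2], 0), ([5, 6, 7, 4, 5, 6, 1, 3, 4, 5, 2, 3, 4, 1, 3, 2], 0), ([3, 4, 5, 6, 1, 3, 4, 5, 2, 3, 4, 1, 3, 2], 0),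 ([7, 3, 4, 5, 6, 1, 3, 4, 5, 2, 3, 4, 1, 3, 2], 0), ([6, 7, 3, 4, 5, 6, 1, 3, 4, 5, 2, 3, 4, 1, 3, 2], 0), ([5, 6, 7, 3, 4, 5, 6, 1, 3, 4, 5, 2, 3, 4, 1, 3, 2], 0), ([4, 5, 6, 7, 3, 4, 5, 6, 1, 3, 4, 5, 2, 3, 4, 1, 3, 2], 0), ([2, 3, 4, 5, 6, 1, 3, 4, 5, 2, 3, 4, 1, 3, 2], 0), ([7, 2, 3, 4, 5, 6, 1, 3, 4, 5, 2, 3, 4, 1, 3, 2], 0), ([6, 7, 2, 3, 4, 5, 6, 1, 3, 4, 5, 2, 3, 4, 1, 3, 2], 0), ([5, 6, 7, 2, 3, 4, 5, 6, 1, 3, 4, 5, 2, 3, 4, 1, 3, 2], 0), ([4, 5, 6, 7, 2, 3, 4, 5, 6, 1, 3, 4, 5, 2, 3, 4, 1, 3, 2], 0), ([3, 4, 5, 6, 7, 2, 3, 4, 5, 6, 1, 3, 4, 5, 2, 3, 4, 1, 3, 2], 0), ([1, 3, 4, 5, 6, 7, 2, 3, 4, 5, 6, 1, 3, 4, 5, 2, 3, 4, 1, 3, 2], 0), ([0, 2, 3, 4, 5, 6, 1, 3, 4, 5, 2, 3, 4, 1, 3, 2], 0), ([7, 0, 2, 3, 4, 5, 6, 1, 3, 4, 5, 2, 3, 4, 1, 3, 2], 0), ([6, 7, 0, 2, 3, 4, 5, 6,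 1, 3, 4, 5, 2, 3, 4, 1, 3, 2], 0), ([5, 6, 7, 0, 2, 3, 4, 5, 6, 1, 3, 4, 5, 2, 3, 4, 1, 3, 2], 0), ([4, 5, 6, 7, 0, 2, 3, 4, 5, 6, 1, 3, 4, 5, 2, 3, 4, 1, 3, 2], 0), ([3, 4, 5, 6, 7, 0, 2, 3, 4, 5, 6, 1, 3, 4, 5, 2, 3, 4, 1, 3, 2], 0), ([2, 3, 4, 5, 6, 7, 0, 2, 3, 4, 5, 6, 1, 3, 4, 5, 2, 3, 4, 1, 3, 2], 0), ([1, 3, 4, 5, 6, 7, 0, 2, 3, 4, 5, 6, 1, 3, 4, 5, 2, 3, 4, 1, 3, 2], 0), ([2, 1, 3, 4, 5, 6, 7, 0, 2, 3, 4, 5, 6, 1, 3, 4, 5, 2, 3, 4, 1, 3, 2], 0), ([3, 2, 1, 3, 4, 5, 6, 7, 0, 2, 3, 4, 5, 6, 1, 3, 4, 5, 2, 3, 4, 1, 3, 2], 0), ([4, 3, 2, 1, 3, 4, 5, 6, 7, 0, 2, 3, 4, 5, 6, 1, 3, 4, 5, 2, 3, 4, 1, 3, 2], 0), ([5, 4, 3, 2, 1, 3, 4, 5, 6, 7, 0, 2, 3, 4, 5, 6, 1, 3, 4, 5, 2, 3, 4, 1, 3, 2], 0), ([6, 5, 4, 3, 2, 1, 3, 4, 5, 6, 7, 0, 2, 3, 4, 5, 6, 1, 3, 4, 5, 2, 3, 4, 1, 3, 2], 0),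 ([7, 6, 5, 4, 3, 2, 1, 3, 4, 5, 6, 7, 0, 2, 3, 4, 5, 6, 1, 3, 4, 5, 2, 3, 4, 1, 3, 2], 0)]
  else []


noncomputable def checkReach (D : ChevalleyDatum) (cert : List (List ℕ × ℕ)) : Bool :=
  Nat.beq cert.length D.nroots &&
  allIdxF (fun r (c : List ℕ × ℕ) => allF (fun i => Nat.blt i D.rank) c.1 && Nat.blt c.2 D.rank &&
    Nat.beq (reflWordF D c.1 (D.simple c.2)) r) cert 0

theorem reach_of_check {D : ChevalleyDatum} (J : ValidJ D) (hN : checkNS D = true)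
    {cert : List (List ℕ × ℕ)} (h : checkReach D cert = true) {r : ℕ} (hr : r < D.nroots) :
    ∃ (l : List ℕ) (j : ℕ), (∀ i ∈ l, i < D.rank) ∧ j < D.rank ∧
      reflWord D l (D.simple j) = r := by
  simp only [checkReach, Bool.and_eq_true, Nat.beq_eq, allIdxF_eq_true, zero_add, allF_eq_true,
    Nat.blt_eq] at h
  obtain ⟨hlen, hall⟩ := h
  have hr' : r < cert.length := by rw [hlen]; exact hr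
  obtain ⟨⟨hl, hj⟩, he⟩ := hall r cert[r] (List.getElem?_eq_getElem hr')
  refine ⟨cert[r].1, cert[r].2, hl, hj, ?_⟩
  rw [← reflWordF_eq J hN hl (J.S _ hj).1]
  exact he

theorem checkReach_G2 : checkReach chevG2 (reachC chevG2) = true := by decide +kernel
theorem checkReach_B2 : checkReach chevB2 (reachC chevB2) = true := by decide +kernel
theorem checkReach_D4 : checkReach chevD4 (reachC chevD4) = true := by decide +kernel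
theorem checkReach_F4 : checkReach chevF4 (reachC chevF4) = true := by decide +kernel
theorem checkReach_E6 : checkReach chevE6 (reachC chevE6) = true := by decide +kernel
theorem checkReach_E7 : checkReach chevE7 (reachC chevE7) = true := by decide +kernel
set_option maxRecDepth 100000 in
theorem checkReach_E8 : checkReach chevE8 (reachC chevE8) = true := by decide +kernel

theorem reach_of_mem {D : ChevalleyDatum}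
    (hD : D ∈ [chevG2, chevB2, chevD4, chevF4, chevE6, chevE7, chevE8]) {r : ℕ}
    (hr : r < D.nroots) :
    ∃ (l : List ℕ) (j : ℕ), (∀ i ∈ l, i < D.rank) ∧ j < D.rank ∧
      reflWord D l (D.simple j) = r := by
  have J := validJ_of_mem hD
  have H := validH_of_mem hD
  have hc : checkReach D (reachC D) = true := by
    simp only [List.mem_cons, List.not_mem_nil, or_false] at hD
    rcases hD with rfl | rfl | rfl | rfl | rfl | rfl | rfl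
    · exact checkReach_G2
    · exact checkReach_B2
    · exact checkReach_D4
    · exact checkReach_F4
    · exact checkReach_E6
    · exact checkReach_E7
    · exact checkReach_E8
  exact reach_of_check J H.nS hc hr

end Reach

end Cfsg.Agent.Lib.Helper8.Chev
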