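import Cfsg.Agent.Lib.Helper8.ChevOrdH1
import Cfsg.Agent.Lib.Helper8.ChevN1

set_option autoImplicit false

/-! The diagonal subgroup `H` as the image of a torus `(Fˣ)^l`, and its order. -/

namespace Cfsg.Agent.Lib.Helper8.Chev

open Cfsg.Lie Matrix

section

variable {D : ChevalleyDatum} {F : Type*} [Field F]

/-- the invertible diagonal matrix of a family of units -/
noncomputable def diagU (D : ChevalleyDatum) {F : Type*} [Field F] (f : ℕ → Fˣ) : GL D.Idx F :=
  ⟨diagC D (fun s => ((f s : Fˣ) : F)), diagC D (fun s => (((f s)⁻¹ : Fˣ) : F)),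
    by
      rw [diagC_mul_diagC]
      have : (fun s => ((f s : Fˣ) : F) * (((f s)⁻¹ : Fˣ) : F)) = fun _ => (1 : F) := by
        funext s
        simp
      rw [this, diagC_one],
    by
      rw [diagC_mul_diagC]
      have : (fun s => (((f s)⁻¹ : Fˣ) : F) * ((f s : Fˣ) : F)) = fun _ => (1 : F) := by
        funext s
        simp
      rw [this, diagC_one]⟩

theorem coe_diagU (f : ℕ → Fˣ) :
    ((diagU D f : GL D.Idx F) : Matrix D.Idx D.Idx F) = diagC D (fun s => ((f s : Fˣ) : F)) := rfl

theorem diagU_mul (f g : ℕ → Fˣ) : diagU D (fun s => f s * g s) = diagU D f * diagU D g := by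
  apply Units.ext
  rw [Units.val_mul, coe_diagU, coe_diagU, coe_diagU, diagC_mul_diagC]
  simp only [Units.val_mul]

theorem diagU_one : diagU D (fun _ => (1 : Fˣ)) = 1 := by
  apply Units.ext
  rw [coe_diagU, Units.val_one]
  simp only [Units.val_one]
  exact diagC_one

theorem diagU_eq_one_iff (f : ℕ → Fˣ) : diagU D f = 1 ↔ ∀ s < D.nroots, f s = 1 := by
  constructor
  · intro h s hs
    have h1 : diagC D (fun s => ((f s : Fˣ) : F)) = 1 := by
      rw [← coe_diagU, h, Units.val_one]
    have h2 := congrFun (congrFun h1 (Sum.inr ⟨s, hs⟩)) (Sum.inr ⟨s, hs⟩)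
    unfold diagC at h2
    rw [Matrix.diagonal_apply_eq, Matrix.one_apply_eq] at h2
    simp only [Sum.elim_inr] at h2
    exact Units.ext (h2.trans Units.val_one.symm)
  · intro h
    apply Units.ext
    rw [coe_diagU, Units.val_one, ← diagC_one (D := D)]
    apply diagC_congr
    intro s hs
    rw [h s hs, Units.val_one]

/-- the character of the root lattice given by a point of the torus -/
def chiT (D : ChevalleyDatum) {F : Type*} [Field F] (c : Fin D.rank → Fˣ) (s : ℕ) : Fˣ :=
  ∏ i : Fin D.rank, c i ^ D.cartan i.val s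

/-- the parametrisation `(Fˣ)^l → H`, `c ↦ ∏ h_{p_i}(c_i)` -/
noncomputable def torMap (D : ChevalleyDatum) (F : Type*) [Field F] :
    (Fin D.rank → Fˣ) →* GL D.Idx F where
  toFun c := diagU D (chiT D c)
  map_one' := by
    have : chiT D (1 : Fin D.rank → Fˣ) = fun _ => (1 : Fˣ) := by
      funext s
      simp [chiT]
    rw [this, diagU_one]
  map_mul' c c' := by
    have : chiT D (c * c') = fun s => chiT D c s * chiT D c' s := by
      funext s
      simp only [chiT, Pi.mul_apply, mul_zpow, Finset.prod_mul_distrib]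
    rw [this, diagU_mul]

theorem torMap_apply (c : Fin D.rank → Fˣ) : torMap D F c = diagU D (chiT D c) := rfl

theorem chiT_mulSingle (i : Fin D.rank) (t : Fˣ) (s : ℕ) :
    chiT D (Pi.mulSingle i t) s = t ^ D.cartan i.val s := by
  unfold chiT
  rw [Finset.prod_eq_single i]
  · rw [Pi.mulSingle_eq_same]
  · intro j _ hji
    rw [Pi.mulSingle_eq_of_ne hji, _root_.one_zpow]
  · intro h
    exact absurd (Finset.mem_univ i) h

theorem torMap_mulSingle (J : ValidJ D) (H : ValidH D) (i : Fin D.rank) (t : Fˣ) :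
    ((torMap D F (Pi.mulSingle i t) : GL D.Idx F) : Matrix D.Idx D.Idx F) =
      D.hMat F (D.simple i.val) ((t : Fˣ) : F) := by
  rw [hMat_eq_wN, hWord_unit, hS_eq J H.hS i.isLt, torMap_apply, coe_diagU]
  apply diagC_congr
  intro s _
  rw [chiT_mulSingle]

theorem torMap_mem (J : ValidJ D) (H : ValidH D) (c : Fin D.rank → Fˣ) :
    torMap D F c ∈ D.diagonalSubgroup F := by
  have hc : c = ∏ i, Pi.mulSingle i (c i) := (Finset.univ_prod_mulSingle c).symm
  have hmem : c ∈ (D.diagonalSubgroup F).comap (torMap D F) := by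
    rw [hc]
    apply Subgroup.prod_mem
    intro i _
    rw [Subgroup.mem_comap]
    exact hMat_mem_diagonal (J.S i.val i.isLt).1 (Units.ne_zero (c i)) _
      (torMap_mulSingle J H i (c i))
  exact hmem

theorem diagonal_eq_range (J : ValidJ D) (V1 : Valid1 D) (H : ValidH D) :
    D.diagonalSubgroup F = (torMap D F).range := by
  apply le_antisymm
  · intro g hg
    obtain ⟨c, hc⟩ := diagonal_eq_hProd J V1 H hg
    refine ⟨fun i => c i.val, ?_⟩
    apply Units.ext
    rw [hc, wN_hProdW J H.hS c D.rank le_rfl, torMap_apply, coe_diagU]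
    apply diagC_congr
    intro s _
    congr 1
    exact Fin.prod_univ_eq_prod_range (fun i => c i ^ D.cartan i s) D.rank
  · rintro _ ⟨c, rfl⟩
    exact torMap_mem J H c

theorem mem_ker_torMap (c : Fin D.rank → Fˣ) :
    c ∈ (torMap D F).ker ↔ ∀ s < D.nroots, chiT D c s = 1 := by
  rw [MonoidHom.mem_ker, torMap_apply]
  exact diagU_eq_one_iff (chiT D c)

/-- the Cartan matrix `(A_{p_i, p_j})` -/
def cartMat (D : ChevalleyDatum) : Matrix (Fin D.rank) (Fin D.rank) ℤ :=
  Matrix.of fun i j => D.cartan i.val (D.simple j.val)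

/-- `m s` are the coefficients of the root `s` on the fundamental roots -/
def RootCoordP (D : ChevalleyDatum) (m : ℕ → ℕ → ℤ) : Prop :=
  ∀ s < D.nroots, ∀ i < D.rank,
    D.cartan i s = ∑ j ∈ Finset.range D.rank, m s j * D.cartan i (D.simple j)

theorem ker_torMap_eq (J : ValidJ D) {m : ℕ → ℕ → ℤ} (hm : RootCoordP D m) :
    (torMap D F).ker = (torHom (G := Fˣ) (cartMat D)).ker := by
  ext c
  rw [mem_ker_torMap, MonoidHom.mem_ker]
  constructor
  · intro h
    funext j
    rw [torHom_apply, Pi.one_apply]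
    exact h _ (J.S j.val j.isLt).1
  · intro h s hs
    have hj : ∀ j : Fin D.rank, ∏ i : Fin D.rank, c i ^ D.cartan i.val (D.simple j.val) = 1 := by
      intro j
      have := congrFun h j
      rw [torHom_apply, Pi.one_apply] at this
      exact this
    unfold chiT
    calc ∏ i : Fin D.rank, c i ^ D.cartan i.val s
        = ∏ i : Fin D.rank, ∏ j : Fin D.rank,
            (c i ^ D.cartan i.val (D.simple j.val)) ^ m s j.val := by
          apply Finset.prod_congr rfl
          intro i _
          rw [hm s hs i.val i.isLt,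
            ← Fin.sum_univ_eq_sum_range (fun j => m s j * D.cartan i.val (D.simple j)) D.rank,
            ← prod_zpow_sum']
          apply Finset.prod_congr rfl
          intro j _
          rw [mul_comm, _root_.zpow_mul]
      _ = ∏ j : Fin D.rank, ∏ i : Fin D.rank,
            (c i ^ D.cartan i.val (D.simple j.val)) ^ m s j.val := Finset.prod_comm
      _ = 1 := by
          apply Finset.prod_eq_one
          intro j _
          rw [Finset.prod_zpow, hj j, _root_.one_zpow]

/-- the order of `H` from a diagonalisation of the Cartan matrix -/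
theorem card_diagonal_mul [Fintype F] (J : ValidJ D) (V1 : Valid1 D) (H : ValidH D)
    {m : ℕ → ℕ → ℤ} (hm : RootCoordP D m)
    {P P' Q Q' : Matrix (Fin D.rank) (Fin D.rank) ℤ} {dd : Fin D.rank → ℕ}
    (hPP' : P * P' = 1) (hP'P : P' * P = 1) (hQQ' : Q * Q' = 1)
    (hS : P * cartMat D * Q = Matrix.diagonal fun j => (dd j : ℤ)) :
    (∏ j, (Fintype.card F - 1).gcd (dd j)) * Nat.card (D.diagonalSubgroup F) =
      (Fintype.card F - 1) ^ D.rank := by
  have hU : Nat.card Fˣ = Fintype.card F - 1 := by
    rw [Nat.card_units, Nat.card_eq_fintype_card]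
  have h1 : (torMap D F).ker.index * Nat.card (torMap D F).ker = Nat.card (Fin D.rank → Fˣ) :=
    Subgroup.index_mul_card _
  have h2 : (torMap D F).ker.index = Nat.card (D.diagonalSubgroup F) := by
    rw [Subgroup.index_ker, diagonal_eq_range J V1 H]
  have h3 : Nat.card (torMap D F).ker = ∏ j, (Nat.card Fˣ).gcd (dd j) := by
    rw [ker_torMap_eq J hm, card_ker_torHom_eq hPP' hP'P hQQ' hS, card_ker_torHom_diagonal]
  have h4 : Nat.card (Fin D.rank → Fˣ) = (Nat.card Fˣ) ^ D.rank := by
    rw [Nat.card_fun, Nat.card_fin]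
  rw [h2, h3, h4, hU] at h1
  rw [mul_comm]
  exact h1

/-- the same with the rank made explicit -/
theorem card_diagonal_mul' [Fintype F] (J : ValidJ D) (V1 : Valid1 D) (H : ValidH D)
    {m : ℕ → ℕ → ℤ} (hm : RootCoordP D m) {l : ℕ} (hl : D.rank = l)
    {P P' Q Q' : Matrix (Fin l) (Fin l) ℤ} {dd : Fin l → ℕ}
    (hPP' : P * P' = 1) (hP'P : P' * P = 1) (hQQ' : Q * Q' = 1)
    (hS : P * (Matrix.of fun i j : Fin l => D.cartan i.val (D.simple j.val)) * Q =
      Matrix.diagonal fun j => (dd j : ℤ)) :
    (∏ j, (Fintype.card F - 1).gcd (dd j)) * Nat.card (D.diagonalSubgroup F) =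
      (Fintype.card F - 1) ^ l := by
  subst hl
  exact card_diagonal_mul J V1 H hm hPP' hP'P hQQ' hS

end


/-! ### kernel-friendly matrix identities -/

/-- entry `(i, j)` of a table of integers -/
noncomputable def entL (off : ℕ) (rows : List (List ℕ)) (i j : ℕ) : ℤ :=
  ((nthF 0 (nthF [] rows i) j : ℕ) : ℤ) - off

/-- the identity matrix on the naturals -/
def idN (i j : ℕ) : ℤ := if i = j then 1 else 0

/-- `A * B = C` on the indices below `l` -/
noncomputable def checkMul (l : ℕ) (A B C : ℕ → ℕ → ℤ) : Bool :=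
  forallLtF (fun i => forallLtF (fun k =>
    decide (sumLtF (fun j => A i j * B j k) l = C i k)) l) l

theorem mul_eq_of_check {l : ℕ} {A B C : ℕ → ℕ → ℤ} (h : checkMul l A B C = true) :
    (Matrix.of fun i j : Fin l => A i.val j.val) * (Matrix.of fun i j : Fin l => B i.val j.val) =
      Matrix.of fun i j : Fin l => C i.val j.val := by
  simp only [checkMul, forallLtF_eq_true, decide_eq_true_eq] at h
  ext i k
  rw [Matrix.mul_apply, Matrix.of_apply, ← h i.val i.isLt k.val k.isLt, sumLtF_eq,
    ← Fin.sum_univ_eq_sum_range (fun j => A i.val j * B j k.val) l]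
  rfl

theorem of_idN (l : ℕ) : (Matrix.of fun i j : Fin l => idN i.val j.val) = 1 := by
  ext i j
  rw [Matrix.of_apply, Matrix.one_apply]
  unfold idN
  simp only [Fin.ext_iff]

section

variable {D : ChevalleyDatum} {F : Type*} [Field F]

/-- the order of `H` from a diagonalisation of the Cartan matrix, kernel-friendly form -/
theorem card_diagonal_mul'' [Fintype F] (J : ValidJ D) (V1 : Valid1 D) (H : ValidH D)
    {m : ℕ → ℕ → ℤ} (hm : RootCoordP D m) {l : ℕ} (hl : D.rank = l)
    (P P' Q Q' R : ℕ → ℕ → ℤ) (dd : ℕ → ℕ)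
    (h1 : checkMul l P P' idN = true) (h2 : checkMul l P' P idN = true)
    (h3 : checkMul l Q Q' idN = true)
    (h4 : checkMul l P (fun i j => D.cartan i (D.simple j)) R = true)
    (h5 : checkMul l R Q (fun i j => if i = j then (dd i : ℤ) else 0) = true) :
    (∏ j ∈ Finset.range l, (Fintype.card F - 1).gcd (dd j)) * Nat.card (D.diagonalSubgroup F) =
      (Fintype.card F - 1) ^ l := by
  rw [← Fin.prod_univ_eq_prod_range (fun j => (Fintype.card F - 1).gcd (dd j)) l]
  refine card_diagonal_mul' J V1 H hm hl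
    (P := Matrix.of fun i j : Fin l => P i.val j.val)
    (P' := Matrix.of fun i j : Fin l => P' i.val j.val)
    (Q := Matrix.of fun i j : Fin l => Q i.val j.val)
    (Q' := Matrix.of fun i j : Fin l => Q' i.val j.val)
    (dd := fun j => dd j.val) ?_ ?_ ?_ ?_
  · rw [mul_eq_of_check h1, of_idN]
  · rw [mul_eq_of_check h2, of_idN]
  · rw [mul_eq_of_check h3, of_idN]
  · rw [mul_eq_of_check h4, mul_eq_of_check h5]
    ext i j
    rw [Matrix.of_apply, Matrix.diagonal_apply]
    simp only [Fin.ext_iff]

end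

/-! ### the root coordinates certificate -/

noncomputable def checkRC (D : ChevalleyDatum) (off : ℕ) (m : List (List ℕ)) : Bool :=
  Nat.beq m.length D.nroots &&
  allIdxF (fun s (row : List ℕ) => forallLtF (fun i =>
    decide (getZ 4 8 (packA D) i s =
      sumLtF (fun j => (((nthF 0 row j : ℕ) : ℤ) - off) * getZ 4 8 (packA D) i (D.simple j))
        D.rank)) D.rank) m 0

theorem rootCoordP_of_check {D : ChevalleyDatum} (J : ValidJ D) {off : ℕ} {m : List (List ℕ)}
    (h : checkRC D off m = true) :
    RootCoordP D (fun s j => (((m.getD s []).getD j 0 : ℕ) : ℤ) - off) := by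
  simp only [checkRC, Bool.and_eq_true, Nat.beq_eq, allIdxF_eq_true, zero_add,
    forallLtF_eq_true, decide_eq_true_eq] at h
  obtain ⟨hlen, hall⟩ := h
  intro s hs i hi
  have hs' : s < m.length := by rw [hlen]; exact hs
  have := hall s m[s] (List.getElem?_eq_getElem hs') i hi
  rw [J.T.cartan_eq i hi s hs, sumLtF_eq] at this
  rw [this]
  apply Finset.sum_congr rfl
  intro j hj
  rw [Finset.mem_range] at hj
  rw [nthF_eq_getD, J.T.cartan_eq i hi _ (J.S j hj).1]
  congr 4
  rw [List.getD_eq_getElem?_getD, List.getElem?_eq_getElem hs']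
  rfl

end Cfsg.Agent.Lib.Helper8.Chev
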