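import Cfsg.Agent.Lib.Helper8.ChevOrd2
import Cfsg.Agent.Lib.Helper8.ChevOrdH2

set_option autoImplicit false

/-! Base change of Chevalley groups along a homomorphism of fields: the entrywise map respects
root elements and the subgroups `U`, `H`, `B`, `N`, `U_w⁻`. -/

namespace Cfsg.Agent.Lib.Helper8.Chev

open Cfsg.Lie Matrix

section

variable {D : ChevalleyDatum} {F F' : Type*} [Field F] [Field F']

/-- the entrywise map of invertible matrices along a ring homomorphism -/
noncomputable def bc (D : ChevalleyDatum) (f : F →+* F') : GL D.Idx F →* GL D.Idx F' :=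
  Matrix.GeneralLinearGroup.map f

theorem coe_bc (f : F →+* F') (g : GL D.Idx F) :
    ((bc D f g : GL D.Idx F') : Matrix D.Idx D.Idx F') = (g : Matrix D.Idx D.Idx F).map f := rfl

theorem bc_injective (f : F →+* F') : Function.Injective (bc D f) := by
  intro g g' h
  apply Units.ext
  have h1 := congrArg (fun x : GL D.Idx F' => (x : Matrix D.Idx D.Idx F')) h
  simp only [coe_bc] at h1
  ext i j
  have h2 := congrFun (congrFun h1 i) j
  simp only [Matrix.map_apply] at h2
  exact f.injective h2

theorem bc_x (f : F →+* F') {g : GL D.Idx F} {r : ℕ} {t : F}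
    (hg : (g : Matrix D.Idx D.Idx F) = D.x F r t) :
    ((bc D f g : GL D.Idx F') : Matrix D.Idx D.Idx F') = D.x F' r (f t) := by
  rw [coe_bc, hg, x_eq_xN, map_xN, x_eq_xN]

theorem bc_mem_group (f : F →+* F') {g : GL D.Idx F} (hg : g ∈ D.group F) :
    bc D f g ∈ D.group F' := by
  have hle : D.group F ≤ (D.group F').comap (bc D f) := by
    unfold ChevalleyDatum.group
    rw [Subgroup.closure_le]
    rintro x ⟨r, t, hx⟩
    rw [SetLike.mem_coe, Subgroup.mem_comap]
    have hx' : (x : Matrix D.Idx D.Idx F) = D.x F r.val t := by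
      rw [hx]; unfold ChevalleyDatum.x; rw [dif_pos r.isLt]
    exact x_mem_group r.isLt (f t) _ (bc_x f hx')
  exact hle hg

theorem bc_mem_pos (f : F →+* F') {g : GL D.Idx F} (hg : g ∈ D.posUnipotent F) :
    bc D f g ∈ D.posUnipotent F' := by
  have hle : D.posUnipotent F ≤ (D.posUnipotent F').comap (bc D f) := by
    unfold ChevalleyDatum.posUnipotent
    rw [Subgroup.closure_le]
    rintro x ⟨r, t, hr, hx⟩
    rw [SetLike.mem_coe, Subgroup.mem_comap]
    exact Subgroup.subset_closure ⟨r, f t, hr, bc_x f hx⟩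
  exact hle hg

theorem bc_mem_unegW (f : F →+* F') (l : List ℕ) {g : GL D.Idx F} (hg : g ∈ UnegW D F l) :
    bc D f g ∈ UnegW D F' l := by
  have hle : UnegW D F l ≤ (UnegW D F' l).comap (bc D f) := by
    unfold UnegW
    rw [Subgroup.closure_le]
    rintro x ⟨r, t, h1, h2, h3, hx⟩
    rw [SetLike.mem_coe, Subgroup.mem_comap]
    exact Subgroup.subset_closure ⟨r, f t, h1, h2, h3, bc_x f hx⟩
  exact hle hg

theorem mapW_nWord (f : F →+* F') (r : ℕ) (t : F) : mapW f (D.nWord r t) = D.nWord r (f t) := by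
  simp [mapW, ChevalleyDatum.nWord, map_neg, map_inv₀]

theorem mapW_hWord (f : F →+* F') (r : ℕ) (t : F) : mapW f (D.hWord r t) = D.hWord r (f t) := by
  unfold ChevalleyDatum.hWord
  have : mapW f (D.nWord r t ++ D.nWord r (-1)) = mapW f (D.nWord r t) ++ mapW f (D.nWord r (-1)) := by
    simp [mapW]
  rw [this, mapW_nWord, mapW_nWord, map_neg, map_one]

theorem bc_mem_diagonal (f : F →+* F') {g : GL D.Idx F} (hg : g ∈ D.diagonalSubgroup F) :
    bc D f g ∈ D.diagonalSubgroup F' := by
  have hle : D.diagonalSubgroup F ≤ (D.diagonalSubgroup F').comap (bc D f) := by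
    unfold ChevalleyDatum.diagonalSubgroup
    rw [Subgroup.closure_le]
    rintro x ⟨r, t, hr, ht, hx⟩
    rw [SetLike.mem_coe, Subgroup.mem_comap]
    refine Subgroup.subset_closure ⟨r, f t, hr, ?_, ?_⟩
    · intro h0
      exact ht (f.injective (h0.trans (map_zero f).symm))
    · rw [coe_bc, hx, hMat_eq_wN, map_wN, mapW_hWord, hMat_eq_wN]
  exact hle hg

theorem bc_mem_borel (f : F →+* F') {g : GL D.Idx F} (hg : g ∈ D.borelSubgroup F) :
    bc D f g ∈ D.borelSubgroup F' := by
  have hle : D.borelSubgroup F ≤ (D.borelSubgroup F').comap (bc D f) := by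
    unfold ChevalleyDatum.borelSubgroup
    rw [sup_le_iff]
    constructor
    · intro x hx
      exact Subgroup.mem_sup_left (bc_mem_pos f hx)
    · intro x hx
      exact Subgroup.mem_sup_right (bc_mem_diagonal f hx)
  exact hle hg

theorem bc_nG (J : ValidJ D) (V1 : Valid1 D) (f : F →+* F') {i : ℕ} (hi : i < D.rank) :
    bc D f (nG D F i) = nG D F' i := by
  apply Units.ext
  rw [coe_bc, coe_nG J V1 hi, coe_nG J V1 hi, nMat_eq_wN, map_wN, mapW_nWord, map_one, nMat_eq_wN]

theorem bc_nP (J : ValidJ D) (V1 : Valid1 D) (f : F →+* F') {l : List ℕ}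
    (hl : ∀ i ∈ l, i < D.rank) : bc D f (nP D F l) = nP D F' l := by
  induction l with
  | nil => rw [nP_nil, nP_nil, map_one]
  | cons i l ih =>
    rw [nP_cons, nP_cons, map_mul, bc_nG J V1 f (hl i List.mem_cons_self),
      ih (fun j hj => hl j (List.mem_cons_of_mem _ hj))]

theorem diagC_map (f : F →+* F') (g : ℕ → F) :
    (diagC D g).map f = diagC D (fun s => f (g s)) := by
  unfold diagC
  ext i j
  rw [Matrix.map_apply, Matrix.diagonal_apply, Matrix.diagonal_apply]
  split_ifs with h
  · cases i <;> simp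
  · exact map_zero f

theorem chiT_map (f : F →+* F') (c : Fin D.rank → Fˣ) (s : ℕ) :
    chiT D (fun i => Units.map (f : F →* F') (c i)) s = Units.map (f : F →* F') (chiT D c s) := by
  unfold chiT
  rw [map_prod]
  apply Finset.prod_congr rfl
  intro i _
  rw [map_zpow]

theorem bc_torMap (f : F →+* F') (c : Fin D.rank → Fˣ) :
    bc D f (torMap D F c) = torMap D F' (fun i => Units.map (f : F →* F') (c i)) := by
  apply Units.ext
  rw [coe_bc, torMap_apply, torMap_apply, coe_diagU, coe_diagU, diagC_map]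
  apply diagC_congr
  intro s _
  rw [chiT_map]
  rfl

theorem bc_comp {F'' : Type*} [Field F''] (f : F →+* F') (f' : F' →+* F'') (g : GL D.Idx F) :
    bc D f' (bc D f g) = bc D (f'.comp f) g := by
  apply Units.ext
  rw [coe_bc, coe_bc, coe_bc]
  ext i j
  simp only [Matrix.map_apply, RingHom.comp_apply]

theorem bc_id (g : GL D.Idx F) : bc D (RingHom.id F) g = g := by
  apply Units.ext
  rw [coe_bc]
  ext i j
  simp only [Matrix.map_apply, RingHom.id_apply]

theorem bc_wordMat (f : F →+* F') {g : GL D.Idx F} {w : List (ℕ × F)}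
    (hg : (g : Matrix D.Idx D.Idx F) = D.wordMat F w) :
    ((bc D f g : GL D.Idx F') : Matrix D.Idx D.Idx F') = D.wordMat F' (mapW f w) := by
  rw [coe_bc, hg, wordMat_eq_wN, map_wN, wordMat_eq_wN]

end

end Cfsg.Agent.Lib.Helper8.Chev
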