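import Mathlib
import Cfsg.Prelude.Def_GeometricClasses
import Cfsg.Agent.Lib.Helper7.AschDefs
import Cfsg.Agent.Lib.Helper11.AschCliffDefs

/-! # S5630 block I4, pieces TENS3a + TENS3b (helper8): swapping the two tensor factors; equal factors give a
tensor-wreath group with `t = 2` -/

set_option autoImplicit false

namespace Cfsg.Agent.Lib.Helper8.S5630I4TENS3

open Matrix Cfsg Cfsg.Geo Cfsg.Agent.Lib.Helper7.Asch Cfsg.Agent.Lib.Helper11.Cliff
open scoped MatrixGroups Kronecker

variable {n : ℕ} {F : Type*} [Field F]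

theorem glReindex_val_apply {α β : Type} [Fintype α] [DecidableEq α] [Fintype β] [DecidableEq β]
    (c : α ≃ β) (g : GL α F) (x y : β) :
    ((glReindex (F := F) c g : GL β F) : Matrix β β F) x y = (g : Matrix α α F) (c.symm x) (c.symm y) := rfl

theorem glReindex_trans_apply {ι α β : Type} [Fintype ι] [DecidableEq ι] [Fintype α] [DecidableEq α]
    [Fintype β] [DecidableEq β] (e : ι ≃ α) (c : α ≃ β) (g : GL α F) :
    glReindex (F := F) (e.trans c).symm (glReindex (F := F) c g) = glReindex (F := F) e.symm g := by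
  apply Units.ext
  ext i j
  rw [glReindex_val_apply, glReindex_val_apply, glReindex_val_apply]
  simp

theorem mem_kron_swap {d s : ℕ} (g : GL (Fin d × Fin s) F) :
    g ∈ kroneckerSubgroup d s F ↔
      glReindex (F := F) (Equiv.prodComm (Fin d) (Fin s)) g ∈ kroneckerSubgroup s d F := by
  constructor
  · rintro ⟨A, B, h⟩
    refine ⟨B, A, ?_⟩
    ext ⟨j, i⟩ ⟨j', i'⟩
    rw [glReindex_val_apply, h]
    simp [Matrix.kroneckerMap_apply, mul_comm]
  · rintro ⟨B, A, h⟩
    refine ⟨A, B, ?_⟩
    ext ⟨i, j⟩ ⟨i', j'⟩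
    have h1 := congrFun (congrFun h (j, i)) (j', i')
    rw [glReindex_val_apply] at h1
    simp only [Equiv.prodComm_symm, Equiv.prodComm_apply, Prod.swap_prod_mk, Matrix.kroneckerMap_apply] at h1
    rw [h1, Matrix.kroneckerMap_apply, mul_comm]

/-- **TENS3a** -/
theorem tensorProductSubgroup_swap {d s : ℕ} (e : Fin n ≃ Fin d × Fin s) (P : GL (Fin n) F) :
    tensorProductSubgroup d s e P = tensorProductSubgroup s d (e.trans (Equiv.prodComm (Fin d) (Fin s))) P := by
  unfold tensorProductSubgroup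
  congr 1
  ext h
  constructor
  · rintro ⟨g, hg, rfl⟩
    refine ⟨glReindex (F := F) (Equiv.prodComm (Fin d) (Fin s)) g, (mem_kron_swap g).1 hg, ?_⟩
    exact glReindex_trans_apply e (Equiv.prodComm (Fin d) (Fin s)) g
  · rintro ⟨g', hg', rfl⟩
    refine ⟨(glReindex (F := F) (Equiv.prodComm (Fin d) (Fin s))).symm g', ?_, ?_⟩
    · rw [SetLike.mem_coe, mem_kron_swap, MulEquiv.apply_symm_apply]
      exact hg'
    · have h1 := glReindex_trans_apply e (Equiv.prodComm (Fin d) (Fin s))
        ((glReindex (F := F) (Equiv.prodComm (Fin d) (Fin s))).symm g')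
      rw [MulEquiv.apply_symm_apply] at h1
      exact h1.symm

/-- **TENS3b** -/
theorem tensorProductSubgroup_le_tensorWreath {m : ℕ} (e : Fin n ≃ Fin m × Fin m) (P : GL (Fin n) F) :
    ∃ e' : Fin n ≃ (Fin 2 → Fin m), tensorProductSubgroup m m e P ≤ tensorWreathSubgroup m 2 e' P := by
  refine ⟨e.trans (finTwoArrowEquiv (Fin m)).symm, ?_⟩
  unfold tensorProductSubgroup tensorWreathSubgroup
  apply Subgroup.map_mono
  rintro _ ⟨g, ⟨A, B, hg⟩, rfl⟩
  refine ⟨glReindex (F := F) (finTwoArrowEquiv (Fin m)).symm g, ?_, ?_⟩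
  · apply Subgroup.subset_closure
    left
    refine ⟨![A, B], ?_⟩
    intro x y
    rw [glReindex_val_apply, hg, Fin.prod_univ_two]
    simp [Matrix.kroneckerMap_apply, finTwoArrowEquiv]
  · exact glReindex_trans_apply e (finTwoArrowEquiv (Fin m)).symm g

end Cfsg.Agent.Lib.Helper8.S5630I4TENS3
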