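import Mathlib
import Cfsg.Agent.Lib.Helper28.TensUDefs
import Cfsg.Agent.Lib.Helper25.S5670FOHS

/-!
# S5670 FO-T2T3 : vocabulary (helper8)

`k₀` isotropic.  `sieg q k₀ y c hk hy hy'` is the element `1 ⊗ ρ_{y,c}` of the Kronecker group, where
`ρ_{y,c} w = w + h(w,k₀) y - h(w,y) k₀ + c h(w,k₀) k₀` (`y ⟂ k₀`); it is unitary iff `c + c^q + h(y,y) = 0`.
`InRad q k₀ g` : `g` fixes `U ⊗ k₀` pointwise and acts trivially on `(U ⊗ k₀^⊥)/(U ⊗ k₀)`.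
-/

set_option autoImplicit false

namespace Cfsg.Agent.Lib.Helper8.S5670T2

open Matrix Module
open Cfsg.Agent.Lib.Helper16.Tens Cfsg.Agent.Lib.Helper10.TensFund Cfsg.Agent.Lib.Helper28.TensU
open scoped Kronecker

variable {F : Type*} [Field F] {a b : ℕ} {q : ℕ}

theorem cj_dot_eq_hs (x y : Fin b → F) : cj q x ⬝ᵥ y = hs q y x := by
  rw [hs_eq_dotProduct, dotProduct_comm]

theorem dot_cj_eq_hs (x y : Fin b → F) : y ⬝ᵥ cj q x = hs q y x := by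
  rw [hs_eq_dotProduct]

theorem sieg_h2 (k₀ y : Fin b → F) (c : F) (hk : hs q k₀ k₀ = 0) (hy' : hs q k₀ y = 0) :
    (c • cj q k₀ - cj q y) ⬝ᵥ k₀ = 0 := by
  rw [sub_dotProduct, smul_dotProduct, cj_dot_eq_hs, cj_dot_eq_hs, hk, hy', smul_zero, sub_zero]

/-- `1 ⊗ ρ_{y,c}`, `ρ_{y,c} w = w + h(w,k₀) y - h(w,y) k₀ + c h(w,k₀) k₀` -/
def sieg (q : ℕ) (k₀ y : Fin b → F) (c : F) (hk : hs q k₀ k₀ = 0) (hy : hs q y k₀ = 0)
    (hy' : hs q k₀ y = 0) : GL (Fin a × Fin b) F :=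
  rootGL y (cj q k₀) (by rw [cj_dot_eq_hs]; exact hy) *
    rootGL k₀ (c • cj q k₀ - cj q y) (sieg_h2 k₀ y c hk hy')

/-- `g` fixes `U ⊗ k₀` pointwise and acts trivially on `(U ⊗ k₀^⊥)/(U ⊗ k₀)` -/
def InRad (q : ℕ) (k₀ : Fin b → F) (g : GL (Fin a × Fin b) F) : Prop :=
  (∀ v ∈ pt (a := a) k₀, act g v = v) ∧ (∀ v ∈ hyp (a := a) (cj q k₀), act g v - v ∈ pt (a := a) k₀)

theorem sieg_mem_kron (k₀ y : Fin b → F) (c : F) (hk : hs q k₀ k₀ = 0) (hy : hs q y k₀ = 0)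
    (hy' : hs q k₀ y = 0) : sieg (a := a) q k₀ y c hk hy hy' ∈ Cfsg.Geo.kroneckerSubgroup a b F :=
  Subgroup.mul_mem _ (rootGL_mem_kron _ _ _) (rootGL_mem_kron _ _ _)

theorem sieg_mem_SL (k₀ y : Fin b → F) (c : F) (hk : hs q k₀ k₀ = 0) (hy : hs q y k₀ = 0)
    (hy' : hs q k₀ y = 0) : sieg (a := a) q k₀ y c hk hy hy' ∈ Cfsg.Geo.specialLinear (Fin a × Fin b) F :=
  Subgroup.mul_mem _ (rootGL_mem_SL _ _ _) (rootGL_mem_SL _ _ _)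

theorem act_sieg (k₀ y : Fin b → F) (c : F) (hk : hs q k₀ k₀ = 0) (hy : hs q y k₀ = 0)
    (hy' : hs q k₀ y = 0) (v : Fin a × Fin b → F) :
    act (sieg q k₀ y c hk hy hy') v =
      v + pur (ctr (c • cj q k₀ - cj q y) v) k₀ + pur (ctr (cj q k₀) v) y := by
  unfold sieg
  rw [act_mul, act_rootGL, act_rootGL, map_add, ctr_pur, dot_cj_eq_hs, hk, zero_smul, add_zero]

end Cfsg.Agent.Lib.Helper8.S5670T2
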