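import Mathlib
import Cfsg.Prelude.Def_GeometricClasses

/-!
# S5637 FO-BRIDGE (helper8, farm-out of helper16): transport of `IsMaximalIn` to the frozen shape.
-/

set_option autoImplicit false

namespace Cfsg.Agent.Lib.Helper8.S5637FOBRIDGE

open Matrix

/-- `IsMaximalIn` transports along a group isomorphism. -/
theorem isMaximalIn_map {G G' : Type*} [Group G] [Group G'] (φ : G ≃* G') (K H : Subgroup G)
    (h : Cfsg.Geo.IsMaximalIn K H) :
    Cfsg.Geo.IsMaximalIn (K.map φ.toMonoidHom) (H.map φ.toMonoidHom) := by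
  refine ⟨(Subgroup.map_lt_map_iff_of_injective φ.injective).2 h.1, ?_⟩
  intro M hHM hMK
  have h1 : H ≤ M.comap φ.toMonoidHom := (Subgroup.map_le_iff_le_comap).1 hHM
  have h2 : M.comap φ.toMonoidHom ≤ K := by
    intro x hx
    have hx' : φ.toMonoidHom x ∈ K.map φ.toMonoidHom := hMK hx
    obtain ⟨y, hy, hyx⟩ := hx'
    have : y = x := φ.injective hyx
    rw [← this]
    exact hy
  have h3 : (M.comap φ.toMonoidHom).map φ.toMonoidHom = M :=
    Subgroup.map_comap_eq_self_of_surjective φ.surjective M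
  rcases h.2 _ h1 h2 with h4 | h4
  · left
    rw [← h3, h4]
  · right
    rw [← h3, h4]

variable {F : Type*} [Field F]

/-- reindexing preserves the determinant -/
theorem det_glReindex {κ ι : Type} [Fintype κ] [DecidableEq κ] [Fintype ι] [DecidableEq ι]
    (e : κ ≃ ι) (x : GL κ F) :
    Matrix.GeneralLinearGroup.det (Cfsg.Geo.glReindex (F := F) e x) =
      Matrix.GeneralLinearGroup.det x := by
  apply Units.ext
  show ((Matrix.reindexAlgEquiv F F e) (x : Matrix κ κ F)).det = (x : Matrix κ κ F).det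
  exact Matrix.det_reindexAlgEquiv F F e _

/-- FO-BRIDGE: transport to the frozen shape (conjugation by `P` and reindexing along `e`). -/
theorem bridge [Fintype F] (n : ℕ) (n₁ n₂ : ℕ) (e : Fin n ≃ Fin n₁ × Fin n₂) (P : GL (Fin n) F)
    (h : Cfsg.Geo.IsMaximalIn (Cfsg.Geo.specialLinear (Fin n₁ × Fin n₂) F)
      (Cfsg.Geo.kroneckerSubgroup n₁ n₂ F ⊓ Cfsg.Geo.specialLinear (Fin n₁ × Fin n₂) F)) :
    Cfsg.Geo.IsMaximalIn (Cfsg.Geo.specialLinear (Fin n) F)
      (Cfsg.Geo.tensorProductSubgroup n₁ n₂ e P ⊓ Cfsg.Geo.specialLinear (Fin n) F) := by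
  let φ : GL (Fin n₁ × Fin n₂) F ≃* GL (Fin n) F :=
    (Cfsg.Geo.glReindex (F := F) e.symm).trans (MulAut.conj P)
  have hφ : ∀ x, φ x = P * Cfsg.Geo.glReindex (F := F) e.symm x * P⁻¹ := fun x => rfl
  have hdet : ∀ x, Matrix.GeneralLinearGroup.det (φ x) = Matrix.GeneralLinearGroup.det x := by
    intro x
    rw [hφ, map_mul, map_mul, map_inv, mul_comm, ← mul_assoc, inv_mul_cancel, one_mul,
      det_glReindex]
  have hSL : (Cfsg.Geo.specialLinear (Fin n₁ × Fin n₂) F).map φ.toMonoidHom =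
      Cfsg.Geo.specialLinear (Fin n) F := by
    ext y
    constructor
    · rintro ⟨x, hx, rfl⟩
      have hx' : Matrix.GeneralLinearGroup.det x = 1 := hx
      show Matrix.GeneralLinearGroup.det (φ x) = 1
      rw [hdet, hx']
    · intro hy
      have hy' : Matrix.GeneralLinearGroup.det y = 1 := hy
      refine ⟨φ.symm y, ?_, φ.apply_symm_apply y⟩
      show Matrix.GeneralLinearGroup.det (φ.symm y) = 1
      rw [← hdet, φ.apply_symm_apply, hy']
  have hT : (Cfsg.Geo.kroneckerSubgroup n₁ n₂ F).map φ.toMonoidHom =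
      Cfsg.Geo.tensorProductSubgroup n₁ n₂ e P := by
    unfold Cfsg.Geo.tensorProductSubgroup
    rw [Subgroup.map_map]
    rfl
  have h1 := isMaximalIn_map φ _ _ h
  rw [Subgroup.map_inf _ _ _ φ.injective, hSL, hT] at h1
  exact h1

end Cfsg.Agent.Lib.Helper8.S5637FOBRIDGE
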