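import Cfsg.Agent.Lib.Helper8.ChevTw30

set_option autoImplicit false
set_option maxRecDepth 100000

/-! The torus `H ∩ ³D₄(q)`. -/

namespace Cfsg.Agent.Lib.Helper8.Chev

open Cfsg.Lie Matrix

variable {K : Type*} [Field K]

/-- the number of units fixed by the Frobenius map -/
theorem card_frob_fix_units [Fintype K] {q m : ℕ} (hq : 1 < q) (hK : Fintype.card K = q ^ m)
    (φ : K →+* K) (hφ : ∀ t, φ t = t ^ q) :
    Nat.card {a : Kˣ // Units.map (φ : K →* K) a = a} = q - 1 := by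
  classical
  have hker := IsCyclic.card_powMonoidHom_ker Kˣ (q - 1)
  have hcu : Nat.card Kˣ = q ^ m - 1 := by
    rw [Nat.card_eq_fintype_card, Fintype.card_units, hK]
  have hgcd : (q ^ m - 1).gcd (q - 1) = q - 1 := by
    apply Nat.gcd_eq_right
    have := Nat.sub_dvd_pow_sub_pow q 1 m
    rwa [one_pow] at this
  rw [hcu, hgcd] at hker
  rw [← hker]
  apply Nat.card_congr
  refine Equiv.subtypeEquivRight (fun a => ?_)
  rw [MonoidHom.mem_ker, powMonoidHom_apply]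
  constructor
  · intro h
    have h1 : (a : K) ^ q = a := by
      have := congrArg (fun u : Kˣ => (u : K)) h
      simpa [hφ] using this
    apply Units.ext
    rw [Units.val_pow_eq_pow_val, Units.val_one]
    have h2 : (a : K) ^ (q - 1) * a = 1 * a := by
      rw [← pow_succ, Nat.sub_add_cancel hq.le, h1, one_mul]
    exact mul_right_cancel₀ (Units.ne_zero a) h2
  · intro h
    apply Units.ext
    rw [Units.coe_map, MonoidHom.coe_coe, hφ]
    have h2 : (a : K) ^ (q - 1) = 1 := by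
      rw [← Units.val_pow_eq_pow_val, h, Units.val_one]
    calc (a : K) ^ q = (a : K) ^ (q - 1) * a := by rw [← pow_succ, Nat.sub_add_cancel hq.le]
      _ = a := by rw [h2, one_mul]

theorem cart_D4 : ∀ i < 4, ∀ j < 4, chevD4.cartan i (chevD4.simple j) =
    (([[2, -1, 0, 0], [-1, 2, -1, -1], [0, -1, 2, 0], [0, -1, 0, 2]] : List (List ℤ)).getD i []).getD j 0 := by
  decide +kernel

theorem unit_sq_fix (φ : K →+* K) {a : Kˣ} (h : a ^ 2 = 1) : Units.map (φ : K →* K) a = a := by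
  have h1 : ((a : K) - 1) * ((a : K) + 1) = 0 := by
    have : (a : K) ^ 2 = 1 := by rw [← Units.val_pow_eq_pow_val, h, Units.val_one]
    ring_nf; rw [this]; ring
  apply Units.ext
  rw [Units.coe_map, MonoidHom.coe_coe]
  rcases mul_eq_zero.mp h1 with h | h
  · rw [sub_eq_zero.mp h, map_one]
  · rw [eq_neg_of_add_eq_zero_left h, map_neg, map_one]

theorem kerfix_D4 (φ : K →+* K) (z : Fin chevD4.rank → Kˣ) (hz : z ∈ (torMap chevD4 K).ker)
    (hfix : sgT gaOk_D4a φ z = z) : z = 1 := by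
  have VJ := validJ_of_mem hDD4
  rw [ker_torMap_eq VJ (rootCoord_of_mem hDD4), MonoidHom.mem_ker] at hz
  have hprod : ∀ (f : Fin chevD4.rank → Kˣ), ∏ i, f i =
      f ⟨0, by decide⟩ * f ⟨1, by decide⟩ * f ⟨2, by decide⟩ * f ⟨3, by decide⟩ :=
    fun f => Fin.prod_univ_four f
  have e0 := congrFun hz ⟨0, by decide⟩
  have e1 := congrFun hz ⟨1, by decide⟩
  have e2 := congrFun hz ⟨2, by decide⟩
  have e3 := congrFun hz ⟨3, by decide⟩
  rw [torHom_apply, hprod] at e0 e1 e2 e3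
  simp only [cartMat, Matrix.of_apply, Pi.one_apply] at e0 e1 e2 e3
  rw [cart_D4 0 (by decide) 0 (by decide), cart_D4 1 (by decide) 0 (by decide),
    cart_D4 2 (by decide) 0 (by decide), cart_D4 3 (by decide) 0 (by decide)] at e0
  rw [cart_D4 0 (by decide) 1 (by decide), cart_D4 1 (by decide) 1 (by decide),
    cart_D4 2 (by decide) 1 (by decide), cart_D4 3 (by decide) 1 (by decide)] at e1
  rw [cart_D4 0 (by decide) 2 (by decide), cart_D4 1 (by decide) 2 (by decide),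
    cart_D4 2 (by decide) 2 (by decide), cart_D4 3 (by decide) 2 (by decide)] at e2
  rw [cart_D4 0 (by decide) 3 (by decide), cart_D4 1 (by decide) 3 (by decide),
    cart_D4 2 (by decide) 3 (by decide), cart_D4 3 (by decide) 3 (by decide)] at e3
  simp only [List.getD_cons_zero, List.getD_cons_succ] at e0 e1 e2 e3
  have f0 := congrFun hfix ⟨0, by decide⟩
  have f2 := congrFun hfix ⟨2, by decide⟩
  have f3 := congrFun hfix ⟨3, by decide⟩
  rw [sgT_apply] at f0 f2 f3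
  have r0 : rhoF gaOk_D4a (⟨0, by decide⟩ : Fin chevD4.rank) = ⟨3, by decide⟩ := rfl
  have r2 : rhoF gaOk_D4a (⟨2, by decide⟩ : Fin chevD4.rank) = ⟨0, by decide⟩ := rfl
  have r3 : rhoF gaOk_D4a (⟨3, by decide⟩ : Fin chevD4.rank) = ⟨2, by decide⟩ := rfl
  rw [r0] at f0
  rw [r2] at f2
  rw [r3] at f3
  have key : z ⟨0, by decide⟩ = 1 ∧ z ⟨1, by decide⟩ = 1 ∧ z ⟨2, by decide⟩ = 1 ∧
      z ⟨3, by decide⟩ = 1 := by
    generalize z ⟨0, by decide⟩ = a at *
    generalize z ⟨1, by decide⟩ = b at *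
    generalize z ⟨2, by decide⟩ = c at *
    generalize z ⟨3, by decide⟩ = d at *
    rw [_root_.zpow_zero, _root_.zpow_zero, mul_one, mul_one, _root_.zpow_neg_one, mul_inv_eq_one] at e0
    rw [_root_.zpow_zero, _root_.zpow_zero, mul_one, one_mul, _root_.zpow_neg_one, inv_mul_eq_one] at e2
    rw [_root_.zpow_zero, _root_.zpow_zero, mul_one, one_mul, _root_.zpow_neg_one, inv_mul_eq_one] at e3
    have hb0 : b = a ^ 2 := by rw [← e0]; norm_cast
    have hb2 : b = c ^ 2 := by rw [e2]; norm_cast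
    have hb3 : b = d ^ 2 := by rw [e3]; norm_cast
    have e1' : b ^ 2 = a * c * d := by
      have : a ^ (-1 : ℤ) * b ^ (2 : ℤ) * c ^ (-1 : ℤ) * d ^ (-1 : ℤ) = (a * c * d)⁻¹ * b ^ 2 := by
        rw [_root_.zpow_neg_one, _root_.zpow_neg_one, _root_.zpow_neg_one, mul_inv, mul_inv]
        have : b ^ (2 : ℤ) = b ^ 2 := by norm_cast
        rw [this]
        simp only [mul_comm, mul_left_comm, mul_assoc]
      rw [this, inv_mul_eq_one] at e1
      exact e1.symm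
    have hb : b = 1 := by
      have h4 : b ^ 3 * b = b ^ 3 * 1 := by
        calc b ^ 3 * b = (b ^ 2) ^ 2 := by rw [← pow_mul, ← pow_succ]
          _ = (a * c * d) ^ 2 := by rw [e1']
          _ = a ^ 2 * c ^ 2 * d ^ 2 := by rw [mul_pow, mul_pow]
          _ = b ^ 3 * 1 := by rw [← hb0, ← hb2, ← hb3, mul_one, pow_succ, pow_two]
      exact mul_left_cancel h4
    have ha2 : a ^ 2 = 1 := by rw [← hb0, hb]
    have hc2 : c ^ 2 = 1 := by rw [← hb2, hb]
    have hca : c = a := by rw [← f2, unit_sq_fix φ ha2]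
    have hda : d = a := by rw [← f3, unit_sq_fix φ hc2, hca]
    have ha : a = 1 := by
      rw [hb, hca, hda, one_pow] at e1'
      calc a = a * a * a * (a ^ 2)⁻¹ := by rw [pow_two]; group
        _ = 1 := by rw [← e1', ha2, inv_one, mul_one]
    exact ⟨ha, hb, by rw [hca, ha], by rw [hda, ha]⟩
  funext i
  obtain ⟨i, hi⟩ := i
  have hi' : i < 4 := hi
  interval_cases i
  · exact key.1
  · exact key.2.1
  · exact key.2.2.1
  · exact key.2.2.2

variable {q : ℕ}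

/-- the parameter tuple of `³D₄` -/
def tupD4 (φ : K →+* K) (a b : Kˣ) : Fin chevD4.rank → Kˣ :=
  tupCls chevD4 φ [1] a * tupCls chevD4 φ [0, 2, 3] b

theorem tupD4_apply (φ : K →+* K) (a b : Kˣ) :
    tupD4 φ a b ⟨0, by decide⟩ = b ∧ tupD4 φ a b ⟨1, by decide⟩ = a ∧
      tupD4 φ a b ⟨2, by decide⟩ = Units.map (φ : K →* K) b ∧
      tupD4 φ a b ⟨3, by decide⟩ = Units.map (φ : K →* K) (Units.map (φ : K →* K) b) := by
  simp [tupD4, tupCls, mulSingleN]

theorem eq_tupD4 (φ : K →+* K) {c : Fin chevD4.rank → Kˣ} (hc : c ∈ P0 gaOk_D4a φ) :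
    c = tupD4 φ (c ⟨1, by decide⟩) (c ⟨0, by decide⟩) ∧
      Units.map (φ : K →* K) (c ⟨1, by decide⟩) = c ⟨1, by decide⟩ := by
  rw [mem_P0] at hc
  have f1 := congrFun hc ⟨1, by decide⟩
  have f2 := congrFun hc ⟨2, by decide⟩
  have f3 := congrFun hc ⟨3, by decide⟩
  rw [sgT_apply] at f1 f2 f3
  have r1 : rhoF gaOk_D4a (⟨1, by decide⟩ : Fin chevD4.rank) = ⟨1, by decide⟩ := rfl
  have r2 : rhoF gaOk_D4a (⟨2, by decide⟩ : Fin chevD4.rank) = ⟨0, by decide⟩ := rfl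
  have r3 : rhoF gaOk_D4a (⟨3, by decide⟩ : Fin chevD4.rank) = ⟨2, by decide⟩ := rfl
  rw [r1] at f1
  rw [r2] at f2
  rw [r3] at f3
  refine ⟨?_, f1⟩
  obtain ⟨t0, t1, t2, t3⟩ := tupD4_apply φ (c ⟨1, by decide⟩) (c ⟨0, by decide⟩)
  funext i
  obtain ⟨i, hi⟩ := i
  have hi' : i < 4 := hi
  interval_cases i
  · exact t0.symm
  · exact t1.symm
  · rw [t2, f2]
  · rw [t3, ← f3, ← f2]

theorem tupD4_mem_P0 (φ : K →+* K) (h3 : ∀ t : K, φ (φ (φ t)) = t) {a b : Kˣ}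
    (ha : Units.map (φ : K →* K) a = a) : tupD4 φ a b ∈ P0 gaOk_D4a φ := by
  rw [mem_P0]
  obtain ⟨t0, t1, t2, t3⟩ := tupD4_apply φ a b
  have r0 : rhoF gaOk_D4a (⟨0, by decide⟩ : Fin chevD4.rank) = ⟨3, by decide⟩ := rfl
  have r1 : rhoF gaOk_D4a (⟨1, by decide⟩ : Fin chevD4.rank) = ⟨1, by decide⟩ := rfl
  have r2 : rhoF gaOk_D4a (⟨2, by decide⟩ : Fin chevD4.rank) = ⟨0, by decide⟩ := rfl
  have r3 : rhoF gaOk_D4a (⟨3, by decide⟩ : Fin chevD4.rank) = ⟨2, by decide⟩ := rfl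
  funext i
  obtain ⟨i, hi⟩ := i
  have hi' : i < 4 := hi
  rw [sgT_apply]
  interval_cases i
  · rw [r0, t3, t0]
    apply Units.ext
    simp only [Units.coe_map, MonoidHom.coe_coe]
    exact h3 _
  · rw [r1, t1, ha]
  · rw [r2, t0, t2]
  · rw [r3, t2, t3]

/-- `|H ∩ ³D₄(q)| = (q - 1)² (q² + q + 1)` -/
theorem twD4_torus [Fintype K] (hq : IsPrimePow q) (hK : Fintype.card K = q ^ 3) :
    Nat.card ↥(chevD4.diagonalSubgroup K ⊓ twistedD4 K q) = (q - 1) ^ 2 * (q ^ 2 + q + 1) := by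
  obtain ⟨φ, hφ, h3, X⟩ := exists_twGrp_D4 hq hK
  have VJ := validJ_of_mem hDD4
  have V1 := valid1_of_mem hDD4
  have H := validH_of_mem hDD4
  have hq1 := hq.one_lt
  have hmem : ∀ (a : {a : Kˣ // Units.map (φ : K →* K) a = a}) (b : Kˣ),
      torMap chevD4 K (tupD4 φ a.1 b) ∈ chevD4.diagonalSubgroup K ⊓ twistedD4 K q := by
    intro a b
    refine Subgroup.mem_inf.mpr ⟨torMap_mem VJ H _, ?_⟩
    unfold tupD4
    rw [map_mul]
    refine mul_mem (X.torMap_tupCls_mem (J := [1]) (by decide) a.1 ?_)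
      (X.torMap_tupCls_mem (J := [0, 2, 3]) (by decide) b ?_)
    · have := congrArg (fun u : Kˣ => (u : K)) a.2
      simpa using this
    · exact h3 _
  let Θ : {a : Kˣ // Units.map (φ : K →* K) a = a} × Kˣ →
      ↥(chevD4.diagonalSubgroup K ⊓ twistedD4 K q) :=
    fun p => ⟨torMap chevD4 K (tupD4 φ p.1.1 p.2), hmem p.1 p.2⟩
  have hinj : Function.Injective Θ := by
    rintro ⟨⟨a, ha⟩, b⟩ ⟨⟨a', ha'⟩, b'⟩ hxy
    have e : torMap chevD4 K (tupD4 φ a b) = torMap chevD4 K (tupD4 φ a' b') :=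
      congrArg Subtype.val hxy
    have hk : tupD4 φ a b * (tupD4 φ a' b')⁻¹ ∈ (torMap chevD4 K).ker := by
      rw [MonoidHom.mem_ker, map_mul, map_inv, e, mul_inv_cancel]
    have hp : tupD4 φ a b * (tupD4 φ a' b')⁻¹ ∈ P0 gaOk_D4a φ :=
      mul_mem (tupD4_mem_P0 φ h3 ha) (inv_mem (tupD4_mem_P0 φ h3 ha'))
    have h1 := kerfix_D4 φ _ hk ((mem_P0 _ _ _).mp hp)
    rw [mul_inv_eq_one] at h1
    obtain ⟨t0, t1, _, _⟩ := tupD4_apply φ a b
    obtain ⟨t0', t1', _, _⟩ := tupD4_apply φ a' b'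
    have ea : a = a' := by rw [← t1, ← t1', h1]
    have eb : b = b' := by rw [← t0, ← t0', h1]
    subst ea eb
    rfl
  have hsurj : Function.Surjective Θ := by
    rintro ⟨g, hg⟩
    obtain ⟨hg1, hg2⟩ := Subgroup.mem_inf.mp hg
    have hfix : sg gaOk_D4a φ g = g := X.le_fix hg2
    obtain ⟨c, hc, e⟩ := fix_torus_of_trivial VJ V1 H gaOk_D4a φ (kerfix_D4 φ) hg1 hfix
    obtain ⟨e1, e2⟩ := eq_tupD4 φ hc
    refine ⟨⟨⟨c ⟨1, by decide⟩, e2⟩, c ⟨0, by decide⟩⟩, ?_⟩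
    apply Subtype.ext
    show torMap chevD4 K (tupD4 φ (c ⟨1, by decide⟩) (c ⟨0, by decide⟩)) = g
    rw [← e1, e]
  rw [← Nat.card_congr (Equiv.ofBijective Θ ⟨hinj, hsurj⟩), Nat.card_prod,
    card_frob_fix_units hq1 hK φ hφ, Nat.card_units, Nat.card_eq_fintype_card, hK]
  obtain ⟨n, rfl⟩ : ∃ n, q = n + 1 := ⟨q - 1, by omega⟩
  have : (n + 1) ^ 3 - 1 = n * ((n + 1) ^ 2 + (n + 1) + 1) := by
    have : (n + 1) ^ 3 = n * ((n + 1) ^ 2 + (n + 1) + 1) + 1 := by ring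
    omega
  rw [this, Nat.add_sub_cancel]
  ring

end Cfsg.Agent.Lib.Helper8.Chev
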