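import Cfsg.Agent.Lib.Helper8.ChevTw50

set_option autoImplicit false
set_option maxRecDepth 100000

/-! The order of `²E₆(q)`. -/

namespace Cfsg.Agent.Lib.Helper8.Chev

open Cfsg.Lie

variable {K : Type*} [Field K] {q : ℕ}

theorem polyTw_E6 (q : ℕ) (hq : 1 ≤ q) :
    q ^ 36 * ((q - 1) ^ 4 * (q + 1) ^ 2) * (∑ k ∈ Finset.range 37, coefE6.getD k 0 * q ^ k) =
      q ^ 36 * (q ^ 2 - 1) * (q ^ 5 + 1) * (q ^ 6 - 1) * (q ^ 8 - 1) * (q ^ 9 + 1) *
        (q ^ 12 - 1) := by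
  have h2 : 1 ≤ q ^ 2 := Nat.one_le_pow _ _ hq
  have h6 : 1 ≤ q ^ 6 := Nat.one_le_pow _ _ hq
  have h8 : 1 ≤ q ^ 8 := Nat.one_le_pow _ _ hq
  have h12 : 1 ≤ q ^ 12 := Nat.one_le_pow _ _ hq
  simp only [Finset.sum_range_succ, Finset.sum_range_zero, coefE6, List.getD_cons_zero,
    List.getD_cons_succ]
  apply Nat.cast_injective (R := ℤ)
  push_cast [Nat.cast_sub hq, Nat.cast_sub h2, Nat.cast_sub h6, Nat.cast_sub h8, Nat.cast_sub h12]
  ring

/-- `gcd(3, q + 1) |²E₆(q)| = q³⁶ (q² - 1)(q⁵ + 1)(q⁶ - 1)(q⁸ - 1)(q⁹ + 1)(q¹² - 1)` -/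
theorem twE6_card [Fintype K] (hq : IsPrimePow q) (hK : Fintype.card K = q ^ 2) :
    Nat.gcd 3 (q + 1) * Nat.card ↥(twistedE6 K q) =
      q ^ 36 * (q ^ 2 - 1) * (q ^ 5 + 1) * (q ^ 6 - 1) * (q ^ 8 - 1) * (q ^ 9 + 1) *
        (q ^ 12 - 1) := by
  obtain ⟨φ, hφ, h2, X⟩ := exists_twGrp_E6 hq hK
  have hcls : ∀ J ∈ clsE6, Nat.card {t : K // φ^[J.length] t = t} = q ^ J.length := by
    intro J hJ
    simp only [clsE6, List.mem_cons, List.not_mem_nil, or_false] at hJ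
    have h1 : Nat.card {t : K // φ^[1] t = t} = q ^ 1 := by
      simp only [Function.iterate_one, hφ, pow_one]
      exact card_frob_fix hq.one_lt hK
    have h2' : Nat.card {t : K // φ^[2] t = t} = q ^ 2 := by
      have : ∀ t : K, φ^[2] t = t := fun t => h2 t
      simp only [this]
      rw [Nat.card_eq_fintype_card, Fintype.card_subtype_true, hK]
    rcases hJ with rfl | rfl | rfl | rfl
    · exact h1
    · exact h1
    · exact h2'
    · exact h2'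
  rw [X.card_eq twReps_E6 q hcls, card_pos_twE6 hq hK, poincare_E6]
  have ht := twE6_torus hq hK
  calc Nat.gcd 3 (q + 1) * (q ^ 36 * Nat.card ↥(chevE6.diagonalSubgroup K ⊓ twistedE6 K q) *
        ∑ k ∈ Finset.range 37, coefE6.getD k 0 * q ^ k)
      = q ^ 36 * (Nat.gcd 3 (q + 1) * Nat.card ↥(chevE6.diagonalSubgroup K ⊓ twistedE6 K q)) *
        ∑ k ∈ Finset.range 37, coefE6.getD k 0 * q ^ k := by ring
    _ = _ := by rw [ht, polyTw_E6 q hq.one_lt.le]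

end Cfsg.Agent.Lib.Helper8.Chev
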