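import Cfsg.Agent.Lib.Helper8.Matsumoto
import Cfsg.Agent.Lib.Helper3.BNPair5

set_option autoImplicit false

namespace Cfsg.Agent.Lib.Helper8.BNCox

open Cfsg.Agent.Lib.Helper3 Cfsg.Agent.Lib.Helper8.Weyl

variable {G : Type*} [Group G] (P : Cfsg.BNPair G)

/-- the subgroup `B ∩ N` of `N` -/
abbrev T : Subgroup P.N := (P.B ⊓ P.N).subgroupOf P.N

variable [hN : (T P).Normal]

/-- the Weyl group -/
abbrev WG : Type _ := P.N ⧸ T P

/-- the distinguished involutions -/
def sW (i : P.S) : WG P := QuotientGroup.mk (⟨(i : G), P.subset i.2⟩ : P.N)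

theorem mem_T_iff (n : P.N) : n ∈ T P ↔ (n : G) ∈ P.B := by
  rw [Subgroup.mem_subgroupOf, Subgroup.mem_inf]
  exact ⟨fun h => h.1, fun h => ⟨h, n.2⟩⟩

theorem mk_eq_mk_iff (a b : P.N) :
    (QuotientGroup.mk a : WG P) = QuotientGroup.mk b ↔ BN.Rel P (a : G) (b : G) := by
  rw [QuotientGroup.eq, mem_T_iff]
  rfl

/-- the length function on the Weyl group -/
noncomputable def ell (w : WG P) : ℕ :=
  Quotient.liftOn' w (fun n : P.N => BN.len P (n : G)) (by
    intro a b hab
    rw [QuotientGroup.leftRel_apply, mem_T_iff] at hab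
    exact BN.len_congr P hab)

theorem ell_mk (n : P.N) : ell P (QuotientGroup.mk n) = BN.len P (n : G) := rfl

theorem ell_one : ell P 1 = 0 := by
  show ell P (QuotientGroup.mk 1) = 0
  rw [ell_mk]
  exact BN.len_one P

theorem sW_mul_self (i : P.S) : sW P i * sW P i = 1 := by
  unfold sW
  rw [← QuotientGroup.mk_mul, QuotientGroup.eq_one_iff, mem_T_iff]
  exact P.sq_mem _ i.2

theorem sW_inv (i : P.S) : (sW P i)⁻¹ = sW P i :=
  inv_eq_of_mul_eq_one_left (sW_mul_self P i)

theorem sW_injective : Function.Injective (sW P) := by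
  intro i j h
  unfold sW at h
  rw [mk_eq_mk_iff] at h
  exact Subtype.ext (P.inj _ i.2 _ j.2 h)

theorem ell_sW_mul (i : P.S) (w : WG P) :
    ell P (sW P i * w) = ell P w + 1 ∨ ell P (sW P i * w) + 1 = ell P w := by
  induction w using QuotientGroup.induction_on with
  | H n =>
    unfold sW
    rw [← QuotientGroup.mk_mul, ell_mk, ell_mk]
    have h1 := BN.len_smul_le P i.2 n.2
    have h2 := BN.len_le_smul P i.2 n.2
    have h3 := BN.len_smul_ne P n.2 i.2
    change BN.len P ((i : G) * (n : G)) = _ ∨ BN.len P ((i : G) * (n : G)) + 1 = _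
    omega

theorem ell_mul_sW (w : WG P) (i : P.S) : ell P (w * sW P i) ≤ ell P w + 1 := by
  induction w using QuotientGroup.induction_on with
  | H n =>
    unfold sW
    rw [← QuotientGroup.mk_mul, ell_mk, ell_mk]
    exact BN.len_mul_s_le P i.2 n.2

/-- the product of a word, as an element of `N` -/
def wordN (l : List P.S) : P.N := ⟨(l.map (fun i : P.S => (i : G))).prod,
  BN.prod_mem_N P (by
    intro x hx
    rw [List.mem_map] at hx
    obtain ⟨i, _, rfl⟩ := hx
    exact i.2)⟩

theorem wp_eq_mk (l : List P.S) : wp (sW P) l = QuotientGroup.mk (wordN P l) := by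
  induction l with
  | nil => rfl
  | cons i l ih =>
    rw [wp_cons, ih]
    unfold sW
    rw [← QuotientGroup.mk_mul]
    congr 1

theorem wp_reverse_inv (l : List P.S) : (wp (sW P) l)⁻¹ = wp (sW P) l.reverse := by
  induction l with
  | nil => simp [wp_nil]
  | cons i l ih =>
    rw [wp_cons, mul_inv_rev, ih, sW_inv, List.reverse_cons, wp_append, wp_singleton]

/-- the (left) exchange condition in the Weyl group -/
theorem exchange_left (i : P.S) (l : List P.S)
    (h : ell P (sW P i * wp (sW P) l) < ell P (wp (sW P) l)) :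
    ∃ l1 j l2, l = l1 ++ j :: l2 ∧ sW P i * wp (sW P) l1 = wp (sW P) l1 * sW P j := by
  have hl : ∀ x ∈ l.map (fun i : P.S => (i : G)), x ∈ P.S := by
    intro x hx
    rw [List.mem_map] at hx
    obtain ⟨k, _, rfl⟩ := hx
    exact k.2
  have h' : BN.len P ((i : G) * (l.map (fun i : P.S => (i : G))).prod) <
      BN.len P (l.map (fun i : P.S => (i : G))).prod := by
    rw [wp_eq_mk] at h
    unfold sW at h
    rw [← QuotientGroup.mk_mul, ell_mk, ell_mk] at h
    exact h
  obtain ⟨L1, x, L2, e, hrel⟩ := BN.exchange P i.2 _ hl h'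
  -- split the list of indices accordingly
  obtain ⟨l1, r, e1, e2, e3⟩ := List.map_eq_append_iff.mp e
  obtain ⟨j, l2, e4, e5, e6⟩ := List.map_eq_cons_iff.mp e3
  refine ⟨l1, j, l2, by rw [e1, e4], ?_⟩
  rw [wp_eq_mk]
  unfold sW
  rw [← QuotientGroup.mk_mul, ← QuotientGroup.mk_mul, mk_eq_mk_iff]
  have hw : ((wordN P l1 : P.N) : G) = L1.prod := by
    show (l1.map (fun i : P.S => (i : G))).prod = L1.prod
    rw [e2]
  show BN.Rel P ((i : G) * ((wordN P l1 : P.N) : G)) (((wordN P l1 : P.N) : G) * (j : G))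
  rw [hw, e5]
  exact hrel

/-- the generators generate -/
theorem closure_range_sW : Subgroup.closure (Set.range (sW P)) = ⊤ := by
  rw [eq_top_iff]
  intro w _
  induction w using QuotientGroup.induction_on with
  | H n =>
    have hn : (n : G) ∈ Subgroup.closure P.S ⊔ (P.B ⊓ P.N) := by
      rw [P.closure_sup]; exact n.2
    -- the preimage of the closure contains `closure S` and `B ∩ N`
    let K : Subgroup G := (Subgroup.closure (Set.range (sW P))).comap
      (QuotientGroup.mk' (T P)) |>.map P.N.subtype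
    have hK : Subgroup.closure P.S ⊔ (P.B ⊓ P.N) ≤ K := by
      apply sup_le
      · rw [Subgroup.closure_le]
        intro s hs
        refine ⟨⟨s, P.subset hs⟩, ?_, rfl⟩
        show QuotientGroup.mk _ ∈ Subgroup.closure (Set.range (sW P))
        exact Subgroup.subset_closure ⟨⟨s, hs⟩, rfl⟩
      · intro t ht
        refine ⟨⟨t, ht.2⟩, ?_, rfl⟩
        show QuotientGroup.mk _ ∈ Subgroup.closure (Set.range (sW P))
        have : (QuotientGroup.mk (⟨t, ht.2⟩ : P.N) : WG P) = 1 := by
          rw [QuotientGroup.eq_one_iff, mem_T_iff]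
          exact ht.1
        rw [this]
        exact one_mem _
    obtain ⟨m, hm, e⟩ := hK hn
    have : m = n := Subtype.ext e
    rw [← this]
    exact hm

/-- the Coxeter matrix of orders -/
noncomputable def coxM : CoxeterMatrix P.S where
  M := Matrix.of fun i j => orderOf (sW P i * sW P j)
  isSymm := by
    ext i j
    show orderOf (sW P j * sW P i) = orderOf (sW P i * sW P j)
    have e : sW P j * sW P i = (MulAut.conj (sW P j)).toMonoidHom (sW P i * sW P j) := by
      show _ = sW P j * (sW P i * sW P j) * (sW P j)⁻¹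
      rw [sW_inv, mul_assoc, mul_assoc, sW_mul_self, mul_one]
    rw [e]
    exact orderOf_injective _ (MulAut.conj (sW P j)).injective _
  diagonal := by
    intro i
    show orderOf (sW P i * sW P i) = 1
    rw [sW_mul_self, orderOf_one]
  off_diagonal := by
    intro i j hij h
    have h1 : orderOf (sW P i * sW P j) = 1 := h
    rw [orderOf_eq_one_iff] at h1
    have : sW P i = sW P j := by
      have := mul_eq_one_iff_eq_inv.mp h1
      rw [this, sW_inv]
    exact hij (sW_injective P this)

theorem exData : ExData (coxM P) (sW P) (fun w => ell P w⁻¹) where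
  sq := sW_mul_self P
  N_one := by
    show ell P (1 : WG P)⁻¹ = 0
    rw [inv_one, ell_one]
  N_right := by
    intro w i
    show ell P (w * sW P i)⁻¹ = ell P w⁻¹ + 1 ∨ ell P (w * sW P i)⁻¹ + 1 = ell P w⁻¹
    rw [mul_inv_rev, sW_inv]
    exact ell_sW_mul P i w⁻¹
  N_left := by
    intro w i
    show ell P (sW P i * w)⁻¹ ≤ ell P w⁻¹ + 1
    rw [mul_inv_rev, sW_inv]
    exact ell_mul_sW P w⁻¹ i
  exch := by
    intro l i _ h
    have h' : ell P (sW P i * wp (sW P) l.reverse) < ell P (wp (sW P) l.reverse) := by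
      have e : (wp (sW P) l * sW P i)⁻¹ = sW P i * wp (sW P) l.reverse := by
        rw [mul_inv_rev, sW_inv, wp_reverse_inv]
      have h2 : ell P (wp (sW P) l * sW P i)⁻¹ + 1 = ell P (wp (sW P) l)⁻¹ := h
      rw [e, wp_reverse_inv] at h2
      omega
    obtain ⟨m1, j, m2, e, hc⟩ := exchange_left P i l.reverse h'
    refine ⟨m2.reverse, j, m1.reverse, ?_, ?_⟩
    · have := congrArg List.reverse e
      rw [List.reverse_reverse] at this
      rw [this, List.reverse_append, List.reverse_cons, List.append_assoc]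
      rfl
    · rw [← wp_reverse_inv]
      have h3 : (wp (sW P) m1)⁻¹ * sW P i = sW P j * (wp (sW P) m1)⁻¹ := by
        have e1 : sW P i = wp (sW P) m1 * sW P j * (wp (sW P) m1)⁻¹ := by
          rw [← hc]; group
        rw [e1]
        group
      rw [mul_assoc, h3, ← mul_assoc, sW_mul_self, one_mul]
  rel := by
    intro i j
    exact pow_orderOf_eq_one _
  ord := by
    intro i j k _ h
    exact orderOf_dvd_of_pow_eq_one h

/-- the Weyl group of a `(B, N)`-pair is a Coxeter system -/
noncomputable def coxSystem : CoxeterSystem (coxM P) (WG P) :=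
  ⟨((exData P).equiv (coxM P).toCoxeterSystem (closure_range_sW P)).symm⟩

theorem coxSystem_simple (i : P.S) : (coxSystem P).simple i = sW P i := by
  show ((exData P).equiv (coxM P).toCoxeterSystem (closure_range_sW P)).symm.symm
    ((coxM P).simple i) = sW P i
  rw [MulEquiv.symm_symm]
  exact (exData P).equiv_simple (coxM P).toCoxeterSystem (closure_range_sW P) i

end Cfsg.Agent.Lib.Helper8.BNCox
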