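import Mathlib

set_option autoImplicit false

namespace Cfsg.Agent.Lib.Helper8.Chev

/-! ### A two-generation trick: a torus element and a twisted Coxeter element -/

section

variable {G : Type*} [Group G] {K : Type*} [Field K]

/-- `h` acts on the one-parameter group `x'` through the scalar `μ`: powers -/
theorem conj_pow_param {x' : K → G} {h : G} {μ : K} (hx' : ∀ t, h * x' t * h⁻¹ = x' (μ * t))
    (j : ℕ) (t : K) : h ^ j * x' t * (h ^ j)⁻¹ = x' (μ ^ j * t) := by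
  induction j generalizing t with
  | zero => simp
  | succ j ih =>
    have e : h ^ (j + 1) * x' t * (h ^ (j + 1))⁻¹ = h ^ j * (h * x' t * h⁻¹) * (h ^ j)⁻¹ := by
      rw [pow_succ]
      group
    rw [e, hx', ih, pow_succ, mul_assoc]

/-- the two-generation trick -/
theorem two_gen_trick {x x' : K → G} {h c : G} {α μ : K}
    (hxa : ∀ t s, x t * x s = x (t + s)) (hxa' : ∀ t s, x' t * x' s = x' (t + s))
    (hc : ∀ t, c * x t * c⁻¹ = x' t)
    (hx : ∀ t, h * x t * h⁻¹ = x (α * t)) (hx' : ∀ t, h * x' t * h⁻¹ = x' (μ * t))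
    (hcomm : h * (c * h * c⁻¹) = (c * h * c⁻¹) * h)
    (hα : α ≠ 1) (hμ : μ ≠ 1) (hgen : ∀ t : K, t ≠ 0 → ∃ j : ℕ, t = μ ^ j)
    (L : Subgroup G) (hh : h ∈ L) (hy : c * x 1 ∈ L) :
    c ∈ L ∧ (∀ t, x t ∈ L) ∧ ∀ t, x' t ∈ L := by
  have hx0 : x 0 = 1 := by
    have := hxa 0 0
    rw [add_zero] at this
    exact mul_eq_left.mp this
  have hx0' : x' 0 = 1 := by
    have := hxa' 0 0
    rw [add_zero] at this
    exact mul_eq_left.mp this
  have hxinv : ∀ t, (x t)⁻¹ = x (-t) := by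
    intro t
    rw [inv_eq_iff_mul_eq_one, hxa, add_neg_cancel, hx0]
  have hxinv' : ∀ t, (x' t)⁻¹ = x' (-t) := by
    intro t
    rw [inv_eq_iff_mul_eq_one, hxa', add_neg_cancel, hx0']
  -- `b₁ = y h y⁻¹ = x'(1 - α) h'`
  have hb1 : (c * x 1) * h * (c * x 1)⁻¹ = x' (1 - α) * (c * h * c⁻¹) := by
    have e1 : x 1 * h * (x 1)⁻¹ = x (1 - α) * h := by
      have := hx (-1)
      rw [mul_neg, mul_one] at this
      have e2 : h * x (-1) = x (-α) * h := by
        rw [← this]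
        group
      rw [hxinv, mul_assoc, e2, ← mul_assoc, hxa, sub_eq_add_neg]
    have e3 : (c * x 1) * h * (c * x 1)⁻¹ = c * (x 1 * h * (x 1)⁻¹) * c⁻¹ := by group
    rw [e3, e1, ← hc (1 - α)]
    group
  have hb1L : x' (1 - α) * (c * h * c⁻¹) ∈ L := by
    rw [← hb1]
    exact mul_mem (mul_mem hy hh) (inv_mem hy)
  -- the commutator with `h`
  have hz : h * (x' (1 - α) * (c * h * c⁻¹)) * h⁻¹ * (x' (1 - α) * (c * h * c⁻¹))⁻¹ =
      x' ((μ - 1) * (1 - α)) := by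
    have e1 : h * (x' (1 - α) * (c * h * c⁻¹)) * h⁻¹ =
        (h * x' (1 - α) * h⁻¹) * (h * (c * h * c⁻¹)) * h⁻¹ := by group
    rw [e1, hx', hcomm, mul_inv_rev, hxinv']
    have e2 : x' (μ * (1 - α)) * (c * h * c⁻¹ * h) * h⁻¹ * ((c * h * c⁻¹)⁻¹ * x' (-(1 - α))) =
        x' (μ * (1 - α)) * x' (-(1 - α)) := by group
    rw [e2, hxa']
    congr 1
    ring
  have ht1 : (μ - 1) * (1 - α) ≠ 0 :=
    mul_ne_zero (sub_ne_zero.mpr hμ) (sub_ne_zero.mpr (Ne.symm hα))
  have hzL : x' ((μ - 1) * (1 - α)) ∈ L := by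
    rw [← hz]
    exact mul_mem (mul_mem (mul_mem hh hb1L) (inv_mem hh)) (inv_mem hb1L)
  have hall' : ∀ t, x' t ∈ L := by
    intro t
    by_cases ht : t = 0
    · rw [ht, hx0']
      exact one_mem _
    · obtain ⟨j, hj⟩ := hgen (t / ((μ - 1) * (1 - α))) (div_ne_zero ht ht1)
      have : t = μ ^ j * ((μ - 1) * (1 - α)) := by
        rw [← hj, div_mul_cancel₀ _ ht1]
      rw [this, ← conj_pow_param hx']
      exact mul_mem (mul_mem (pow_mem hh j) hzL) (inv_mem (pow_mem hh j))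
  have hall : ∀ t, x t ∈ L := by
    intro t
    have e : x t = (c * x 1)⁻¹ * x' t * (c * x 1) := by
      rw [← hc t, mul_inv_rev, hxinv]
      have : x (-1) * c⁻¹ * (c * x t * c⁻¹) * (c * x 1) = x (-1) * x t * x 1 := by group
      rw [this, hxa, hxa]
      congr 1
      ring
    rw [e]
    exact mul_mem (mul_mem (inv_mem hy) (hall' t)) hy
  refine ⟨?_, hall, hall'⟩
  have : c = (c * x 1) * (x 1)⁻¹ := by group
  rw [this]
  exact mul_mem hy (inv_mem (hall 1))

end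

end Cfsg.Agent.Lib.Helper8.Chev
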