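import Cfsg.Agent.Lib.Helper8.ChevPf1

set_option autoImplicit false

namespace Cfsg.Agent.Lib.Helper8.Chev

open Cfsg.Lie Matrix

section

variable {D : ChevalleyDatum} {F : Type*} [Field F]

/-- the fundamental root elements and their negatives -/
def fundGens (D : ChevalleyDatum) (F : Type*) [Field F] : Set (GL D.Idx F) :=
  {g | ∃ i < D.rank, ∃ t : F, (g : Matrix D.Idx D.Idx F) = D.x F (D.simple i) t ∨
    (g : Matrix D.Idx D.Idx F) = D.x F (D.neg (D.simple i)) t}

theorem fundGens_subset (J : ValidJ D) : fundGens D F ⊆ (D.group F : Set (GL D.Idx F)) := by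
  rintro g ⟨i, hi, t, hg | hg⟩
  · exact x_mem_group (J.S i hi).1 t g hg
  · exact x_mem_group (J.V.neg_lt (J.S i hi).1) t g hg

/-- representatives of Weyl group elements inside the group generated by the fundamental root
elements -/
theorem exists_nProd_fund (J : ValidJ D) (V1 : Valid1 D) (hN : checkNS D = true) (l : List ℕ)
    (hl : ∀ i ∈ l, i < D.rank) :
    ∃ n ∈ Subgroup.closure (fundGens D F),
      RootPerm D F (n : Matrix D.Idx D.Idx F) (reflWord D l) := by
  induction l with
  | nil => exact ⟨1, one_mem _, fun s hs => rootPerm_one s hs⟩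
  | cons i l ih =>
    obtain ⟨n, hn, hP⟩ := ih (fun j hj => hl j (List.mem_cons_of_mem _ hj))
    have hi := hl i List.mem_cons_self
    have hp := (J.S i hi).1
    obtain ⟨g, hgK, hg⟩ := word_mem_subgroup J.V V1 (Subgroup.closure (fundGens D F))
      (D.nWord (D.simple i) (1 : F)) (by
        intro q hq
        simp only [ChevalleyDatum.nWord, List.mem_cons, List.not_mem_nil, or_false] at hq
        rcases hq with rfl | rfl | rfl
        · exact ⟨hp, fun v g hg => Subgroup.subset_closure ⟨i, hi, v, Or.inl hg⟩⟩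
        · exact ⟨J.V.neg_lt hp, fun v g hg => Subgroup.subset_closure ⟨i, hi, v, Or.inr hg⟩⟩
        · exact ⟨hp, fun v g hg => Subgroup.subset_closure ⟨i, hi, v, Or.inl hg⟩⟩)
    rw [← nMat_eq_wN] at hg
    refine ⟨g * n, mul_mem hgK hn, ?_⟩
    rw [Units.val_mul, hg]
    intro s hs
    exact ((rootPerm_nMat J V1 hN hi).mul hP) s hs

/-- the Chevalley group is generated by the fundamental root elements and their negatives -/
theorem group_eq_closure_fund (hD : D ∈ [chevG2, chevB2, chevD4, chevF4, chevE6, chevE7, chevE8]) :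
    D.group F = Subgroup.closure (fundGens D F) := by
  have J := validJ_of_mem hD
  have V1 := valid1_of_mem hD
  have H := validH_of_mem hD
  apply le_antisymm
  · unfold ChevalleyDatum.group
    rw [Subgroup.closure_le]
    rintro g ⟨r, t, hg⟩
    obtain ⟨l, j, hl, hj, hr⟩ := reach_of_mem hD r.isLt
    obtain ⟨n, hn, hP⟩ := exists_nProd_fund (F := F) J V1 H.nS l hl
    have hs := (J.S j hj).1
    obtain ⟨_, ε, e⟩ := hP (D.simple j) hs
    obtain ⟨g0, hg0⟩ := exists_unit_x (F := F) J.V V1 hs ((ε⁻¹ : Fˣ) * t)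
    have hg0K : g0 ∈ Subgroup.closure (fundGens D F) :=
      Subgroup.subset_closure ⟨j, hj, _, Or.inl hg0⟩
    have hconj : g = n * g0 * n⁻¹ := by
      apply Units.ext
      rw [Units.val_mul, Units.val_mul, hg0, x_eq_xN, e, Matrix.mul_assoc, ← Units.val_mul,
        mul_inv_cancel, Units.val_one, Matrix.mul_one, hg, hr, ← mul_assoc]
      have : ((ε : Fˣ) : F) * ((ε⁻¹ : Fˣ) : F) = 1 := by
        rw [← Units.val_mul, mul_inv_cancel, Units.val_one]
      rw [this, one_mul]
      unfold xN
      rw [dif_pos r.isLt, xMat_eq_xR]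
    rw [hconj]
    exact mul_mem (mul_mem hn hg0K) (inv_mem hn)
  · rw [Subgroup.closure_le]
    exact fundGens_subset J

/-- the same inside the group -/
theorem closure_fund_eq_top (hD : D ∈ [chevG2, chevB2, chevD4, chevF4, chevE6, chevE7, chevE8]) :
    Subgroup.closure {n : ↥(D.group F) | (n : GL D.Idx F) ∈ fundGens D F} = ⊤ := by
  have J := validJ_of_mem hD
  rw [← closure_subgroupOf_eq (D.group F) (fundGens D F) (fundGens_subset J),
    ← group_eq_closure_fund hD]
  exact Subgroup.subgroupOf_self _

/-- two homomorphisms agreeing on the fundamental root elements agree -/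
theorem hom_ext_fund (hD : D ∈ [chevG2, chevB2, chevD4, chevF4, chevE6, chevE7, chevE8])
    {M : Type*} [Group M] (f g : ↥(D.group F) →* M)
    (h : ∀ y : ↥(D.group F), (y : GL D.Idx F) ∈ fundGens D F → f y = g y) : f = g := by
  have : f.eqLocus g = ⊤ := by
    rw [eq_top_iff, ← closure_fund_eq_top hD, Subgroup.closure_le]
    intro y hy
    exact h y hy
  ext y
  have hy : y ∈ f.eqLocus g := by rw [this]; trivial
  exact hy

end

end Cfsg.Agent.Lib.Helper8.Chev
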