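import Mathlib

set_option autoImplicit false

/-! Kernel-friendly list combinators (defined directly through recursors, which the kernel reduces
much faster than definitions compiled through `brecOn`), with their specifications. -/

namespace Cfsg.Agent.Lib.Helper8.Chev

universe u v

theorem nat_beq_eq_false {a b : ℕ} : (Nat.beq a b = false) = (a ≠ b) := by
  rw [← Bool.not_eq_true, Nat.beq_eq]

/-- `List.all` through the recursor. -/
noncomputable def allF {α : Type u} (p : α → Bool) (l : List α) : Bool :=
  @List.rec α (fun _ => Bool) true (fun a _ ih => and (p a) ih) l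

@[simp] theorem allF_nil {α : Type u} (p : α → Bool) : allF p [] = true := rfl
@[simp] theorem allF_cons {α : Type u} (p : α → Bool) (a : α) (l : List α) :
    allF p (a :: l) = (p a && allF p l) := rfl

theorem allF_eq_all {α : Type u} (p : α → Bool) (l : List α) : allF p l = l.all p := by
  induction l with
  | nil => rfl
  | cons a l ih => simp [ih]

theorem allF_eq_true {α : Type u} {p : α → Bool} {l : List α} :
    allF p l = true ↔ ∀ a ∈ l, p a = true := by
  rw [allF_eq_all, List.all_eq_true]

/-- `List.all` with a running index. -/
noncomputable def allIdxF {α : Type u} (p : ℕ → α → Bool) (l : List α) : ℕ → Bool :=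
  @List.rec α (fun _ => ℕ → Bool) (fun _ => true) (fun a _ ih k => and (p k a) (ih (k + 1))) l

@[simp] theorem allIdxF_nil {α : Type u} (p : ℕ → α → Bool) (k : ℕ) : allIdxF p [] k = true := rfl
@[simp] theorem allIdxF_cons {α : Type u} (p : ℕ → α → Bool) (a : α) (l : List α) (k : ℕ) :
    allIdxF p (a :: l) k = (p k a && allIdxF p l (k + 1)) := rfl

theorem allIdxF_eq_true {α : Type u} {p : ℕ → α → Bool} {l : List α} {k : ℕ} :
    allIdxF p l k = true ↔ ∀ (i : ℕ) (a : α), l[i]? = some a → p (k + i) a = true := by
  induction l generalizing k with
  | nil => simp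
  | cons b l ih =>
    rw [allIdxF_cons, Bool.and_eq_true, ih]
    constructor
    · rintro ⟨h0, h1⟩ i a hi
      cases i with
      | zero => simp at hi; subst hi; simpa using h0
      | succ j =>
        simp at hi
        have := h1 j a hi
        rwa [show k + 1 + j = k + (j + 1) by omega] at this
    · intro h
      refine ⟨by simpa using h 0 b (by simp), fun i a hi => ?_⟩
      have := h (i + 1) a (by simpa using hi)
      rwa [show k + (i + 1) = k + 1 + i by omega] at this

/-- bounded universal quantifier through `Nat.rec`. -/
noncomputable def forallLtF (p : ℕ → Bool) (n : ℕ) : Bool :=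
  @Nat.rec (fun _ => Bool) true (fun k ih => and (p k) ih) n

@[simp] theorem forallLtF_zero (p : ℕ → Bool) : forallLtF p 0 = true := rfl
@[simp] theorem forallLtF_succ (p : ℕ → Bool) (n : ℕ) :
    forallLtF p (n + 1) = (p n && forallLtF p n) := rfl

theorem forallLtF_eq_true {p : ℕ → Bool} {n : ℕ} :
    forallLtF p n = true ↔ ∀ k < n, p k = true := by
  induction n with
  | zero => simp
  | succ n ih =>
    rw [forallLtF_succ, Bool.and_eq_true, ih]
    constructor
    · rintro ⟨h0, h1⟩ k hk
      rcases Nat.lt_succ_iff_lt_or_eq.mp hk with h | rfl
      · exact h1 k h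
      · exact h0
    · intro h
      exact ⟨h n (Nat.lt_succ_self n), fun k hk => h k (Nat.lt_succ_of_lt hk)⟩

/-- strictly increasing check with a lower bound (exclusive) carried along; `lo` is `none` at the start. -/
noncomputable def strictIncrF (l : List ℕ) : Option ℕ → Bool :=
  @List.rec ℕ (fun _ => Option ℕ → Bool) (fun _ => true)
    (fun a _ ih lo => and (@Option.rec ℕ (fun _ => Bool) true (fun b => Nat.blt b a) lo) (ih (some a))) l

@[simp] theorem strictIncrF_nil (lo : Option ℕ) : strictIncrF [] lo = true := rfl
@[simp] theorem strictIncrF_cons_none (a : ℕ) (l : List ℕ) :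
    strictIncrF (a :: l) none = strictIncrF l (some a) := by
  show (true && strictIncrF l (some a)) = _
  simp
@[simp] theorem strictIncrF_cons_some (a b : ℕ) (l : List ℕ) :
    strictIncrF (a :: l) (some b) = (Nat.blt b a && strictIncrF l (some a)) := rfl

theorem strictIncrF_some_pairwise {l : List ℕ} {b : ℕ} (h : strictIncrF l (some b) = true) :
    (b :: l).Pairwise (· < ·) := by
  induction l generalizing b with
  | nil => simp
  | cons a l ih =>
    rw [strictIncrF_cons_some, Bool.and_eq_true, Nat.blt_eq] at h
    have h2 := ih h.2
    rw [List.pairwise_cons] at h2 ⊢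
    refine ⟨?_, List.pairwise_cons.mpr h2⟩
    intro c hc
    rcases List.mem_cons.mp hc with rfl | hc
    · exact h.1
    · exact lt_trans h.1 (h2.1 c hc)

theorem strictIncrF_pairwise {l : List ℕ} (h : strictIncrF l none = true) : l.Pairwise (· < ·) := by
  cases l with
  | nil => simp
  | cons a l =>
    rw [strictIncrF_cons_none] at h
    exact strictIncrF_some_pairwise h

theorem strictIncrF_nodup {l : List ℕ} (h : strictIncrF l none = true) : l.Nodup :=
  (strictIncrF_pairwise h).imp (fun h => ne_of_lt h)

/-- `List.map` through the recursor. -/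
noncomputable def mapF {α : Type u} {β : Type v} (f : α → β) (l : List α) : List β :=
  @List.rec α (fun _ => List β) [] (fun a _ ih => f a :: ih) l

theorem mapF_eq_map {α : Type u} {β : Type v} (f : α → β) (l : List α) : mapF f l = l.map f := by
  induction l with
  | nil => rfl
  | cons a l ih => show f a :: mapF f l = _; rw [ih]; rfl

end Cfsg.Agent.Lib.Helper8.Chev
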