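import Mathlib
import Cfsg.Agent.Lib.Helper11.S3282Defs
import Cfsg.Agent.Lib.Helper12.S3282G1a

/-!
# S3282 G1b, part 1 (helper8, farm-out of helper11): conjugation invariance of the hypotheses,
every involution is in `K^G`, and `K^G ∪ {1}` is closed under commuting.
-/

set_option autoImplicit false

namespace Cfsg.Agent.Lib.Helper8.S3282G1b

open Cfsg Cfsg.Agent.Lib.Helper11 Cfsg.Agent.Lib.Helper11.S3282

universe u

variable {G : Type u} [Group G] {t s : G} {K : Subgroup G}

theorem mem_map_conj (g x : G) (K : Subgroup G) :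
    x ∈ K.map (MulAut.conj g).toMonoidHom ↔ g⁻¹ * x * g ∈ K := by
  rw [Subgroup.mem_map]
  constructor
  · rintro ⟨y, hy, rfl⟩
    have : g⁻¹ * ((MulAut.conj g).toMonoidHom y) * g = y := by
      show g⁻¹ * (g * y * g⁻¹) * g = y
      group
    rw [this]
    exact hy
  · intro h
    refine ⟨g⁻¹ * x * g, h, ?_⟩
    show g * (g⁻¹ * x * g) * g⁻¹ = x
    group

theorem mem_centralizer_singleton' (a x : G) :
    x ∈ Subgroup.centralizer ({a} : Set G) ↔ a * x = x * a := by
  rw [Subgroup.mem_centralizer_iff]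
  constructor
  · intro h
    exact h a (Set.mem_singleton a)
  · intro h b hb
    rw [Set.mem_singleton_iff] at hb
    rw [hb]
    exact h

theorem orderOf_conj' (g x : G) : orderOf (g * x * g⁻¹) = orderOf x :=
  (MulAut.conj g).orderOf_eq x

/-- the hypotheses are invariant under conjugation. -/
theorem G1_conj (h : Hyp t s K) (g : G) :
    Hyp (g * t * g⁻¹) (g * s * g⁻¹) (K.map (MulAut.conj g).toMonoidHom) := by
  refine
    { ht := by rw [orderOf_conj']; exact h.ht
      comm := ?_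
      hKH := ?_
      htK := ?_
      hs := by rw [orderOf_conj']; exact h.hs
      hsH := ?_
      hsK := ?_
      hH := ?_
      hCK := ?_
      hinv := ?_
      hTI := ?_
      hconj := h.hconj }
  · intro x hx y hy
    rw [mem_map_conj] at hx hy
    have h1 := h.comm _ hx _ hy
    have h2 : x * y = g * ((g⁻¹ * x * g) * (g⁻¹ * y * g)) * g⁻¹ := by group
    have h3 : y * x = g * ((g⁻¹ * y * g) * (g⁻¹ * x * g)) * g⁻¹ := by group
    rw [h2, h3, h1]
  · intro x hx
    rw [mem_map_conj] at hx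
    have h1 := (mem_centralizer_singleton' t _).1 (h.hKH hx)
    rw [mem_centralizer_singleton']
    have h2 : g * t * g⁻¹ * x = g * (t * (g⁻¹ * x * g)) * g⁻¹ := by group
    have h3 : x * (g * t * g⁻¹) = g * ((g⁻¹ * x * g) * t) * g⁻¹ := by group
    rw [h2, h3, h1]
  · rw [mem_map_conj]
    have : g⁻¹ * (g * t * g⁻¹) * g = t := by group
    rw [this]
    exact h.htK
  · have h1 := (mem_centralizer_singleton' t _).1 h.hsH
    rw [mem_centralizer_singleton']
    have h2 : g * t * g⁻¹ * (g * s * g⁻¹) = g * (t * s) * g⁻¹ := by group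
    have h3 : g * s * g⁻¹ * (g * t * g⁻¹) = g * (s * t) * g⁻¹ := by group
    rw [h2, h3, h1]
  · rw [mem_map_conj]
    have : g⁻¹ * (g * s * g⁻¹) * g = s := by group
    rw [this]
    exact h.hsK
  · ext x
    have hx1 : x ∈ Subgroup.centralizer ({g * t * g⁻¹} : Set G) ↔
        g⁻¹ * x * g ∈ Subgroup.centralizer ({t} : Set G) := by
      rw [mem_centralizer_singleton', mem_centralizer_singleton']
      constructor
      · intro h1
        have h2 : t * (g⁻¹ * x * g) = g⁻¹ * (g * t * g⁻¹ * x) * g := by group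
        have h3 : g⁻¹ * x * g * t = g⁻¹ * (x * (g * t * g⁻¹)) * g := by group
        rw [h2, h3, h1]
      · intro h1
        have h2 : g * t * g⁻¹ * x = g * (t * (g⁻¹ * x * g)) * g⁻¹ := by group
        have h3 : x * (g * t * g⁻¹) = g * ((g⁻¹ * x * g) * t) * g⁻¹ := by group
        rw [h2, h3, h1]
    rw [hx1, ← h.hH]
    have hz : Subgroup.zpowers (g * s * g⁻¹) =
        (Subgroup.zpowers s).map (MulAut.conj g).toMonoidHom := by
      rw [MonoidHom.map_zpowers]
      rfl
    rw [hz, ← Subgroup.map_sup, mem_map_conj]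
  · ext x
    rw [Subgroup.mem_inf, mem_map_conj]
    have hx1 : x ∈ Subgroup.centralizer ({g * s * g⁻¹} : Set G) ↔
        g⁻¹ * x * g ∈ Subgroup.centralizer ({s} : Set G) := by
      rw [mem_centralizer_singleton', mem_centralizer_singleton']
      constructor
      · intro h1
        have h2 : s * (g⁻¹ * x * g) = g⁻¹ * (g * s * g⁻¹ * x) * g := by group
        have h3 : g⁻¹ * x * g * s = g⁻¹ * (x * (g * s * g⁻¹)) * g := by group
        rw [h2, h3, h1]
      · intro h1
        have h2 : g * s * g⁻¹ * x = g * (s * (g⁻¹ * x * g)) * g⁻¹ := by group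
        have h3 : x * (g * s * g⁻¹) = g * ((g⁻¹ * x * g) * s) * g⁻¹ := by group
        rw [h2, h3, h1]
    have hz : Subgroup.zpowers (g * t * g⁻¹) =
        (Subgroup.zpowers t).map (MulAut.conj g).toMonoidHom := by
      rw [MonoidHom.map_zpowers]
      rfl
    rw [hx1, hz, mem_map_conj, ← h.hCK, Subgroup.mem_inf]
  · intro x hx
    rw [mem_map_conj] at hx
    have h1 := h.hinv _ hx
    have h2 : g * s * g⁻¹ * x * (g * s * g⁻¹)⁻¹ = g * (s * (g⁻¹ * x * g) * s⁻¹) * g⁻¹ := by group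
    rw [h2, h1]
    group
  · intro g' hg'
    have hg'' : g⁻¹ * g' * g ∉ Subgroup.centralizer ({t} : Set G) := by
      intro hc
      apply hg'
      rw [mem_centralizer_singleton'] at hc ⊢
      have h2 : g * t * g⁻¹ * g' = g * (t * (g⁻¹ * g' * g)) * g⁻¹ := by group
      have h3 : g' * (g * t * g⁻¹) = g * ((g⁻¹ * g' * g) * t) * g⁻¹ := by group
      rw [h2, h3, hc]
    have h1 := h.hTI _ hg''
    rw [eq_bot_iff]
    intro x hx
    rw [Subgroup.mem_inf, mem_map_conj, mem_map_conj, mem_map_conj] at hx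
    have h2 : g⁻¹ * x * g ∈ K ⊓ K.map (MulAut.conj (g⁻¹ * g' * g)).toMonoidHom := by
      rw [Subgroup.mem_inf, mem_map_conj]
      refine ⟨hx.1, ?_⟩
      have : (g⁻¹ * g' * g)⁻¹ * (g⁻¹ * x * g) * (g⁻¹ * g' * g) =
          g⁻¹ * (g'⁻¹ * x * g') * g := by group
      rw [this]
      exact hx.2
    rw [h1, Subgroup.mem_bot] at h2
    rw [Subgroup.mem_bot]
    have h3 : x = g * (g⁻¹ * x * g) * g⁻¹ := by group
    rw [h3, h2]
    group

theorem G1_conjSet_conj (g : G) :
    conjSet (K.map (MulAut.conj g).toMonoidHom) = conjSet K := by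
  ext y
  constructor
  · rintro ⟨hy1, x, hx⟩
    refine ⟨hy1, g⁻¹ * x, ?_⟩
    rw [mem_map_conj] at hx
    have : g⁻¹ * x * y * (g⁻¹ * x)⁻¹ = g⁻¹ * (x * y * x⁻¹) * g := by group
    rw [this]
    exact hx
  · rintro ⟨hy1, x, hx⟩
    refine ⟨hy1, g * x, ?_⟩
    rw [mem_map_conj]
    have : g⁻¹ * (g * x * y * (g * x)⁻¹) * g = x * y * x⁻¹ := by group
    rw [this]
    exact hx

/-- every involution is conjugate to `t ∈ K`. -/
theorem G1_invol_mem (h : Hyp t s K) {z : G} (hz : orderOf z = 2) : z ∈ conjSet K := by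
  have hz1 : z ≠ 1 := by
    intro h1
    rw [h1, orderOf_one] at hz
    omega
  obtain ⟨c, hc⟩ := isConj_iff.1 (h.hconj z t hz h.ht)
  exact ⟨hz1, c, by rw [hc]; exact h.htK⟩

/-- `KG ∪ {1}` is closed under commuting. -/
theorem G1_commute (h : Hyp t s K) {x y : G} (hy : y ∈ conjSet K) (hxy : x * y = y * x)
    (hx1 : x ≠ 1) : x ∈ conjSet K := by
  obtain ⟨hy1, c, hc⟩ := hy
  have hk1 : c * y * c⁻¹ ≠ 1 := by
    intro h1
    apply hy1
    have : y = c⁻¹ * (c * y * c⁻¹) * c := by group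
    rw [this, h1]
    group
  have hcomm : (c * y * c⁻¹) * (c * x * c⁻¹) = (c * x * c⁻¹) * (c * y * c⁻¹) := by
    have h2 : (c * y * c⁻¹) * (c * x * c⁻¹) = c * (y * x) * c⁻¹ := by group
    have h3 : (c * x * c⁻¹) * (c * y * c⁻¹) = c * (x * y) * c⁻¹ := by group
    rw [h2, h3, hxy]
  have hH : c * x * c⁻¹ ∈ Subgroup.centralizer ({t} : Set G) := by
    apply Cfsg.Agent.Lib.Helper12.S3282G1a.G1_cent_le h hc hk1
    rw [mem_centralizer_singleton']
    exact hcomm
  by_cases hK : c * x * c⁻¹ ∈ K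
  · exact ⟨hx1, c, hK⟩
  · have h2 := Cfsg.Agent.Lib.Helper12.S3282G1a.G1_invol_of_not_mem h hH hK
    rw [orderOf_conj'] at h2
    exact G1_invol_mem h h2

end Cfsg.Agent.Lib.Helper8.S3282G1b
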