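import Mathlib
import Cfsg.Prelude.Def_GeometricClasses
import Cfsg.Agent.Lib.Helper7.AschDefs
import Cfsg.Agent.Lib.Helper11.AschCliffDefs

/-! # S5630 block I4, pieces TENS1 + TENS2 (helper8): whoever normalises `Y ⊗ 1` (`Y` absolutely irreducible) is a
Kronecker product.  Direct proof: the `d × d` blocks `g_{jk}` of `g` satisfy `g_{jk} y = y' g_{jk}`; each block is `0`
or invertible (its kernel is `Y`-invariant) and any two differ by a scalar (commutant of `Y`), so `g = A₀ ⊗ C`. -/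

set_option autoImplicit false

namespace Cfsg.Agent.Lib.Helper8.S5630I4TENS

open Matrix Cfsg Cfsg.Geo Cfsg.Agent.Lib.Helper7.Asch Cfsg.Agent.Lib.Helper11.Cliff
open scoped MatrixGroups Kronecker

variable {n : ℕ} {F : Type*} [Field F]

/-- the `(j,k)` block of a matrix on `Fin d × Fin s` -/
def blk {d s : ℕ} (G : Matrix (Fin d × Fin s) (Fin d × Fin s) F) (j k : Fin s) : Matrix (Fin d) (Fin d) F :=
  Matrix.of fun i i' => G (i, j) (i', k)

omit [Field F] in
theorem blk_apply {d s : ℕ} (G : Matrix (Fin d × Fin s) (Fin d × Fin s) F) (j k : Fin s) (i i' : Fin d) :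
    blk G j k i i' = G (i, j) (i', k) := rfl

theorem blk_mul_kron {d s : ℕ} (G : Matrix (Fin d × Fin s) (Fin d × Fin s) F) (y : Matrix (Fin d) (Fin d) F)
    (j k : Fin s) : blk (G * (y ⊗ₖ (1 : Matrix (Fin s) (Fin s) F))) j k = blk G j k * y := by
  ext i i'
  rw [blk_apply, Matrix.mul_apply, Matrix.mul_apply, Fintype.sum_prod_type]
  apply Finset.sum_congr rfl
  intro i'' _
  rw [Finset.sum_eq_single k]
  · rw [Matrix.kroneckerMap_apply, Matrix.one_apply_eq, mul_one, blk_apply]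
  · intro k' _ hk'
    rw [Matrix.kroneckerMap_apply, Matrix.one_apply_ne hk', mul_zero, mul_zero]
  · intro h
    exact absurd (Finset.mem_univ k) h

theorem blk_kron_mul {d s : ℕ} (G : Matrix (Fin d × Fin s) (Fin d × Fin s) F) (y : Matrix (Fin d) (Fin d) F)
    (j k : Fin s) : blk ((y ⊗ₖ (1 : Matrix (Fin s) (Fin s) F)) * G) j k = y * blk G j k := by
  ext i i'
  rw [blk_apply, Matrix.mul_apply, Matrix.mul_apply, Fintype.sum_prod_type]
  apply Finset.sum_congr rfl
  intro i'' _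
  rw [Finset.sum_eq_single j]
  · rw [Matrix.kroneckerMap_apply, Matrix.one_apply_eq, mul_one, blk_apply]
  · intro j' _ hj'
    rw [Matrix.kroneckerMap_apply, Matrix.one_apply_ne (Ne.symm hj'), mul_zero, zero_mul]
  · intro h
    exact absurd (Finset.mem_univ j) h

/-- a matrix intertwining an irreducible `Y` with anything (`A y = y' A`) is zero or invertible -/
theorem zero_or_isUnit_of_intertwines {d : ℕ} (Y : Subgroup (GL (Fin d) F)) (hY : Irr Y)
    (A : Matrix (Fin d) (Fin d) F)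
    (hA : ∀ y ∈ Y, ∃ y' : Matrix (Fin d) (Fin d) F, A * (y : Matrix (Fin d) (Fin d) F) = y' * A) :
    A = 0 ∨ IsUnit A := by
  have hinv : ∀ s ∈ matrixSet Y, (LinearMap.ker (Matrix.toLin' A)).map (Matrix.toLin' s) ≤
      LinearMap.ker (Matrix.toLin' A) := by
    rintro _ ⟨y, hy, rfl⟩ _ ⟨v, hv, rfl⟩
    obtain ⟨y', hy'⟩ := hA y hy
    rw [SetLike.mem_coe, LinearMap.mem_ker, Matrix.toLin'_apply] at hv
    rw [LinearMap.mem_ker, Matrix.toLin'_apply, Matrix.toLin'_apply, Matrix.mulVec_mulVec, hy',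
      ← Matrix.mulVec_mulVec, hv, Matrix.mulVec_zero]
  rcases hY _ hinv with h | h
  · right
    rw [← Matrix.mulVec_injective_iff_isUnit]
    intro v w hvw
    have : v - w ∈ LinearMap.ker (Matrix.toLin' A) := by
      rw [LinearMap.mem_ker, Matrix.toLin'_apply, Matrix.mulVec_sub, hvw, sub_self]
    rw [h, Submodule.mem_bot] at this
    exact sub_eq_zero.1 this
  · left
    rw [LinearMap.ker_eq_top] at h
    exact Matrix.toLin'.injective (by rw [h, map_zero])

/-- **TENS1** -/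
theorem mem_kron_of_normalizes {d s : ℕ} (hd : 1 ≤ d) (hs : 1 ≤ s) (Y : Subgroup (GL (Fin d) F))
    (hY : AbsIrr Y) (g : GL (Fin d × Fin s) F)
    (hg : ∀ y ∈ Y, ∃ y' ∈ Y, g * Units.map (kronLMat d s F) y * g⁻¹ = Units.map (kronLMat d s F) y') :
    g ∈ kroneckerSubgroup d s F := by
  classical
  set G : Matrix (Fin d × Fin s) (Fin d × Fin s) F := (g : Matrix (Fin d × Fin s) (Fin d × Fin s) F) with hG
  -- the intertwining relation
  have hrel : ∀ y ∈ Y, ∃ y' ∈ Y, ∀ j k, blk G j k * (y : Matrix (Fin d) (Fin d) F) =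
      (y' : Matrix (Fin d) (Fin d) F) * blk G j k := by
    intro y hy
    obtain ⟨y', hy', h⟩ := hg y hy
    refine ⟨y', hy', ?_⟩
    have h1 : g * Units.map (kronLMat d s F) y = Units.map (kronLMat d s F) y' * g := by
      rw [← h]; group
    have h2 : G * ((y : Matrix (Fin d) (Fin d) F) ⊗ₖ (1 : Matrix (Fin s) (Fin s) F)) =
        ((y' : Matrix (Fin d) (Fin d) F) ⊗ₖ (1 : Matrix (Fin s) (Fin s) F)) * G := by
      have := congrArg (fun u : GL (Fin d × Fin s) F => (u : Matrix (Fin d × Fin s) (Fin d × Fin s) F)) h1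
      simp only [Units.val_mul] at this
      exact this
    intro j k
    rw [← blk_mul_kron, h2, blk_kron_mul]
  -- every block is zero or invertible
  have hblk : ∀ j k, blk G j k = 0 ∨ IsUnit (blk G j k) := by
    intro j k
    apply zero_or_isUnit_of_intertwines Y hY.1
    intro y hy
    obtain ⟨y', _, h⟩ := hrel y hy
    exact ⟨y', h j k⟩
  -- some block is non-zero
  obtain ⟨j₀, k₀, h0⟩ : ∃ j₀ k₀, blk G j₀ k₀ ≠ 0 := by
    by_contra hcon
    push Not at hcon
    have hG0 : G = 0 := by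
      ext ⟨i, j⟩ ⟨i', k⟩
      have := congrFun (congrFun (hcon j k) i) i'
      rw [blk_apply] at this
      rw [this]; rfl
    have h1 : G * ((g⁻¹ : GL (Fin d × Fin s) F) : Matrix (Fin d × Fin s) (Fin d × Fin s) F) = 1 := by
      rw [hG, ← Units.val_mul, mul_inv_cancel, Units.val_one]
    rw [hG0, zero_mul] at h1
    have h2 := congrFun (congrFun h1 (⟨0, by omega⟩, ⟨0, by omega⟩)) (⟨0, by omega⟩, ⟨0, by omega⟩)
    rw [Matrix.one_apply_eq] at h2
    exact zero_ne_one h2
  obtain ⟨u, hu⟩ : IsUnit (blk G j₀ k₀) := (hblk j₀ k₀).resolve_left h0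
  -- all blocks are multiples of `u`
  have hmult : ∀ j k, ∃ c : F, blk G j k = c • (u : Matrix (Fin d) (Fin d) F) := by
    intro j k
    obtain ⟨c, hc⟩ := hY.2 ((u⁻¹ : (Matrix (Fin d) (Fin d) F)ˣ) * blk G j k) (by
      rintro _ ⟨y, hy, rfl⟩
      obtain ⟨y', _, h⟩ := hrel y hy
      have h1 := h j₀ k₀
      rw [← hu] at h1
      -- y * u⁻¹ = u⁻¹ * y'
      have h2 : (y : Matrix (Fin d) (Fin d) F) * ((u⁻¹ : (Matrix (Fin d) (Fin d) F)ˣ) : Matrix (Fin d) (Fin d) F) =
          ((u⁻¹ : (Matrix (Fin d) (Fin d) F)ˣ) : Matrix (Fin d) (Fin d) F) * (y' : Matrix (Fin d) (Fin d) F) := by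
        calc (y : Matrix (Fin d) (Fin d) F) * ((u⁻¹ : (Matrix (Fin d) (Fin d) F)ˣ) : Matrix (Fin d) (Fin d) F)
            = ((u⁻¹ : (Matrix (Fin d) (Fin d) F)ˣ) : Matrix (Fin d) (Fin d) F) *
                ((u : Matrix (Fin d) (Fin d) F) * (y : Matrix (Fin d) (Fin d) F)) *
                ((u⁻¹ : (Matrix (Fin d) (Fin d) F)ˣ) : Matrix (Fin d) (Fin d) F) := by
              rw [← mul_assoc, Units.inv_mul, one_mul]
          _ = ((u⁻¹ : (Matrix (Fin d) (Fin d) F)ˣ) : Matrix (Fin d) (Fin d) F) * (y' : Matrix (Fin d) (Fin d) F) := by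
              rw [h1, mul_assoc, mul_assoc, Units.mul_inv, mul_one]
      rw [mul_assoc, h j k, ← mul_assoc, ← h2, mul_assoc])
    refine ⟨c, ?_⟩
    calc blk G j k = (u : Matrix (Fin d) (Fin d) F) *
          (((u⁻¹ : (Matrix (Fin d) (Fin d) F)ˣ) : Matrix (Fin d) (Fin d) F) * blk G j k) := by
          rw [← mul_assoc, Units.mul_inv, one_mul]
      _ = c • (u : Matrix (Fin d) (Fin d) F) := by
          rw [hc, Matrix.mul_smul, mul_one]
  choose c hc using hmult
  set C : Matrix (Fin s) (Fin s) F := Matrix.of c with hC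
  have hGk : G = (u : Matrix (Fin d) (Fin d) F) ⊗ₖ C := by
    ext ⟨i, j⟩ ⟨i', k⟩
    rw [Matrix.kroneckerMap_apply, ← blk_apply G j k i i', hc j k, Matrix.smul_apply, smul_eq_mul, hC,
      Matrix.of_apply, mul_comm]
  -- `C` is invertible
  have hdet : IsUnit G.det := (Matrix.isUnit_iff_isUnit_det _).1 g.isUnit
  rw [hGk, Matrix.det_kronecker] at hdet
  have hCdet : C.det ≠ 0 := by
    intro h
    simp only [Fintype.card_fin] at hdet
    rw [h, zero_pow (by omega), mul_zero] at hdet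
    exact not_isUnit_zero hdet
  have hudet : (u : Matrix (Fin d) (Fin d) F).det ≠ 0 := by
    have := (Matrix.isUnit_iff_isUnit_det _).1 u.isUnit
    exact this.ne_zero
  exact ⟨Matrix.GeneralLinearGroup.mkOfDetNeZero _ hudet, Matrix.GeneralLinearGroup.mkOfDetNeZero C hCdet, hGk⟩

/-- **TENS2** -/
theorem le_tensorProductSubgroup_of_normalizes (G X : Subgroup (GL (Fin n) F)) (hX : NormBy G X)
    {d s : ℕ} (hd : 1 ≤ d) (hs : 1 ≤ s) (e : Fin n ≃ Fin d × Fin s) (P : GL (Fin n) F)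
    (Y : Subgroup (GL (Fin d) F)) (hY : AbsIrr Y) (hXY : X = Y.map (kronL e P)) :
    G ≤ tensorProductSubgroup d s e P := by
  intro h hh
  set Φ : GL (Fin d × Fin s) F ≃* GL (Fin n) F := (glReindex (F := F) e.symm).trans (MulAut.conj P) with hΦ
  have hk : ∀ y, kronL e P y = Φ (Units.map (kronLMat d s F) y) := fun y => rfl
  have hg : Φ.symm h ∈ kroneckerSubgroup d s F := by
    apply mem_kron_of_normalizes hd hs Y hY
    intro y hy
    have hx : kronL e P y ∈ X := by rw [hXY]; exact Subgroup.mem_map_of_mem _ hy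
    have h1 := hX h hh _ hx
    rw [hXY] at h1
    obtain ⟨y', hy', h'⟩ := h1
    refine ⟨y', hy', ?_⟩
    apply Φ.injective
    rw [map_mul, map_mul, map_inv, MulEquiv.apply_symm_apply, ← hk, ← hk, h']
  unfold tensorProductSubgroup
  rw [Subgroup.map_map]
  refine ⟨Φ.symm h, hg, ?_⟩
  change Φ (Φ.symm h) = h
  exact MulEquiv.apply_symm_apply Φ h

end Cfsg.Agent.Lib.Helper8.S5630I4TENS
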