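import Mathlib

/-!
# S3282 A2 (helper8, farm-out of helper11): the two arithmetic lemmas.
-/

set_option autoImplicit false

namespace Cfsg.Agent.Lib.Helper8.S3282A2

/-- the common core: `e + m (2n+1) = 2n² + 2n` with `1 ≤ e ≤ 2n` forces `e = n`. -/
theorem core {n e m : ℕ} (he1 : 1 ≤ e) (he2 : e ≤ 2 * n)
    (h : e + m * (2 * n + 1) = 2 * n * n + 2 * n) : e = n := by
  rcases Nat.lt_trichotomy m n with hlt | heq | hgt
  · exfalso
    have h1 : m + 1 ≤ n := hlt
    have h2 : (m + 1) * (2 * n + 1) ≤ n * (2 * n + 1) := Nat.mul_le_mul_right _ h1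
    nlinarith
  · subst heq
    nlinarith
  · exfalso
    have h1 : n + 1 ≤ m := hgt
    have h2 : (n + 1) * (2 * n + 1) ≤ m * (2 * n + 1) := Nat.mul_le_mul_right _ h1
    nlinarith

theorem A2_arith_A {k e j : ℕ} (hk : 2 ≤ k) (he : e ∣ 2 * k)
    (h : k * (2 * k + 1) * (2 * k + 2) = (2 * k + 1) * e * (1 + j * (2 * k + 1))) : e = k := by
  have hpos : 0 < 2 * k := by omega
  have he2 : e ≤ 2 * k := Nat.le_of_dvd hpos he
  have he1 : 1 ≤ e := by
    rcases Nat.eq_zero_or_pos e with h0 | h0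
    · subst h0
      rw [zero_dvd_iff] at he
      omega
    · exact h0
  have h2 : (2 * k + 1) * (k * (2 * k + 2)) = (2 * k + 1) * (e * (1 + j * (2 * k + 1))) := by
    calc (2 * k + 1) * (k * (2 * k + 2)) = k * (2 * k + 1) * (2 * k + 2) := by ring
      _ = (2 * k + 1) * e * (1 + j * (2 * k + 1)) := h
      _ = (2 * k + 1) * (e * (1 + j * (2 * k + 1))) := by ring
  have h3 : k * (2 * k + 2) = e * (1 + j * (2 * k + 1)) :=
    Nat.eq_of_mul_eq_mul_left (by omega) h2
  apply core (m := e * j) he1 he2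
  nlinarith

theorem A2_arith_B {k e j : ℕ} (hk : 2 ≤ k) (he : e ∣ 2 * k - 2)
    (h : k * (2 * k - 1) * (2 * k - 2) = (2 * k - 1) * e * (1 + j * (2 * k - 1))) :
    e = k - 1 := by
  obtain ⟨n, rfl⟩ : ∃ n, k = n + 1 := ⟨k - 1, by omega⟩
  have e1 : 2 * (n + 1) - 1 = 2 * n + 1 := by omega
  have e2 : 2 * (n + 1) - 2 = 2 * n := by omega
  have e3 : n + 1 - 1 = n := by omega
  rw [e1, e2] at h
  rw [e2] at he
  rw [e3]
  have hn : 1 ≤ n := by omega
  have hpos : 0 < 2 * n := by omega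
  have he2 : e ≤ 2 * n := Nat.le_of_dvd hpos he
  have he1 : 1 ≤ e := by
    rcases Nat.eq_zero_or_pos e with h0 | h0
    · subst h0
      rw [zero_dvd_iff] at he
      omega
    · exact h0
  have h2 : (2 * n + 1) * ((n + 1) * (2 * n)) = (2 * n + 1) * (e * (1 + j * (2 * n + 1))) := by
    calc (2 * n + 1) * ((n + 1) * (2 * n)) = (n + 1) * (2 * n + 1) * (2 * n) := by ring
      _ = (2 * n + 1) * e * (1 + j * (2 * n + 1)) := h
      _ = (2 * n + 1) * (e * (1 + j * (2 * n + 1))) := by ring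
  have h3 : (n + 1) * (2 * n) = e * (1 + j * (2 * n + 1)) :=
    Nat.eq_of_mul_eq_mul_left (by omega) h2
  apply core (m := e * j) he1 he2
  nlinarith

end Cfsg.Agent.Lib.Helper8.S3282A2
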