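import Mathlib
import Cfsg.Agent.Lib.Helper12.SC3.Defs

/-!
# S1904 (helper12's farm), general fact (G3): the norm-map lemma.

If `X` is a finite `2`-group, `A ≤ MulAut X` has odd order, `[X, A] = X`, and `K ⊴ X` has `X ⧸ K` abelian,
then every element of `X` fixed by all of `A` lies in `K`.  (No `A`-invariance of `K` is needed.)
-/

set_option autoImplicit false

namespace Cfsg.Agent.Lib.Helper8.SC3G3

variable {X : Type*} [Group X]

/-- (G3) norm-map lemma, generic form: an element fixed by `A` modulo `K` lies in `K`. -/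
theorem fixedMod_mem_of_comm_quot [Finite X] {A : Subgroup (MulAut X)} (h2 : IsPGroup 2 X)
    (hodd : Odd (Nat.card A))
    (hgen : Subgroup.closure {g : X | ∃ φ ∈ A, ∃ x : X, g = x⁻¹ * φ x} = ⊤)
    (K : Subgroup X) [K.Normal] (hab : ∀ x y : X, x * y * x⁻¹ * y⁻¹ ∈ K)
    (x : X) (hx : ∀ φ ∈ A, x⁻¹ * φ x ∈ K) : x ∈ K := by
  classical
  have hcomm : ∀ a b : X ⧸ K, a * b = b * a := by
    intro a b
    induction a using QuotientGroup.induction_on with | _ a => ?_
    induction b using QuotientGroup.induction_on with | _ b => ?_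
    rw [← QuotientGroup.mk_mul, ← QuotientGroup.mk_mul, QuotientGroup.eq]
    have h := hab b⁻¹ a⁻¹
    have e : (a * b)⁻¹ * (b * a) = b⁻¹ * a⁻¹ * b⁻¹⁻¹ * a⁻¹⁻¹ := by group
    rw [e]; exact h
  let _ : CommGroup (X ⧸ K) := { (inferInstance : Group (X ⧸ K)) with mul_comm := hcomm }
  have : Fintype A := Fintype.ofFinite A
  let Nm : X →* X ⧸ K :=
    { toFun := fun y => ∏ a : A, (QuotientGroup.mk ((a : MulAut X) y) : X ⧸ K)
      map_one' := by simp
      map_mul' := by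
        intro y z
        simp only [map_mul, QuotientGroup.mk_mul]
        exact Finset.prod_mul_distrib }
  have hNm : ∀ y, Nm y = ∏ a : A, (QuotientGroup.mk ((a : MulAut X) y) : X ⧸ K) := fun _ => rfl
  have hshift : ∀ (φ : MulAut X) (hφ : φ ∈ A) (y : X), Nm (φ y) = Nm y := by
    intro φ hφ y
    rw [hNm, hNm]
    refine Fintype.prod_equiv (Equiv.mulRight (⟨φ, hφ⟩ : A)) _ _ ?_
    intro a
    simp [MulAut.mul_apply]
  have hker : Subgroup.closure {g : X | ∃ φ ∈ A, ∃ x : X, g = x⁻¹ * φ x} ≤ Nm.ker := by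
    rw [Subgroup.closure_le]
    rintro g ⟨φ, hφ, y, rfl⟩
    rw [SetLike.mem_coe, MonoidHom.mem_ker, map_mul, map_inv, hshift φ hφ y, inv_mul_cancel]
  have hx1 : Nm x = 1 := by
    have : x ∈ Nm.ker := hker (hgen ▸ Subgroup.mem_top x)
    exact this
  have hx2 : (QuotientGroup.mk x : X ⧸ K) ^ (Nat.card A) = 1 := by
    rw [← hx1, hNm]
    have : ∀ a : A, (QuotientGroup.mk ((a : MulAut X) x) : X ⧸ K) = QuotientGroup.mk x := by
      intro a; exact (QuotientGroup.eq.2 (hx a a.2)).symm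
    simp only [this, Finset.prod_const, Finset.card_univ, Nat.card_eq_fintype_card]
  obtain ⟨k, hk⟩ := h2 x
  have hx3 : (QuotientGroup.mk x : X ⧸ K) ^ (2 ^ k) = 1 := by
    rw [← QuotientGroup.mk_pow, hk, QuotientGroup.mk_one]
  have hcop : Nat.Coprime (Nat.card A) (2 ^ k) :=
    Nat.Coprime.pow_right k (Nat.coprime_two_right.mpr hodd)
  have h1 := pow_gcd_eq_one.2 ⟨hx2, hx3⟩
  rw [Nat.Coprime.gcd_eq_one hcop, pow_one] at h1
  exact (QuotientGroup.eq_one_iff x).1 h1

/-- (G3) norm-map lemma: an element fixed by all of `A` lies in `K`. -/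
theorem fixed_mem_of_comm_quot [Finite X] {A : Subgroup (MulAut X)} (h2 : IsPGroup 2 X)
    (hodd : Odd (Nat.card A))
    (hgen : Subgroup.closure {g : X | ∃ φ ∈ A, ∃ x : X, g = x⁻¹ * φ x} = ⊤)
    (K : Subgroup X) [K.Normal] (hab : ∀ x y : X, x * y * x⁻¹ * y⁻¹ ∈ K)
    (x : X) (hx : ∀ φ ∈ A, φ x = x) : x ∈ K :=
  fixedMod_mem_of_comm_quot h2 hodd hgen K hab x (fun φ hφ => by rw [hx φ hφ, inv_mul_cancel]; exact K.one_mem)

open Cfsg.Agent.Lib.Helper12.SC3 in
/-- (G3) with the farm's `Hyp`: fixed modulo `K`. -/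
theorem Hyp_fixedMod_mem [Finite X] {A : Subgroup (MulAut X)} (h : Hyp A)
    (K : Subgroup X) [K.Normal] (hab : ∀ x y : X, x * y * x⁻¹ * y⁻¹ ∈ K)
    (x : X) (hx : ∀ φ ∈ A, x⁻¹ * φ x ∈ K) : x ∈ K :=
  fixedMod_mem_of_comm_quot h.two h.odd h.gen K hab x hx

open Cfsg.Agent.Lib.Helper12.SC3 in
/-- (G3) with the farm's `Hyp`: fixed elements. -/
theorem Hyp_fixed_mem [Finite X] {A : Subgroup (MulAut X)} (h : Hyp A)
    (K : Subgroup X) [K.Normal] (hab : ∀ x y : X, x * y * x⁻¹ * y⁻¹ ∈ K)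
    (x : X) (hx : ∀ φ ∈ A, φ x = x) : x ∈ K :=
  fixed_mem_of_comm_quot h.two h.odd h.gen K hab x hx

open Cfsg.Agent.Lib.Helper12.SC3 in
/-- (G3) consequence: an element fixed by all of `A` lies in the commutator subgroup `X'`. -/
theorem Hyp_fixed_mem_commutator [Finite X] {A : Subgroup (MulAut X)} (h : Hyp A)
    (x : X) (hx : ∀ φ ∈ A, φ x = x) : x ∈ commutator X := by
  refine Hyp_fixed_mem h (commutator X) ?_ x hx
  intro a b
  rw [commutator_def]
  have := Subgroup.commutator_mem_commutator (Subgroup.mem_top a) (Subgroup.mem_top b)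
  rwa [commutatorElement_def] at this

end Cfsg.Agent.Lib.Helper8.SC3G3
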