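import Mathlib
import Cfsg.Agent.Lib.Helper28.OTDefs

/-!
# OT EXIT (helper8): the matrix identities (R1)-(R3) in the group `Z_L`, `L = U ⊗ ⟨k₁,k₂⟩`

Raw-matrix vocabulary: `E J w w' : x ↦ f(x,w') w`, `adj J C = J⁻¹ Cᵀ J`, `⊗ₖ`.
`TO J1 J2 C k k' = C ⊗ E_{k,k'} - C^* ⊗ E_{k',k}` (`g(C;k,k') = 1 + TO C k k'`).
-/

set_option autoImplicit false

namespace Cfsg.Agent.Lib.Helper8.OTRel

open Matrix Module
open Cfsg.Agent.Lib.Helper3.SpT (bf E adj uni E_mul_E E_mulVec E_add_left E_add_right E_smul_left E_smul_right conj_E)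
open Cfsg.Agent.Lib.Helper13.TensSO (OrthG IsoG)
open scoped Kronecker

variable {F : Type*} [Field F] {a b : ℕ}

section general

/-- the general commutator of two quadratic unipotent elements -/
theorem comm_formula {R : Type*} [Ring R] (X Y : R) (hX : X * X = 0) (hY : Y * Y = 0) :
    (1 + X) * (1 + Y) * (1 - X) * (1 - Y) = 1 + X * Y - Y * X - X * Y * X + Y * X * Y + X * Y * X * Y := by
  have h1 : (1 + X) * (1 + Y) * (1 - X) = 1 + Y + X * Y - Y * X - X * Y * X := by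
    have : (1 + X) * (1 + Y) * (1 - X) = 1 + Y + X * Y - Y * X - X * Y * X + (X - X) - X * X - X * X * Y * 0 := by
      noncomm_ring
    rw [this, hX]; noncomm_ring
  rw [h1]
  have : (1 + Y + X * Y - Y * X - X * Y * X) * (1 - Y) =
      1 + X * Y - Y * X - X * Y * X + Y * X * Y + X * Y * X * Y - Y * Y - X * (Y * Y) := by
    noncomm_ring
  rw [this, hY]; noncomm_ring

theorem neg_kron {l m n p : Type*} (A : Matrix l m F) (B : Matrix n p F) : (-A) ⊗ₖ B = -(A ⊗ₖ B) := by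
  ext ⟨i, i'⟩ ⟨j, j'⟩
  simp

theorem sub_kron {l m n p : Type*} (A A' : Matrix l m F) (B : Matrix n p F) :
    (A - A') ⊗ₖ B = A ⊗ₖ B - A' ⊗ₖ B := by
  ext ⟨i, i'⟩ ⟨j, j'⟩
  simp [sub_mul]

theorem sub_kron_right {l m n p : Type*} (A : Matrix l m F) (B B' : Matrix n p F) :
    A ⊗ₖ (B - B') = A ⊗ₖ B - A ⊗ₖ B' := by
  ext ⟨i, i'⟩ ⟨j, j'⟩
  simp [mul_sub]

end general

variable (J1 : Matrix (Fin a) (Fin a) F) (J2 : Matrix (Fin b) (Fin b) F)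

/-- products of the elementary tensors `A ⊗ E_{w,w'}` -/
theorem kE_mul (A A' : Matrix (Fin a) (Fin a) F) (w w' y y' : Fin b → F) :
    (A ⊗ₖ E J2 w w') * (A' ⊗ₖ E J2 y y') = bf J2 y w' • ((A * A') ⊗ₖ E J2 w y') := by
  rw [← Matrix.mul_kronecker_mul, E_mul_E, Matrix.kronecker_smul]

/-- `C ⊗ E_{k,k'} - C^* ⊗ E_{k',k}` -/
noncomputable def TO (C : Matrix (Fin a) (Fin a) F) (k k' : Fin b → F) :
    Matrix (Fin a × Fin b) (Fin a × Fin b) F :=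
  C ⊗ₖ E J2 k k' - adj J1 C ⊗ₖ E J2 k' k

theorem TO_sq (hJ2 : OrthG J2) (C : Matrix (Fin a) (Fin a) F) {k k' : Fin b → F}
    (hkk : bf J2 k k = 0) (hkk' : bf J2 k k' = 0) (hk'k' : bf J2 k' k' = 0) :
    TO J1 J2 C k k' * TO J1 J2 C k k' = 0 := by
  have hk'k : bf J2 k' k = 0 := by rw [hJ2.symm, hkk']
  unfold TO
  rw [sub_mul, mul_sub, mul_sub, kE_mul, kE_mul, kE_mul, kE_mul, hkk', hk'k', hkk, hk'k]
  simp

theorem adj_mul' (hJ1 : OrthG J1) (C D : Matrix (Fin a) (Fin a) F) : adj J1 (C * D) = adj J1 D * adj J1 C := by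
  have hdet : IsUnit J1.det := by
    rw [← Matrix.isUnit_iff_isUnit_det, ← Matrix.mulVec_injective_iff_isUnit]
    intro x y hxy
    have h : ∀ z, bf J1 (x - y) z = 0 := by
      intro z
      rw [hJ1.symm]
      unfold bf
      rw [Matrix.mulVec_sub, hxy, sub_self, dotProduct_zero]
    exact sub_eq_zero.mp (hJ1.nondeg _ h)
  unfold adj
  rw [Matrix.transpose_mul]
  calc J1⁻¹ * (Dᵀ * Cᵀ) * J1 = J1⁻¹ * Dᵀ * (J1 * J1⁻¹) * Cᵀ * J1 := by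
        rw [Matrix.mul_nonsing_inv _ hdet, mul_one, mul_assoc J1⁻¹ Dᵀ Cᵀ]
    _ = J1⁻¹ * Dᵀ * J1 * (J1⁻¹ * Cᵀ * J1) := by simp only [mul_assoc]

theorem adj_sub' (C D : Matrix (Fin a) (Fin a) F) : adj J1 (C - D) = adj J1 C - adj J1 D := by
  unfold adj
  rw [Matrix.transpose_sub, mul_sub, sub_mul]

theorem adj_add' (C D : Matrix (Fin a) (Fin a) F) : adj J1 (C + D) = adj J1 C + adj J1 D := by
  unfold adj
  rw [Matrix.transpose_add, mul_add, add_mul]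

theorem adj_smul' (c : F) (C : Matrix (Fin a) (Fin a) F) : adj J1 (c • C) = c • adj J1 C := by
  unfold adj
  rw [Matrix.transpose_smul, Matrix.mul_smul, Matrix.smul_mul]

theorem adj_neg' (C : Matrix (Fin a) (Fin a) F) : adj J1 (-C) = - adj J1 C := by
  unfold adj
  rw [Matrix.transpose_neg, mul_neg, neg_mul]

theorem TO_add (C D : Matrix (Fin a) (Fin a) F) (k k' : Fin b → F) :
    TO J1 J2 (C + D) k k' = TO J1 J2 C k k' + TO J1 J2 D k k' := by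
  unfold TO
  rw [adj_add', Matrix.add_kronecker, Matrix.add_kronecker]
  abel

theorem TO_smul (c : F) (C : Matrix (Fin a) (Fin a) F) (k k' : Fin b → F) :
    TO J1 J2 (c • C) k k' = c • TO J1 J2 C k k' := by
  unfold TO
  rw [adj_smul', Matrix.smul_kronecker, Matrix.smul_kronecker, smul_sub]

theorem TO_neg (C : Matrix (Fin a) (Fin a) F) (k k' : Fin b → F) :
    TO J1 J2 (-C) k k' = - TO J1 J2 C k k' := by
  unfold TO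
  rw [adj_neg', neg_kron, neg_kron]
  abel

/-- **(R2)** `k₁` singular, `k₂, k₃` singular in `k₁^⊥`, `f₂(k₂,k₃) = 1`:
  `[g(C;k₁,k₂), g(D;k₁,k₃)] = 1 + (D C^* - C D^*) ⊗ E_{k₁,k₁}` -/
theorem R2 (hJ2 : OrthG J2) (C D : Matrix (Fin a) (Fin a) F) {k1 k2 k3 : Fin b → F}
    (h11 : bf J2 k1 k1 = 0) (h12 : bf J2 k1 k2 = 0) (h13 : bf J2 k1 k3 = 0) (h22 : bf J2 k2 k2 = 0)
    (h33 : bf J2 k3 k3 = 0) (h23 : bf J2 k2 k3 = 1) :
    (1 + TO J1 J2 C k1 k2) * (1 + TO J1 J2 D k1 k3) * (1 - TO J1 J2 C k1 k2) * (1 - TO J1 J2 D k1 k3) =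
      1 + (D * adj J1 C - C * adj J1 D) ⊗ₖ E J2 k1 k1 := by
  have h21 : bf J2 k2 k1 = 0 := by rw [hJ2.symm, h12]
  have h31 : bf J2 k3 k1 = 0 := by rw [hJ2.symm, h13]
  have h32 : bf J2 k3 k2 = 1 := by rw [hJ2.symm, h23]
  have hXY : TO J1 J2 C k1 k2 * TO J1 J2 D k1 k3 = -((C * adj J1 D) ⊗ₖ E J2 k1 k1) := by
    unfold TO
    rw [sub_mul, mul_sub, mul_sub, kE_mul, kE_mul, kE_mul, kE_mul, h12, h32, h11, h31]
    simp
  have hYX : TO J1 J2 D k1 k3 * TO J1 J2 C k1 k2 = -((D * adj J1 C) ⊗ₖ E J2 k1 k1) := by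
    unfold TO
    rw [sub_mul, mul_sub, mul_sub, kE_mul, kE_mul, kE_mul, kE_mul, h13, h23, h11, h21]
    simp
  have hEX : ∀ A : Matrix (Fin a) (Fin a) F, (A ⊗ₖ E J2 k1 k1) * TO J1 J2 C k1 k2 = 0 := by
    intro A
    unfold TO
    rw [mul_sub, kE_mul, kE_mul, h11, h21]
    simp
  have hEY : ∀ A : Matrix (Fin a) (Fin a) F, (A ⊗ₖ E J2 k1 k1) * TO J1 J2 D k1 k3 = 0 := by
    intro A
    unfold TO
    rw [mul_sub, kE_mul, kE_mul, h11, h31]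
    simp
  rw [comm_formula _ _ (TO_sq J1 J2 hJ2 C h11 h12 h22) (TO_sq J1 J2 hJ2 D h11 h13 h33)]
  have e1 : TO J1 J2 C k1 k2 * TO J1 J2 D k1 k3 * TO J1 J2 C k1 k2 = 0 := by
    rw [hXY, neg_mul, hEX, neg_zero]
  have e2 : TO J1 J2 D k1 k3 * TO J1 J2 C k1 k2 * TO J1 J2 D k1 k3 = 0 := by
    rw [hYX, neg_mul, hEY, neg_zero]
  rw [e1, zero_mul, e2, hXY, hYX, sub_kron]
  abel

/-- **(R3)** `f₂(k₁,l₁) = 1`, `k₂ ⊥ k₁, l₁`, all singular, `K^* = -K`: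
  `[1 + K ⊗ E_{k₁,k₁}, g(D;l₁,k₂)] = g(K D;k₁,k₂) * (1 - D^* K D ⊗ E_{k₂,k₂})` -/
theorem R3 (hJ1 : OrthG J1) (hJ2 : OrthG J2) (K D : Matrix (Fin a) (Fin a) F) (hK : adj J1 K = -K)
    {k1 l1 k2 : Fin b → F}
    (h11 : bf J2 k1 k1 = 0) (hll : bf J2 l1 l1 = 0) (h22 : bf J2 k2 k2 = 0) (h1l : bf J2 k1 l1 = 1)
    (h12 : bf J2 k1 k2 = 0) (hl2 : bf J2 l1 k2 = 0) :
    (1 + K ⊗ₖ E J2 k1 k1) * (1 + TO J1 J2 D l1 k2) * (1 - K ⊗ₖ E J2 k1 k1) * (1 - TO J1 J2 D l1 k2) =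
      (1 + TO J1 J2 (K * D) k1 k2) * (1 - (adj J1 D * K * D) ⊗ₖ E J2 k2 k2) := by
  have h21 : bf J2 k2 k1 = 0 := by rw [hJ2.symm, h12]
  have hl1 : bf J2 l1 k1 = 1 := by rw [hJ2.symm, h1l]
  have h2l : bf J2 k2 l1 = 0 := by rw [hJ2.symm, hl2]
  have hAA : (K ⊗ₖ E J2 k1 k1) * (K ⊗ₖ E J2 k1 k1) = 0 := by
    rw [kE_mul, h11, zero_smul]
  have hAY : (K ⊗ₖ E J2 k1 k1) * TO J1 J2 D l1 k2 = (K * D) ⊗ₖ E J2 k1 k2 := by
    unfold TO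
    rw [mul_sub, kE_mul, kE_mul, hl1, h21]
    simp
  have hYA : TO J1 J2 D l1 k2 * (K ⊗ₖ E J2 k1 k1) = -((adj J1 D * K) ⊗ₖ E J2 k2 k1) := by
    unfold TO
    rw [sub_mul, kE_mul, kE_mul, h12, h1l]
    simp
  have hadj : adj J1 (K * D) = -(adj J1 D * K) := by
    rw [adj_mul' J1 hJ1, hK, mul_neg]
  have hT : TO J1 J2 (K * D) k1 k2 = (K * D) ⊗ₖ E J2 k1 k2 + (adj J1 D * K) ⊗ₖ E J2 k2 k1 := by
    unfold TO
    rw [hadj, neg_kron, sub_neg_eq_add]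
  have hAYA : (K ⊗ₖ E J2 k1 k1) * TO J1 J2 D l1 k2 * (K ⊗ₖ E J2 k1 k1) = 0 := by
    rw [hAY, kE_mul, h12, zero_smul]
  have hYAY : TO J1 J2 D l1 k2 * (K ⊗ₖ E J2 k1 k1) * TO J1 J2 D l1 k2 =
      -((adj J1 D * K * D) ⊗ₖ E J2 k2 k2) := by
    rw [mul_assoc, hAY]
    unfold TO
    rw [sub_mul, kE_mul, kE_mul, h12, h1l]
    simp [mul_assoc]
  have hTE : TO J1 J2 (K * D) k1 k2 * ((adj J1 D * K * D) ⊗ₖ E J2 k2 k2) = 0 := by
    rw [hT, add_mul, kE_mul, kE_mul, h22, h21]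
    simp
  rw [comm_formula _ _ hAA (TO_sq J1 J2 hJ2 D hll hl2 h22), hAYA, zero_mul, hYAY, hAY, hYA, mul_sub, mul_one,
    add_mul, one_mul, hTE, hT]
  abel

/-! ## (R1): the action of `1 ⊗ β`, `β` an isometry of `W` stabilising `π = ⟨k₁,k₂⟩` -/

/-- the general element of `Z_L - 1`: `K₁ ⊗ E_{k₁,k₁} + C ⊗ E_{k₁,k₂} - C^* ⊗ E_{k₂,k₁} + K₂ ⊗ E_{k₂,k₂}` -/
noncomputable def zL (K1 C K2 : Matrix (Fin a) (Fin a) F) (k1 k2 : Fin b → F) :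
    Matrix (Fin a × Fin b) (Fin a × Fin b) F :=
  K1 ⊗ₖ E J2 k1 k1 + TO J1 J2 C k1 k2 + K2 ⊗ₖ E J2 k2 k2

theorem conj_kron (A : Matrix (Fin a) (Fin a) F) (X : Matrix (Fin b) (Fin b) F) (β : GL (Fin b) F) :
    ((1 : Matrix (Fin a) (Fin a) F) ⊗ₖ (β : Matrix (Fin b) (Fin b) F)) * (A ⊗ₖ X) *
        ((1 : Matrix (Fin a) (Fin a) F) ⊗ₖ ((β⁻¹ : GL (Fin b) F) : Matrix (Fin b) (Fin b) F)) =
      A ⊗ₖ ((β : Matrix (Fin b) (Fin b) F) * X * ((β⁻¹ : GL (Fin b) F) : Matrix (Fin b) (Fin b) F)) := by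
  rw [← Matrix.mul_kronecker_mul, ← Matrix.mul_kronecker_mul, one_mul, mul_one]

theorem conj_kron_E (A : Matrix (Fin a) (Fin a) F) (β : GL (Fin b) F) (hβ : β ∈ IsoG J2) (k k' : Fin b → F) :
    ((1 : Matrix (Fin a) (Fin a) F) ⊗ₖ (β : Matrix (Fin b) (Fin b) F)) * (A ⊗ₖ E J2 k k') *
        ((1 : Matrix (Fin a) (Fin a) F) ⊗ₖ ((β⁻¹ : GL (Fin b) F) : Matrix (Fin b) (Fin b) F)) =
      A ⊗ₖ E J2 ((β : Matrix (Fin b) (Fin b) F) *ᵥ k) ((β : Matrix (Fin b) (Fin b) F) *ᵥ k') := by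
  rw [conj_kron, conj_E β hβ]

theorem conj_TO (C : Matrix (Fin a) (Fin a) F) (β : GL (Fin b) F) (hβ : β ∈ IsoG J2) (k k' : Fin b → F) :
    ((1 : Matrix (Fin a) (Fin a) F) ⊗ₖ (β : Matrix (Fin b) (Fin b) F)) * TO J1 J2 C k k' *
        ((1 : Matrix (Fin a) (Fin a) F) ⊗ₖ ((β⁻¹ : GL (Fin b) F) : Matrix (Fin b) (Fin b) F)) =
      TO J1 J2 C ((β : Matrix (Fin b) (Fin b) F) *ᵥ k) ((β : Matrix (Fin b) (Fin b) F) *ᵥ k') := by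
  unfold TO
  rw [mul_sub, sub_mul, conj_kron_E J2 _ β hβ, conj_kron_E J2 _ β hβ]

/-- conjugation by `1 ⊗ β` moves the line -/
theorem conj_zL (K1 C K2 : Matrix (Fin a) (Fin a) F) (β : GL (Fin b) F) (hβ : β ∈ IsoG J2) (k1 k2 : Fin b → F) :
    ((1 : Matrix (Fin a) (Fin a) F) ⊗ₖ (β : Matrix (Fin b) (Fin b) F)) * zL J1 J2 K1 C K2 k1 k2 *
        ((1 : Matrix (Fin a) (Fin a) F) ⊗ₖ ((β⁻¹ : GL (Fin b) F) : Matrix (Fin b) (Fin b) F)) =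
      zL J1 J2 K1 C K2 ((β : Matrix (Fin b) (Fin b) F) *ᵥ k1) ((β : Matrix (Fin b) (Fin b) F) *ᵥ k2) := by
  unfold zL
  rw [mul_add, mul_add, add_mul, add_mul, conj_kron_E J2 _ β hβ, conj_kron_E J2 _ β hβ, conj_TO J1 J2 _ β hβ]

/-- rescaling the basis of `π` -/
theorem zL_smul (K1 C K2 : Matrix (Fin a) (Fin a) F) (t t' : F) (k1 k2 : Fin b → F) :
    zL J1 J2 K1 C K2 (t • k1) (t' • k2) = zL J1 J2 ((t * t) • K1) ((t * t') • C) ((t' * t') • K2) k1 k2 := by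
  unfold zL TO
  rw [adj_smul']
  simp only [E_smul_left, E_smul_right, Matrix.kronecker_smul, Matrix.smul_kronecker, smul_smul]
  rw [mul_comm t' t]

/-- the shear `k₂ ↦ k₂ + s k₁`: `z(K₁,C,K₂) ↦ z(K₁ + s (C - C^*) + s² K₂, C + s K₂, K₂)`  (**(R1)**) -/
theorem zL_shear (K1 C K2 : Matrix (Fin a) (Fin a) F) (hK2 : adj J1 K2 = -K2) (s : F) (k1 k2 : Fin b → F) :
    zL J1 J2 K1 C K2 k1 (k2 + s • k1) =
      zL J1 J2 (K1 + s • (C - adj J1 C) + (s * s) • K2) (C + s • K2) K2 k1 k2 := by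
  unfold zL TO
  rw [adj_add', adj_smul', hK2]
  simp only [E_add_left, E_add_right, E_smul_left, E_smul_right, Matrix.kronecker_add, Matrix.add_kronecker,
    Matrix.kronecker_smul, Matrix.smul_kronecker, smul_smul, sub_kron, neg_kron, smul_neg, smul_add]
  module

/-- **(R1)** in conjugation form -/
theorem R1 (K1 C K2 : Matrix (Fin a) (Fin a) F) (hK2 : adj J1 K2 = -K2) (β : GL (Fin b) F) (hβ : β ∈ IsoG J2)
    (s : F) (k1 k2 : Fin b → F) (h1 : (β : Matrix (Fin b) (Fin b) F) *ᵥ k1 = k1)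
    (h2 : (β : Matrix (Fin b) (Fin b) F) *ᵥ k2 = k2 + s • k1) :
    ((1 : Matrix (Fin a) (Fin a) F) ⊗ₖ (β : Matrix (Fin b) (Fin b) F)) * zL J1 J2 K1 C K2 k1 k2 *
        ((1 : Matrix (Fin a) (Fin a) F) ⊗ₖ ((β⁻¹ : GL (Fin b) F) : Matrix (Fin b) (Fin b) F)) =
      zL J1 J2 (K1 + s • (C - adj J1 C) + (s * s) • K2) (C + s • K2) K2 k1 k2 := by
  rw [conj_zL J1 J2 _ _ _ β hβ, h1, h2, zL_shear J1 J2 _ _ _ hK2]

/-- the torus: `β k₁ = t k₁`, `β k₂ = t' k₂` -/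
theorem R1_torus (K1 C K2 : Matrix (Fin a) (Fin a) F) (β : GL (Fin b) F) (hβ : β ∈ IsoG J2)
    (t t' : F) (k1 k2 : Fin b → F) (h1 : (β : Matrix (Fin b) (Fin b) F) *ᵥ k1 = t • k1)
    (h2 : (β : Matrix (Fin b) (Fin b) F) *ᵥ k2 = t' • k2) :
    ((1 : Matrix (Fin a) (Fin a) F) ⊗ₖ (β : Matrix (Fin b) (Fin b) F)) * zL J1 J2 K1 C K2 k1 k2 *
        ((1 : Matrix (Fin a) (Fin a) F) ⊗ₖ ((β⁻¹ : GL (Fin b) F) : Matrix (Fin b) (Fin b) F)) =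
      zL J1 J2 ((t * t) • K1) ((t * t') • C) ((t' * t') • K2) k1 k2 := by
  rw [conj_zL J1 J2 _ _ _ β hβ, h1, h2, zL_smul]

/-- `Z_L - 1` squares to zero and is additive -/
theorem zL_mul_zL (hJ2 : OrthG J2) (K1 C K2 K1' C' K2' : Matrix (Fin a) (Fin a) F) {k1 k2 : Fin b → F}
    (h11 : bf J2 k1 k1 = 0) (h12 : bf J2 k1 k2 = 0) (h22 : bf J2 k2 k2 = 0) :
    zL J1 J2 K1 C K2 k1 k2 * zL J1 J2 K1' C' K2' k1 k2 = 0 := by
  have h21 : bf J2 k2 k1 = 0 := by rw [hJ2.symm, h12]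
  unfold zL TO
  simp only [mul_add, add_mul, mul_sub, sub_mul, kE_mul, h11, h12, h21, h22, zero_smul]
  simp

theorem zL_add (K1 C K2 K1' C' K2' : Matrix (Fin a) (Fin a) F) (k1 k2 : Fin b → F) :
    zL J1 J2 (K1 + K1') (C + C') (K2 + K2') k1 k2 = zL J1 J2 K1 C K2 k1 k2 + zL J1 J2 K1' C' K2' k1 k2 := by
  unfold zL
  rw [TO_add, Matrix.add_kronecker, Matrix.add_kronecker]
  abel

theorem zL_smul_coeff (c : F) (K1 C K2 : Matrix (Fin a) (Fin a) F) (k1 k2 : Fin b → F) :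
    zL J1 J2 (c • K1) (c • C) (c • K2) k1 k2 = c • zL J1 J2 K1 C K2 k1 k2 := by
  unfold zL
  rw [TO_smul, Matrix.smul_kronecker, Matrix.smul_kronecker, smul_add, smul_add]

/-- `nL = z(0, 1, 0)` when `adj J1 1 = 1` -/
theorem nL_eq_zL (hadj1 : adj J1 (1 : Matrix (Fin a) (Fin a) F) = 1) (k1 k2 : Fin b → F) :
    Cfsg.Agent.Lib.Helper28.OT.nL (a := a) J2 k1 k2 = zL J1 J2 0 1 0 k1 k2 := by
  unfold zL TO Cfsg.Agent.Lib.Helper28.OT.nL Cfsg.Agent.Lib.Helper28.OT.T2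
  rw [hadj1, Matrix.zero_kronecker, Matrix.zero_kronecker, zero_add, add_zero, ← sub_kron_right]

/-! ## `GL`-level versions -/

theorem KE_sq (K : Matrix (Fin a) (Fin a) F) {k : Fin b → F} (hkk : bf J2 k k = 0) :
    (K ⊗ₖ E J2 k k) * (K ⊗ₖ E J2 k k) = 0 := by
  rw [kE_mul, hkk, zero_smul]

/-- `g(C;k,k') = 1 + C ⊗ E_{k,k'} - C^* ⊗ E_{k',k}` -/
noncomputable def gTO (hJ2 : OrthG J2) (C : Matrix (Fin a) (Fin a) F) (k k' : Fin b → F)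
    (hkk : bf J2 k k = 0) (hkk' : bf J2 k k' = 0) (hk'k' : bf J2 k' k' = 0) : GL (Fin a × Fin b) F :=
  uni (TO J1 J2 C k k') (TO_sq J1 J2 hJ2 C hkk hkk' hk'k')

/-- `1 + K ⊗ E_{k,k}` -/
noncomputable def gK (K : Matrix (Fin a) (Fin a) F) (k : Fin b → F) (hkk : bf J2 k k = 0) : GL (Fin a × Fin b) F :=
  uni (K ⊗ₖ E J2 k k) (KE_sq J2 K hkk)

/-- `1 + z(K₁,C,K₂)` -/
noncomputable def gZ (hJ2 : OrthG J2) (K1 C K2 : Matrix (Fin a) (Fin a) F) (k1 k2 : Fin b → F)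
    (h11 : bf J2 k1 k1 = 0) (h12 : bf J2 k1 k2 = 0) (h22 : bf J2 k2 k2 = 0) : GL (Fin a × Fin b) F :=
  uni (zL J1 J2 K1 C K2 k1 k2) (zL_mul_zL J1 J2 hJ2 K1 C K2 K1 C K2 h11 h12 h22)

theorem gTO_val (hJ2 : OrthG J2) (C : Matrix (Fin a) (Fin a) F) (k k' : Fin b → F)
    (hkk : bf J2 k k = 0) (hkk' : bf J2 k k' = 0) (hk'k' : bf J2 k' k' = 0) :
    ((gTO J1 J2 hJ2 C k k' hkk hkk' hk'k' : GL (Fin a × Fin b) F) : Matrix (Fin a × Fin b) (Fin a × Fin b) F) =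
      1 + TO J1 J2 C k k' := rfl

theorem gK_val (K : Matrix (Fin a) (Fin a) F) (k : Fin b → F) (hkk : bf J2 k k = 0) :
    ((gK J2 K k hkk : GL (Fin a × Fin b) F) : Matrix (Fin a × Fin b) (Fin a × Fin b) F) = 1 + K ⊗ₖ E J2 k k := rfl

theorem gZ_val (hJ2 : OrthG J2) (K1 C K2 : Matrix (Fin a) (Fin a) F) (k1 k2 : Fin b → F)
    (h11 : bf J2 k1 k1 = 0) (h12 : bf J2 k1 k2 = 0) (h22 : bf J2 k2 k2 = 0) :
    ((gZ J1 J2 hJ2 K1 C K2 k1 k2 h11 h12 h22 : GL (Fin a × Fin b) F) : Matrix (Fin a × Fin b) (Fin a × Fin b) F) =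
      1 + zL J1 J2 K1 C K2 k1 k2 := rfl

/-- `Z_L` is abelian, parametrised additively -/
theorem gZ_mul (hJ2 : OrthG J2) (K1 C K2 K1' C' K2' : Matrix (Fin a) (Fin a) F) (k1 k2 : Fin b → F)
    (h11 : bf J2 k1 k1 = 0) (h12 : bf J2 k1 k2 = 0) (h22 : bf J2 k2 k2 = 0) :
    gZ J1 J2 hJ2 K1 C K2 k1 k2 h11 h12 h22 * gZ J1 J2 hJ2 K1' C' K2' k1 k2 h11 h12 h22 =
      gZ J1 J2 hJ2 (K1 + K1') (C + C') (K2 + K2') k1 k2 h11 h12 h22 := by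
  apply Units.ext
  rw [Units.val_mul, gZ_val, gZ_val, gZ_val, zL_add, add_mul, mul_add, mul_add, one_mul, mul_one, one_mul,
    zL_mul_zL J1 J2 hJ2 _ _ _ _ _ _ h11 h12 h22]
  abel

/-- **(R2)**, group form -/
theorem R2_GL (hJ2 : OrthG J2) (C D : Matrix (Fin a) (Fin a) F) {k1 k2 k3 : Fin b → F}
    (h11 : bf J2 k1 k1 = 0) (h12 : bf J2 k1 k2 = 0) (h13 : bf J2 k1 k3 = 0) (h22 : bf J2 k2 k2 = 0)
    (h33 : bf J2 k3 k3 = 0) (h23 : bf J2 k2 k3 = 1) :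
    gTO J1 J2 hJ2 C k1 k2 h11 h12 h22 * gTO J1 J2 hJ2 D k1 k3 h11 h13 h33 *
        (gTO J1 J2 hJ2 C k1 k2 h11 h12 h22)⁻¹ * (gTO J1 J2 hJ2 D k1 k3 h11 h13 h33)⁻¹ =
      gK J2 (D * adj J1 C - C * adj J1 D) k1 h11 := by
  apply Units.ext
  simp only [Units.val_mul]
  exact R2 J1 J2 hJ2 C D h11 h12 h13 h22 h33 h23

/-- **(R3)**, group form -/
theorem R3_GL (hJ1 : OrthG J1) (hJ2 : OrthG J2) (K D : Matrix (Fin a) (Fin a) F) (hK : adj J1 K = -K)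
    {k1 l1 k2 : Fin b → F}
    (h11 : bf J2 k1 k1 = 0) (hll : bf J2 l1 l1 = 0) (h22 : bf J2 k2 k2 = 0) (h1l : bf J2 k1 l1 = 1)
    (h12 : bf J2 k1 k2 = 0) (hl2 : bf J2 l1 k2 = 0) :
    gK J2 K k1 h11 * gTO J1 J2 hJ2 D l1 k2 hll hl2 h22 * (gK J2 K k1 h11)⁻¹ *
        (gTO J1 J2 hJ2 D l1 k2 hll hl2 h22)⁻¹ =
      gTO J1 J2 hJ2 (K * D) k1 k2 h11 h12 h22 * (gK J2 (adj J1 D * K * D) k2 h22)⁻¹ := by
  apply Units.ext
  simp only [Units.val_mul]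
  exact R3 J1 J2 hJ1 hJ2 K D hK h11 hll h22 h1l h12 hl2

/-- **(R1)**, group form: `n` any element of `GL` with matrix `1 ⊗ β` -/
theorem R1_GL (hJ2 : OrthG J2) (K1 C K2 : Matrix (Fin a) (Fin a) F) (β : GL (Fin b) F) (hβ : β ∈ IsoG J2)
    (n : GL (Fin a × Fin b) F)
    (hn : (n : Matrix (Fin a × Fin b) (Fin a × Fin b) F) = (1 : Matrix (Fin a) (Fin a) F) ⊗ₖ (β : Matrix (Fin b) (Fin b) F))
    (k1 k2 k1' k2' : Fin b → F)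
    (h11 : bf J2 k1 k1 = 0) (h12 : bf J2 k1 k2 = 0) (h22 : bf J2 k2 k2 = 0)
    (h11' : bf J2 k1' k1' = 0) (h12' : bf J2 k1' k2' = 0) (h22' : bf J2 k2' k2' = 0)
    (h1 : (β : Matrix (Fin b) (Fin b) F) *ᵥ k1 = k1') (h2 : (β : Matrix (Fin b) (Fin b) F) *ᵥ k2 = k2') :
    n * gZ J1 J2 hJ2 K1 C K2 k1 k2 h11 h12 h22 * n⁻¹ = gZ J1 J2 hJ2 K1 C K2 k1' k2' h11' h12' h22' := by
  have hninv : ((n⁻¹ : GL (Fin a × Fin b) F) : Matrix (Fin a × Fin b) (Fin a × Fin b) F) =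
      (1 : Matrix (Fin a) (Fin a) F) ⊗ₖ ((β⁻¹ : GL (Fin b) F) : Matrix (Fin b) (Fin b) F) := by
    have e1 : (n : Matrix (Fin a × Fin b) (Fin a × Fin b) F) *
        ((1 : Matrix (Fin a) (Fin a) F) ⊗ₖ ((β⁻¹ : GL (Fin b) F) : Matrix (Fin b) (Fin b) F)) = 1 := by
      rw [hn, ← Matrix.mul_kronecker_mul, one_mul, ← Units.val_mul, mul_inv_cancel, Units.val_one,
        Matrix.one_kronecker_one]
    have e2 : ((n⁻¹ : GL (Fin a × Fin b) F) : Matrix (Fin a × Fin b) (Fin a × Fin b) F) *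
        (n : Matrix (Fin a × Fin b) (Fin a × Fin b) F) = 1 := by
      rw [← Units.val_mul, inv_mul_cancel, Units.val_one]
    calc ((n⁻¹ : GL (Fin a × Fin b) F) : Matrix (Fin a × Fin b) (Fin a × Fin b) F)
        = ((n⁻¹ : GL (Fin a × Fin b) F) : Matrix (Fin a × Fin b) (Fin a × Fin b) F) *
            ((n : Matrix (Fin a × Fin b) (Fin a × Fin b) F) *
              ((1 : Matrix (Fin a) (Fin a) F) ⊗ₖ ((β⁻¹ : GL (Fin b) F) : Matrix (Fin b) (Fin b) F))) := by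
          rw [e1, mul_one]
      _ = _ := by rw [← mul_assoc, e2, one_mul]
  apply Units.ext
  rw [Units.val_mul, Units.val_mul, gZ_val, gZ_val, hninv, hn, mul_add, add_mul, mul_one,
    conj_zL J1 J2 _ _ _ β hβ, h1, h2, ← Matrix.mul_kronecker_mul, one_mul, ← Units.val_mul, mul_inv_cancel,
    Units.val_one, Matrix.one_kronecker_one]

end Cfsg.Agent.Lib.Helper8.OTRel
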