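import Mathlib
import Cfsg.Agent.Lib.Helper28.OTDefs

/-!
# OT ROOT-A (helper8): the spaces `tW W' = U ⊗ W'` row-wise

`tW W' = {v | every row `j ↦ v (i, j)` lies in `W'`}`; consequences: `finrank_tW`, `tW_le_tW_iff`, `tW_inf`, `exists_supp`
(exact shapes of helper28's `notes/S5681Skel_helper28.lean.txt`, PART 1 (a)-(d)).
-/

set_option autoImplicit false

namespace Cfsg.Agent.Lib.Helper8.OTRootA

open Matrix Module
open Cfsg.Agent.Lib.Helper16.Tens Cfsg.Agent.Lib.Helper10.TensFund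
open Cfsg.Agent.Lib.Helper28.OT

variable {F : Type*} [Field F] {a b : ℕ}

/-- the `i`-th row of a vector of `U ⊗ W` -/
def rowL (i : Fin a) : (Fin a × Fin b → F) →ₗ[F] (Fin b → F) where
  toFun v := fun j => v (i, j)
  map_add' _ _ := rfl
  map_smul' _ _ := rfl

@[simp] theorem rowL_apply (i : Fin a) (v : Fin a × Fin b → F) (j : Fin b) :
    rowL (F := F) i v j = v (i, j) := rfl

theorem rowL_pur (i : Fin a) (u : Fin a → F) (w : Fin b → F) : rowL i (pur u w) = u i • w := by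
  funext j
  simp [pur]

/-- the vectors all of whose rows lie in `W'` -/
def rowW (W' : Submodule F (Fin b → F)) : Submodule F (Fin a × Fin b → F) :=
  ⨅ i : Fin a, W'.comap (rowL i)

theorem mem_rowW_iff (W' : Submodule F (Fin b → F)) (v : Fin a × Fin b → F) :
    v ∈ rowW (a := a) W' ↔ ∀ i, rowL i v ∈ W' := by
  unfold rowW
  simp [Submodule.mem_iInf]

theorem eq_sum_pur_rowL (v : Fin a × Fin b → F) :
    v = ∑ i : Fin a, pur (Pi.single i (1 : F)) (rowL i v) := by
  funext p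
  obtain ⟨i, j⟩ := p
  rw [Finset.sum_apply]
  simp only [pur, rowL_apply]
  rw [Finset.sum_eq_single i]
  · simp
  · intro i' _ hne
    simp [hne.symm]
  · intro h
    exact absurd (Finset.mem_univ i) h

theorem tW_eq_rowW (W' : Submodule F (Fin b → F)) : tW (a := a) W' = rowW (a := a) W' := by
  apply le_antisymm
  · unfold tW
    rw [Submodule.span_le]
    rintro v ⟨u, w, hw, rfl⟩
    rw [SetLike.mem_coe, mem_rowW_iff]
    intro i
    rw [rowL_pur]
    exact W'.smul_mem _ hw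
  · intro v hv
    rw [mem_rowW_iff] at hv
    rw [eq_sum_pur_rowL v]
    exact Submodule.sum_mem _ (fun i _ => pur_mem_tW _ (hv i))

theorem mem_tW_iff (W' : Submodule F (Fin b → F)) (v : Fin a × Fin b → F) :
    v ∈ tW (a := a) W' ↔ ∀ i, rowL i v ∈ W' := by
  rw [tW_eq_rowW, mem_rowW_iff]

/-- `U ⊗ W' ≃ (W')^a` -/
def rowWEquiv (W' : Submodule F (Fin b → F)) : rowW (a := a) W' ≃ₗ[F] (Fin a → W') where
  toFun v := fun i => ⟨rowL i v.1, (mem_rowW_iff W' v.1).1 v.2 i⟩
  map_add' _ _ := rfl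
  map_smul' _ _ := rfl
  invFun f := ⟨fun p => (f p.1 : Fin b → F) p.2, by
    rw [mem_rowW_iff]
    intro i
    exact (f i).2⟩
  left_inv v := by
    apply Subtype.ext
    funext p
    rfl
  right_inv f := by
    funext i
    apply Subtype.ext
    funext j
    rfl

/-- ROOT (a) -/
theorem finrank_tW (W' : Submodule F (Fin b → F)) : finrank F (tW (a := a) W') = a * finrank F W' := by
  rw [tW_eq_rowW, LinearEquiv.finrank_eq (rowWEquiv (a := a) W'), Module.finrank_pi_fintype]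
  simp

/-- ROOT (b) -/
theorem tW_le_tW_iff (ha : 1 ≤ a) (W1 W2 : Submodule F (Fin b → F)) :
    tW (a := a) W1 ≤ tW (a := a) W2 ↔ W1 ≤ W2 := by
  constructor
  · intro h w hw
    have h1 : pur (Pi.single (⟨0, ha⟩ : Fin a) (1 : F)) w ∈ tW (a := a) W2 := h (pur_mem_tW _ hw)
    rw [mem_tW_iff] at h1
    have h2 := h1 ⟨0, ha⟩
    rw [rowL_pur] at h2
    simpa using h2
  · exact tW_mono

/-- ROOT (c) -/
theorem tW_inf (W1 W2 : Submodule F (Fin b → F)) :
    tW (a := a) W1 ⊓ tW (a := a) W2 = tW (a := a) (W1 ⊓ W2) := by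
  ext v
  rw [Submodule.mem_inf, mem_tW_iff, mem_tW_iff, mem_tW_iff]
  simp only [Submodule.mem_inf]
  exact ⟨fun h i => ⟨h.1 i, h.2 i⟩, fun h => ⟨fun i => (h i).1, fun i => (h i).2⟩⟩

/-- ROOT (d) : every subspace `L'` of `V` has a `W`-support: a least `W'` with `L' ≤ U ⊗ W'` -/
theorem exists_supp (L' : Submodule F (Fin a × Fin b → F)) :
    ∃ W' : Submodule F (Fin b → F), L' ≤ tW (a := a) W' ∧
      ∀ W'' : Submodule F (Fin b → F), L' ≤ tW (a := a) W'' → W' ≤ W'' := by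
  refine ⟨Submodule.span F {w | ∃ v ∈ L', ∃ i : Fin a, w = rowL i v}, ?_, ?_⟩
  · intro v hv
    rw [mem_tW_iff]
    intro i
    exact Submodule.subset_span ⟨v, hv, i, rfl⟩
  · intro W'' h
    rw [Submodule.span_le]
    rintro w ⟨v, hv, i, rfl⟩
    exact (mem_tW_iff W'' v).1 (h hv) i

/-- general `iInf` version of (c) -/
theorem tW_iInf {ι : Sort*} (Ws : ι → Submodule F (Fin b → F)) :
    ⨅ k, tW (a := a) (Ws k) = tW (a := a) (⨅ k, Ws k) := by
  ext v
  rw [Submodule.mem_iInf, mem_tW_iff]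
  simp only [mem_tW_iff, Submodule.mem_iInf]
  exact ⟨fun h i k => h k i, fun h k i => h i k⟩

end Cfsg.Agent.Lib.Helper8.OTRootA
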