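import Mathlib
import Cfsg.Agent.Lib.Helper28.OTDefs

/-!
# OT EXIT (helper8): a commutative reflection-invariant space of self-adjoint matrices consists of scalars

`U = F^κ` with a non-degenerate symmetric form `f = bf J`, `2 ≠ 0`, `dim U ≥ 3`, `(q, dim U) ≠ (3,3)`.
If `S` is an `F`-subspace of `f`-self-adjoint matrices, pairwise commuting, invariant under `C ↦ r_u C r_u` for all
reflections `r_u` (`u` anisotropic), then `S` consists of scalar matrices (`comm_selfadj_scalar`).
No hypothesis on the characteristic versus the dimension (works when `p ∣ dim U`).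

Proof: `C ∈ S` non-scalar; some anisotropic `u` is not an eigenvector (`scalar_of_aniso_eigen`);
`r_u C r_u - C = -(2/f(u,u)) (E_{u,v} + E_{v,u})`, `v = Cu - (f(Cu,u)/f(u,u)) u ⊥ u`, `v ≠ 0` (`refl_diff_mulVec`), so
`D₀ = E_{u,v} + E_{v,u} ∈ S`; for anisotropic `w`, `[D₀, r_w D₀ r_w - D₀] = 0` gives `D₀² w ∈ ⟨D₀ w, w⟩` (`key_rel`);
a suitable `w` contradicts this (`no_rel`).
-/

set_option autoImplicit false
set_option linter.unusedSectionVars false

namespace Cfsg.Agent.Lib.Helper8.OTSComm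

open Matrix Module
open Cfsg.Agent.Lib.Helper3.SpT (bf E adj E_mulVec bf_add_left bf_add_right bf_smul_left bf_smul_right bf_sub_left
  bf_sub_right bf_neg_left bf_neg_right bf_zero_left bf_zero_right mat_ext_mulVec)
open Cfsg.Agent.Lib.Helper13.TensSO (OrthG)

variable {F : Type*} [Field F] {κ : Type} [Fintype κ] [DecidableEq κ] {J : Matrix κ κ F}

theorem isUnit_det_of_orthG (hJ : OrthG J) : IsUnit J.det := by
  rw [← Matrix.isUnit_iff_isUnit_det, ← Matrix.mulVec_injective_iff_isUnit]
  intro x y hxy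
  have h : ∀ z, bf J (x - y) z = 0 := by
    intro z
    rw [hJ.symm]
    unfold bf
    rw [Matrix.mulVec_sub, hxy, sub_self, dotProduct_zero]
  exact sub_eq_zero.mp (hJ.nondeg _ h)

/-- `f(Cx, y) = f(x, C^* y)` -/
theorem bf_adj' (hJ : OrthG J) (C : Matrix κ κ F) (x y : κ → F) :
    bf J (C *ᵥ x) y = bf J x (adj J C *ᵥ y) := by
  unfold bf adj
  rw [Matrix.mulVec_mulVec, ← mul_assoc, ← mul_assoc, Matrix.mul_nonsing_inv _ (isUnit_det_of_orthG hJ), one_mul,
    ← Matrix.mulVec_mulVec, ← Matrix.vecMul_transpose, ← Matrix.dotProduct_mulVec]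

/-- self-adjointness in the vector form -/
def SA (J : Matrix κ κ F) (C : Matrix κ κ F) : Prop := ∀ x y, bf J (C *ᵥ x) y = bf J x (C *ᵥ y)

theorem SA_of_adj (hJ : OrthG J) {C : Matrix κ κ F} (h : adj J C = C) : SA J C := by
  intro x y
  rw [bf_adj' hJ, h]

/-- the reflection in `u^⊥` -/
noncomputable def rfM (J : Matrix κ κ F) (u : κ → F) : Matrix κ κ F := 1 - (2 / bf J u u) • E J u u

theorem rfM_mulVec (u x : κ → F) : rfM J u *ᵥ x = x - (2 / bf J u u * bf J x u) • u := by
  unfold rfM
  rw [Matrix.sub_mulVec, Matrix.one_mulVec, Matrix.smul_mulVec, E_mulVec, smul_smul]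

/-- `r_u C r_u - C = -(2/f(u,u)) (E_{u,v} + E_{v,u})`, `v = Cu - (f(Cu,u)/f(u,u)) u` -/
theorem refl_diff_mulVec (hJ : OrthG J) {C : Matrix κ κ F} (hC : SA J C) (u : κ → F) (hu : bf J u u ≠ 0) (x : κ → F) :
    (rfM J u * C * rfM J u - C) *ᵥ x =
      (-(2 / bf J u u)) • (bf J x u • (C *ᵥ u - (bf J (C *ᵥ u) u / bf J u u) • u) +
        bf J x (C *ᵥ u - (bf J (C *ᵥ u) u / bf J u u) • u) • u) := by
  have h1 : bf J x (C *ᵥ u) = bf J (C *ᵥ u) x := hJ.symm _ _
  rw [Matrix.sub_mulVec, ← Matrix.mulVec_mulVec, ← Matrix.mulVec_mulVec]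
  simp only [rfM_mulVec, Matrix.mulVec_sub, Matrix.mulVec_smul, bf_sub_left, bf_smul_left, bf_sub_right, bf_smul_right,
    hC x u, h1]
  ext i
  simp only [Pi.sub_apply, Pi.smul_apply, Pi.add_apply, smul_eq_mul]
  field_simp
  ring

/-- the key relation: if `C` commutes with `r_w C r_w - C` then `C² w ∈ ⟨C w, w⟩` -/
theorem key_rel (hJ : OrthG J) (h2 : (2 : F) ≠ 0) {C : Matrix κ κ F} (hC : SA J C) (w : κ → F) (hw : bf J w w ≠ 0)
    (hcomm : C * (rfM J w * C * rfM J w - C) = (rfM J w * C * rfM J w - C) * C) :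
    ∃ l m : F, C *ᵥ (C *ᵥ w) = l • (C *ᵥ w) + m • w := by
  have h := congrArg (fun A => A *ᵥ w) hcomm
  simp only [← Matrix.mulVec_mulVec] at h
  rw [refl_diff_mulVec hJ hC w hw, refl_diff_mulVec hJ hC w hw] at h
  set y := C *ᵥ w with hy
  set γ := bf J y w with hγ
  have h3 : bf J w (y - (γ / bf J w w) • w) = 0 := by
    rw [bf_sub_right, bf_smul_right, hJ.symm w y, ← hγ, div_mul_cancel₀ _ hw, sub_self]
  rw [h3, zero_smul, add_zero, Matrix.mulVec_smul, Matrix.mulVec_smul, Matrix.mulVec_sub, Matrix.mulVec_smul, ← hy] at h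
  set δ := bf J y (y - (γ / bf J w w) • w) with hδ
  refine ⟨2 * γ / bf J w w, (δ - γ * γ / bf J w w) / bf J w w, ?_⟩
  have h4 : (2 : F) • (C *ᵥ y) = (2 : F) • ((2 * γ / bf J w w) • y + ((δ - γ * γ / bf J w w) / bf J w w) • w) := by
    ext i
    have hi := congrFun h i
    simp only [Pi.sub_apply, Pi.smul_apply, Pi.add_apply, smul_eq_mul] at hi ⊢
    field_simp at hi ⊢
    linear_combination (-1 : F) * hi
  exact smul_right_injective _ h2 h4


theorem exists_aniso [Nonempty κ] (hJ : OrthG J) (h2 : (2 : F) ≠ 0) : ∃ u, bf J u u ≠ 0 := by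
  by_contra hcon
  push Not at hcon
  have hz : ∀ x y, bf J x y = 0 := by
    intro x y
    have h := hcon (x + y)
    rw [bf_add_left, bf_add_right, bf_add_right, hcon x, hcon y, hJ.symm y x] at h
    have h' : 2 * bf J x y = 0 := by linear_combination h
    exact (mul_eq_zero.mp h').resolve_left h2
  obtain ⟨i⟩ := ‹Nonempty κ›
  have := hJ.nondeg (Pi.single i 1) (fun y => hz _ y)
  have h1 := congrFun this i
  simp at h1

/-- the common orthogonal complement of two vectors -/
def perp2 (J : Matrix κ κ F) (u v : κ → F) : Submodule F (κ → F) where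
  carrier := {x | bf J x u = 0 ∧ bf J x v = 0}
  add_mem' := by
    rintro x y ⟨h1, h2⟩ ⟨h3, h4⟩
    exact ⟨by rw [bf_add_left, h1, h3, add_zero], by rw [bf_add_left, h2, h4, add_zero]⟩
  zero_mem' := ⟨bf_zero_left _ _, bf_zero_left _ _⟩
  smul_mem' := by
    rintro c x ⟨h1, h2⟩
    exact ⟨by rw [bf_smul_left, h1, mul_zero], by rw [bf_smul_left, h2, mul_zero]⟩

theorem mem_perp2 (u v x : κ → F) : x ∈ perp2 J u v ↔ bf J x u = 0 ∧ bf J x v = 0 := Iff.rfl

theorem finrank_perp2 (u v : κ → F) : Fintype.card κ ≤ finrank F (perp2 J u v) + 2 := by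
  let φ : (κ → F) →ₗ[F] (Fin 2 → F) :=
    { toFun := fun x => ![bf J x u, bf J x v]
      map_add' := by
        intro x y
        ext i
        fin_cases i
        · simp [bf_add_left]
        · simp [bf_add_left]
      map_smul' := by
        intro c x
        ext i
        fin_cases i
        · simp [bf_smul_left]
        · simp [bf_smul_left] }
  have hker : LinearMap.ker φ = perp2 J u v := by
    ext x
    rw [LinearMap.mem_ker, mem_perp2]
    constructor
    · intro h
      have h0 := congrFun h 0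
      have h1 := congrFun h 1
      exact ⟨by simpa [φ] using h0, by simpa [φ] using h1⟩
    · rintro ⟨h0, h1⟩
      ext i
      fin_cases i
      · simpa [φ] using h0
      · simpa [φ] using h1
  have h1 := LinearMap.finrank_range_add_finrank_ker φ
  rw [hker, Module.finrank_fintype_fun_eq_card] at h1
  have h2 : finrank F (LinearMap.range φ) ≤ 2 := by
    have := Submodule.finrank_le (LinearMap.range φ)
    rwa [Module.finrank_fintype_fun_eq_card, Fintype.card_fin] at this
  omega


/-- a non-zero vector orthogonal to two given ones (`dim ≥ 3`) -/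
theorem exists_perp2_ne_zero (ha : 3 ≤ Fintype.card κ) (u v : κ → F) :
    ∃ x, x ≠ 0 ∧ bf J x u = 0 ∧ bf J x v = 0 := by
  have h1 := finrank_perp2 (J := J) u v
  have h2 : 0 < finrank F (perp2 J u v) := by omega
  obtain ⟨⟨x, hx⟩, hx0⟩ := (Module.finrank_pos_iff_exists_ne_zero (R := F) (M := perp2 J u v)).1 h2
  refine ⟨x, ?_, hx.1, hx.2⟩
  intro h
  apply hx0
  exact Subtype.ext h

/-- two independent vectors orthogonal to two given ones (`dim ≥ 4`) -/
theorem exists_perp2_pair (ha : 4 ≤ Fintype.card κ) (u v : κ → F) :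
    ∃ x1 x2, x1 ∈ perp2 J u v ∧ x2 ∈ perp2 J u v ∧ ∀ c1 c2 : F, c1 • x1 + c2 • x2 = 0 → c1 = 0 ∧ c2 = 0 := by
  have h1 := finrank_perp2 (J := J) u v
  have h2 : 2 ≤ finrank F (perp2 J u v) := by omega
  obtain ⟨b, hb⟩ := exists_linearIndependent_of_le_finrank (R := F) (M := perp2 J u v) (n := 2) (by exact_mod_cast h2)
  refine ⟨(b 0).1, (b 1).1, (b 0).2, (b 1).2, ?_⟩
  intro c1 c2 h
  have h3 := Fintype.linearIndependent_iff.mp hb ![c1, c2] (by
    rw [Fin.sum_univ_two]
    apply Subtype.ext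
    simpa using h)
  exact ⟨by simpa using h3 0, by simpa using h3 1⟩

/-- polarisation: a subspace of singular vectors is totally isotropic -/
theorem polar_zero (hJ : OrthG J) (h2 : (2 : F) ≠ 0) (X : Submodule F (κ → F)) (h : ∀ x ∈ X, bf J x x = 0)
    {x y : κ → F} (hx : x ∈ X) (hy : y ∈ X) : bf J x y = 0 := by
  have h1 := h (x + y) (X.add_mem hx hy)
  rw [bf_add_left, bf_add_right, bf_add_right, h x hx, h y hy, hJ.symm y x] at h1
  have h' : 2 * bf J x y = 0 := by linear_combination h1
  exact (mul_eq_zero.mp h').resolve_left h2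

/-- an anisotropic vector orthogonal to two orthogonal anisotropic vectors -/
theorem exists_perp2_aniso (hJ : OrthG J) (h2 : (2 : F) ≠ 0) (ha : 3 ≤ Fintype.card κ) (u y : κ → F)
    (hu : bf J u u ≠ 0) (hy : bf J y y ≠ 0) (huy : bf J u y = 0) :
    ∃ x, bf J x u = 0 ∧ bf J x y = 0 ∧ bf J x x ≠ 0 := by
  by_contra hcon
  push Not at hcon
  have hsing : ∀ x ∈ perp2 J u y, bf J x x = 0 := fun x hx => hcon x hx.1 hx.2
  obtain ⟨x1, hx10, hx1u, hx1y⟩ := exists_perp2_ne_zero (J := J) ha u y
  apply hx10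
  apply hJ.nondeg
  intro z
  -- decompose z
  set r := z - (bf J z u / bf J u u) • u - (bf J z y / bf J y y) • y with hr
  have hyu : bf J y u = 0 := by rw [hJ.symm, huy]
  have hrX : r ∈ perp2 J u y := by
    constructor
    · rw [hr, bf_sub_left, bf_sub_left, bf_smul_left, bf_smul_left, hyu, div_mul_cancel₀ _ hu]
      ring
    · rw [hr, bf_sub_left, bf_sub_left, bf_smul_left, bf_smul_left, huy, div_mul_cancel₀ _ hy]
      ring
  have hz : z = r + (bf J z u / bf J u u) • u + (bf J z y / bf J y y) • y := by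
    rw [hr]; abel
  rw [hz, bf_add_right, bf_add_right, bf_smul_right, bf_smul_right, hx1u, hx1y,
    polar_zero hJ h2 _ hsing ⟨hx1u, hx1y⟩ hrX]
  ring


/-- Step 1: a self-adjoint matrix all of whose anisotropic vectors are eigenvectors is scalar -/
theorem scalar_of_aniso_eigen (hJ : OrthG J) (h2 : (2 : F) ≠ 0) (ha : 3 ≤ Fintype.card κ) {C : Matrix κ κ F}
    (hC : SA J C) (heig : ∀ u, bf J u u ≠ 0 → C *ᵥ u = (bf J (C *ᵥ u) u / bf J u u) • u) :
    ∃ c : F, C = c • 1 := by
  have : Nonempty κ := by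
    rw [← Fintype.card_pos_iff]; omega
  obtain ⟨u0, hu0⟩ := exists_aniso hJ h2
  set lam := bf J (C *ᵥ u0) u0 / bf J u0 u0 with hlam
  have hCu0 : C *ᵥ u0 = lam • u0 := heig u0 hu0
  -- (a)
  have hA : ∀ z y : κ → F, bf J z z ≠ 0 → C *ᵥ z = lam • z → bf J y y ≠ 0 → bf J y z ≠ 0 → C *ᵥ y = lam • y := by
    intro z y hz hCz hy hyz
    have h1 := heig y hy
    set mu := bf J (C *ᵥ y) y / bf J y y with hmu
    have h3 : bf J (C *ᵥ y) z = bf J y (C *ᵥ z) := hC y z
    rw [h1, hCz, bf_smul_left, bf_smul_right] at h3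
    have h4 : mu = lam := mul_right_cancel₀ hyz h3
    rw [h1, h4]
  -- all anisotropic vectors
  have hB : ∀ y : κ → F, bf J y y ≠ 0 → C *ᵥ y = lam • y := by
    intro y hy
    by_cases hyu : bf J y u0 = 0
    · -- find z
      have huy : bf J u0 y = 0 := by rw [hJ.symm, hyu]
      obtain ⟨x, hx⟩ : ∃ x, bf J x u0 = 0 ∧ bf J x y = 0 ∧ bf J u0 u0 + bf J y y + bf J x x ≠ 0 := by
        by_cases h : bf J u0 u0 + bf J y y = 0
        · obtain ⟨x, hx1, hx2, hx3⟩ := exists_perp2_aniso hJ h2 ha u0 y hu0 hy huy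
          exact ⟨x, hx1, hx2, by rw [h, zero_add]; exact hx3⟩
        · exact ⟨0, bf_zero_left _ _, bf_zero_left _ _, by rw [bf_zero_left, add_zero]; exact h⟩
      obtain ⟨hx1, hx2, hx3⟩ := hx
      have hux : bf J u0 x = 0 := by rw [hJ.symm, hx1]
      have hyx : bf J y x = 0 := by rw [hJ.symm, hx2]
      set z := u0 + y + x with hz
      have hzz : bf J z z = bf J u0 u0 + bf J y y + bf J x x := by
        rw [hz]
        simp only [bf_add_left, bf_add_right, huy, hyu, hux, hx1, hx2, hyx]
        ring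
      have hzu : bf J z u0 = bf J u0 u0 := by
        rw [hz]
        simp only [bf_add_left, hyu, hx1]
        ring
      have hyz : bf J y z = bf J y y := by
        rw [hz]
        simp only [bf_add_right, hyu, hyx]
        ring
      have hCz : C *ᵥ z = lam • z := hA u0 z hu0 hCu0 (by rw [hzz]; exact hx3) (by rw [hzu]; exact hu0)
      exact hA z y (by rw [hzz]; exact hx3) hCz hy (by rw [hyz]; exact hy)
    · exact hA u0 y hu0 hCu0 hy hyu
  -- all vectors
  refine ⟨lam, ?_⟩
  apply mat_ext_mulVec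
  intro z
  rw [Matrix.smul_mulVec, Matrix.one_mulVec]
  by_cases hz : bf J z z = 0
  · have key : ∀ t : F, t * t = 1 → bf J (z + t • u0) (z + t • u0) ≠ 0 → C *ᵥ z = lam • z := by
      intro t ht hne
      have h1 := hB _ hne
      have h3 : C *ᵥ (t • u0) = lam • (t • u0) := by
        rw [Matrix.mulVec_smul, hCu0, smul_comm]
      rw [Matrix.mulVec_add, h3, smul_add] at h1
      exact add_right_cancel h1
    by_cases h1 : bf J (z + (1 : F) • u0) (z + (1 : F) • u0) = 0
    · apply key (-1) (by ring)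
      intro h3
      apply hu0
      simp only [bf_add_left, bf_add_right, bf_smul_left, bf_smul_right, hz, hJ.symm u0 z] at h1 h3
      have : 2 * bf J u0 u0 = 0 := by linear_combination h1 + h3
      exact (mul_eq_zero.mp this).resolve_left h2
    · exact key 1 (by ring) h1
  · exact hB z hz


/-- `E_{u,v} + E_{v,u}` -/
def D0 (J : Matrix κ κ F) (u v : κ → F) : Matrix κ κ F := E J u v + E J v u

theorem D0_mulVec (u v x : κ → F) : D0 J u v *ᵥ x = bf J x v • u + bf J x u • v := by
  unfold D0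
  rw [Matrix.add_mulVec, E_mulVec, E_mulVec]

theorem SA_D0 (hJ : OrthG J) (u v : κ → F) : SA J (D0 J u v) := by
  intro x y
  rw [D0_mulVec, D0_mulVec, bf_add_left, bf_add_right, bf_smul_left, bf_smul_left, bf_smul_right, bf_smul_right,
    hJ.symm u y, hJ.symm v y]
  ring


/-- the test vector in the case `f(v,v) ≠ 0` -/
theorem exists_test (hJ : OrthG J) (h2 : (2 : F) ≠ 0) [Fintype F] (ha : 3 ≤ Fintype.card κ)
    (hex : ¬ (Fintype.card F = 3 ∧ Fintype.card κ = 3)) (u v : κ → F) (hu : bf J u u ≠ 0) :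
    ∃ x : κ → F, ∃ s : F, x ≠ 0 ∧ bf J x u = 0 ∧ bf J x v = 0 ∧ s ≠ 0 ∧ s * s * bf J u u + bf J x x ≠ 0 := by
  classical
  by_cases h4 : 4 ≤ Fintype.card κ
  · obtain ⟨x1, x2, hx1, hx2, hind⟩ := exists_perp2_pair (J := J) h4 u v
    have hne : ∀ c1 c2 : F, (c1 ≠ 0 ∨ c2 ≠ 0) → c1 • x1 + c2 • x2 ≠ 0 := by
      intro c1 c2 hc h
      obtain ⟨h1, h2'⟩ := hind c1 c2 h
      rcases hc with hc | hc
      · exact hc h1
      · exact hc h2'
    have hmem : ∀ c1 c2 : F, c1 • x1 + c2 • x2 ∈ perp2 J u v := fun c1 c2 =>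
      (perp2 J u v).add_mem ((perp2 J u v).smul_mem _ hx1) ((perp2 J u v).smul_mem _ hx2)
    by_contra hcon
    push Not at hcon
    have hval : ∀ c1 c2 : F, (c1 ≠ 0 ∨ c2 ≠ 0) →
        bf J (c1 • x1 + c2 • x2) (c1 • x1 + c2 • x2) = - bf J u u := by
      intro c1 c2 hc
      have := hcon (c1 • x1 + c2 • x2) 1 (hne c1 c2 hc) (hmem c1 c2).1 (hmem c1 c2).2 one_ne_zero
      linear_combination this
    have e1 := hval 1 0 (Or.inl one_ne_zero)
    have e2 := hval 0 1 (Or.inr one_ne_zero)
    have e3 := hval 1 1 (Or.inl one_ne_zero)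
    have e4 := hval 1 (-1) (Or.inl one_ne_zero)
    simp only [bf_add_left, bf_add_right, bf_smul_left, bf_smul_right, hJ.symm x2 x1] at e1 e2 e3 e4
    apply hu
    have : 2 * bf J u u = 0 := by linear_combination (-1 : F) * e3 - e4 + 2 * e1 + 2 * e2
    exact (mul_eq_zero.mp this).resolve_left h2
  · have ha3 : Fintype.card κ = 3 := by omega
    have hF3 : Fintype.card F ≠ 3 := fun h => hex ⟨h, ha3⟩
    obtain ⟨x, hx0, hxu, hxv⟩ := exists_perp2_ne_zero (J := J) ha u v
    by_contra hcon
    push Not at hcon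
    have hs : ∀ s : F, s ≠ 0 → s * s = 1 := by
      intro s hs
      have e1 := hcon x s hx0 hxu hxv hs
      have e2 := hcon x 1 hx0 hxu hxv one_ne_zero
      have : (s * s - 1) * bf J u u = 0 := by linear_combination e1 - e2
      rcases mul_eq_zero.mp this with h | h
      · linear_combination h
      · exact absurd h hu
    have hsub : (Finset.univ : Finset F) ⊆ {0, 1, -1} := by
      intro s _
      simp only [Finset.mem_insert, Finset.mem_singleton]
      by_cases h0 : s = 0
      · exact Or.inl h0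
      · right
        have := hs s h0
        have h3 : (s - 1) * (s + 1) = 0 := by linear_combination this
        rcases mul_eq_zero.mp h3 with h | h
        · left; linear_combination h
        · right; linear_combination h
    have hcard : Fintype.card F ≤ 3 := by
      rw [← Finset.card_univ]
      exact (Finset.card_le_card hsub).trans (Finset.card_le_three)
    -- card F is at least 3 and not 3... (char ≠ 2): 0, 1, -1 distinct so card ≥ 3
    have h3 : 3 ≤ Fintype.card F := by
      have h01 : (0 : F) ≠ -1 := by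
        intro h
        have : (1 : F) = 0 := by linear_combination h
        exact one_ne_zero this
      have h11 : (1 : F) ≠ -1 := by
        intro h
        apply h2
        linear_combination h
      have hinj : ({0, 1, -1} : Finset F).card = 3 :=
        Finset.card_eq_three.mpr ⟨0, 1, -1, zero_ne_one, h01, h11, rfl⟩
      rw [← hinj, ← Finset.card_univ]
      exact Finset.card_le_card (Finset.subset_univ _)
    exact hF3 (le_antisymm hcard h3)


/-- Step 4: a test vector contradicting the key relation -/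
theorem no_rel (hJ : OrthG J) (h2 : (2 : F) ≠ 0) [Fintype F] (ha : 3 ≤ Fintype.card κ)
    (hex : ¬ (Fintype.card F = 3 ∧ Fintype.card κ = 3)) (u v : κ → F) (hu : bf J u u ≠ 0) (huv : bf J u v = 0)
    (hv : v ≠ 0) :
    ∃ w, bf J w w ≠ 0 ∧ ¬ ∃ l m : F, D0 J u v *ᵥ (D0 J u v *ᵥ w) = l • (D0 J u v *ᵥ w) + m • w := by
  have hvu : bf J v u = 0 := by rw [hJ.symm, huv]
  have hDu : D0 J u v *ᵥ u = bf J u u • v := by
    rw [D0_mulVec, huv, zero_smul, zero_add]
  have hDv : D0 J u v *ᵥ v = bf J v v • u := by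
    rw [D0_mulVec, hvu, zero_smul, add_zero]
  have hDD : ∀ w, D0 J u v *ᵥ (D0 J u v *ᵥ w) = (bf J w v * bf J u u) • v + (bf J w u * bf J v v) • u := by
    intro w
    rw [D0_mulVec u v w, Matrix.mulVec_add, Matrix.mulVec_smul, Matrix.mulVec_smul, hDu, hDv, smul_smul, smul_smul]
  by_cases hvv : bf J v v = 0
  · -- `v` singular
    obtain ⟨y, hy⟩ : ∃ y, bf J v y ≠ 0 := by
      by_contra hcon
      push Not at hcon
      exact hv (hJ.nondeg v hcon)
    have hyv : bf J y v ≠ 0 := by rw [hJ.symm]; exact hy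
    obtain ⟨w, hww, hwv⟩ : ∃ w, bf J w w ≠ 0 ∧ bf J w v ≠ 0 := by
      by_cases hyy : bf J y y = 0
      · refine ⟨y + v, ?_, ?_⟩
        · simp only [bf_add_left, bf_add_right, hyy, hvv, hJ.symm v y]
          intro h
          have : 2 * bf J y v = 0 := by linear_combination h
          exact hyv ((mul_eq_zero.mp this).resolve_left h2)
        · rw [bf_add_left, hvv, add_zero]; exact hyv
      · exact ⟨y, hyy, hyv⟩
    refine ⟨w, hww, ?_⟩
    rintro ⟨l, m, hrel⟩
    rw [hDD, hvv, mul_zero, zero_smul, add_zero, D0_mulVec] at hrel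
    -- pair with v
    have e1 := congrArg (fun z => bf J z v) hrel
    simp only [bf_add_left, bf_smul_left, hvv, huv, mul_zero, add_zero, zero_add] at e1
    have hm : m = 0 := by
      rcases mul_eq_zero.mp e1.symm with h | h
      · exact h
      · exact absurd h hwv
    -- pair with u
    have e2 := congrArg (fun z => bf J z u) hrel
    simp only [bf_add_left, bf_smul_left, hvu, hm, mul_zero, add_zero, zero_mul] at e2
    have hl : l = 0 := by
      rcases mul_eq_zero.mp e2.symm with h | h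
      · exact h
      · exact absurd h (mul_ne_zero hwv hu)
    rw [hl, hm, zero_smul, zero_smul, add_zero] at hrel
    rcases smul_eq_zero.mp hrel with h | h
    · exact mul_ne_zero hwv hu h
    · exact hv h
  · -- `v` anisotropic
    obtain ⟨x, s, hx0, hxu, hxv, hs, hne⟩ := exists_test hJ h2 ha hex u v hu
    have hux : bf J u x = 0 := by rw [hJ.symm, hxu]
    have hvx : bf J v x = 0 := by rw [hJ.symm, hxv]
    refine ⟨s • u + x, ?_, ?_⟩
    · simp only [bf_add_left, bf_add_right, bf_smul_left, bf_smul_right, hux, hxu]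
      intro h
      apply hne
      linear_combination h
    · rintro ⟨l, m, hrel⟩
      have hwu : bf J (s • u + x) u = s * bf J u u := by
        rw [bf_add_left, bf_smul_left, hxu, add_zero]
      have hwv : bf J (s • u + x) v = 0 := by
        rw [bf_add_left, bf_smul_left, huv, hxv, mul_zero, add_zero]
      rw [hDD, D0_mulVec, hwu, hwv, zero_mul, zero_smul, zero_add, zero_smul, zero_add] at hrel
      -- pair with v
      have e1 := congrArg (fun z => bf J z v) hrel
      simp only [bf_add_left, bf_smul_left, huv, hxv, mul_zero, add_zero, zero_add] at e1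
      have hl : l = 0 := by
        have h3 : l * (s * bf J u u * bf J v v) = 0 := by linear_combination -e1
        rcases mul_eq_zero.mp h3 with h | h
        · exact h
        · exact absurd h (mul_ne_zero (mul_ne_zero hs hu) hvv)
      -- pair with u
      have e2 := congrArg (fun z => bf J z u) hrel
      simp only [bf_add_left, bf_smul_left, hvu, hxu, hl, mul_zero, add_zero, zero_mul, zero_add] at e2
      have hm : m = bf J u u * bf J v v := by
        have h3 : (m - bf J u u * bf J v v) * (s * bf J u u) = 0 := by linear_combination -e2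
        rcases mul_eq_zero.mp h3 with h | h
        · linear_combination h
        · exact absurd h (mul_ne_zero hs hu)
      rw [hl, hm, zero_smul, zero_add, smul_add, smul_smul] at hrel
      have h4 : (bf J u u * bf J v v) • x = 0 := by
        have : (s * bf J u u * bf J v v) • u = (bf J u u * bf J v v * s) • u := by ring_nf
        rw [this] at hrel
        exact (add_eq_left.mp hrel.symm)
      rcases smul_eq_zero.mp h4 with h | h
      · exact mul_ne_zero hu hvv h
      · exact hx0 h


/-- **main lemma** -/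
theorem comm_selfadj_scalar' [Fintype F] (hJ : OrthG J) (h2 : (2 : F) ≠ 0) (ha : 3 ≤ Fintype.card κ)
    (hex : ¬ (Fintype.card F = 3 ∧ Fintype.card κ = 3)) (S : Submodule F (Matrix κ κ F))
    (hself : ∀ C ∈ S, adj J C = C) (hcomm : ∀ C ∈ S, ∀ D ∈ S, C * D = D * C)
    (hinv : ∀ u, bf J u u ≠ 0 → ∀ C ∈ S, rfM J u * C * rfM J u ∈ S) :
    ∀ C ∈ S, ∃ c : F, C = c • (1 : Matrix κ κ F) := by
  intro C hC
  by_contra hns
  have hSA : SA J C := SA_of_adj hJ (hself C hC)
  obtain ⟨u, hu, hv⟩ : ∃ u, bf J u u ≠ 0 ∧ C *ᵥ u - (bf J (C *ᵥ u) u / bf J u u) • u ≠ 0 := by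
    by_contra hcon
    push Not at hcon
    exact hns (scalar_of_aniso_eigen hJ h2 ha hSA (fun u hu => sub_eq_zero.mp (hcon u hu)))
  set v := C *ᵥ u - (bf J (C *ᵥ u) u / bf J u u) • u with hvdef
  have huv : bf J u v = 0 := by
    rw [hvdef, bf_sub_right, bf_smul_right, hJ.symm u (C *ᵥ u), div_mul_cancel₀ _ hu, sub_self]
  have hD : rfM J u * C * rfM J u - C ∈ S := S.sub_mem (hinv u hu C hC) hC
  have hD0 : D0 J u v ∈ S := by
    have e : D0 J u v = (-(bf J u u / 2)) • (rfM J u * C * rfM J u - C) := by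
      apply mat_ext_mulVec
      intro x
      rw [Matrix.smul_mulVec, refl_diff_mulVec hJ hSA u hu, D0_mulVec, smul_smul, ← hvdef]
      have : -(bf J u u / 2) * -(2 / bf J u u) = 1 := by
        field_simp
      rw [this, one_smul, add_comm]
    rw [e]
    exact S.smul_mem _ hD
  obtain ⟨w, hw, hno⟩ := no_rel hJ h2 ha hex u v hu huv hv
  exact hno (key_rel hJ h2 (SA_D0 hJ u v) w hw (hcomm _ hD0 _ (S.sub_mem (hinv w hw _ hD0) hD0)))

/-- the `Fin a` version -/
theorem comm_selfadj_scalar [Fintype F] {a : ℕ} {J : Matrix (Fin a) (Fin a) F} (hJ : OrthG J) (h2 : (2 : F) ≠ 0)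
    (ha : 3 ≤ a) (hex : ¬ (Fintype.card F = 3 ∧ a = 3)) (S : Submodule F (Matrix (Fin a) (Fin a) F))
    (hself : ∀ C ∈ S, adj J C = C) (hcomm : ∀ C ∈ S, ∀ D ∈ S, C * D = D * C)
    (hinv : ∀ u, bf J u u ≠ 0 → ∀ C ∈ S, rfM J u * C * rfM J u ∈ S) :
    ∀ C ∈ S, ∃ c : F, C = c • (1 : Matrix (Fin a) (Fin a) F) :=
  comm_selfadj_scalar' hJ h2 (by rw [Fintype.card_fin]; exact ha) (by rw [Fintype.card_fin]; exact hex) S hself
    hcomm hinv

end Cfsg.Agent.Lib.Helper8.OTSComm
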