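import Mathlib
import Cfsg.Agent.Lib.Helper12.OTExitBU3
import Cfsg.Agent.Lib.Helper21.OTKSpread
import Cfsg.Agent.Lib.Helper28.OTExitDefs
import Cfsg.Agent.Lib.Helper8.OTSComm

/-!
# OT EXIT, `U`-level lemma (S): commutative self-adjoint Siegel-invariant subspaces are scalar  (helper8)

`J` a non-degenerate symmetric Gram matrix on `U = F^a`, `F` finite of odd characteristic.  A subspace `S` of self-adjoint
matrices which contains `1`, is commutative and is invariant under conjugation by all Siegel (Eichler) transformations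
`ρ_{e,z} = 1 + SgN J e z` (`e` singular, `z ⊥ e`) consists of scalars, provided `5 ≤ a`, or `3 ≤ a` and `3 < |F|`.
-/

set_option autoImplicit false
set_option linter.unusedSectionVars false
set_option linter.unusedVariables false

namespace Cfsg.Agent.Lib.Helper8.OTSEich

open Matrix Module
open Cfsg.Agent.Lib.Helper3.SpT (bf E adj E_mulVec mat_ext_mulVec bf_add_left bf_add_right bf_smul_left
  bf_smul_right bf_neg_left bf_neg_right bf_sub_left bf_sub_right bf_zero_left bf_zero_right)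
open Cfsg.Agent.Lib.Helper13.TensSO (OrthG)
open Cfsg.Agent.Lib.Helper12.OTExitBU (eich Wd eich_mulVec Wd_mulVec eich_zero eich_sub_eich_neg eich_mul
  eich_mul_neg eich_neg_mul eich_conj_E)
open Cfsg.Agent.Lib.Helper8.OTSComm (SA SA_of_adj)

variable {F : Type*} [Field F] {a : ℕ} {J : Matrix (Fin a) (Fin a) F}

/-- a hyperbolic pair `e, f` with an anisotropic `w ⊥ e, f` -/
structure HF (J : Matrix (Fin a) (Fin a) F) (e f w : Fin a → F) : Prop where
  orth : OrthG J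
  two : (2 : F) ≠ 0
  ee : bf J e e = 0
  ff : bf J f f = 0
  ef : bf J e f = 1
  ew : bf J e w = 0
  fw : bf J f w = 0
  ww : bf J w w ≠ 0

variable {e f w : Fin a → F}

theorem HF.fe (h : HF J e f w) : bf J f e = 1 := by rw [h.orth.symm, h.ef]

theorem HF.we (h : HF J e f w) : bf J w e = 0 := by rw [h.orth.symm, h.ew]

theorem HF.wf (h : HF J e f w) : bf J w f = 0 := by rw [h.orth.symm, h.fw]

theorem HF.e_ne (h : HF J e f w) : e ≠ 0 := by
  intro h0
  have := h.ef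
  rw [h0, bf_zero_left] at this
  exact zero_ne_one this

/-- the component of `x` in `⟨e,f⟩^⊥` -/
def pH (J : Matrix (Fin a) (Fin a) F) (e f x : Fin a → F) : Fin a → F := x - bf J x f • e - bf J x e • f

theorem HF.pH_e (h : HF J e f w) (x : Fin a → F) : bf J e (pH J e f x) = 0 := by
  unfold pH
  rw [bf_sub_right, bf_sub_right, bf_smul_right, bf_smul_right, h.ee, h.ef, h.orth.symm e x]
  ring

theorem HF.pH_f (h : HF J e f w) (x : Fin a → F) : bf J f (pH J e f x) = 0 := by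
  unfold pH
  rw [bf_sub_right, bf_sub_right, bf_smul_right, bf_smul_right, h.ff, h.fe, h.orth.symm f x]
  ring

theorem pH_dec (x : Fin a → F) : x = pH J e f x + bf J x f • e + bf J x e • f := by
  unfold pH
  abel

theorem eich_e {z : Fin a → F} (he : bf J e e = 0) (hz : bf J e z = 0) : eich J e z *ᵥ e = e := by
  rw [eich_mulVec, hz, he]
  simp

theorem eich_perp {z x : Fin a → F} (hx : bf J x e = 0) : eich J e z *ᵥ x = x + bf J x z • e := by
  rw [eich_mulVec, hx]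
  simp

/-- self-adjoint operators commuting with all `e ∧ z`, `z ⊥ e`, are `μ + ν E_{e,e}` -/
theorem comm_struct (h : HF J e f w) {C : Matrix (Fin a) (Fin a) F} (hC : SA J C)
    (hc : ∀ z, bf J e z = 0 → Wd J e z * C = C * Wd J e z) :
    C = bf J (C *ᵥ e) f • (1 : Matrix (Fin a) (Fin a) F) + bf J (C *ᵥ f) f • E J e e := by
  have hJ := h.orth
  have key : ∀ z, bf J e z = 0 → ∀ x,
      bf J (C *ᵥ x) z • e - bf J (C *ᵥ x) e • z = bf J x z • C *ᵥ e - bf J x e • C *ᵥ z := by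
    intro z hz x
    have := congrArg (fun A => A *ᵥ x) (hc z hz)
    simp only [← Matrix.mulVec_mulVec, Wd_mulVec, Matrix.mulVec_sub, Matrix.mulVec_smul] at this
    exact this
  have a1 := key w h.ew e
  rw [h.ew, h.ee, zero_smul, zero_smul, sub_zero] at a1
  have e3 : bf J (C *ᵥ e) e = 0 := by
    have := congrArg (fun v => bf J v w) a1
    simp only [bf_sub_left, bf_smul_left, h.ew, bf_zero_left, mul_zero, zero_sub] at this
    have h' : bf J (C *ᵥ e) e * bf J w w = 0 := by linear_combination -this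
    exact (mul_eq_zero.mp h').resolve_right h.ww
  have e1 : ∀ z, bf J e z = 0 → bf J (C *ᵥ e) z = 0 := by
    intro z hz
    have a2 := key z hz e
    rw [hz, h.ee, zero_smul, zero_smul, sub_zero, e3, zero_smul, sub_zero] at a2
    have := congrArg (fun v => bf J v f) a2
    simp only [bf_smul_left, h.ef, bf_zero_left, mul_one] at this
    exact this
  have hCe : C *ᵥ e = bf J (C *ᵥ e) f • e :=
    Cfsg.Agent.Lib.Helper21.OTKSpread.eq_smul_of_perp_perp hJ h.ef e1
  obtain ⟨μ, hμ⟩ : ∃ μ, μ = bf J (C *ᵥ e) f := ⟨_, rfl⟩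
  obtain ⟨ν, hν⟩ : ∃ ν, ν = bf J (C *ᵥ f) f := ⟨_, rfl⟩
  rw [← hμ] at hCe
  have hfe : bf J (C *ᵥ f) e = μ := by rw [hC, hJ.symm, hμ]
  -- `C z = μ z` on `⟨e,f⟩^⊥`
  have hCz0 : ∀ z, bf J e z = 0 → bf J f z = 0 → C *ᵥ z = μ • z - bf J (C *ᵥ f) z • e := by
    intro z hz hfz
    have c1 := key z hz f
    rw [hfe, hfz, zero_smul, zero_sub, h.fe, one_smul] at c1
    have : C *ᵥ z = -(bf J (C *ᵥ f) z • e - μ • z) := by rw [c1, neg_neg]
    rw [this]
    abel
  have hd : ∀ z, bf J e z = 0 → bf J f z = 0 → bf J (C *ᵥ f) z = 0 := by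
    intro z hz hfz
    have h1 : bf J (C *ᵥ z) f = bf J (C *ᵥ f) z := by rw [hC, hJ.symm]
    rw [hCz0 z hz hfz, bf_sub_left, bf_smul_left, bf_smul_left, h.ef, hJ.symm z f, hfz] at h1
    have h3 : (2 : F) * bf J (C *ᵥ f) z = 0 := by linear_combination -h1
    exact (mul_eq_zero.mp h3).resolve_left h.two
  have hCz : ∀ z, bf J e z = 0 → bf J f z = 0 → C *ᵥ z = μ • z := by
    intro z hz hfz
    rw [hCz0 z hz hfz, hd z hz hfz, zero_smul, sub_zero]
  have hCf : C *ᵥ f = ν • e + μ • f := by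
    have h0 : C *ᵥ f - (ν • e + μ • f) = 0 := by
      apply hJ.nondeg
      intro y
      have hy := hd (pH J e f y) (h.pH_e y) (h.pH_f y)
      unfold pH at hy
      rw [bf_sub_right, bf_sub_right, bf_smul_right, bf_smul_right, hfe, ← hν] at hy
      rw [bf_sub_left, bf_add_left, bf_smul_left, bf_smul_left, hJ.symm e y, hJ.symm f y]
      linear_combination hy
    exact sub_eq_zero.mp h0
  rw [← hμ, ← hν]
  apply mat_ext_mulVec
  intro x
  rw [Matrix.add_mulVec, Matrix.smul_mulVec, Matrix.smul_mulVec, Matrix.one_mulVec, E_mulVec]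
  have hx := pH_dec (J := J) (e := e) (f := f) x
  have hX := hCz (pH J e f x) (h.pH_e x) (h.pH_f x)
  conv_lhs => rw [hx]
  rw [Matrix.mulVec_add, Matrix.mulVec_add, Matrix.mulVec_smul, Matrix.mulVec_smul, hX, hCe, hCf]
  unfold pH
  ext i
  simp only [Pi.add_apply, Pi.sub_apply, Pi.smul_apply, smul_eq_mul]
  ring

/-- the hypotheses on `S` (in `eich` form) -/
structure Hyp (J : Matrix (Fin a) (Fin a) F) (S : Submodule F (Matrix (Fin a) (Fin a) F)) : Prop where
  sa : ∀ C ∈ S, SA J C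
  one : (1 : Matrix (Fin a) (Fin a) F) ∈ S
  comm : ∀ C ∈ S, ∀ D ∈ S, C * D = D * C
  inv : ∀ e z, bf J e e = 0 → bf J e z = 0 → ∀ C ∈ S, eich J e z * C * eich J e (-z) ∈ S

variable {S : Submodule F (Matrix (Fin a) (Fin a) F)}

/-- (L1) an element of `S` fixed by all `ρ_{e,z}` is scalar -/
theorem scalar_of_fixed (h : HF J e f w) (hS : Hyp J S) {C : Matrix (Fin a) (Fin a) F} (hCS : C ∈ S)
    (hfix : ∀ z, bf J e z = 0 → eich J e z * C * eich J e (-z) = C) : ∃ c : F, C = c • (1 : Matrix (Fin a) (Fin a) F) := by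
  have hJ := h.orth
  have hs := hJ.symm
  have h2 := h.two
  have hce : ∀ z, bf J e z = 0 → eich J e z * C = C * eich J e z := by
    intro z hz
    have h1 := congrArg (fun A => A * eich J e z) (hfix z hz)
    simp only [mul_assoc] at h1
    rw [eich_neg_mul hs h2 h.ee hz, mul_one] at h1
    exact h1
  have hcW : ∀ z, bf J e z = 0 → Wd J e z * C = C * Wd J e z := by
    intro z hz
    have hnz : bf J e (-z) = 0 := by rw [bf_neg_right, hz, neg_zero]
    have h1 : (eich J e z - eich J e (-z)) * C = C * (eich J e z - eich J e (-z)) := by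
      rw [sub_mul, mul_sub, hce z hz, hce (-z) hnz]
    rw [eich_sub_eich_neg, smul_mul_assoc, mul_smul_comm] at h1
    exact smul_right_injective _ h2 h1
  have hstr := comm_struct h (hS.sa C hCS) hcW
  obtain ⟨μ, hμ⟩ : ∃ μ, μ = bf J (C *ᵥ e) f := ⟨_, rfl⟩
  obtain ⟨ν, hν⟩ : ∃ ν, ν = bf J (C *ᵥ f) f := ⟨_, rfl⟩
  rw [← hμ, ← hν] at hstr
  by_cases hν0 : ν = 0
  · refine ⟨μ, ?_⟩
    rw [hstr, hν0, zero_smul, add_zero]
  exfalso
  have hE : E J e e ∈ S := by
    have h1 : E J e e = ν⁻¹ • (C - μ • (1 : Matrix (Fin a) (Fin a) F)) := by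
      rw [hstr, add_sub_cancel_left, smul_smul, inv_mul_cancel₀ hν0, one_smul]
    rw [h1]
    exact S.smul_mem _ (S.sub_mem hCS (S.smul_mem _ hS.one))
  obtain ⟨e', he'⟩ : ∃ e', e' = eich J f w *ᵥ e := ⟨_, rfl⟩
  have hE' : E J e' e' ∈ S := by
    have h1 := hS.inv f w h.ff h.fw _ hE
    rw [eich_conj_E hs h2 h.ff h.fw, ← he'] at h1
    exact h1
  have hee' : bf J e e' = -(bf J w w / 2) := by
    rw [he', eich_mulVec]
    simp only [bf_sub_right, bf_add_right, bf_smul_right, h.ee, h.ef, h.ew]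
    ring
  have hc := congrArg (fun A => A *ᵥ e) (hS.comm _ hE _ hE')
  simp only [← Matrix.mulVec_mulVec, E_mulVec, Matrix.mulVec_smul, h.ee, zero_smul, bf_zero_left] at hc
  rw [smul_smul] at hc
  rcases smul_eq_zero.mp hc with h0 | h0
  · rw [hs e' e, hee'] at h0
    have : bf J w w = 0 := by
      have h3 : bf J w w * bf J w w = 0 := by
        field_simp at h0
        linear_combination h0
      exact mul_self_eq_zero.mp h3
    exact h.ww this
  · exact h.e_ne h0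

/-- the elements of `S` killing `e` -/
def Tker (S : Submodule F (Matrix (Fin a) (Fin a) F)) (e : Fin a → F) : Submodule F (Matrix (Fin a) (Fin a) F) where
  carrier := {C | C ∈ S ∧ C *ᵥ e = 0}
  add_mem' := by
    rintro A B ⟨hA, hA'⟩ ⟨hB, hB'⟩
    exact ⟨S.add_mem hA hB, by rw [Matrix.add_mulVec, hA', hB', add_zero]⟩
  zero_mem' := ⟨S.zero_mem, Matrix.zero_mulVec _⟩
  smul_mem' := by
    rintro c A ⟨hA, hA'⟩
    exact ⟨S.smul_mem _ hA, by rw [Matrix.smul_mulVec, hA', smul_zero]⟩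

/-- (L2) an element of `S` killing `e` is zero -/
theorem ker_trivial [Fintype F] (h : HF J e f w) (hS : Hyp J S) {C : Matrix (Fin a) (Fin a) F} (hCS : C ∈ S)
    (hCe : C *ᵥ e = 0) : C = 0 := by
  by_contra hne
  have hs := h.orth.symm
  have hinv : ∀ z, bf J e z = 0 → ∀ K ∈ Tker S e, eich J e z * K * eich J e (-z) ∈ Tker S e := by
    rintro z hz K ⟨hK, hK'⟩
    refine ⟨hS.inv e z h.ee hz K hK, ?_⟩
    have hnz : bf J e (-z) = 0 := by rw [bf_neg_right, hz, neg_zero]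
    rw [← Matrix.mulVec_mulVec, ← Matrix.mulVec_mulVec, eich_e h.ee hnz, hK', Matrix.mulVec_zero]
  obtain ⟨K, ⟨hKS, hKe⟩, hK0, hKfix⟩ :=
    Cfsg.Agent.Lib.Helper12.OTExitBU.exists_fixed hs h.two h.ee (Tker S e) hinv ⟨C, ⟨hCS, hCe⟩, hne⟩
  obtain ⟨c, hc⟩ := scalar_of_fixed h hS hKS hKfix
  rw [hc, Matrix.smul_mulVec, Matrix.one_mulVec] at hKe
  rcases smul_eq_zero.mp hKe with h0 | h0
  · exact hK0 (by rw [hc, h0, zero_smul])
  · exact h.e_ne h0

/-- (L2') an element of `S` with eigenvector `e` is scalar -/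
theorem eq_smul_of_eigen [Fintype F] (h : HF J e f w) (hS : Hyp J S) {C : Matrix (Fin a) (Fin a) F} (hCS : C ∈ S)
    {μ : F} (hCe : C *ᵥ e = μ • e) : C = μ • (1 : Matrix (Fin a) (Fin a) F) := by
  have h1 : C - μ • (1 : Matrix (Fin a) (Fin a) F) = 0 := by
    apply ker_trivial h hS (S.sub_mem hCS (S.smul_mem _ hS.one))
    rw [Matrix.sub_mulVec, Matrix.smul_mulVec, Matrix.one_mulVec, hCe, sub_self]
  exact sub_eq_zero.mp h1

/-- (L3a) if `C e ⊥ e` then `ρ_z C ρ_z⁻¹ = C + f(C e, z)` -/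
theorem conj_eq_add [Fintype F] (h : HF J e f w) (hS : Hyp J S) {C : Matrix (Fin a) (Fin a) F} (hCS : C ∈ S)
    (hy : bf J (C *ᵥ e) e = 0) (z : Fin a → F) (hz : bf J e z = 0) :
    eich J e z * C * eich J e (-z) = C + bf J (C *ᵥ e) z • (1 : Matrix (Fin a) (Fin a) F) := by
  have hnz : bf J e (-z) = 0 := by rw [bf_neg_right, hz, neg_zero]
  have hD : eich J e z * C * eich J e (-z) - C ∈ S := S.sub_mem (hS.inv e z h.ee hz C hCS) hCS
  have hDe : (eich J e z * C * eich J e (-z) - C) *ᵥ e = bf J (C *ᵥ e) z • e := by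
    rw [Matrix.sub_mulVec, ← Matrix.mulVec_mulVec, ← Matrix.mulVec_mulVec, eich_e h.ee hnz, eich_perp hy,
      add_sub_cancel_left]
  have := eq_smul_of_eigen h hS hD hDe
  rw [← this]
  abel

/-- the vector form of `ρ_z C ρ_z⁻¹ = C + λ` -/
theorem rel_vec (h : HF J e f w) {C : Matrix (Fin a) (Fin a) F} {lam : F} {z : Fin a → F} (hz : bf J e z = 0)
    (hR : eich J e z * C * eich J e (-z) = C + lam • (1 : Matrix (Fin a) (Fin a) F)) (x : Fin a → F) :
    eich J e z *ᵥ (C *ᵥ x) = C *ᵥ (eich J e z *ᵥ x) + lam • (eich J e z *ᵥ x) := by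
  have h1 := congrArg (fun A => A * eich J e z) hR
  simp only [mul_assoc] at h1
  rw [eich_neg_mul h.orth.symm h.two h.ee hz, mul_one] at h1
  have h3 := congrArg (fun A => A *ᵥ x) h1
  simp only [← Matrix.mulVec_mulVec, Matrix.add_mulVec, Matrix.smul_mulVec, Matrix.one_mulVec] at h3
  exact h3

/-- the relation applied to `f` and paired with `f` -/
theorem cubic (h : HF J e f w) {C : Matrix (Fin a) (Fin a) F} (hC : SA J C)
    (hR : ∀ z, bf J e z = 0 →
      eich J e z * C * eich J e (-z) = C + bf J (C *ᵥ e) z • (1 : Matrix (Fin a) (Fin a) F))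
    (z : Fin a → F) (hz : bf J e z = 0) (hfz : bf J f z = 0) :
    4 * bf J (C *ᵥ f) z = -(bf J (C *ᵥ e) z * bf J z z) := by
  have hs := h.orth.symm
  have hzf : bf J z f = 0 := by rw [hs, hfz]
  have rel := rel_vec h hz (hR z hz) f
  have hρf : eich J e z *ᵥ f = f - z - (bf J z z / 2) • e := by
    rw [eich_mulVec, hfz, h.fe]
    simp
  rw [hρf] at rel
  have L : bf J (eich J e z *ᵥ (C *ᵥ f)) f =
      bf J (C *ᵥ f) f + bf J (C *ᵥ f) z - bf J z z / 2 * bf J (C *ᵥ f) e := by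
    rw [eich_mulVec]
    simp only [bf_sub_left, bf_add_left, bf_smul_left, h.ef, hzf]
    ring
  have R1 : bf J (C *ᵥ (f - z - (bf J z z / 2) • e)) f =
      bf J (C *ᵥ f) f - bf J (C *ᵥ f) z - bf J z z / 2 * bf J (C *ᵥ f) e := by
    rw [hC]
    simp only [bf_sub_left, bf_smul_left]
    rw [hs f (C *ᵥ f), hs z (C *ᵥ f), hs e (C *ᵥ f)]
  have R2 : bf J (f - z - (bf J z z / 2) • e) f = -(bf J z z / 2) := by
    simp only [bf_sub_left, bf_smul_left, h.ff, hzf, h.ef]
    ring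
  have := congrArg (fun v => bf J v f) rel
  simp only [bf_add_left, bf_smul_left] at this
  rw [L, R1, R2] at this
  have h2 := h.two
  field_simp at this
  linear_combination this

/-- `λ = 0` if `|F| > 3` -/
theorem lam_zero_of_t (h : HF J e f w) {C : Matrix (Fin a) (Fin a) F} (hC : SA J C) (hy : bf J (C *ᵥ e) e = 0)
    (hR : ∀ z, bf J e z = 0 →
      eich J e z * C * eich J e (-z) = C + bf J (C *ᵥ e) z • (1 : Matrix (Fin a) (Fin a) F))
    {t : F} (ht0 : t ≠ 0) (ht1 : t * t ≠ 1) : ∀ z, bf J e z = 0 → bf J (C *ᵥ e) z = 0 := by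
  have hJ := h.orth
  have hs := hJ.symm
  have h2 := h.two
  have P : ∀ z, bf J e z = 0 → bf J f z = 0 → bf J (C *ᵥ e) z * bf J z z = 0 := by
    intro z hz hfz
    have c1 := cubic h hC hR z hz hfz
    have c2 := cubic h hC hR (t • z) (by rw [bf_smul_right, hz, mul_zero]) (by rw [bf_smul_right, hfz, mul_zero])
    simp only [bf_smul_right, bf_smul_left] at c2
    have h3 : t * (t * t - 1) * (bf J (C *ᵥ e) z * bf J z z) = 0 := by linear_combination c2 - t * c1
    rcases mul_eq_zero.mp h3 with h4 | h4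
    · rcases mul_eq_zero.mp h4 with h5 | h5
      · exact absurd h5 ht0
      · exact absurd (sub_eq_zero.mp h5) ht1
    · exact h4
  have Pz : ∀ z1, bf J e z1 = 0 → bf J f z1 = 0 → bf J (C *ᵥ e) z1 = 0 := by
    intro z1 hz1 hfz1
    by_contra hne
    have Q1 : bf J z1 z1 = 0 := (mul_eq_zero.mp (P z1 hz1 hfz1)).resolve_left hne
    have hperp : ∀ w', bf J e w' = 0 → bf J f w' = 0 → bf J (C *ᵥ e) w' = 0 → bf J z1 w' = 0 := by
      intro w' hw' hfw' hyw'
      have p1 := P (z1 + w') (by rw [bf_add_right, hz1, hw', add_zero]) (by rw [bf_add_right, hfz1, hfw', add_zero])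
      have p2 := P (z1 - w') (by rw [bf_sub_right, hz1, hw', sub_zero]) (by rw [bf_sub_right, hfz1, hfw', sub_zero])
      rw [bf_add_right, hyw', add_zero] at p1
      rw [bf_sub_right, hyw', sub_zero] at p2
      have q1 := (mul_eq_zero.mp p1).resolve_left hne
      have q2 := (mul_eq_zero.mp p2).resolve_left hne
      rw [bf_add_left, bf_add_right, bf_add_right, Q1, hs w' z1] at q1
      rw [bf_sub_left, bf_sub_right, bf_sub_right, Q1, hs w' z1] at q2
      have h4 : (2 : F) * (2 * bf J z1 w') = 0 := by linear_combination q1 - q2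
      exact (mul_eq_zero.mp ((mul_eq_zero.mp h4).resolve_left h2)).resolve_left h2
    have hz0 : z1 = 0 := by
      apply hJ.nondeg
      intro v
      obtain ⟨c, hc⟩ : ∃ c, c = bf J (C *ᵥ e) (pH J e f v) / bf J (C *ᵥ e) z1 := ⟨_, rfl⟩
      have h5 := hperp (pH J e f v - c • z1)
        (by rw [bf_sub_right, bf_smul_right, h.pH_e, hz1]; ring)
        (by rw [bf_sub_right, bf_smul_right, h.pH_f, hfz1]; ring)
        (by rw [bf_sub_right, bf_smul_right, hc]; field_simp; ring)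
      rw [bf_sub_right, bf_smul_right, Q1, mul_zero, sub_zero] at h5
      have hv := pH_dec (J := J) (e := e) (f := f) v
      rw [hv, bf_add_right, bf_add_right, bf_smul_right, bf_smul_right, h5, hs z1 e, hz1, hs z1 f, hfz1]
      ring
    apply hne
    rw [hz0, bf_zero_right]
  intro z hz
  have hv := pH_dec (J := J) (e := e) (f := f) z
  rw [hv, bf_add_right, bf_add_right, bf_smul_right, bf_smul_right, Pz _ (h.pH_e z) (h.pH_f z), hy, hs z e, hz]
  ring

/-- `λ = 0` if `5 ≤ a` -/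
theorem lam_zero_of_five (h : HF J e f w) {C : Matrix (Fin a) (Fin a) F} (hC : SA J C) (hy : bf J (C *ᵥ e) e = 0)
    (hR : ∀ z, bf J e z = 0 →
      eich J e z * C * eich J e (-z) = C + bf J (C *ᵥ e) z • (1 : Matrix (Fin a) (Fin a) F))
    (ha : 5 ≤ a) : ∀ z, bf J e z = 0 → bf J (C *ᵥ e) z = 0 := by
  have hJ := h.orth
  have hs := hJ.symm
  intro z1 hz1
  by_contra hne
  obtain ⟨x, hx0, hx⟩ := Cfsg.Agent.Lib.Helper21.OTKSpread.exists_ne_zero_perp (J := J)
    (![e, f, C *ᵥ e, z1] : Fin 4 → Fin a → F) (by omega)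
  have hxe : bf J x e = 0 := by rw [hs]; exact hx 0
  have hxf : bf J x f = 0 := by rw [hs]; exact hx 1
  have hxy : bf J x (C *ᵥ e) = 0 := by rw [hs]; exact hx 2
  have hxz : bf J x z1 = 0 := by rw [hs]; exact hx 3
  have rel := rel_vec h hz1 (hR z1 hz1) x
  have hCxe : bf J (C *ᵥ x) e = 0 := by rw [hC, hxy]
  rw [eich_perp hxe, hxz, zero_smul, add_zero, eich_perp hCxe, add_right_inj] at rel
  have h3 := congrArg (fun v => bf J v f) rel
  simp only [bf_smul_left, h.ef, hxf, mul_zero, mul_one] at h3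
  rw [h3, zero_smul] at rel
  rcases smul_eq_zero.mp rel.symm with h4 | h4
  · exact hne h4
  · exact hx0 h4

theorem lam_zero (h : HF J e f w) {C : Matrix (Fin a) (Fin a) F} (hC : SA J C) (hy : bf J (C *ᵥ e) e = 0)
    (hR : ∀ z, bf J e z = 0 →
      eich J e z * C * eich J e (-z) = C + bf J (C *ᵥ e) z • (1 : Matrix (Fin a) (Fin a) F))
    (hq : 5 ≤ a ∨ ∃ t : F, t ≠ 0 ∧ t * t ≠ 1) : ∀ z, bf J e z = 0 → bf J (C *ᵥ e) z = 0 := by
  rcases hq with ha | ⟨t, ht0, ht1⟩
  · exact lam_zero_of_five h hC hy hR ha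
  · exact lam_zero_of_t h hC hy hR ht0 ht1

/-- (L3) an element `C` of `S` with `C e ⊥ e` is scalar -/
theorem scalar_of_perp [Fintype F] (h : HF J e f w) (hS : Hyp J S) (hq : 5 ≤ a ∨ ∃ t : F, t ≠ 0 ∧ t * t ≠ 1)
    {C : Matrix (Fin a) (Fin a) F} (hCS : C ∈ S) (hy : bf J (C *ᵥ e) e = 0) :
    ∃ c : F, C = c • (1 : Matrix (Fin a) (Fin a) F) := by
  have hR := conj_eq_add h hS hCS hy
  have hl := lam_zero h (hS.sa C hCS) hy hR hq
  exact scalar_of_fixed h hS hCS (fun z hz => by rw [hR z hz, hl z hz, zero_smul, add_zero])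

/-- (L4) `C e ⊥ e` for every `C ∈ S` -/
theorem perp_of_mem [Fintype F] (h : HF J e f w) (hS : Hyp J S) (hq : 5 ≤ a ∨ ∃ t : F, t ≠ 0 ∧ t * t ≠ 1)
    {C : Matrix (Fin a) (Fin a) F} (hCS : C ∈ S) : bf J (C *ᵥ e) e = 0 := by
  by_contra hα
  have hs := h.orth.symm
  have hnw : bf J e (-w) = 0 := by rw [bf_neg_right, h.ew, neg_zero]
  have hD : eich J e w * C * eich J e (-w) - C ∈ S := S.sub_mem (hS.inv e w h.ee h.ew C hCS) hCS
  have hDe : (eich J e w * C * eich J e (-w) - C) *ᵥ e =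
      bf J (C *ᵥ e) w • e - bf J (C *ᵥ e) e • w - (bf J w w / 2 * bf J (C *ᵥ e) e) • e := by
    rw [Matrix.sub_mulVec, ← Matrix.mulVec_mulVec, ← Matrix.mulVec_mulVec, eich_e h.ee hnw, eich_mulVec]
    abel
  have hDee : bf J ((eich J e w * C * eich J e (-w) - C) *ᵥ e) e = 0 := by
    rw [hDe]
    simp only [bf_sub_left, bf_smul_left, h.ee, h.we]
    ring
  obtain ⟨c, hc⟩ := scalar_of_perp h hS hq hD hDee
  rw [hc, Matrix.smul_mulVec, Matrix.one_mulVec] at hDe
  have h3 := congrArg (fun v => bf J v w) hDe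
  simp only [bf_sub_left, bf_smul_left, h.ew, mul_zero, zero_sub, sub_zero] at h3
  have h4 : bf J (C *ᵥ e) e * bf J w w = 0 := by linear_combination h3
  rcases mul_eq_zero.mp h4 with h5 | h5
  · exact hα h5
  · exact h.ww h5

/-- the lemma in `eich` form, for a given frame -/
theorem scalar_of_mem [Fintype F] (h : HF J e f w) (hS : Hyp J S) (hq : 5 ≤ a ∨ ∃ t : F, t ≠ 0 ∧ t * t ≠ 1)
    {C : Matrix (Fin a) (Fin a) F} (hCS : C ∈ S) : ∃ c : F, C = c • (1 : Matrix (Fin a) (Fin a) F) :=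
  scalar_of_perp h hS hq hCS (perp_of_mem h hS hq hCS)

/-- a frame exists -/
theorem exists_HF [Fintype F] (hJ : OrthG J) (h2 : (2 : F) ≠ 0) (ha : 3 ≤ a) : ∃ e f w : Fin a → F, HF J e f w := by
  obtain ⟨Q₀, hQ₀, hQ₀'⟩ := Cfsg.Agent.Lib.Helper3.OTT.SymG.exists_quad (J := J) ⟨hJ.symm, hJ.nondeg⟩ h2
  have hnd : ∀ v : Fin a → F, v ≠ 0 → ∃ x, QuadraticMap.polar (⇑Q₀) v x ≠ 0 := by
    intro v hv
    by_contra hcon
    exact hv (hJ.nondeg v (fun y => by
      rw [← hQ₀]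
      exact not_not.1 (fun h => hcon ⟨y, h⟩)))
  obtain ⟨e, f, he, hf, hef0⟩ := Cfsg.Agent.Lib.Helper10.QGeo.exists_hyp_pair Q₀ hnd ha
  have hee : bf J e e = 0 := by rw [← hQ₀' e, he, mul_zero]
  have hff : bf J f f = 0 := by rw [← hQ₀' f, hf, mul_zero]
  have hef : bf J e f = 1 := by rw [← hQ₀]; exact hef0
  have hfe : bf J f e = 1 := by rw [hJ.symm, hef]
  have hproj1 : ∀ x, ∃ x', (∀ i, bf J ((![e, f] : Fin 2 → Fin a → F) i) x' = 0) ∧
      ∀ u, (∀ i, bf J ((![e, f] : Fin 2 → Fin a → F) i) u = 0) → bf J u x' = bf J u x := by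
    intro x
    refine ⟨x - bf J x f • e - bf J x e • f, ?_, ?_⟩
    · intro i
      fin_cases i
      · show bf J e (x - bf J x f • e - bf J x e • f) = 0
        rw [bf_sub_right, bf_sub_right, bf_smul_right, bf_smul_right, hee, hef, hJ.symm e x]
        ring
      · show bf J f (x - bf J x f • e - bf J x e • f) = 0
        rw [bf_sub_right, bf_sub_right, bf_smul_right, bf_smul_right, hfe, hff, hJ.symm f x]
        ring
    · intro u hu
      have hu0 : bf J u e = 0 := by rw [hJ.symm]; exact hu 0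
      have hu1 : bf J u f = 0 := by rw [hJ.symm]; exact hu 1
      rw [bf_sub_right, bf_sub_right, bf_smul_right, bf_smul_right, hu0, hu1]
      ring
  obtain ⟨w1, hw1p, hw1⟩ := Cfsg.Agent.Lib.Helper21.OTKSpread.exists_aniso_perp hJ h2
    (![e, f] : Fin 2 → Fin a → F) (by omega) hproj1
  exact ⟨e, f, w1, ⟨hJ, h2, hee, hff, hef, hw1p 0, hw1p 1, hw1⟩⟩

/-- a field with `2 ≠ 0` and `|F| ≠ 3` has an element `t ≠ 0, ±1` -/
theorem exists_t [Fintype F] (h2 : (2 : F) ≠ 0) (h3 : Fintype.card F ≠ 3) : ∃ t : F, t ≠ 0 ∧ t * t ≠ 1 := by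
  classical
  by_contra hcon
  push Not at hcon
  apply h3
  have hu : (Finset.univ : Finset F) = {0, 1, -1} := by
    ext t
    simp only [Finset.mem_univ, Finset.mem_insert, Finset.mem_singleton, true_iff]
    by_cases ht : t = 0
    · exact Or.inl ht
    · right
      have h1 := hcon t ht
      have h4 : (t - 1) * (t + 1) = 0 := by linear_combination h1
      rcases mul_eq_zero.mp h4 with h5 | h5
      · exact Or.inl (sub_eq_zero.mp h5)
      · exact Or.inr (eq_neg_of_add_eq_zero_left h5)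
  rw [← Finset.card_univ, hu]
  have h01 : (0 : F) ≠ 1 := zero_ne_one
  have h0m : (0 : F) ≠ -1 := by
    intro h
    exact one_ne_zero (neg_eq_zero.mp h.symm)
  have h1m : (1 : F) ≠ -1 := by
    intro h
    apply h2
    linear_combination h
  rw [Finset.card_insert_of_notMem, Finset.card_insert_of_notMem, Finset.card_singleton]
  · simp [h1m]
  · simp [h01, h0m]

/-- `eich` is `1 + SgN` -/
theorem eich_eq_one_add_SgN (J : Matrix (Fin a) (Fin a) F) (e z : Fin a → F) :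
    eich J e z = 1 + Cfsg.Agent.Lib.Helper28.OTX.SgN J e z := by
  unfold eich Cfsg.Agent.Lib.Helper28.OTX.SgN
  abel

/-- **(S)**: a commutative subspace of self-adjoint matrices containing `1` and invariant under conjugation by all Siegel
transformations `ρ_{e,z} = 1 + SgN J e z` consists of scalar matrices (`5 ≤ a`, or `3 ≤ a` and `|F| ≠ 3`). -/
theorem s_lemma [Fintype F] (hJ : OrthG J) (h2 : (2 : F) ≠ 0) (ha : 3 ≤ a) (hq : 5 ≤ a ∨ Fintype.card F ≠ 3)
    (S : Submodule F (Matrix (Fin a) (Fin a) F)) (hself : ∀ C ∈ S, adj J C = C)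
    (hcomm : ∀ C ∈ S, ∀ D ∈ S, C * D = D * C) (h1 : (1 : Matrix (Fin a) (Fin a) F) ∈ S)
    (hinv : ∀ e z, bf J e e = 0 → bf J e z = 0 → ∀ C ∈ S,
      (1 + Cfsg.Agent.Lib.Helper28.OTX.SgN J e z) * C * (1 + Cfsg.Agent.Lib.Helper28.OTX.SgN J e (-z)) ∈ S) :
    ∀ C ∈ S, ∃ c : F, C = c • (1 : Matrix (Fin a) (Fin a) F) := by
  obtain ⟨e, f, w, h⟩ := exists_HF hJ h2 ha
  have hS : Hyp J S :=
    ⟨fun C hC => SA_of_adj hJ (hself C hC), h1, hcomm, fun e z he hz C hC => by
      rw [eich_eq_one_add_SgN, eich_eq_one_add_SgN]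
      exact hinv e z he hz C hC⟩
  have hq' : 5 ≤ a ∨ ∃ t : F, t ≠ 0 ∧ t * t ≠ 1 := by
    rcases hq with h5 | h3
    · exact Or.inl h5
    · exact Or.inr (exists_t h2 h3)
  intro C hC
  exact scalar_of_mem h hS hq' hC

/-- **(S)** in helper12's shape, `a ≠ 4` -/
theorem s_lemma_ne_four [Fintype F] (hJ : OrthG J) (h2 : (2 : F) ≠ 0) (ha : 3 ≤ a) (ha4 : a ≠ 4)
    (hex : ¬ (Fintype.card F = 3 ∧ a = 3))
    (S : Submodule F (Matrix (Fin a) (Fin a) F)) (hself : ∀ C ∈ S, adj J C = C)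
    (hcomm : ∀ C ∈ S, ∀ D ∈ S, C * D = D * C) (h1 : (1 : Matrix (Fin a) (Fin a) F) ∈ S)
    (hinv : ∀ e z, bf J e e = 0 → bf J e z = 0 → ∀ C ∈ S,
      (1 + Cfsg.Agent.Lib.Helper28.OTX.SgN J e z) * C * (1 + Cfsg.Agent.Lib.Helper28.OTX.SgN J e (-z)) ∈ S) :
    ∀ C ∈ S, ∃ c : F, C = c • (1 : Matrix (Fin a) (Fin a) F) := by
  refine s_lemma hJ h2 ha ?_ S hself hcomm h1 hinv
  by_cases h5 : 5 ≤ a
  · exact Or.inl h5
  · right
    intro h3
    exact hex ⟨h3, by omega⟩

/-- **(S)** for odd `a` -/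
theorem s_lemma_odd [Fintype F] (hJ : OrthG J) (h2 : (2 : F) ≠ 0) (ha : 3 ≤ a) (hodd : Odd a)
    (hex : ¬ (Fintype.card F = 3 ∧ a = 3))
    (S : Submodule F (Matrix (Fin a) (Fin a) F)) (hself : ∀ C ∈ S, adj J C = C)
    (hcomm : ∀ C ∈ S, ∀ D ∈ S, C * D = D * C) (h1 : (1 : Matrix (Fin a) (Fin a) F) ∈ S)
    (hinv : ∀ e z, bf J e e = 0 → bf J e z = 0 → ∀ C ∈ S,
      (1 + Cfsg.Agent.Lib.Helper28.OTX.SgN J e z) * C * (1 + Cfsg.Agent.Lib.Helper28.OTX.SgN J e (-z)) ∈ S) :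
    ∀ C ∈ S, ∃ c : F, C = c • (1 : Matrix (Fin a) (Fin a) F) := by
  refine s_lemma_ne_four hJ h2 ha ?_ hex S hself hcomm h1 hinv
  rintro rfl
  exact absurd hodd (by decide)

/-- **(S)** for `a = 4` (any type), `|F| ≠ 3` -/
theorem s_lemma_four [Fintype F] (hJ : OrthG J) (h2 : (2 : F) ≠ 0) (ha : 3 ≤ a) (h3 : Fintype.card F ≠ 3)
    (S : Submodule F (Matrix (Fin a) (Fin a) F)) (hself : ∀ C ∈ S, adj J C = C)
    (hcomm : ∀ C ∈ S, ∀ D ∈ S, C * D = D * C) (h1 : (1 : Matrix (Fin a) (Fin a) F) ∈ S)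
    (hinv : ∀ e z, bf J e e = 0 → bf J e z = 0 → ∀ C ∈ S,
      (1 + Cfsg.Agent.Lib.Helper28.OTX.SgN J e z) * C * (1 + Cfsg.Agent.Lib.Helper28.OTX.SgN J e (-z)) ∈ S) :
    ∀ C ∈ S, ∃ c : F, C = c • (1 : Matrix (Fin a) (Fin a) F) :=
  s_lemma hJ h2 ha (Or.inr h3) S hself hcomm h1 hinv

end Cfsg.Agent.Lib.Helper8.OTSEich
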