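import Cfsg.Agent.Lib.Helper8.ChevHi8

set_option autoImplicit false

/-! # Pairs of long root subgroups -/

namespace Cfsg.Agent.Lib.Helper8.Chev

open Cfsg.Lie Matrix

variable {D : ChevalleyDatum} {F : Type*} [Field F]

theorem hi_pair_pos (hD : D ∈ [chevG2, chevD4, chevE6, chevE7, chevE8]) {s : ℕ}
    (hs : s < D.nroots) (hne : s ≠ 0) :
    ∃ l : List ℕ, (∀ i ∈ l, i < D.rank) ∧ D.nroots / 2 ≤ reflWord D l (D.nroots - 1) ∧
      D.nroots / 2 ≤ reflWord D l s := by
  have hD' : D ∈ [chevG2, chevB2, chevD4, chevF4, chevE6, chevE7, chevE8] := by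
    simp only [List.mem_cons, List.not_mem_nil, or_false] at hD ⊢
    tauto
  have J := validJ_of_mem hD'
  have H := validH_of_mem hD'
  have hr := hi_lt hD'
  have V := valid0_of_mem hD'
  by_cases hpos : D.nroots / 2 ≤ s
  · refine ⟨[], by simp, ?_, hpos⟩
    show D.nroots / 2 ≤ D.nroots - 1
    have := V.even
    omega
  · have h : checkPair D = true := by
      simp only [List.mem_cons, List.not_mem_nil, or_false] at hD
      rcases hD with rfl | rfl | rfl | rfl | rfl
      · exact checkPair_G2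
      · exact checkPair_D4
      · exact checkPair_E6
      · exact checkPair_E7
      · exact checkPair_E8
    simp only [checkPair, forallLtF_eq_true, Bool.or_eq_true, Bool.and_eq_true, allF_eq_true,
      Nat.blt_eq, Nat.beq_eq, Nat.ble_eq] at h
    rcases h s (by omega) with h | ⟨⟨h1, h2⟩, h3⟩
    · exact absurd h hne
    · refine ⟨nthF [] (pairL D) s, h1, ?_, ?_⟩
      · rw [← reflWordF_eq J H.nS h1 hr]; exact h2
      · rw [← reflWordF_eq J H.nS h1 hs]; exact h3

theorem map_conj_of_mem_normalizer {G : Type*} [Group G] {K : Subgroup G} {g : G}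
    (hg : g ∈ Subgroup.normalizer (K : Set G)) : K.map (MulAut.conj g).toMonoidHom = K := by
  ext x
  constructor
  · rintro ⟨y, hy, rfl⟩
    exact (Subgroup.mem_normalizer_iff.mp hg y).mp hy
  · intro hx
    refine ⟨g⁻¹ * x * g, ?_, ?_⟩
    · have := (Subgroup.mem_normalizer_iff.mp (inv_mem hg) x).mp hx
      rwa [inv_inv] at this
    · simp [MulAut.conj_apply, mul_assoc]

/-- `n X_s n⁻¹ = X_{w(s)}` -/
theorem map_conj_nP (hD : D ∈ [chevG2, chevB2, chevD4, chevF4, chevE6, chevE7, chevE8])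
    {l : List ℕ} (hl : ∀ i ∈ l, i < D.rank) {s : ℕ} (hs : s < D.nroots) :
    (D.rootSubgroup F s).map (MulAut.conj (nP D F l)).toMonoidHom =
      D.rootSubgroup F (reflWord D l s) := by
  have V := valid0_of_mem hD
  have V1 := valid1_of_mem hD
  have J := validJ_of_mem hD
  have H := validH_of_mem hD
  have hP := (rootPermN_nP (F := F) J V1 H.nS l hl).rootPerm
  obtain ⟨hws, ε, e⟩ := hP s hs
  unfold ChevalleyDatum.rootSubgroup
  rw [MonoidHom.map_closure]
  congr 1
  ext y
  constructor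
  · rintro ⟨x, ⟨t, hx⟩, rfl⟩
    refine ⟨(ε : F) * t, ?_⟩
    show ((nP D F l * x * (nP D F l)⁻¹ : GL D.Idx F) : Matrix D.Idx D.Idx F) = _
    rw [Units.val_mul, Units.val_mul, hx, x_eq_xN, e, Matrix.mul_assoc, ← Units.val_mul,
      mul_inv_cancel, Units.val_one, Matrix.mul_one, x_eq_xN]
  · rintro ⟨t, hy⟩
    obtain ⟨x, hx⟩ := exists_unit_x (F := F) V V1 hs (((ε⁻¹ : Fˣ) : F) * t)
    refine ⟨x, ⟨_, hx⟩, ?_⟩
    apply Units.ext
    show ((nP D F l * x * (nP D F l)⁻¹ : GL D.Idx F) : Matrix D.Idx D.Idx F) = _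
    rw [Units.val_mul, Units.val_mul, hx, x_eq_xN, e, Matrix.mul_assoc, ← Units.val_mul,
      mul_inv_cancel, Units.val_one, Matrix.mul_one, hy, x_eq_xN, ← mul_assoc, ← Units.val_mul,
      mul_inv_cancel, Units.val_one, one_mul]

theorem rootSubgroup_le_pos {s : ℕ} (hs : D.IsPosRoot s) :
    D.rootSubgroup F s ≤ D.posUnipotent F := by
  unfold ChevalleyDatum.rootSubgroup ChevalleyDatum.posUnipotent
  apply Subgroup.closure_mono
  rintro g ⟨t, hg⟩
  exact ⟨s, t, hs, hg⟩

theorem isPGroup_pos [Fintype F] (p : ℕ) [Fact p.Prime] [CharP F p]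
    (hD : D ∈ [chevG2, chevB2, chevD4, chevF4, chevE6, chevE7, chevE8]) :
    IsPGroup p (D.posUnipotent F) := by
  obtain ⟨n, hn⟩ := FiniteField.card F p
  apply IsPGroup.of_card (n := (n : ℕ) * (D.nroots / 2))
  rw [card_posUnipotent hD, hn.2, pow_mul]

end Cfsg.Agent.Lib.Helper8.Chev
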