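import Mathlib
import Cfsg.Prelude.Def_GeometricClasses
import Cfsg.Agent.Lib.Helper22.AschC7Defs

/-! # S5630 block I7, piece A1 = P1a-f (helper8): the calculus of pure tensors `pt` -/

set_option autoImplicit false

namespace Cfsg.Agent.Lib.Helper8.S5630I7A1

open Matrix Cfsg.Geo Cfsg.Agent.Lib.Helper7.Asch Cfsg.Agent.Lib.Helper22.AschC7

variable {F : Type*} [Field F] {n m t : ℕ}

/-- **P1a** -/
theorem pt_mul (as bs : Fin t → Matrix (Fin m) (Fin m) F) : pt as * pt bs = pt (fun i => as i * bs i) := by
  ext x y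
  rw [Matrix.mul_apply, pt_apply]
  simp only [Matrix.mul_apply]
  rw [Finset.prod_univ_sum, Fintype.piFinset_univ]
  apply Finset.sum_congr rfl
  intro z _
  rw [pt_apply, pt_apply, ← Finset.prod_mul_distrib]

/-- **P1b** -/
theorem pt_one : pt (fun _ : Fin t => (1 : Matrix (Fin m) (Fin m) F)) = 1 := by
  ext x y
  rw [pt_apply]
  simp only [Matrix.one_apply]
  rw [Finset.prod_ite_zero]
  by_cases h : x = y
  · subst h
    simp
  · rw [if_neg h, if_neg]
    intro h'
    exact h (funext fun i => h' i (Finset.mem_univ i))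

theorem pt_update_apply (as : Fin t → Matrix (Fin m) (Fin m) F) (i : Fin t) (a : Matrix (Fin m) (Fin m) F)
    (x y : Fin t → Fin m) :
    pt (Function.update as i a) x y = a (x i) (y i) * ∏ j ∈ Finset.univ.erase i, as j (x j) (y j) := by
  rw [pt_apply, ← Finset.mul_prod_erase Finset.univ _ (Finset.mem_univ i), Function.update_self]
  congr 1
  apply Finset.prod_congr rfl
  intro j hj
  rw [Function.update_of_ne (Finset.ne_of_mem_erase hj)]

/-- **P1c** -/
theorem pt_update_smul (as : Fin t → Matrix (Fin m) (Fin m) F) (i : Fin t) (c : F) (a : Matrix (Fin m) (Fin m) F) :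
    pt (Function.update as i (c • a)) = c • pt (Function.update as i a) := by
  ext x y
  rw [Matrix.smul_apply, pt_update_apply, pt_update_apply, Matrix.smul_apply, smul_eq_mul, smul_eq_mul, mul_assoc]

/-- **P1d** -/
theorem pt_update_add (as : Fin t → Matrix (Fin m) (Fin m) F) (i : Fin t) (a b : Matrix (Fin m) (Fin m) F) :
    pt (Function.update as i (a + b)) = pt (Function.update as i a) + pt (Function.update as i b) := by
  ext x y
  rw [Matrix.add_apply, pt_update_apply, pt_update_apply, pt_update_apply, Matrix.add_apply, add_mul]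

/-- **P1e** -/
theorem pt_transpose (as : Fin t → Matrix (Fin m) (Fin m) F) : (pt as)ᵀ = pt (fun i => (as i)ᵀ) := by
  ext x y
  rfl

/-- **P1f** matrix units are pure tensors of matrix units -/
theorem pt_single (x y : Fin t → Fin m) :
    pt (fun i => Matrix.single (x i) (y i) (1 : F)) = Matrix.single x y 1 := by
  ext x' y'
  rw [pt_apply]
  simp only [Matrix.single_apply]
  rw [Finset.prod_ite_zero]
  by_cases h : x = x' ∧ y = y'
  · obtain ⟨rfl, rfl⟩ := h
    simp
  · rw [if_neg h, if_neg]
    intro h'
    apply h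
    exact ⟨funext fun i => (h' i (Finset.mem_univ i)).1, funext fun i => (h' i (Finset.mem_univ i)).2⟩

/-- scaling every factor -/
theorem pt_smul (c : Fin t → F) (as : Fin t → Matrix (Fin m) (Fin m) F) :
    pt (fun i => c i • as i) = (∏ i, c i) • pt as := by
  ext x y
  rw [Matrix.smul_apply, pt_apply, pt_apply, smul_eq_mul, ← Finset.prod_mul_distrib]
  rfl

end Cfsg.Agent.Lib.Helper8.S5630I7A1
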