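import Mathlib
import Cfsg.Prelude.Def_GeometricClasses
import Cfsg.Agent.Lib.Helper22.AschC7Defs
import Cfsg.Agent.Lib.Helper8.S5630I7A1

/-! # S5630 block I7, pieces E1-E3 + F5c (helper8): the tensor power of the determinant form on `F²` is preserved up to
scalars by the standard tensor-wreath group with factors of dimension two -/

set_option autoImplicit false

namespace Cfsg.Agent.Lib.Helper8.S5630I7E

open Matrix Cfsg.Geo Cfsg.Agent.Lib.Helper7.Asch Cfsg.Agent.Lib.Helper22.AschC7 Cfsg.Agent.Lib.Helper8.S5630I7A1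

variable {F : Type*} [Field F] {n m t : ℕ}

/-- the Gram matrix of the determinant form on `F²` (same body as `Cfsg.Agent.Lib.Helper22.AschC7.J2`) -/
def J2 : Matrix (Fin 2) (Fin 2) F := !![0, 1; -1, 0]

theorem transpose_J2_mul (A : Matrix (Fin 2) (Fin 2) F) : Aᵀ * J2 * A = A.det • (J2 : Matrix (Fin 2) (Fin 2) F) := by
  ext i j
  fin_cases i <;> fin_cases j <;>
    simp [J2, Matrix.mul_apply, Fin.sum_univ_two, Matrix.det_fin_two] <;> ring

theorem J2_transpose : (J2 : Matrix (Fin 2) (Fin 2) F)ᵀ = (-1 : F) • J2 := by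
  ext i j
  fin_cases i <;> fin_cases j <;> simp [J2]

theorem J2_diag (a : Fin 2) : (J2 : Matrix (Fin 2) (Fin 2) F) a a = 0 := by
  fin_cases a <;> simp [J2]

theorem J2_mul_neg : (J2 : Matrix (Fin 2) (Fin 2) F) * (-J2) = 1 := by
  ext i j
  fin_cases i <;> fin_cases j <;> simp [J2, Matrix.mul_apply, Fin.sum_univ_two]

/-- **F1** pure tensors scale the tensor power of the determinant form -/
theorem gram_pureTensor (gs : Fin t → GL (Fin 2) F) :
    (pt (fun i => ((gs i : GL (Fin 2) F) : Matrix (Fin 2) (Fin 2) F)))ᵀ * pt (fun _ : Fin t => (J2 : Matrix (Fin 2) (Fin 2) F)) *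
        pt (fun i => ((gs i : GL (Fin 2) F) : Matrix (Fin 2) (Fin 2) F)) =
      (∏ i, ((gs i : GL (Fin 2) F) : Matrix (Fin 2) (Fin 2) F).det) • pt (fun _ : Fin t => (J2 : Matrix (Fin 2) (Fin 2) F)) := by
  rw [pt_transpose, pt_mul, pt_mul, ← pt_smul]
  congr 1
  funext i
  exact transpose_J2_mul _

/-- **F2** factor permutations fix it -/
theorem gram_factorPerm (π : GL (Fin t → Fin 2) F) (h : IsFactorPermutation 2 t π) :
    (π : Matrix (Fin t → Fin 2) (Fin t → Fin 2) F)ᵀ * pt (fun _ : Fin t => (J2 : Matrix (Fin 2) (Fin 2) F)) *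
        (π : Matrix (Fin t → Fin 2) (Fin t → Fin 2) F) = pt (fun _ : Fin t => (J2 : Matrix (Fin 2) (Fin 2) F)) := by
  classical
  obtain ⟨σ, hσ⟩ := h
  ext x y
  rw [Matrix.mul_apply]
  -- only `w = y ∘ σ⁻¹` contributes
  rw [Finset.sum_eq_single (y ∘ σ.symm)]
  · rw [Matrix.mul_apply, Finset.sum_eq_single (x ∘ σ.symm)]
    · rw [Matrix.transpose_apply, hσ, hσ, if_pos, if_pos, one_mul, mul_one, pt_apply, pt_apply]
      · exact Equiv.prod_comp σ.symm (fun i => (J2 : Matrix (Fin 2) (Fin 2) F) (x i) (y i))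
      · funext i; simp
      · funext i; simp
    · intro z _ hz
      rw [Matrix.transpose_apply, hσ, if_neg, zero_mul]
      intro hx
      apply hz
      rw [hx]
      funext i; simp
    · intro h; exact absurd (Finset.mem_univ _) h
  · intro w _ hw
    rw [hσ, if_neg, mul_zero]
    intro hy
    apply hw
    rw [hy]
    funext i; simp
  · intro h; exact absurd (Finset.mem_univ _) h

/-- **F3** so does, up to scalars, the whole standard tensor-wreath group -/
theorem gram_std (g : GL (Fin t → Fin 2) F) (hg : g ∈ tensorWreathStandard 2 t F) :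
    ∃ c : Fˣ, (g : Matrix (Fin t → Fin 2) (Fin t → Fin 2) F)ᵀ * pt (fun _ : Fin t => (J2 : Matrix (Fin 2) (Fin 2) F)) *
        (g : Matrix (Fin t → Fin 2) (Fin t → Fin 2) F) = (c : F) • pt (fun _ : Fin t => (J2 : Matrix (Fin 2) (Fin 2) F)) := by
  set G : Matrix (Fin t → Fin 2) (Fin t → Fin 2) F := pt (fun _ : Fin t => (J2 : Matrix (Fin 2) (Fin 2) F)) with hG
  unfold tensorWreathStandard at hg
  induction hg using Subgroup.closure_induction with
  | mem g hg =>
    rcases hg with hg | hg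
    · obtain ⟨gs, hgs⟩ := (isPureTensor_iff g).1 hg
      refine ⟨∏ i, Matrix.GeneralLinearGroup.det (gs i), ?_⟩
      rw [hgs, gram_pureTensor, Units.coe_prod]
      rfl
    · exact ⟨1, by rw [gram_factorPerm g hg, Units.val_one, one_smul]⟩
  | one => exact ⟨1, by simp⟩
  | mul a b _ _ iha ihb =>
    obtain ⟨c, hc⟩ := iha
    obtain ⟨d, hd⟩ := ihb
    refine ⟨c * d, ?_⟩
    rw [Units.val_mul, Matrix.transpose_mul]
    calc (b : Matrix (Fin t → Fin 2) (Fin t → Fin 2) F)ᵀ * (a : Matrix (Fin t → Fin 2) (Fin t → Fin 2) F)ᵀ * G *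
          ((a : Matrix (Fin t → Fin 2) (Fin t → Fin 2) F) * (b : Matrix (Fin t → Fin 2) (Fin t → Fin 2) F))
        = (b : Matrix (Fin t → Fin 2) (Fin t → Fin 2) F)ᵀ *
            ((a : Matrix (Fin t → Fin 2) (Fin t → Fin 2) F)ᵀ * G * (a : Matrix (Fin t → Fin 2) (Fin t → Fin 2) F)) *
            (b : Matrix (Fin t → Fin 2) (Fin t → Fin 2) F) := by simp only [mul_assoc]
      _ = ((c * d : Fˣ) : F) • G := by
          rw [hc, Matrix.mul_smul, Matrix.smul_mul, hd, smul_smul, Units.val_mul]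
  | inv a _ iha =>
    obtain ⟨c, hc⟩ := iha
    refine ⟨c⁻¹, ?_⟩
    have h1 : ((a⁻¹ : GL (Fin t → Fin 2) F) : Matrix (Fin t → Fin 2) (Fin t → Fin 2) F)ᵀ *
        (a : Matrix (Fin t → Fin 2) (Fin t → Fin 2) F)ᵀ = 1 := by
      rw [← Matrix.transpose_mul, ← Units.val_mul, mul_inv_cancel, Units.val_one, Matrix.transpose_one]
    have h2 : (a : Matrix (Fin t → Fin 2) (Fin t → Fin 2) F) *
        ((a⁻¹ : GL (Fin t → Fin 2) F) : Matrix (Fin t → Fin 2) (Fin t → Fin 2) F) = 1 := by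
      rw [← Units.val_mul, mul_inv_cancel, Units.val_one]
    have h3 : G = (c : F) • (((a⁻¹ : GL (Fin t → Fin 2) F) : Matrix (Fin t → Fin 2) (Fin t → Fin 2) F)ᵀ * G *
        ((a⁻¹ : GL (Fin t → Fin 2) F) : Matrix (Fin t → Fin 2) (Fin t → Fin 2) F)) := by
      calc G = (((a⁻¹ : GL (Fin t → Fin 2) F) : Matrix (Fin t → Fin 2) (Fin t → Fin 2) F)ᵀ *
            (a : Matrix (Fin t → Fin 2) (Fin t → Fin 2) F)ᵀ) * G *
            ((a : Matrix (Fin t → Fin 2) (Fin t → Fin 2) F) *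
              ((a⁻¹ : GL (Fin t → Fin 2) F) : Matrix (Fin t → Fin 2) (Fin t → Fin 2) F)) := by
            rw [h1, h2, one_mul, mul_one]
        _ = ((a⁻¹ : GL (Fin t → Fin 2) F) : Matrix (Fin t → Fin 2) (Fin t → Fin 2) F)ᵀ *
            ((a : Matrix (Fin t → Fin 2) (Fin t → Fin 2) F)ᵀ * G * (a : Matrix (Fin t → Fin 2) (Fin t → Fin 2) F)) *
              ((a⁻¹ : GL (Fin t → Fin 2) F) : Matrix (Fin t → Fin 2) (Fin t → Fin 2) F) := by
            simp only [mul_assoc]
        _ = _ := by rw [hc, Matrix.mul_smul, Matrix.smul_mul]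
    rw [Units.val_inv_eq_inv_val]
    conv_rhs => rw [h3]
    rw [smul_smul, inv_mul_cancel₀ c.ne_zero, one_smul]

/-- **F4** symmetry type, diagonal and invertibility of the Gram matrix -/
theorem gram_props (ht : 0 < t) :
    (pt (fun _ : Fin t => (J2 : Matrix (Fin 2) (Fin 2) F)))ᵀ = (-1 : F) ^ t • pt (fun _ : Fin t => (J2 : Matrix (Fin 2) (Fin 2) F)) ∧
    (∀ x, pt (fun _ : Fin t => (J2 : Matrix (Fin 2) (Fin 2) F)) x x = 0) ∧
    pt (fun _ : Fin t => (J2 : Matrix (Fin 2) (Fin 2) F)) * pt (fun _ : Fin t => -(J2 : Matrix (Fin 2) (Fin 2) F)) = 1 := by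
  refine ⟨?_, ?_, ?_⟩
  · rw [pt_transpose]
    have h1 : (fun _ : Fin t => ((J2 : Matrix (Fin 2) (Fin 2) F))ᵀ) =
        fun i : Fin t => (fun _ : Fin t => (-1 : F)) i • (fun _ : Fin t => (J2 : Matrix (Fin 2) (Fin 2) F)) i := by
      funext i
      exact J2_transpose
    rw [h1, pt_smul, Finset.prod_const, Finset.card_univ, Fintype.card_fin]
  · intro x
    rw [pt_apply]
    exact Finset.prod_eq_zero (Finset.mem_univ (⟨0, ht⟩ : Fin t)) (J2_diag _)
  · rw [pt_mul]
    have h1 : (fun _ : Fin t => (J2 : Matrix (Fin 2) (Fin 2) F) * -J2) = fun _ : Fin t => (1 : Matrix (Fin 2) (Fin 2) F) := by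
      funext i
      exact J2_mul_neg
    rw [h1, pt_one]

/-- **F5c** a skew matrix with zero diagonal is alternating (also in characteristic 2) -/
theorem alt_of_skew_diag {κ : Type} [Fintype κ] [DecidableEq κ] (G : Matrix κ κ F) (hskew : Gᵀ = -G)
    (hdiag : ∀ i, G i i = 0) (v : κ → F) : v ⬝ᵥ (G *ᵥ v) = 0 := by
  have hji : ∀ i j, G j i = - G i j := by
    intro i j
    have := congrFun (congrFun hskew i) j
    rw [Matrix.transpose_apply, Matrix.neg_apply] at this
    exact this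
  have h1 : v ⬝ᵥ (G *ᵥ v) = ∑ p : κ × κ, v p.1 * (G p.1 p.2 * v p.2) := by
    rw [Fintype.sum_prod_type]
    simp only [dotProduct, Matrix.mulVec, Finset.mul_sum]
  rw [h1]
  apply Finset.sum_involution (fun p _ => (p.2, p.1))
  · intro p _
    rw [hji p.1 p.2]
    ring
  · intro p _ hp hpp
    apply hp
    have h2 : p.2 = p.1 := congrArg Prod.fst hpp
    rw [h2, hdiag, zero_mul, mul_zero]
  · intro p _
    exact Finset.mem_univ _
  · intro p _
    rfl

end Cfsg.Agent.Lib.Helper8.S5630I7E
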