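import Mathlib

/-!
# S1904 (helper12's farm), general fact (G6) [INJ], generic form.

`V₁` a group of order 4 and exponent 2, `V₂` a group of exponent 2, `a₁`, `a₂` automorphisms without nontrivial
fixed points, `φ : V₁ →* V₂` with `φ(w) * a₂(φ(a₁⁻¹ w)) * a₂²(φ(a₁⁻² w)) = 1` for all `w`.
If `φ v = 1` for some `v ≠ 1` then `φ` is trivial.
-/

set_option autoImplicit false

namespace Cfsg.Agent.Lib.Helper8.SC3G6

/-- exponent 2 implies commutative -/
theorem comm_of_sq {V : Type*} [Group V] (e : ∀ v : V, v ^ 2 = 1) (x y : V) : x * y = y * x := by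
  have hx := e x; have hy := e y; have hxy := e (x * y)
  rw [pow_two] at hx hy hxy
  have hx' : x⁻¹ = x := inv_eq_of_mul_eq_one_left hx
  have hy' : y⁻¹ = y := inv_eq_of_mul_eq_one_left hy
  have : (x * y)⁻¹ = x * y := inv_eq_of_mul_eq_one_left hxy
  rw [mul_inv_rev, hx', hy'] at this
  exact this.symm

/-- in an exponent-2 group, an automorphism without nontrivial fixed points whose square fixes `t` has `t = 1` -/
theorem eq_one_of_sq_fix {V : Type*} [Group V] (e : ∀ v : V, v ^ 2 = 1) (a : V ≃* V)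
    (f : ∀ v, a v = v → v = 1) (t : V) (ht : a (a t) = t) : t = 1 := by
  have hs : a (t * a t) = t * a t := by
    rw [map_mul, ht, comm_of_sq e]
  have h1 := f _ hs
  have ht2 := e t
  rw [pow_two] at ht2
  have : a t = t := by
    have h2 : t * a t = t * t := by rw [h1, ht2]
    exact mul_left_cancel h2
  exact f t this

/-- the four elements of a Klein four-group with a fixed-point-free automorphism -/
theorem mem_four {V : Type*} [Group V] (h4 : Nat.card V = 4) (e : ∀ v : V, v ^ 2 = 1) (a : V ≃* V)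
    (f : ∀ v, a v = v → v = 1) (v : V) (hv : v ≠ 1) (w : V) :
    w = 1 ∨ w = v ∨ w = a v ∨ w = v * a v := by
  classical
  have : Finite V := Nat.finite_of_card_ne_zero (by rw [h4]; norm_num)
  have : Fintype V := Fintype.ofFinite V
  have hav1 : a v ≠ 1 := fun h => hv (by simpa using congrArg a.symm h)
  have hav : a v ≠ v := fun h => hv (f v h)
  have hvv : v * v = 1 := by rw [← pow_two]; exact e v
  have hs1 : v * a v ≠ 1 := by
    intro h
    have : v * a v = v * v := by rw [h, hvv]
    exact hav (mul_left_cancel this)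
  have hsv : v * a v ≠ v := by
    intro h
    have : v * a v = v * 1 := by rw [mul_one]; exact h
    exact hav1 (mul_left_cancel this)
  have hsa : v * a v ≠ a v := by
    intro h
    have : v * a v = 1 * a v := by rw [one_mul]; exact h
    exact hv (mul_right_cancel this)
  let S : Finset V := {1, v, a v, v * a v}
  have hS : S.card = 4 := by
    simp only [S]
    rw [Finset.card_insert_of_notMem, Finset.card_insert_of_notMem, Finset.card_insert_of_notMem,
      Finset.card_singleton]
    · simp only [Finset.mem_singleton]; exact fun h => hsa h.symm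
    · simp only [Finset.mem_insert, Finset.mem_singleton, not_or]
      exact ⟨fun h => hav h.symm, fun h => hsv h.symm⟩
    · simp only [Finset.mem_insert, Finset.mem_singleton, not_or]
      exact ⟨fun h => hv h.symm, fun h => hav1 h.symm, fun h => hs1 h.symm⟩
  have hu : S = Finset.univ := by
    apply Finset.eq_univ_of_card
    rw [hS, ← Nat.card_eq_fintype_card, h4]
  have hw : w ∈ S := by rw [hu]; exact Finset.mem_univ w
  simpa [S] using hw

/-- `a⁻¹ v = v * a v` in a Klein four-group with a fixed-point-free automorphism -/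
theorem symm_eq {V : Type*} [Group V] (h4 : Nat.card V = 4) (e : ∀ v : V, v ^ 2 = 1) (a : V ≃* V)
    (f : ∀ v, a v = v → v = 1) (v : V) (hv : v ≠ 1) : a.symm v = v * a v := by
  rcases mem_four h4 e a f v hv (a.symm v) with h | h | h | h
  · exact absurd (by simpa using congrArg a h) hv
  · have : a v = v := by
      have := congrArg a h; simpa using this.symm
    exact absurd (f v this) hv
  · -- a⁻¹ v = a v, so a (a v) = v
    have h2 : a (a v) = v := by
      have := congrArg a h; simpa using this.symm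
    exact absurd (eq_one_of_sq_fix e a f v h2) hv
  · exact h

/-- (G6) [INJ], generic form. -/
theorem inj_generic {V₁ V₂ : Type*} [Group V₁] [Group V₂] (h4 : Nat.card V₁ = 4)
    (e1 : ∀ v : V₁, v ^ 2 = 1) (e2 : ∀ v : V₂, v ^ 2 = 1) (a₁ : V₁ ≃* V₁) (a₂ : V₂ ≃* V₂)
    (f1 : ∀ v, a₁ v = v → v = 1) (f2 : ∀ v, a₂ v = v → v = 1) (φ : V₁ →* V₂)
    (hrel : ∀ w, φ w * a₂ (φ (a₁.symm w)) * a₂ (a₂ (φ (a₁.symm (a₁.symm w)))) = 1)
    (v : V₁) (hv : v ≠ 1) (hφ : φ v = 1) : ∀ w, φ w = 1 := by
  have hs := symm_eq h4 e1 a₁ f1 v hv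
  have hr := hrel (a₁ v)
  have h1 : a₁.symm (a₁ v) = v := by simp
  rw [h1, hs, map_mul, hφ, map_one, one_mul, mul_one] at hr
  -- hr : φ (a₁ v) * a₂ (a₂ (φ (a₁ v))) = 1
  have ht : a₂ (a₂ (φ (a₁ v))) = φ (a₁ v) := by
    have h2 := e2 (φ (a₁ v))
    rw [pow_two] at h2
    have : φ (a₁ v) * a₂ (a₂ (φ (a₁ v))) = φ (a₁ v) * φ (a₁ v) := by rw [hr, h2]
    exact mul_left_cancel this
  have ht1 : φ (a₁ v) = 1 := eq_one_of_sq_fix e2 a₂ f2 _ ht
  intro w
  rcases mem_four h4 e1 a₁ f1 v hv w with h | h | h | h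
  · rw [h, map_one]
  · rw [h, hφ]
  · rw [h, ht1]
  · rw [h, map_mul, hφ, ht1, one_mul]

end Cfsg.Agent.Lib.Helper8.SC3G6
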