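import Cfsg.Agent.Lib.Helper8.ChevTw31
import Cfsg.Agent.Lib.Helper8.ChevOrd2

set_option autoImplicit false

/-! Twisted groups: the order from the Bruhat decomposition. -/

namespace Cfsg.Agent.Lib.Helper8.Chev

open Cfsg.Lie Matrix

/-- a system of representatives (symmetric reduced words) of the twisted Weyl group -/
structure TwReps (D : ChevalleyDatum) (cls : List (List ℕ)) (reps : List (List (List ℕ))) :
    Prop where
  sym : ∀ Js ∈ reps, ∀ J ∈ Js, J ∈ cls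
  good : ∀ Js ∈ reps, GoodW D Js.flatten
  one : ∃ Js ∈ reps, ∀ r < D.nroots, reflWord D Js.flatten r = r
  closed : ∀ Js ∈ reps, ∀ J ∈ cls, ∃ Js' ∈ reps, ∀ r < D.nroots,
    reflWord D (Js.flatten ++ J) r = reflWord D Js'.flatten r
  inj : ∀ Js ∈ reps, ∀ Js' ∈ reps,
    (∀ r < D.nroots, reflWord D Js.flatten r = reflWord D Js'.flatten r) → Js = Js'
  nodup : reps.Nodup

namespace TwGrp

variable {D : ChevalleyDatum} {F : Type*} [Field F] {ρ ρ' π π' : ℕ → ℕ} {ε : ℕ → ℤ}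
  {T : TwOk D ρ ρ' π π' ε} {φ : F →+* F} {cls : List (List ℕ)} {G1 : Subgroup (GL D.Idx F)}

theorem flatten_lt (X : TwGrp T φ cls G1) {Js : List (List ℕ)} (hJs : ∀ J ∈ Js, J ∈ cls) :
    ∀ i ∈ Js.flatten, i < D.rank := by
  intro i hi
  rw [List.mem_flatten] at hi
  obtain ⟨J, hJ, hiJ⟩ := hi
  exact (X.cd.ok J (hJs J hJ)).lt i hiJ

/-- every symmetric word has a representative -/
theorem exists_rep (X : TwGrp T φ cls G1) {reps : List (List (List ℕ))} (R : TwReps D cls reps) :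
    ∀ Js₀ : List (List ℕ), (∀ J ∈ Js₀, J ∈ cls) →
      ∃ Js ∈ reps, ∀ r < D.nroots, reflWord D Js₀.flatten r = reflWord D Js.flatten r := by
  have hD := X.hD
  have VJ := validJ_of_mem hD
  have H := validH_of_mem hD
  intro Js₀
  induction Js₀ using List.reverseRecOn with
  | nil =>
    intro _
    obtain ⟨Js, hJs, h⟩ := R.one
    exact ⟨Js, hJs, fun r hr => (h r hr).symm⟩
  | append_singleton Js₁ J ih =>
    intro hJs
    obtain ⟨R₁, hR₁, e₁⟩ := ih (fun J' hJ' => hJs J' (by simp [hJ']))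
    have hJ : J ∈ cls := hJs J (by simp)
    obtain ⟨R₂, hR₂, e₂⟩ := R.closed R₁ hR₁ J hJ
    refine ⟨R₂, hR₂, fun r hr => ?_⟩
    rw [List.flatten_append, List.flatten_singleton, reflWord_append, ← e₂ r hr, reflWord_append]
    exact e₁ _ (reflWord_lt VJ H.nS (X.cd.ok J hJ).lt hr)

theorem unegW_inf_eq (X : TwGrp T φ cls G1) {Js : List (List ℕ)} (hJs : ∀ J ∈ Js, J ∈ cls)
    (hg : GoodW D Js.flatten) :
    UnegW D F Js.flatten ⊓ G1 = UnegW D F Js.flatten ⊓ fixS T.ga φ := by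
  apply le_antisymm
  · exact inf_le_inf_left _ X.le_fix
  · exact le_inf inf_le_left (X.unegW_fix_le hJs hg)

/-- `|B ∩ G¹| = |U ∩ G¹| |H ∩ G¹|` -/
theorem card_borel (X : TwGrp T φ cls G1) :
    Nat.card ↥(D.borelSubgroup F ⊓ G1) =
      Nat.card ↥(D.posUnipotent F ⊓ G1) * Nat.card ↥(D.diagonalSubgroup F ⊓ G1) := by
  have hD := X.hD
  have V1 := valid1_of_mem hD
  have VJ := validJ_of_mem hD
  have H := validH_of_mem hD
  have P := posP_of_mem hD
  have Tr := triP_of_mem hD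
  rw [← Nat.card_prod]
  symm
  let f : ↥(D.posUnipotent F ⊓ G1) × ↥(D.diagonalSubgroup F ⊓ G1) → ↥(D.borelSubgroup F ⊓ G1) :=
    fun x => ⟨(x.1 : GL D.Idx F) * (x.2 : GL D.Idx F), Subgroup.mem_inf.mpr
      ⟨mul_mem (pos_le_borel (Subgroup.mem_inf.mp x.1.2).1)
        (diagonal_le_borel (Subgroup.mem_inf.mp x.2.2).1),
        mul_mem (Subgroup.mem_inf.mp x.1.2).2 (Subgroup.mem_inf.mp x.2.2).2⟩⟩
  have hf : Function.Bijective f := by
    constructor
    · rintro ⟨u, h⟩ ⟨u', h'⟩ hxy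
      have e : (u : GL D.Idx F) * (h : GL D.Idx F) = (u' : GL D.Idx F) * (h' : GL D.Idx F) :=
        congrArg Subtype.val hxy
      have hm : (u' : GL D.Idx F)⁻¹ * (u : GL D.Idx F) ∈
          D.posUnipotent F ⊓ D.diagonalSubgroup F := by
        refine Subgroup.mem_inf.mpr ⟨mul_mem (inv_mem (Subgroup.mem_inf.mp u'.2).1)
          (Subgroup.mem_inf.mp u.2).1, ?_⟩
        have : (u' : GL D.Idx F)⁻¹ * (u : GL D.Idx F) =
            (h' : GL D.Idx F) * (h : GL D.Idx F)⁻¹ := by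
          rw [inv_mul_eq_iff_eq_mul, ← mul_assoc, ← e, mul_inv_cancel_right]
        rw [this]
        exact mul_mem (Subgroup.mem_inf.mp h'.2).1 (inv_mem (Subgroup.mem_inf.mp h.2).1)
      rw [pos_inf_diagonal VJ V1 H Tr P, Subgroup.mem_bot, inv_mul_eq_one] at hm
      have hu : u = u' := Subtype.ext hm.symm
      subst hu
      have hh : h = h' := Subtype.ext (mul_left_cancel e)
      rw [hh]
    · rintro ⟨b, hb⟩
      obtain ⟨u, hu, h, hh, e⟩ := X.borel_decomp hb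
      exact ⟨⟨⟨u, hu⟩, ⟨h, hh⟩⟩, Subtype.ext e.symm⟩
  exact Nat.card_congr (Equiv.ofBijective f hf)

/-- the order of a twisted group from the Bruhat decomposition -/
theorem card_eq [Finite F] (X : TwGrp T φ cls G1) {reps : List (List (List ℕ))}
    (R : TwReps D cls reps)
    (q : ℕ) (hq : ∀ J ∈ cls, Nat.card {t : F // φ^[J.length] t = t} = q ^ J.length) :
    Nat.card ↥G1 = Nat.card ↥(D.posUnipotent F ⊓ G1) * Nat.card ↥(D.diagonalSubgroup F ⊓ G1) *
      (reps.map fun Js => q ^ Js.flatten.length).sum := by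
  classical
  have hD := X.hD
  have V := valid0_of_mem hD
  have V1 := valid1_of_mem hD
  have VJ := validJ_of_mem hD
  have H := validH_of_mem hD
  have C := copP_of_mem hD
  -- the Bruhat map
  let Φ : (Σ i : {Js // Js ∈ reps},
      ↥(D.borelSubgroup F ⊓ G1) × ↥(UnegW D F i.1.flatten ⊓ G1)) → ↥G1 :=
    fun x => ⟨(x.2.1 : GL D.Idx F) * nP D F x.1.1.flatten * (x.2.2 : GL D.Idx F),
      mul_mem (mul_mem (Subgroup.mem_inf.mp x.2.1.2).2 (X.nP_mem (R.sym x.1.1 x.1.2)))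
        (Subgroup.mem_inf.mp x.2.2.2).2⟩
  have hinj : Function.Injective Φ := by
    rintro ⟨⟨Js, hJs⟩, b, u⟩ ⟨⟨Js', hJs'⟩, b', u'⟩ hxy
    have e : (b : GL D.Idx F) * nP D F Js.flatten * (u : GL D.Idx F) =
        (b' : GL D.Idx F) * nP D F Js'.flatten * (u' : GL D.Idx F) := congrArg Subtype.val hxy
    have hl := X.flatten_lt (R.sym Js hJs)
    have hl' := X.flatten_lt (R.sym Js' hJs')
    obtain ⟨hH, himp⟩ := bruhat_unique_chev hD (Subgroup.mem_inf.mp b.2).1
      (Subgroup.mem_inf.mp b'.2).1 (nP_mem_monomial hD hl) (nP_mem_monomial hD hl')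
      (unegW_le_unegS hD hl (Subgroup.mem_inf.mp u.2).1)
      (unegW_le_unegS hD hl' (Subgroup.mem_inf.mp u'.2).1) e
    have hP := (rootPermN_nP (F := F) VJ V1 H.nS _ hl).rootPerm
    have hP' := (rootPermN_nP (F := F) VJ V1 H.nS _ hl').rootPerm
    have hP2 := hP.mul (rootPerm_torus V (torusLike_of_mem VJ V1 H hH))
    rw [← Units.val_mul, mul_inv_cancel_left] at hP2
    have hJJ : Js = Js' := by
      apply R.inj Js hJs Js' hJs'
      intro r hr
      exact rootPerm_unique V C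
        (M := ((nP D F Js'.flatten : GL D.Idx F) : Matrix D.Idx D.Idx F))
        (Mi := (((nP D F Js'.flatten)⁻¹ : GL D.Idx F) : Matrix D.Idx D.Idx F))
        (by rw [← Units.val_mul, mul_inv_cancel, Units.val_one]) hP2 hP' hr
    subst hJJ
    obtain ⟨h1, h2⟩ := himp rfl
    have hb : b = b' := Subtype.ext h1
    have hu : u = u' := Subtype.ext h2
    rw [hb, hu]
  have hsurj : Function.Surjective Φ := by
    rintro ⟨g, hg⟩
    obtain ⟨Js₀, hJs₀, hgood, u₁, hu₁, h₁, hh₁, u, hu, e⟩ := X.bruhat hg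
    obtain ⟨Js, hJs, hact⟩ := X.exists_rep R Js₀ hJs₀
    have hl₀ := X.flatten_lt hJs₀
    have hl := X.flatten_lt (R.sym Js hJs)
    have ht := nP_mul_inv_mem_diagonal (F := F) hD hl₀ hl hact
    have htG : nP D F Js₀.flatten * (nP D F Js.flatten)⁻¹ ∈ G1 :=
      mul_mem (X.nP_mem hJs₀) (inv_mem (X.nP_mem (R.sym Js hJs)))
    have hb : u₁ * h₁ * (nP D F Js₀.flatten * (nP D F Js.flatten)⁻¹) ∈ D.borelSubgroup F ⊓ G1 :=
      Subgroup.mem_inf.mpr
        ⟨mul_mem (mul_mem (pos_le_borel (Subgroup.mem_inf.mp hu₁).1)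
          (diagonal_le_borel (Subgroup.mem_inf.mp hh₁).1)) (diagonal_le_borel ht),
        mul_mem (mul_mem (Subgroup.mem_inf.mp hu₁).2 (Subgroup.mem_inf.mp hh₁).2) htG⟩
    have hu' : u ∈ UnegW D F Js.flatten ⊓ G1 := by
      rw [← unegW_congr hact]
      exact hu
    refine ⟨⟨⟨Js, hJs⟩, ⟨_, hb⟩, ⟨u, hu'⟩⟩, ?_⟩
    apply Subtype.ext
    show u₁ * h₁ * (nP D F Js₀.flatten * (nP D F Js.flatten)⁻¹) * nP D F Js.flatten * u = g
    rw [e]
    group
  have hcard := Nat.card_congr (Equiv.ofBijective Φ ⟨hinj, hsurj⟩)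
  rw [← hcard, Nat.card_sigma]
  have h1 : ∀ i : {Js // Js ∈ reps},
      Nat.card (↥(D.borelSubgroup F ⊓ G1) × ↥(UnegW D F i.1.flatten ⊓ G1)) =
        Nat.card ↥(D.posUnipotent F ⊓ G1) * Nat.card ↥(D.diagonalSubgroup F ⊓ G1) *
          q ^ i.1.flatten.length := by
    rintro ⟨Js, hJs⟩
    rw [Nat.card_prod, X.card_borel, X.unegW_inf_eq (R.sym Js hJs) (R.good Js hJs),
      card_fix hD T φ q (X.clsOk (R.sym Js hJs)) (R.good Js hJs)
        (fun J hJ => hq J (R.sym Js hJs J hJ))]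
  rw [Finset.sum_congr rfl (fun i _ => h1 i), ← Finset.mul_sum]
  congr 1
  rw [← List.sum_toFinset _ R.nodup]
  exact (Finset.sum_subtype reps.toFinset (fun Js => List.mem_toFinset)
    (fun Js => q ^ Js.flatten.length)).symm

end TwGrp

end Cfsg.Agent.Lib.Helper8.Chev
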