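import Cfsg.Agent.Lib.Helper8.ChevXT6
import Cfsg.Agent.Lib.Helper8.ChevTw32

set_option autoImplicit false

/-! Abstract twisted groups: the order from the Bruhat decomposition. -/

namespace Cfsg.Agent.Lib.Helper8.Chev

open Cfsg.Lie Matrix

namespace XGrp

variable {D : ChevalleyDatum} {F : Type*} [Field F] {σ : GL D.Idx F → GL D.Idx F}
  {bar ρ E : ℕ → ℕ} {X : XEnd D F σ bar ρ E} {cls : List (List ℕ)}
  {G1 : Subgroup (GL D.Idx F)}

/-- every symmetric word has a representative -/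
theorem exists_rep (Y : XGrp X cls G1) {reps : List (List (List ℕ))} (R : TwReps D cls reps) :
    ∀ Cs₀ : List (List ℕ), (∀ c ∈ Cs₀, c ∈ cls) →
      ∃ Cs ∈ reps, ∀ r < D.nroots, reflWord D Cs₀.flatten r = reflWord D Cs.flatten r := by
  have hD := X.hD
  have VJ := validJ_of_mem hD
  have H := validH_of_mem hD
  intro Cs₀
  induction Cs₀ using List.reverseRecOn with
  | nil =>
    intro _
    obtain ⟨Cs, hCs, h⟩ := R.one
    exact ⟨Cs, hCs, fun r hr => (h r hr).symm⟩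
  | append_singleton Cs₁ c ih =>
    intro hCs
    obtain ⟨R₁, hR₁, e₁⟩ := ih (fun c' hc' => hCs c' (by simp [hc']))
    have hc : c ∈ cls := hCs c (by simp)
    obtain ⟨R₂, hR₂, e₂⟩ := R.closed R₁ hR₁ c hc
    refine ⟨R₂, hR₂, fun r hr => ?_⟩
    rw [List.flatten_append, List.flatten_singleton, reflWord_append, ← e₂ r hr, reflWord_append]
    exact e₁ _ (reflWord_lt VJ H.nS (Y.cls_ok c hc).lt hr)

/-- the order of an abstract twisted group from the Bruhat decomposition -/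
theorem card_eq [Finite F] (Y : XGrp X cls G1) {reps : List (List (List ℕ))}
    (R : TwReps D cls reps) :
    Nat.card ↥G1 = Nat.card ↥(D.posUnipotent F ⊓ G1) * Nat.card ↥(D.diagonalSubgroup F ⊓ G1) *
      (reps.map fun Cs => (Cs.map fun c => Nat.card ↥(UnegW D F c ⊓ X.fix)).prod).sum := by
  classical
  have hD := X.hD
  have V := valid0_of_mem hD
  have V1 := valid1_of_mem hD
  have VJ := validJ_of_mem hD
  have H := validH_of_mem hD
  have C := copP_of_mem hD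
  -- the Bruhat map
  let Φ : (Σ i : {Cs // Cs ∈ reps},
      ↥(D.borelSubgroup F ⊓ G1) × ↥(UnegW D F i.1.flatten ⊓ G1)) → ↥G1 :=
    fun x => ⟨(x.2.1 : GL D.Idx F) * nP D F x.1.1.flatten * (x.2.2 : GL D.Idx F),
      mul_mem (mul_mem (Subgroup.mem_inf.mp x.2.1.2).2 (Y.nP_mem (R.sym x.1.1 x.1.2)))
        (Subgroup.mem_inf.mp x.2.2.2).2⟩
  have hinj : Function.Injective Φ := by
    rintro ⟨⟨Cs, hCs⟩, b, u⟩ ⟨⟨Cs', hCs'⟩, b', u'⟩ hxy
    have e : (b : GL D.Idx F) * nP D F Cs.flatten * (u : GL D.Idx F) =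
        (b' : GL D.Idx F) * nP D F Cs'.flatten * (u' : GL D.Idx F) := congrArg Subtype.val hxy
    have hl := Y.flatten_lt (R.sym Cs hCs)
    have hl' := Y.flatten_lt (R.sym Cs' hCs')
    obtain ⟨hH, himp⟩ := bruhat_unique_chev hD (Subgroup.mem_inf.mp b.2).1
      (Subgroup.mem_inf.mp b'.2).1 (nP_mem_monomial hD hl) (nP_mem_monomial hD hl')
      (unegW_le_unegS hD hl (Subgroup.mem_inf.mp u.2).1)
      (unegW_le_unegS hD hl' (Subgroup.mem_inf.mp u'.2).1) e
    have hP := (rootPermN_nP (F := F) VJ V1 H.nS _ hl).rootPerm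
    have hP' := (rootPermN_nP (F := F) VJ V1 H.nS _ hl').rootPerm
    have hP2 := hP.mul (rootPerm_torus V (torusLike_of_mem VJ V1 H hH))
    rw [← Units.val_mul, mul_inv_cancel_left] at hP2
    have hJJ : Cs = Cs' := by
      apply R.inj Cs hCs Cs' hCs'
      intro r hr
      exact rootPerm_unique V C
        (M := ((nP D F Cs'.flatten : GL D.Idx F) : Matrix D.Idx D.Idx F))
        (Mi := (((nP D F Cs'.flatten)⁻¹ : GL D.Idx F) : Matrix D.Idx D.Idx F))
        (by rw [← Units.val_mul, mul_inv_cancel, Units.val_one]) hP2 hP' hr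
    subst hJJ
    obtain ⟨h1, h2⟩ := himp rfl
    have hb : b = b' := Subtype.ext h1
    have hu : u = u' := Subtype.ext h2
    rw [hb, hu]
  have hsurj : Function.Surjective Φ := by
    rintro ⟨g, hg⟩
    obtain ⟨Cs₀, hCs₀, hgood, u₁, hu₁, h₁, hh₁, u, hu, e⟩ := Y.bruhat hg
    obtain ⟨Cs, hCs, hact⟩ := Y.exists_rep R Cs₀ hCs₀
    have hl₀ := Y.flatten_lt hCs₀
    have hl := Y.flatten_lt (R.sym Cs hCs)
    have ht := nP_mul_inv_mem_diagonal (F := F) hD hl₀ hl hact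
    have htG : nP D F Cs₀.flatten * (nP D F Cs.flatten)⁻¹ ∈ G1 :=
      mul_mem (Y.nP_mem hCs₀) (inv_mem (Y.nP_mem (R.sym Cs hCs)))
    have hb : u₁ * h₁ * (nP D F Cs₀.flatten * (nP D F Cs.flatten)⁻¹) ∈ D.borelSubgroup F ⊓ G1 :=
      Subgroup.mem_inf.mpr
        ⟨mul_mem (mul_mem (pos_le_borel (Subgroup.mem_inf.mp hu₁).1)
          (diagonal_le_borel (Subgroup.mem_inf.mp hh₁).1)) (diagonal_le_borel ht),
        mul_mem (mul_mem (Subgroup.mem_inf.mp hu₁).2 (Subgroup.mem_inf.mp hh₁).2) htG⟩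
    have hu' : u ∈ UnegW D F Cs.flatten ⊓ G1 := by
      rw [← unegW_congr hact]
      exact hu
    refine ⟨⟨⟨Cs, hCs⟩, ⟨_, hb⟩, ⟨u, hu'⟩⟩, ?_⟩
    apply Subtype.ext
    show u₁ * h₁ * (nP D F Cs₀.flatten * (nP D F Cs.flatten)⁻¹) * nP D F Cs.flatten * u = g
    rw [e]
    group
  have hcard := Nat.card_congr (Equiv.ofBijective Φ ⟨hinj, hsurj⟩)
  rw [← hcard, Nat.card_sigma]
  have h1 : ∀ i : {Cs // Cs ∈ reps},
      Nat.card (↥(D.borelSubgroup F ⊓ G1) × ↥(UnegW D F i.1.flatten ⊓ G1)) =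
        Nat.card ↥(D.posUnipotent F ⊓ G1) * Nat.card ↥(D.diagonalSubgroup F ⊓ G1) *
          (i.1.map fun c => Nat.card ↥(UnegW D F c ⊓ X.fix)).prod := by
    rintro ⟨Cs, hCs⟩
    rw [Nat.card_prod, Y.card_borel, Y.unegW_inf_eq (R.sym Cs hCs) (R.good Cs hCs),
      X.card_fix (Y.clsOk (R.sym Cs hCs)) (R.good Cs hCs)]
  rw [Finset.sum_congr rfl (fun i _ => h1 i), ← Finset.mul_sum]
  congr 1
  rw [← List.sum_toFinset _ R.nodup]
  exact (Finset.sum_subtype reps.toFinset (fun Cs => List.mem_toFinset)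
    (fun Cs => (Cs.map fun c => Nat.card ↥(UnegW D F c ⊓ X.fix)).prod)).symm

end XGrp

end Cfsg.Agent.Lib.Helper8.Chev
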