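import Cfsg.Agent.Lib.Helper8.ChevRF14
import Cfsg.Agent.Lib.Helper8.ChevXT7

set_option autoImplicit false
set_option maxRecDepth 100000

/-! The order of `²F₄(q)`. -/

namespace Cfsg.Agent.Lib.Helper8.Chev

open Cfsg.Lie Matrix

/-- representatives of the twisted Weyl group of `²F₄` (dihedral of order 16) -/
def repsF4 : List (List (List ℕ)) :=
  [[], [[0, 3]], [[1, 2, 1, 2]], [[0, 3], [1, 2, 1, 2]], [[1, 2, 1, 2], [0, 3]],
    [[0, 3], [1, 2, 1, 2], [0, 3]], [[1, 2, 1, 2], [0, 3], [1, 2, 1, 2]],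
    [[0, 3], [1, 2, 1, 2], [0, 3], [1, 2, 1, 2]], [[1, 2, 1, 2], [0, 3], [1, 2, 1, 2], [0, 3]],
    [[0, 3], [1, 2, 1, 2], [0, 3], [1, 2, 1, 2], [0, 3]],
    [[1, 2, 1, 2], [0, 3], [1, 2, 1, 2], [0, 3], [1, 2, 1, 2]],
    [[0, 3], [1, 2, 1, 2], [0, 3], [1, 2, 1, 2], [0, 3], [1, 2, 1, 2]],
    [[1, 2, 1, 2], [0, 3], [1, 2, 1, 2], [0, 3], [1, 2, 1, 2], [0, 3]],
    [[0, 3], [1, 2, 1, 2], [0, 3], [1, 2, 1, 2], [0, 3], [1, 2, 1, 2], [0, 3]],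
    [[1, 2, 1, 2], [0, 3], [1, 2, 1, 2], [0, 3], [1, 2, 1, 2], [0, 3], [1, 2, 1, 2]],
    [[0, 3], [1, 2, 1, 2], [0, 3], [1, 2, 1, 2], [0, 3], [1, 2, 1, 2], [0, 3], [1, 2, 1, 2]]]

theorem twReps_F4 : TwReps chevF4 clsF4 repsF4 where
  sym := by decide
  good := by
    have h : ∀ Cs ∈ repsF4, goodR chevF4 Cs.flatten.reverse = true := by decide +kernel
    intro Cs hCs
    have := goodR_sound _ (h Cs hCs)
    rwa [List.reverse_reverse] at this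
  one := ⟨[], by decide, fun r _ => rfl⟩
  closed := by decide +kernel
  inj := by decide +kernel
  nodup := by decide

section

variable {K : Type*} [Field K] [Fintype K] [CharP K 2] {m : ℕ}
  {σ : GL chevF4.Idx K → GL chevF4.Idx K}

/-- `|²F₄(q)| = q¹² (q - 1) (q³ + 1) (q⁴ - 1) (q⁶ + 1)` -/
theorem card_twistedF4 (hK : Fintype.card K = 2 ^ (2 * m + 1))
    (X : XEnd chevF4 K σ barF4 rhoF4 (expF4 m)) :
    Nat.card ↥(twistedF4 K (2 ^ m)) =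
      (2 ^ (2 * m + 1)) ^ 12 * (2 ^ (2 * m + 1) - 1) * ((2 ^ (2 * m + 1)) ^ 3 + 1) *
        ((2 ^ (2 * m + 1)) ^ 4 - 1) * ((2 ^ (2 * m + 1)) ^ 6 + 1) := by
  have Y := xGrp_F4 hK X
  rw [Y.card_eq twReps_F4, card_pos_F4 hK X, card_diag_F4 hK X]
  simp only [repsF4, List.map_cons, List.map_nil, List.sum_cons, List.sum_nil, List.prod_cons,
    List.prod_nil, card_clsA hK X, card_clsB hK X]
  generalize hq : 2 ^ (2 * m + 1) = q
  have hq1 : 1 ≤ q := by rw [← hq]; exact Nat.one_le_two_pow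
  obtain ⟨n, rfl⟩ : ∃ n, q = n + 1 := ⟨q - 1, by omega⟩
  have e4 : (n + 1) ^ 4 - 1 = n * ((n + 1) + 1) * ((n + 1) ^ 2 + 1) := by
    have : (n + 1) ^ 4 = n * ((n + 1) + 1) * ((n + 1) ^ 2 + 1) + 1 := by ring
    omega
  rw [e4, Nat.add_sub_cancel]
  ring

end

end Cfsg.Agent.Lib.Helper8.Chev
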