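import Cfsg.Agent.Lib.Helper8.ChevN2

set_option autoImplicit false

namespace Cfsg.Agent.Lib.Helper8.Chev

open Cfsg.Lie Matrix

/-! ### Fundamental reflections permute the other positive roots -/

noncomputable def checkRP (D : ChevalleyDatum) : Bool :=
  forallLtF (fun i => withNat (D.simple i) fun p => Nat.ble (D.nroots / 2) p &&
    forallLtF (fun s => !(Nat.ble (D.nroots / 2) s) || Nat.beq s p ||
      Nat.ble (D.nroots / 2) (reflP D p (getZ 4 8 (packA D) i s) s)) D.nroots) D.rank

theorem checkRP_G2 : checkRP chevG2 = true := by decide +kernel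
theorem checkRP_B2 : checkRP chevB2 = true := by decide +kernel
theorem checkRP_D4 : checkRP chevD4 = true := by decide +kernel
theorem checkRP_F4 : checkRP chevF4 = true := by decide +kernel
theorem checkRP_E6 : checkRP chevE6 = true := by decide +kernel
theorem checkRP_E7 : checkRP chevE7 = true := by decide +kernel
theorem checkRP_E8 : checkRP chevE8 = true := by decide +kernel

theorem checkRP_of_mem {D : ChevalleyDatum}
    (hD : D ∈ [chevG2, chevB2, chevD4, chevF4, chevE6, chevE7, chevE8]) : checkRP D = true := by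
  simp only [List.mem_cons, List.not_mem_nil, or_false] at hD
  rcases hD with rfl | rfl | rfl | rfl | rfl | rfl | rfl
  · exact checkRP_G2
  · exact checkRP_B2
  · exact checkRP_D4
  · exact checkRP_F4
  · exact checkRP_E6
  · exact checkRP_E7
  · exact checkRP_E8

section

variable {D : ChevalleyDatum}

theorem refl_pos (J : ValidJ D) (h : checkRP D = true) {i : ℕ} (hi : i < D.rank) :
    D.nroots / 2 ≤ D.simple i ∧ ∀ s < D.nroots, D.nroots / 2 ≤ s → s ≠ D.simple i →
      D.nroots / 2 ≤ D.reflectRoot i s := by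
  have hp := (J.S i hi).1
  simp only [checkRP, forallLtF_eq_true, withNat_eq, Bool.and_eq_true, Nat.ble_eq,
    Bool.or_eq_true, Bool.not_eq_true', Nat.beq_eq] at h
  obtain ⟨h1, h2⟩ := h i hi
  refine ⟨h1, fun s hs hpos hne => ?_⟩
  rcases h2 s hs with (h3 | h3) | h3
  · rw [← Bool.not_eq_true, Nat.ble_eq] at h3
    exact absurd hpos h3
  · exact absurd h3 hne
  · rwa [reflP_eq J.V J.T hi hp hs] at h3

theorem reflectRoot_simple (i : ℕ) : D.reflectRoot i (D.simple i) = D.neg (D.simple i) := by
  unfold ChevalleyDatum.reflectRoot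
  simp

theorem reflWord_neg (J : ValidJ D) (hN : checkNS D = true) {l : List ℕ}
    (hl : ∀ i ∈ l, i < D.rank) {s : ℕ} (hs : s < D.nroots) :
    reflWord D l (D.neg s) = D.neg (reflWord D l s) := by
  induction l with
  | nil => rfl
  | cons i l ih =>
    have hi := hl i List.mem_cons_self
    have hl' : ∀ j ∈ l, j < D.rank := fun j hj => hl j (List.mem_cons_of_mem _ hj)
    rw [reflWord_cons, reflWord_cons, ih hl']
    exact ((nS_props J hN hi).2.2 _ (reflWord_lt J hN hl' hs)).2.2.2.2

/-- the exchange property -/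
theorem exchange (J : ValidJ D) (hN : checkNS D = true) (hRP : checkRP D = true) {k : ℕ}
    (hk : k < D.rank) :
    ∀ u : List ℕ, (∀ i ∈ u, i < D.rank) → reflWord D u (D.simple k) < D.nroots / 2 →
      ∃ (u1 : List ℕ) (j : ℕ) (u2 : List ℕ), u = u1 ++ j :: u2 ∧
        reflWord D u2 (D.simple k) = D.simple j := by
  have hpk := (J.S k hk).1
  intro u
  induction u with
  | nil =>
    intro _ h
    have := (refl_pos J hRP hk).1
    have h' : D.simple k < D.nroots / 2 := h
    omega
  | cons j u ih =>
    intro hu h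
    have hj := hu j List.mem_cons_self
    have hu' : ∀ i ∈ u, i < D.rank := fun i hi => hu i (List.mem_cons_of_mem _ hi)
    by_cases hq : reflWord D u (D.simple k) < D.nroots / 2
    · obtain ⟨u1, j', u2, e, he⟩ := ih hu' hq
      exact ⟨j :: u1, j', u2, by rw [e]; rfl, he⟩
    · rw [not_lt] at hq
      have hlt := reflWord_lt J hN hu' hpk
      rw [reflWord_cons] at h
      by_cases hne : reflWord D u (D.simple k) = D.simple j
      · exact ⟨[], j, u, rfl, hne⟩
      · have := (refl_pos J hRP hj).2 _ hlt hq hne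
        omega

end

/-! ### Uniqueness of the root of a root element -/

section

variable {D : ChevalleyDatum} {F : Type*} [Field F]

theorem xN_mulVec_E_neg_inl (V : Valid0 D) {a : ℕ} (ha : a < D.nroots) (c : F) {i : ℕ}
    (hi : i < D.rank) :
    (xN D F a c *ᵥ E D F (D.neg a)) (Sum.inl ⟨i, hi⟩) = c * ((cor D a i : ℤ) : F) := by
  rw [xN_mulVec_E_neg V F ha c]
  simp

theorem xN_inj_root (V : Valid0 D) (C : CopP D) {a b : ℕ} (ha : a < D.nroots) (hb : b < D.nroots)
    {c d : F} (hc : c ≠ 0) (h : xN D F a c = xN D F b d) : a = b := by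
  by_contra hab
  apply hc
  apply eq_zero_of_cop C ha
  intro i hi
  rw [← xN_mulVec_E_neg_inl V ha c hi, h]
  have hna := V.neg_lt ha
  by_cases hb' : D.neg a = b
  · rw [hb', xN_mulVec_E_self F hb d]
    simp
  · have hb'' : D.neg a ≠ D.neg b := by
      rw [V.neg_eq a ha, V.neg_eq b hb]
      omega
    rw [xN_mulVec_E V F hb d hna hb' hb'']
    simp [chainVec_apply_inl]

theorem xN_eq_one (V : Valid0 D) (C : CopP D) {a : ℕ} (ha : a < D.nroots) {c : F}
    (h : xN D F a c = 1) : c = 0 := by
  apply eq_zero_of_cop C ha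
  intro i hi
  rw [← xN_mulVec_E_neg_inl V ha c hi, h, Matrix.one_mulVec]
  simp

theorem rootPerm_unique (V : Valid0 D) (C : CopP D) {M Mi : Matrix D.Idx D.Idx F}
    (hMi : M * Mi = 1) {σ τ : ℕ → ℕ} (h1 : RootPerm D F M σ) (h2 : RootPerm D F M τ) {s : ℕ}
    (hs : s < D.nroots) : σ s = τ s := by
  obtain ⟨hl1, ε1, e1⟩ := h1 s hs
  obtain ⟨hl2, ε2, e2⟩ := h2 s hs
  have e : xN D F (σ s) ((ε1 : F) * 1) * M = xN D F (τ s) ((ε2 : F) * 1) * M := by
    rw [← e1, ← e2]
  have e' : xN D F (σ s) ((ε1 : F) * 1) = xN D F (τ s) ((ε2 : F) * 1) := by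
    have := congrArg (· * Mi) e
    simpa only [Matrix.mul_assoc, hMi, Matrix.mul_one] using this
  exact xN_inj_root V C hl1 hl2 (by simp) e'

/-! ### Deleting a pair of letters -/

theorem delete_pair (hD : D ∈ [chevG2, chevB2, chevD4, chevF4, chevE6, chevE7, chevE8])
    {u : List ℕ} (hu : ∀ i ∈ u, i < D.rank) {j k : ℕ} (hj : j < D.rank) (hk : k < D.rank)
    (h : reflWord D u (D.simple k) = D.simple j) :
    ∃ t ∈ D.diagonalSubgroup F, nG D F j * nP D F u * nG D F k = t * nP D F u := by
  have V := valid0_of_mem hD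
  have V1 := valid1_of_mem hD
  have J := validJ_of_mem hD
  have H := validH_of_mem hD
  have hpj := (J.S j hj).1
  have hP := rootPermN_nP (F := F) J V1 H.nS u hu
  obtain ⟨ε, hε, hc⟩ := hP.conj_nMat V (J.S k hk).1
  rw [h] at hc
  have hc1 := hc 1
  rw [mul_one, ← coe_nG J V1 hk] at hc1
  rcases hε with rfl | rfl
  · rw [← coe_nG J V1 hj, ← Units.val_mul, ← Units.val_mul] at hc1
    have e : nP D F u * nG D F k = nG D F j * nP D F u := Units.ext hc1
    refine ⟨nG D F j * nG D F j, ?_, ?_⟩
    · apply hMat_mem_diagonal hpj (neg_ne_zero.mpr one_ne_zero)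
      rw [Units.val_mul, coe_nG J V1 hj, nMat_one_sq J V1 H hpj]
    · rw [mul_assoc, e, mul_assoc]
  · rw [← coe_nG_inv J V1 hj, ← Units.val_mul, ← Units.val_mul] at hc1
    have e : nP D F u * nG D F k = (nG D F j)⁻¹ * nP D F u := Units.ext hc1
    refine ⟨1, one_mem _, ?_⟩
    rw [mul_assoc, e, ← mul_assoc, mul_inv_cancel]

/-! ### The kernel of `N → W` is `H` -/

theorem nP_mem_diagonal_of_pos (hD : D ∈ [chevG2, chevB2, chevD4, chevF4, chevE6, chevE7, chevE8]) :
    ∀ (m : ℕ) (l : List ℕ), l.length ≤ m → (∀ i ∈ l, i < D.rank) →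
      (∀ s, D.nroots / 2 ≤ s → s < D.nroots → D.nroots / 2 ≤ reflWord D l s) →
      nP D F l ∈ D.diagonalSubgroup F := by
  have V := valid0_of_mem hD
  have V1 := valid1_of_mem hD
  have J := validJ_of_mem hD
  have H := validH_of_mem hD
  have hI := checkInv_of_mem hD
  have hRP := checkRP_of_mem hD
  have C := copP_of_mem hD
  intro m
  induction m using Nat.strong_induction_on with
  | _ m ih =>
    intro l hlen hl hpos
    rcases List.eq_nil_or_concat l with rfl | ⟨l0, k, hlk⟩
    · rw [nP_nil]; exact one_mem _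
    · rw [List.concat_eq_append] at hlk
      subst hlk
      have hk : k < D.rank := hl k (by simp)
      have hl0 : ∀ i ∈ l0, i < D.rank := fun i hi => hl i (by simp [hi])
      have hpk := (J.S k hk).1
      have hkpos := (refl_pos J hRP hk).1
      -- the root `w_{l0}(p_k)` is negative
      have h1 := hpos (D.simple k) hkpos hpk
      rw [reflWord_append] at h1
      have h2 : reflWord D [k] (D.simple k) = D.neg (D.simple k) := reflectRoot_simple k
      rw [h2, reflWord_neg J H.nS hl0 hpk] at h1
      have hlt := reflWord_lt J H.nS hl0 hpk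
      rw [V.neg_eq _ hlt] at h1
      have hneg : reflWord D l0 (D.simple k) < D.nroots / 2 := by
        have := V.even
        omega
      obtain ⟨u1, j, u2, e, he⟩ := exchange J H.nS hRP hk l0 hl0 hneg
      have hj : j < D.rank := hl0 j (by rw [e]; simp)
      have hu1 : ∀ i ∈ u1, i < D.rank := fun i hi => hl0 i (by rw [e]; simp [hi])
      have hu2 : ∀ i ∈ u2, i < D.rank := fun i hi => hl0 i (by rw [e]; simp [hi])
      obtain ⟨t, ht, hdel⟩ := delete_pair (F := F) hD hu2 hj hk he
      have hnorm := N0_le_normalizer J V1 H hI (nP_mem_N0 (F := F) hu1)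
      have ht' : nP D F u1 * t * (nP D F u1)⁻¹ ∈ D.diagonalSubgroup F :=
        (Subgroup.mem_normalizer_iff.mp hnorm t).mp ht
      have hl' : ∀ i ∈ u1 ++ u2, i < D.rank := by
        intro i hi
        rw [List.mem_append] at hi
        rcases hi with hi | hi
        · exact hu1 i hi
        · exact hu2 i hi
      have hprod : nP D F (l0 ++ [k]) = (nP D F u1 * t * (nP D F u1)⁻¹) * nP D F (u1 ++ u2) := by
        rw [e, nP_append, nP_append, nP_cons, nP_cons, nP_nil, mul_one, nP_append]
        calc nP D F u1 * (nG D F j * nP D F u2) * nG D F k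
            = nP D F u1 * (nG D F j * nP D F u2 * nG D F k) := by group
          _ = nP D F u1 * (t * nP D F u2) := by rw [hdel]
          _ = nP D F u1 * t * (nP D F u1)⁻¹ * (nP D F u1 * nP D F u2) := by group
      -- positivity for the shorter word
      have hPl := (rootPermN_nP (F := F) J V1 H.nS (l0 ++ [k]) hl).rootPerm
      have hPl' := (rootPerm_torus V (torusLike_of_mem J V1 H ht')).mul
        (rootPermN_nP (F := F) J V1 H.nS (u1 ++ u2) hl').rootPerm
      rw [← Units.val_mul, ← hprod] at hPl'
      have hinv : ((nP D F (l0 ++ [k]) : GL D.Idx F) : Matrix D.Idx D.Idx F) *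
          (((nP D F (l0 ++ [k]))⁻¹ : GL D.Idx F) : Matrix D.Idx D.Idx F) = 1 := by
        rw [← Units.val_mul, mul_inv_cancel, Units.val_one]
      have hpos' : ∀ s, D.nroots / 2 ≤ s → s < D.nroots →
          D.nroots / 2 ≤ reflWord D (u1 ++ u2) s := by
        intro s hs1 hs2
        have := rootPerm_unique V C hinv hPl hPl' hs2
        have h3 := hpos s hs1 hs2
        rw [this] at h3
        exact h3
      have hlen' : (u1 ++ u2).length < m := by
        rw [e] at hlen
        simp only [List.length_append, List.length_cons, List.length_nil] at hlen ⊢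
        omega
      have := ih _ hlen' (u1 ++ u2) le_rfl hl' hpos'
      rw [hprod]
      exact mul_mem ht' this

end

end Cfsg.Agent.Lib.Helper8.Chev
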