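import Cfsg.Agent.Lib.Helper8.ChevBN4

set_option autoImplicit false

namespace Cfsg.Agent.Lib.Helper8.Chev

open Cfsg.Lie Matrix

section

variable {D : ChevalleyDatum} {F : Type*} [Field F]

/-- there is `n₀ ∈ N` with `n₀ U n₀⁻¹ = V` -/
theorem exists_w0_conj (hD : D ∈ [chevG2, chevB2, chevD4, chevF4, chevE6, chevE7, chevE8]) :
    ∃ n ∈ D.monomialSubgroup F,
      (D.posUnipotent F).map (MulAut.conj n).toMonoidHom = D.negUnipotent F := by
  have V := valid0_of_mem hD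
  have V1 := valid1_of_mem hD
  have P := posP_of_mem hD
  obtain ⟨n, hn, σ, τ, hσ, hτ, h1, h2⟩ := exists_w0 (F := F) hD
  refine ⟨n, hn, le_antisymm ?_ ?_⟩
  · unfold ChevalleyDatum.posUnipotent
    rw [MonoidHom.map_closure, Subgroup.closure_le]
    rintro _ ⟨g, ⟨r, t, hr, hg⟩, rfl⟩
    obtain ⟨ε, he⟩ := rootPerm_conj hσ hr.1 t g hg
    have hpos := (P r hr.1).1.mp hr
    have hlt := (hσ r hr.1).1
    have hneg := (P _ hlt).2.mpr (h1 r hpos hr.1)
    exact Subgroup.subset_closure ⟨σ r, ε * t, hneg, he⟩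
  · unfold ChevalleyDatum.negUnipotent
    rw [Subgroup.closure_le]
    rintro g ⟨s, t, hs, hg⟩
    have hneg := (P s hs.1).2.mp hs
    obtain ⟨ε, he⟩ := rootPerm_conj hτ hs.1 t g hg
    have hlt := (hτ s hs.1).1
    have hpos := (P _ hlt).1.mpr (h2 s hneg)
    have hu : n⁻¹ * g * n⁻¹⁻¹ ∈ D.posUnipotent F :=
      Subgroup.subset_closure ⟨τ s, ε * t, hpos, he⟩
    rw [SetLike.mem_coe, Subgroup.mem_map]
    refine ⟨n⁻¹ * g * n⁻¹⁻¹, hu, ?_⟩
    show n * (n⁻¹ * g * n⁻¹⁻¹) * n⁻¹ = g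
    group

/-- an element all of whose conjugates lie in `B` lies in `H` -/
theorem core_le_diagonal (hD : D ∈ [chevG2, chevB2, chevD4, chevF4, chevE6, chevE7, chevE8])
    {x : GL D.Idx F} (hx : ∀ g ∈ D.group F, g * x * g⁻¹ ∈ D.borelSubgroup F) :
    x ∈ D.diagonalSubgroup F := by
  have V := valid0_of_mem hD
  have V1 := valid1_of_mem hD
  have J := validJ_of_mem hD
  have H := validH_of_mem hD
  have P := posP_of_mem hD
  have Tr := triP_of_mem hD
  obtain ⟨n, hn, hmap⟩ := exists_w0_conj (F := F) hD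
  have hnG := monomial_le_group V V1 hn
  have hxB : x ∈ D.borelSubgroup F := by
    have := hx 1 (one_mem _)
    simpa using this
  have h1 := hx n⁻¹ (inv_mem hnG)
  obtain ⟨u, hu, h, hh, e⟩ := borel_decomp J V1 H h1
  have hxe : x = (n * u * n⁻¹) * (n * h * n⁻¹) := by
    have : x = n * (n⁻¹ * x * n⁻¹⁻¹) * n⁻¹ := by group
    rw [this, e]
    group
  have hv : n * u * n⁻¹ ∈ D.negUnipotent F := by
    rw [← hmap]
    exact ⟨u, hu, rfl⟩
  have hh' : n * h * n⁻¹ ∈ D.diagonalSubgroup F :=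
    (Subgroup.mem_normalizer_iff.mp (monomial_le_normalizer hD hn) h).mp hh
  have hmem : x ∈ D.borelSubgroup F ⊓ (D.negUnipotent F ⊔ D.diagonalSubgroup F) := by
    refine ⟨hxB, ?_⟩
    rw [hxe]
    exact mul_mem (Subgroup.mem_sup_left hv) (Subgroup.mem_sup_right hh')
  rwa [borel_inf_neg_sup_diagonal J V1 H Tr P] at hmem

/-- `⋂_g g B g⁻¹ = 1` -/
theorem core_trivial (hD : D ∈ [chevG2, chevB2, chevD4, chevF4, chevE6, chevE7, chevE8])
    {x : GL D.Idx F} (hx : ∀ g ∈ D.group F, g * x * g⁻¹ ∈ D.borelSubgroup F) : x = 1 := by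
  have V := valid0_of_mem hD
  have V1 := valid1_of_mem hD
  have J := validJ_of_mem hD
  have H := validH_of_mem hD
  have P := posP_of_mem hD
  have Tr := triP_of_mem hD
  have C := copP_of_mem hD
  have hxH := core_le_diagonal hD hx
  obtain ⟨f, hf, hm⟩ := torusLike_of_mem J V1 H hxH
  -- the conjugates of `x⁻¹` also lie in the core
  have hconj : ∀ a ∈ D.group F, a * x⁻¹ * a⁻¹ ∈ D.diagonalSubgroup F := by
    intro a ha
    apply core_le_diagonal hD
    intro g hg
    have := hx (g * a) (mul_mem hg ha)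
    have e : g * (a * x⁻¹ * a⁻¹) * g⁻¹ = (g * a * x * (g * a)⁻¹)⁻¹ := by group
    rw [e]
    exact inv_mem this
  have hf1 : ∀ s < D.nroots, ((f s : Fˣ) : F) = 1 := by
    intro s hs
    obtain ⟨a, ha⟩ := exists_unit_x V V1 hs (1 : F)
    have haG : a ∈ D.group F := x_mem_group hs 1 a ha
    have hz : x * (a * x⁻¹ * a⁻¹) ∈ D.diagonalSubgroup F := mul_mem hxH (hconj a haG)
    have hzm : ((x * (a * x⁻¹ * a⁻¹) : GL D.Idx F) : Matrix D.Idx D.Idx F) =
        xN D F s ((f s : F) - 1) := by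
      have e : x * (a * x⁻¹ * a⁻¹) = (x * a * x⁻¹) * a⁻¹ := by group
      have h1 := diagC_mul_xN V hf hs (1 : F)
      rw [e, Units.val_mul, Units.val_mul, Units.val_mul, x_inv V V1 hs 1 a ha, ha, x_eq_xN,
        x_eq_xN, hm, h1, ← hm, Matrix.mul_assoc (xN D F s _), ← Units.val_mul, mul_inv_cancel,
        Units.val_one, Matrix.mul_one, xN_mul_xN F V V1 hs, mul_one, sub_eq_add_neg]
    have hz1 : x * (a * x⁻¹ * a⁻¹) = 1 := by
      by_cases hpos : D.nroots / 2 ≤ s
      · have hzU : x * (a * x⁻¹ * a⁻¹) ∈ D.posUnipotent F := by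
          apply Subgroup.subset_closure
          exact ⟨s, _, (P s hs).1.mpr hpos, by rw [hzm, x_eq_xN]⟩
        have : x * (a * x⁻¹ * a⁻¹) ∈ D.posUnipotent F ⊓ D.diagonalSubgroup F := ⟨hzU, hz⟩
        rwa [pos_inf_diagonal J V1 H Tr P, Subgroup.mem_bot] at this
      · rw [not_le] at hpos
        have hzV : x * (a * x⁻¹ * a⁻¹) ∈ D.negUnipotent F := by
          apply Subgroup.subset_closure
          exact ⟨s, _, (P s hs).2.mpr hpos, by rw [hzm, x_eq_xN]⟩
        have : x * (a * x⁻¹ * a⁻¹) ∈ D.borelSubgroup F ⊓ D.negUnipotent F :=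
          ⟨diagonal_le_borel hz, hzV⟩
        rwa [borel_inf_neg J V1 H Tr P, Subgroup.mem_bot] at this
    rw [hz1, Units.val_one] at hzm
    have := xN_eq_one V C hs hzm.symm
    exact sub_eq_zero.mp this
  apply Units.ext
  rw [hm, Units.val_one, ← diagC_one]
  exact diagC_congr hf1

theorem normalCore_borel (hD : D ∈ [chevG2, chevB2, chevD4, chevF4, chevE6, chevE7, chevE8]) :
    ((D.borelSubgroup F).subgroupOf (D.group F)).normalCore = ⊥ := by
  rw [eq_bot_iff]
  intro x hx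
  rw [Subgroup.mem_bot]
  apply Subtype.ext
  apply core_trivial hD
  intro g hg
  have := hx ⟨g, hg⟩
  rw [Subgroup.mem_subgroupOf] at this
  simpa using this

end

end Cfsg.Agent.Lib.Helper8.Chev
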