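import Mathlib
import Cfsg.Prelude.Def_GeometricClasses
import Cfsg.Agent.Lib.Helper7.AschDefs
import Cfsg.Agent.Lib.Helper7.AschWrap

/-! # S5630 pieces I1 (`inClass_of_not_irr`, `not_scalar_of_irr`) and CORE-AB (`not_absIrr_of_comm`)  (helper8) -/

set_option autoImplicit false

namespace Cfsg.Agent.Lib.Helper8.S5630I1

open Matrix Cfsg.Geo Cfsg.Agent.Lib.Helper7.Asch

variable {F : Type*} [Field F] {n : ℕ}

/-- **I1** reducible groups lie in a subspace stabiliser (class 1) -/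
theorem inClass_of_not_irr [Fintype F] (H : Subgroup (GL (Fin n) F)) (h : ¬ Irr H) : InClass H := by
  unfold Irr ActsIrreducibly at h
  push Not at h
  obtain ⟨W, hW, h0, h1⟩ := h
  refine InClass.of_subspace H W h0 h1 ?_
  intro g hg v
  constructor
  · intro hv
    apply hW (g : Matrix (Fin n) (Fin n) F) ⟨g, hg, rfl⟩
    exact ⟨v, hv, rfl⟩
  · intro hv
    have h2 := hW ((g⁻¹ : GL (Fin n) F) : Matrix (Fin n) (Fin n) F) ⟨g⁻¹, H.inv_mem hg, rfl⟩
      (Submodule.mem_map_of_mem hv)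
    change ((g⁻¹ : GL (Fin n) F) : Matrix (Fin n) (Fin n) F) *ᵥ
      ((g : Matrix (Fin n) (Fin n) F) *ᵥ v) ∈ W at h2
    rwa [Matrix.mulVec_mulVec, ← Units.val_mul, inv_mul_cancel, Units.val_one, Matrix.one_mulVec] at h2

/-- a scalar group leaves every subspace invariant -/
theorem map_le_of_le_scalars (H : Subgroup (GL (Fin n) F)) (hH : H ≤ scalars (Fin n) F)
    (W : Submodule F (Fin n → F)) : ∀ s ∈ matrixSet H, W.map (Matrix.toLin' s) ≤ W := by
  rintro s ⟨g, hg, rfl⟩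
  obtain ⟨c, hc⟩ := (mem_scalars_iff g).1 (hH hg)
  rintro _ ⟨v, hv, rfl⟩
  change (g : Matrix (Fin n) (Fin n) F) *ᵥ v ∈ W
  rw [hc, Matrix.smul_mulVec, Matrix.one_mulVec]
  exact W.smul_mem _ hv

/-- in dimension `≥ 2` there is a proper non-zero subspace -/
theorem exists_proper_subspace (hn : 2 ≤ n) : ∃ W : Submodule F (Fin n → F), W ≠ ⊥ ∧ W ≠ ⊤ := by
  have h0 : (Pi.single (⟨0, by omega⟩ : Fin n) (1 : F) : Fin n → F) ≠ 0 := by
    intro h
    have := congrFun h ⟨0, by omega⟩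
    simp at this
  refine ⟨Submodule.span F {Pi.single (⟨0, by omega⟩ : Fin n) (1 : F)}, ?_, ?_⟩
  · intro h
    rw [Submodule.span_singleton_eq_bot] at h
    exact h0 h
  · intro h
    have h1 : Module.finrank F (Submodule.span F {(Pi.single (⟨0, by omega⟩ : Fin n) (1 : F) : Fin n → F)}) = 1 :=
      finrank_span_singleton h0
    rw [h, finrank_top, Module.finrank_fin_fun] at h1
    omega

/-- irreducible groups are not scalar (`n ≥ 2`) -/
theorem not_scalar_of_irr (hn : 2 ≤ n) (H : Subgroup (GL (Fin n) F)) (h : Irr H) : ¬ H ≤ scalars (Fin n) F := by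
  intro hH
  obtain ⟨W, h0, h1⟩ := exists_proper_subspace (F := F) hn
  rcases h W (map_le_of_le_scalars H hH W) with h2 | h2
  · exact h0 h2
  · exact h1 h2

/-- **CORE-AB** a commutative group is not absolutely irreducible in dimension `≥ 2` -/
theorem not_absIrr_of_comm (hn : 2 ≤ n) (A : Subgroup (GL (Fin n) F)) (hA : ∀ x ∈ A, ∀ y ∈ A, x * y = y * x) :
    ¬ AbsIrr A := by
  rintro ⟨hirr, hsc⟩
  apply not_scalar_of_irr hn A hirr
  intro g hg
  rw [mem_scalars_iff]
  obtain ⟨c, hc⟩ := hsc (g : Matrix (Fin n) (Fin n) F) (by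
    rintro s ⟨x, hx, rfl⟩
    rw [← Units.val_mul, ← Units.val_mul, hA g hg x hx])
  have hc0 : c ≠ 0 := by
    intro h0
    rw [h0, zero_smul] at hc
    have : Nonempty (Fin n) := ⟨⟨0, by omega⟩⟩
    have : (g : Matrix (Fin n) (Fin n) F).det = 0 := by
      rw [hc, Matrix.det_zero]
    have hu := (Matrix.isUnit_iff_isUnit_det _).1 g.isUnit
    rw [this] at hu
    exact not_isUnit_zero hu
  exact ⟨Units.mk0 c hc0, hc⟩

end Cfsg.Agent.Lib.Helper8.S5630I1
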