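import Cfsg.Agent.Lib.Helper8.ChevB

set_option autoImplicit false

namespace Cfsg.Agent.Lib.Helper8.Chev

open Cfsg.Lie

/-- the seven tabulated types -/
def sevenTypes : List ChevalleyDatum := [chevG2, chevB2, chevD4, chevF4, chevE6, chevE7, chevE8]

theorem check0_G2 : check0 chevG2 = true := by decide +kernel
theorem check0_B2 : check0 chevB2 = true := by decide +kernel
theorem check0_D4 : check0 chevD4 = true := by decide +kernel
theorem check0_F4 : check0 chevF4 = true := by decide +kernel
theorem check0_E6 : check0 chevE6 = true := by decide +kernel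
theorem check0_E7 : check0 chevE7 = true := by decide +kernel
theorem check0_E8 : check0 chevE8 = true := by decide +kernel

theorem forall_seven {P : ChevalleyDatum → Prop} (h1 : P chevG2) (h2 : P chevB2) (h3 : P chevD4)
    (h4 : P chevF4) (h5 : P chevE6) (h6 : P chevE7) (h7 : P chevE8) {D : ChevalleyDatum}
    (hD : D ∈ [chevG2, chevB2, chevD4, chevF4, chevE6, chevE7, chevE8]) : P D := by
  simp only [List.mem_cons, List.mem_nil_iff, or_false] at hD
  rcases hD with rfl | rfl | rfl | rfl | rfl | rfl | rfl <;> assumption

theorem valid0_of_mem {D : ChevalleyDatum}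
    (hD : D ∈ [chevG2, chevB2, chevD4, chevF4, chevE6, chevE7, chevE8]) : Valid0 D :=
  forall_seven (P := Valid0) (valid0_of_check check0_G2) (valid0_of_check check0_B2)
    (valid0_of_check check0_D4) (valid0_of_check check0_F4) (valid0_of_check check0_E6)
    (valid0_of_check check0_E7) (valid0_of_check check0_E8) hD

end Cfsg.Agent.Lib.Helper8.Chev
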