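import Cfsg.Agent.Lib.Helper8.ChevF
import Cfsg.Agent.Lib.Helper8.ChevT0

set_option autoImplicit false

namespace Cfsg.Agent.Lib.Helper8.Chev

open Cfsg.Lie

theorem checkT_G2 : checkT chevG2 = true := by decide +kernel
theorem checkT_B2 : checkT chevB2 = true := by decide +kernel
theorem checkT_D4 : checkT chevD4 = true := by decide +kernel
theorem checkT_F4 : checkT chevF4 = true := by decide +kernel
theorem checkT_E6 : checkT chevE6 = true := by decide +kernel
theorem checkT_E7 : checkT chevE7 = true := by decide +kernel
theorem checkT_E8 : checkT chevE8 = true := by decide +kernel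

theorem validT_of_mem {D : ChevalleyDatum}
    (hD : D ∈ [chevG2, chevB2, chevD4, chevF4, chevE6, chevE7, chevE8]) : ValidT D :=
  forall_seven (P := ValidT) (validT_of_check checkT_G2) (validT_of_check checkT_B2)
    (validT_of_check checkT_D4) (validT_of_check checkT_F4) (validT_of_check checkT_E6)
    (validT_of_check checkT_E7) (validT_of_check checkT_E8) hD

theorem check1_G2 : check1 chevG2 = true := by decide +kernel
theorem check1_B2 : check1 chevB2 = true := by decide +kernel
theorem check1_D4 : check1 chevD4 = true := by decide +kernel
theorem check1_F4 : check1 chevF4 = true := by decide +kernel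
theorem check1_E6 : check1 chevE6 = true := by decide +kernel
theorem check1_E7 : check1 chevE7 = true := by decide +kernel
theorem check1_E8 : check1 chevE8 = true := by decide +kernel

theorem valid1_of_mem {D : ChevalleyDatum}
    (hD : D ∈ [chevG2, chevB2, chevD4, chevF4, chevE6, chevE7, chevE8]) : Valid1 D := by
  have hT := validT_of_mem hD
  revert hT
  refine forall_seven (P := fun D => ValidT D → Valid1 D) ?_ ?_ ?_ ?_ ?_ ?_ ?_ hD
  · exact fun hT => valid1_of_check hT rfl rfl check1_G2
  · exact fun hT => valid1_of_check hT rfl rfl check1_B2
  · exact fun hT => valid1_of_check hT rfl rfl check1_D4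
  · exact fun hT => valid1_of_check hT rfl rfl check1_F4
  · exact fun hT => valid1_of_check hT rfl rfl check1_E6
  · exact fun hT => valid1_of_check hT rfl rfl check1_E7
  · exact fun hT => valid1_of_check hT rfl rfl check1_E8

end Cfsg.Agent.Lib.Helper8.Chev
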