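import Cfsg.Agent.Lib.Helper8.ChevW1_E8

set_option autoImplicit false

namespace Cfsg.Agent.Lib.Helper8.Chev

open Cfsg.Lie Matrix

theorem checkW0_of_mem {D : ChevalleyDatum}
    (hD : D ∈ [chevG2, chevB2, chevD4, chevF4, chevE6, chevE7, chevE8]) :
    checkW0 D (w0L D) = true := by
  simp only [List.mem_cons, List.not_mem_nil, or_false] at hD
  rcases hD with rfl | rfl | rfl | rfl | rfl | rfl | rfl
  · exact checkW0_G2
  · exact checkW0_B2
  · exact checkW0_D4
  · exact checkW0_F4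
  · exact checkW0_E6
  · exact checkW0_E7
  · exact checkW0_E8

theorem checkInv_of_mem {D : ChevalleyDatum}
    (hD : D ∈ [chevG2, chevB2, chevD4, chevF4, chevE6, chevE7, chevE8]) :
    checkInv D = true := by
  simp only [List.mem_cons, List.not_mem_nil, or_false] at hD
  rcases hD with rfl | rfl | rfl | rfl | rfl | rfl | rfl
  · exact checkInv_G2
  · exact checkInv_B2
  · exact checkInv_D4
  · exact checkInv_F4
  · exact checkInv_E6
  · exact checkInv_E7
  · exact checkInv_E8

section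

variable {D : ChevalleyDatum} {F : Type*} [Field F]

theorem rootPerm_nMat (J : ValidJ D) (V1 : Valid1 D) (hN : checkNS D = true) {i : ℕ}
    (hi : i < D.rank) : RootPerm D F (D.nMat F (D.simple i) 1) (D.reflectRoot i) := by
  rw [nMat_one_eq]
  exact rootPerm_nS J V1 hN hi

/-- every word is the matrix of an invertible matrix -/
theorem exists_unit_wN (V : Valid0 D) (V1 : Valid1 D) (w : List (ℕ × F))
    (hw : ∀ p ∈ w, p.1 < D.nroots) :
    ∃ g : GL D.Idx F, (g : Matrix D.Idx D.Idx F) = wN D F w := by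
  obtain ⟨g, _, hg⟩ := word_mem_closure V V1 (S := Set.univ) (Q := fun s => s < D.nroots)
    (fun s h => h) (fun _ _ _ _ _ => Set.mem_univ _) w hw
  exact ⟨g, hg⟩

/-- words lie in the Chevalley group -/
theorem word_mem_group (V : Valid0 D) (V1 : Valid1 D) (w : List (ℕ × F))
    (hw : ∀ p ∈ w, p.1 < D.nroots) :
    ∃ g ∈ D.group F, (g : Matrix D.Idx D.Idx F) = wN D F w := by
  have hS : ∀ (s : ℕ) (t : F) (g : GL D.Idx F), s < D.nroots →
      (g : Matrix D.Idx D.Idx F) = D.x F s t →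
      g ∈ {g : GL D.Idx F | ∃ (r : Fin D.nroots) (t : F),
        (g : Matrix D.Idx D.Idx F) = D.xMat F r t} := by
    intro s t g hs hg
    refine ⟨⟨s, hs⟩, t, ?_⟩
    rw [hg]; unfold ChevalleyDatum.x; rw [dif_pos hs]
  have := word_mem_closure V V1 (Q := fun s => s < D.nroots) (fun s h => h) hS w hw
  exact this

theorem mem_group_of_word (V : Valid0 D) (V1 : Valid1 D) (w : List (ℕ × F))
    (hw : ∀ p ∈ w, p.1 < D.nroots) (g : GL D.Idx F)
    (hg : (g : Matrix D.Idx D.Idx F) = wN D F w) : g ∈ D.group F := by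
  obtain ⟨g', hg', hm⟩ := word_mem_group V V1 w hw
  have : g = g' := Units.ext (by rw [hg, hm])
  rw [this]
  exact hg'

theorem hWord_lt (V : Valid0 D) {r : ℕ} (hr : r < D.nroots) (c : F) :
    ∀ p ∈ D.hWord r c, p.1 < D.nroots := by
  intro q hq
  unfold ChevalleyDatum.hWord at hq
  rw [List.mem_append] at hq
  rcases hq with hq | hq
  · exact nWord_lt V hr c q hq
  · exact nWord_lt V hr (-1) q hq

theorem hMat_eq_wN (r : ℕ) (c : F) : D.hMat F r c = wN D F (D.hWord r c) := by
  unfold ChevalleyDatum.hMat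
  rw [wordMat_eq_wN]

theorem x_mem_group {r : ℕ} (hr : r < D.nroots) (t : F) (g : GL D.Idx F)
    (hg : (g : Matrix D.Idx D.Idx F) = D.x F r t) : g ∈ D.group F := by
  unfold ChevalleyDatum.group
  exact Subgroup.subset_closure
    ⟨⟨r, hr⟩, t, by rw [hg]; unfold ChevalleyDatum.x; rw [dif_pos hr]⟩

theorem pos_le_group : D.posUnipotent F ≤ D.group F := by
  unfold ChevalleyDatum.posUnipotent
  rw [Subgroup.closure_le]
  rintro g ⟨r, t, hr, hg⟩
  exact x_mem_group hr.1 t g hg

theorem neg_le_group : D.negUnipotent F ≤ D.group F := by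
  unfold ChevalleyDatum.negUnipotent
  rw [Subgroup.closure_le]
  rintro g ⟨r, t, hr, hg⟩
  exact x_mem_group hr.1 t g hg

theorem diagonal_le_group (V : Valid0 D) (V1 : Valid1 D) : D.diagonalSubgroup F ≤ D.group F := by
  unfold ChevalleyDatum.diagonalSubgroup
  rw [Subgroup.closure_le]
  rintro g ⟨r, t, hr, _, hg⟩
  exact mem_group_of_word V V1 _ (hWord_lt V hr t) g (by rw [hg, hMat_eq_wN])

theorem monomial_le_group (V : Valid0 D) (V1 : Valid1 D) :
    D.monomialSubgroup F ≤ D.group F := by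
  unfold ChevalleyDatum.monomialSubgroup
  apply sup_le (diagonal_le_group V V1)
  rw [Subgroup.closure_le]
  rintro g ⟨r, hr, hg⟩
  exact mem_group_of_word V V1 _ (nWord_lt V hr 1) g (by rw [hg, nMat_eq_wN])

theorem borel_le_group (V : Valid0 D) (V1 : Valid1 D) : D.borelSubgroup F ≤ D.group F :=
  sup_le pos_le_group (diagonal_le_group V V1)

/-- the product of the `n_{p_i}(1)` along a word of fundamental reflections -/
theorem exists_nProd (J : ValidJ D) (V1 : Valid1 D) (hN : checkNS D = true) (l : List ℕ)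
    (hl : ∀ i ∈ l, i < D.rank) :
    ∃ n ∈ D.monomialSubgroup F, RootPerm D F (n : Matrix D.Idx D.Idx F) (reflWord D l) := by
  induction l with
  | nil => exact ⟨1, one_mem _, fun s hs => rootPerm_one s hs⟩
  | cons i l ih =>
    obtain ⟨n, hn, hP⟩ := ih (fun j hj => hl j (List.mem_cons_of_mem _ hj))
    have hi := hl i List.mem_cons_self
    have hp := (J.S i hi).1
    obtain ⟨g, hg⟩ := exists_unit_wN J.V V1 (D.nWord (D.simple i) (1 : F)) (nWord_lt J.V hp 1)
    rw [← nMat_eq_wN] at hg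
    refine ⟨g * n, mul_mem (Subgroup.mem_sup_right
      (Subgroup.subset_closure ⟨D.simple i, hp, hg⟩)) hn, ?_⟩
    rw [Units.val_mul, hg]
    intro s hs
    exact ((rootPerm_nMat J V1 hN hi).mul hP) s hs

theorem RootPerm.inv_unit {n : GL D.Idx F} {σ τ : ℕ → ℕ}
    (h : RootPerm D F (n : Matrix D.Idx D.Idx F) σ)
    (hτ : ∀ s < D.nroots, τ s < D.nroots ∧ σ (τ s) = s) :
    RootPerm D F ((n⁻¹ : GL D.Idx F) : Matrix D.Idx D.Idx F) τ :=
  h.inv (by rw [← Units.val_mul, inv_mul_cancel, Units.val_one])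
    (by rw [← Units.val_mul, mul_inv_cancel, Units.val_one]) hτ

theorem rootPerm_conj {n : GL D.Idx F} {σ : ℕ → ℕ}
    (h : RootPerm D F (n : Matrix D.Idx D.Idx F) σ) {s : ℕ} (hs : s < D.nroots) (t : F)
    (g : GL D.Idx F) (hg : (g : Matrix D.Idx D.Idx F) = D.x F s t) :
    ∃ ε : Fˣ, ((n * g * n⁻¹ : GL D.Idx F) : Matrix D.Idx D.Idx F) = D.x F (σ s) ((ε : F) * t) := by
  obtain ⟨_, ε, e⟩ := h s hs
  refine ⟨ε, ?_⟩
  rw [Units.val_mul, Units.val_mul, hg, x_eq_xN, e t, Matrix.mul_assoc, ← Units.val_mul,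
    mul_inv_cancel, Units.val_one, Matrix.mul_one, x_eq_xN]

/-- a representative of the longest element of the Weyl group -/
theorem exists_w0 (hD : D ∈ [chevG2, chevB2, chevD4, chevF4, chevE6, chevE7, chevE8]) :
    ∃ n ∈ D.monomialSubgroup F, ∃ σ τ : ℕ → ℕ,
      RootPerm D F (n : Matrix D.Idx D.Idx F) σ ∧
      RootPerm D F ((n⁻¹ : GL D.Idx F) : Matrix D.Idx D.Idx F) τ ∧
      (∀ s, D.nroots / 2 ≤ s → s < D.nroots → σ s < D.nroots / 2) ∧
      (∀ s, s < D.nroots / 2 → D.nroots / 2 ≤ τ s) := by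
  have V := valid0_of_mem hD
  have V1 := valid1_of_mem hD
  have J := validJ_of_mem hD
  have H := validH_of_mem hD
  have hW := checkW0_of_mem hD
  have hI := checkInv_of_mem hD
  simp only [checkW0, Bool.and_eq_true, allF_eq_true, Nat.blt_eq, forallLtF_eq_true] at hW
  obtain ⟨hl, hall⟩ := hW
  have hlr : ∀ i ∈ (w0L D).reverse, i < D.rank := fun i hi => hl i (List.mem_reverse.mp hi)
  obtain ⟨n, hn, hP⟩ := exists_nProd (F := F) J V1 H.nS (w0L D) hl
  have hhalf : D.nroots / 2 ≤ D.nroots := Nat.div_le_self _ _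
  refine ⟨n, hn, reflWord D (w0L D), reflWord D (w0L D).reverse, hP, ?_, ?_, ?_⟩
  · apply hP.inv_unit
    intro s hs
    exact ⟨reflWord_lt J H.nS hlr hs, reflWord_reverse_cancel J H.nS hI hl hs⟩
  · intro s h1 h2
    have := hall s h2
    rw [reflWordF_eq J H.nS hl h2] at this
    have hb : Nat.blt s (D.nroots / 2) = false := by
      rw [Bool.eq_false_iff, ne_eq, Nat.blt_eq]; omega
    rw [hb] at this
    simpa using this
  · intro s h1
    have h2 : s < D.nroots := lt_of_lt_of_le h1 hhalf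
    have := hall s h2
    rw [reflWordF_eq J H.nS hlr h2] at this
    have hb : Nat.blt s (D.nroots / 2) = true := by rw [Nat.blt_eq]; exact h1
    rw [hb] at this
    simpa using this

end

end Cfsg.Agent.Lib.Helper8.Chev
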