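import Cfsg.Agent.Lib.Helper8.ChevCAS5

set_option autoImplicit false

namespace Cfsg.Agent.Lib.Helper8.Chev

open Cfsg.Lie Matrix

/-! ### Checking polynomial word identities on the generators -/

open MvPolynomial in
/-- the polynomial of a monomial (with non-negative exponents) -/
noncomputable def polyM (q : Mono) : MvPolynomial (Fin 2) ℤ :=
  C q.2.2 * X 0 ^ q.1.toNat * X 1 ^ q.2.1.toNat

noncomputable def polyW (w : List (ℕ × Mono)) : List (ℕ × MvPolynomial (Fin 2) ℤ) :=
  w.map fun l => (l.1, polyM l.2)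

/-- the value of a monomial at arbitrary ring elements -/
def evalMR {R : Type*} [CommRing R] (t u : R) (q : Mono) : R :=
  (q.2.2 : R) * t ^ q.1.toNat * u ^ q.2.1.toNat

def evalWR {R : Type*} [CommRing R] (t u : R) (w : List (ℕ × Mono)) : List (ℕ × R) :=
  w.map fun l => (l.1, evalMR t u l.2)

theorem evalW_polyW {R : Type*} [CommRing R] (v : Fin 2 → R) (w : List (ℕ × Mono)) :
    evalW v (polyW w) = evalWR (v 0) (v 1) w := by
  unfold evalW mapW polyW evalWR
  rw [List.map_map]
  apply List.map_congr_left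
  intro l _
  simp only [Function.comp_apply]
  congr 1
  unfold polyM evalMR
  rw [map_mul, map_mul, map_pow, map_pow, MvPolynomial.eval₂Hom_X', MvPolynomial.eval₂Hom_X',
    MvPolynomial.eval₂Hom_C]
  simp

theorem evalWd_eq_evalWR {R : Type*} [CommRing R] (T U : Rˣ) (w : List (ℕ × Mono))
    (hw : ∀ l ∈ w, 0 ≤ l.2.1 ∧ 0 ≤ l.2.2.1) : evalWd T U w = evalWR (T : R) (U : R) w := by
  unfold evalWd evalWR
  apply List.map_congr_left
  intro l hl
  have h := hw l hl
  unfold evalM evalMR chi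
  rw [mul_assoc]
  congr 2
  obtain ⟨a, ha⟩ := Int.eq_ofNat_of_zero_le h.1
  obtain ⟨b, hb⟩ := Int.eq_ofNat_of_zero_le h.2
  rw [ha, hb]
  simp

/-- the codes of the generators `e_0`, `e_{p_1}`, …, `e_{p_l}` -/
noncomputable def genCodes (D : ChevalleyDatum) : List ℕ := 0 :: mapF D.simple (rangeF D.rank)

noncomputable def checkWordGen (D : ChevalleyDatum) (w1 w2 : List (ℕ × Mono)) : Bool :=
  allF (fun l : ℕ × Mono => decide (0 ≤ l.2.1) && decide (0 ≤ l.2.2.1)) w1 &&
  allF (fun l : ℕ × Mono => decide (0 ≤ l.2.1) && decide (0 ≤ l.2.2.1)) w2 &&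
  checkWordEqOn (colsF D) D.nroots (genCodes D) w1 w2

theorem wordEq_of_checkGen {D : ChevalleyDatum} (J : ValidJ D) (V1 : Valid1 D)
    {w1 w2 : List (ℕ × Mono)} (h : checkWordGen D w1 w2 = true) {R : Type*} [CommRing R] (t u : R) :
    wN D R (evalWR t u w1) = wN D R (evalWR t u w2) := by
  simp only [checkWordGen, Bool.and_eq_true, allF_eq_true, decide_eq_true_eq] at h
  obtain ⟨⟨hw1, hw2⟩, h⟩ := h
  have key := wN_transfer_units (D := D) (polyW w1) (polyW w2) (by
    intro K _ _ v hv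
    rw [evalW_polyW, evalW_polyW]
    let T : Kˣ := Units.mk0 (v 0) (hv 0)
    let U : Kˣ := Units.mk0 (v 1) (hv 1)
    have e1 := evalWd_eq_evalWR T U w1 hw1
    have e2 := evalWd_eq_evalWR T U w2 hw2
    have hT : (T : K) = v 0 := rfl
    have hU : (U : K) = v 1 := rfl
    rw [hT, hU] at e1 e2
    rw [← e1, ← e2]
    have hon := wordEqOn_of_check J.V (colsF_ok J.T) h (R := K) T U
    apply eq_of_agree_gen J (presBr_wN J V1 _) (presBr_wN J V1 _)
    · exact hon 0 (by unfold genCodes; exact List.mem_cons_self)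
    · intro i hi
      apply hon
      unfold genCodes
      rw [mapF_eq_map, rangeF_eq]
      exact List.mem_cons_of_mem _ (List.mem_map.mpr ⟨i, List.mem_range.mpr hi, rfl⟩)) ![t, u]
  rw [evalW_polyW, evalW_polyW] at key
  exact key

end Cfsg.Agent.Lib.Helper8.Chev
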