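import Cfsg.Agent.Lib.Helper8.ChevJ10

set_option autoImplicit false

namespace Cfsg.Agent.Lib.Helper8.Chev

open Cfsg.Lie

theorem checkN_B2 : checkN chevB2 = true := by decide +kernel
theorem checkAnti_B2 : checkAnti chevB2 (packN chevB2) (packC chevB2) = true := by decide +kernel
theorem checkGen_B2 : checkGen chevB2 = true := by decide +kernel
theorem checkDer_B2_0 : checkDerF chevB2 (bcF chevB2) 0 = true := by decide +kernel
theorem checkDer_B2_5 : checkDerF chevB2 (bcF chevB2) 5 = true := by decide +kernel
theorem checkDer_B2_4 : checkDerF chevB2 (bcF chevB2) 4 = true := by decide +kernel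

theorem validJ_B2 : ValidJ chevB2 := by
  refine validJ_of_checks (valid0_of_check check0_B2) (validT_of_check checkT_B2) rfl (by decide)
    checkN_B2 checkAnti_B2 checkGen_B2 checkDer_B2_0 ?_
  intro p hp
  have : p ∈ [5, 4] := hp
  simp only [List.mem_cons, List.mem_nil_iff, or_false] at this
  rcases this with rfl | rfl
  · exact checkDer_B2_5
  · exact checkDer_B2_4

end Cfsg.Agent.Lib.Helper8.Chev
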