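import Cfsg.Agent.Lib.Helper8.ChevJ10

set_option autoImplicit false

namespace Cfsg.Agent.Lib.Helper8.Chev

open Cfsg.Lie

theorem checkN_D4 : checkN chevD4 = true := by decide +kernel
theorem checkAnti_D4 : checkAnti chevD4 (packN chevD4) (packC chevD4) = true := by decide +kernel
theorem checkGen_D4 : checkGen chevD4 = true := by decide +kernel
theorem checkDer_D4_0 : checkDerF chevD4 (bcF chevD4) 0 = true := by decide +kernel
theorem checkDer_D4_18 : checkDerF chevD4 (bcF chevD4) 18 = true := by decide +kernel
theorem checkDer_D4_14 : checkDerF chevD4 (bcF chevD4) 14 = true := by decide +kernel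
theorem checkDer_D4_13 : checkDerF chevD4 (bcF chevD4) 13 = true := by decide +kernel
theorem checkDer_D4_12 : checkDerF chevD4 (bcF chevD4) 12 = true := by decide +kernel

theorem validJ_D4 : ValidJ chevD4 := by
  refine validJ_of_checks (valid0_of_check check0_D4) (validT_of_check checkT_D4) rfl (by decide)
    checkN_D4 checkAnti_D4 checkGen_D4 checkDer_D4_0 ?_
  intro p hp
  have : p ∈ [18, 14, 13, 12] := hp
  simp only [List.mem_cons, List.mem_nil_iff, or_false] at this
  rcases this with rfl | rfl | rfl | rfl
  · exact checkDer_D4_18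
  · exact checkDer_D4_14
  · exact checkDer_D4_13
  · exact checkDer_D4_12

end Cfsg.Agent.Lib.Helper8.Chev
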