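import Cfsg.Agent.Lib.Helper8.ChevJ_E6_base
import Cfsg.Agent.Lib.Helper8.ChevJ_E6_g0
import Cfsg.Agent.Lib.Helper8.ChevJ_E6_g56
import Cfsg.Agent.Lib.Helper8.ChevJ_E6_g46
import Cfsg.Agent.Lib.Helper8.ChevJ_E6_g42
import Cfsg.Agent.Lib.Helper8.ChevJ_E6_g39
import Cfsg.Agent.Lib.Helper8.ChevJ_E6_g37
import Cfsg.Agent.Lib.Helper8.ChevJ_E6_g36

set_option autoImplicit false

namespace Cfsg.Agent.Lib.Helper8.Chev

open Cfsg.Lie

theorem validJ_E6 : ValidJ chevE6 := by
  refine validJ_of_checks (valid0_of_check check0_E6) (validT_of_check checkT_E6) rfl (by decide)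
    checkN_E6 checkAnti_E6 checkGen_E6 checkDer_E6_0 ?_
  intro p hp
  have : p ∈ [56, 46, 42, 39, 37, 36] := hp
  simp only [List.mem_cons, List.mem_nil_iff, or_false] at this
  rcases this with rfl | rfl | rfl | rfl | rfl | rfl
  · exact checkDer_E6_56
  · exact checkDer_E6_46
  · exact checkDer_E6_42
  · exact checkDer_E6_39
  · exact checkDer_E6_37
  · exact checkDer_E6_36

end Cfsg.Agent.Lib.Helper8.Chev
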