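import Cfsg.Agent.Lib.Helper8.ChevJ_E7_base
import Cfsg.Agent.Lib.Helper8.ChevJ_E7_g0
import Cfsg.Agent.Lib.Helper8.ChevJ_E7_g93
import Cfsg.Agent.Lib.Helper8.ChevJ_E7_g78
import Cfsg.Agent.Lib.Helper8.ChevJ_E7_g73
import Cfsg.Agent.Lib.Helper8.ChevJ_E7_g69
import Cfsg.Agent.Lib.Helper8.ChevJ_E7_g66
import Cfsg.Agent.Lib.Helper8.ChevJ_E7_g64
import Cfsg.Agent.Lib.Helper8.ChevJ_E7_g63

set_option autoImplicit false

namespace Cfsg.Agent.Lib.Helper8.Chev

open Cfsg.Lie

theorem validJ_E7 : ValidJ chevE7 := by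
  refine validJ_of_checks (valid0_of_check check0_E7) (validT_of_check checkT_E7) rfl (by decide)
    checkN_E7 checkAnti_E7 checkGen_E7 checkDer_E7_0 ?_
  intro p hp
  have : p ∈ [93, 78, 73, 69, 66, 64, 63] := hp
  simp only [List.mem_cons, List.mem_nil_iff, or_false] at this
  rcases this with rfl | rfl | rfl | rfl | rfl | rfl | rfl
  · exact checkDer_E7_93
  · exact checkDer_E7_78
  · exact checkDer_E7_73
  · exact checkDer_E7_69
  · exact checkDer_E7_66
  · exact checkDer_E7_64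
  · exact checkDer_E7_63

end Cfsg.Agent.Lib.Helper8.Chev
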