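import Cfsg.Agent.Lib.Helper8.ChevJ_E8_base
import Cfsg.Agent.Lib.Helper8.ChevJ_E8_g0
import Cfsg.Agent.Lib.Helper8.ChevJ_E8_g162
import Cfsg.Agent.Lib.Helper8.ChevJ_E8_g141
import Cfsg.Agent.Lib.Helper8.ChevJ_E8_g135
import Cfsg.Agent.Lib.Helper8.ChevJ_E8_g130
import Cfsg.Agent.Lib.Helper8.ChevJ_E8_g126
import Cfsg.Agent.Lib.Helper8.ChevJ_E8_g123
import Cfsg.Agent.Lib.Helper8.ChevJ_E8_g121
import Cfsg.Agent.Lib.Helper8.ChevJ_E8_g120

set_option autoImplicit false

namespace Cfsg.Agent.Lib.Helper8.Chev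

open Cfsg.Lie

theorem validJ_E8 : ValidJ chevE8 := by
  refine validJ_of_checks (valid0_of_check check0_E8) (validT_of_check checkT_E8) rfl (by decide)
    checkN_E8 checkAnti_E8 checkGen_E8 checkDer_E8_0 ?_
  intro p hp
  have : p ∈ [162, 141, 135, 130, 126, 123, 121, 120] := hp
  simp only [List.mem_cons, List.mem_nil_iff, or_false] at this
  rcases this with rfl | rfl | rfl | rfl | rfl | rfl | rfl | rfl
  · exact checkDer_E8_162
  · exact checkDer_E8_141
  · exact checkDer_E8_135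
  · exact checkDer_E8_130
  · exact checkDer_E8_126
  · exact checkDer_E8_123
  · exact checkDer_E8_121
  · exact checkDer_E8_120

end Cfsg.Agent.Lib.Helper8.Chev
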