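import Cfsg.Agent.Lib.Helper8.ChevJ10

set_option autoImplicit false

namespace Cfsg.Agent.Lib.Helper8.Chev

open Cfsg.Lie

theorem checkN_F4 : checkN chevF4 = true := by decide +kernel
theorem checkAnti_F4 : checkAnti chevF4 (packN chevF4) (packC chevF4) = true := by decide +kernel
theorem checkGen_F4 : checkGen chevF4 = true := by decide +kernel
theorem checkDer_F4_0 : checkDerF chevF4 (bcF chevF4) 0 = true := by decide +kernel
theorem checkDer_F4_33 : checkDerF chevF4 (bcF chevF4) 33 = true := by decide +kernel
theorem checkDer_F4_27 : checkDerF chevF4 (bcF chevF4) 27 = true := by decide +kernel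
theorem checkDer_F4_25 : checkDerF chevF4 (bcF chevF4) 25 = true := by decide +kernel
theorem checkDer_F4_24 : checkDerF chevF4 (bcF chevF4) 24 = true := by decide +kernel

theorem validJ_F4 : ValidJ chevF4 := by
  refine validJ_of_checks (valid0_of_check check0_F4) (validT_of_check checkT_F4) rfl (by decide)
    checkN_F4 checkAnti_F4 checkGen_F4 checkDer_F4_0 ?_
  intro p hp
  have : p ∈ [33, 27, 25, 24] := hp
  simp only [List.mem_cons, List.mem_nil_iff, or_false] at this
  rcases this with rfl | rfl | rfl | rfl
  · exact checkDer_F4_33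
  · exact checkDer_F4_27
  · exact checkDer_F4_25
  · exact checkDer_F4_24

end Cfsg.Agent.Lib.Helper8.Chev
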