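import Cfsg.Agent.Lib.Helper8.ChevJ10

set_option autoImplicit false

namespace Cfsg.Agent.Lib.Helper8.Chev

open Cfsg.Lie

theorem checkN_G2 : checkN chevG2 = true := by decide +kernel
theorem checkAnti_G2 : checkAnti chevG2 (packN chevG2) (packC chevG2) = true := by decide +kernel
theorem checkGen_G2 : checkGen chevG2 = true := by decide +kernel
theorem checkDer_G2_0 : checkDerF chevG2 (bcF chevG2) 0 = true := by decide +kernel
theorem checkDer_G2_7 : checkDerF chevG2 (bcF chevG2) 7 = true := by decide +kernel
theorem checkDer_G2_6 : checkDerF chevG2 (bcF chevG2) 6 = true := by decide +kernel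

theorem validJ_G2 : ValidJ chevG2 := by
  refine validJ_of_checks (valid0_of_check check0_G2) (validT_of_check checkT_G2) rfl (by decide)
    checkN_G2 checkAnti_G2 checkGen_G2 checkDer_G2_0 ?_
  intro p hp
  have : p ∈ [7, 6] := hp
  simp only [List.mem_cons, List.mem_nil_iff, or_false] at this
  rcases this with rfl | rfl
  · exact checkDer_G2_7
  · exact checkDer_G2_6

end Cfsg.Agent.Lib.Helper8.Chev
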