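import Cfsg.Agent.Lib.Helper8.ChevX8
import Cfsg.Agent.Lib.Helper8.ChevCAS6
import Cfsg.Agent.Lib.Helper8.ChevJ_G2
import Cfsg.Agent.Lib.Helper8.ChevJ_B2
import Cfsg.Agent.Lib.Helper8.ChevJ_D4
import Cfsg.Agent.Lib.Helper8.ChevJ_F4
import Cfsg.Agent.Lib.Helper8.ChevJ_E6
import Cfsg.Agent.Lib.Helper8.ChevJ_E7
import Cfsg.Agent.Lib.Helper8.ChevJ_E8

set_option autoImplicit false

namespace Cfsg.Agent.Lib.Helper8.Chev

open Cfsg.Lie Matrix

theorem validJ_of_mem {D : ChevalleyDatum}
    (hD : D ∈ [chevG2, chevB2, chevD4, chevF4, chevE6, chevE7, chevE8]) : ValidJ D :=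
  forall_seven (P := ValidJ) validJ_G2 validJ_B2 validJ_D4 validJ_F4 validJ_E6 validJ_E7 validJ_E8 hD

/-! ### The commutator formula: the six types other than `G₂` -/

theorem checkComm_B2 : checkComm chevB2 = true := by decide +kernel
theorem checkComm_D4 : checkComm chevD4 = true := by decide +kernel
theorem checkComm_F4 : checkComm chevF4 = true := by decide +kernel
theorem checkComm_E6 : checkComm chevE6 = true := by decide +kernel
theorem checkComm_E7 : checkComm chevE7 = true := by decide +kernel
theorem checkComm_E8 : checkComm chevE8 = true := by decide +kernel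

/-! ### The commutator formula: type `G₂`, by computation -/

/-- the right-hand side of the commutator formula with monomial arguments -/
noncomputable def commWordM (ct : List (ℕ × ℤ × ℕ × ℕ)) : List (ℕ × Mono) :=
  mapF (fun c : ℕ × ℤ × ℕ × ℕ =>
    (c.1, (((c.2.2.1 : ℕ) : ℤ), ((c.2.2.2 : ℕ) : ℤ), c.2.1 * (-1) ^ c.2.2.1))) ct

noncomputable def checkCommPair (D : ChevalleyDatum) (r s : ℕ) : Bool :=
  checkWordGen D [(s, (0, 1, 1)), (r, (1, 0, 1))]
    ((r, (1, 0, 1)) :: (s, (0, 1, 1)) :: commWordM (D.commTerms r s))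

noncomputable def checkCommAll (D : ChevalleyDatum) : Bool :=
  forallLtF (fun r => forallLtF (fun s =>
    Nat.beq s r || Nat.beq (r + s + 1) D.nroots || checkCommPair D r s) D.nroots) D.nroots

theorem checkCommAll_G2 : checkCommAll chevG2 = true := by decide +kernel

theorem comm_formula_of_checkPair {D : ChevalleyDatum} (J : ValidJ D) (V1 : Valid1 D) {r s : ℕ}
    (h : checkCommPair D r s = true) {F : Type*} [Field F] (t u : F) :
    D.x F s u * D.x F r t = D.x F r t * D.x F s u * D.wordMat F (D.commWord F r s t u) := by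
  have key := wordEq_of_checkGen J V1 h t u
  have e1 : evalWR t u [(s, ((0, 1, 1) : Mono)), (r, ((1, 0, 1) : Mono))] = [(s, u), (r, t)] := by
    simp [evalWR, evalMR]
  have e2 : evalWR t u ((r, ((1, 0, 1) : Mono)) :: (s, ((0, 1, 1) : Mono)) ::
      commWordM (D.commTerms r s)) = (r, t) :: (s, u) :: D.commWord F r s t u := by
    simp only [evalWR, evalMR, List.map_cons, commWordM, mapF_eq_map, List.map_map,
      ChevalleyDatum.commWord]
    congr 1
    · simp
    congr 1
    · simp
    apply List.map_congr_left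
    intro c _
    simp only [Function.comp_apply, Int.toNat_natCast]
    congr 1
    push_cast
    rw [neg_pow]
    ring
  rw [e1, e2] at key
  rw [x_eq_xN, x_eq_xN, wordMat_eq_wN]
  simp only [wN_cons, wN_nil, Matrix.mul_one] at key
  rw [key, Matrix.mul_assoc]

/-- Chevalley's commutator formula -/
theorem comm_formula {D : ChevalleyDatum}
    (hD : D ∈ [chevG2, chevB2, chevD4, chevF4, chevE6, chevE7, chevE8]) {F : Type*} [Field F]
    {r s : ℕ} (hr : r < D.nroots) (hs : s < D.nroots) (h1 : s ≠ r) (h2 : s ≠ D.neg r) (t u : F) :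
    D.x F s u * D.x F r t = D.x F r t * D.x F s u * D.wordMat F (D.commWord F r s t u) := by
  have J := validJ_of_mem hD
  have V1 := valid1_of_mem hD
  simp only [List.mem_cons, List.mem_nil_iff, or_false] at hD
  have hgen : ∀ (hN : checkN D = true) (hsz : D.chain.size = D.nroots), checkComm D = true →
      D.x F s u * D.x F r t = D.x F r t * D.x F s u * D.wordMat F (D.commWord F r s t u) := by
    intro hN hsz hc
    exact comm_formula_of_case J V1 hr hs h1 h2 (case_of_check J.V V1 J.A hsz hN hc hr hs) t u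
  rcases hD with rfl | rfl | rfl | rfl | rfl | rfl | rfl
  · -- G2
    have hall := checkCommAll_G2
    simp only [checkCommAll, forallLtF_eq_true, Bool.or_eq_true, Nat.beq_eq] at hall
    rcases hall r hr s hs with (h | h) | h
    · exact absurd h h1
    · exfalso; apply h2; rw [J.V.neg_eq r hr]; omega
    · exact comm_formula_of_checkPair J V1 h t u
  · exact hgen checkN_B2 rfl checkComm_B2
  · exact hgen checkN_D4 rfl checkComm_D4
  · exact hgen checkN_F4 rfl checkComm_F4
  · exact hgen checkN_E6 rfl checkComm_E6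
  · exact hgen checkN_E7 rfl checkComm_E7
  · exact hgen checkN_E8 rfl checkComm_E8

end Cfsg.Agent.Lib.Helper8.Chev
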