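import Cfsg.Agent.Lib.Helper8.ChevFld2

set_option autoImplicit false

/-! Field automorphisms of Chevalley groups and their fixed points. -/

namespace Cfsg.Agent.Lib.Helper8.Chev

open Cfsg.Lie Matrix

/-- the fixed field of an automorphism of a finite field, in the lowest universe -/
theorem exists_fixed_field {F : Type*} [Field F] [Fintype F] (σ : F ≃+* F) :
    ∃ (F₀ : Type) (_ : Field F₀) (_ : Fintype F₀) (ι : F₀ →+* F),
      Fintype.card F = Fintype.card F₀ ^ orderOf σ ∧ (∀ x, σ x = x → x ∈ Set.range ι) ∧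
        ∀ y, σ (ι y) = ι y := by
  classical
  have : Finite (F ≃+* F) := Finite.of_injective (fun e => (e : F → F)) DFunLike.coe_injective
  let G := Subgroup.zpowers (σ : RingAut F)
  have : Fintype G := Fintype.ofFinite G
  let K := FixedPoints.subfield G F
  have hrank : Module.finrank K F = orderOf σ := by
    rw [FixedPoints.finrank_eq_card G F, ← Nat.card_eq_fintype_card]
    exact Nat.card_zpowers σ
  have : Fintype K := Fintype.ofFinite K
  have hcard : Fintype.card F = Fintype.card K ^ orderOf σ := by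
    rw [← hrank]
    exact Module.card_eq_pow_finrank
  have hK : ∀ x : F, x ∈ K ↔ σ x = x := by
    intro x
    constructor
    · intro hx
      exact hx ⟨σ, Subgroup.mem_zpowers σ⟩
    · intro hx g
      obtain ⟨g, hg⟩ := g
      obtain ⟨k, rfl⟩ := Subgroup.mem_zpowers_iff.mp hg
      show (σ ^ k : RingAut F) • x = x
      have hfix : (σ : RingAut F) ∈ MulAction.stabilizer (RingAut F) x := hx
      exact Subgroup.zpow_mem _ hfix k
  let e : Shrink.{0} K ≃+* K := Shrink.ringEquiv.{0} K
  have : Fintype (Shrink.{0} K) := Fintype.ofEquiv K e.symm.toEquiv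
  refine ⟨Shrink.{0} K, inferInstance, inferInstance, K.subtype.comp e.toRingHom, ?_, ?_, ?_⟩
  · rw [hcard, Fintype.card_congr e.toEquiv]
  · intro x hx
    exact ⟨e.symm ⟨x, (hK x).mpr hx⟩, by simp⟩
  · intro y
    exact (hK _).mp (e y).2

section

variable {D : ChevalleyDatum} {F : Type*} [Field F]

/-- an automorphism acting on the root elements through `σ` is the entrywise map -/
theorem fieldAut_eq_bc (φ : ↥(D.group F) ≃* ↥(D.group F)) (σ : F →+* F)
    (hφ : ∀ (g : ↥(D.group F)) (r : ℕ) (t : F), r < D.nroots →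
      ((g : GL D.Idx F) : Matrix D.Idx D.Idx F) = D.x F r t →
      ((φ g : GL D.Idx F) : Matrix D.Idx D.Idx F) = D.x F r (σ t))
    (g : ↥(D.group F)) : ((φ g : ↥(D.group F)) : GL D.Idx F) = bc D σ g := by
  let f₁ : ↥(D.group F) →* GL D.Idx F := (D.group F).subtype.comp φ.toMonoidHom
  let f₂ : ↥(D.group F) →* GL D.Idx F := (bc D σ).comp (D.group F).subtype
  have key : ∀ (x : GL D.Idx F) (hx : x ∈ D.group F), f₁ ⟨x, hx⟩ = f₂ ⟨x, hx⟩ := by
    intro x hx
    unfold ChevalleyDatum.group at hx
    induction hx using Subgroup.closure_induction with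
    | mem x hx' =>
      obtain ⟨r, t, hxm⟩ := hx'
      have hx'' : (x : Matrix D.Idx D.Idx F) = D.x F r.val t := by
        rw [hxm]; unfold ChevalleyDatum.x; rw [dif_pos r.isLt]
      apply Units.ext
      exact (hφ ⟨x, _⟩ r.val t r.isLt hx'').trans (bc_x σ hx'').symm
    | one =>
      exact (map_one f₁).trans (map_one f₂).symm
    | mul x y hx hy ihx ihy =>
      have : (⟨x * y, Subgroup.mul_mem _ hx hy⟩ : ↥(D.group F)) = ⟨x, hx⟩ * ⟨y, hy⟩ := rfl
      rw [this, map_mul, map_mul, ihx, ihy]
    | inv x hx ih =>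
      have : (⟨x⁻¹, Subgroup.inv_mem _ hx⟩ : ↥(D.group F)) = (⟨x, hx⟩ : ↥(D.group F))⁻¹ := rfl
      rw [this, map_inv, map_inv, ih]
  exact key g.1 g.2

/-- the root element determines its parameter -/
theorem x_param_inj (hD : D ∈ [chevG2, chevB2, chevD4, chevF4, chevE6, chevE7, chevE8])
    {r : ℕ} (hr : r < D.nroots) {s t : F} (h : D.x F r s = D.x F r t) : s = t := by
  have V := valid0_of_mem hD
  have V1 := valid1_of_mem hD
  have C := copP_of_mem hD
  rw [x_eq_xN, x_eq_xN] at h
  have h1 : xN D F r (s - t) = 1 := by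
    rw [sub_eq_add_neg, ← xN_mul_xN F V V1 hr, h, xN_mul_xN F V V1 hr, add_neg_cancel]
    exact (x_eq_xN D F r 0).symm.trans (by
      rw [x_eq_xN]
      have := xN_mul_xN F V V1 hr (0 : F) 0
      rw [add_zero] at this
      have hu : IsUnit (xN D F r (0 : F)) := by
        obtain ⟨g, hg⟩ := exists_unit_x (F := F) V V1 hr 0
        rw [x_eq_xN] at hg
        exact ⟨g, hg⟩
      exact hu.mul_left_cancel (this.trans (Matrix.mul_one _).symm))
  exact sub_eq_zero.mp (xN_eq_one V C hr h1)

end

end Cfsg.Agent.Lib.Helper8.Chev
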