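import Cfsg.Agent.Lib.Helper8.ChevOrd2

set_option autoImplicit false

namespace Cfsg.Agent.Lib.Helper8.Chev

open Cfsg.Lie Matrix

section

variable {D : ChevalleyDatum}

/-- an element of the Weyl group preserving the positive roots is trivial -/
theorem WD_triv (hD : D ∈ [chevG2, chevB2, chevD4, chevF4, chevE6, chevE7, chevE8])
    {w : Equiv.Perm (Fin D.nroots)} (hw : w ∈ WD hD)
    (hpos : ∀ r : Fin D.nroots, D.nroots / 2 ≤ r.val → D.nroots / 2 ≤ (w r).val) : w = 1 := by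
  have V := valid0_of_mem hD
  have V1 := valid1_of_mem hD
  have J := validJ_of_mem hD
  have H := validH_of_mem hD
  have hI := checkInv_of_mem hD
  have C := copP_of_mem hD
  obtain ⟨l, hl, e⟩ := exists_word_of_mem J H hI hw
  have hpos' : ∀ s, D.nroots / 2 ≤ s → s < D.nroots → D.nroots / 2 ≤ reflWord D l s := by
    intro s h1 h2
    have h3 : D.nroots / 2 ≤ (w ⟨s, h2⟩).val := hpos ⟨s, h2⟩ h1
    exact le_of_le_of_eq h3 (e ⟨s, h2⟩)
  have hmem := nP_mem_diagonal_of_pos (F := ℚ) hD l.length l le_rfl hl hpos'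
  have hP1 := (rootPermN_nP (F := ℚ) J V1 H.nS l hl).rootPerm
  have hP2 := rootPerm_torus V (torusLike_of_mem J V1 H hmem)
  have hinv : ((nP D ℚ l : GL D.Idx ℚ) : Matrix D.Idx D.Idx ℚ) *
      (((nP D ℚ l)⁻¹ : GL D.Idx ℚ) : Matrix D.Idx D.Idx ℚ) = 1 := by
    rw [← Units.val_mul, mul_inv_cancel, Units.val_one]
  ext r
  exact (e r).trans (rootPerm_unique V C hinv hP1 hP2 r.isLt)

theorem lenD_eq_zero (hD : D ∈ [chevG2, chevB2, chevD4, chevF4, chevE6, chevE7, chevE8])
    {w : Equiv.Perm (Fin D.nroots)} (hw : w ∈ WD hD) (h0 : lenD D w = 0) : w = 1 := by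
  apply WD_triv hD hw
  intro r hr
  unfold lenD at h0
  rw [Finset.card_eq_zero, Finset.filter_eq_empty_iff] at h0
  by_contra hn
  exact h0 (Finset.mem_univ r) ⟨hr, hn⟩

theorem lenD_one : lenD D 1 = 0 := by
  unfold lenD
  rw [Finset.card_eq_zero, Finset.filter_eq_empty_iff]
  intro r _ h
  exact h.2 h.1

open Classical in
/-- the Poincaré sum is `1` modulo any divisor of `q` -/
theorem poincare_sum_mod (hD : D ∈ [chevG2, chevB2, chevD4, chevF4, chevE6, chevE7, chevE8])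
    (q p : ℕ) (hp : p ∣ q) :
    (∑ w ∈ Finset.univ.filter (fun w => w ∈ WD hD), q ^ lenD D w) % p = 1 % p := by
  have h1 : (1 : Equiv.Perm (Fin D.nroots)) ∈ Finset.univ.filter (fun w => w ∈ WD hD) := by
    simp [one_mem]
  rw [← Finset.add_sum_erase _ _ h1, lenD_one, pow_zero, Nat.add_mod]
  have h2 : (∑ w ∈ (Finset.univ.filter (fun w => w ∈ WD hD)).erase 1, q ^ lenD D w) % p = 0 := by
    apply Nat.mod_eq_zero_of_dvd
    apply Finset.dvd_sum
    intro w hw
    rw [Finset.mem_erase, Finset.mem_filter] at hw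
    have hne : lenD D w ≠ 0 := fun h0 => hw.1 (lenD_eq_zero hD hw.2.2 h0)
    exact hp.trans (dvd_pow_self q hne)
  rw [h2, add_zero, Nat.mod_mod]

end

end Cfsg.Agent.Lib.Helper8.Chev
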