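import Mathlib
import Cfsg.Agent.Lib.Helper14.StGLDefs

/-!
# S2425 Q10 (helper8, farm-out of helper14): KS-2, KS-2b, KS-4.
-/

set_option autoImplicit false

namespace Cfsg.Agent.Lib.Helper8.S2425Q10

open Cfsg Polynomial
open Cfsg.Agent.Lib.Helper14.StGL

section Lattice

variable {F : Type*} [Field F] {V : Type*} [AddCommGroup V] [Module F V] (A : Module.End F V)

/-- polynomials in the restriction are restrictions of polynomials -/
theorem aeval_restrictInvt_apply (W : Submodule F V) (hW : W ∈ A.invtSubmodule) (p : F[X])
    (w : W) :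
    ((Polynomial.aeval (restrictInvt A W hW) p w : W) : V) = Polynomial.aeval A p (w : V) := by
  induction p using Polynomial.induction_on' generalizing w with
  | add p q hp hq =>
    rw [map_add, map_add, LinearMap.add_apply, LinearMap.add_apply, Submodule.coe_add, hp, hq]
  | monomial n c =>
    rw [Polynomial.aeval_monomial, Polynomial.aeval_monomial]
    rw [Module.End.mul_apply, Module.End.mul_apply]
    rw [Module.algebraMap_end_apply, Module.algebraMap_end_apply, Submodule.coe_smul]
    congr 1
    induction n generalizing w with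
    | zero => simp
    | succ k ih =>
      rw [pow_succ, pow_succ, Module.End.mul_apply, Module.End.mul_apply, ih,
        restrictInvt_apply]

/-- KS-2: the invariant subspaces below `W` are those of the restriction. -/
theorem nonempty_Iic_orderIso_restrict (W : Submodule F V) (hW : W ∈ A.invtSubmodule) :
    Nonempty (Set.Iic (⟨W, hW⟩ : A.invtSubmodule) ≃o
      (restrictInvt A W hW).invtSubmodule) := by
  refine ⟨
    { toFun := fun U => ⟨(U.1 : Submodule F V).comap W.subtype, ?_⟩
      invFun := fun U' => ⟨⟨(U'.1 : Submodule F W).map W.subtype, ?_⟩, ?_⟩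
      left_inv := ?_
      right_inv := ?_
      map_rel_iff' := ?_ }⟩
  · rw [Module.End.mem_invtSubmodule_iff_forall_mem_of_mem]
    intro w hw
    rw [Submodule.mem_comap] at hw ⊢
    have h1 := (Module.End.mem_invtSubmodule_iff_forall_mem_of_mem A).1 U.1.2
    exact h1 _ hw
  · rw [Module.End.mem_invtSubmodule_iff_forall_mem_of_mem]
    intro v hv
    rw [Submodule.mem_map] at hv ⊢
    obtain ⟨w, hw, rfl⟩ := hv
    have h1 := (Module.End.mem_invtSubmodule_iff_forall_mem_of_mem
      (restrictInvt A W hW)).1 U'.2
    exact ⟨restrictInvt A W hW w, h1 w hw, rfl⟩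
  · show (⟨(U'.1 : Submodule F W).map W.subtype, _⟩ : A.invtSubmodule) ≤ ⟨W, hW⟩
    show (U'.1 : Submodule F W).map W.subtype ≤ W
    exact Submodule.map_subtype_le W _
  · intro U
    apply Subtype.ext
    apply Subtype.ext
    show ((U.1 : Submodule F V).comap W.subtype).map W.subtype = (U.1 : Submodule F V)
    rw [Submodule.map_comap_subtype]
    have hle : (U.1 : Submodule F V) ≤ W := U.2
    exact inf_eq_right.2 hle
  · intro U'
    apply Subtype.ext
    show ((U'.1 : Submodule F W).map W.subtype).comap W.subtype = (U'.1 : Submodule F W)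
    exact Submodule.comap_map_eq_of_injective W.injective_subtype _
  · intro U₁ U₂
    show (U₁.1 : Submodule F V).comap W.subtype ≤ (U₂.1 : Submodule F V).comap W.subtype ↔
      U₁ ≤ U₂
    constructor
    · intro h
      show (U₁.1 : Submodule F V) ≤ (U₂.1 : Submodule F V)
      intro v hv
      have hvW : v ∈ W := (U₁.2 : (U₁.1 : Submodule F V) ≤ W) hv
      have := h (show (⟨v, hvW⟩ : W) ∈ (U₁.1 : Submodule F V).comap W.subtype from hv)
      exact this
    · intro h
      exact Submodule.comap_mono (show (U₁.1 : Submodule F V) ≤ (U₂.1 : Submodule F V) from h)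

/-- KS-2b: `f` kills the restriction of `A` to `ker f(A)`. -/
theorem aeval_restrict_ker (f : F[X]) :
    Polynomial.aeval (restrictInvt A (LinearMap.ker (Polynomial.aeval A f))
      (ker_aeval_mem_invtSubmodule A f)) f = 0 := by
  apply LinearMap.ext
  intro w
  apply Subtype.ext
  rw [aeval_restrictInvt_apply]
  exact LinearMap.mem_ker.1 w.2

/-- KS-4 -/
theorem card_adjoinRoot [Fintype F] (f : F[X]) (hf : f.Monic) :
    Nat.card (AdjoinRoot f) = Fintype.card F ^ f.natDegree := by
  rw [Nat.card_congr (AdjoinRoot.powerBasis' hf).basis.equivFun.toEquiv,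
    Nat.card_eq_fintype_card, Fintype.card_fun, Fintype.card_fin, AdjoinRoot.powerBasis'_dim]

end Lattice

end Cfsg.Agent.Lib.Helper8.S2425Q10
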