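import Mathlib
import Cfsg.Agent.Lib.Helper14.StGLDefs

/-!
# S2425 Q9 (helper8, farm-out of helper14): KS-1, a module killed by an irreducible polynomial
is a vector space over `AdjoinRoot f`, and the invariant subspaces are its subspaces.
-/

set_option autoImplicit false

namespace Cfsg.Agent.Lib.Helper8.S2425Q9

open Cfsg Polynomial
open Cfsg.Agent.Lib.Helper14.StGL

section Lattice

variable {F : Type*} [Field F] {V : Type*} [AddCommGroup V] [Module F V] (A : Module.End F V)

/-- invariant subspaces are invariant under polynomials in `A` -/
theorem aeval_mem_of_mem_invt (U : Submodule F V) (hU : U ∈ A.invtSubmodule) (p : F[X])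
    (v : V) (hv : v ∈ U) : Polynomial.aeval A p v ∈ U := by
  have hA := (Module.End.mem_invtSubmodule_iff_forall_mem_of_mem A).1 hU
  induction p using Polynomial.induction_on' generalizing v with
  | add p q hp hq =>
    rw [map_add, LinearMap.add_apply]
    exact U.add_mem (hp v hv) (hq v hv)
  | monomial n c =>
    rw [Polynomial.aeval_monomial, Module.End.mul_apply, Module.algebraMap_end_apply]
    apply U.smul_mem
    induction n generalizing v with
    | zero => simpa using hv
    | succ k ih =>
      rw [pow_succ, Module.End.mul_apply]
      exact ih _ (hA v hv)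

/-- KS-1: a module killed by an irreducible polynomial is a vector space over `AdjoinRoot f`. -/
theorem exists_orderIso_adjoinRoot [FiniteDimensional F V] (f : F[X]) [Fact (Irreducible f)]
    (h : Polynomial.aeval A f = 0) :
    ∃ m : ℕ, Module.finrank F V = m * f.natDegree ∧
      Nonempty (A.invtSubmodule ≃o Submodule (AdjoinRoot f) (Fin m → AdjoinRoot f)) := by
  have hf0 : f ≠ 0 := (Fact.out : Irreducible f).ne_zero
  have hI : ∀ a : F[X], a ∈ (Ideal.span {f} : Ideal F[X]) → Polynomial.aeval A a = 0 := by
    intro a ha
    obtain ⟨c, rfl⟩ := Ideal.mem_span_singleton'.1 ha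
    rw [map_mul, h, mul_zero]
  let φ : AdjoinRoot f →ₐ[F] Module.End F V :=
    Ideal.Quotient.liftₐ (Ideal.span {f} : Ideal F[X]) (Polynomial.aeval A) hI
  have hφmk : ∀ p : F[X], φ (AdjoinRoot.mk f p) = Polynomial.aeval A p := by
    intro p
    rfl
  have hφroot : φ (AdjoinRoot.root f) = A := by
    show φ (AdjoinRoot.mk f Polynomial.X) = A
    rw [hφmk, Polynomial.aeval_X]
  let instM : Module (AdjoinRoot f) V := Module.compHom V (φ : AdjoinRoot f →+* Module.End F V)
  have hsmul : ∀ (k : AdjoinRoot f) (v : V), k • v = φ k v := fun _ _ => rfl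
  have : IsScalarTower F (AdjoinRoot f) V :=
    ⟨fun c k v => by rw [hsmul, hsmul, map_smul, LinearMap.smul_apply]⟩
  have : Module.Finite (AdjoinRoot f) V := Module.Finite.of_restrictScalars_finite F _ V
  refine ⟨Module.finrank (AdjoinRoot f) V, ?_, ⟨?_⟩⟩
  · rw [← Module.finrank_mul_finrank F (AdjoinRoot f) V, mul_comm]
    congr 1
    rw [(AdjoinRoot.powerBasis hf0).finrank, AdjoinRoot.powerBasis_dim]
  · let e : V ≃ₗ[AdjoinRoot f] (Fin (Module.finrank (AdjoinRoot f) V) → AdjoinRoot f) :=
      (Module.finBasis (AdjoinRoot f) V).equivFun
    refine OrderIso.trans ?_ (Submodule.orderIsoMapComap e)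
    exact
      { toFun := fun U =>
          { carrier := (U.1 : Submodule F V)
            add_mem' := fun ha hb => (U.1 : Submodule F V).add_mem ha hb
            zero_mem' := (U.1 : Submodule F V).zero_mem
            smul_mem' := by
              intro k v hv
              obtain ⟨p, rfl⟩ := AdjoinRoot.mk_surjective k
              show (AdjoinRoot.mk f p) • v ∈ (U.1 : Submodule F V)
              rw [hsmul, hφmk]
              exact aeval_mem_of_mem_invt A U.1 U.2 p v hv }
        invFun := fun U' => ⟨U'.restrictScalars F, by
          rw [Module.End.mem_invtSubmodule_iff_forall_mem_of_mem]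
          intro v hv
          have hv' : v ∈ U' := hv
          have : (AdjoinRoot.root f) • v ∈ U' := U'.smul_mem _ hv'
          rw [hsmul, hφroot] at this
          exact this⟩
        left_inv := fun U => by
          apply Subtype.ext
          ext v
          rfl
        right_inv := fun U' => by
          ext v
          rfl
        map_rel_iff' := by
          intro U₁ U₂
          rfl }

end Lattice

end Cfsg.Agent.Lib.Helper8.S2425Q9
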