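import Mathlib
import Cfsg.Agent.Lib.Helper15.S5670T4Defs

/-!
# S5670 FO-T4, piece T4-BRA (helper8): the concrete tensor map `tpc` is a `TP`
-/

set_option autoImplicit false
set_option linter.unusedSectionVars false

namespace Cfsg.Agent.Lib.Helper8.S5670T4BRA

open Matrix Module
open Cfsg.Agent.Lib.Helper16.Tens Cfsg.Agent.Lib.Helper10.TensFund Cfsg.Agent.Lib.Helper28.TensU
open Cfsg.Agent.Lib.Helper15.S5670T4

variable {F : Type*} [Field F] [Fintype F] {a b q : ℕ}

theorem tpc_apply (u : Fin a → F) (w : Fin b → F) (i : Fin (a * b)) :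
    tpc u w i = u (eAB a b i).1 * w (eAB a b i).2 := rfl

/-- `tpc u w = pur u w ∘ eAB` -/
theorem tpc_eq_pur (u : Fin a → F) (w : Fin b → F) : tpc u w = pur u w ∘ eAB a b := rfl

/-- the hermitian form of `Fin (a * b)` is the standard one of `Fin a × Fin b` after reindexing -/
theorem herm_comp_eAB (x y : Fin a × Fin b → F) :
    Cfsg.hermForm (a * b) F q (x ∘ eAB a b) (y ∘ eAB a b) = hs q x y := by
  unfold Cfsg.hermForm hs
  exact Fintype.sum_equiv (eAB a b) _ _ (fun i => rfl)

theorem hs_pur (u u' : Fin a → F) (w w' : Fin b → F) :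
    hs q (pur u w) (pur u' w') = hs q u u' * hs q w w' := by
  unfold hs
  rw [Fintype.sum_prod_type, Finset.sum_mul_sum]
  apply Finset.sum_congr rfl
  intro i _
  apply Finset.sum_congr rfl
  intro j _
  simp only [pur_apply, mul_pow]
  ring

/-- T4-BRA -/
theorem tpc_TP : TP q (tpc : (Fin a → F) → (Fin b → F) → (Fin (a * b) → F)) where
  add_left u u' w := by
    funext i; simp only [tpc_apply, Pi.add_apply]; ring
  smul_left c u w := by
    funext i; simp only [tpc_apply, Pi.smul_apply, smul_eq_mul]; ring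
  add_right u w w' := by
    funext i; simp only [tpc_apply, Pi.add_apply]; ring
  smul_right c u w := by
    funext i; simp only [tpc_apply, Pi.smul_apply, smul_eq_mul]; ring
  herm u u' w w' := by
    rw [tpc_eq_pur, tpc_eq_pur, herm_comp_eAB, hs_pur]
    rfl
  span x := by
    refine ⟨fun i j => x ((eAB a b).symm (i, j)), ?_⟩
    funext k
    rw [Finset.sum_apply]
    simp only [tpc_apply]
    rw [Finset.sum_eq_single (eAB a b k).1]
    · simp
    · intro i _ hi
      simp [Pi.single_apply, Ne.symm hi]
    · intro h; exact absurd (Finset.mem_univ _) h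

end Cfsg.Agent.Lib.Helper8.S5670T4BRA
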