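import Mathlib
import Cfsg.Agent.Lib.Helper15.S5670T4Defs
import Cfsg.Agent.Lib.Helper13.TensorHerm
import Cfsg.Agent.Lib.Helper6.Unitary
import Cfsg.Agent.Lib.Helper22.S5670FOBRIDGE
import Cfsg.Agent.Lib.Helper8.S5670T4BRA

/-!
# S5670 FO-T4, piece T4-BRB (helper8): `SU_a ⊗ 1` and `1 ⊗ SU_b` are induced by elements of `SU_{ab}` lying in `Mp M₀`
-/

set_option autoImplicit false
set_option linter.unusedSectionVars false
set_option linter.unusedVariables false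

namespace Cfsg.Agent.Lib.Helper8.S5670T4BRB

open Matrix Module
open Cfsg.Agent.Lib.Helper16.Tens Cfsg.Agent.Lib.Helper10.TensFund Cfsg.Agent.Lib.Helper28.TensU
open Cfsg.Agent.Lib.Helper6 Cfsg.Agent.Lib.Helper6.SUG Cfsg.Agent.Lib.Helper13
open Cfsg.Agent.Lib.Helper15.S5670T4
open Cfsg.Agent.Lib.Helper8.S5670T4BRA
open scoped Kronecker

variable {F : Type*} [Field F] [Fintype F] {a b q : ℕ}

/-- the coordinates attached to `eAB` and `P = 1` are just reindexing -/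
theorem TT_one (x : Fin a × Fin b → F) :
    TNM.TT (eAB a b) (1 : GL (Fin (a * b)) F) x = x ∘ eAB a b := by
  unfold TNM.TT
  rw [Units.val_one, Matrix.one_mulVec]

theorem TT_one_pur (u : Fin a → F) (w : Fin b → F) :
    TNM.TT (eAB a b) (1 : GL (Fin (a * b)) F) (pur u w) = tpc u w := by
  rw [TT_one]; rfl

theorem herm_TT_one (x y : Fin a × Fin b → F) :
    Cfsg.hermForm (a * b) F q (TNM.TT (eAB a b) (1 : GL (Fin (a * b)) F) x)
      (TNM.TT (eAB a b) (1 : GL (Fin (a * b)) F) y) = 1 * hs q x y := by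
  rw [TT_one, TT_one, herm_comp_eAB, one_mul]

/-- `psi (eAB a b) 1` maps `UG` onto `GU` -/
theorem psi_mem_GU_iff (M : GL (Fin a × Fin b) F) :
    TNM.psi (eAB a b) 1 M ∈ Cfsg.GU (a * b) F q ↔ M ∈ UG (Fin a × Fin b) F q :=
  TNM.psi_mem_preserving_iff (eAB a b) (1 : GL (Fin (a * b)) F) one_ne_zero herm_TT_one M

/-- `psi (eAB a b) 1` maps `SL` onto `SL` -/
theorem psi_mem_SL_iff (M : GL (Fin a × Fin b) F) :
    TNM.psi (eAB a b) 1 M ∈ Cfsg.Geo.specialLinear (Fin (a * b)) F ↔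
      M ∈ Cfsg.Geo.specialLinear (Fin a × Fin b) F := by
  rw [TNM.psi_mem_specialLinear_iff, mem_SL_iff]

open Cfsg.Agent.Lib.Helper13.TNM Cfsg.Agent.Lib.Helper22.S5670BRIDGE in
/-- the Kronecker product of two unitary matrices is unitary -/
theorem kron_mem_UG (hF : Fintype.card F = q ^ 2) (A : GL (Fin a) F) (B : GL (Fin b) F)
    (hA : A ∈ Cfsg.GU a F q) (hB : B ∈ Cfsg.GU b F q) : kronGL A B ∈ UG (Fin a × Fin b) F q := by
  classical
  obtain ⟨σ, hσ⟩ : ∃ σ : F →+* F, σ = conjQ hF := ⟨_, rfl⟩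
  have hσapp : ∀ x, σ x = x ^ q := by intro x; rw [hσ]; rfl
  have hAm : (A : Matrix (Fin a) (Fin a) F)ᵀ * 1 * (A : Matrix (Fin a) (Fin a) F).map σ = 1 := by
    rw [← preserves_iff (⇑σ) (map_zero σ) (map_one σ) (map_add σ) (map_mul σ)]
    intro x y
    rw [fog_one (⇑σ) hσapp, fog_one (⇑σ) hσapp]
    exact hA x y
  have hBm : (B : Matrix (Fin b) (Fin b) F)ᵀ * 1 * (B : Matrix (Fin b) (Fin b) F).map σ = 1 := by
    rw [← preserves_iff (⇑σ) (map_zero σ) (map_one σ) (map_add σ) (map_mul σ)]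
    intro x y
    rw [fog_one (⇑σ) hσapp, fog_one (⇑σ) hσapp]
    exact hB x y
  rw [mem_UG_iff]
  intro x y
  rw [← fog_one (⇑σ) hσapp, ← fog_one (⇑σ) hσapp]
  revert x y
  rw [preserves_iff (⇑σ) (map_zero σ) (map_one σ) (map_add σ) (map_mul σ)]
  rw [kronGL_val, kron_map, ← Matrix.kroneckerMap_transpose, ← Matrix.one_kronecker_one,
    ← Matrix.mul_kronecker_mul, ← Matrix.mul_kronecker_mul, hAm, hBm]

theorem det_eq_one_of_mem_SL {n : ℕ} (A : GL (Fin n) F) (hA : A ∈ Cfsg.Geo.specialLinear (Fin n) F) :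
    (A : Matrix (Fin n) (Fin n) F).det = 1 := by
  have h3 : Matrix.GeneralLinearGroup.det A = 1 := MonoidHom.mem_ker.mp hA
  have h4 := congrArg Units.val h3
  rwa [Matrix.GeneralLinearGroup.val_det_apply] at h4

open Cfsg.Agent.Lib.Helper13.TNM in
theorem kron_mem_SL (A : GL (Fin a) F) (B : GL (Fin b) F)
    (hA : A ∈ Cfsg.Geo.specialLinear (Fin a) F) (hB : B ∈ Cfsg.Geo.specialLinear (Fin b) F) :
    kronGL A B ∈ Cfsg.Geo.specialLinear (Fin a × Fin b) F := by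
  rw [mem_SL_iff, kronGL_val, Matrix.det_kronecker, det_eq_one_of_mem_SL A hA, det_eq_one_of_mem_SL B hB,
    one_pow, one_pow, one_mul]

open Cfsg.Agent.Lib.Helper13.TNM in
/-- the general induced element -/
theorem exists_induced (hF : Fintype.card F = q ^ 2) {M₀ : Subgroup (GL (Fin a × Fin b) F)} (hM : OverU q M₀)
    (A : ↥(Cfsg.SU a F q)) (B : ↥(Cfsg.SU b F q)) :
    ∃ g : ↥(Cfsg.SU (a * b) F q), suGL (a * b) F q g ∈ Mp M₀ ∧
      ∀ u w, av g (tpc u w) = tpc (av A u) (av B w) := by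
  obtain ⟨hA1, hA2⟩ := suGL_mem A
  obtain ⟨hB1, hB2⟩ := suGL_mem B
  have hK : kronGL (suGL a F q A) (suGL b F q B) ∈ M₀ :=
    hM.kron_mem _ (kronGL_mem _ _) (kron_mem_UG hF _ _ hA1 hB1) (kron_mem_SL _ _ hA2 hB2)
  have hmem : psi (eAB a b) 1 (kronGL (suGL a F q A) (suGL b F q B)) ∈ Mp M₀ :=
    Subgroup.mem_map_of_mem _ hK
  have hGU : psi (eAB a b) 1 (kronGL (suGL a F q A) (suGL b F q B)) ∈
      Cfsg.GU (a * b) F q ⊓ Cfsg.Geo.specialLinear (Fin (a * b)) F :=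
    ⟨(psi_mem_GU_iff _).2 (kron_mem_UG hF _ _ hA1 hB1), (psi_mem_SL_iff _).2 (kron_mem_SL _ _ hA2 hB2)⟩
  obtain ⟨g, hg⟩ := exists_suGL_eq _ hGU
  refine ⟨g, by rw [hg]; exact hmem, ?_⟩
  intro u w
  rw [← suGL_mulVec, hg, ← TT_one_pur, psi_mulVec, kronGL_val, kron_mulVec_pur, suGL_mulVec, suGL_mulVec,
    TT_one_pur]

/-- T4-BRB -/
theorem kronIn_Mp (hF : Fintype.card F = q ^ 2) {M₀ : Subgroup (GL (Fin a × Fin b) F)} (hM : OverU q M₀) :
    KronIn q (Mp M₀) (tpc : (Fin a → F) → (Fin b → F) → (Fin (a * b) → F)) where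
  left A := by
    obtain ⟨g, hg, h⟩ := exists_induced hF hM A 1
    refine ⟨g, hg, fun u w => ?_⟩
    rw [h, av_one]
  right B := by
    obtain ⟨g, hg, h⟩ := exists_induced hF hM 1 B
    refine ⟨g, hg, fun u w => ?_⟩
    rw [h, av_one]

end Cfsg.Agent.Lib.Helper8.S5670T4BRB
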