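import Mathlib
import Cfsg.Agent.Lib.Helper15.S5670T4Defs
import Cfsg.Agent.Lib.Helper6.SUSimple
import Cfsg.Agent.Lib.Helper13.SubfSU
import Cfsg.Agent.Lib.Helper24.S5670FOISO
import Cfsg.Agent.Lib.Helper8.S5670T4BRA
import Cfsg.Agent.Lib.Helper8.S5670T4BRB

/-!
# S5670 FO-T4, pieces T4-BRC and T4-BRD (helper8): the bridge between `V = Fin a × Fin b → F` and `Fin (a * b) → F`
-/

set_option autoImplicit false
set_option linter.unusedSectionVars false
set_option linter.unusedVariables false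

namespace Cfsg.Agent.Lib.Helper8.S5670T4BRC

open Matrix Module
open Cfsg.Agent.Lib.Helper16.Tens Cfsg.Agent.Lib.Helper10.TensFund Cfsg.Agent.Lib.Helper28.TensU
open Cfsg.Agent.Lib.Helper6 Cfsg.Agent.Lib.Helper6.SUG Cfsg.Agent.Lib.Helper13
open Cfsg.Agent.S0779 Cfsg.Agent.S0781
open Cfsg.Agent.Lib.Helper15.S5670T4
open Cfsg.Agent.Lib.Helper8.S5670T4BRA Cfsg.Agent.Lib.Helper8.S5670T4BRB

variable {F : Type*} [Field F] [Fintype F] {a b n q : ℕ}

/-- conjugating a transvection by an element scaling its centre -/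
theorem conj_tv_of_smul (hF : Fintype.card F = q ^ 2) (g : ↥(Cfsg.SU n F q)) (x : Fin n → F) (β c c' : F)
    (hxx : Cfsg.hermForm n F q x x = 0) (hc : c ^ q = -c) (hc' : c' ^ q = -c')
    (hgx : av g x = β • x) (hcc' : c' = β * β ^ q * c) :
    g * tv hF x c hxx hc * g⁻¹ = tv hF x c' hxx hc' := by
  apply ext_av
  intro y
  rw [av_mul, av_mul, av_tv, av_tv, av_add, av_smul, av_av_inv, hgx]
  have h1 : Cfsg.hermForm n F q (av g⁻¹ y) x = β ^ q * Cfsg.hermForm n F q y x := by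
    rw [← herm_av g (av g⁻¹ y) x, av_av_inv, hgx, herm_smul_right]
  rw [h1, hcc', smul_smul]
  congr 2
  ring

/-- two elements of `GL` with the same action on the vectors `TT e 1 v` are equal -/
theorem gl_ext_TT (g h : GL (Fin (a * b)) F)
    (hgh : ∀ v : Fin a × Fin b → F,
      (g : Matrix (Fin (a * b)) (Fin (a * b)) F) *ᵥ TNM.TT (eAB a b) (1 : GL (Fin (a * b)) F) v =
      (h : Matrix (Fin (a * b)) (Fin (a * b)) F) *ᵥ TNM.TT (eAB a b) (1 : GL (Fin (a * b)) F) v) :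
    g = h := by
  apply Units.ext
  apply Matrix.toLin'.injective
  apply LinearMap.ext
  intro x
  obtain ⟨v, rfl⟩ := TNM.TT_surj (eAB a b) (1 : GL (Fin (a * b)) F) x
  rw [Matrix.toLin'_apply, Matrix.toLin'_apply]
  exact hgh v

/-- T4-BRC -/
theorem suX_of_tv (hF : Fintype.card F = q ^ 2) (hb : 3 ≤ b) {M₀ : Subgroup (GL (Fin a × Fin b) F)}
    (hM : OverU q M₀) (k₀ : Fin b → F) (hk0 : k₀ ≠ 0) (hk : hs q k₀ k₀ = 0) (u : Fin a → F) (c : F)
    (t : GL (Fin a × Fin b) F) (hc : c ≠ 0) (hcc : c + c ^ q = 0) (ht : t ∈ M₀)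
    (htv : ∀ v : Fin a × Fin b → F, act t v = v + (c * hs q v (pur u k₀)) • pur u k₀) :
    SuX q (Mp M₀) (tpc u k₀) := by
  have hT : TP q (tpc : (Fin a → F) → (Fin b → F) → (Fin (a * b) → F)) := tpc_TP
  have hK := kronIn_Mp hF hM
  have hxx : Cfsg.hermForm (a * b) F q (tpc u k₀) (tpc u k₀) = 0 := by
    rw [hT.herm]
    have : Cfsg.hermForm b F q k₀ k₀ = 0 := hk
    rw [this, mul_zero]
  have hcq : c ^ q = -c := eq_neg_of_add_eq_zero_right hcc
  -- the given transvection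
  have h0 : suGL (a * b) F q (tv hF (tpc u k₀) c hxx hcq) = TNM.psi (eAB a b) 1 t := by
    apply gl_ext_TT
    intro v
    rw [TNM.psi_mulVec, suGL_mulVec, av_tv]
    have h1 : (t : Matrix (Fin a × Fin b) (Fin a × Fin b) F) *ᵥ v = act t v := (act_apply t v).symm
    rw [h1, htv, TNM.TT_add, TNM.TT_smul, TT_one_pur, ← TT_one_pur u k₀, herm_TT_one, one_mul]
  have hmem0 : suGL (a * b) F q (tv hF (tpc u k₀) c hxx hcq) ∈ Mp M₀ := by
    rw [h0]
    exact Subgroup.mem_map_of_mem _ ht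
  apply SuX.of_tv hF hxx
  intro c' hc'
  by_cases hc'0 : c' = 0
  · subst hc'0
    rw [tv_zero hF _ hxx, map_one]
    exact Subgroup.one_mem _
  · -- `c' / c` is a norm
    have hr : (c' / c) ^ q = c' / c := by
      rw [div_pow, hc', hcq, neg_div_neg_eq]
    obtain ⟨β, hβ⟩ := Cfsg.Agent.Lib.Helper24.S5670ISO.exists_norm_eq hF (c' / c) hr
    have hβ0 : β ≠ 0 := by
      rintro rfl
      rw [zero_pow (by omega)] at hβ
      exact div_ne_zero hc'0 hc hβ.symm
    have hk' : Cfsg.hermForm b F q k₀ k₀ = 0 := hk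
    have hβk : Cfsg.hermForm b F q (β • k₀) (β • k₀) = 0 := by
      rw [herm_smul_left, herm_smul_right, hk']; ring
    obtain ⟨B, -, hB⟩ := rel_iso hF hb k₀ (β • k₀) hk0 (smul_ne_zero hβ0 hk0) hk' hβk
    obtain ⟨g, hg, hgact⟩ := hK.right B
    have hgx : av g (tpc u k₀) = β • tpc u k₀ := by
      rw [hgact, hB, hT.smul_right]
    have hcc' : c' = β * β ^ q * c := by
      have : β * β ^ q = c' / c := by rw [← hβ, pow_succ]; ring
      rw [this]
      field_simp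
    have hconj := conj_tv_of_smul hF g (tpc u k₀) β c c' hxx hcq hc' hgx hcc'
    rw [← hconj, map_mul, map_mul, map_inv]
    exact Subgroup.mul_mem _ (Subgroup.mul_mem _ hg hmem0) (Subgroup.inv_mem _ hg)

/-- T4-BRD -/
theorem le_of_forall_suX (hF : Fintype.card F = q ^ 2) (ha : 2 ≤ a) (hb : 3 ≤ b)
    {M₀ : Subgroup (GL (Fin a × Fin b) F)}
    (hall : ∀ x : Fin (a * b) → F, Cfsg.hermForm (a * b) F q x x = 0 → SuX q (Mp M₀) x) :
    UG (Fin a × Fin b) F q ⊓ Cfsg.Geo.specialLinear (Fin a × Fin b) F ≤ M₀ := by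
  have hab : 6 ≤ a * b := by nlinarith
  have hle := suGL_le_of_forall hF (show 1 ≤ a * b by omega) (fun h => by omega) (Mp M₀) hall
  intro g hg
  have h1 : TNM.psi (eAB a b) 1 g ∈ Cfsg.GU (a * b) F q ⊓ Cfsg.Geo.specialLinear (Fin (a * b)) F :=
    ⟨(psi_mem_GU_iff g).2 hg.1, (psi_mem_SL_iff g).2 hg.2⟩
  obtain ⟨m, hm, hmg⟩ := hle h1
  have : m = g := TNM.psi_injective (eAB a b) 1 hmg
  rw [← this]
  exact hm

end Cfsg.Agent.Lib.Helper8.S5670T4BRC
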