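import Mathlib
import Cfsg.Agent.Lib.Helper8.S5670T2Defs
import Cfsg.Agent.Lib.Helper25.S5670FOPERP

/-! # S5670 FO-T2T3, piece T2-S (helper8): the Siegel elements `sieg` are unitary radical elements -/

set_option autoImplicit false
set_option linter.unusedSectionVars false

namespace Cfsg.Agent.Lib.Helper8.S5670T2S

open Matrix Module
open Cfsg.Agent.Lib.Helper16.Tens Cfsg.Agent.Lib.Helper10.TensFund Cfsg.Agent.Lib.Helper28.TensU
open Cfsg.Agent.Lib.Helper8.S5670T2 Cfsg.Agent.Lib.Helper25.S5670HS Cfsg.Agent.Lib.Helper25.S5670PERP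
open scoped Kronecker

variable {F : Type*} [Field F] [Fintype F] {a b : ℕ} {q : ℕ}

local notation "V" => (Fin a × Fin b → F)

theorem hs_sub_left' {κ : Type*} [Fintype κ] (x x' y : κ → F) :
    hs q (x - x') y = hs q x y - hs q x' y := by
  have h := hs_add_left (q := q) (x - x') x' y
  rw [sub_add_cancel] at h
  rw [h]; ring

theorem hs_sub_right' {κ : Type*} [Fintype κ] (hF : Fintype.card F = q ^ 2) (x y y' : κ → F) :
    hs q x (y - y') = hs q x y - hs q x y' := by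
  have h := hs_add_right hF x (y - y') y'
  rw [sub_add_cancel] at h
  rw [h]; ring

/-- `h(u ⊗ k, v) = h(u, ctr (cj k) v)` -/
theorem hs_pur_left' (hF : Fintype.card F = q ^ 2) (u : Fin a → F) (k : Fin b → F) (v : V) :
    hs q (pur u k) v = hs q u (ctr (cj q k) v) := by
  rw [hs_conj hF v (pur u k), hs_pur_right, ← hs_conj hF]

theorem ctr_sieg_aux (k₀ y : Fin b → F) (c : F) (v : V) :
    ctr (c • cj q k₀ - cj q y) v = c • ctr (cj q k₀) v - ctr (cj q y) v := by
  rw [sub_eq_add_neg, ctr_add, ctr_smul, ← neg_one_smul F (cj q y), ctr_smul, neg_one_smul, ← sub_eq_add_neg]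

/-- T2-S (a) -/
theorem sieg_mem_UG (hF : Fintype.card F = q ^ 2) (k₀ y : Fin b → F) (c : F) (hk : hs q k₀ k₀ = 0)
    (hy : hs q y k₀ = 0) (hy' : hs q k₀ y = 0) (hc : c + c ^ q + hs q y y = 0) :
    sieg (a := a) q k₀ y c hk hy hy' ∈ UG (Fin a × Fin b) F q := by
  rw [mem_UG_iff]
  intro x x'
  rw [← act_apply, ← act_apply, act_sieg, act_sieg, ctr_sieg_aux, ctr_sieg_aux]
  set P := ctr (cj q k₀) x with hP
  set P' := ctr (cj q k₀) x' with hP'
  set Q := ctr (cj q y) x with hQ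
  set Q' := ctr (cj q y) x' with hQ'
  simp only [hs_add_left, hs_add_right hF, hs_pur, hk, hy, hy', mul_zero, add_zero]
  rw [hs_pur_right, hs_pur_right, hs_pur_left' hF, hs_pur_left' hF, ← hP, ← hP', ← hQ, ← hQ']
  rw [hs_sub_left', hs_sub_right' hF, hs_smul_left, hs_smul_right]
  linear_combination (hs q P P') * hc

/-- T2-S (c) -/
theorem act_sieg_of_mem_hyp (k₀ y : Fin b → F) (c : F) (hk : hs q k₀ k₀ = 0) (hy : hs q y k₀ = 0)
    (hy' : hs q k₀ y = 0) (v : V) (hv : v ∈ hyp (a := a) (cj q k₀)) :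
    act (sieg q k₀ y c hk hy hy') v = v - pur (ctr (cj q y) v) k₀ := by
  rw [mem_hyp_iff] at hv
  rw [act_sieg, ctr_sieg_aux, hv, smul_zero, zero_sub, pur_neg_left]
  have : pur (0 : Fin a → F) y = 0 := by
    funext p; simp [pur_apply]
  rw [this]; abel

/-- T2-S (b) -/
theorem inRad_sieg (k₀ y : Fin b → F) (c : F) (hk : hs q k₀ k₀ = 0) (hy : hs q y k₀ = 0) (hy' : hs q k₀ y = 0) :
    InRad q k₀ (sieg (a := a) q k₀ y c hk hy hy') := by
  constructor
  · intro v hv
    obtain ⟨u, rfl⟩ := (mem_pt_iff k₀ v).1 hv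
    have hmem : pur u k₀ ∈ hyp (a := a) (cj q k₀) := by
      rw [mem_hyp_iff, ctr_pur, dot_cj_eq_hs, hk, zero_smul]
    rw [act_sieg_of_mem_hyp k₀ y c hk hy hy' _ hmem, ctr_pur, dot_cj_eq_hs, hy', zero_smul]
    have : pur (0 : Fin a → F) k₀ = 0 := by
      funext p; simp [pur_apply]
    rw [this, sub_zero]
  · intro v hv
    rw [act_sieg_of_mem_hyp k₀ y c hk hy hy' v hv]
    have : v - pur (ctr (cj q y) v) k₀ - v = pur (-(ctr (cj q y) v)) k₀ := by
      rw [pur_neg_left]; abel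
    rw [this]
    exact pur_mem_pt _ _

end Cfsg.Agent.Lib.Helper8.S5670T2S
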