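import Mathlib
import Cfsg.Agent.Lib.Helper8.S5670T2Defs
import Cfsg.Agent.Lib.Helper24.S5670FOISO
import Cfsg.Agent.Lib.Helper8.S5670T2S

/-! # S5670 FO-T2T3, piece T2-P (helper8): partners, valid parameters, spanning of `U ⊗ k₀^⊥` -/

set_option autoImplicit false
set_option linter.unusedSectionVars false

namespace Cfsg.Agent.Lib.Helper8.S5670T2P

open Matrix Module
open Cfsg.Agent.Lib.Helper16.Tens Cfsg.Agent.Lib.Helper10.TensFund Cfsg.Agent.Lib.Helper28.TensU
open Cfsg.Agent.Lib.Helper8.S5670T2 Cfsg.Agent.Lib.Helper25.S5670HS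
open scoped Kronecker

variable {F : Type*} [Field F] [Fintype F] {a b : ℕ} {q : ℕ}

local notation "V" => (Fin a × Fin b → F)

/-- T2-P (c) -/
theorem exists_not_fixed (hF : Fintype.card F = q ^ 2) : ∃ l : F, l ^ q ≠ l := by
  classical
  have hq2 : 2 ≤ q := Cfsg.Agent.Lib.Helper24.S5670ISO.two_le_q hF
  by_contra hcon
  push Not at hcon
  have hP0 : (Polynomial.X ^ q - Polynomial.X : Polynomial F) ≠ 0 :=
    FiniteField.X_pow_card_sub_X_ne_zero F (by omega)
  have hdeg : (Polynomial.X ^ q - Polynomial.X : Polynomial F).natDegree = q :=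
    FiniteField.X_pow_card_sub_X_natDegree_eq F (by omega)
  have hsub : (Finset.univ : Finset F).val ⊆ (Polynomial.X ^ q - Polynomial.X : Polynomial F).roots := by
    intro c _
    rw [Polynomial.mem_roots hP0]
    simp only [Polynomial.IsRoot, Polynomial.eval_sub, Polynomial.eval_pow, Polynomial.eval_X]
    rw [hcon c, sub_self]
  have h1 := Polynomial.card_le_degree_of_subset_roots hsub
  rw [hdeg, Finset.card_univ, hF] at h1
  nlinarith

/-- T2-P (b) -/
theorem exists_valid (hF : Fintype.card F = q ^ 2) (s : F) (hs : s ^ q = s) : ∃ c : F, c + c ^ q + s = 0 := by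
  -- an element of nonzero trace
  obtain ⟨l, hl⟩ : ∃ l : F, l + l ^ q ≠ 0 := by
    by_contra hcon
    push Not at hcon
    obtain ⟨l, hl⟩ := exists_not_fixed hF
    apply hl
    have h1 := hcon 1
    rw [one_pow] at h1
    have h2 := hcon l
    -- l ^ q = - l = l
    have h3 : l + l = 0 := by linear_combination l * h1
    linear_combination h2 - h3
  have hT : (l + l ^ q) ^ q = l + l ^ q := by
    rw [add_pow_q hF, pow_q_pow_q hF, add_comm]
  refine ⟨-(s * l / (l + l ^ q)), ?_⟩
  rw [Cfsg.Agent.Lib.Helper24.S5670ISO.neg_pow_q hF, div_pow, mul_pow, hT, hs]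
  field_simp
  ring

/-- T2-P (a) -/
theorem exists_partner (hF : Fintype.card F = q ^ 2) (k₀ : Fin b → F) (hk0 : k₀ ≠ 0) (hk : hs q k₀ k₀ = 0) :
    ∃ k₁ : Fin b → F, hs q k₁ k₁ = 0 ∧ hs q k₁ k₀ = 1 := by
  obtain ⟨u', hu'⟩ := Cfsg.Agent.Lib.Helper24.S5670ISO.exists_hs_eq_one hF k₀ hk0
  obtain ⟨t, ht⟩ := exists_valid hF (hs q u' u') (Cfsg.Agent.Lib.Helper24.S5670ISO.hs_self_fixed hF u')
  have h01 : hs q k₀ u' = 1 := by rw [hs_conj hF u' k₀, hu', one_pow]
  refine ⟨u' + t • k₀, ?_, ?_⟩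
  · rw [hs_add_left, hs_add_right hF, hs_add_right hF, hs_smul_left, hs_smul_left, hs_smul_right, hs_smul_right,
      hk, hu', h01]
    linear_combination ht
  · rw [hs_add_left, hs_smul_left, hk, hu', mul_zero, add_zero]

theorem hs_single_left (j : Fin b) (k : Fin b → F) : hs q (Pi.single j (1 : F)) k = k j ^ q := by
  classical
  unfold hs
  rw [Finset.sum_eq_single j]
  · rw [Pi.single_eq_same, one_mul]
  · intro j' _ hj'
    rw [Pi.single_eq_of_ne hj', zero_mul]
  · intro h
    exact absurd (Finset.mem_univ j) h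

/-- T2-P (d): `U ⊗ k₀^⊥` is spanned by the pure tensors `u ⊗ y`, `y ⟂ k₀` -/
theorem eq_on_hyp (hF : Fintype.card F = q ^ 2) (k₀ k₁ : Fin b → F) (h10 : hs q k₁ k₀ = 1)
    (f g : V →ₗ[F] V) (h : ∀ (u : Fin a → F) (y : Fin b → F), hs q y k₀ = 0 → f (pur u y) = g (pur u y)) :
    ∀ v ∈ hyp (a := a) (cj q k₀), f v = g v := by
  classical
  intro v hv
  rw [mem_hyp_iff] at hv
  have hv' : v = ∑ j, pur (fun i => v (i, j)) (Pi.single j (1 : F) - hs q (Pi.single j (1 : F)) k₀ • k₁) := by
    funext ⟨i, j'⟩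
    rw [Finset.sum_apply]
    simp only [pur_apply, Pi.sub_apply, Pi.smul_apply, smul_eq_mul, hs_single_left, mul_sub,
      Finset.sum_sub_distrib]
    have h1 : ∑ j, v (i, j) * (Pi.single j (1 : F) : Fin b → F) j' = v (i, j') := by
      rw [Finset.sum_eq_single j']
      · rw [Pi.single_eq_same, mul_one]
      · intro j _ hj
        rw [Pi.single_eq_of_ne (Ne.symm hj), mul_zero]
      · intro h
        exact absurd (Finset.mem_univ j') h
    have h2 : ∑ j, v (i, j) * (k₀ j ^ q * k₁ j') = 0 := by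
      have h3 := congrFun hv i
      rw [ctr_apply] at h3
      simp only [cj_apply, Pi.zero_apply] at h3
      calc ∑ j, v (i, j) * (k₀ j ^ q * k₁ j') = (∑ j, v (i, j) * k₀ j ^ q) * k₁ j' := by
            rw [Finset.sum_mul]
            apply Finset.sum_congr rfl
            intro j _
            ring
        _ = 0 := by rw [h3, zero_mul]
    rw [h1, h2, sub_zero]
  rw [hv', map_sum, map_sum]
  apply Finset.sum_congr rfl
  intro j _
  apply h
  rw [Cfsg.Agent.Lib.Helper8.S5670T2S.hs_sub_left', hs_smul_left, h10, mul_one, sub_self]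

end Cfsg.Agent.Lib.Helper8.S5670T2P
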