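import Mathlib
import Cfsg.Agent.Lib.Helper1.Frattini

/-!
# S3174 (helper19's blueprint), PART II (helper8): `W' = Φ(W)` of exponent 2

Pure type-level statements for a finite 2-group `G` (`= ↥W` in the application) with
`Φ(G) ≤ Z(G)`, `|Φ(G)| ≤ 8` and hypothesis (d): every subgroup of index `≤ 16` contains `Φ(G)`.

* `frattini_le_map_frattini` (II.1): for `U` of index `≤ 8`, `Φ(G) ≤ Φ(U)`.
* `frattini_eq_commutator` (II.2): `Φ(G) = G'`.
* `commutator_sq` (II.3): `G'` has exponent dividing 2 (needs only `Φ(G) ≤ Z(G)`).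
-/

set_option autoImplicit false

namespace Cfsg.Agent.Lib.Helper8.RU2

open Subgroup Cfsg.Agent.Lib.Helper1
open scoped commutatorElement

variable {G : Type*} [Group G] [Finite G]

/-- II.1: from (d), `Φ(G) ≤ Φ(U)` for every `U` of index at most 8. -/
theorem frattini_le_map_frattini (hG : IsPGroup 2 G)
    (hd : ∀ U : Subgroup G, U.index ≤ 16 → frattini G ≤ U)
    (U : Subgroup G) (hU : U.index ≤ 8) : frattini G ≤ (frattini ↥U).map U.subtype := by
  have hΦU : frattini G ≤ U := hd U (by omega)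
  have h1 : (frattini G).subgroupOf U ≤ frattini ↥U := by
    rw [le_frattini_iff]
    intro M hM
    have hidx : M.index = 2 := IsPGroup.index_of_isCoatom (hG.to_subgroup U) hM
    have h2 : (M.map U.subtype).index ≤ 16 := by
      rw [Subgroup.index_map_subtype, hidx]
      omega
    have h3 := hd _ h2
    intro x hx
    have hx' : (x : G) ∈ M.map U.subtype := h3 (Subgroup.mem_subgroupOf.mp hx)
    obtain ⟨y, hy, hyx⟩ := hx'
    have : y = x := Subtype.ext hyx
    rw [← this]
    exact hy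
  calc frattini G = ((frattini G).subgroupOf U).map U.subtype :=
        (Subgroup.map_subgroupOf_eq_of_le hΦU).symm
    _ ≤ (frattini ↥U).map U.subtype := Subgroup.map_mono h1

omit [Finite G] in
/-- squares of commutators when commutators are central -/
theorem commutatorElement_sq_of_central {a b : G} (hc : ⁅a, b⁆ ∈ center G) :
    ⁅a, b⁆ ^ 2 = ⁅a ^ 2, b⁆ := by
  have h1 : a * ⁅a, b⁆ = ⁅a, b⁆ * a := (Subgroup.mem_center_iff.mp hc a)
  have h2 : ⁅a ^ 2, b⁆ = (a * ⁅a, b⁆ * a⁻¹) * ⁅a, b⁆ := by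
    simp only [commutatorElement_def, pow_two]; group
  rw [h2, h1, pow_two]
  group

/-- II.3: `G'` has exponent dividing 2 when `Φ(G) ≤ Z(G)`. -/
theorem commutator_sq (hG : IsPGroup 2 G) (hcen : frattini G ≤ center G) :
    ∀ c ∈ commutator G, c ^ 2 = 1 := by
  have hcomm : commutator G ≤ center G := (IsPGroup.commutator_le_frattini hG).trans hcen
  -- the central elements of square one form a subgroup
  let S : Subgroup G :=
    { carrier := {c | c ∈ center G ∧ c ^ 2 = 1}
      one_mem' := ⟨one_mem _, one_pow 2⟩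
      mul_mem' := by
        rintro c d ⟨hc, hc2⟩ ⟨hd, hd2⟩
        refine ⟨mul_mem hc hd, ?_⟩
        have hcd : Commute c d := (Subgroup.mem_center_iff.mp hd c)
        rw [hcd.mul_pow, hc2, hd2, one_mul]
      inv_mem' := by
        rintro c ⟨hc, hc2⟩
        exact ⟨inv_mem hc, by rw [inv_pow, hc2, inv_one]⟩ }
  have hle : commutator G ≤ S := by
    rw [commutator_eq_closure, Subgroup.closure_le]
    rintro _ ⟨a, b, rfl⟩
    have hab : ⁅a, b⁆ ∈ commutator G := by
      rw [_root_.commutator_def]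
      exact Subgroup.commutator_mem_commutator (Subgroup.mem_top a) (Subgroup.mem_top b)
    refine ⟨hcomm hab, ?_⟩
    rw [commutatorElement_sq_of_central (hcomm hab)]
    have ha2 : a ^ 2 ∈ center G := hcen (IsPGroup.pow_mem_frattini hG a)
    rw [commutatorElement_eq_one_iff_mul_comm]
    exact ((Subgroup.mem_center_iff.mp ha2 b)).symm
  intro c hc
  exact (hle hc).2

/-- the subgroup of squares of the central subgroup `Φ(G)` -/
def sqSub (hcen : frattini G ≤ center G) : Subgroup G where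
  carrier := {g | ∃ f ∈ frattini G, g = f ^ 2}
  one_mem' := ⟨1, one_mem _, (one_pow 2).symm⟩
  mul_mem' := by
    rintro _ _ ⟨f, hf, rfl⟩ ⟨f', hf', rfl⟩
    refine ⟨f * f', mul_mem hf hf', ?_⟩
    have hc : Commute f f' := (Subgroup.mem_center_iff.mp (hcen hf') f)
    rw [hc.mul_pow]
  inv_mem' := by
    rintro _ ⟨f, hf, rfl⟩
    exact ⟨f⁻¹, inv_mem hf, by rw [inv_pow]⟩

omit [Finite G] in
theorem sqSub_le (hcen : frattini G ≤ center G) : sqSub hcen ≤ frattini G := by
  rintro _ ⟨f, hf, rfl⟩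
  exact pow_mem hf 2

/-- II.2: `Φ(G) = G'`. -/
theorem frattini_eq_commutator (hG : IsPGroup 2 G) (hcen : frattini G ≤ center G)
    (hc : Nat.card ↥(frattini G) ≤ 8)
    (hd : ∀ U : Subgroup G, U.index ≤ 16 → frattini G ≤ U) : frattini G = commutator G := by
  have hcomΦ : commutator G ≤ frattini G := IsPGroup.commutator_le_frattini hG
  apply le_antisymm _ hcomΦ
  -- `Ψ = G' · Φ²`
  set Ψ : Subgroup G := commutator G ⊔ sqSub hcen with hΨ
  have hΨΦ : Ψ ≤ frattini G := sup_le hcomΦ (sqSub_le hcen)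
  have hΨcen : Ψ ≤ center G := hΨΦ.trans hcen
  have hΨn : Ψ.Normal := by
    constructor
    intro n hn g
    have : g * n * g⁻¹ = n := by
      have h0 := Subgroup.mem_center_iff.mp (hΨcen hn) g
      rw [h0]; group
    rw [this]; exact hn
  -- squaring modulo `Ψ` is a homomorphism
  let σ : G →* G ⧸ Ψ :=
    { toFun := fun w => QuotientGroup.mk (w ^ 2)
      map_one' := by rw [one_pow]; rfl
      map_mul' := by
        intro w w'
        rw [← QuotientGroup.mk_mul, QuotientGroup.eq]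
        -- `((w w')²)⁻¹ (w² w'²) ∈ Ψ`
        have hcm : ⁅w'⁻¹, w⁻¹⁆ ∈ commutator G := by
          rw [_root_.commutator_def]
          exact Subgroup.commutator_mem_commutator (Subgroup.mem_top _) (Subgroup.mem_top _)
        have hcz : ⁅w'⁻¹, w⁻¹⁆ ∈ center G := hcen (hcomΦ hcm)
        have h1 : ((w * w') ^ 2)⁻¹ * (w ^ 2 * w' ^ 2) = w'⁻¹ * ⁅w'⁻¹, w⁻¹⁆⁻¹ * w' := by
          simp only [commutatorElement_def, pow_two]; group
        have h2 : w'⁻¹ * ⁅w'⁻¹, w⁻¹⁆⁻¹ * w' = ⁅w'⁻¹, w⁻¹⁆⁻¹ := by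
          have h0 := Subgroup.mem_center_iff.mp (inv_mem hcz) w'⁻¹
          rw [h0]; group
        rw [h1, h2]
        exact le_sup_left (a := commutator G) (b := sqSub hcen) (inv_mem hcm) }
  have hσ : ∀ w : G, σ w = QuotientGroup.mk (w ^ 2) := fun _ => rfl
  have hker : ∀ k : G, k ∈ σ.ker ↔ k ^ 2 ∈ Ψ := by
    intro k
    rw [MonoidHom.mem_ker, hσ, QuotientGroup.eq_one_iff]
  -- the kernel has index at most 8
  have hidx : σ.ker.index ≤ 8 := by
    rw [Subgroup.index_ker]
    have hr : σ.range ≤ (frattini G).map (QuotientGroup.mk' Ψ) := by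
      rintro _ ⟨w, rfl⟩
      exact ⟨w ^ 2, IsPGroup.pow_mem_frattini hG w, rfl⟩
    calc Nat.card σ.range ≤ Nat.card ((frattini G).map (QuotientGroup.mk' Ψ)) :=
          Nat.le_of_dvd Nat.card_pos (Subgroup.card_dvd_of_le hr)
      _ ≤ Nat.card (frattini G) :=
          Nat.le_of_dvd Nat.card_pos (Subgroup.card_map_dvd _ _)
      _ ≤ 8 := hc
  -- `Φ(K) ≤ Ψ`
  have hΦK : frattini ↥σ.ker ≤ Ψ.subgroupOf σ.ker := by
    apply frattini_le_of_commutator_le_of_pow_mem (p := 2)
    · rw [_root_.commutator_def, Subgroup.commutator_le]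
      intro a _ b _
      rw [Subgroup.mem_subgroupOf]
      have : ((⁅a, b⁆ : ↥σ.ker) : G) = ⁅(a : G), (b : G)⁆ := rfl
      rw [this]
      apply le_sup_left (a := commutator G) (b := sqSub hcen)
      rw [_root_.commutator_def]
      exact Subgroup.commutator_mem_commutator (Subgroup.mem_top _) (Subgroup.mem_top _)
    · intro k
      rw [Subgroup.mem_subgroupOf]
      exact (hker k).mp k.2
  have hΦΨ : frattini G ≤ Ψ := by
    have h1 := frattini_le_map_frattini hG hd σ.ker hidx
    have h2 : (frattini ↥σ.ker).map σ.ker.subtype ≤ Ψ := by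
      calc (frattini ↥σ.ker).map σ.ker.subtype ≤ (Ψ.subgroupOf σ.ker).map σ.ker.subtype :=
            Subgroup.map_mono hΦK
        _ ≤ Ψ := by rw [Subgroup.subgroupOf_map_subtype]; exact inf_le_left
    exact h1.trans h2
  -- iterate: `Φ = G' Φ^(2^k)`
  have hcomn : (commutator G).Normal := inferInstance
  have hiter : ∀ k : ℕ, ∀ f ∈ frattini G, ∃ b ∈ commutator G, ∃ g ∈ frattini G,
      f = b * g ^ (2 ^ k) := by
    intro k
    induction k with
    | zero =>
      intro f hf
      exact ⟨1, one_mem _, f, hf, by simp⟩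
    | succ k ih =>
      intro f hf
      obtain ⟨b, hb, g, hg, rfl⟩ := ih f hf
      have hgΨ := hΦΨ hg
      rw [hΨ, Subgroup.mem_sup_of_normal_left] at hgΨ
      obtain ⟨b', hb', s, ⟨h, hh, rfl⟩, rfl⟩ := hgΨ
      refine ⟨b * b' ^ (2 ^ k), mul_mem hb (pow_mem hb' _), h, hh, ?_⟩
      have hcomm : Commute b' (h ^ 2) :=
        (Subgroup.mem_center_iff.mp (hcen (pow_mem hh 2)) b')
      rw [hcomm.mul_pow, ← pow_mul, pow_succ, mul_assoc]
      congr 2
      rw [mul_comm]
  intro f hf
  obtain ⟨n, hn⟩ := hG.exists_card_eq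
  obtain ⟨b, hb, g, -, rfl⟩ := hiter n f hf
  have : g ^ (2 ^ n) = 1 := by rw [← hn]; exact pow_card_eq_one'
  rw [this, mul_one]
  exact hb

end Cfsg.Agent.Lib.Helper8.RU2
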