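import Mathlib
import Cfsg.Agent.Lib.Helper8.RU2

/-!
# S3174 (helper19's blueprint), PART II glue (helper8): Part II inside the ambient group `T`

`W : Subgroup T`, `Φ = (frattini ↥W).map W.subtype`.  T-level forms of the Part II facts, in the shape
of the fields of `Cfsg.Agent.Lib.Helper12.RU4.Cfg`:

* `hII1_of_hd`  : (d) gives `Φ ≤ Φ(U)` for every `U ≤ W` with `|W| ≤ 8 |U|`   (field `hII1`);
* `cm_mem_phi`  : `u⁻¹ v⁻¹ u v ∈ Φ` for `u v ∈ W`                              (field `hcomm`);
* `sq_mem_phi`  : `w * w ∈ Φ` for `w ∈ W`                                      (field `hsq`);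
* `phi_sq`      : `c * c = 1` for `c ∈ Φ`                                      (field `hZ3sq`);
* `phi_central` : `c * w = w * c` for `c ∈ Φ`, `w ∈ W`                          (field `hZ3c`).
-/

set_option autoImplicit false

namespace Cfsg.Agent.Lib.Helper8.RU2

open Subgroup Cfsg.Agent.Lib.Helper1
open scoped commutatorElement

variable {T : Type*} [Group T] [Finite T]

/-- II.1 inside `T`: the field `hII1` of helper12's `Cfg`. -/
theorem hII1_of_hd (hT : IsPGroup 2 T) (W : Subgroup T)
    (hd : ∀ U : Subgroup ↥W, U.index ≤ 16 → frattini ↥W ≤ U) :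
    ∀ U : Subgroup T, U ≤ W → Nat.card ↥W ≤ 8 * Nat.card ↥U →
      (frattini ↥W).map W.subtype ≤ (frattini ↥U).map U.subtype := by
  intro U hUW hcard
  -- `|W : U| ≤ 8`
  have hrel : U.relIndex W ≤ 8 := by
    have h1 : U.relIndex W * Nat.card ↥U = Nat.card ↥W := by
      have h0 := Subgroup.card_mul_index (U.subgroupOf W)
      rw [Nat.card_congr (Subgroup.subgroupOfEquivOfLe hUW).toEquiv] at h0
      rw [mul_comm]; exact h0
    have hpos : 0 < Nat.card ↥U := Nat.card_pos
    by_contra hcon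
    push Not at hcon
    have : 9 * Nat.card ↥U ≤ Nat.card ↥W := by
      rw [← h1]; exact Nat.mul_le_mul_right _ hcon
    omega
  -- `Φ ≤ U`
  have hΦU : (frattini ↥W).map W.subtype ≤ U := by
    have h0 := hd (U.subgroupOf W) (by
      show U.relIndex W ≤ 16
      omega)
    calc (frattini ↥W).map W.subtype ≤ (U.subgroupOf W).map W.subtype := Subgroup.map_mono h0
      _ ≤ U := by rw [Subgroup.subgroupOf_map_subtype]; exact inf_le_left
  have h1 : ((frattini ↥W).map W.subtype).subgroupOf U ≤ frattini ↥U := by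
    rw [le_frattini_iff]
    intro M hM
    have hidx : M.index = 2 := IsPGroup.index_of_isCoatom (hT.to_subgroup U) hM
    -- `M` as a subgroup of `T`
    have hMU : M.map U.subtype ≤ U := Subgroup.map_subtype_le M
    have hrelM : (M.map U.subtype).relIndex U = 2 := by
      show ((M.map U.subtype).comap U.subtype).index = 2
      rw [Subgroup.comap_map_eq_self_of_injective U.subtype_injective]
      exact hidx
    have h2 : ((M.map U.subtype).subgroupOf W).index ≤ 16 := by
      show (M.map U.subtype).relIndex W ≤ 16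
      rw [← Subgroup.relIndex_mul_relIndex _ _ _ hMU hUW, hrelM]
      omega
    have h3 := hd _ h2
    intro x hx
    rw [Subgroup.mem_subgroupOf] at hx
    obtain ⟨f, hf, hfx⟩ := hx
    have hf' : (f : T) ∈ M.map U.subtype := by
      have := h3 hf
      exact Subgroup.mem_subgroupOf.mp this
    obtain ⟨y, hy, hyx⟩ := hf'
    have : y = x := Subtype.ext (hyx.trans hfx)
    rw [← this]
    exact hy
  calc (frattini ↥W).map W.subtype
      = (((frattini ↥W).map W.subtype).subgroupOf U).map U.subtype :=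
        (Subgroup.map_subgroupOf_eq_of_le hΦU).symm
    _ ≤ (frattini ↥U).map U.subtype := Subgroup.map_mono h1

/-- `W' ≤ Φ(W)` inside `T` (field `hcomm`, `cm u v = u⁻¹ * v⁻¹ * u * v`). -/
theorem cm_mem_phi (hT : IsPGroup 2 T) (W : Subgroup T) :
    ∀ u ∈ W, ∀ v ∈ W, u⁻¹ * v⁻¹ * u * v ∈ (frattini ↥W).map W.subtype := by
  intro u hu v hv
  have hW : IsPGroup 2 ↥W := hT.to_subgroup W
  have h1 : ⁅(⟨u, hu⟩ : ↥W)⁻¹, (⟨v, hv⟩ : ↥W)⁻¹⁆ ∈ commutator ↥W := by
    rw [_root_.commutator_def]
    exact Subgroup.commutator_mem_commutator (Subgroup.mem_top _) (Subgroup.mem_top _)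
  refine ⟨_, IsPGroup.commutator_le_frattini hW h1, ?_⟩
  simp [commutatorElement_def]

/-- squares of `W` lie in `Φ(W)` (field `hsq`). -/
theorem sq_mem_phi (hT : IsPGroup 2 T) (W : Subgroup T) :
    ∀ w ∈ W, w * w ∈ (frattini ↥W).map W.subtype := by
  intro w hw
  have hW : IsPGroup 2 ↥W := hT.to_subgroup W
  refine ⟨_, IsPGroup.pow_mem_frattini hW (⟨w, hw⟩ : ↥W), ?_⟩
  simp [pow_two]

omit [Finite T] in
/-- `Φ(W)` central in `W`, inside `T` (field `hZ3c`). -/
theorem phi_central (W : Subgroup T) (hcen : frattini ↥W ≤ center ↥W) :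
    ∀ c ∈ (frattini ↥W).map W.subtype, ∀ w ∈ W, c * w = w * c := by
  rintro _ ⟨f, hf, rfl⟩ w hw
  have := Subgroup.mem_center_iff.mp (hcen hf) (⟨w, hw⟩ : ↥W)
  have h2 := congrArg (Subtype.val) this
  simpa using h2.symm

/-- `Φ(W)` has exponent 2 (field `hZ3sq`), from II.2 and II.3. -/
theorem phi_sq (hT : IsPGroup 2 T) (W : Subgroup T) (hcen : frattini ↥W ≤ center ↥W)
    (hc : Nat.card ↥(frattini ↥W) ≤ 8)
    (hd : ∀ U : Subgroup ↥W, U.index ≤ 16 → frattini ↥W ≤ U) :
    ∀ c ∈ (frattini ↥W).map W.subtype, c * c = 1 := by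
  rintro _ ⟨f, hf, rfl⟩
  have hW : IsPGroup 2 ↥W := hT.to_subgroup W
  rw [frattini_eq_commutator hW hcen hc hd] at hf
  have := commutator_sq hW hcen f hf
  have h2 := congrArg (Subtype.val) this
  simpa [pow_two] using h2

end Cfsg.Agent.Lib.Helper8.RU2
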