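import Cfsg.Agent.Lib.Helper8.RankOne7

set_option autoImplicit false

namespace Cfsg.Agent.Lib.Helper8

open Subgroup MulAction

namespace RankOne

variable {G Ω : Type*} [Group G] [MulAction G Ω] {a : Ω} {t : G} {Q : Subgroup G}

/-- Two involutions of a subgroup `H` whose product has odd order are conjugate by an involution of `H`. -/
lemma conj_of_odd_invol_mem {G : Type*} [Group G] (H : Subgroup G) {u v : G} (huH : u ∈ H) (hvH : v ∈ H)
    (hu : u * u = 1) (hv : v * v = 1)
    (hodd : Odd (orderOf (u * v))) : ∃ w ∈ H, w * w = 1 ∧ w * u * w = v := by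
  obtain ⟨k, hk⟩ := hodd
  have hpow : (u * v) ^ (2 * k + 1) = 1 := by rw [← hk]; exact pow_orderOf_eq_one _
  have hinv : ((u * v) ^ k)⁻¹ = (v * u) ^ k := by
    rw [← inv_pow, mul_inv_rev, inv_of_sq hu, inv_of_sq hv]
  have h1 : (u * v) ^ (2 * k) * (u * v) = 1 := by rw [← pow_succ]; exact hpow
  have h2 : (u * v) ^ (2 * k) = (u * v)⁻¹ := eq_inv_of_mul_eq_one_left h1
  have hswap : u * (v * u) ^ k = (u * v) ^ k * u := inv_pow_swap u v k
  refine ⟨(u * v) ^ k * u, H.mul_mem (H.pow_mem (H.mul_mem huH hvH) k) huH, ?_, ?_⟩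
  · calc (u * v) ^ k * u * ((u * v) ^ k * u) = (u * v) ^ k * (u * (u * v) ^ k * u) := by group
      _ = (u * v) ^ k * (u * (u * (v * u) ^ k)) := by rw [hswap]; group
      _ = (u * v) ^ k * ((u * u) * (v * u) ^ k) := by group
      _ = 1 := by rw [hu, one_mul, ← hinv, mul_inv_cancel]
  · calc (u * v) ^ k * u * u * ((u * v) ^ k * u) = (u * v) ^ k * (u * u) * ((u * v) ^ k * u) := by group
      _ = (u * v) ^ (2 * k) * u := by rw [hu, mul_one, ← mul_assoc, ← pow_add, ← two_mul]
      _ = v := by rw [h2, mul_inv_rev, inv_of_sq hu, inv_of_sq hv, mul_assoc, hu, mul_one]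

/-- An involution `w` interchanging `a` and `t • a` gives an element `t w` of `K`. -/
lemma tw_mem_K (hS : Cfsg.IsRankOneSetup G Ω a t Q) {w : G} (hww : w * w = 1)
    (hwa : w • a = t • a) : t * w ∈ Cfsg.invertedBy (D G a t) t := by
  have htt := hS.mul_self
  have hti := t_inv hS
  have hwb : w • (t • a) = a := by rw [← hwa, ← mul_smul, hww, one_smul]
  have hkD : t * w ∈ D G a t := by
    refine mem_D_iff.mpr ⟨?_, ?_⟩
    · rw [mul_smul, hwa, t_smul_t_smul hS]
    · rw [mul_smul, hwb]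
  refine (mem_K_iff hS).mpr ⟨hkD, ?_⟩
  rw [mul_inv_rev, inv_of_sq hww, hti]
  calc t * (t * w) * t = (t * t) * w * t := by group
    _ = w * t := by rw [htt, one_mul]

/-- Every element of `K` is a square `m * m` with `m ∈ K`. -/
lemma K_sqrt [Finite G] (hS : Cfsg.IsRankOneSetup G Ω a t Q) {k : G}
    (hk : k ∈ Cfsg.invertedBy (D G a t) t) :
    ∃ m ∈ Cfsg.invertedBy (D G a t) t, m * m = k := by
  obtain ⟨hkD, hkt⟩ := (mem_K_iff hS).mp hk
  have hti := t_inv hS
  have htt := hS.mul_self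
  obtain ⟨j0, hj0⟩ := hS.odd_card
  have hpow : k ^ (2 * j0 + 1) = 1 := by
    have h1 : (⟨k, hkD⟩ : D G a t) ^ Nat.card (D G a t) = 1 := pow_card_eq_one'
    have h2 := congrArg Subtype.val h1
    rw [Subgroup.coe_pow, Subgroup.coe_one] at h2
    rw [← hj0]; exact h2
  have hconj : ∀ j : ℕ, t * k ^ j * t = (k ^ j)⁻¹ := by
    intro j
    induction j with
    | zero => simp [htt]
    | succ j ih =>
      rw [pow_succ]
      calc t * (k ^ j * k) * t = (t * k ^ j * t) * (t * k * t) := by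
            have : (t * k ^ j * t) * (t * k * t) = t * k ^ j * (t * t) * k * t := by group
            rw [this, htt]; group
        _ = (k ^ j)⁻¹ * k⁻¹ := by rw [ih, hkt]
        _ = (k ^ j * k)⁻¹ := by
            rw [mul_inv_rev]
            have : Commute (k ^ j) k := (Commute.refl k).pow_left j
            exact (this.inv_inv).eq
  refine ⟨k ^ (j0 + 1), (mem_K_iff hS).mpr ⟨(D G a t).pow_mem hkD _, hconj _⟩, ?_⟩
  rw [← pow_add]
  have : j0 + 1 + (j0 + 1) = (2 * j0 + 1) + 1 := by ring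
  rw [this, pow_succ, hpow, one_mul]

/-- For `m ∈ K`: `m⁻¹ t m = t (m m)`. -/
lemma conj_t_of_K (hS : Cfsg.IsRankOneSetup G Ω a t Q) {m : G}
    (hm : m ∈ Cfsg.invertedBy (D G a t) t) : m⁻¹ * t * m = t * (m * m) := by
  obtain ⟨-, hmt⟩ := (mem_K_iff hS).mp hm
  have htt := hS.mul_self
  calc m⁻¹ * t * m = (t * t) * m⁻¹ * t * m := by rw [htt, one_mul]
    _ = t * (t * m * t)⁻¹ * m := by
        rw [mul_inv_rev, mul_inv_rev, t_inv hS]; group
    _ = t * (m * m) := by rw [hmt, inv_inv]; group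

end RankOne

end Cfsg.Agent.Lib.Helper8
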