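import Cfsg.Agent.Lib.Helper8.RankOne3

set_option autoImplicit false

namespace Cfsg.Agent.Lib.Helper8

open Subgroup MulAction

namespace RankOne

variable {G Ω : Type*} [Group G] [MulAction G Ω] {a : Ω} {t : G} {Q : Subgroup G}

lemma isPretransitive (hS : Cfsg.IsRankOneSetup G Ω a t Q) : IsPretransitive G Ω := by
  haveI := hS.two_transitive
  exact isPretransitive_of_is_two_pretransitive

lemma card_Ω [Finite G] (hS : Cfsg.IsRankOneSetup G Ω a t Q) : Nat.card Ω = Nat.card Q + 1 := by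
  classical
  rw [← Finite.card_option]
  symm
  refine Nat.card_congr (Equiv.ofBijective
    (fun o : Option Q => match o with | none => a | some x => (x : G) • (t • a)) ⟨?_, ?_⟩)
  · rintro (_ | x) (_ | y) h
    · rfl
    · exact absurd h.symm (Q_smul_ne hS (b_ne hS) y.2)
    · exact absurd h (Q_smul_ne hS (b_ne hS) x.2)
    · have h' : (x : G) • (t • a) = (y : G) • (t • a) := h
      obtain ⟨z, -, hz⟩ := Q_regular hS (b_ne hS) (Q_smul_ne hS (b_ne hS) y.2)
      rw [hz x h', hz y rfl]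
  · intro c
    by_cases hc : c = a
    · exact ⟨none, hc.symm⟩
    · obtain ⟨x, hx, hxc⟩ := Q_trans hS hc
      exact ⟨some ⟨x, hx⟩, hxc⟩

lemma finite_Ω [Finite G] (hS : Cfsg.IsRankOneSetup G Ω a t Q) : Finite Ω := by
  have h := card_Ω hS
  exact Nat.finite_of_card_ne_zero (by omega)

lemma odd_card_Ω [Finite G] (hS : Cfsg.IsRankOneSetup G Ω a t Q) : Odd (Nat.card Ω) := by
  rw [card_Ω hS]; exact hS.even_card.add_one

/-- A non-trivial involution has at most one fixed point. -/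
lemma invol_fix_unique [Finite G] (hS : Cfsg.IsRankOneSetup G Ω a t Q) {w : G} (hw1 : w ≠ 1)
    (hww : w * w = 1) {c c' : Ω} (hc : w • c = c) (hc' : w • c' = c') : c = c' := by
  haveI := isPretransitive hS
  obtain ⟨g, hg⟩ := MulAction.exists_smul_eq G a c
  have h1 : g⁻¹ * w * g ∈ stabilizer G a := by
    show (g⁻¹ * w * g) • a = a
    rw [mul_smul, mul_smul, hg, hc, ← hg, inv_smul_smul]
  have h2 : g⁻¹ * w * g ≠ 1 := by
    intro h
    apply hw1
    have : w = g * (g⁻¹ * w * g) * g⁻¹ := by group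
    rw [this, h]; group
  have h3 : (g⁻¹ * w * g) * (g⁻¹ * w * g) = 1 := by
    calc (g⁻¹ * w * g) * (g⁻¹ * w * g) = g⁻¹ * (w * w) * g := by group
      _ = 1 := by rw [hww]; group
  have h4 : (g⁻¹ * w * g) • (g⁻¹ • c') = g⁻¹ • c' := by
    rw [mul_smul, mul_smul, smul_inv_smul, hc']
  have h5 := invol_fix_only hS h1 h2 h3 h4
  rw [← hg, ← h5, smul_inv_smul]

/-- An involution has a fixed point. -/
lemma invol_exists_fix [Finite G] (hS : Cfsg.IsRankOneSetup G Ω a t Q) {w : G}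
    (hww : w * w = 1) : ∃ c : Ω, w • c = c := by
  classical
  haveI := finite_Ω hS
  haveI : Fintype Ω := Fintype.ofFinite Ω
  haveI : Fact (Nat.Prime 2) := ⟨Nat.prime_two⟩
  have h1 : ¬ 2 ∣ Fintype.card Ω := by
    rw [← Nat.card_eq_fintype_card, ← even_iff_two_dvd, Nat.not_even_iff_odd]
    exact odd_card_Ω hS
  have h2 : (MulAction.toPerm w : Equiv.Perm Ω) ^ 2 ^ 1 = 1 := by
    rw [pow_one, pow_two]
    ext c
    simp only [Equiv.Perm.coe_mul, Function.comp_apply, MulAction.toPerm_apply, Equiv.Perm.coe_one, id_eq]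
    rw [← mul_smul, hww, one_smul]
  obtain ⟨c, hc⟩ := Equiv.Perm.exists_fixed_point_of_prime (p := 2) (n := 1) h1 h2
  exact ⟨c, hc⟩

lemma mem_K_iff (hS : Cfsg.IsRankOneSetup G Ω a t Q) {k : G} :
    k ∈ Cfsg.invertedBy (D G a t) t ↔ k ∈ D G a t ∧ t * k * t = k⁻¹ := by
  have hti := t_inv hS
  constructor
  · rintro ⟨h1, h2⟩
    rw [hti] at h2
    exact ⟨h1, h2⟩
  · rintro ⟨h1, h2⟩
    refine ⟨h1, ?_⟩
    rw [hti]; exact h2

lemma K_inv_mem (hS : Cfsg.IsRankOneSetup G Ω a t Q) {k : G}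
    (hk : k ∈ Cfsg.invertedBy (D G a t) t) : k⁻¹ ∈ Cfsg.invertedBy (D G a t) t := by
  obtain ⟨h1, h2⟩ := (mem_K_iff hS).mp hk
  refine (mem_K_iff hS).mpr ⟨D_inv_mem h1, ?_⟩
  have hti := t_inv hS
  have : (t * k * t)⁻¹ = t * k⁻¹ * t := by
    rw [mul_inv_rev, mul_inv_rev, hti, mul_assoc]
  rw [← this, h2]

/-- Two involutions whose product has odd order are conjugate by an involution. -/
lemma conj_of_odd_invol {G : Type*} [Group G] {u v : G} (hu : u * u = 1) (hv : v * v = 1)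
    (hodd : Odd (orderOf (u * v))) : ∃ w : G, w * w = 1 ∧ w * u * w = v := by
  obtain ⟨k, hk⟩ := hodd
  have hpow : (u * v) ^ (2 * k + 1) = 1 := by rw [← hk]; exact pow_orderOf_eq_one _
  have hinv : ((u * v) ^ k)⁻¹ = (v * u) ^ k := by
    rw [← inv_pow, mul_inv_rev, inv_of_sq hu, inv_of_sq hv]
  have h1 : (u * v) ^ (2 * k) * (u * v) = 1 := by rw [← pow_succ]; exact hpow
  have h2 : (u * v) ^ (2 * k) = (u * v)⁻¹ := eq_inv_of_mul_eq_one_left h1
  have hswap : u * (v * u) ^ k = (u * v) ^ k * u := inv_pow_swap u v k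
  -- w = (u v)^k u
  refine ⟨(u * v) ^ k * u, ?_, ?_⟩
  · calc (u * v) ^ k * u * ((u * v) ^ k * u) = (u * v) ^ k * (u * (u * v) ^ k * u) := by group
      _ = (u * v) ^ k * (u * (u * (v * u) ^ k)) := by rw [hswap]; group
      _ = (u * v) ^ k * ((u * u) * (v * u) ^ k) := by group
      _ = 1 := by rw [hu, one_mul, ← hinv, mul_inv_cancel]
  · calc (u * v) ^ k * u * u * ((u * v) ^ k * u) = (u * v) ^ k * (u * u) * ((u * v) ^ k * u) := by group
      _ = (u * v) ^ (2 * k) * u := by rw [hu, mul_one, ← mul_assoc, ← pow_add, ← two_mul]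
      _ = v := by rw [h2, mul_inv_rev, inv_of_sq hu, inv_of_sq hv, mul_assoc, hu, mul_one]

/-- The involution `k t` for `k ∈ K`. -/
lemma kt_sq (hS : Cfsg.IsRankOneSetup G Ω a t Q) {k : G} (hk : t * k * t = k⁻¹) :
    (k * t) * (k * t) = 1 := by
  calc (k * t) * (k * t) = k * (t * k * t) := by group
    _ = 1 := by rw [hk, mul_inv_cancel]

/-- Lemma A: for an involution `s` of `G_a`, `t s t = f⁻¹ k t f` with `k ∈ K`, `f ∈ Q`. -/
lemma structure_exists [Finite G] (hS : Cfsg.IsRankOneSetup G Ω a t Q) {s : G}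
    (hs : s ∈ stabilizer G a) (hs1 : s ≠ 1) (hss : s * s = 1) :
    ∃ k ∈ Cfsg.invertedBy (D G a t) t, ∃ f ∈ Q, t * s * t = f⁻¹ * k * t * f := by
  have hsQ : s ∈ Q := invol_mem_Q hS hs hss
  have htt := hS.mul_self
  have hti := t_inv hS
  have hnot : t * s * t ∉ stabilizer G a := by
    intro h; exact hs1 ((txt_mem_iff hS hsQ).mp h)
  obtain ⟨h', hh', f, hf, heq⟩ := canonical_exists hS hnot
  obtain ⟨g, hg, h, hh, rfl⟩ := exists_factor hS hh'
  -- (t s t)⁻¹ = t s t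
  have hinv : (t * s * t)⁻¹ = t * s * t := by
    rw [mul_inv_rev, mul_inv_rev, hti, inv_of_sq hss, mul_assoc]
  have e' : g * h * t * f = f⁻¹ * (t * h⁻¹ * t) * t * g⁻¹ := by
    rw [← heq, ← hinv, heq, mul_inv_rev, mul_inv_rev, mul_inv_rev, hti]
    calc f⁻¹ * (t * (h⁻¹ * g⁻¹)) = f⁻¹ * (t * h⁻¹ * (t * t)) * g⁻¹ := by rw [htt]; group
      _ = f⁻¹ * (t * h⁻¹ * t) * t * g⁻¹ := by group
  have hD : t * h⁻¹ * t ∈ D G a t := t_conj_mem_D hS (D_inv_mem hh)
  obtain ⟨e1, e2, e3⟩ := canonical_unique3 hS hg (Q.inv_mem hf) hh hD hf (Q.inv_mem hg) e'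
  refine ⟨h, (mem_K_iff hS).mpr ⟨hh, ?_⟩, f, hf, ?_⟩
  · -- t h t = h⁻¹ from h = t h⁻¹ t
    have : h⁻¹ = t * h * t := by
      have h1 := congrArg (fun z => z⁻¹) e2
      simp only [mul_inv_rev, inv_inv, hti] at h1
      rw [h1, mul_assoc]
    exact this.symm
  · rw [heq, e1]

/-- Lemma B: uniqueness of `k` and `f`. -/
lemma structure_unique (hS : Cfsg.IsRankOneSetup G Ω a t Q) {k k' f f' : G}
    (hk : k ∈ D G a t) (hk' : k' ∈ D G a t) (hf : f ∈ Q) (hf' : f' ∈ Q)
    (h : f⁻¹ * k * t * f = f'⁻¹ * k' * t * f') : k = k' ∧ f = f' := by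
  obtain ⟨-, e2, e3⟩ := canonical_unique3 hS (Q.inv_mem hf) (Q.inv_mem hf') hk hk' hf hf' h
  exact ⟨e2, e3⟩

/-- Lemma C: for `k ∈ K` there is an involution `s` of `G_a` with `t s t = f⁻¹ k t f`. -/
lemma structure_surj [Finite G] (hS : Cfsg.IsRankOneSetup G Ω a t Q) {k : G}
    (hk : k ∈ Cfsg.invertedBy (D G a t) t) :
    ∃ s ∈ stabilizer G a, s ≠ 1 ∧ s * s = 1 ∧ ∃ f ∈ Q, t * s * t = f⁻¹ * k * t * f := by
  obtain ⟨hkD, hkt⟩ := (mem_K_iff hS).mp hk
  have htt := hS.mul_self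
  have hwsq := kt_sq hS hkt
  have hwa : (k * t) • a = t • a := by rw [mul_smul, hkD.2]
  obtain ⟨c, hc⟩ := invol_exists_fix hS hwsq
  have hca : c ≠ a := by
    intro h
    rw [h, hwa] at hc
    exact b_ne hS hc
  obtain ⟨f, hf, hfc⟩ := Q_trans hS hca
  -- s = t f⁻¹ k t f t
  refine ⟨t * (f⁻¹ * k * t * f) * t, ?_, ?_, ?_, f, hf, ?_⟩
  · show (t * (f⁻¹ * k * t * f) * t) • a = a
    have h1 : (f⁻¹ * k * t * f) • (t • a) = t • a := by
      have : f⁻¹ * k * t * f = f⁻¹ * (k * t) * f := by group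
      rw [this, mul_smul, mul_smul, hfc, hc, ← hfc, inv_smul_smul]
    rw [mul_smul, mul_smul, h1, t_smul_t_smul hS]
  · intro h
    have h1 : f⁻¹ * k * t * f = 1 := by
      have h2 : f⁻¹ * k * t * f = t * (t * (f⁻¹ * k * t * f) * t) * t := by
        calc f⁻¹ * k * t * f = (t * t) * (f⁻¹ * k * t * f) * (t * t) := by rw [htt]; group
          _ = t * (t * (f⁻¹ * k * t * f) * t) * t := by group
      rw [h2, h, mul_one, htt]
    have h3 : k * t = 1 := by
      have : k * t = f * (f⁻¹ * k * t * f) * f⁻¹ := by group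
      rw [this, h1]; group
    have : (k * t) • a = a := by rw [h3, one_smul]
    rw [hwa] at this
    exact b_ne hS this
  · calc t * (f⁻¹ * k * t * f) * t * (t * (f⁻¹ * k * t * f) * t)
        = t * (f⁻¹ * k * t * f) * (t * t) * (f⁻¹ * k * t * f) * t := by group
      _ = t * (f⁻¹ * ((k * t) * (k * t)) * f) * t := by rw [htt]; group
      _ = 1 := by rw [hwsq]; simp [htt]
  · calc t * (t * (f⁻¹ * k * t * f) * t) * t = (t * t) * (f⁻¹ * k * t * f) * (t * t) := by group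
      _ = f⁻¹ * k * t * f := by rw [htt]; group

/-- Lemma D: `s` is determined by `k`. -/
lemma structure_inj [Finite G] (hS : Cfsg.IsRankOneSetup G Ω a t Q) {k s s' f f' : G}
    (hk : k ∈ Cfsg.invertedBy (D G a t) t) (hf : f ∈ Q) (hf' : f' ∈ Q)
    (hs : s ∈ stabilizer G a) (hs' : s' ∈ stabilizer G a)
    (e : t * s * t = f⁻¹ * k * t * f) (e' : t * s' * t = f'⁻¹ * k * t * f') : s = s' ∧ f = f' := by
  obtain ⟨hkD, hkt⟩ := (mem_K_iff hS).mp hk
  have htt := hS.mul_self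
  have hwsq := kt_sq hS hkt
  have hwa : (k * t) • a = t • a := by rw [mul_smul, hkD.2]
  have hw1 : k * t ≠ 1 := by
    intro h
    have : (k * t) • a = a := by rw [h, one_smul]
    rw [hwa] at this
    exact b_ne hS this
  -- k t fixes f • b and f' • b
  have key : ∀ (s f : G), s ∈ stabilizer G a → t * s * t = f⁻¹ * k * t * f →
      (k * t) • (f • (t • a)) = f • (t • a) := by
    intro s f hs e
    have h1 : (t * s * t) • (t • a) = t • a := by
      rw [mul_smul, mul_smul, t_smul_t_smul hS]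
      have : s • a = a := hs
      rw [this]
    rw [e] at h1
    have h2 : f⁻¹ * k * t * f = f⁻¹ * (k * t) * f := by group
    rw [h2, mul_smul, mul_smul] at h1
    have := congrArg (fun z => f • z) h1
    simpa using this
  have h1 := key s f hs e
  have h2 := key s' f' hs' e'
  have h3 := invol_fix_unique hS hw1 hwsq h1 h2
  have h4 : f = f' := by
    obtain ⟨z, -, hz⟩ := Q_regular hS (b_ne hS) (Q_smul_ne hS (b_ne hS) hf')
    have e1 := hz ⟨f, hf⟩ h3
    have e2 := hz ⟨f', hf'⟩ rfl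
    have := e1.trans e2.symm
    exact congrArg Subtype.val this
  refine ⟨?_, h4⟩
  subst h4
  have h5 : t * s * t = t * s' * t := by rw [e, e']
  have h6 := mul_right_cancel h5
  exact mul_left_cancel h6

end RankOne

end Cfsg.Agent.Lib.Helper8
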