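import Mathlib

set_option autoImplicit false

/-! # Rank one: over a finite field the relation `h(t) h(u) = h(t u)` follows from the others

Abstract setting: two families `X`, `Y : K → Γ` of "root elements", additive in the parameter,
such that `w(t) = X(t) Y(-t⁻¹) X(t)` conjugates `X(u)` to `Y(-t⁻² u)` and `Y(u)` to `X(-t² u)`.
If the elements `h(t) h(u) h(t u)⁻¹` are central and `K` is finite then they are trivial. -/

namespace Cfsg.Agent.Lib.Helper8.Chev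

/-- rank one Steinberg data -/
structure Rk1 (K : Type*) [Field K] (Γ : Type*) [Group Γ] where
  X : K → Γ
  Y : K → Γ
  X_add : ∀ a b : K, X a * X b = X (a + b)
  Y_add : ∀ a b : K, Y a * Y b = Y (a + b)
  conjX : ∀ t : K, t ≠ 0 → ∀ u : K,
    (X t * Y (-t⁻¹) * X t) * X u * (X t * Y (-t⁻¹) * X t)⁻¹ = Y (-(t⁻¹ * t⁻¹ * u))
  conjY : ∀ t : K, t ≠ 0 → ∀ u : K,
    (X t * Y (-t⁻¹) * X t) * Y u * (X t * Y (-t⁻¹) * X t)⁻¹ = X (-(t * t * u))

namespace Rk1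

variable {K : Type*} [Field K] {Γ : Type*} [Group Γ] (R : Rk1 K Γ)

/-- `w(t) = X(t) Y(-t⁻¹) X(t)` -/
def W (t : K) : Γ := R.X t * R.Y (-t⁻¹) * R.X t

/-- `h(t) = w(t) w(-1)` -/
def H (t : K) : Γ := R.W t * R.W (-1)

theorem X_zero : R.X 0 = 1 := by
  have := R.X_add 0 0
  rw [add_zero] at this
  exact mul_eq_left.mp this

theorem Y_zero : R.Y 0 = 1 := by
  have := R.Y_add 0 0
  rw [add_zero] at this
  exact mul_eq_left.mp this

theorem X_inv (t : K) : (R.X t)⁻¹ = R.X (-t) := by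
  apply inv_eq_of_mul_eq_one_right
  rw [R.X_add, add_neg_cancel, R.X_zero]

theorem Y_inv (t : K) : (R.Y t)⁻¹ = R.Y (-t) := by
  apply inv_eq_of_mul_eq_one_right
  rw [R.Y_add, add_neg_cancel, R.Y_zero]

theorem W_inv (t : K) : (R.W t)⁻¹ = R.W (-t) := by
  unfold W
  rw [mul_inv_rev, mul_inv_rev, R.X_inv, R.Y_inv, inv_neg, neg_neg, mul_assoc]

theorem W_conjX {t : K} (ht : t ≠ 0) (u : K) :
    R.W t * R.X u * (R.W t)⁻¹ = R.Y (-(t⁻¹ * t⁻¹ * u)) := R.conjX t ht u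

theorem W_conjY {t : K} (ht : t ≠ 0) (u : K) :
    R.W t * R.Y u * (R.W t)⁻¹ = R.X (-(t * t * u)) := R.conjY t ht u

/-- the other expression of `w(t)` -/
theorem W_alt {t : K} (ht : t ≠ 0) : R.W t = R.Y (-t⁻¹) * R.X t * R.Y (-t⁻¹) := by
  have h : R.W t = (R.W t * R.X t * (R.W t)⁻¹) * (R.W t * R.Y (-t⁻¹) * (R.W t)⁻¹) *
      (R.W t * R.X t * (R.W t)⁻¹) := by
    have : (R.W t * R.X t * (R.W t)⁻¹) * (R.W t * R.Y (-t⁻¹) * (R.W t)⁻¹) *
      (R.W t * R.X t * (R.W t)⁻¹) = R.W t * (R.X t * R.Y (-t⁻¹) * R.X t) * (R.W t)⁻¹ := by group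
    rw [this]
    show R.W t = R.W t * R.W t * (R.W t)⁻¹
    group
  rw [R.W_conjX ht, R.W_conjY ht] at h
  have e1 : -(t⁻¹ * t⁻¹ * t) = -t⁻¹ := by field_simp
  have e2 : -(t * t * -t⁻¹) = t := by field_simp
  rw [e1, e2] at h
  exact h

/-- `w(t) w(u) w(t)⁻¹ = w(t² u⁻¹)` -/
theorem W_conjW {t u : K} (ht : t ≠ 0) (hu : u ≠ 0) :
    R.W t * R.W u * (R.W t)⁻¹ = R.W (t * t * u⁻¹) := by
  have h : R.W t * R.W u * (R.W t)⁻¹ = (R.W t * R.X u * (R.W t)⁻¹) *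
      (R.W t * R.Y (-u⁻¹) * (R.W t)⁻¹) * (R.W t * R.X u * (R.W t)⁻¹) := by
    have : (R.W t * R.X u * (R.W t)⁻¹) * (R.W t * R.Y (-u⁻¹) * (R.W t)⁻¹) *
      (R.W t * R.X u * (R.W t)⁻¹) = R.W t * (R.X u * R.Y (-u⁻¹) * R.X u) * (R.W t)⁻¹ := by group
    rw [this]
    rfl
  rw [h, R.W_conjX ht, R.W_conjY ht]
  have hs : t * t * u⁻¹ ≠ 0 := mul_ne_zero (mul_ne_zero ht ht) (inv_ne_zero hu)
  rw [R.W_alt hs]
  have e1 : -(t⁻¹ * t⁻¹ * u) = -(t * t * u⁻¹)⁻¹ := by field_simp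
  have e2 : -(t * t * -u⁻¹) = t * t * u⁻¹ := by ring
  rw [e1, e2]

theorem H_conjX {t : K} (ht : t ≠ 0) (u : K) :
    R.H t * R.X u * (R.H t)⁻¹ = R.X (t * t * u) := by
  have h : R.H t * R.X u * (R.H t)⁻¹ =
      R.W t * (R.W (-1) * R.X u * (R.W (-1))⁻¹) * (R.W t)⁻¹ := by
    unfold H
    group
  rw [h, R.W_conjX (neg_ne_zero.mpr one_ne_zero), R.W_conjY ht]
  congr 1
  rw [inv_neg, inv_one]
  ring

theorem H_conjY {t : K} (ht : t ≠ 0) (u : K) :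
    R.H t * R.Y u * (R.H t)⁻¹ = R.Y (t⁻¹ * t⁻¹ * u) := by
  have h : R.H t * R.Y u * (R.H t)⁻¹ =
      R.W t * (R.W (-1) * R.Y u * (R.W (-1))⁻¹) * (R.W t)⁻¹ := by
    unfold H
    group
  rw [h, R.W_conjY (neg_ne_zero.mpr one_ne_zero), R.W_conjX ht]
  congr 1
  ring

theorem H_conjW {t u : K} (ht : t ≠ 0) (hu : u ≠ 0) :
    R.H t * R.W u * (R.H t)⁻¹ = R.W (t * t * u) := by
  have h : R.H t * R.W u * (R.H t)⁻¹ = (R.H t * R.X u * (R.H t)⁻¹) *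
      (R.H t * R.Y (-u⁻¹) * (R.H t)⁻¹) * (R.H t * R.X u * (R.H t)⁻¹) := by
    have : (R.H t * R.X u * (R.H t)⁻¹) * (R.H t * R.Y (-u⁻¹) * (R.H t)⁻¹) *
      (R.H t * R.X u * (R.H t)⁻¹) = R.H t * (R.X u * R.Y (-u⁻¹) * R.X u) * (R.H t)⁻¹ := by group
    rw [this]
    rfl
  rw [h, R.H_conjX ht, R.H_conjY ht]
  have e1 : t⁻¹ * t⁻¹ * -u⁻¹ = -(t * t * u)⁻¹ := by field_simp
  rw [e1]
  rfl

theorem H_conjH {t u : K} (ht : t ≠ 0) (hu : u ≠ 0) :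
    R.H t * R.H u * (R.H t)⁻¹ = R.H (t * t * u) * (R.H (t * t))⁻¹ := by
  have h : R.H t * R.H u * (R.H t)⁻¹ = (R.H t * R.W u * (R.H t)⁻¹) *
      (R.H t * R.W (-1) * (R.H t)⁻¹) := by
    rw [show R.H u = R.W u * R.W (-1) from rfl]
    group
  rw [h, R.H_conjW ht hu, R.H_conjW ht (neg_ne_zero.mpr one_ne_zero)]
  unfold H
  rw [mul_inv_rev, R.W_inv (t * t), mul_neg_one]
  group

theorem H_one : R.H 1 = 1 := by
  unfold H
  rw [← R.W_inv, mul_inv_cancel]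

/-- `X(b) = Y(b⁻¹) w(b) Y(b⁻¹)` -/
theorem X_eq {b : K} (hb : b ≠ 0) : R.X b = R.Y b⁻¹ * R.W b * R.Y b⁻¹ := by
  rw [R.W_alt hb]
  have h1 : R.Y b⁻¹ * R.Y (-b⁻¹) = 1 := by rw [R.Y_add, add_neg_cancel, R.Y_zero]
  have h2 : R.Y (-b⁻¹) * R.Y b⁻¹ = 1 := by rw [R.Y_add, neg_add_cancel, R.Y_zero]
  calc R.X b = (R.Y b⁻¹ * R.Y (-b⁻¹)) * R.X b * (R.Y (-b⁻¹) * R.Y b⁻¹) := by
        rw [h1, h2, one_mul, mul_one]
    _ = _ := by group

/-- `Y(m) = X(m⁻¹) w(-m⁻¹) X(m⁻¹)` -/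
theorem Y_eq {m : K} (_hm : m ≠ 0) : R.Y m = R.X m⁻¹ * R.W (-m⁻¹) * R.X m⁻¹ := by
  have h1 : R.X m⁻¹ * R.X (-m⁻¹) = 1 := by rw [R.X_add, add_neg_cancel, R.X_zero]
  have h2 : R.X (-m⁻¹) * R.X m⁻¹ = 1 := by rw [R.X_add, neg_add_cancel, R.X_zero]
  have e : -(-m⁻¹)⁻¹ = m := by rw [inv_neg, inv_inv, neg_neg]
  unfold W
  rw [e]
  calc R.Y m = (R.X m⁻¹ * R.X (-m⁻¹)) * R.Y m * (R.X (-m⁻¹) * R.X m⁻¹) := by
        rw [h1, h2, one_mul, mul_one]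
    _ = _ := by group

/-- additivity of `w`: `w(b + b') = w(b) w(-(b⁻¹ + b'⁻¹)⁻¹) w(b')` -/
theorem W_add {b b' : K} (hb : b ≠ 0) (hb' : b' ≠ 0) (hs : b + b' ≠ 0) :
    R.W (b + b') = R.W b * R.W (-(b⁻¹ + b'⁻¹)⁻¹) * R.W b' := by
  set m : K := b⁻¹ + b'⁻¹ with hmdef
  have hm : m ≠ 0 := by
    have : m = (b + b') * (b * b')⁻¹ := by rw [hmdef]; field_simp; ring
    rw [this]
    exact mul_ne_zero hs (inv_ne_zero (mul_ne_zero hb hb'))
  have hX : R.X (b + b') =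
      R.Y b⁻¹ * R.W b * R.Y b⁻¹ * (R.Y b'⁻¹ * R.W b' * R.Y b'⁻¹) := by
    rw [← R.X_add, ← R.X_eq hb, ← R.X_eq hb']
  have hY : R.Y b⁻¹ * R.Y b'⁻¹ = R.X m⁻¹ * R.W (-m⁻¹) * R.X m⁻¹ := by
    rw [R.Y_add, ← R.Y_eq hm]
  have c1 : R.W b * R.X m⁻¹ * (R.W b)⁻¹ = R.Y (-(b⁻¹ * b⁻¹ * m⁻¹)) := R.W_conjX hb _
  have c2 : (R.W b')⁻¹ * R.X m⁻¹ * R.W b' = R.Y (-(b'⁻¹ * b'⁻¹ * m⁻¹)) := by
    have := R.W_conjX (neg_ne_zero.mpr hb') m⁻¹
    rw [← R.W_inv, inv_inv, inv_neg, neg_mul_neg] at this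
    exact this
  have h1 : R.X (b + b') = R.Y b⁻¹ * (R.W b * R.X m⁻¹ * (R.W b)⁻¹) *
      (R.W b * R.W (-m⁻¹) * R.W b') * ((R.W b')⁻¹ * R.X m⁻¹ * R.W b') * R.Y b'⁻¹ := by
    calc R.X (b + b') = R.Y b⁻¹ * R.W b * (R.Y b⁻¹ * R.Y b'⁻¹) * R.W b' * R.Y b'⁻¹ := by
          rw [hX]; group
      _ = R.Y b⁻¹ * R.W b * (R.X m⁻¹ * R.W (-m⁻¹) * R.X m⁻¹) * R.W b' * R.Y b'⁻¹ := by rw [hY]
      _ = _ := by group
  rw [c1, c2, R.Y_add, mul_assoc, mul_assoc, R.Y_add] at h1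
  have e1 : b⁻¹ + -(b⁻¹ * b⁻¹ * m⁻¹) = (b + b')⁻¹ := by
    rw [hmdef]
    have : b⁻¹ + b'⁻¹ = (b + b') * (b * b')⁻¹ := by field_simp; ring
    rw [this]
    field_simp
    ring
  have e2 : -(b'⁻¹ * b'⁻¹ * m⁻¹) + b'⁻¹ = (b + b')⁻¹ := by
    rw [hmdef]
    have : b⁻¹ + b'⁻¹ = (b + b') * (b * b')⁻¹ := by field_simp; ring
    rw [this]
    field_simp
    ring
  rw [e1, e2, R.X_eq hs] at h1
  have h2 : R.Y (b + b')⁻¹ * R.W (b + b') * R.Y (b + b')⁻¹ =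
      R.Y (b + b')⁻¹ * (R.W b * R.W (-m⁻¹) * R.W b') * R.Y (b + b')⁻¹ := by
    rw [h1]; group
  exact mul_left_cancel (mul_right_cancel h2)

/-- `t + u = 1` implies `h(t) h(u) = h(t u)` -/
theorem H_mul_of_add {t u : K} (ht : t ≠ 0) (hu : u ≠ 0) (h : t + u = 1) :
    R.H t * R.H u = R.H (t * u) := by
  have h1 := R.W_add hu ht (by rw [add_comm, h]; exact one_ne_zero)
  rw [add_comm, h] at h1
  have e : -(u⁻¹ + t⁻¹)⁻¹ = -(t * u) := by
    have : u⁻¹ + t⁻¹ = (t + u) * (t * u)⁻¹ := by field_simp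
    rw [this, h, one_mul, inv_inv]
  rw [e] at h1
  -- `w(1) = w(u) w(-tu) w(t)`, so `w(tu) = w(t) w(-1) w(u)`
  have h2 : R.W (t * u) = R.W t * R.W (-1) * R.W u := by
    have : R.W (-(t * u)) = (R.W u)⁻¹ * R.W 1 * (R.W t)⁻¹ := by rw [h1]; group
    rw [← R.W_inv (t * u)] at this
    have h3 := congrArg (fun g => g⁻¹) this
    simp only [inv_inv, mul_inv_rev] at h3
    rw [h3, R.W_inv 1, mul_assoc]
  unfold H
  rw [h2]
  group

section Finite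

variable {R}

theorem H_pow_form
    (hc : ∀ t u : K, t ≠ 0 → u ≠ 0 → R.H t * R.H u * (R.H (t * u))⁻¹ ∈ Subgroup.center Γ)
    {a : K} (ha : a ≠ 0) (k : ℕ) :
    ∃ z ∈ Subgroup.center Γ, R.H (a ^ k) = z * R.H a ^ k := by
  induction k with
  | zero => exact ⟨1, one_mem _, by rw [pow_zero, pow_zero, R.H_one, one_mul]⟩
  | succ k ih =>
    obtain ⟨z, hz, e⟩ := ih
    have h1 := hc (a ^ k) a (pow_ne_zero k ha) ha
    refine ⟨(R.H (a ^ k) * R.H a * (R.H (a ^ k * a))⁻¹)⁻¹ * z, mul_mem (inv_mem h1) hz, ?_⟩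
    have : R.H (a ^ (k + 1)) =
        (R.H (a ^ k) * R.H a * (R.H (a ^ k * a))⁻¹)⁻¹ * (R.H (a ^ k) * R.H a) := by
      rw [pow_succ]; group
    rw [this, e, pow_succ]
    group

theorem H_commute [Finite K]
    (hc : ∀ t u : K, t ≠ 0 → u ≠ 0 → R.H t * R.H u * (R.H (t * u))⁻¹ ∈ Subgroup.center Γ)
    {t u : K} (ht : t ≠ 0) (hu : u ≠ 0) : R.H t * R.H u = R.H u * R.H t := by
  obtain ⟨g, hg⟩ := IsCyclic.exists_monoid_generator (α := Kˣ)
  obtain ⟨k, hk⟩ := hg (Units.mk0 t ht)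
  obtain ⟨l, hl⟩ := hg (Units.mk0 u hu)
  have hk' : ((g : Kˣ) : K) ^ k = t := by
    have := congrArg Units.val hk
    simpa using this
  have hl' : ((g : Kˣ) : K) ^ l = u := by
    have := congrArg Units.val hl
    simpa using this
  obtain ⟨z, hz, e⟩ := H_pow_form hc (Units.ne_zero g) k
  obtain ⟨z', hz', e'⟩ := H_pow_form hc (Units.ne_zero g) l
  rw [hk'] at e
  rw [hl'] at e'
  rw [Subgroup.mem_center_iff] at hz hz'
  rw [e, e']
  have hp : R.H (g : K) ^ k * R.H (g : K) ^ l = R.H (g : K) ^ l * R.H (g : K) ^ k := by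
    rw [← pow_add, ← pow_add, add_comm]
  calc z * R.H (g : K) ^ k * (z' * R.H (g : K) ^ l)
      = z * (R.H (g : K) ^ k * z') * R.H (g : K) ^ l := by group
    _ = z * (z' * R.H (g : K) ^ k) * R.H (g : K) ^ l := by rw [hz']
    _ = (z * z') * (R.H (g : K) ^ k * R.H (g : K) ^ l) := by group
    _ = (z' * z) * (R.H (g : K) ^ l * R.H (g : K) ^ k) := by rw [hz z', hp]
    _ = z' * (z * R.H (g : K) ^ l) * R.H (g : K) ^ k := by group
    _ = z' * (R.H (g : K) ^ l * z) * R.H (g : K) ^ k := by rw [hz]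
    _ = _ := by group

theorem isSquare_mul_of_not {F : Type*} [Field F] [Fintype F] (hF : ringChar F ≠ 2) {x y : F}
    (hx : ¬IsSquare x) (hy : ¬IsSquare y) : IsSquare (x * y) := by
  have hx0 : x ≠ 0 := by rintro rfl; exact hx (IsSquare.zero)
  have hy0 : y ≠ 0 := by rintro rfl; exact hy (IsSquare.zero)
  rw [FiniteField.isSquare_iff hF hx0] at hx
  rw [FiniteField.isSquare_iff hF hy0] at hy
  rw [FiniteField.isSquare_iff hF (mul_ne_zero hx0 hy0), mul_pow]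
  rcases FiniteField.pow_dichotomy hF hx0 with h | h
  · exact absurd h hx
  rcases FiniteField.pow_dichotomy hF hy0 with h' | h'
  · exact absurd h' hy
  rw [h, h', neg_mul_neg, one_mul]

/-- in a finite field of odd characteristic there are non-squares `t`, `u` with `t + u = 1` -/
theorem exists_nonsquare_add {F : Type*} [Field F] [Fintype F] (hF : ringChar F ≠ 2) :
    ∃ t u : F, ¬IsSquare t ∧ ¬IsSquare u ∧ t + u = 1 := by
  obtain ⟨n, hn⟩ := FiniteField.exists_nonsquare hF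
  have hn0 : n ≠ 0 := by rintro rfl; exact hn (IsSquare.zero)
  have hf : (Polynomial.C n * Polynomial.X ^ 2 : Polynomial F).degree = 2 :=
    Polynomial.degree_C_mul_X_pow 2 hn0
  have hg : (Polynomial.C n * Polynomial.X ^ 2 - Polynomial.C 1 : Polynomial F).degree = 2 := by
    rw [Polynomial.degree_sub_C (by rw [hf]; decide), hf]
  obtain ⟨a, b, hab⟩ := FiniteField.exists_root_sum_quadratic hf hg
    (FiniteField.odd_card_of_char_ne_two hF)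
  simp only [Polynomial.eval_mul, Polynomial.eval_C, Polynomial.eval_pow, Polynomial.eval_X,
    Polynomial.eval_sub] at hab
  have hsum : n * a ^ 2 + n * b ^ 2 = 1 := by linear_combination hab
  have key : ∀ c d : F, n * c ^ 2 + n * d ^ 2 = 1 → ¬IsSquare (n * c ^ 2) := by
    intro c d hcd hsq
    by_cases hc : c = 0
    · subst hc
      have hd : d ≠ 0 := by
        rintro rfl
        simp at hcd
      apply hn
      refine ⟨d⁻¹, ?_⟩
      have : n * d ^ 2 = 1 := by simpa using hcd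
      field_simp
      linear_combination this
    · obtain ⟨r, hr⟩ := hsq
      apply hn
      refine ⟨r * c⁻¹, ?_⟩
      field_simp
      linear_combination hr
  exact ⟨n * a ^ 2, n * b ^ 2, key a b hsum, key b a (by rw [add_comm]; exact hsum), hsum⟩

/-- **Over a finite field the relation `h(t) h(u) = h(t u)` holds** as soon as the elements
`h(t) h(u) h(t u)⁻¹` are central. -/
theorem H_mul [Finite K]
    (hc : ∀ t u : K, t ≠ 0 → u ≠ 0 → R.H t * R.H u * (R.H (t * u))⁻¹ ∈ Subgroup.center Γ)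
    {t u : K} (ht : t ≠ 0) (hu : u ≠ 0) : R.H t * R.H u = R.H (t * u) := by
  classical
  have := Fintype.ofFinite K
  have comm : ∀ t u : K, t ≠ 0 → u ≠ 0 → R.H t * R.H u = R.H u * R.H t :=
    fun t u ht hu => H_commute hc ht hu
  have sq : ∀ t s : K, t ≠ 0 → s ≠ 0 → R.H t * R.H (s * s) = R.H (t * (s * s)) := by
    intro t s ht hs
    have h1 := R.H_conjH hs ht
    rw [comm s t hs ht, mul_inv_cancel_right] at h1
    rw [mul_comm t, h1, inv_mul_cancel_right]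
  by_cases hF : ringChar K = 2
  · obtain ⟨s, rfl⟩ := FiniteField.isSquare_of_char_two hF u
    have hs : s ≠ 0 := by rintro rfl; simp at hu
    exact sq t s ht hs
  by_cases htsq : IsSquare t
  · obtain ⟨s, rfl⟩ := htsq
    have hs : s ≠ 0 := by rintro rfl; simp at ht
    rw [comm _ _ ht hu, sq u s hu hs, mul_comm]
  by_cases husq : IsSquare u
  · obtain ⟨s, rfl⟩ := husq
    have hs : s ≠ 0 := by rintro rfl; simp at hu
    exact sq t s ht hs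
  obtain ⟨t₀, u₀, ht₀, hu₀, hadd⟩ := exists_nonsquare_add hF
  have ht₀0 : t₀ ≠ 0 := by rintro rfl; exact ht₀ (IsSquare.zero)
  have hu₀0 : u₀ ≠ 0 := by rintro rfl; exact hu₀ (IsSquare.zero)
  obtain ⟨r, hr⟩ := isSquare_mul_of_not hF htsq ht₀
  obtain ⟨r', hr'⟩ := isSquare_mul_of_not hF husq hu₀
  have hr0 : r ≠ 0 := by rintro rfl; simp [ht, ht₀0] at hr
  have hr'0 : r' ≠ 0 := by rintro rfl; simp [hu, hu₀0] at hr'
  set α := r * t₀⁻¹ with hα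
  set β := r' * u₀⁻¹ with hβ
  have hα0 : α ≠ 0 := mul_ne_zero hr0 (inv_ne_zero ht₀0)
  have hβ0 : β ≠ 0 := mul_ne_zero hr'0 (inv_ne_zero hu₀0)
  have et : t = t₀ * (α * α) := by
    rw [hα]; field_simp; linear_combination hr
  have eu : u = u₀ * (β * β) := by
    rw [hβ]; field_simp; linear_combination hr'
  have hαα : α * α ≠ 0 := mul_ne_zero hα0 hα0
  have hββ : β * β ≠ 0 := mul_ne_zero hβ0 hβ0
  have h00 := R.H_mul_of_add ht₀0 hu₀0 hadd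
  calc R.H t * R.H u = (R.H t₀ * R.H (α * α)) * (R.H u₀ * R.H (β * β)) := by
        rw [sq t₀ α ht₀0 hα0, sq u₀ β hu₀0 hβ0, ← et, ← eu]
    _ = R.H t₀ * (R.H (α * α) * R.H u₀) * R.H (β * β) := by group
    _ = R.H t₀ * (R.H u₀ * R.H (α * α)) * R.H (β * β) := by rw [comm _ _ hαα hu₀0]
    _ = (R.H t₀ * R.H u₀) * R.H (α * α) * R.H (β * β) := by group
    _ = R.H (t₀ * u₀ * (α * α) * (β * β)) := by
        rw [h00, sq _ α (mul_ne_zero ht₀0 hu₀0) hα0,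
          sq _ β (mul_ne_zero (mul_ne_zero ht₀0 hu₀0) hαα) hβ0]
    _ = R.H (t * u) := by
        congr 1
        rw [et, eu]; ring

end Finite

end Rk1

end Cfsg.Agent.Lib.Helper8.Chev
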