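import Cfsg.Agent.Lib.Helper8.ChevSt15
import Cfsg.Agent.Lib.Helper8.ChevSt16

set_option autoImplicit false

/-! Over a finite field the relations (R3) hold in every group with root elements satisfying
(R1), (R2) and mapping to the Chevalley group. -/

namespace Cfsg.Agent.Lib.Helper8.Chev

open Cfsg.Lie Matrix

section coef

variable {D : ChevalleyDatum} {F : Type*} [Field F]

theorem nCoef_simple (hD : D ∈ [chevG2, chevB2, chevD4, chevF4, chevE6, chevE7, chevE8]) {i : ℕ}
    (hi : i < D.rank) (c : F) : nCoef D F i (D.simple i) c = -(c⁻¹ * c⁻¹) := by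
  have J := validJ_of_mem hD
  have H := validH_of_mem hD
  have hp : D.simple i < D.nroots := (J.S i hi).1
  have hW := isWt_aco J.V J.T H.hsz H.wt (D.simple i)
  have haco : aco D (D.simple i) (D.neg (D.simple i)) = -2 := by
    have := hW.1 _ hp
    simp only [] at this
    rw [this, aco_self hD hp]
  unfold nCoef
  rw [reflectRoot_simple, haco, (nS_props J H.nS hi).1, _root_.zpow_neg, zpow_two, mul_inv]
  push_cast
  ring

theorem nCoef_neg_simple (hD : D ∈ [chevG2, chevB2, chevD4, chevF4, chevE6, chevE7, chevE8])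
    {i : ℕ} (hi : i < D.rank) (c : F) : nCoef D F i (D.neg (D.simple i)) c = -(c * c) := by
  have J := validJ_of_mem hD
  have H := validH_of_mem hD
  have hp : D.simple i < D.nroots := (J.S i hi).1
  have hσ : D.reflectRoot i (D.neg (D.simple i)) = D.simple i := by
    rw [((nS_props J H.nS hi).2.2 _ hp).2.2.2.2, reflectRoot_simple, J.V.neg_neg hp]
  unfold nCoef
  rw [hσ, aco_self hD hp, (nS_props J H.nS hi).2.1, zpow_two]
  push_cast
  ring

end coef

namespace StRep

variable {D : ChevalleyDatum} {K : Type*} [Field K] {Γ : Type*} [Group Γ] (S : StRep D K Γ)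

/-- the action of `n̄_r(c)` on `X̄_r` and `X̄_{-r}`, for every root `r` -/
theorem n_conj_root {r : ℕ} (hr : r < D.nroots) {c : K} (hc : c ≠ 0) (u : K) :
    S.n r c * S.x r u * (S.n r c)⁻¹ = S.x (D.neg r) (-(c⁻¹ * c⁻¹ * u)) ∧
    S.n r c * S.x (D.neg r) u * (S.n r c)⁻¹ = S.x r (-(c * c * u)) := by
  have J := validJ_of_mem S.hD
  obtain ⟨l, j, hl, hj, rfl⟩ := reach_of_mem S.hD hr
  have hp : D.simple j < D.nroots := (J.S j hj).1
  obtain ⟨_, _, ε, hε, e1, e2⟩ := S.rp_nW hl (D.simple j) hp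
  set g := S.nW l with hg
  set r := reflWord D l (D.simple j) with hrdef
  have hεε : ε * ε = 1 := by rcases hε with rfl | rfl <;> simp
  have hεc : ε * c ≠ 0 := by rcases hε with rfl | rfl <;> simpa using hc
  have hn : S.n r c = g * S.n (D.simple j) (ε * c) * g⁻¹ := by
    unfold n
    have : g * (S.x (D.simple j) (ε * c) * S.x (D.neg (D.simple j)) (-(ε * c)⁻¹) *
        S.x (D.simple j) (ε * c)) * g⁻¹ =
        (g * S.x (D.simple j) (ε * c) * g⁻¹) * (g * S.x (D.neg (D.simple j)) (-(ε * c)⁻¹) * g⁻¹) *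
          (g * S.x (D.simple j) (ε * c) * g⁻¹) := by group
    rw [this, e1, e2, ← mul_assoc, hεε, one_mul]
    have e : ε * -(ε * c)⁻¹ = -c⁻¹ := by
      rcases hε with rfl | rfl <;> simp [inv_neg]
    rw [e]
  have hx : ∀ u : K, S.x r u = g * S.x (D.simple j) (ε * u) * g⁻¹ := by
    intro u
    rw [e1, ← mul_assoc, hεε, one_mul]
  have hx' : ∀ u : K, S.x (D.neg r) u = g * S.x (D.neg (D.simple j)) (ε * u) * g⁻¹ := by
    intro u
    rw [e2, ← mul_assoc, hεε, one_mul]
  constructor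
  · rw [hn, hx u]
    have : g * S.n (D.simple j) (ε * c) * g⁻¹ * (g * S.x (D.simple j) (ε * u) * g⁻¹) *
        (g * S.n (D.simple j) (ε * c) * g⁻¹)⁻¹ =
        g * (S.n (D.simple j) (ε * c) * S.x (D.simple j) (ε * u) *
          (S.n (D.simple j) (ε * c))⁻¹) * g⁻¹ := by group
    rw [this, S.n_conj_self hj hεc, nCoef_simple S.hD hj, e2]
    congr 1
    rcases hε with rfl | rfl <;> simp [inv_neg]
  · rw [hn, hx' u]
    have : g * S.n (D.simple j) (ε * c) * g⁻¹ * (g * S.x (D.neg (D.simple j)) (ε * u) * g⁻¹) *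
        (g * S.n (D.simple j) (ε * c) * g⁻¹)⁻¹ =
        g * (S.n (D.simple j) (ε * c) * S.x (D.neg (D.simple j)) (ε * u) *
          (S.n (D.simple j) (ε * c))⁻¹) * g⁻¹ := by group
    rw [this, S.n_conj_negself hj hεc, nCoef_neg_simple S.hD hj, e1]
    congr 1
    rcases hε with rfl | rfl <;> simp

/-- the rank one data of a root -/
def rk1 {r : ℕ} (hr : r < D.nroots) : Rk1 K Γ where
  X := S.x r
  Y := S.x (D.neg r)
  X_add := S.add r hr
  Y_add := S.add _ ((valid0_of_mem S.hD).neg_lt hr)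
  conjX := fun _ ht u => (S.n_conj_root hr ht u).1
  conjY := fun _ ht u => (S.n_conj_root hr ht u).2

theorem rk1_H {r : ℕ} (hr : r < D.nroots) (t : K) : (S.rk1 hr).H t = S.h r t := rfl

/-- the elements `h̄_r(t) h̄_r(u) h̄_r(tu)⁻¹` are central -/
theorem h_mul_mem_center {r : ℕ} (hr : r < D.nroots) {t u : K} (ht : t ≠ 0) (hu : u ≠ 0) :
    S.h r t * S.h r u * (S.h r (t * u))⁻¹ ∈ Subgroup.center Γ := by
  have J := validJ_of_mem S.hD
  have V1 := valid1_of_mem S.hD
  have H := validH_of_mem S.hD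
  apply S.ker_le_center
  rw [MonoidHom.mem_ker, map_mul, map_inv, mul_inv_eq_one, map_mul]
  apply Units.ext
  rw [Units.val_mul, S.map_h hr, S.map_h hr, S.map_h hr, hMat_mul_hMat J V1 H hr ht hu]

/-- **(R3) for every root, over a finite field** -/
theorem h_mul_of_finite [Finite K] {r : ℕ} (hr : r < D.nroots) {t u : K} (ht : t ≠ 0)
    (hu : u ≠ 0) : S.h r t * S.h r u = S.h r (t * u) :=
  Rk1.H_mul (R := S.rk1 hr) (fun _ _ ht hu => S.h_mul_mem_center hr ht hu) ht hu

end StRep

end Cfsg.Agent.Lib.Helper8.Chev
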