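import Cfsg.Agent.Lib.Helper8.ChevC

set_option autoImplicit false

namespace Cfsg.Agent.Lib.Helper8.Chev

open Cfsg.Lie Matrix

variable {D : ChevalleyDatum}

theorem chainVec_zero (R : Type*) [CommRing R] (r s : ℕ) : chainVec D R r s 0 = 0 := by
  unfold chainVec
  apply List.sum_eq_zero
  intro x hx
  rw [List.mem_map] at hx
  obtain ⟨q, _, rfl⟩ := hx
  simp

theorem xN_zero (V : Valid0 D) (R : Type*) [CommRing R] (r : ℕ) : xN D R r 0 = 1 := by
  by_cases hr : r < D.nroots
  · apply ext_mulVec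
    · intro i hi
      rw [xN_mulVec_Hb R hr 0 hi, Matrix.one_mulVec]
      simp
    · intro u hu
      rw [Matrix.one_mulVec]
      by_cases h1 : u = r
      · subst h1; exact xN_mulVec_E_self R hr 0
      · by_cases h2 : u = D.neg r
        · subst h2; rw [xN_mulVec_E_neg V R hr 0]; simp
        · rw [xN_mulVec_E V R hr 0 hu h1 h2, chainVec_zero, add_zero]
  · unfold xN; rw [dif_neg hr]

theorem xN_eq_one_iff (V : Valid0 D) (R : Type*) [CommRing R] [IsReduced R] {r : ℕ}
    (hr : r < D.nroots) (t : R) : xN D R r t = 1 ↔ t = 0 := by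
  constructor
  · intro h
    have h1 := xN_mulVec_E_neg V R hr t
    rw [h, Matrix.one_mulVec] at h1
    have h2 := congrFun h1 (Sum.inr ⟨r, hr⟩)
    simp only [Pi.add_apply, Pi.sub_apply, Pi.smul_apply, E_apply_inr, Hr_apply_inr,
      smul_eq_mul, if_true, mul_one] at h2
    rw [if_neg (fun h => V.neg_ne hr h.symm)] at h2
    have h3 : t ^ 2 = 0 := by linear_combination h2
    exact pow_eq_zero_iff (two_ne_zero) |>.mp h3
  · rintro rfl
    exact xN_zero V R r

end Cfsg.Agent.Lib.Helper8.Chev
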