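import Cfsg.Agent.Lib.Helper8.ChevU2
import Cfsg.Agent.Lib.Helper8.ChevD

set_option autoImplicit false

namespace Cfsg.Agent.Lib.Helper8.Chev

open Cfsg.Lie Matrix

theorem checkTri_G2 : checkTri chevG2 = true := by decide +kernel
theorem checkTri_B2 : checkTri chevB2 = true := by decide +kernel
theorem checkTri_D4 : checkTri chevD4 = true := by decide +kernel
theorem checkTri_F4 : checkTri chevF4 = true := by decide +kernel
theorem checkTri_E6 : checkTri chevE6 = true := by decide +kernel
theorem checkTri_E7 : checkTri chevE7 = true := by decide +kernel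
theorem checkTri_E8 : checkTri chevE8 = true := by decide +kernel

theorem triP_of_mem {D : ChevalleyDatum}
    (hD : D ∈ [chevG2, chevB2, chevD4, chevF4, chevE6, chevE7, chevE8]) : TriP D :=
  forall_seven (P := TriP) (triP_of_check rfl checkTri_G2) (triP_of_check rfl checkTri_B2)
    (triP_of_check rfl checkTri_D4) (triP_of_check rfl checkTri_F4) (triP_of_check rfl checkTri_E6)
    (triP_of_check rfl checkTri_E7) (triP_of_check rfl checkTri_E8) hD

theorem checkPos_G2 : checkPos chevG2 = true := by decide +kernel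
theorem checkPos_B2 : checkPos chevB2 = true := by decide +kernel
theorem checkPos_D4 : checkPos chevD4 = true := by decide +kernel
theorem checkPos_F4 : checkPos chevF4 = true := by decide +kernel
theorem checkPos_E6 : checkPos chevE6 = true := by decide +kernel
theorem checkPos_E7 : checkPos chevE7 = true := by decide +kernel
theorem checkPos_E8 : checkPos chevE8 = true := by decide +kernel

theorem posP_of_mem {D : ChevalleyDatum}
    (hD : D ∈ [chevG2, chevB2, chevD4, chevF4, chevE6, chevE7, chevE8]) : PosP D :=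
  forall_seven (P := PosP) (posP_of_check checkPos_G2) (posP_of_check checkPos_B2)
    (posP_of_check checkPos_D4) (posP_of_check checkPos_F4) (posP_of_check checkPos_E6)
    (posP_of_check checkPos_E7) (posP_of_check checkPos_E8) hD

/-! ### The unipotent subgroup `U` is unitriangular -/

variable {D : ChevalleyDatum} {F : Type*} [Field F]

theorem x_inv (V : Valid0 D) (V1 : Valid1 D) {r : ℕ} (hr : r < D.nroots) (t : F) (g : GL D.Idx F)
    (hg : (g : Matrix D.Idx D.Idx F) = D.x F r t) :
    ((g⁻¹ : GL D.Idx F) : Matrix D.Idx D.Idx F) = D.x F r (-t) := by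
  rw [Matrix.coe_units_inv, hg, x_eq_xN, x_eq_xN]
  apply Matrix.inv_eq_right_inv
  rw [xN_mul_xN F V V1 hr, add_neg_cancel, xN_zero V]

theorem posUnipotent_sub_one_mem (V : Valid0 D) (V1 : Valid1 D) (Tr : TriP D) (P : PosP D)
    {g : GL D.Idx F} (hg : g ∈ D.posUnipotent F) : (g : Matrix D.Idx D.Idx F) - 1 ∈ LowK D F 1 := by
  unfold ChevalleyDatum.posUnipotent at hg
  induction hg using Subgroup.closure_induction'' with
  | mem g hg =>
    obtain ⟨r, t, hr, hg⟩ := hg
    rw [hg, x_eq_xN]
    exact xN_sub_one_mem V Tr hr.1 ((P r hr.1).1.mp hr) t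
  | inv_mem g hg =>
    obtain ⟨r, t, hr, hg⟩ := hg
    rw [x_inv V V1 hr.1 t g hg, x_eq_xN]
    exact xN_sub_one_mem V Tr hr.1 ((P r hr.1).1.mp hr) (-t)
  | one => simpa using zero_mem_LowK (D := D) (R := F) 1
  | mul g g' _ _ hg hg' =>
    have : ((g * g' : GL D.Idx F) : Matrix D.Idx D.Idx F) - 1 =
        ((g : Matrix D.Idx D.Idx F) - 1) * ((g' : Matrix D.Idx D.Idx F) - 1) +
          ((g : Matrix D.Idx D.Idx F) - 1) + ((g' : Matrix D.Idx D.Idx F) - 1) := by
      rw [Units.val_mul]; noncomm_ring
    rw [this]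
    exact LowK_add (LowK_add (LowK_mono (by omega) (LowK_mul hg hg')) hg) hg'

end Cfsg.Agent.Lib.Helper8.Chev
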