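import Cfsg.Agent.Lib.Helper8.ChevSimp1
import Cfsg.Agent.S1029

set_option autoImplicit false

namespace Cfsg.Agent.Lib.Helper8.Chev

open Cfsg.Lie Matrix Cfsg.Agent.Lib.Helper3
open scoped commutatorElement

section

variable {D : ChevalleyDatum} {F : Type*} [Field F]

theorem chevBN_B_solvable (hD : D ∈ [chevG2, chevB2, chevD4, chevF4, chevE6, chevE7, chevE8]) :
    Group.IsSolvable ↥(chevBN hD F).B := by
  have V := valid0_of_mem hD
  have V1 := valid1_of_mem hD
  have J := validJ_of_mem hD
  have H := validH_of_mem hD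
  have : Group.IsNilpotent ↥(D.posUnipotent F) := Cfsg.Agent.S1029.result D hD
  have : Group.IsSolvable ↥(D.borelSubgroup F) := borel_isSolvable J V1 H
  rw [chevBN_B]
  exact Group.isSolvable_of_isSolvable_injective
    (f := (Subgroup.subgroupOfEquivOfLe (borel_le_group (F := F) V V1)).toMonoidHom)
    (Subgroup.subgroupOfEquivOfLe (borel_le_group (F := F) V V1)).injective

theorem chev_nontrivial (hD : D ∈ [chevG2, chevB2, chevD4, chevF4, chevE6, chevE7, chevE8]) :
    Nontrivial ↥(D.group F) := by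
  have V := valid0_of_mem hD
  have V1 := valid1_of_mem hD
  have J := validJ_of_mem hD
  have C := copP_of_mem hD
  have hdyn := checkDyn_of_mem hD
  simp only [checkDyn, Bool.and_eq_true, Nat.blt_eq] at hdyn
  have hp := (J.S 0 hdyn.1).1
  obtain ⟨a, ha⟩ := exists_unit_x V V1 hp (1 : F)
  refine ⟨⟨⟨a, x_mem_group hp 1 a ha⟩, 1, fun h => ?_⟩⟩
  have h1 : a = 1 := congrArg Subtype.val h
  rw [h1, Units.val_one, x_eq_xN] at ha
  exact one_ne_zero (xN_eq_one V C hp ha.symm)

theorem commutator_eq_bot_of_comm {G : Type*} [Group G] (h : ∀ a b : G, a * b = b * a) :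
    commutator G = ⊥ := by
  rw [eq_bot_iff, commutator_eq_closure, Subgroup.closure_le]
  rintro x ⟨a, b, rfl⟩
  rw [SetLike.mem_coe, Subgroup.mem_bot, commutatorElement_def, h a b]
  group

/-- the Chevalley groups are simple, except `G₂(2)` and `B₂(2)` -/
theorem chev_simple (hD : D ∈ [chevG2, chevB2, chevD4, chevF4, chevE6, chevE7, chevE8])
    (h2 : D = chevG2 ∨ D = chevB2 → ∃ a : F, a ≠ 0 ∧ a ≠ 1) :
    IsSimpleGroup ↥(D.group F) ∧ ¬ IsMulCommutative ↥(D.group F) := by
  have := chev_nontrivial (F := F) hD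
  have hperf := chev_perfect (F := F) hD h2
  refine ⟨?_, ?_⟩
  · apply BN.isSimpleGroup (chevBN hD F) (chevBN_irreducible hD) (chevBN_B_solvable hD) hperf
    rw [chevBN_B]
    exact normalCore_borel hD
  · intro hc
    have := commutator_eq_bot_of_comm (G := ↥(D.group F)) (fun a b => hc.is_comm.comm a b)
    rw [hperf] at this
    exact top_ne_bot this

end

end Cfsg.Agent.Lib.Helper8.Chev
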