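import Cfsg.Agent.Lib.Helper8.ChevRee30
import Cfsg.Agent.Lib.Helper8.ChevSimp2

set_option autoImplicit false

/-! The Ree groups `²G₂(3^(2m+1))`, `m ≥ 1`, are perfect and simple. -/

namespace Cfsg.Agent.Lib.Helper8.Chev

open Cfsg.Lie Matrix Cfsg.Agent.Lib.Helper3
open scoped commutatorElement

section

variable {K : Type*} [Field K] [Fintype K] {m : ℕ} {φ ψ : K →+* K}
variable {τ : ↥(chevG2.group K) →* ↥(chevG2.group K)}

theorem ree_perfect (hF : ReeField K m φ ψ) (hK : Fintype.card K = 3 ^ (2 * m + 1))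
    (hτ : ReeAut m τ) (hm : 1 ≤ m) : commutator ↥(twistedG2 K (3 ^ m)) = ⊤ := by
  have key := ree_le_of_comm hF hK hτ hm
    ((commutator ↥(twistedG2 K (3 ^ m))).map (twistedG2 K (3 ^ m)).subtype)
    (by
      intro a ha b hb
      refine ⟨⁅(⟨a, ha⟩ : ↥(twistedG2 K (3 ^ m))), ⟨b, hb⟩⁆, ?_, ?_⟩
      · exact Subgroup.commutator_mem_commutator (Subgroup.mem_top _) (Subgroup.mem_top _)
      · rw [commutatorElement_def]
        rfl)
    (by
      rintro g hg _ ⟨d, hd, rfl⟩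
      have hN : (commutator ↥(twistedG2 K (3 ^ m))).Normal := inferInstance
      exact ⟨(⟨g, hg⟩ : ↥(twistedG2 K (3 ^ m))) * d * (⟨g, hg⟩ : ↥(twistedG2 K (3 ^ m)))⁻¹,
        hN.conj_mem d hd _, rfl⟩)
  rw [eq_top_iff]
  intro x _
  obtain ⟨y, hy, e⟩ := key x.2
  have : y = x := Subtype.ext e
  rw [← this]
  exact hy

omit [Fintype K] in
theorem reeB_solvable : Group.IsSolvable ↥(reeB K m) := by
  have VJ := validJ_of_mem hDG2
  have V1 := valid1_of_mem hDG2
  have H := validH_of_mem hDG2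
  have : Group.IsNilpotent ↥(chevG2.posUnipotent K) := Cfsg.Agent.S1029.result chevG2 hDG2
  have hsol : Group.IsSolvable ↥(chevG2.borelSubgroup K) := borel_isSolvable VJ V1 H
  let f1 : ↥(reeB K m) →* ↥(chevG2.borelSubgroup K ⊓ twistedG2 K (3 ^ m)) :=
    (Subgroup.subgroupOfEquivOfLe
      (inf_le_right : chevG2.borelSubgroup K ⊓ twistedG2 K (3 ^ m) ≤ twistedG2 K (3 ^ m))).toMonoidHom
  let f2 : ↥(chevG2.borelSubgroup K ⊓ twistedG2 K (3 ^ m)) →* ↥(chevG2.borelSubgroup K) :=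
    Subgroup.inclusion inf_le_left
  have hf2 : Function.Injective f2 := Subgroup.inclusion_injective inf_le_left
  have hf1 : Function.Injective f1 :=
    (Subgroup.subgroupOfEquivOfLe
      (inf_le_right : chevG2.borelSubgroup K ⊓ twistedG2 K (3 ^ m) ≤ twistedG2 K (3 ^ m))).injective
  exact Group.isSolvable_of_isSolvable_injective (f := f2.comp f1) (hf2.comp hf1)

/-- the Ree groups `²G₂(3^(2m+1))`, `m ≥ 1`, are simple -/
theorem ree_simple (hF : ReeField K m φ ψ) (hK : Fintype.card K = 3 ^ (2 * m + 1))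
    (hτ : ReeAut m τ) (hm : 1 ≤ m) :
    IsSimpleGroup ↥(twistedG2 K (3 ^ m)) ∧ ¬ IsMulCommutative ↥(twistedG2 K (3 ^ m)) := by
  have hperf := ree_perfect hF hK hτ hm
  have hnt : Nontrivial ↥(twistedG2 K (3 ^ m)) := by
    refine ⟨⟨⟨reeN0 K, reeN0_mem_twisted hF⟩, 1, fun h => ?_⟩⟩
    have h1 : reeN0 K = 1 := congrArg Subtype.val h
    exact reeN0_not_mem_borel hF (by rw [h1]; exact one_mem _)
  refine ⟨?_, ?_⟩
  · apply BN.isSimpleGroup (reeBN hF hK hτ) ?_ ?_ hperf ?_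
    · intro J hJ hJne hJc
      exfalso
      rw [reeBN_S] at hJ hJc
      obtain ⟨s, hs⟩ := hJne
      obtain ⟨s', hs'1, hs'2⟩ := hJc
      have e1 := hJ hs
      rw [Set.mem_singleton_iff] at e1 hs'1
      exact hs'2 (by rw [hs'1, ← e1]; exact hs)
    · rw [reeBN_B]
      exact reeB_solvable
    · rw [reeBN_B]
      exact ree_core hF hK hτ
  · intro hc
    have := commutator_eq_bot_of_comm (G := ↥(twistedG2 K (3 ^ m)))
      (fun a b => hc.is_comm.comm a b)
    rw [hperf] at this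
    exact top_ne_bot this

end

end Cfsg.Agent.Lib.Helper8.Chev
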