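import Mathlib
import Cfsg.Agent.Lib.Helper8.S5670T2Defs
import Cfsg.Agent.Lib.Helper25.S5670FOPERP

/-! # S5670 FO-T2T3, piece T2-C (helper8): radical elements, conjugation, commutators -/

set_option autoImplicit false
set_option linter.unusedSectionVars false

namespace Cfsg.Agent.Lib.Helper8.S5670T2C

open Matrix Module
open Cfsg.Agent.Lib.Helper16.Tens Cfsg.Agent.Lib.Helper10.TensFund Cfsg.Agent.Lib.Helper28.TensU
open Cfsg.Agent.Lib.Helper8.S5670T2 Cfsg.Agent.Lib.Helper25.S5670PERP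
open scoped Kronecker

variable {F : Type*} [Field F] [Fintype F] {a b : ℕ} {q : ℕ}

local notation "V" => (Fin a × Fin b → F)

/-- T2-C (a) -/
theorem img_hyp_of_img_pt (hF : Fintype.card F = q ^ 2) (m : GL (Fin a × Fin b) F)
    (hm : m ∈ UG (Fin a × Fin b) F q) (k₀ : Fin b → F) (hstab : img m (pt (a := a) k₀) = pt k₀) :
    img m (hyp (a := a) (cj q k₀)) = hyp (cj q k₀) := by
  ext v
  rw [mem_img_hyp_cj_iff hF m hm, hstab, mem_hyp_cj_iff hF]

omit [Fintype F] in
/-- T2-C (b) -/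
theorem inRad_inv (k₀ : Fin b → F) (g : GL (Fin a × Fin b) F) (hg : InRad q k₀ g) : InRad q k₀ g⁻¹ := by
  obtain ⟨h1, h2⟩ := hg
  have h1' : ∀ v ∈ pt (a := a) k₀, act g⁻¹ v = v := by
    intro v hv
    have := h1 v hv
    calc act g⁻¹ v = act g⁻¹ (act g v) := by rw [this]
      _ = v := act_inv_act g v
  refine ⟨h1', ?_⟩
  intro v hv
  have hl := h2 v hv
  -- act g v = v + l, so act g⁻¹ v = v - l
  have h3 : act g⁻¹ v - v = -(act g v - v) := by
    have h4 : act g⁻¹ (act g v - v) = act g v - v := h1' _ hl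
    rw [map_sub, act_inv_act] at h4
    -- h4 : v - act g⁻¹ v = act g v - v
    rw [← h4]; abel
  rw [h3]
  exact Submodule.neg_mem _ hl

/-- T2-C (c) -/
theorem conj_inRad (hF : Fintype.card F = q ^ 2) (m : GL (Fin a × Fin b) F) (hm : m ∈ UG (Fin a × Fin b) F q)
    (k₀ : Fin b → F) (hstab : img m (pt (a := a) k₀) = pt k₀) (r : GL (Fin a × Fin b) F) (hr : InRad q k₀ r) :
    InRad q k₀ (m * r * m⁻¹) := by
  have hstab' := img_hyp_of_img_pt hF m hm k₀ hstab
  obtain ⟨h1, h2⟩ := hr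
  have hpt : ∀ v, v ∈ pt (a := a) k₀ → act m⁻¹ v ∈ pt (a := a) k₀ := by
    intro v hv
    rw [← hstab] at hv
    exact (mem_img_iff m _ v).1 hv
  have hpt' : ∀ v, v ∈ pt (a := a) k₀ → act m v ∈ pt (a := a) k₀ := by
    intro v hv
    rw [← hstab, mem_img_iff, act_inv_act]
    exact hv
  have hhyp : ∀ v, v ∈ hyp (a := a) (cj q k₀) → act m⁻¹ v ∈ hyp (a := a) (cj q k₀) := by
    intro v hv
    rw [← hstab'] at hv
    exact (mem_img_iff m _ v).1 hv
  constructor
  · intro v hv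
    rw [act_mul, act_mul, h1 _ (hpt v hv), act_act_inv]
  · intro v hv
    rw [act_mul, act_mul]
    have h3 := h2 _ (hhyp v hv)
    have h4 : act m (act r (act m⁻¹ v)) - v = act m (act r (act m⁻¹ v) - act m⁻¹ v) := by
      rw [map_sub, act_act_inv]
    rw [h4]
    exact hpt' _ h3

omit [Fintype F] in
/-- T2-C (d): two elements of the radical commute modulo elements fixing `U ⊗ k₀^⊥` pointwise -/
theorem comm_fix (k₀ : Fin b → F) (g r : GL (Fin a × Fin b) F) (hg : InRad q k₀ g) (hr : InRad q k₀ r) :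
    ∀ v ∈ hyp (a := a) (cj q k₀), act (g * r * g⁻¹ * r⁻¹) v = v := by
  intro v hv
  have hgi := inRad_inv k₀ g hg
  have hri := inRad_inv k₀ r hr
  -- write everything as v + l with l ∈ pt k₀
  set l1 := act r⁻¹ v - v with hl1
  have hl1m : l1 ∈ pt (a := a) k₀ := hri.2 v hv
  have e1 : act r⁻¹ v = v + l1 := by rw [hl1]; abel
  set l2 := act g⁻¹ v - v with hl2
  have hl2m : l2 ∈ pt (a := a) k₀ := hgi.2 v hv
  have e2 : act g⁻¹ v = v + l2 := by rw [hl2]; abel
  -- act r v = v - l1, act g v = v - l2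
  have e3 : act r v = v - l1 := by
    have h := congrArg (act r) e1
    rw [act_act_inv, map_add, hr.1 l1 hl1m] at h
    exact eq_sub_of_add_eq h.symm
  have e4 : act g v = v - l2 := by
    have h := congrArg (act g) e2
    rw [act_act_inv, map_add, hg.1 l2 hl2m] at h
    exact eq_sub_of_add_eq h.symm
  rw [act_mul, act_mul, act_mul, e1, map_add, e2, hgi.1 l1 hl1m]
  simp only [map_add, map_sub, e3, e4, hr.1 l2 hl2m, hr.1 l1 hl1m, hg.1 l1 hl1m, hg.1 l2 hl2m]
  abel

end Cfsg.Agent.Lib.Helper8.S5670T2C
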