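import Mathlib
import Cfsg.Prelude.Def_GeometricClasses
import Cfsg.Agent.Lib.Helper13.AltRank

/-! # S5630 pieces CORE-F4 / CORE-F5 (helper8): polar forms in characteristic 2, symplectic forms live in even dimension -/

set_option autoImplicit false

namespace Cfsg.Agent.Lib.Helper8.S5630CoreF45

open Matrix Cfsg.Geo

variable {F : Type*} [Field F] {n : ℕ}

theorem two_eq_zero_of_not_odd [Fintype F] (ho : ¬ Odd (Fintype.card F)) : (2 : F) = 0 := by
  have h1 : Fintype.card F % 2 = 0 := by
    rcases Nat.even_or_odd (Fintype.card F) with h | h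
    · exact Nat.even_iff.1 h
    · exact absurd h ho
  have h2 : ringChar F = 2 := FiniteField.even_card_iff_char_two.2 h1
  have h3 : ((ringChar F : ℕ) : F) = 0 := ringChar.Nat.cast_ringChar
  rw [h2] at h3
  exact_mod_cast h3

/-- **CORE-F4** in characteristic 2 the polar form of a non-degenerate quadratic form is symplectic -/
theorem isSymplecticForm_polar [Fintype F] (Q : (Fin n → F) → F) (hQ : IsNondegenerateQuadraticForm Q)
    (ho : ¬ Odd (Fintype.card F)) : IsSymplecticForm (QuadraticMap.polar Q) := by
  have h2 : (2 : F) = 0 := two_eq_zero_of_not_odd ho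
  have hneg : ∀ x : F, -x = x := by
    intro x
    have : x + x = 0 := by linear_combination x * h2
    linear_combination -this
  refine ⟨hQ.polar_bilinear, ?_, ?_, hQ.nondegenerate⟩
  · intro v w
    rw [hneg, QuadraticMap.polar_comm]
  · intro v
    unfold QuadraticMap.polar
    have h3 : v + v = (2 : F) • v := (two_smul F v).symm
    rw [h3, hQ.smul]
    linear_combination (Q v) * h2

/-- **CORE-F4'** whoever fixes the quadratic form fixes its polar form -/
theorem fixesForm_polar (S : Set (Matrix (Fin n) (Fin n) F)) (Q : (Fin n → F) → F)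
    (hfix : FixesQuadForm S Q) : FixesForm S (QuadraticMap.polar Q) := by
  intro s hs u v
  unfold QuadraticMap.polar
  rw [← Matrix.mulVec_add, hfix s hs, hfix s hs, hfix s hs]

/-- **CORE-F5** a symplectic form lives in even dimension -/
theorem even_of_isSymplecticForm (f : (Fin n → F) → (Fin n → F) → F) (hf : IsSymplecticForm f) : Even n := by
  let B : (Fin n → F) →ₗ[F] (Fin n → F) →ₗ[F] F :=
    LinearMap.mk₂ F f hf.bilinear.add_left hf.bilinear.smul_left hf.bilinear.add_right hf.bilinear.smul_right
  have hB : ∀ x y, B x y = f x y := fun x y => rfl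
  have h := Cfsg.Agent.Lib.Helper13.even_finrank_sub_radical B (fun x => by rw [hB]; exact hf.alternating x) ⊥
    (by
      intro x
      rw [Submodule.mem_bot]
      constructor
      · rintro rfl y
        exact map_zero (B y)
      · intro hx
        by_contra hx0
        obtain ⟨⟨y, hy⟩, _⟩ := hf.nondegenerate x hx0
        exact hy (hx y))
  rw [finrank_bot, Nat.sub_zero, Module.finrank_fin_fun] at h
  exact h

end Cfsg.Agent.Lib.Helper8.S5630CoreF45
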