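import Mathlib
import Cfsg.Prelude.Def_GeometricClasses
import Cfsg.Agent.Lib.Helper7.AschDefs
import Cfsg.Agent.Lib.Helper7.AschWrap
import Cfsg.Agent.Lib.Helper22.AschC7Defs
import Cfsg.Agent.Lib.Helper8.S5630CoreF45
import Cfsg.Agent.Lib.Helper8.S5630I7E

/-! # S5630 block I7, pieces E4 + E5 (helper8): Gram matrices preserved up to scalars give class 8; tensor-wreath groups
with factors of dimension two lie in a member of class 8 -/

set_option autoImplicit false

namespace Cfsg.Agent.Lib.Helper8.S5630I7E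

open Matrix Cfsg.Geo Cfsg.Agent.Lib.Helper7.Asch Cfsg.Agent.Lib.Helper22.AschC7 Cfsg.Agent.Lib.Helper8.S5630I7A1

variable {F : Type*} [Field F] {n m t : ℕ}

/-- the bilinear form of a Gram matrix -/
def gf (G : Matrix (Fin n) (Fin n) F) (u v : Fin n → F) : F := u ⬝ᵥ (G *ᵥ v)

theorem gf_bilinear (G : Matrix (Fin n) (Fin n) F) : IsBilinearForm (gf G) where
  add_left x y v := by unfold gf; rw [add_dotProduct]
  smul_left c x v := by unfold gf; rw [smul_dotProduct, smul_eq_mul]
  add_right v x y := by unfold gf; rw [Matrix.mulVec_add, dotProduct_add]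
  smul_right c v x := by unfold gf; rw [Matrix.mulVec_smul, dotProduct_smul, smul_eq_mul]

theorem gf_swap (G : Matrix (Fin n) (Fin n) F) (u v : Fin n → F) : gf G u v = gf Gᵀ v u := by
  unfold gf
  rw [Matrix.dotProduct_mulVec, ← Matrix.mulVec_transpose, dotProduct_comm]

theorem gf_nondeg (G : Matrix (Fin n) (Fin n) F) (hG : IsUnit G) : IsNondegenerateForm (gf G) := by
  classical
  have hinj : ∀ M : Matrix (Fin n) (Fin n) F, IsUnit M → ∀ v : Fin n → F, v ≠ 0 → M *ᵥ v ≠ 0 := by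
    intro M hM v hv h0
    apply hv
    have := (Matrix.mulVec_injective_iff_isUnit.2 hM) (by rw [h0, Matrix.mulVec_zero] : M *ᵥ v = M *ᵥ 0)
    exact this
  have key : ∀ M : Matrix (Fin n) (Fin n) F, IsUnit M → ∀ v : Fin n → F, v ≠ 0 → ∃ x, gf M x v ≠ 0 := by
    intro M hM v hv
    have h1 := hinj M hM v hv
    obtain ⟨i, hi⟩ : ∃ i, (M *ᵥ v) i ≠ 0 := by
      by_contra hcon
      push Not at hcon
      exact h1 (funext hcon)
    refine ⟨Pi.single i 1, ?_⟩
    unfold gf
    rw [single_dotProduct, one_mul]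
    exact hi
  intro v hv
  refine ⟨key G hG v hv, ?_⟩
  have hGt : IsUnit Gᵀ := by
    rw [Matrix.isUnit_iff_isUnit_det, Matrix.det_transpose, ← Matrix.isUnit_iff_isUnit_det]
    exact hG
  obtain ⟨x, hx⟩ := key Gᵀ hGt v hv
  exact ⟨x, by rw [gf_swap]; exact hx⟩

theorem gf_mulVec (G h : Matrix (Fin n) (Fin n) F) (u v : Fin n → F) :
    gf G (h *ᵥ u) (h *ᵥ v) = gf (hᵀ * G * h) u v := by
  unfold gf
  rw [← Matrix.mulVec_mulVec, ← Matrix.mulVec_mulVec, Matrix.dotProduct_mulVec u hᵀ, Matrix.vecMul_transpose]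

theorem gf_smul (c : F) (G : Matrix (Fin n) (Fin n) F) (u v : Fin n → F) : gf (c • G) u v = c * gf G u v := by
  unfold gf
  rw [Matrix.smul_mulVec, dotProduct_smul, smul_eq_mul]

/-- **F5a** an invertible alternating Gram matrix preserved up to scalars puts `H` in class 8 (symplectic) -/
theorem inClass_of_gram_alt [Fintype F] (H : Subgroup (GL (Fin n) F)) (G : Matrix (Fin n) (Fin n) F)
    (hG : IsUnit G) (hskew : Gᵀ = -G) (halt : ∀ v : Fin n → F, v ⬝ᵥ (G *ᵥ v) = 0) (he : Even n) (h4 : 4 ≤ n)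
    (hH : ∀ h ∈ H, ∃ c : Fˣ, (h : Matrix (Fin n) (Fin n) F)ᵀ * G * (h : Matrix (Fin n) (Fin n) F) = (c : F) • G) :
    InClass H := by
  have hf : IsSymplecticForm (gf G) := by
    refine ⟨gf_bilinear G, ?_, halt, gf_nondeg G hG⟩
    intro v w
    rw [gf_swap, hskew]
    unfold gf
    rw [Matrix.neg_mulVec, dotProduct_neg]
  refine InClass.of_symplectic H (gf G) hf he h4 ?_
  intro h hh
  obtain ⟨c, hc⟩ := hH h hh
  refine ⟨c, ?_⟩
  intro u v
  rw [gf_mulVec, hc, gf_smul]

/-- **F5b** an invertible symmetric Gram matrix preserved up to scalars, `q` odd, puts `H` in class 8 (orthogonal) -/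
theorem inClass_of_gram_symm [Fintype F] (H : Subgroup (GL (Fin n) F)) (G : Matrix (Fin n) (Fin n) F)
    (hG : IsUnit G) (hsymm : Gᵀ = G) (ho : Odd (Fintype.card F)) (h3 : 3 ≤ n)
    (hH : ∀ h ∈ H, ∃ c : Fˣ, (h : Matrix (Fin n) (Fin n) F)ᵀ * G * (h : Matrix (Fin n) (Fin n) F) = (c : F) • G) :
    InClass H := by
  have h2 : (2 : F) ≠ 0 := by
    intro h2
    have h5 : ¬ Odd (Fintype.card F) → (2 : F) = 0 := Cfsg.Agent.Lib.Helper8.S5630CoreF45.two_eq_zero_of_not_odd
    have h3' : ringChar F = 2 := by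
      have hdvd : ringChar F ∣ 2 := by
        rw [← ringChar.spec F 2]
        exact_mod_cast h2
      have hp : (ringChar F).Prime := CharP.char_is_prime F (ringChar F)
      exact (Nat.prime_dvd_prime_iff_eq hp Nat.prime_two).1 hdvd
    have h4 := FiniteField.even_card_iff_char_two.1 h3'
    rcases ho with ⟨k, hk⟩
    omega
  set Q : (Fin n → F) → F := fun v => gf G v v with hQdef
  have hpolar : QuadraticMap.polar Q = fun u v => 2 * gf G u v := by
    funext u v
    unfold QuadraticMap.polar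
    simp only [hQdef]
    have hb := gf_bilinear G
    rw [hb.add_left, hb.add_right, hb.add_right, gf_swap G v u, hsymm]
    ring
  have hQ : IsNondegenerateQuadraticForm Q := by
    refine ⟨?_, ?_, ?_⟩
    · intro c v
      simp only [hQdef]
      rw [(gf_bilinear G).smul_left, (gf_bilinear G).smul_right]
      ring
    · rw [hpolar]
      have hb := gf_bilinear G
      exact ⟨fun x y v => by rw [hb.add_left]; ring, fun c x v => by rw [hb.smul_left]; ring,
        fun v x y => by rw [hb.add_right]; ring, fun c v x => by rw [hb.smul_right]; ring⟩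
    · rw [hpolar]
      intro v hv
      obtain ⟨⟨x, hx⟩, ⟨y, hy⟩⟩ := gf_nondeg G hG v hv
      exact ⟨⟨x, mul_ne_zero h2 hx⟩, ⟨y, mul_ne_zero h2 hy⟩⟩
  refine InClass.of_quadratic H Q hQ ho h3 ?_
  intro h hh
  obtain ⟨c, hc⟩ := hH h hh
  refine ⟨c, ?_⟩
  intro v
  simp only [hQdef]
  rw [gf_mulVec, hc, gf_smul]

/-- **F6** a subgroup of a tensor-wreath group with factors of dimension two lies in a member of class 8 -/
theorem inClass_of_le_tensorWreath_two [Fintype F] (ht : 2 ≤ t) (H : Subgroup (GL (Fin n) F))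
    (e : Fin n ≃ (Fin t → Fin 2)) (P : GL (Fin n) F) (hH : H ≤ tensorWreathSubgroup 2 t e P) : InClass H := by
  classical
  have hn : n = 2 ^ t := by
    have h1 := Fintype.card_congr e
    rw [Fintype.card_fin, Fintype.card_fun, Fintype.card_fin, Fintype.card_fin] at h1
    exact h1
  have h4 : 4 ≤ n := by
    rw [hn]
    calc 4 = 2 ^ 2 := by norm_num
      _ ≤ 2 ^ t := Nat.pow_le_pow_right (by norm_num) ht
  have he : Even n := by
    rw [hn]
    exact (Nat.even_pow' (by omega)).2 even_two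
  set G₀ : Matrix (Fin t → Fin 2) (Fin t → Fin 2) F := pt (fun _ : Fin t => (J2 : Matrix (Fin 2) (Fin 2) F)) with hG₀
  obtain ⟨hT, hD, hI⟩ := gram_props (F := F) (t := t) (by omega)
  rw [← hG₀] at hT hD hI
  set R : Matrix (Fin t → Fin 2) (Fin t → Fin 2) F ≃ₐ[F] Matrix (Fin n) (Fin n) F :=
    Matrix.reindexAlgEquiv F F e.symm with hR
  have hRT : ∀ A, (R A)ᵀ = R Aᵀ := fun A => rfl
  have hRapp : ∀ A i j, R A i j = A (e i) (e j) := fun A i j => rfl
  set Pi : Matrix (Fin n) (Fin n) F := ((P⁻¹ : GL (Fin n) F) : Matrix (Fin n) (Fin n) F) with hPi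
  have hPiP : Pi * (P : Matrix (Fin n) (Fin n) F) = 1 := by
    rw [hPi, ← Units.val_mul, inv_mul_cancel, Units.val_one]
  set Gn : Matrix (Fin n) (Fin n) F := Piᵀ * R G₀ * Pi with hGn
  -- invertibility
  have hU : IsUnit Gn := by
    have h1 : IsUnit (R G₀) := by
      apply IsUnit.of_mul_eq_one (R (pt (fun _ : Fin t => -(J2 : Matrix (Fin 2) (Fin 2) F))))
      rw [← map_mul, hI, map_one]
    have h2 : IsUnit Pi := (P⁻¹).isUnit
    have h3 : IsUnit Piᵀ := by
      rw [Matrix.isUnit_iff_isUnit_det, Matrix.det_transpose, ← Matrix.isUnit_iff_isUnit_det]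
      exact h2
    exact (h3.mul h1).mul h2
  -- symmetry type
  have hGnT : Gnᵀ = (-1 : F) ^ t • Gn := by
    rw [hGn, Matrix.transpose_mul, Matrix.transpose_mul, Matrix.transpose_transpose, hRT, hT, map_smul,
      Matrix.smul_mul, Matrix.mul_smul, mul_assoc]
  -- preserved up to scalars
  have hpres : ∀ h ∈ H, ∃ c : Fˣ,
      (h : Matrix (Fin n) (Fin n) F)ᵀ * Gn * (h : Matrix (Fin n) (Fin n) F) = (c : F) • Gn := by
    intro h hh
    obtain ⟨g', ⟨g, hg, rfl⟩, rfl⟩ := hH hh
    obtain ⟨c, hc⟩ := gram_std g hg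
    rw [← hG₀] at hc
    refine ⟨c, ?_⟩
    have hval : ((MulAut.conj P).toMonoidHom ((glReindex (F := F) e.symm).toMonoidHom g) : GL (Fin n) F).val =
        (P : Matrix (Fin n) (Fin n) F) * R (g : Matrix (Fin t → Fin 2) (Fin t → Fin 2) F) * Pi := rfl
    rw [hval, hGn]
    set A : Matrix (Fin n) (Fin n) F := R (g : Matrix (Fin t → Fin 2) (Fin t → Fin 2) F) with hA
    have hPT : (P : Matrix (Fin n) (Fin n) F)ᵀ * Piᵀ = 1 := by
      rw [← Matrix.transpose_mul, hPiP, Matrix.transpose_one]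
    calc ((P : Matrix (Fin n) (Fin n) F) * A * Pi)ᵀ * (Piᵀ * R G₀ * Pi) * ((P : Matrix (Fin n) (Fin n) F) * A * Pi)
        = Piᵀ * Aᵀ * ((P : Matrix (Fin n) (Fin n) F)ᵀ * Piᵀ) * R G₀ * (Pi * (P : Matrix (Fin n) (Fin n) F)) * A * Pi := by
          rw [Matrix.transpose_mul, Matrix.transpose_mul]
          simp only [mul_assoc]
      _ = Piᵀ * (Aᵀ * R G₀ * A) * Pi := by
          rw [hPT, hPiP]
          simp only [mul_assoc, mul_one]
      _ = (c : F) • (Piᵀ * R G₀ * Pi) := by
          rw [hA, hRT, ← map_mul, ← map_mul, hc, map_smul, Matrix.mul_smul, Matrix.smul_mul]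
  by_cases hsgn : (-1 : F) ^ t = -1
  · -- alternating
    have hskewR : (R G₀)ᵀ = -(R G₀) := by
      rw [hRT, hT, hsgn, map_smul, neg_one_smul]
    have hskew : Gnᵀ = -Gn := by rw [hGnT, hsgn, neg_one_smul]
    have halt : ∀ v : Fin n → F, v ⬝ᵥ (Gn *ᵥ v) = 0 := by
      intro v
      have h1 : v ⬝ᵥ (Gn *ᵥ v) = gf (R G₀) (Pi *ᵥ v) (Pi *ᵥ v) := by
        rw [gf_mulVec]
        rfl
      rw [h1]
      exact alt_of_skew_diag (R G₀) hskewR (fun i => by rw [hRapp]; exact hD (e i)) _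
    exact inClass_of_gram_alt H Gn hU hskew halt he h4 hpres
  · -- symmetric, odd characteristic
    have hteven : Even t := by
      rcases Nat.even_or_odd t with h | h
      · exact h
      · exact absurd h.neg_one_pow hsgn
    have hsymm : Gnᵀ = Gn := by rw [hGnT, hteven.neg_one_pow, one_smul]
    have ho : Odd (Fintype.card F) := by
      by_contra hno
      have h2 : (2 : F) = 0 := Cfsg.Agent.Lib.Helper8.S5630CoreF45.two_eq_zero_of_not_odd hno
      apply hsgn
      have h1 : (-1 : F) = 1 := by linear_combination -h2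
      rw [hteven.neg_one_pow, h1]
    exact inClass_of_gram_symm H Gn hU hsymm ho (by omega) hpres

end Cfsg.Agent.Lib.Helper8.S5630I7E
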