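import Cfsg.Agent.Lib.Helper8.ChevSt18

set_option autoImplicit false

/-! The centre of the group presented by Steinberg's relations: description by the
`∏ h̄_{p_i}(c_i)`, and detection through an embedding into a larger root system. -/

namespace Cfsg.Agent.Lib.Helper8.Chev

open Cfsg.Lie Matrix

namespace StRep

variable {D : ChevalleyDatum} {K : Type*} [Field K] {Γ : Type*} [Group Γ] {S : StRep D K Γ}

/-- the elements of the kernel are products `∏ h̄_{p_i}(c_i)` with trivial characters -/
theorem R3.mem_ker (hR : S.R3) {g : Γ} (hg : g ∈ S.θ.ker) :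
    ∃ c : ℕ → K, (∀ i, c i ≠ 0) ∧ g = S.prodH c (List.range D.rank) ∧
      ∀ j < D.rank, ∏ i ∈ Finset.range D.rank, c i ^ aco D (D.simple i) (D.simple j) = 1 := by
  have J := validJ_of_mem S.hD
  have hgH := S.ker_le_H0 hg
  rw [MonoidHom.mem_ker] at hg
  obtain ⟨c, hc, rfl⟩ := hR.H0_form hgH
  have hrange : ∀ i ∈ List.range D.rank, i < D.rank := fun i hi => List.mem_range.mp hi
  refine ⟨c, hc, rfl, ?_⟩
  intro j hj
  have hpj := (J.S j hj).1
  have h2 := prodH_conj (S := S) hc hpj 1 hrange
  have h3 : (((List.range D.rank).map fun i => c i ^ aco D (D.simple i) (D.simple j)).prod * 1 : K)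
      = 1 := by
    apply S.x_inj_param hpj
    rw [← h2, map_mul, map_mul, hg, map_inv, hg]
    simp
  rw [mul_one, list_range_prod] at h3
  exact h3

/-- a product `∏ h̄_{p_i}(c_i)` all of whose characters are trivial is central -/
theorem prodH_mem_center {c : ℕ → K} (hc : ∀ i, c i ≠ 0) {l : List ℕ} (hl : ∀ i ∈ l, i < D.rank)
    (h : ∀ s < D.nroots, (l.map fun i => c i ^ aco D (D.simple i) s).prod = 1) :
    S.prodH c l ∈ Subgroup.center Γ := by
  rw [Subgroup.mem_center_iff]
  have key : (⊤ : Subgroup Γ) ≤ Subgroup.centralizer {S.prodH c l} := by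
    rw [← S.gen, Subgroup.closure_le]
    rintro g ⟨s, hs, u, rfl⟩
    rw [SetLike.mem_coe, Subgroup.mem_centralizer_iff]
    intro z hz
    rw [Set.mem_singleton_iff] at hz
    subst hz
    have := prodH_conj (S := S) hc hs u hl
    rw [h s hs, one_mul] at this
    exact mul_inv_eq_iff_eq_mul.mp this
  intro g
  have hg : g ∈ Subgroup.centralizer {S.prodH c l} := key (Subgroup.mem_top g)
  rw [Subgroup.mem_centralizer_iff] at hg
  exact (hg _ rfl).symm

end StRep

section St

variable {D : ChevalleyDatum} {K : Type*} [Field K]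

/-- the presented group as a group with root elements -/
noncomputable def stS (hD : D ∈ [chevG2, chevB2, chevD4, chevF4, chevE6, chevE7, chevE8])
    (K : Type*) [Field K] : StRep D K (D.SteinbergGroup K) :=
  stRepOf hD (stHom hD K) (fun r t hr => stHom_stGen hD r t hr)

theorem stS_x (hD : D ∈ [chevG2, chevB2, chevD4, chevF4, chevE6, chevE7, chevE8]) (r : ℕ) (t : K) :
    (stS hD K).x r t = D.stGen K r t := rfl

theorem stS_R3 (hD : D ∈ [chevG2, chevB2, chevD4, chevF4, chevE6, chevE7, chevE8]) :
    (stS hD K).R3 :=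
  stRepOf_R3 hD _ _

theorem stS_ker (hD : D ∈ [chevG2, chevB2, chevD4, chevF4, chevE6, chevE7, chevE8]) :
    (stS hD K).θ.ker = Subgroup.center (D.SteinbergGroup K) := by
  unfold stS
  rw [stRepOf_ker, stHom_ker]

theorem stS_h (hD : D ∈ [chevG2, chevB2, chevD4, chevF4, chevE6, chevE7, chevE8]) (r : ℕ) (t : K) :
    (stS hD K).h r t = PresentedGroup.mk (D.steinbergRels K) (D.stH r t) := by
  rw [StRep.h_eq_wS]
  unfold ChevalleyDatum.stH
  rw [mk_stWord]
  rfl

/-- the relation (R3) for every root -/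
theorem stS_h_mul (hD : D ∈ [chevG2, chevB2, chevD4, chevF4, chevE6, chevE7, chevE8]) {r : ℕ}
    (hr : r < D.nroots) {c d : K} (hc : c ≠ 0) (hd : d ≠ 0) :
    (stS hD K).h r c * (stS hD K).h r d = (stS hD K).h r (c * d) := by
  have h : D.stH r c * D.stH r d * (D.stH r (c * d))⁻¹ ∈ D.steinbergRels K :=
    Or.inr ⟨r, c, d, hr, hc, hd, rfl⟩
  have := PresentedGroup.one_of_mem h
  rw [map_mul, map_mul, map_inv, mul_inv_eq_one] at this
  rw [stS_h, stS_h, stS_h]
  exact this

end St

section Detect

variable {D D' : ChevalleyDatum} {ι : ℕ → ℕ} {K : Type*} [Field K]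

/-- the image of a product `∏ h̄_{p_i}(c_i)` under the homomorphism induced by an embedding -/
theorem embHom_prodH (h : EmbOK D D' ι)
    (hD : D ∈ [chevG2, chevB2, chevD4, chevF4, chevE6, chevE7, chevE8])
    (hD' : D' ∈ [chevG2, chevB2, chevD4, chevF4, chevE6, chevE7, chevE8]) (c : ℕ → K) :
    ∀ {l : List ℕ}, (∀ i ∈ l, i < D.rank) →
      embHom h (stS hD' K) (fun _ hr _ _ hc hd => stS_h_mul hD' hr hc hd)
        ((stS hD K).prodH c l) = (stS hD' K).prodH c l := by
  have J := validJ_of_mem hD
  intro l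
  induction l with
  | nil => intro _; simp [StRep.prodH_nil]
  | cons i l ih =>
    intro hl
    have hi := hl i List.mem_cons_self
    rw [StRep.prodH_cons, StRep.prodH_cons, map_mul, ih fun j hj => hl j (List.mem_cons_of_mem _ hj),
      stS_h, embHom_stH h _ _ (J.S i hi).1, h.simple i hi]

/-- detection: equal products of the `h̄_{p_i}(c_i)` have equal characters on the roots of the
larger root system -/
theorem prodH_detect (h : EmbOK D D' ι)
    (hD : D ∈ [chevG2, chevB2, chevD4, chevF4, chevE6, chevE7, chevE8])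
    (hD' : D' ∈ [chevG2, chevB2, chevD4, chevF4, chevE6, chevE7, chevE8]) {c c' : ℕ → K}
    (hc : ∀ i, c i ≠ 0) (hc' : ∀ i, c' i ≠ 0)
    (e : (stS hD K).prodH c (List.range D.rank) = (stS hD K).prodH c' (List.range D.rank))
    {s : ℕ} (hs : s < D'.nroots) :
    ((List.range D.rank).map fun i => c i ^ aco D' (D'.simple i) s).prod =
      ((List.range D.rank).map fun i => c' i ^ aco D' (D'.simple i) s).prod := by
  have hrange : ∀ i ∈ List.range D.rank, i < D.rank := fun i hi => List.mem_range.mp hi
  have hrange' : ∀ i ∈ List.range D.rank, i < D'.rank :=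
    fun i hi => lt_of_lt_of_le (List.mem_range.mp hi) h.rank_le
  have e' := congrArg (embHom h (stS hD' K) (fun _ hr _ _ hc hd => stS_h_mul hD' hr hc hd)) e
  rw [embHom_prodH h hD hD' c hrange, embHom_prodH h hD hD' c' hrange] at e'
  have h1 := StRep.prodH_conj (S := stS hD' K) hc hs 1 hrange'
  have h2 := StRep.prodH_conj (S := stS hD' K) hc' hs 1 hrange'
  rw [e', h2, mul_one, mul_one] at h1
  have := (stS hD' K).x_inj_param hs (congrArg (stS hD' K).θ h1)
  exact this.symm

end Detect

end Cfsg.Agent.Lib.Helper8.Chev
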