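import Cfsg.Agent.Lib.Helper8.ChevSt19
import Cfsg.Agent.Lib.Helper8.ChevSt20

set_option autoImplicit false

/-! The order of the centre of the group presented by Steinberg's relations, for a root system
embedded in a larger one with unimodular Cartan matrix. -/

namespace Cfsg.Agent.Lib.Helper8.Chev

open Cfsg.Lie Matrix

section comb

variable {K : Type*} [Field K]

theorem prod_zpow_zpow {ζ : K} (hζ : ζ ≠ 0) (e a : ℕ → ℤ) (n : ℕ) :
    ((List.range n).map fun i => (ζ ^ e i) ^ a i).prod = ζ ^ ∑ i ∈ Finset.range n, e i * a i := by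
  rw [list_range_prod, ← prod_zpow_sum₀ hζ]
  apply Finset.prod_congr rfl
  intro i _
  rw [_root_.zpow_mul]

/-- integral combinations of the character relations -/
theorem char_comb {c : ℕ → K} (hc : ∀ i, c i ≠ 0) (n : ℕ) (A : ℕ → ℕ → ℤ)
    (hchar : ∀ j < n, ∏ i ∈ Finset.range n, c i ^ A i j = 1) (v : ℕ → ℤ) :
    ∏ i ∈ Finset.range n, c i ^ (∑ j ∈ Finset.range n, A i j * v j) = 1 := by
  have e1 : ∏ j ∈ Finset.range n, (∏ i ∈ Finset.range n, c i ^ A i j) ^ v j = 1 := by
    apply Finset.prod_eq_one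
    intro j hj
    rw [hchar j (Finset.mem_range.mp hj), _root_.one_zpow]
  have e2 : ∏ j ∈ Finset.range n, (∏ i ∈ Finset.range n, c i ^ A i j) ^ v j =
      ∏ i ∈ Finset.range n, c i ^ (∑ j ∈ Finset.range n, A i j * v j) := by
    have : ∀ j ∈ Finset.range n, (∏ i ∈ Finset.range n, c i ^ A i j) ^ v j =
        ∏ i ∈ Finset.range n, c i ^ (A i j * v j) := by
      intro j _
      rw [← Finset.prod_zpow]
      apply Finset.prod_congr rfl
      intro i _
      rw [_root_.zpow_mul]
    rw [Finset.prod_congr rfl this, Finset.prod_comm]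
    apply Finset.prod_congr rfl
    intro i _
    rw [prod_zpow_sum₀ (hc i)]
  rw [← e2, e1]

/-- evaluating a product of two "delta" exponents -/
theorem prod_delta {c : ℕ → K} (hc : ∀ i, c i ≠ 0) {n i i₀ : ℕ} (hi : i < n) (hi₀ : i₀ < n)
    (a : ℤ) :
    ∏ k ∈ Finset.range n, c k ^ ((if k = i then (1 : ℤ) else 0) - a * (if k = i₀ then 1 else 0)) =
      c i * (c i₀ ^ a)⁻¹ := by
  have h1 : ∀ k ∈ Finset.range n,
      c k ^ ((if k = i then (1 : ℤ) else 0) - a * (if k = i₀ then 1 else 0)) =
      c k ^ (if k = i then (1 : ℤ) else 0) * (c k ^ (a * (if k = i₀ then 1 else 0)))⁻¹ := by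
    intro k _
    rw [zpow_sub₀ (hc k), div_eq_mul_inv]
  rw [Finset.prod_congr rfl h1, Finset.prod_mul_distrib, Finset.prod_inv_distrib]
  congr 1
  · rw [Finset.prod_eq_single i]
    · rw [if_pos rfl, _root_.zpow_one]
    · intro k _ hk
      rw [if_neg hk, _root_.zpow_zero]
    · intro h
      exact absurd (Finset.mem_range.mpr hi) h
  · congr 1
    rw [Finset.prod_eq_single i₀]
    · rw [if_pos rfl, mul_one]
    · intro k _ hk
      rw [if_neg hk, mul_zero, _root_.zpow_zero]
    · intro h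
      exact absurd (Finset.mem_range.mpr hi₀) h

theorem prod_delta' {c : ℕ → K} {n i₀ : ℕ} (hi₀ : i₀ < n) (a : ℤ) :
    ∏ k ∈ Finset.range n, c k ^ (a * (if k = i₀ then (1 : ℤ) else 0)) = c i₀ ^ a := by
  rw [Finset.prod_eq_single i₀]
  · rw [if_pos rfl, mul_one]
  · intro k _ hk
    rw [if_neg hk, mul_zero, _root_.zpow_zero]
  · intro h
    exact absurd (Finset.mem_range.mpr hi₀) h

end comb

/-- the numerical data: `e` the exponents of the central elements `∏ h̄_{p_i}(ζ^{e_i})`, `ζⁿ = 1`;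
`V`, `vn` certificates that every solution of the character equations has this form with
`ζ = c_{i₀}`; `s'` a root of the larger system detecting `ζ`. -/
def checkCenter (D D' : ChevalleyDatum) (n : ℕ) (e : List ℤ) (i₀ : ℕ) (V : List (List ℤ))
    (vn : List ℤ) (s' : ℕ) (k l : ℤ) : Bool :=
  ((List.range D.nroots).all fun s =>
    decide ((n : ℤ) ∣ ∑ i ∈ Finset.range D.rank, e.getD i 0 * aco D (D.simple i) s)) &&
  ((List.range D.rank).all fun i => (List.range D.rank).all fun k' =>
    decide (∑ j ∈ Finset.range D.rank,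
        aco D (D.simple k') (D.simple j) * (V.getD i []).getD j 0 =
      (if k' = i then 1 else 0) - e.getD i 0 * (if k' = i₀ then 1 else 0))) &&
  ((List.range D.rank).all fun k' =>
    decide (∑ j ∈ Finset.range D.rank, aco D (D.simple k') (D.simple j) * vn.getD j 0 =
      (n : ℤ) * (if k' = i₀ then 1 else 0))) &&
  decide (i₀ < D.rank) && decide (s' < D'.nroots) && decide (0 < n) &&
  decide ((∑ i ∈ Finset.range D.rank, e.getD i 0 * aco D' (D'.simple i) s') * k + (n : ℤ) * l = 1)

theorem center_card {D D' : ChevalleyDatum} {ι : ℕ → ℕ} {K : Type*} [Field K] [Fintype K]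
    (hD : D ∈ [chevG2, chevB2, chevD4, chevF4, chevE6, chevE7, chevE8])
    (hD' : D' ∈ [chevG2, chevB2, chevD4, chevF4, chevE6, chevE7, chevE8])
    (hemb : EmbOK D D' ι) {n : ℕ} {e : List ℤ} {i₀ : ℕ} {V : List (List ℤ)} {vn : List ℤ} {s' : ℕ}
    {k l : ℤ} (hchk : checkCenter D D' n e i₀ V vn s' k l = true) :
    Nat.card (Subgroup.center (D.SteinbergGroup K)) = Nat.gcd n (Fintype.card K - 1) := by
  classical
  unfold checkCenter at hchk
  simp only [Bool.and_eq_true, List.all_eq_true, List.mem_range, decide_eq_true_eq] at hchk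
  obtain ⟨⟨⟨⟨⟨⟨h1, h2⟩, h3⟩, hi₀⟩, hs'⟩, hn⟩, h4⟩ := hchk
  have hrange : ∀ i ∈ List.range D.rank, i < D.rank := fun i hi => List.mem_range.mp hi
  -- the candidate central elements
  have hcζ : ∀ (ζ : Kˣ) (i : ℕ), ((ζ : K) ^ e.getD i 0) ≠ 0 :=
    fun ζ i => _root_.zpow_ne_zero _ ζ.ne_zero
  have hcent : ∀ ζ : Kˣ, ζ ^ n = 1 →
      (stS hD K).prodH (fun i => (ζ : K) ^ e.getD i 0) (List.range D.rank) ∈
        Subgroup.center (D.SteinbergGroup K) := by
    intro ζ hζ
    apply StRep.prodH_mem_center (hcζ ζ) hrange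
    intro s hs
    rw [prod_zpow_zpow ζ.ne_zero]
    obtain ⟨m, hm⟩ := h1 s hs
    rw [hm, _root_.zpow_mul, _root_.zpow_natCast]
    have : ((ζ : K)) ^ n = 1 := by
      rw [← Units.val_pow_eq_pow_val, hζ, Units.val_one]
    rw [this, _root_.one_zpow]
  -- the bijection
  let f : ↥(powMonoidHom n : Kˣ →* Kˣ).ker → ↥(Subgroup.center (D.SteinbergGroup K)) :=
    fun ζ => ⟨(stS hD K).prodH (fun i => ((ζ : Kˣ) : K) ^ e.getD i 0) (List.range D.rank),
      hcent ζ.1 (by have := ζ.2; rwa [MonoidHom.mem_ker, powMonoidHom_apply] at this)⟩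
  have hf : Function.Bijective f := by
    constructor
    · intro ζ ζ' hζζ'
      have e0 : (stS hD K).prodH (fun i => ((ζ : Kˣ) : K) ^ e.getD i 0) (List.range D.rank) =
          (stS hD K).prodH (fun i => ((ζ' : Kˣ) : K) ^ e.getD i 0) (List.range D.rank) :=
        congrArg Subtype.val hζζ'
      have e1 := prodH_detect hemb hD hD' (hcζ ζ.1) (hcζ ζ'.1) e0 hs'
      rw [prod_zpow_zpow ζ.1.ne_zero, prod_zpow_zpow ζ'.1.ne_zero] at e1
      have hζ : ((ζ : Kˣ) : K) ^ n = 1 := by
        have := ζ.2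
        rw [MonoidHom.mem_ker, powMonoidHom_apply] at this
        rw [← Units.val_pow_eq_pow_val, this, Units.val_one]
      have hζ' : ((ζ' : Kˣ) : K) ^ n = 1 := by
        have := ζ'.2
        rw [MonoidHom.mem_ker, powMonoidHom_apply] at this
        rw [← Units.val_pow_eq_pow_val, this, Units.val_one]
      have key : ∀ z : K, z ≠ 0 → z ^ n = 1 →
          z = (z ^ ∑ i ∈ Finset.range D.rank, e.getD i 0 * aco D' (D'.simple i) s') ^ k := by
        intro z hz hzn
        have : z ^ (1 : ℤ) = z := _root_.zpow_one z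
        rw [← _root_.zpow_mul]
        conv_lhs => rw [← this, ← h4, zpow_add₀ hz, _root_.zpow_mul z (n : ℤ) l, _root_.zpow_natCast, hzn,
          _root_.one_zpow, mul_one]
      apply Subtype.ext
      apply Units.ext
      rw [key _ ζ.1.ne_zero hζ, key _ ζ'.1.ne_zero hζ', e1]
    · rintro ⟨z, hz⟩
      have hzk : z ∈ (stS hD K).θ.ker := by rw [stS_ker]; exact hz
      obtain ⟨c, hc, rfl, hchar⟩ := (stS_R3 hD).mem_ker hzk
      -- `ζ = c_{i₀}`
      have hζn : c i₀ ^ n = 1 := by
        have := char_comb hc D.rank (fun i j => aco D (D.simple i) (D.simple j)) hchar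
          (fun j => vn.getD j 0)
        rw [Finset.prod_congr rfl (fun k' hk' => by rw [h3 k' (Finset.mem_range.mp hk')]),
          prod_delta' hi₀, _root_.zpow_natCast] at this
        exact this
      have hci : ∀ i < D.rank, c i = c i₀ ^ e.getD i 0 := by
        intro i hi
        have := char_comb hc D.rank (fun i j => aco D (D.simple i) (D.simple j)) hchar
          (fun j => (V.getD i []).getD j 0)
        rw [Finset.prod_congr rfl (fun k' hk' => by rw [h2 i hi k' (Finset.mem_range.mp hk')]),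
          prod_delta hc hi hi₀] at this
        exact mul_inv_eq_one₀ (_root_.zpow_ne_zero _ (hc i₀)) |>.mp this
      have hmem : Units.mk0 (c i₀) (hc i₀) ∈ (powMonoidHom n : Kˣ →* Kˣ).ker := by
        rw [MonoidHom.mem_ker, powMonoidHom_apply]
        apply Units.ext
        rw [Units.val_pow_eq_pow_val, Units.val_mk0, hζn, Units.val_one]
      refine ⟨⟨Units.mk0 (c i₀) (hc i₀), hmem⟩, ?_⟩
      apply Subtype.ext
      show (stS hD K).prodH (fun i => c i₀ ^ e.getD i 0) (List.range D.rank) = _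
      apply StRep.prodH_congr
      intro i hi
      exact (hci i (hrange i hi)).symm
  rw [← Nat.card_congr (Equiv.ofBijective f hf), IsCyclic.card_powMonoidHom_ker,
    Nat.card_eq_fintype_card, Fintype.card_units, Nat.gcd_comm]

end Cfsg.Agent.Lib.Helper8.Chev
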