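import Cfsg.Agent.Lib.Helper8.ChevSt19
import Cfsg.Agent.Lib.Helper8.ChevSt21

set_option autoImplicit false

/-! The centres of the groups presented by Steinberg's relations of types `E₆` and `E₇` over a
finite field. -/

namespace Cfsg.Agent.Lib.Helper8.Chev

open Cfsg.Lie Matrix

theorem checkCenter_E6 :
    checkCenter chevE6 chevE8 3 [1, 0, 2, 0, 1, 2] 0
      [[0, 0, 0, 0, 0, 0], [1, 2, 2, 3, 2, 1], [-1, 0, 0, 0, 0, 0], [2, 3, 4, 6, 4, 2],
        [0, 1, 1, 2, 2, 1], [-2, -1, -2, -2, -1, 0]]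
      [4, 3, 5, 6, 4, 2] (chevE8.simple 6) 1 1 = true := by decide +kernel

theorem checkCenter_E7 :
    checkCenter chevE7 chevE8 2 [0, 1, 0, 0, 1, 0, 1] 1
      [[2, 2, 3, 4, 3, 2, 1], [0, 0, 0, 0, 0, 0, 0], [3, 4, 6, 8, 6, 4, 2], [4, 6, 8, 12, 9, 6, 3],
        [1, 1, 2, 3, 3, 2, 1], [2, 3, 4, 6, 5, 4, 2], [-1, -2, -2, -3, -2, -1, 0]]
      [4, 7, 8, 12, 9, 6, 3] (chevE8.simple 7) (-1) 0 = true := by decide +kernel

theorem center_card_E6 {K : Type*} [Field K] [Fintype K] :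
    Nat.card (Subgroup.center (chevE6.SteinbergGroup K)) = Nat.gcd 3 (Fintype.card K - 1) :=
  center_card (by simp) (by simp) embOK_E6 checkCenter_E6

theorem center_card_E7 {K : Type*} [Field K] [Fintype K] :
    Nat.card (Subgroup.center (chevE7.SteinbergGroup K)) = Nat.gcd 2 (Fintype.card K - 1) :=
  center_card (by simp) (by simp) embOK_E7 checkCenter_E7

end Cfsg.Agent.Lib.Helper8.Chev
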