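import Mathlib

set_option autoImplicit false

namespace Cfsg.Agent.Lib.Helper8.Chev

/-! ### Root groups of Suzuki type and the two-generation trick -/

section

variable {G : Type*} [Group G] {K : Type*} [Field K]

/-- a two-parameter family with the group law of a root group of Suzuki type -/
def SuzLaw (θ : K →+* K) (X : K → K → G) : Prop :=
  ∀ t u t' u', X t u * X t' u' = X (t + t') (u + u' + θ t * t')

namespace SuzLaw

variable {θ : K →+* K} {X : K → K → G}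

theorem one (hX : SuzLaw θ X) : X 0 0 = 1 := by
  have := hX 0 0 0 0
  simp only [add_zero, map_zero, mul_zero] at this
  exact mul_eq_left.mp this

theorem inv (hX : SuzLaw θ X) (t u : K) : (X t u)⁻¹ = X (-t) (θ t * t - u) := by
  rw [inv_eq_iff_mul_eq_one, hX]
  have e1 : t + -t = 0 := by ring
  have e2 : u + (θ t * t - u) + θ t * -t = 0 := by ring
  rw [e1, e2, hX.one]

theorem conj_pow {h : G} {μ ν : K} (hh : ∀ t u, h * X t u * h⁻¹ = X (μ * t) (ν * u))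
    (j : ℕ) (t u : K) : h ^ j * X t u * (h ^ j)⁻¹ = X (μ ^ j * t) (ν ^ j * u) := by
  induction j generalizing t u with
  | zero => simp
  | succ j ih =>
    have e : h ^ (j + 1) * X t u * (h ^ (j + 1))⁻¹ = h ^ j * (h * X t u * h⁻¹) * (h ^ j)⁻¹ := by
      rw [pow_succ]
      group
    rw [e, hh, ih, pow_succ, pow_succ, mul_assoc, mul_assoc]

/-- a torus-stable subgroup meeting a Suzuki-type root group outside its centre contains it -/
theorem all_mem (hX : SuzLaw θ X) {h : G} {μ ν : K}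
    (hh : ∀ t u, h * X t u * h⁻¹ = X (μ * t) (ν * u))
    (hgμ : ∀ t : K, t ≠ 0 → ∃ j : ℕ, t = μ ^ j) (hgν : ∀ t : K, t ≠ 0 → ∃ j : ℕ, t = ν ^ j)
    (hθ : ∃ t, θ t ≠ t) (L : Subgroup G) (hhL : h ∈ L) {t₁ u₁ : K} (ht₁ : t₁ ≠ 0)
    (h1 : X t₁ u₁ ∈ L) : ∀ t u, X t u ∈ L := by
  have hconjL : ∀ (j : ℕ) (g : G), g ∈ L → h ^ j * g * (h ^ j)⁻¹ ∈ L := fun j g hg =>
    mul_mem (mul_mem (pow_mem hhL j) hg) (inv_mem (pow_mem hhL j))
  -- first coordinates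
  have hT : ∀ t : K, ∃ u, X t u ∈ L := by
    intro t
    by_cases ht : t = 0
    · exact ⟨0, by rw [ht, hX.one]; exact one_mem _⟩
    · obtain ⟨j, hj⟩ := hgμ (t / t₁) (div_ne_zero ht ht₁)
      refine ⟨ν ^ j * u₁, ?_⟩
      have : t = μ ^ j * t₁ := by rw [← hj, div_mul_cancel₀ _ ht₁]
      rw [this, ← conj_pow hh]
      exact hconjL j _ h1
  -- the centre
  have hZ : ∀ u : K, X 0 u ∈ L := by
    obtain ⟨t, ht⟩ := hθ
    obtain ⟨u, hu⟩ := hT t
    obtain ⟨u', hu'⟩ := hT 1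
    have hw : X 0 (θ t - t) ∈ L := by
      have e : X 0 (θ t - t) = (X 1 u' * X t u)⁻¹ * (X t u * X 1 u') := by
        rw [hX, hX, hX.inv, hX]
        congr 1
        · ring
        · simp only [map_add, map_one, map_neg]
          ring
      rw [e]
      exact mul_mem (inv_mem (mul_mem hu' hu)) (mul_mem hu hu')
    have hw0 : θ t - t ≠ 0 := sub_ne_zero.mpr ht
    intro v
    by_cases hv : v = 0
    · rw [hv, hX.one]; exact one_mem _
    · obtain ⟨j, hj⟩ := hgν (v / (θ t - t)) (div_ne_zero hv hw0)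
      have : v = ν ^ j * (θ t - t) := by rw [← hj, div_mul_cancel₀ _ hw0]
      have e := conj_pow hh j 0 (θ t - t)
      rw [mul_zero] at e
      rw [this, ← e]
      exact hconjL j _ hw
  intro t u
  obtain ⟨u₀, hu₀⟩ := hT t
  have e : X t u = X t u₀ * X 0 (u - u₀) := by
    rw [hX]
    congr 1
    · ring
    · ring
  rw [e]
  exact mul_mem hu₀ (hZ _)

/-- the two-generation trick for a root group of Suzuki type -/
theorem two_gen {X' : K → K → G} (hX : SuzLaw θ X) (hX' : SuzLaw θ X') {h c : G}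
    {α β μ ν : K} (hc : ∀ t u, c * X t u * c⁻¹ = X' t u)
    (hh : ∀ t u, h * X t u * h⁻¹ = X (α * t) (β * u))
    (hh' : ∀ t u, h * X' t u * h⁻¹ = X' (μ * t) (ν * u))
    (hcomm : h * (c * h * c⁻¹) = (c * h * c⁻¹) * h)
    (hα : α ≠ 1) (hμ : μ ≠ 1)
    (hgμ : ∀ t : K, t ≠ 0 → ∃ j : ℕ, t = μ ^ j) (hgν : ∀ t : K, t ≠ 0 → ∃ j : ℕ, t = ν ^ j)
    (hθ : ∃ t, θ t ≠ t) (L : Subgroup G) (hhL : h ∈ L) (hyL : c * X 1 0 ∈ L) :
    c ∈ L ∧ (∀ t u, X t u ∈ L) ∧ ∀ t u, X' t u ∈ L := by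
  -- `x h x⁻¹ = X(1 - α, w) h`
  obtain ⟨w, hw⟩ : ∃ w, X 1 0 * h * (X 1 0)⁻¹ = X (1 - α) w * h := by
    have e1 : h * (X 1 0)⁻¹ = (X (α * 1) (β * 0))⁻¹ * h := by
      rw [← hh]
      group
    rw [mul_assoc, e1, ← mul_assoc, hX.inv, hX]
    exact ⟨_, by congr 2; ring⟩
  have hb1 : (c * X 1 0) * h * (c * X 1 0)⁻¹ = X' (1 - α) w * (c * h * c⁻¹) := by
    have e3 : (c * X 1 0) * h * (c * X 1 0)⁻¹ = c * (X 1 0 * h * (X 1 0)⁻¹) * c⁻¹ := by group
    rw [e3, hw, ← hc]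
    group
  have hb1L : X' (1 - α) w * (c * h * c⁻¹) ∈ L := by
    rw [← hb1]
    exact mul_mem (mul_mem hyL hhL) (inv_mem hyL)
  obtain ⟨w', hw'⟩ : ∃ w', h * (X' (1 - α) w * (c * h * c⁻¹)) * h⁻¹ *
      (X' (1 - α) w * (c * h * c⁻¹))⁻¹ = X' ((μ - 1) * (1 - α)) w' := by
    have e1 : h * (X' (1 - α) w * (c * h * c⁻¹)) * h⁻¹ =
        (h * X' (1 - α) w * h⁻¹) * (h * (c * h * c⁻¹)) * h⁻¹ := by group
    rw [e1, hh', hcomm, mul_inv_rev]
    have e2 : X' (μ * (1 - α)) (ν * w) * (c * h * c⁻¹ * h) * h⁻¹ *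
        ((c * h * c⁻¹)⁻¹ * (X' (1 - α) w)⁻¹) = X' (μ * (1 - α)) (ν * w) * (X' (1 - α) w)⁻¹ := by
      group
    rw [e2, hX'.inv, hX']
    exact ⟨_, by congr 1; ring⟩
  have ht1 : (μ - 1) * (1 - α) ≠ 0 :=
    mul_ne_zero (sub_ne_zero.mpr hμ) (sub_ne_zero.mpr (Ne.symm hα))
  have hzL : X' ((μ - 1) * (1 - α)) w' ∈ L := by
    rw [← hw']
    exact mul_mem (mul_mem (mul_mem hhL hb1L) (inv_mem hhL)) (inv_mem hb1L)
  have hall' : ∀ t u, X' t u ∈ L := hX'.all_mem hh' hgμ hgν hθ L hhL ht1 hzL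
  have hall : ∀ t u, X t u ∈ L := by
    intro t u
    obtain ⟨t', u', e'⟩ : ∃ t' u', X 1 0 * X t u * (X 1 0)⁻¹ = X t' u' := by
      rw [hX.inv, hX, hX]
      exact ⟨_, _, rfl⟩
    have e : X t u = (c * X 1 0)⁻¹ * X' t' u' * (c * X 1 0) := by
      rw [← hc, ← e']
      group
    rw [e]
    exact mul_mem (mul_mem (inv_mem hyL) (hall' _ _)) hyL
  refine ⟨?_, hall, hall'⟩
  have : c = (c * X 1 0) * (X 1 0)⁻¹ := by group
  rw [this]
  exact mul_mem hyL (inv_mem (hall 1 0))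

end SuzLaw

end

end Cfsg.Agent.Lib.Helper8.Chev
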