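import Cfsg.Agent.Lib.Helper8.ChevTh4

set_option autoImplicit false
set_option linter.unusedSimpArgs false
set_option linter.unusedSectionVars false
set_option linter.unnecessarySeqFocus false

namespace Cfsg.Agent.Lib.Helper8.Chev

open Cfsg.Lie Matrix

namespace RF

/-! ### `²F₄(q)` is generated by two elements -/

section

variable {K : Type*} [Field K]

theorem getD_lt_Bm : ∀ i : ℕ, [22, 20, 19, 17].getD i 0 < 48 := by
  intro i
  rcases i with _ | _ | _ | _ | i <;> simp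

theorem coe_yG_Bm (i : ℕ) (c : K) :
    ((yG K [22, 20, 19, 17] i c : GL chevF4.Idx K) : Matrix chevF4.Idx chevF4.Idx K) =
      yBm K i c := coe_XD hDF4 (getD_lt_Bm i) c

variable [CharP K 2]

/-- the negative class words in normal form -/
theorem coe_N4G_Bm (m : ℕ) (t u : K) :
    ((N4G [22, 20, 19, 17] t (t ^ 2 ^ m) u (t * (t ^ 2 ^ m) ^ 2 + u ^ (2 * 2 ^ m)) :
      GL chevF4.Idx K) : Matrix chevF4.Idx chevF4.Idx K) =
      chevF4.wordMat K (b2ClassWord (2 ^ m) 20 22 19 17 t u) := by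
  have hR := b2Rel_neg (K := K)
  rw [clsWordBm_mat, hR.word_eq_N4]
  have e5 : t * t ^ 2 ^ m + (t ^ (2 ^ m + 1) + u) = u := by
    rw [pow_succ, mul_comm t, ← add_assoc, add_self', zero_add]
  rw [e5]
  unfold N4G B2Rel.N4
  simp only [Units.val_mul, coe_yG_Bm]

variable [Fintype K]

theorem twF4_two_gen {m : ℕ} (hm : 1 ≤ m) (hK : Fintype.card K = 2 ^ (2 * m + 1)) :
    ∃ a b : ↥(twistedF4 K (2 ^ m)),
      Subgroup.closure ({a, b} : Set ↥(twistedF4 K (2 ^ m))) = ⊤ := by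
  classical
  have : Fact (Nat.Prime 2) := ⟨Nat.prime_two⟩
  obtain ⟨σ, X⟩ := exists_xEnd_F4 hK m
  let θ : K →+* K := iterateFrobenius K 2 m
  have hθ : ∀ t, θ t = t ^ 2 ^ m := fun t => iterateFrobenius_def 2 m t
  obtain ⟨l, hl⟩ := IsCyclic.exists_generator (α := Kˣ)
  have hord : orderOf l = 2 ^ (2 * m + 1) - 1 := by
    rw [orderOf_eq_card_of_forall_mem_zpowers hl, Nat.card_eq_fintype_card, Fintype.card_units, hK]
  have hθ1 : 2 ≤ 2 ^ m := by
    calc 2 = 2 ^ 1 := by norm_num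
      _ ≤ 2 ^ m := Nat.pow_le_pow_right (by norm_num) hm
  have hq : 2 ^ (2 * m + 1) = 2 * (2 ^ m * 2 ^ m) := by
    rw [pow_succ, two_mul, pow_add]
    ring
  -- the torus parameter
  set a : Kˣ := l ^ (2 * 2 ^ m - 2) with ha
  have hlK : (l : K) ^ (2 * (2 ^ m * 2 ^ m)) = l := by
    rw [← hq, ← hK, FiniteField.pow_card]
  have hl0 : (l : K) ≠ 0 := Units.ne_zero l
  have hν : (a : K)⁻¹ * ((a : K)⁻¹) ^ 2 ^ m = (l : K) := by
    have e1 : (a : K) * (a : K) ^ 2 ^ m = (l : K) ^ (2 * (2 ^ m * 2 ^ m) - 2) := by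
      rw [ha, Units.val_pow_eq_pow_val, ← pow_mul, ← pow_add]
      congr 1
      have : 2 * 2 ^ m - 2 + (2 * 2 ^ m - 2) * 2 ^ m = (2 * 2 ^ m - 2) * (2 ^ m + 1) := by ring
      rw [this]
      obtain ⟨k, hk⟩ : ∃ k, 2 ^ m = k + 2 := ⟨2 ^ m - 2, by omega⟩
      rw [hk]
      have e : 2 * (k + 2) - 2 = 2 * k + 2 := by omega
      rw [e]
      have e' : 2 * ((k + 2) * (k + 2)) - 2 = 2 * k * k + 8 * k + 6 := by
        have : 2 * ((k + 2) * (k + 2)) = 2 * k * k + 8 * k + 6 + 2 := by ring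
        omega
      rw [e']
      ring
    have e2 : (l : K) ^ (2 * (2 ^ m * 2 ^ m) - 2) * (l : K) ^ 2 = l := by
      rw [← pow_add, Nat.sub_add_cancel, hlK]
      nlinarith
    have e3 : (l : K) ^ (2 * (2 ^ m * 2 ^ m) - 2) = (l : K)⁻¹ := by
      have : (l : K) ^ (2 * (2 ^ m * 2 ^ m) - 2) * (l : K) = 1 := by
        have h3 : (l : K) ^ (2 * (2 ^ m * 2 ^ m) - 2) * (l : K) ^ 2 = 1 * (l : K) := by
          rw [e2, one_mul]
        rw [sq, ← mul_assoc] at h3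
        exact mul_right_cancel₀ hl0 h3
      exact eq_inv_of_mul_eq_one_left this
    rw [inv_pow, ← mul_inv, e1, e3, inv_inv]
  have hgν : ∀ t : K, t ≠ 0 → ∃ j : ℕ, t = ((a : K)⁻¹ * ((a : K)⁻¹) ^ 2 ^ m) ^ j := by
    intro t ht
    rw [hν]
    have hmem : Units.mk0 t ht ∈ Subgroup.zpowers l := hl _
    rw [← mem_powers_iff_mem_zpowers] at hmem
    obtain ⟨j, hj⟩ := hmem
    refine ⟨j, ?_⟩
    have := congrArg (fun u : Kˣ => (u : K)) hj
    simp only [Units.val_pow_eq_pow_val, Units.val_mk0] at this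
    exact this.symm
  have hgμ : ∀ t : K, t ≠ 0 → ∃ j : ℕ, t = ((a : K)⁻¹) ^ j := by
    intro t ht
    obtain ⟨j, hj⟩ := hgν t ht
    refine ⟨(1 + 2 ^ m) * j, ?_⟩
    rw [hj, pow_mul, pow_add, pow_one]
  have hl1 : (l : K) ≠ 1 := by
    intro h
    have h' : l ^ 1 = 1 := by
      apply Units.ext
      rw [pow_one, Units.val_one, h]
    have := orderOf_dvd_of_pow_eq_one h'
    rw [hord] at this
    have := Nat.le_of_dvd (by norm_num) this
    have : 2 ^ m * 2 ^ m ≥ 4 := by nlinarith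
    omega
  have hμ : (a : K)⁻¹ ≠ 1 := by
    intro h
    apply hl1
    rw [← hν, h, one_pow, mul_one]
  have hθne : ∃ t, θ t ≠ t := by
    refine ⟨(l : K), ?_⟩
    rw [hθ]
    intro h
    have h' : l ^ (2 ^ m - 1) = 1 := by
      apply Units.ext
      rw [Units.val_pow_eq_pow_val, Units.val_one]
      have h3 : (l : K) ^ (2 ^ m - 1) * (l : K) = 1 * (l : K) := by
        rw [← pow_succ, Nat.sub_add_cancel (by omega), h, one_mul]
      exact mul_right_cancel₀ hl0 h3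
    have := orderOf_dvd_of_pow_eq_one h'
    rw [hord] at this
    have := Nat.le_of_dvd (by omega) this
    have : 2 ^ m * 2 ^ m ≥ 2 * 2 ^ m := by nlinarith
    omega
  -- membership in the twisted group
  have hhm : hA m a ∈ twistedF4 K (2 ^ m) := hA_mem hK X a
  have hcm : cF K ∈ twistedF4 K (2 ^ m) := by
    have e : cF K = nP chevF4 K [0, 3] * nP chevF4 K [1, 2, 1, 2] := by
      unfold cF cFL
      rw [← nP_append]
      rfl
    rw [e]
    exact mul_mem (nP_A_mem m) (nP_B_mem m)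
  have hxm : ∀ t u, XR m t u ∈ twistedF4 K (2 ^ m) :=
    fun t u => clsB_mem_twisted _ t u _ (coe_XR m t u)
  have hym : cF K * XR m 1 0 ∈ twistedF4 K (2 ^ m) := mul_mem hcm (hxm 1 0)
  set L : Subgroup (GL chevF4.Idx K) := Subgroup.closure {hA m a, cF K * XR m 1 0} with hL
  have hhL : hA m a ∈ L := Subgroup.subset_closure (by simp)
  have hyL : cF K * XR m 1 0 ∈ L := Subgroup.subset_closure (by simp)
  obtain ⟨hcL, hxL, hxL'⟩ := SuzLaw.two_gen (X := XR m) (X' := XR' m) (h := hA m a) (c := cF K)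
    (XR_law hK hθ) (XR'_law hK hθ) (fun _ _ => rfl) (tor_XR hK a) (tor_XR' hK a)
    (hA_comm_conj m a) hμ hμ hgμ hgν hθne L hhL hyL
  have hconj : ∀ (k : ℕ) (g : GL chevF4.Idx K), g ∈ L → cF K ^ k * g * (cF K ^ k)⁻¹ ∈ L :=
    fun k g hg => mul_mem (mul_mem (pow_mem hcL k) hg) (inv_mem (pow_mem hcL k))
  obtain ⟨-, ⟨q1, q2, q3, q4⟩, ⟨p1, p2, p3, p4⟩, ⟨a1, a2⟩, ⟨b1, b2⟩⟩ := f4_c_vals
  obtain ⟨-, -, -, -, -, n33, n14⟩ := f4_nil_tg
  -- the pair elements
  have hpL : ∀ t : K, XD chevF4 K 32 t * XD chevF4 K 37 (t ^ 2 ^ m) ∈ L := by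
    intro t
    have h7 : N4G [31, 35, 40, 46] (1 : K) (1 ^ 2 ^ m) 0 (1 * (1 ^ 2 ^ m) ^ 2 + 0 ^ (2 * 2 ^ m)) ∈
        L := by
      have := cF_pow_N4G (K := K) 7 (by decide : 25 < 48) (by decide : 27 < 48)
        (by decide : 28 < 48) (by decide : 30 < 48) 1 (1 ^ 2 ^ m) 0
        (1 * (1 ^ 2 ^ m) ^ 2 + 0 ^ (2 * 2 ^ m))
      rw [p1, p2, p3, p4] at this
      rw [← this]
      exact hconj 7 _ (hxL 1 0)
    have hA' : N4G [25, 27, 28, 30] t (t ^ 2 ^ m) 0 (t * (t ^ 2 ^ m) ^ 2 + 0 ^ (2 * 2 ^ m)) ∈ L :=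
      hxL t 0
    have e := comm_r6_r8 t (t ^ 2 ^ m) 0 (t * (t ^ 2 ^ m) ^ 2 + 0 ^ (2 * 2 ^ m)) (1 : K)
      (1 ^ 2 ^ m) 0 (1 * (1 ^ 2 ^ m) ^ 2 + 0 ^ (2 * 2 ^ m))
    rw [one_pow, mul_one, mul_one] at e
    have e2 : XD chevF4 K 32 t * XD chevF4 K 37 (t ^ 2 ^ m) =
        (N4G [25, 27, 28, 30] t (t ^ 2 ^ m) 0 (t * (t ^ 2 ^ m) ^ 2 + 0 ^ (2 * 2 ^ m)) *
          N4G [31, 35, 40, 46] (1 : K) 1 0 (1 * 1 ^ 2 + 0 ^ (2 * 2 ^ m)))⁻¹ *
        (N4G [31, 35, 40, 46] (1 : K) 1 0 (1 * 1 ^ 2 + 0 ^ (2 * 2 ^ m)) *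
          N4G [25, 27, 28, 30] t (t ^ 2 ^ m) 0 (t * (t ^ 2 ^ m) ^ 2 + 0 ^ (2 * 2 ^ m))) := by
      rw [e]
      group
    rw [one_pow] at h7
    rw [e2]
    exact mul_mem (inv_mem (mul_mem hA' h7)) (mul_mem h7 hA')
  -- the twisted group is contained in `L`
  have hle : twistedF4 K (2 ^ m) ≤ L := by
    unfold twistedF4 ChevalleyDatum.genSubgroup
    rw [Subgroup.closure_le]
    rintro g ⟨w, hw, hg⟩
    rcases hw with ⟨t, rfl | rfl⟩ | ⟨t, u, rfl | rfl⟩
    · -- the pair `(33, 24)`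
      have e5 := cF_pow_pair (K := K) 5 (by decide : 32 < 48) (by decide : 37 < 48) t (t ^ 2 ^ m)
      rw [b1, b2] at e5
      have : g = XD chevF4 K 24 t * XD chevF4 K 33 (t ^ 2 ^ m) := by
        apply Units.ext
        rw [hg, (cmXD (by decide) (by decide) (by decide) (by decide) n33 _ _).eq, Units.val_mul,
          coe_XD hDF4 (by decide), coe_XD hDF4 (by decide)]
        show chevF4.wordMat K (f4PairWord (2 ^ m) 33 24 t) = _
        rw [pairWord_mat]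
      rw [this, ← e5]
      exact hconj 5 _ (hpL t)
    · -- the pair `(14, 23)`
      have e1 := cF_pow_pair (K := K) 1 (by decide : 32 < 48) (by decide : 37 < 48) t (t ^ 2 ^ m)
      rw [a1, a2] at e1
      have : g = XD chevF4 K 23 t * XD chevF4 K 14 (t ^ 2 ^ m) := by
        apply Units.ext
        rw [hg, (cmXD (by decide) (by decide) (by decide) (by decide) n14 _ _).eq, Units.val_mul,
          coe_XD hDF4 (by decide), coe_XD hDF4 (by decide)]
        show chevF4.wordMat K (f4PairWord (2 ^ m) 14 23 t) = _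
        rw [pairWord_mat]
      rw [this, ← e1]
      exact hconj 1 _ (hpL t)
    · -- the positive class
      have : g = XR m t u := by
        apply Units.ext
        rw [hg, coe_XR]
        rfl
      rw [this]
      exact hxL t u
    · -- the negative class
      have e4 := cF_pow_N4G (K := K) 4 (by decide : 25 < 48) (by decide : 27 < 48)
        (by decide : 28 < 48) (by decide : 30 < 48) t (t ^ 2 ^ m) u
        (t * (t ^ 2 ^ m) ^ 2 + u ^ (2 * 2 ^ m))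
      rw [q1, q2, q3, q4] at e4
      have : g = N4G [22, 20, 19, 17] t (t ^ 2 ^ m) u (t * (t ^ 2 ^ m) ^ 2 + u ^ (2 * 2 ^ m)) := by
        apply Units.ext
        rw [hg, coe_N4G_Bm]
        rfl
      rw [this, ← e4]
      exact hconj 4 _ (hxL t u)
  refine ⟨⟨hA m a, hhm⟩, ⟨cF K * XR m 1 0, hym⟩, ?_⟩
  rw [eq_top_iff]
  intro x _
  have hxL0 : (x : GL chevF4.Idx K) ∈ L := hle x.2
  have hmap : (Subgroup.closure ({⟨hA m a, hhm⟩, ⟨cF K * XR m 1 0, hym⟩} :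
      Set ↥(twistedF4 K (2 ^ m)))).map (twistedF4 K (2 ^ m)).subtype = L := by
    rw [MonoidHom.map_closure, hL, Set.image_pair]
    rfl
  rw [← hmap] at hxL0
  obtain ⟨x', hx', e⟩ := hxL0
  have : x' = x := Subtype.ext e
  rw [← this]
  exact hx'

end

end RF

end Cfsg.Agent.Lib.Helper8.Chev
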