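import Cfsg.Agent.Lib.Helper8.ChevTc2
import Cfsg.Agent.Lib.Helper8.ChevTh5

set_option autoImplicit false

/-! Definitions for the automorphisms of `²F₄(q)`: the conjugate class subgroups, and the
generators as invertible matrices. -/

namespace Cfsg.Agent.Lib.Helper8.Chev

open Cfsg.Lie Matrix

/-- the conjugate `n_c U_c n_c⁻¹` of the class subgroup, inside `V` -/
noncomputable def YW (D : ChevalleyDatum) (F : Type*) [Field F] (c : List ℕ) : Subgroup (GL D.Idx F) :=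
  (UnegW D F c).map (MulAut.conj (nP D F c)).toMonoidHom

theorem mem_YW {D : ChevalleyDatum} {F : Type*} [Field F] {c : List ℕ} {g : GL D.Idx F} :
    g ∈ YW D F c ↔ ∃ u ∈ UnegW D F c, g = nP D F c * u * (nP D F c)⁻¹ := by
  unfold YW
  rw [Subgroup.mem_map]
  constructor
  · rintro ⟨u, hu, rfl⟩
    exact ⟨u, hu, rfl⟩
  · rintro ⟨u, hu, rfl⟩
    exact ⟨u, hu, rfl⟩

namespace RF

variable {K : Type*} [Field K]

/-- the generator `x_A(t) = x_{p₁}(t^θ) x_{p₄}(t)` of `²F₄` -/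
noncomputable def XA (m : ℕ) (t : K) : GL chevF4.Idx K :=
  XD chevF4 K 33 (t ^ 2 ^ m) * XD chevF4 K 24 t

/-- the generator `x_{-A}(t) = x_{-p₁}(t^θ) x_{-p₄}(t)` of `²F₄` -/
noncomputable def XAm (m : ℕ) (t : K) : GL chevF4.Idx K :=
  XD chevF4 K 14 (t ^ 2 ^ m) * XD chevF4 K 23 t

/-- the generator `x_{-R}(t, u)` of `²F₄` in the negative root group of type `B₂` -/
noncomputable def XRm (m : ℕ) (t u : K) : GL chevF4.Idx K :=
  N4G [22, 20, 19, 17] t (t ^ 2 ^ m) u (t * (t ^ 2 ^ m) ^ 2 + u ^ (2 * 2 ^ m))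

theorem coe_XA (m : ℕ) (t : K) :
    ((XA m t : GL chevF4.Idx K) : Matrix chevF4.Idx chevF4.Idx K) =
      chevF4.wordMat K (f4PairWord (2 ^ m) 33 24 t) := by
  unfold XA
  rw [Units.val_mul, coe_XD hDF4 (by decide), coe_XD hDF4 (by decide), pairWord_mat]

theorem coe_XAm (m : ℕ) (t : K) :
    ((XAm m t : GL chevF4.Idx K) : Matrix chevF4.Idx chevF4.Idx K) =
      chevF4.wordMat K (f4PairWord (2 ^ m) 14 23 t) := by
  unfold XAm
  rw [Units.val_mul, coe_XD hDF4 (by decide), coe_XD hDF4 (by decide), pairWord_mat]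

theorem coe_XRm [CharP K 2] (m : ℕ) (t u : K) :
    ((XRm m t u : GL chevF4.Idx K) : Matrix chevF4.Idx chevF4.Idx K) =
      chevF4.wordMat K (b2ClassWord (2 ^ m) 20 22 19 17 t u) :=
  coe_N4G_Bm m t u

theorem XA_mem (m : ℕ) (t : K) : XA m t ∈ twistedF4 K (2 ^ m) :=
  clsA_mem_twisted _ t _ (coe_XA m t)

theorem XAm_mem (m : ℕ) (t : K) : XAm m t ∈ twistedF4 K (2 ^ m) :=
  clsAm_mem_twisted _ t _ (coe_XAm m t)

theorem XR_mem [CharP K 2] (m : ℕ) (t u : K) : XR m t u ∈ twistedF4 K (2 ^ m) :=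
  clsB_mem_twisted _ t u _ (coe_XR m t u)

theorem XRm_mem [CharP K 2] (m : ℕ) (t u : K) : XRm m t u ∈ twistedF4 K (2 ^ m) :=
  clsBm_mem_twisted _ t u _ (coe_XRm m t u)

/-- `²F₄` is generated by the four families of generators -/
theorem twistedF4_eq_closure [CharP K 2] (m : ℕ) :
    twistedF4 K (2 ^ m) = Subgroup.closure {g | (∃ t : K, g = XA m t ∨ g = XAm m t) ∨
      ∃ t u : K, g = XR m t u ∨ g = XRm m t u} := by
  apply le_antisymm
  · unfold twistedF4 ChevalleyDatum.genSubgroup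
    rw [Subgroup.closure_le]
    rintro g ⟨w, hw, hg⟩
    apply Subgroup.subset_closure
    rcases hw with ⟨t, rfl | rfl⟩ | ⟨t, u, rfl | rfl⟩
    · exact Or.inl ⟨t, Or.inl (Units.ext (hg.trans (coe_XA m t).symm))⟩
    · exact Or.inl ⟨t, Or.inr (Units.ext (hg.trans (coe_XAm m t).symm))⟩
    · exact Or.inr ⟨t, u, Or.inl (Units.ext (hg.trans (coe_XR m t u).symm))⟩
    · exact Or.inr ⟨t, u, Or.inr (Units.ext (hg.trans (coe_XRm m t u).symm))⟩
  · rw [Subgroup.closure_le]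
    rintro g (⟨t, rfl | rfl⟩ | ⟨t, u, rfl | rfl⟩)
    · exact XA_mem m t
    · exact XAm_mem m t
    · exact XR_mem m t u
    · exact XRm_mem m t u

end RF

end Cfsg.Agent.Lib.Helper8.Chev
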