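import Cfsg.Agent.Lib.Helper8.ChevHi5
import Cfsg.Agent.Lib.Helper8.ChevOrdH2

set_option autoImplicit false

/-! # The centraliser of a long root involution in types `E₆`, `E₇`, `E₈` -/

namespace Cfsg.Agent.Lib.Helper8.Chev

open Cfsg.Lie Matrix

variable {D : ChevalleyDatum} {F : Type*} [Field F]

/-- `n_p(c)` lies in any subgroup containing `X_p` and `X_{-p}` -/
theorem nMat_mem_of (hD : D ∈ [chevG2, chevB2, chevD4, chevF4, chevE6, chevE7, chevE8])
    {p : ℕ} (hp : p < D.nroots) (S : Subgroup (GL D.Idx F))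
    (h1 : ∀ (c : F) (y : GL D.Idx F), (y : Matrix D.Idx D.Idx F) = D.x F p c → y ∈ S)
    (h2 : ∀ (c : F) (y : GL D.Idx F), (y : Matrix D.Idx D.Idx F) = D.x F (D.neg p) c → y ∈ S)
    (c : F) (y : GL D.Idx F) (hy : (y : Matrix D.Idx D.Idx F) = D.nMat F p c) : y ∈ S := by
  have V := valid0_of_mem hD
  have V1 := valid1_of_mem hD
  obtain ⟨a, ha⟩ := exists_unit_x (F := F) V V1 hp c
  obtain ⟨b, hb⟩ := exists_unit_x (F := F) V V1 (V.neg_lt hp) (-c⁻¹)
  have : y = a * b * a := by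
    apply Units.ext
    rw [hy, Units.val_mul, Units.val_mul, ha, hb, nMat_eq_mul, x_eq_xN, x_eq_xN]
  rw [this]
  exact mul_mem (mul_mem (h1 _ _ ha) (h2 _ _ hb)) (h1 _ _ ha)

/-- `h_p(c)` lies in any subgroup containing `X_p` and `X_{-p}` -/
theorem hMat_mem_of (hD : D ∈ [chevG2, chevB2, chevD4, chevF4, chevE6, chevE7, chevE8])
    {p : ℕ} (hp : p < D.nroots) (S : Subgroup (GL D.Idx F))
    (h1 : ∀ (c : F) (y : GL D.Idx F), (y : Matrix D.Idx D.Idx F) = D.x F p c → y ∈ S)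
    (h2 : ∀ (c : F) (y : GL D.Idx F), (y : Matrix D.Idx D.Idx F) = D.x F (D.neg p) c → y ∈ S)
    {c : F} (hc : c ≠ 0) (y : GL D.Idx F) (hy : (y : Matrix D.Idx D.Idx F) = D.hMat F p c) :
    y ∈ S := by
  have V := valid0_of_mem hD
  have V1 := valid1_of_mem hD
  have hu1 : IsUnit (D.nMat F p c) :=
    ⟨⟨D.nMat F p c, D.nMat F p (-c), nMat_mul_neg V V1 hp c, nMat_neg_mul V V1 hp c⟩, rfl⟩
  have hu2 : IsUnit (D.nMat F p (-1)) := by
    refine ⟨⟨D.nMat F p (-1), D.nMat F p 1, ?_, ?_⟩, rfl⟩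
    · have := nMat_neg_mul V V1 hp (1 : F); exact this
    · have := nMat_mul_neg V V1 hp (1 : F); exact this
  obtain ⟨a, ha⟩ := hu1
  obtain ⟨b, hb⟩ := hu2
  have : y = a * b := by
    apply Units.ext
    rw [hy, Units.val_mul, ha, hb, hMat_eq_nMat_mul]
  rw [this]
  exact mul_mem (nMat_mem_of hD hp S h1 h2 c a ha) (nMat_mem_of hD hp S h1 h2 (-1) b hb)

/-- the conjugation action of `h_p(c)` on a root element -/
theorem hMat_conj_x (hD : D ∈ [chevG2, chevB2, chevD4, chevF4, chevE6, chevE7, chevE8])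
    {p s : ℕ} (hp : p < D.nroots) (hs : s < D.nroots) {c : F} (hc : c ≠ 0) (u : F) :
    D.hMat F p c * D.x F s u = D.x F s (c ^ aco D p s * u) * D.hMat F p c := by
  have J := validJ_of_mem hD
  have V1 := valid1_of_mem hD
  have H := validH_of_mem hD
  have hm : D.hMat F p c = diagC D (fun s => ((Units.mk0 c hc ^ aco D p s : Fˣ) : F)) := by
    rw [hMat_eq p hc, hG_eq J V1 H.hS H.hG hp]
  have hf : IsChar D (fun s => ((Units.mk0 c hc ^ aco D p s : Fˣ) : F)) :=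
    isChar_of_isWt J.V (isWt_aco J.V J.T H.hsz H.wt p) (Units.mk0 c hc)
  rw [hm, x_eq_xN, x_eq_xN, diagC_mul_xN J.V hf hs, Units.val_zpow_eq_zpow_val, Units.val_mk0]

/-- the root element determines its parameter -/
theorem xN_inj_param (hD : D ∈ [chevG2, chevB2, chevD4, chevF4, chevE6, chevE7, chevE8])
    {r : ℕ} (hr : r < D.nroots) {a b : F} (h : D.x F r a = D.x F r b) : a = b := by
  have V := valid0_of_mem hD
  have V1 := valid1_of_mem hD
  have C := copP_of_mem hD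
  rw [x_eq_xN, x_eq_xN] at h
  have h1 : xN D F r (a - b) = 1 := by
    rw [sub_eq_add_neg, ← xN_mul_xN F V V1 hr, h, xN_mul_xN F V V1 hr, add_neg_cancel, xN_zero V]
  exact sub_eq_zero.mp (xN_eq_one V C hr h1)

end Cfsg.Agent.Lib.Helper8.Chev
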