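import Cfsg.Agent.Lib.Helper8.SL2Pres4
import Cfsg.Agent.Lib.Helper8.ChevN3

set_option autoImplicit false

/-! # The `SL₂` of a root: relations -/

namespace Cfsg.Agent.Lib.Helper8.Chev

open Cfsg.Lie Matrix

/-- `⟨r, r^∨⟩ = 2` -/
noncomputable def checkAco2 (D : ChevalleyDatum) : Bool :=
  forallLtF (fun r => decide (acoF D r r = 2)) D.nroots

set_option maxRecDepth 100000 in
theorem checkAco2_G2 : checkAco2 chevG2 = true := by decide +kernel
set_option maxRecDepth 100000 in
theorem checkAco2_B2 : checkAco2 chevB2 = true := by decide +kernel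
set_option maxRecDepth 100000 in
theorem checkAco2_D4 : checkAco2 chevD4 = true := by decide +kernel
set_option maxRecDepth 100000 in
theorem checkAco2_F4 : checkAco2 chevF4 = true := by decide +kernel
set_option maxRecDepth 100000 in
theorem checkAco2_E6 : checkAco2 chevE6 = true := by decide +kernel
set_option maxRecDepth 100000 in
theorem checkAco2_E7 : checkAco2 chevE7 = true := by decide +kernel
set_option maxRecDepth 100000 in
theorem checkAco2_E8 : checkAco2 chevE8 = true := by decide +kernel

variable {D : ChevalleyDatum}

theorem aco_self (hD : D ∈ [chevG2, chevB2, chevD4, chevF4, chevE6, chevE7, chevE8]) {r : ℕ}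
    (hr : r < D.nroots) : aco D r r = 2 := by
  have J := validJ_of_mem hD
  have h : checkAco2 D = true := by
    simp only [List.mem_cons, List.not_mem_nil, or_false] at hD
    rcases hD with rfl | rfl | rfl | rfl | rfl | rfl | rfl
    · exact checkAco2_G2
    · exact checkAco2_B2
    · exact checkAco2_D4
    · exact checkAco2_F4
    · exact checkAco2_E6
    · exact checkAco2_E7
    · exact checkAco2_E8
  simp only [checkAco2, forallLtF_eq_true, decide_eq_true_eq] at h
  rw [← acoF_eq J.T hr hr]
  exact h r hr

end Cfsg.Agent.Lib.Helper8.Chev
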