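import Cfsg.Agent.Lib.Helper8.ChevAu20
import Cfsg.Agent.Lib.Helper8.ChevGA4

set_option autoImplicit false

/-! The symmetries of the diagram of type `D₄` and their realisation. -/

namespace Cfsg.Agent.Lib.Helper8.Chev

open Cfsg.Lie Matrix Cfsg.Agent.Lib.Helper3

theorem mem7_D4 : chevD4 ∈ [chevG2, chevB2, chevD4, chevF4, chevE6, chevE7, chevE8] := by simp
theorem mem4_D4 : chevD4 ∈ [chevD4, chevE6, chevE7, chevE8] := by simp

section

variable {D : ChevalleyDatum} {F : Type*} [Field F] [Finite F]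

/-- the realisation of a symmetry of the diagram from the data of a graph automorphism -/
theorem graphReal_of_gaOk (hD : D ∈ [chevG2, chevB2, chevD4, chevF4, chevE6, chevE7, chevE8])
    {ρ ρ' π π' : ℕ → ℕ} {ε : ℕ → ℤ} (ok : GAOk D ρ ρ' π π' ε)
    (hpos : ∀ r < D.nroots, (D.nroots / 2 ≤ r → D.nroots / 2 ≤ π r) ∧
      (r < D.nroots / 2 → π r < D.nroots / 2))
    (σ : Equiv.Perm (Fin D.rank)) (hσ : ∀ i : Fin D.rank, (σ i).val = ρ i.val) :
    ∃ g ∈ presSub D F, ∀ (i : Fin D.rank) (t : F),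
      g (xEl hD (D.simple i) t) = xEl hD (D.simple (σ i)) t ∧
      g (xEl hD (D.neg (D.simple i)) t) = xEl hD (D.neg (D.simple (σ i))) t := by
  have V := valid0_of_mem hD
  have V1 := valid1_of_mem hD
  have J := validJ_of_mem hD
  have P := posP_of_mem hD
  refine ⟨gaEquiv (F := F) V V1 ok, ⟨?_, ?_⟩, fun i t => ⟨?_, ?_⟩⟩
  · apply pres_pos_of_gens
    intro g r t hr hg
    refine ⟨π r, ((ε r : ℤ) : F) * t, ?_, ?_⟩
    · rw [(P _ (ok.hπ r hr.1).1).1]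
      exact (hpos r hr.1).1 ((P r hr.1).1.mp hr)
    · rw [coe_gaEquiv]
      exact gaU_conj_x V V1 ok hr.1 t _ hg
  · apply pres_neg_of_gens
    intro g r t hr hg
    refine ⟨π r, ((ε r : ℤ) : F) * t, ?_, ?_⟩
    · rw [(P _ (ok.hπ r hr.1).1).2]
      exact (hpos r hr.1).2 ((P r hr.1).2.mp hr)
    · rw [coe_gaEquiv]
      exact gaU_conj_x V V1 ok hr.1 t _ hg
  · rw [hσ]
    apply eq_xEl_of_coe hD
    · rw [← hσ]
      exact StdAut.simple_lt hD _
    · exact (gaEquiv_simple J V1 ok _ i.isLt t).1 (coe_xEl hD (StdAut.simple_lt hD i) t)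
  · rw [hσ]
    apply eq_xEl_of_coe hD
    · rw [← hσ]
      exact StdAut.neg_simple_lt hD _
    · exact (gaEquiv_simple J V1 ok _ i.isLt t).2 (coe_xEl hD (StdAut.neg_simple_lt hD i) t)

end

theorem gaPi_D4i_pos : ∀ r < chevD4.nroots,
    (chevD4.nroots / 2 ≤ r → chevD4.nroots / 2 ≤ gaPi_D4i r) ∧
      (r < chevD4.nroots / 2 → gaPi_D4i r < chevD4.nroots / 2) := by
  decide +kernel

theorem gaPi_D4a_pos : ∀ r < chevD4.nroots,
    (chevD4.nroots / 2 ≤ r → chevD4.nroots / 2 ≤ gaPi_D4a r) ∧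
      (r < chevD4.nroots / 2 → gaPi_D4a r < chevD4.nroots / 2) := by
  decide +kernel

theorem gaPi_D4b_pos : ∀ r < chevD4.nroots,
    (chevD4.nroots / 2 ≤ r → chevD4.nroots / 2 ≤ gaPi_D4b r) ∧
      (r < chevD4.nroots / 2 → gaPi_D4b r < chevD4.nroots / 2) := by
  decide +kernel

theorem gaPi_D4c_pos : ∀ r < chevD4.nroots,
    (chevD4.nroots / 2 ≤ r → chevD4.nroots / 2 ≤ gaPi_D4c r) ∧
      (r < chevD4.nroots / 2 → gaPi_D4c r < chevD4.nroots / 2) := by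
  decide +kernel

theorem gaPi_D4d_pos : ∀ r < chevD4.nroots,
    (chevD4.nroots / 2 ≤ r → chevD4.nroots / 2 ≤ gaPi_D4d r) ∧
      (r < chevD4.nroots / 2 → gaPi_D4d r < chevD4.nroots / 2) := by
  decide +kernel

theorem gaPi_D4e_pos : ∀ r < chevD4.nroots,
    (chevD4.nroots / 2 ≤ r → chevD4.nroots / 2 ≤ gaPi_D4e r) ∧
      (r < chevD4.nroots / 2 → gaPi_D4e r < chevD4.nroots / 2) := by
  decide +kernel

set_option synthInstance.maxSize 100000 in
set_option synthInstance.maxHeartbeats 0 in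
/-- the classification of the symmetries of the diagram of type `D₄`, on the values -/
theorem D4_key : ∀ a0 a1 a2 a3 : Fin 4,
    chevD4.bonds a1 a0 = chevD4.bonds 1 0 → chevD4.bonds a1 a2 = chevD4.bonds 1 2 →
    chevD4.bonds a1 a3 = chevD4.bonds 1 3 → chevD4.bonds a0 a2 = chevD4.bonds 0 2 →
    chevD4.bonds a0 a3 = chevD4.bonds 0 3 → chevD4.bonds a2 a3 = chevD4.bonds 2 3 →
    a1.val = 1 ∧ ((a0.val = 0 ∧ a2.val = 2 ∧ a3.val = 3) ∨ (a0.val = 2 ∧ a2.val = 3 ∧ a3.val = 0) ∨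
      (a0.val = 3 ∧ a2.val = 0 ∧ a3.val = 2) ∨ (a0.val = 2 ∧ a2.val = 0 ∧ a3.val = 3) ∨
      (a0.val = 3 ∧ a2.val = 2 ∧ a3.val = 0) ∨ (a0.val = 0 ∧ a2.val = 3 ∧ a3.val = 2)) := by
  decide +kernel


theorem aux4 (π : Equiv.Perm (Fin 4))
    (h : ∀ i j : Fin 4, i ≠ j → chevD4.bonds (π i).val (π j).val = chevD4.bonds i.val j.val) :
    (∀ i : Fin 4, (π i).val = gaRho_D4i i.val) ∨ (∀ i : Fin 4, (π i).val = gaRho_D4a i.val) ∨
    (∀ i : Fin 4, (π i).val = gaRho_D4b i.val) ∨ (∀ i : Fin 4, (π i).val = gaRho_D4c i.val) ∨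
    (∀ i : Fin 4, (π i).val = gaRho_D4d i.val) ∨ (∀ i : Fin 4, (π i).val = gaRho_D4e i.val) := by
  obtain ⟨h1, hk⟩ := D4_key (π 0) (π 1) (π 2) (π 3) (h 1 0 (by decide)) (h 1 2 (by decide))
    (h 1 3 (by decide)) (h 0 2 (by decide)) (h 0 3 (by decide)) (h 2 3 (by decide))
  rcases hk with ⟨h0, h2, h3⟩ | ⟨h0, h2, h3⟩ | ⟨h0, h2, h3⟩ | ⟨h0, h2, h3⟩ | ⟨h0, h2, h3⟩ |
    ⟨h0, h2, h3⟩
  · left
    intro i
    fin_cases i <;> simp [*, gaRho_D4i]
  · right; left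
    intro i
    fin_cases i <;> simp [*, gaRho_D4a]
  · right; right; left
    intro i
    fin_cases i <;> simp [*, gaRho_D4b]
  · right; right; right; left
    intro i
    fin_cases i <;> simp [*, gaRho_D4c]
  · right; right; right; right; left
    intro i
    fin_cases i <;> simp [*, gaRho_D4d]
  · right; right; right; right; right
    intro i
    fin_cases i <;> simp [*, gaRho_D4e]

theorem diagSym_D4 (π : Equiv.Perm (Fin chevD4.rank)) (h : chevD4.IsDiagramSymmetry π) :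
    (∀ i : Fin chevD4.rank, (π i).val = gaRho_D4i i.val) ∨
    (∀ i : Fin chevD4.rank, (π i).val = gaRho_D4a i.val) ∨
    (∀ i : Fin chevD4.rank, (π i).val = gaRho_D4b i.val) ∨
    (∀ i : Fin chevD4.rank, (π i).val = gaRho_D4c i.val) ∨
    (∀ i : Fin chevD4.rank, (π i).val = gaRho_D4d i.val) ∨
    (∀ i : Fin chevD4.rank, (π i).val = gaRho_D4e i.val) :=
  aux4 π h

section

variable {F : Type*} [Field F] [Finite F]

theorem graphReal_D4 : GraphReal mem7_D4 F := by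
  intro π hπ
  rcases diagSym_D4 π hπ with h | h | h | h | h | h
  · exact graphReal_of_gaOk mem7_D4 gaOk_D4i gaPi_D4i_pos π h
  · exact graphReal_of_gaOk mem7_D4 gaOk_D4a gaPi_D4a_pos π h
  · exact graphReal_of_gaOk mem7_D4 gaOk_D4b gaPi_D4b_pos π h
  · exact graphReal_of_gaOk mem7_D4 gaOk_D4c gaPi_D4c_pos π h
  · exact graphReal_of_gaOk mem7_D4 gaOk_D4d gaPi_D4d_pos π h
  · exact graphReal_of_gaOk mem7_D4 gaOk_D4e gaPi_D4e_pos π h

end

section

variable {D : ChevalleyDatum}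

/-- the permutation of the nodes given by the data of a graph automorphism -/
def permOfGa {ρ ρ' π π' : ℕ → ℕ} {ε : ℕ → ℤ} (ok : GAOk D ρ ρ' π π' ε) :
    Equiv.Perm (Fin D.rank) where
  toFun i := ⟨ρ i.val, (ok.hρ i.val i.isLt).1⟩
  invFun i := ⟨ρ' i.val, (ok.hρ' i.val i.isLt).1⟩
  left_inv i := Fin.ext (ok.hρ i.val i.isLt).2
  right_inv i := Fin.ext (ok.hρ' i.val i.isLt).2

theorem permOfGa_apply {ρ ρ' π π' : ℕ → ℕ} {ε : ℕ → ℤ} (ok : GAOk D ρ ρ' π π' ε)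
    (i : Fin D.rank) : (permOfGa ok i).val = ρ i.val := rfl

theorem permOfGa_sym (hD : D ∈ [chevG2, chevB2, chevD4, chevF4, chevE6, chevE7, chevE8])
    {ρ ρ' π π' : ℕ → ℕ} {ε : ℕ → ℤ} (ok : GAOk D ρ ρ' π π' ε) :
    D.IsDiagramSymmetry (permOfGa ok) := by
  intro i j _
  show D.bonds (ρ i.val) (ρ j.val) = D.bonds i.val j.val
  unfold ChevalleyDatum.bonds
  rw [← (ok.hsimple j j.isLt).1, ← (ok.hsimple i i.isLt).1,
    ok.hcart i i.isLt _ (StdAut.simple_lt hD j), ok.hcart j j.isLt _ (StdAut.simple_lt hD i)]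

theorem eq_permOfGa {ρ ρ' π π' : ℕ → ℕ} {ε : ℕ → ℤ} (ok : GAOk D ρ ρ' π π' ε)
    {σ : Equiv.Perm (Fin D.rank)} (h : ∀ i : Fin D.rank, (σ i).val = ρ i.val) :
    σ = permOfGa ok := by
  apply Equiv.ext
  intro i
  apply Fin.ext
  rw [h i, permOfGa_apply]

end

/-- the six symmetries of the diagram of type `D₄` -/
def symD4 : Fin 6 → {π : Equiv.Perm (Fin chevD4.rank) // chevD4.IsDiagramSymmetry π} :=
  ![⟨permOfGa gaOk_D4i, permOfGa_sym mem7_D4 _⟩, ⟨permOfGa gaOk_D4a, permOfGa_sym mem7_D4 _⟩,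
    ⟨permOfGa gaOk_D4b, permOfGa_sym mem7_D4 _⟩, ⟨permOfGa gaOk_D4c, permOfGa_sym mem7_D4 _⟩,
    ⟨permOfGa gaOk_D4d, permOfGa_sym mem7_D4 _⟩, ⟨permOfGa gaOk_D4e, permOfGa_sym mem7_D4 _⟩]

theorem symD4_bijective : Function.Bijective symD4 := by
  constructor
  · intro x y hxy
    have h0 := congrArg
      (fun s : {π : Equiv.Perm (Fin chevD4.rank) // chevD4.IsDiagramSymmetry π} =>
        (s.1 ⟨0, by decide⟩).val) hxy
    have h2 := congrArg
      (fun s : {π : Equiv.Perm (Fin chevD4.rank) // chevD4.IsDiagramSymmetry π} =>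
        (s.1 ⟨2, by decide⟩).val) hxy
    fin_cases x <;> fin_cases y <;> first | rfl | (exfalso; revert h0 h2; decide)
  · rintro ⟨π, hπ⟩
    rcases diagSym_D4 π hπ with h | h | h | h | h | h
    · exact ⟨0, Subtype.ext (eq_permOfGa gaOk_D4i h).symm⟩
    · exact ⟨1, Subtype.ext (eq_permOfGa gaOk_D4a h).symm⟩
    · exact ⟨2, Subtype.ext (eq_permOfGa gaOk_D4b h).symm⟩
    · exact ⟨3, Subtype.ext (eq_permOfGa gaOk_D4c h).symm⟩
    · exact ⟨4, Subtype.ext (eq_permOfGa gaOk_D4d h).symm⟩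
    · exact ⟨5, Subtype.ext (eq_permOfGa gaOk_D4e h).symm⟩

theorem card_sym_D4 :
    Nat.card {π : Equiv.Perm (Fin chevD4.rank) // chevD4.IsDiagramSymmetry π} = 6 := by
  rw [← Nat.card_eq_of_bijective symD4 symD4_bijective, Nat.card_eq_fintype_card,
    Fintype.card_fin]

/-- two symmetries of the diagram of type `D₄` that do not commute -/
theorem D4_noncomm : ∃ π₁ π₂ : Equiv.Perm (Fin chevD4.rank),
    chevD4.IsDiagramSymmetry π₁ ∧ chevD4.IsDiagramSymmetry π₂ ∧ π₁ * π₂ ≠ π₂ * π₁ := by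
  refine ⟨permOfGa gaOk_D4c, permOfGa gaOk_D4d, permOfGa_sym mem7_D4 _, permOfGa_sym mem7_D4 _,
    fun h => ?_⟩
  have := congrArg (fun σ : Equiv.Perm (Fin chevD4.rank) => (σ ⟨0, by decide⟩).val) h
  revert this
  decide

end Cfsg.Agent.Lib.Helper8.Chev
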