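import Cfsg.Agent.Lib.Helper8.ChevOrdH3

set_option autoImplicit false

/-! The order of `H` for the seven types, from diagonalisations of the Cartan matrices. -/

namespace Cfsg.Agent.Lib.Helper8.Chev

open Cfsg.Lie Matrix

section

variable {F : Type*} [Field F] [Fintype F]

theorem card_diagonal_aux_G2 :
    (∏ j ∈ Finset.range 2, (Fintype.card F - 1).gcd (nthF 1 ([1, 1] : List ℕ) j)) *
      Nat.card (chevG2.diagonalSubgroup F) = (Fintype.card F - 1) ^ 2 := by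
  have hD : chevG2 ∈ [chevG2, chevB2, chevD4, chevF4, chevE6, chevE7, chevE8] := by simp
  exact card_diagonal_mul'' (validJ_of_mem hD) (valid1_of_mem hD) (validH_of_mem hD)
    (rootCoord_of_mem hD) (l := 2) rfl
    (entL 16 [[16, 15], [17, 18]])
    (entL 16 [[18, 17], [15, 16]])
    (entL 16 [[17, 18], [16, 17]])
    (entL 16 [[17, 14], [16, 17]])
    (entL 16 [[17, 14], [16, 17]])
    (nthF 1 ([1, 1] : List ℕ))
    (by decide +kernel) (by decide +kernel) (by decide +kernel) (by decide +kernel)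
    (by decide +kernel)

theorem card_diagonal_aux_B2 :
    (∏ j ∈ Finset.range 2, (Fintype.card F - 1).gcd (nthF 1 ([1, 2] : List ℕ) j)) *
      Nat.card (chevB2.diagonalSubgroup F) = (Fintype.card F - 1) ^ 2 := by
  have hD : chevB2 ∈ [chevG2, chevB2, chevD4, chevF4, chevE6, chevE7, chevE8] := by simp
  exact card_diagonal_mul'' (validJ_of_mem hD) (valid1_of_mem hD) (validH_of_mem hD)
    (rootCoord_of_mem hD) (l := 2) rfl
    (entL 16 [[16, 15], [17, 18]])
    (entL 16 [[18, 17], [15, 16]])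
    (entL 16 [[17, 18], [16, 17]])
    (entL 16 [[17, 14], [16, 17]])
    (entL 16 [[17, 14], [16, 18]])
    (nthF 1 ([1, 2] : List ℕ))
    (by decide +kernel) (by decide +kernel) (by decide +kernel) (by decide +kernel)
    (by decide +kernel)

theorem card_diagonal_aux_D4 :
    (∏ j ∈ Finset.range 4, (Fintype.card F - 1).gcd (nthF 1 ([1, 1, 2, 2] : List ℕ) j)) *
      Nat.card (chevD4.diagonalSubgroup F) = (Fintype.card F - 1) ^ 4 := by
  have hD : chevD4 ∈ [chevG2, chevB2, chevD4, chevF4, chevE6, chevE7, chevE8] := by simp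
  exact card_diagonal_mul'' (validJ_of_mem hD) (valid1_of_mem hD) (validH_of_mem hD)
    (rootCoord_of_mem hD) (l := 4) rfl
    (entL 16 [[15, 16, 16, 16], [14, 15, 16, 16], [13, 14, 15, 16], [18, 18, 17, 17]])
    (entL 16 [[15, 16, 16, 16], [18, 15, 16, 16], [15, 18, 15, 16], [15, 16, 17, 17]])
    (entL 16 [[16, 16, 16, 17], [17, 16, 16, 18], [16, 17, 15, 17], [16, 16, 17, 18]])
    (entL 16 [[14, 17, 16, 16], [13, 16, 17, 17], [14, 16, 16, 17], [17, 16, 16, 16]])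
    (entL 16 [[14, 17, 16, 16], [13, 16, 17, 17], [12, 16, 16, 18], [18, 16, 16, 16]])
    (nthF 1 ([1, 1, 2, 2] : List ℕ))
    (by decide +kernel) (by decide +kernel) (by decide +kernel) (by decide +kernel)
    (by decide +kernel)

theorem card_diagonal_aux_F4 :
    (∏ j ∈ Finset.range 4, (Fintype.card F - 1).gcd (nthF 1 ([1, 1, 1, 1] : List ℕ) j)) *
      Nat.card (chevF4.diagonalSubgroup F) = (Fintype.card F - 1) ^ 4 := by
  have hD : chevF4 ∈ [chevG2, chevB2, chevD4, chevF4, chevE6, chevE7, chevE8] := by simp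
  exact card_diagonal_mul'' (validJ_of_mem hD) (valid1_of_mem hD) (validH_of_mem hD)
    (rootCoord_of_mem hD) (l := 4) rfl
    (entL 16 [[15, 16, 16, 16], [17, 16, 15, 16], [14, 15, 16, 16], [14, 14, 14, 15]])
    (entL 16 [[15, 16, 16, 16], [18, 16, 15, 16], [15, 15, 16, 16], [16, 18, 18, 15]])
    (entL 16 [[16, 16, 17, 14], [17, 16, 18, 12], [16, 16, 18, 13], [16, 17, 18, 14]])
    (entL 16 [[14, 17, 16, 16], [18, 16, 14, 17], [13, 16, 18, 16], [14, 16, 17, 16]])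
    (entL 16 [[14, 17, 16, 16], [18, 16, 14, 17], [13, 16, 18, 16], [14, 16, 17, 16]])
    (nthF 1 ([1, 1, 1, 1] : List ℕ))
    (by decide +kernel) (by decide +kernel) (by decide +kernel) (by decide +kernel)
    (by decide +kernel)

theorem card_diagonal_aux_E6 :
    (∏ j ∈ Finset.range 6, (Fintype.card F - 1).gcd (nthF 1 ([1, 1, 1, 1, 1, 3] : List ℕ) j)) *
      Nat.card (chevE6.diagonalSubgroup F) = (Fintype.card F - 1) ^ 6 := by
  have hD : chevE6 ∈ [chevG2, chevB2, chevD4, chevF4, chevE6, chevE7, chevE8] := by simp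
  exact card_diagonal_mul'' (validJ_of_mem hD) (valid1_of_mem hD) (validH_of_mem hD)
    (rootCoord_of_mem hD) (l := 6) rfl
    (entL 16 [[15, 16, 16, 16, 16, 16], [16, 15, 16, 16, 16, 16], [17, 14, 16, 15, 16, 16], [18, 13, 16, 14, 15, 16], [14, 17, 15, 16, 16, 16], [11, 16, 12, 13, 14, 15]])
    (entL 16 [[15, 16, 16, 16, 16, 16], [16, 15, 16, 16, 16, 16], [18, 15, 16, 16, 15, 16], [15, 18, 15, 16, 16, 16], [16, 15, 18, 15, 16, 16], [16, 16, 15, 18, 20, 15]])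
    (entL 16 [[16, 16, 16, 16, 17, 14], [16, 16, 16, 16, 18, 13], [17, 16, 16, 16, 18, 12], [16, 17, 16, 16, 20, 10], [16, 16, 17, 16, 20, 11], [16, 16, 16, 17, 20, 12]])
    (entL 16 [[14, 16, 17, 16, 16, 16], [16, 14, 16, 17, 16, 16], [18, 13, 16, 16, 17, 16], [20, 12, 16, 16, 16, 17], [13, 18, 16, 16, 16, 16], [14, 17, 16, 16, 16, 16]])
    (entL 16 [[14, 16, 17, 16, 16, 16], [16, 14, 16, 17, 16, 16], [18, 13, 16, 16, 17, 16], [20, 12, 16, 16, 16, 17], [13, 18, 16, 16, 16, 16], [10, 19, 16, 16, 16, 16]])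
    (nthF 1 ([1, 1, 1, 1, 1, 3] : List ℕ))
    (by decide +kernel) (by decide +kernel) (by decide +kernel) (by decide +kernel)
    (by decide +kernel)

theorem card_diagonal_aux_E7 :
    (∏ j ∈ Finset.range 7, (Fintype.card F - 1).gcd (nthF 1 ([1, 1, 1, 1, 1, 1, 2] : List ℕ) j)) *
      Nat.card (chevE7.diagonalSubgroup F) = (Fintype.card F - 1) ^ 7 := by
  have hD : chevE7 ∈ [chevG2, chevB2, chevD4, chevF4, chevE6, chevE7, chevE8] := by simp
  exact card_diagonal_mul'' (validJ_of_mem hD) (valid1_of_mem hD) (validH_of_mem hD)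
    (rootCoord_of_mem hD) (l := 7) rfl
    (entL 16 [[15, 16, 16, 16, 16, 16, 16], [16, 15, 16, 16, 16, 16, 16], [17, 14, 16, 15, 16, 16, 16], [18, 13, 16, 14, 15, 16, 16], [19, 12, 16, 13, 14, 15, 16], [14, 17, 15, 16, 16, 16, 16], [12, 15, 12, 12, 13, 14, 15]])
    (entL 16 [[15, 16, 16, 16, 16, 16, 16], [16, 15, 16, 16, 16, 16, 16], [18, 15, 16, 16, 16, 15, 16], [15, 18, 15, 16, 16, 16, 16], [16, 15, 18, 15, 16, 16, 16], [16, 16, 15, 18, 15, 16, 16], [16, 16, 16, 15, 18, 20, 15]])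
    (entL 16 [[16, 16, 16, 16, 16, 17, 14], [16, 16, 16, 16, 16, 18, 13], [17, 16, 16, 16, 16, 18, 12], [16, 17, 16, 16, 16, 20, 10], [16, 16, 17, 16, 16, 20, 11], [16, 16, 16, 17, 16, 20, 12], [16, 16, 16, 16, 17, 20, 13]])
    (entL 16 [[14, 16, 17, 16, 16, 16, 16], [16, 14, 16, 17, 16, 16, 16], [18, 13, 16, 16, 17, 16, 16], [20, 12, 16, 16, 16, 17, 16], [22, 11, 16, 16, 16, 16, 17], [13, 18, 16, 16, 16, 16, 16], [14, 17, 16, 16, 16, 16, 16]])
    (entL 16 [[14, 16, 17, 16, 16, 16, 16], [16, 14, 16, 17, 16, 16, 16], [18, 13, 16, 16, 17, 16, 16], [20, 12, 16, 16, 16, 17, 16], [22, 11, 16, 16, 16, 16, 17], [13, 18, 16, 16, 16, 16, 16], [12, 18, 16, 16, 16, 16, 16]])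
    (nthF 1 ([1, 1, 1, 1, 1, 1, 2] : List ℕ))
    (by decide +kernel) (by decide +kernel) (by decide +kernel) (by decide +kernel)
    (by decide +kernel)

theorem card_diagonal_aux_E8 :
    (∏ j ∈ Finset.range 8, (Fintype.card F - 1).gcd (nthF 1 ([1, 1, 1, 1, 1, 1, 1, 1] : List ℕ) j)) *
      Nat.card (chevE8.diagonalSubgroup F) = (Fintype.card F - 1) ^ 8 := by
  have hD : chevE8 ∈ [chevG2, chevB2, chevD4, chevF4, chevE6, chevE7, chevE8] := by simp
  exact card_diagonal_mul'' (validJ_of_mem hD) (valid1_of_mem hD) (validH_of_mem hD)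
    (rootCoord_of_mem hD) (l := 8) rfl
    (entL 16 [[15, 16, 16, 16, 16, 16, 16, 16], [16, 15, 16, 16, 16, 16, 16, 16], [17, 14, 16, 15, 16, 16, 16, 16], [18, 13, 16, 14, 15, 16, 16, 16], [19, 12, 16, 13, 14, 15, 16, 16], [20, 11, 16, 12, 13, 14, 15, 16], [14, 17, 15, 16, 16, 16, 16, 16], [13, 14, 12, 11, 12, 13, 14, 15]])
    (entL 16 [[15, 16, 16, 16, 16, 16, 16, 16], [16, 15, 16, 16, 16, 16, 16, 16], [18, 15, 16, 16, 16, 16, 15, 16], [15, 18, 15, 16, 16, 16, 16, 16], [16, 15, 18, 15, 16, 16, 16, 16], [16, 16, 15, 18, 15, 16, 16, 16], [16, 16, 16, 15, 18, 15, 16, 16], [16, 16, 16, 16, 15, 18, 20, 15]])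
    (entL 16 [[16, 16, 16, 16, 16, 16, 17, 14], [16, 16, 16, 16, 16, 16, 18, 13], [17, 16, 16, 16, 16, 16, 18, 12], [16, 17, 16, 16, 16, 16, 20, 10], [16, 16, 17, 16, 16, 16, 20, 11], [16, 16, 16, 17, 16, 16, 20, 12], [16, 16, 16, 16, 17, 16, 20, 13], [16, 16, 16, 16, 16, 17, 20, 14]])
    (entL 16 [[14, 16, 17, 16, 16, 16, 16, 16], [16, 14, 16, 17, 16, 16, 16, 16], [18, 13, 16, 16, 17, 16, 16, 16], [20, 12, 16, 16, 16, 17, 16, 16], [22, 11, 16, 16, 16, 16, 17, 16], [24, 10, 16, 16, 16, 16, 16, 17], [13, 18, 16, 16, 16, 16, 16, 16], [14, 17, 16, 16, 16, 16, 16, 16]])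
    (entL 16 [[14, 16, 17, 16, 16, 16, 16, 16], [16, 14, 16, 17, 16, 16, 16, 16], [18, 13, 16, 16, 17, 16, 16, 16], [20, 12, 16, 16, 16, 17, 16, 16], [22, 11, 16, 16, 16, 16, 17, 16], [24, 10, 16, 16, 16, 16, 16, 17], [13, 18, 16, 16, 16, 16, 16, 16], [14, 17, 16, 16, 16, 16, 16, 16]])
    (nthF 1 ([1, 1, 1, 1, 1, 1, 1, 1] : List ℕ))
    (by decide +kernel) (by decide +kernel) (by decide +kernel) (by decide +kernel)
    (by decide +kernel)

end

end Cfsg.Agent.Lib.Helper8.Chev
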