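import Cfsg.Agent.Lib.Helper8.ChevOrd2
import Cfsg.Agent.Lib.Helper8.ChevOrdH4

set_option autoImplicit false

/-! The order formula of a Chevalley group, from the certificates. -/

namespace Cfsg.Agent.Lib.Helper8.Chev

open Cfsg.Lie Matrix Cfsg.Agent.Lib.Helper8.Weyl

theorem cast_degs_prod (q : ℕ) (hq : 1 ≤ q) (degs : List ℕ) :
    (((degs.map fun e => q ^ e - 1).prod : ℕ) : ℤ) = (degs.map fun e => (q : ℤ) ^ e - 1).prod := by
  induction degs with
  | nil => simp
  | cons e l ih =>
    rw [List.map_cons, List.prod_cons, List.map_cons, List.prod_cons, Nat.cast_mul, ih,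
      Nat.cast_sub (Nat.one_le_pow _ _ hq), Nat.cast_pow, Nat.cast_one]

section

variable {D : ChevalleyDatum} {F : Type*} [Field F] [Fintype F]

/-- the order formula -/
theorem order_formula (hD : D ∈ [chevG2, chevB2, chevD4, chevF4, chevE6, chevE7, chevE8])
    {SS : ℕ} {pl : List ℕ} {steps : List Step} {degs : List ℕ}
    (h1 : checkSS D SS = true) (h2 : checkCS D SS = true) (h3 : checkCI D = true)
    (h4 : checkPL D pl = true)
    (h5 : checkChain D.nroots D.rank SS pl steps (List.range D.rank) = true)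
    (hpoly : pmul (xm1Poly D.rank) (chainPoly steps) = degPoly degs) {d q : ℕ}
    (hq : Fintype.card F = q)
    (hd : d * Nat.card ↥(D.diagonalSubgroup F) = (q - 1) ^ D.rank) :
    d * Nat.card ↥(D.group F) = q ^ (D.nroots / 2) * (degs.map fun e => q ^ e - 1).prod := by
  classical
  have hq1 : 1 ≤ q := by
    rw [← hq]
    exact Fintype.card_pos
  have key := poincare_chev hD h1 h2 h3 h4 h5 hpoly q
  have key' : (q - 1) ^ D.rank *
      (∑ w ∈ Finset.univ.filter (fun w => w ∈ WD hD), q ^ lenD D w) =
      (degs.map fun e => q ^ e - 1).prod := by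
    apply Nat.cast_injective (R := ℤ)
    rw [cast_degs_prod q hq1, ← key, Nat.cast_mul, Nat.cast_pow, Nat.cast_sub hq1, Nat.cast_one]
  have e := card_group_bruhat (F := F) hD
  rw [hq] at e
  rw [e, ← key', ← hd]
  have : ∀ (a b : ℕ), d * (q ^ (D.nroots / 2) * a * b) = q ^ (D.nroots / 2) * (d * a * b) := by
    intro a b; ring
  rw [this]
end

end Cfsg.Agent.Lib.Helper8.Chev
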