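import Cfsg.Agent.Lib.Helper8.ChevWD2

set_option autoImplicit false

/-! Certificate for the Poincaré polynomial of the Weyl group of type G2. -/

namespace Cfsg.Agent.Lib.Helper8.Chev

open Cfsg.Lie Matrix Cfsg.Agent.Lib.Helper8.Weyl

/-- packed tables of the fundamental reflections -/
def ssG2 : ℕ := 0xa0b090708050603040200010b060809040a010702030500

/-- the fundamental roots -/
def plG2 : List ℕ := [7, 6]

/-- the chain of parabolic subgroups -/
def stepsG2 : List Step := [([1], 0x10002040306050807090b0a05000307020a010904080b0606010408020b000903070a050a050709030b0008020406010b060809040a0107020305000b0a09080706050403020100, [(0, 0, [1, 7], 0), (0, 0, [0, 2], 1), (1, 1, [3, 1], 2), (2, 0, [2, 4], 3), (3, 1, [5, 3], 4), (4, 0, [4, 7], 5)]),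
  ([], 0xa0b090708050603040200010b0a09080706050403020100, [(0, 0, [0, 1], 0), (0, 1, [0, 0], 1)])]

set_option maxRecDepth 1000000 in
theorem checkSS_G2 : checkSS chevG2 ssG2 = true := by decide +kernel

set_option maxRecDepth 1000000 in
theorem checkCS_G2 : checkCS chevG2 ssG2 = true := by decide +kernel

set_option maxRecDepth 1000000 in
theorem checkCI_G2 : checkCI chevG2 = true := by decide +kernel

theorem checkPL_G2 : checkPL chevG2 plG2 = true := by decide +kernel

set_option maxRecDepth 1000000 in
theorem checkChain_G2 :
    checkChain chevG2.nroots chevG2.rank ssG2 plG2 stepsG2 (List.range chevG2.rank) = true := by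
  decide +kernel

set_option maxRecDepth 1000000 in
theorem poly_G2 :
    pmul (xm1Poly chevG2.rank) (chainPoly stepsG2) = degPoly [2, 6] := by
  decide +kernel

end Cfsg.Agent.Lib.Helper8.Chev
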