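import Cfsg.Agent.Lib.Helper8.ChevSt13

set_option autoImplicit false

/-! The centre of the presented group is trivial for `G₂`, `F₄`, `E₈`. -/

namespace Cfsg.Agent.Lib.Helper8.Chev

open Cfsg.Lie Matrix

/-- the inverse of the Cartan matrix, as a list of rows -/
def invB (rows : List (List ℤ)) (j k : ℕ) : ℤ := (rows.getD j []).getD k 0

def checkInvB (D : ChevalleyDatum) (rows : List (List ℤ)) : Bool :=
  (List.range D.rank).all fun i => (List.range D.rank).all fun k =>
    decide (∑ j ∈ Finset.range D.rank, aco D (D.simple i) (D.simple j) * invB rows j k =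
      if i = k then 1 else 0)

theorem invB_spec {D : ChevalleyDatum} {rows : List (List ℤ)} (h : checkInvB D rows = true) :
    ∀ i < D.rank, ∀ k < D.rank,
      ∑ j ∈ Finset.range D.rank, aco D (D.simple i) (D.simple j) * invB rows j k =
        if i = k then 1 else 0 := by
  unfold checkInvB at h
  simp only [List.all_eq_true, List.mem_range, decide_eq_true_eq] at h
  exact h

def invG2 : List (List ℤ) := [[2, 3], [1, 2]]
def invF4 : List (List ℤ) := [[2, 3, 4, 2], [3, 6, 8, 4], [2, 4, 6, 3], [1, 2, 3, 2]]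
def invE8 : List (List ℤ) :=
  [[4, 5, 7, 10, 8, 6, 4, 2], [5, 8, 10, 15, 12, 9, 6, 3], [7, 10, 14, 20, 16, 12, 8, 4],
   [10, 15, 20, 30, 24, 18, 12, 6], [8, 12, 16, 24, 20, 15, 10, 5], [6, 9, 12, 18, 15, 12, 8, 4],
   [4, 6, 8, 12, 10, 8, 6, 3], [2, 3, 4, 6, 5, 4, 3, 2]]

theorem checkInvB_G2 : checkInvB chevG2 invG2 = true := by decide +kernel
theorem checkInvB_F4 : checkInvB chevF4 invF4 = true := by decide +kernel
theorem checkInvB_E8 : checkInvB chevE8 invE8 = true := by decide +kernel

variable {D : ChevalleyDatum} {K : Type*} [Field K]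

/-- the relation (R3) in the presented group -/
theorem stRepOf_R3 (hD : D ∈ [chevG2, chevB2, chevD4, chevF4, chevE6, chevE7, chevE8])
    (θ : D.SteinbergGroup K →* ↥(D.group K))
    (hθ : ∀ (r : ℕ) (t : K), r < D.nroots →
      ((θ (D.stGen K r t) : GL D.Idx K) : Matrix D.Idx D.Idx K) = D.x K r t) :
    (stRepOf hD θ hθ).R3 := by
  have J := validJ_of_mem hD
  intro i hi c d hc hd
  have hr := (J.S i hi).1
  have h : D.stH (D.simple i) c * D.stH (D.simple i) d * (D.stH (D.simple i) (c * d))⁻¹ ∈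
      D.steinbergRels K := Or.inr ⟨D.simple i, c, d, hr, hc, hd, rfl⟩
  have := PresentedGroup.one_of_mem h
  rw [map_mul, map_mul, map_inv, mul_inv_eq_one] at this
  rw [StRep.h_eq_wS, StRep.h_eq_wS, StRep.h_eq_wS]
  unfold ChevalleyDatum.stH at this
  rw [mk_stWord, mk_stWord, mk_stWord] at this
  exact this

theorem st_center_eq_bot (hD : D ∈ [chevG2, chevF4, chevE8]) :
    Subgroup.center (D.SteinbergGroup K) = ⊥ := by
  have hD' : D ∈ [chevG2, chevB2, chevD4, chevF4, chevE6, chevE7, chevE8] := by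
    simp only [List.mem_cons, List.not_mem_nil, or_false] at hD ⊢
    rcases hD with rfl | rfl | rfl <;> simp
  have hθ : ∀ (r : ℕ) (t : K), r < D.nroots →
      ((stHom hD' K (D.stGen K r t) : GL D.Idx K) : Matrix D.Idx D.Idx K) = D.x K r t :=
    fun r t hr => stHom_stGen hD' r t hr
  rw [← stHom_ker hD', ← stRepOf_ker hD' (stHom hD' K) hθ]
  have hR := stRepOf_R3 hD' (stHom hD' K) hθ
  simp only [List.mem_cons, List.not_mem_nil, or_false] at hD
  rcases hD with rfl | rfl | rfl
  · exact hR.ker_eq_bot _ (invB_spec checkInvB_G2)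
  · exact hR.ker_eq_bot _ (invB_spec checkInvB_F4)
  · exact hR.ker_eq_bot _ (invB_spec checkInvB_E8)

end Cfsg.Agent.Lib.Helper8.Chev
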