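import Cfsg.Agent.Lib.Helper8.ChevAu22

set_option autoImplicit false

/-! The commutator formula inside the group, and uniqueness of ordered products of positive root
elements. -/

namespace Cfsg.Agent.Lib.Helper8.Chev

open Cfsg.Lie Matrix Cfsg.Agent.Lib.Helper3

section

variable {D : ChevalleyDatum} {F : Type*} [Field F]

theorem coe_xEl' (hD : D ∈ [chevG2, chevB2, chevD4, chevF4, chevE6, chevE7, chevE8])
    (r : ℕ) (t : F) :
    (((xEl hD r t : ↥(D.group F)) : GL D.Idx F) : Matrix D.Idx D.Idx F) = D.x F r t := by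
  by_cases hr : r < D.nroots
  · exact coe_xEl hD hr t
  · unfold xEl ChevalleyDatum.x
    rw [dif_neg hr, dif_neg hr]
    rfl

/-- the matrix of a product of root elements of the group -/
theorem coe_xEl_list_prod (hD : D ∈ [chevG2, chevB2, chevD4, chevF4, chevE6, chevE7, chevE8])
    (w : List (ℕ × F)) :
    ((((w.map fun p => (xEl hD p.1 p.2 : ↥(D.group F))).prod : ↥(D.group F)) : GL D.Idx F) :
      Matrix D.Idx D.Idx F) = D.wordMat F w := by
  unfold ChevalleyDatum.wordMat
  induction w with
  | nil => simp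
  | cons p w ih =>
    rw [List.map_cons, List.prod_cons, List.map_cons, List.prod_cons, Subgroup.coe_mul,
      Units.val_mul, ih, coe_xEl']

/-- the commutator formula in the group -/
theorem comm_formula_G (hD : D ∈ [chevG2, chevB2, chevD4, chevF4, chevE6, chevE7, chevE8])
    {r s : ℕ} (hr : r < D.nroots) (hs : s < D.nroots) (h1 : s ≠ r) (h2 : s ≠ D.neg r)
    (t u : F) :
    (xEl hD s u : ↥(D.group F)) * xEl hD r t = xEl hD r t * xEl hD s u *
      ((D.commWord F r s t u).map fun p => (xEl hD p.1 p.2 : ↥(D.group F))).prod := by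
  apply Subtype.ext
  apply Units.ext
  rw [Subgroup.coe_mul, Subgroup.coe_mul, Subgroup.coe_mul, Units.val_mul, Units.val_mul,
    Units.val_mul, coe_xEl_list_prod, coe_xEl hD hr, coe_xEl hD hs]
  exact comm_formula hD hr hs h1 h2 t u

/-- uniqueness of the ordered products of root elements of the roots `k ≤ r < nroots` -/
theorem seg_unique_G (hD : D ∈ [chevG2, chevB2, chevD4, chevF4, chevE6, chevE7, chevE8])
    {k : ℕ} (hk : D.nroots / 2 ≤ k) (hk' : k ≤ D.nroots) (t t' : ℕ → F)
    (h : ((segW D k t).map fun p => (xEl hD p.1 p.2 : ↥(D.group F))).prod =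
      ((segW D k t').map fun p => (xEl hD p.1 p.2 : ↥(D.group F))).prod)
    {r : ℕ} (h1 : k ≤ r) (h2 : r < D.nroots) : t r = t' r := by
  have V := valid0_of_mem hD
  have V1 := valid1_of_mem hD
  have Tr := triP_of_mem hD
  have S := sepP_of_mem hD
  have C := copP_of_mem hD
  have h' := congrArg (fun g : ↥(D.group F) => ((g : GL D.Idx F) : Matrix D.Idx D.Idx F)) h
  simp only [coe_xEl_list_prod, wordMat_eq_wN] at h'
  exact seg_unique V V1 Tr S C (D.nroots - k) k hk (by omega) t t' h' r h1 h2

end

end Cfsg.Agent.Lib.Helper8.Chev
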