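import Cfsg.Agent.Lib.Helper8.ChevAu11

set_option autoImplicit false

/-! The character of the root lattice with given values on the fundamental roots. -/

namespace Cfsg.Agent.Lib.Helper8.Chev

open Cfsg.Lie Matrix Cfsg.Agent.Lib.Helper3

/-- the coefficients of the fundamental roots are the unit vectors -/
noncomputable def checkRCs (D : ChevalleyDatum) : Bool :=
  forallLtF (fun i => forallLtF (fun t =>
    decide (rc D (D.simple i) t = if t = i then 1 else 0)) D.rank) D.rank

theorem checkRCs_G2 : checkRCs chevG2 = true := by decide +kernel
theorem checkRCs_B2 : checkRCs chevB2 = true := by decide +kernel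
theorem checkRCs_D4 : checkRCs chevD4 = true := by decide +kernel
theorem checkRCs_F4 : checkRCs chevF4 = true := by decide +kernel
theorem checkRCs_E6 : checkRCs chevE6 = true := by decide +kernel
theorem checkRCs_E7 : checkRCs chevE7 = true := by decide +kernel
theorem checkRCs_E8 : checkRCs chevE8 = true := by decide +kernel

theorem checkRCs_of_mem {D : ChevalleyDatum}
    (hD : D ∈ [chevG2, chevB2, chevD4, chevF4, chevE6, chevE7, chevE8]) :
    checkRCs D = true := by
  simp only [List.mem_cons, List.not_mem_nil, or_false] at hD
  rcases hD with rfl | rfl | rfl | rfl | rfl | rfl | rfl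
  · exact checkRCs_G2
  · exact checkRCs_B2
  · exact checkRCs_D4
  · exact checkRCs_F4
  · exact checkRCs_E6
  · exact checkRCs_E7
  · exact checkRCs_E8

section

variable {D : ChevalleyDatum} {F : Type*} [Field F]

/-- the character of the root lattice with the values `c` on the fundamental roots -/
noncomputable def rcChar (D : ChevalleyDatum) {F : Type*} [Field F] (c : Fin D.rank → Fˣ)
    (r : ℕ) : Fˣ :=
  ∏ t : Fin D.rank, c t ^ rc D r t

theorem rcChar_isRootCharacter
    (hD : D ∈ [chevG2, chevB2, chevD4, chevF4, chevE6, chevE7, chevE8])
    (c : Fin D.rank → Fˣ) : D.IsRootCharacter (rcChar D c) := by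
  refine ⟨fun r hr => ?_, fun r s k hr hs hk => ?_⟩
  · unfold rcChar
    rw [← Finset.prod_inv_distrib]
    apply Finset.prod_congr rfl
    intro t _
    have := (rc_isWt hD t.isLt).1 r hr
    simp only at this
    rw [this, _root_.zpow_neg]
  · unfold rcChar
    rw [← Finset.prod_mul_distrib]
    apply Finset.prod_congr rfl
    intro t _
    unfold ChevalleyDatum.chainRoot at hk
    rw [Nat.sub_self] at hk
    cases hz : (D.chainEntry r s)[0]? with
    | none => rw [hz] at hk; simp at hk
    | some z =>
      rw [hz] at hk
      simp only [Option.map_some, Option.some.injEq] at hk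
      have hlen : 0 < (D.chainEntry r s).length := by
        by_contra hn
        rw [List.getElem?_eq_none (by omega)] at hz
        exact absurd hz (by simp)
      have hz' : (D.chainEntry r s)[0]'hlen = z := by
        rw [List.getElem?_eq_getElem hlen] at hz
        exact Option.some.inj hz
      have hmem : (z, 0) ∈ (D.chainEntry r s).zipIdx := by
        rw [List.mem_zipIdx_iff_getElem?]
        simpa using hz
      have := (rc_isWt hD t.isLt).2 r hr s hs (z, 0) hmem
      simp only [Nat.cast_zero, zero_add, one_mul] at this
      rw [← hk, this, _root_.zpow_add, mul_comm]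

theorem rcChar_simple (hD : D ∈ [chevG2, chevB2, chevD4, chevF4, chevE6, chevE7, chevE8])
    (c : Fin D.rank → Fˣ) (i : Fin D.rank) : rcChar D c (D.simple i) = c i := by
  have h := checkRCs_of_mem hD
  simp only [checkRCs, forallLtF_eq_true, decide_eq_true_eq] at h
  unfold rcChar
  rw [Finset.prod_eq_single i]
  · rw [h i i.isLt i i.isLt, if_pos rfl, zpow_one]
  · intro t _ hti
    rw [h i i.isLt t t.isLt, if_neg (fun e => hti (Fin.ext e)), zpow_zero]
  · intro hi
    exact absurd (Finset.mem_univ i) hi

end

end Cfsg.Agent.Lib.Helper8.Chev
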