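import Cfsg.Agent.Lib.Helper8.ChevSL2a

set_option autoImplicit false

/-! # The `SL₂` of a root: the relation `n_r(c) x_r(u) n_r(c)⁻¹ = x_{-r}(-c⁻²u)` -/

namespace Cfsg.Agent.Lib.Helper8.Chev

open Cfsg.Lie Matrix

variable {D : ChevalleyDatum} {F : Type*} [Field F]

theorem nMat_eq_mul (s : ℕ) (c : F) :
    D.nMat F s c = xN D F s c * xN D F (D.neg s) (-c⁻¹) * xN D F s c := by
  rw [nMat_eq_wN]
  unfold ChevalleyDatum.nWord
  rw [wN_cons, wN_cons, wN_cons, wN_nil, Matrix.mul_one, Matrix.mul_assoc]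

/-- the relation for a fundamental root -/
theorem nMat_mul_xN_simple (hD : D ∈ [chevG2, chevB2, chevD4, chevF4, chevE6, chevE7, chevE8])
    {i : ℕ} (hi : i < D.rank) {c : F} (hc : c ≠ 0) (u : F) :
    D.nMat F (D.simple i) c * xN D F (D.simple i) u =
      xN D F (D.neg (D.simple i)) (-(c⁻¹ * c⁻¹ * u)) * D.nMat F (D.simple i) c := by
  have J := validJ_of_mem hD
  have V1 := valid1_of_mem hD
  have H := validH_of_mem hD
  have hp : D.simple i < D.nroots := (J.S i hi).1
  have hnp := J.V.neg_lt hp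
  have hm : D.hMat F (D.simple i) c =
      diagC D (fun s => ((Units.mk0 c hc ^ aco D (D.simple i) s : Fˣ) : F)) := by
    rw [hMat_eq (D.simple i) hc, hG_eq J V1 H.hS H.hG hp]
  have hW := isWt_aco J.V J.T H.hsz H.wt (D.simple i)
  have hf : IsChar D (fun s => ((Units.mk0 c hc ^ aco D (D.simple i) s : Fˣ) : F)) :=
    isChar_of_isWt J.V hW (Units.mk0 c hc)
  have h1 := nS_conj J V1 H.nS hi hp (R := F) u
  rw [reflectRoot_simple, (nS_props J H.nS hi).1] at h1
  have haco : aco D (D.simple i) (D.neg (D.simple i)) = -2 := by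
    have := hW.1 _ hp
    simp only [] at this
    rw [this, aco_self hD hp]
  rw [nMat_eq_hMat_mul J.V V1 hp c, Matrix.mul_assoc, nMat_one_eq, h1, ← Matrix.mul_assoc, hm,
    diagC_mul_xN J.V hf hnp, Matrix.mul_assoc]
  congr 2
  rw [haco, Units.val_zpow_eq_zpow_val, Units.val_mk0, _root_.zpow_neg, zpow_two, mul_inv]
  push_cast
  ring

/-- the relation for every root -/
theorem nMat_mul_xN (hD : D ∈ [chevG2, chevB2, chevD4, chevF4, chevE6, chevE7, chevE8])
    {r : ℕ} (hr : r < D.nroots) {c : F} (hc : c ≠ 0) (u : F) :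
    D.nMat F r c * xN D F r u = xN D F (D.neg r) (-(c⁻¹ * c⁻¹ * u)) * D.nMat F r c := by
  have J := validJ_of_mem hD
  have V1 := valid1_of_mem hD
  have H := validH_of_mem hD
  obtain ⟨l, j, hl, hj, rfl⟩ := reach_of_mem hD hr
  have hs : D.simple j < D.nroots := (J.S j hj).1
  obtain ⟨_, _, ε, hε, e1, e2⟩ := rootPermN_nP (F := F) J V1 H.nS l hl (D.simple j) hs
  set M : Matrix D.Idx D.Idx F := ((nP D F l : GL D.Idx F) : Matrix D.Idx D.Idx F) with hMdef
  set Mi : Matrix D.Idx D.Idx F := (((nP D F l)⁻¹ : GL D.Idx F) : Matrix D.Idx D.Idx F) with hMidef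
  have hMMi : M * Mi = 1 := by
    rw [hMdef, hMidef, ← Units.val_mul, mul_inv_cancel, Units.val_one]
  set r := reflWord D l (D.simple j) with hrdef
  have hεε : ε * ε = 1 := by rcases hε with rfl | rfl <;> simp
  -- conjugating `n_s(c)`
  have hn : ∀ c : F, M * D.nMat F (D.simple j) c = D.nMat F r (ε * c) * M := by
    intro c
    rw [nMat_eq_mul, nMat_eq_mul]
    have e : -(ε * c)⁻¹ = ε * -c⁻¹ := by
      rcases hε with rfl | rfl <;> simp [inv_neg]
    rw [e]
    calc M * (xN D F (D.simple j) c * xN D F (D.neg (D.simple j)) (-c⁻¹) * xN D F (D.simple j) c)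
        = (M * xN D F (D.simple j) c) * xN D F (D.neg (D.simple j)) (-c⁻¹) *
            xN D F (D.simple j) c := by simp only [Matrix.mul_assoc]
      _ = xN D F r (ε * c) * (M * xN D F (D.neg (D.simple j)) (-c⁻¹)) *
            xN D F (D.simple j) c := by rw [e1]; simp only [Matrix.mul_assoc]
      _ = xN D F r (ε * c) * xN D F (D.neg r) (ε * -c⁻¹) * (M * xN D F (D.simple j) c) := by
          rw [e2]; simp only [Matrix.mul_assoc]
      _ = xN D F r (ε * c) * xN D F (D.neg r) (ε * -c⁻¹) * xN D F r (ε * c) * M := by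
          rw [e1]; simp only [Matrix.mul_assoc]
  have hc' : ε * c ≠ 0 := by rcases hε with rfl | rfl <;> simpa using hc
  have key : D.nMat F r (ε * (ε * c)) * xN D F r (ε * (ε * u)) * M =
      xN D F (D.neg r) (ε * -((ε * c)⁻¹ * (ε * c)⁻¹ * (ε * u))) * D.nMat F r (ε * (ε * c)) * M := by
    calc D.nMat F r (ε * (ε * c)) * xN D F r (ε * (ε * u)) * M
        = D.nMat F r (ε * (ε * c)) * (M * xN D F (D.simple j) (ε * u)) := by
          rw [e1, Matrix.mul_assoc]
      _ = (M * D.nMat F (D.simple j) (ε * c)) * xN D F (D.simple j) (ε * u) := by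
          rw [hn, Matrix.mul_assoc]
      _ = M * (xN D F (D.neg (D.simple j)) (-((ε * c)⁻¹ * (ε * c)⁻¹ * (ε * u))) *
            D.nMat F (D.simple j) (ε * c)) := by
          rw [Matrix.mul_assoc, nMat_mul_xN_simple hD hj hc']
      _ = xN D F (D.neg r) (ε * -((ε * c)⁻¹ * (ε * c)⁻¹ * (ε * u))) *
            (M * D.nMat F (D.simple j) (ε * c)) := by
          rw [← Matrix.mul_assoc, e2, Matrix.mul_assoc]
      _ = xN D F (D.neg r) (ε * -((ε * c)⁻¹ * (ε * c)⁻¹ * (ε * u))) *
            D.nMat F r (ε * (ε * c)) * M := by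
          rw [hn, Matrix.mul_assoc]
  have key2 := congrArg (fun A => A * Mi) key
  simp only [Matrix.mul_assoc, hMMi, Matrix.mul_one] at key2
  have e3 : ε * (ε * c) = c := by rw [← mul_assoc, hεε, one_mul]
  have e4 : ε * (ε * u) = u := by rw [← mul_assoc, hεε, one_mul]
  have e5 : ε * -((ε * c)⁻¹ * (ε * c)⁻¹ * (ε * u)) = -(c⁻¹ * c⁻¹ * u) := by
    rcases hε with rfl | rfl <;> simp [inv_neg, mul_assoc]
  rw [e3, e4, e5] at key2
  rw [key2]

end Cfsg.Agent.Lib.Helper8.Chev
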