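import Cfsg.Agent.Lib.Helper8.ChevAu4
import Cfsg.Agent.S1030

set_option autoImplicit false

/-! Rank one computations through the homomorphism from `SL₂`. -/

namespace Cfsg.Agent.Lib.Helper8.Chev

open Cfsg.Lie Matrix Cfsg.Agent.Lib.Helper3

section SL2

variable {F : Type*} [Field F]

/-- upper unitriangular matrices -/
def upS (t : F) : Matrix.SpecialLinearGroup (Fin 2) F :=
  ⟨!![1, t; 0, 1], by simp [Matrix.det_fin_two]⟩

/-- lower unitriangular matrices -/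
def loS (t : F) : Matrix.SpecialLinearGroup (Fin 2) F :=
  ⟨!![1, 0; t, 1], by simp [Matrix.det_fin_two]⟩

theorem coe_upS (t : F) : ((upS t : Matrix.SpecialLinearGroup (Fin 2) F) :
    Matrix (Fin 2) (Fin 2) F) = !![1, t; 0, 1] := rfl

theorem coe_loS (t : F) : ((loS t : Matrix.SpecialLinearGroup (Fin 2) F) :
    Matrix (Fin 2) (Fin 2) F) = !![1, 0; t, 1] := rfl

/-- the diagonal matrix `diag(t, t⁻¹)` as the word `h(t) = n(t) n(-1)` -/
def dgS (t : F) : Matrix.SpecialLinearGroup (Fin 2) F :=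
  upS t * loS (-t⁻¹) * upS t * (upS (-1) * loS (-(-1 : F)⁻¹) * upS (-1))

theorem sl2_id1 {t : F} (ht : t ≠ 0) :
    upS 1 * loS (-(1 : F)⁻¹) * upS 1 * upS t = dgS (-t⁻¹) * upS (-t) * loS t⁻¹ := by
  unfold dgS
  ext i j
  simp only [Matrix.SpecialLinearGroup.coe_mul, coe_upS, coe_loS]
  fin_cases i <;> fin_cases j <;>
    simp [Matrix.mul_apply, Fin.sum_univ_two]
  all_goals (try field_simp)
  all_goals (try ring_nf)
  all_goals (try simp)

theorem sl2_id2 {s : F} (hs : 1 + s ≠ 0) :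
    upS 1 * loS s * upS 1 =
      loS (s / (1 + s)) * (dgS (1 + s) * upS ((2 + s) / (1 + s))) := by
  unfold dgS
  ext i j
  simp only [Matrix.SpecialLinearGroup.coe_mul, coe_upS, coe_loS]
  fin_cases i <;> fin_cases j <;>
    simp [Matrix.mul_apply, Fin.sum_univ_two]
  all_goals (try field_simp)
  all_goals (try ring_nf)
  all_goals (try simp)

end SL2

section

variable {D : ChevalleyDatum} {F : Type*} [Field F]

/-- the homomorphism from `SL₂` attached to a root -/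
theorem exists_phi (hD : D ∈ [chevG2, chevB2, chevD4, chevF4, chevE6, chevE7, chevE8])
    {r : ℕ} (hr : r < D.nroots) :
    ∃ φ : Matrix.SpecialLinearGroup (Fin 2) F →* GL D.Idx F,
      (∀ t : F, ((φ (upS t) : GL D.Idx F) : Matrix D.Idx D.Idx F) = D.x F r t) ∧
      (∀ t : F, ((φ (loS t) : GL D.Idx F) : Matrix D.Idx D.Idx F) = D.x F (D.neg r) t) := by
  obtain ⟨φ, -, h⟩ := Cfsg.Agent.S1030.result (F := F) D hD r hr
  exact ⟨φ, fun t => (h (upS t) t).1 rfl, fun t => (h (loS t) t).2 rfl⟩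

theorem phi_dgS {r : ℕ} {φ : Matrix.SpecialLinearGroup (Fin 2) F →* GL D.Idx F}
    (h1 : ∀ t : F, ((φ (upS t) : GL D.Idx F) : Matrix D.Idx D.Idx F) = D.x F r t)
    (h2 : ∀ t : F, ((φ (loS t) : GL D.Idx F) : Matrix D.Idx D.Idx F) = D.x F (D.neg r) t)
    (t : F) : ((φ (dgS t) : GL D.Idx F) : Matrix D.Idx D.Idx F) = D.hMat F r t := by
  unfold dgS
  simp only [map_mul, Units.val_mul, h1, h2]
  rw [hMat_eq_wN]
  simp only [ChevalleyDatum.hWord, ChevalleyDatum.nWord, List.cons_append, List.nil_append,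
    wN_cons, wN_nil, x_eq_xN, Matrix.mul_one, Matrix.mul_assoc]

theorem phi_nS {r : ℕ} {φ : Matrix.SpecialLinearGroup (Fin 2) F →* GL D.Idx F}
    (h1 : ∀ t : F, ((φ (upS t) : GL D.Idx F) : Matrix D.Idx D.Idx F) = D.x F r t)
    (h2 : ∀ t : F, ((φ (loS t) : GL D.Idx F) : Matrix D.Idx D.Idx F) = D.x F (D.neg r) t)
    (t : F) : ((φ (upS t * loS (-t⁻¹) * upS t) : GL D.Idx F) : Matrix D.Idx D.Idx F) =
      D.nMat F r t := by
  simp only [map_mul, Units.val_mul, h1, h2]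
  rw [nMat_eq_wN]
  simp only [ChevalleyDatum.nWord, wN_cons, wN_nil, x_eq_xN, Matrix.mul_one, Matrix.mul_assoc]

/-- an element of `N` in `B V` lies in `B` -/
theorem monomial_borel_neg (hD : D ∈ [chevG2, chevB2, chevD4, chevF4, chevE6, chevE7, chevE8])
    {n b v : GL D.Idx F} (hn : n ∈ D.monomialSubgroup F) (hb : b ∈ D.borelSubgroup F)
    (hv : v ∈ D.negUnipotent F) (e : n = b * v) : n ∈ D.borelSubgroup F := by
  have V := valid0_of_mem hD
  have V1 := valid1_of_mem hD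
  have P := posP_of_mem hD
  obtain ⟨n₀, hn₀, σ₀, τ₀, hσ₀, hτ₀, h1, h2⟩ := exists_w0 (F := F) hD
  -- `v = n₀ u₀ n₀⁻¹`
  have hVle : D.negUnipotent F ≤ (D.posUnipotent F).map (MulAut.conj n₀).toMonoidHom := by
    unfold ChevalleyDatum.negUnipotent
    rw [Subgroup.closure_le]
    rintro g ⟨s, t, hs, hg⟩
    have hneg := (P s hs.1).2.mp hs
    obtain ⟨ε, he⟩ := rootPerm_conj hτ₀ hs.1 t g hg
    have hlt := (hτ₀ s hs.1).1
    have hpos := (P _ hlt).1.mpr (h2 s hneg)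
    have hu : n₀⁻¹ * g * n₀⁻¹⁻¹ ∈ D.posUnipotent F :=
      Subgroup.subset_closure ⟨τ₀ s, ε * t, hpos, he⟩
    rw [SetLike.mem_coe, Subgroup.mem_map]
    refine ⟨n₀⁻¹ * g * n₀⁻¹⁻¹, hu, ?_⟩
    show n₀ * (n₀⁻¹ * g * n₀⁻¹⁻¹) * n₀⁻¹ = g
    group
  obtain ⟨u₀, hu₀, hv0⟩ := hVle hv
  have hv0' : v = n₀ * u₀ * n₀⁻¹ := hv0.symm
  have hn₀G := monomial_le_group V V1 hn₀
  have hnG := monomial_le_group V V1 hn
  have hbG := borel_le_group V V1 hb
  have hu₀G := pos_le_group hu₀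
  set PP := chevBN hD F with hPP
  have hmem : (⟨n₀⁻¹ * n⁻¹, mul_mem (inv_mem hn₀G) (inv_mem hnG)⟩ : ↥(D.group F)) ∈
      BN.C PP ⟨n₀⁻¹, inv_mem hn₀G⟩ := by
    rw [BN.mem_C]
    refine ⟨⟨u₀⁻¹, inv_mem hu₀G⟩, (mem_chevBN_B hD).mpr (pos_le_borel (inv_mem hu₀)),
      ⟨b⁻¹, inv_mem hbG⟩, (mem_chevBN_B hD).mpr (inv_mem hb), ?_⟩
    apply Subtype.ext
    show n₀⁻¹ * n⁻¹ = u₀⁻¹ * n₀⁻¹ * b⁻¹
    rw [e, hv0']
    group
  have hrel := BN.rel_of_mem_C PP ((mem_chevBN_N hD).mpr (inv_mem hn₀))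
    ((mem_chevBN_N hD).mpr (mul_mem (inv_mem hn₀) (inv_mem hn))) hmem
  have h3 := (mem_chevBN_B hD).mp hrel
  have h4 : n⁻¹ ∈ D.borelSubgroup F := by
    have e2 : ((((⟨n₀⁻¹, inv_mem hn₀G⟩ : ↥(D.group F))⁻¹ *
        (⟨n₀⁻¹ * n⁻¹, mul_mem (inv_mem hn₀G) (inv_mem hnG)⟩ : ↥(D.group F)) : ↥(D.group F))) :
        GL D.Idx F) = n⁻¹ := by
      show (n₀⁻¹)⁻¹ * (n₀⁻¹ * n⁻¹) = n⁻¹
      group
    rw [← e2]
    exact h3
  have := inv_mem h4
  rwa [inv_inv] at this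

end

end Cfsg.Agent.Lib.Helper8.Chev
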