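import Mathlib
import Cfsg.Agent.Lib.Helper28.CG.Defs
import Cfsg.Agent.Lib.Helper10.CGS5

/-!
# S3412 farm (helper28), helper8's common infrastructure for the leaves [S7a], [S7b]:
coordinates `(i, j, ρ)` (centre `ptVec i`, axis `ptVec j`, sign `ρ`) of the transvection vertices of `SL(3,3)`.
-/

set_option autoImplicit false

namespace Cfsg.Agent.Lib.Helper28.CG.Helper8

open Matrix

/-- the normalised transvection with centre `ptVec i`, axis `ptVec j` and sign `ρ` -/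
def T (i j : Fin 13) (ρ : ZMod 3) : Matrix (Fin 3) (Fin 3) (ZMod 3) := tv (ptVec i) (ρ • ptVec j)

theorem ptVec_ne_zero : ∀ i : Fin 13, ptVec i ≠ 0 := by decide

theorem exists_ptVec : ∀ v : Vec, v ≠ 0 → ∃ i : Fin 13, v = ptVec i ∨ v = -ptVec i := by decide

theorem ptVec_inj : ∀ i i' : Fin 13, (ptVec i = ptVec i' ∨ ptVec i = -ptVec i') → i = i' := by
  decide

theorem rho_cases : ∀ ρ : ZMod 3, ρ ≠ 0 → ρ = 1 ∨ ρ = -1 := by decide

theorem inc_iff (i j : Fin 13) : inc i j ↔ ptVec i ⬝ᵥ ptVec j = 0 := Iff.rfl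

theorem isFlagPair_T {i j : Fin 13} {ρ : ZMod 3} (h : inc i j) (hρ : ρ ≠ 0) :
    IsFlagPair (ptVec i) (ρ • ptVec j) := by
  refine ⟨ptVec_ne_zero i, smul_ne_zero hρ (ptVec_ne_zero j), ?_⟩
  rw [smul_dotProduct, dotProduct_comm]
  have : ptVec i ⬝ᵥ ptVec j = 0 := h
  rw [this, smul_zero]

/-- the same matrix with the sign on the centre -/
theorem T_eq_tv_smul (i j : Fin 13) (ρ : ZMod 3) : T i j ρ = tv (ρ • ptVec i) (ptVec j) := by
  unfold T tv
  rw [vecMulVec_smul, smul_vecMulVec]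

theorem isFlagPair_T' {i j : Fin 13} {ρ : ZMod 3} (h : inc i j) (hρ : ρ ≠ 0) :
    IsFlagPair (ρ • ptVec i) (ptVec j) := by
  refine ⟨smul_ne_zero hρ (ptVec_ne_zero i), ptVec_ne_zero j, ?_⟩
  rw [dotProduct_smul, dotProduct_comm]
  have : ptVec i ⬝ᵥ ptVec j = 0 := h
  rw [this, smul_zero]

/-- the matrix of a vertex -/
abbrev mat (x : V S33) : Matrix (Fin 3) (Fin 3) (ZMod 3) := ((x.1 : S33) : Matrix (Fin 3) (Fin 3) (ZMod 3))

theorem mat_injective : Function.Injective mat := by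
  intro x y h
  exact Subtype.ext (Subtype.ext h)

/-- the vertex with a given matrix -/
def mkV (M : Matrix (Fin 3) (Fin 3) (ZMod 3)) (hdet : M.det = 1) (hne : M ≠ 1) : V S33 :=
  ⟨⟨M, hdet⟩, fun h => hne (by
    have := congrArg (fun g : S33 => (g : Matrix (Fin 3) (Fin 3) (ZMod 3))) h
    simpa using this)⟩

@[simp] theorem mat_mkV (M : Matrix (Fin 3) (Fin 3) (ZMod 3)) (hdet : M.det = 1) (hne : M ≠ 1) :
    mat (mkV M hdet hne) = M := rfl

theorem det_T {i j : Fin 13} {ρ : ZMod 3} (h : inc i j) (hρ : ρ ≠ 0) : (T i j ρ).det = 1 :=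
  det_tv _ _ (isFlagPair_T h hρ).2.2

theorem T_ne_one {i j : Fin 13} {ρ : ZMod 3} (h : inc i j) (hρ : ρ ≠ 0) : T i j ρ ≠ 1 :=
  tv_ne_one _ _ (isFlagPair_T h hρ)

/-- the vertex `T i j ρ` -/
def vT (i j : Fin 13) (ρ : ZMod 3) (h : inc i j) (hρ : ρ ≠ 0) : V S33 :=
  mkV (T i j ρ) (det_T h hρ) (T_ne_one h hρ)

@[simp] theorem mat_vT (i j : Fin 13) (ρ : ZMod 3) (h : inc i j) (hρ : ρ ≠ 0) :
    mat (vT i j ρ h hρ) = T i j ρ := rfl

theorem isTv_of_mat_eq_T {x : V S33} {i j : Fin 13} {ρ : ZMod 3} (h : inc i j) (hρ : ρ ≠ 0)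
    (hx : mat x = T i j ρ) : IsTv x :=
  ⟨ptVec i, ρ • ptVec j, isFlagPair_T h hρ, hx⟩

/-- every transvection vertex has coordinates -/
theorem exists_coord {x : V S33} (hx : IsTv x) :
    ∃ (i j : Fin 13) (ρ : ZMod 3), inc i j ∧ ρ ≠ 0 ∧ mat x = T i j ρ := by
  obtain ⟨v, φ, ⟨hv, hφ, hvφ⟩, hm0⟩ := hx
  have hm : mat x = tv v φ := hm0
  obtain ⟨i, hi⟩ := exists_ptVec v hv
  obtain ⟨j, hj⟩ := exists_ptVec φ hφ
  have hone : (1 : ZMod 3) ≠ 0 := by decide
  have hneg : (-1 : ZMod 3) ≠ 0 := by decide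
  rcases hi with hi | hi <;> rcases hj with hj | hj
  · refine ⟨i, j, 1, ?_, hone, ?_⟩
    · rw [hi, hj, dotProduct_comm] at hvφ; exact hvφ
    · show mat x = T i j 1
      rw [hm, hi, hj]; unfold T; rw [one_smul]
  · refine ⟨i, j, -1, ?_, hneg, ?_⟩
    · rw [hi, hj, neg_dotProduct, neg_eq_zero, dotProduct_comm] at hvφ; exact hvφ
    · show mat x = T i j (-1)
      rw [hm, hi, hj]; unfold T; rw [neg_one_smul]
  · refine ⟨i, j, -1, ?_, hneg, ?_⟩
    · rw [hi, hj, dotProduct_neg, neg_eq_zero, dotProduct_comm] at hvφ; exact hvφ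
    · show mat x = T i j (-1)
      rw [hm, hi, hj]; unfold T tv; rw [neg_one_smul, neg_vecMulVec, vecMulVec_neg]
  · refine ⟨i, j, 1, ?_, hone, ?_⟩
    · rw [hi, hj, dotProduct_neg, neg_dotProduct, neg_neg, dotProduct_comm] at hvφ; exact hvφ
    · show mat x = T i j 1
      rw [hm, hi, hj]; unfold T tv; rw [one_smul, neg_vecMulVec, vecMulVec_neg, neg_neg]

/-- commutation of vertices in coordinates -/
theorem comm_iff {x y : V S33} {i j k l : Fin 13} {ρ τ : ZMod 3}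
    (hij : inc i j) (hρ : ρ ≠ 0) (hkl : inc k l) (hτ : τ ≠ 0)
    (hx : mat x = T i j ρ) (hy : mat y = T k l τ) :
    comm x y ↔ inc k j ∧ inc i l := by
  have h1 : comm x y ↔ mat x * mat y = mat y * mat x := by
    unfold comm
    constructor
    · intro h
      have := congrArg (fun g : S33 => (g : Matrix (Fin 3) (Fin 3) (ZMod 3))) h
      simpa using this
    · intro h
      apply Subtype.ext
      simpa using h
  rw [h1, hx, hy]
  unfold T
  rw [tv_mul_comm_iff _ _ _ _ (isFlagPair_T hij hρ) (isFlagPair_T hkl hτ)]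
  rw [smul_dotProduct, smul_dotProduct, smul_eq_mul, smul_eq_mul,
    mul_eq_zero_iff_left hρ, mul_eq_zero_iff_left hτ]
  rw [dotProduct_comm (ptVec j) (ptVec k), dotProduct_comm (ptVec l) (ptVec i)]
  exact Iff.rfl

theorem smul_ptVec_inj : ∀ ρ τ : ZMod 3, ρ ≠ 0 → τ ≠ 0 → ∀ j l : Fin 13,
    (τ • ptVec l = ρ • ptVec j ∨ τ • ptVec l = -(ρ • ptVec j)) → j = l := by decide

/-- the centre and axis indices are determined by the matrix -/
theorem coord_unique {i j k l : Fin 13} {ρ τ : ZMod 3}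
    (hij : inc i j) (hρ : ρ ≠ 0) (hkl : inc k l) (hτ : τ ≠ 0)
    (h : T i j ρ = T k l τ) : i = k ∧ j = l := by
  unfold T at h
  rw [tv_eq_iff _ _ _ _ (isFlagPair_T hij hρ) (isFlagPair_T hkl hτ)] at h
  rcases h with ⟨h1, h2⟩ | ⟨h1, h2⟩
  · exact ⟨(ptVec_inj k i (Or.inl h1)).symm, smul_ptVec_inj ρ τ hρ hτ j l (Or.inl h2)⟩
  · exact ⟨(ptVec_inj k i (Or.inr h1)).symm, smul_ptVec_inj ρ τ hρ hτ j l (Or.inr h2)⟩

/-- membership in `kap (inl i)`: the centre is `i` -/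
theorem mem_kap_inl {x : V S33} {q m : Fin 13} {ρ : ZMod 3} (hqm : inc q m) (hρ : ρ ≠ 0)
    (hx : mat x = T q m ρ) (i : Fin 13) : x ∈ kap (Sum.inl i) ↔ q = i := by
  constructor
  · rintro ⟨φ, hφ, hm⟩
    have hm' : mat x = tv (ptVec i) φ := hm
    rw [hx] at hm'
    unfold T at hm'
    rw [tv_eq_iff _ _ _ _ (isFlagPair_T hqm hρ) hφ] at hm'
    rcases hm' with ⟨h1, _⟩ | ⟨h1, _⟩
    · exact (ptVec_inj i q (Or.inl h1)).symm
    · exact (ptVec_inj i q (Or.inr h1)).symm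
  · rintro rfl
    exact ⟨ρ • ptVec m, isFlagPair_T hqm hρ, hx⟩

/-- membership in `kap (inr j)`: the axis is `j` -/
theorem mem_kap_inr {x : V S33} {q m : Fin 13} {ρ : ZMod 3} (hqm : inc q m) (hρ : ρ ≠ 0)
    (hx : mat x = T q m ρ) (j : Fin 13) : x ∈ kap (Sum.inr j) ↔ m = j := by
  constructor
  · rintro ⟨v, hv, hm⟩
    have hm' : mat x = tv v (ptVec j) := hm
    rw [hx, T_eq_tv_smul] at hm'
    rw [tv_eq_iff _ _ _ _ (isFlagPair_T' hqm hρ) hv] at hm'
    rcases hm' with ⟨_, h2⟩ | ⟨_, h2⟩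
    · exact (ptVec_inj j m (Or.inl h2)).symm
    · exact (ptVec_inj j m (Or.inr h2)).symm
  · rintro rfl
    refine ⟨ρ • ptVec q, isFlagPair_T' hqm hρ, ?_⟩
    show mat x = tv (ρ • ptVec q) (ptVec m)
    rw [hx, T_eq_tv_smul]

theorem isTv_of_mem_kap {x : V S33} {a : Om} (h : x ∈ kap a) : IsTv x := by
  cases a with
  | inl i => obtain ⟨φ, hφ, hm⟩ := h; exact ⟨ptVec i, φ, hφ, hm⟩
  | inr j => obtain ⟨v, hv, hm⟩ := h; exact ⟨v, ptVec j, hv, hm⟩

theorem exists_line : ∀ i : Fin 13, ∃ j : Fin 13, inc i j := by decide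

theorem exists_point : ∀ j : Fin 13, ∃ i : Fin 13, inc i j := by decide

theorem exists_other_line : ∀ i j : Fin 13, ∃ j' : Fin 13, j' ≠ j ∧ inc i j' := by decide

theorem exists_other_point : ∀ j i : Fin 13, ∃ i' : Fin 13, i' ≠ i ∧ inc i' j := by decide

theorem one_ne_zero3 : (1 : ZMod 3) ≠ 0 := by decide

theorem vT_mem_inl (i j : Fin 13) (h : inc i j) : vT i j 1 h one_ne_zero3 ∈ kap (Sum.inl i) :=
  (mem_kap_inl h one_ne_zero3 (mat_vT i j 1 h one_ne_zero3) i).mpr rfl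

theorem vT_mem_inr (i j : Fin 13) (h : inc i j) : vT i j 1 h one_ne_zero3 ∈ kap (Sum.inr j) :=
  (mem_kap_inr h one_ne_zero3 (mat_vT i j 1 h one_ne_zero3) j).mpr rfl

/-- two distinct points lie on at most one line, two distinct lines meet in at most one point -/
theorem quad : ∀ i j k l : Fin 13, inc i j → inc k l → inc i l → inc k j → (i = k ∨ j = l) := by
  decide

end Cfsg.Agent.Lib.Helper28.CG.Helper8
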