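import Mathlib
import Cfsg.Agent.Lib.Helper28.CG.Defs
import Cfsg.Agent.Lib.Helper10.CGS5
import Cfsg.Agent.Lib.Helper8.CGCoord

/-!
# S3412 farm (helper28), leaf [S7a] `KK_S33_eq` (helper8)

With `TT` = the transvection vertices: the common `TT`-neighbourhoods of commuting non-twin pairs are
exactly the 13 sets "centre `p`" and the 13 sets "axis `l`".
-/

set_option autoImplicit false

namespace Cfsg.Agent.Lib.Helper28.CG

open Matrix

namespace Helper8

/-- two transvections with the same centre and different axes: the common neighbourhood is the set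
of all transvections with that centre -/
theorem nbhd_point (hT : ∀ x : V S33, x ∈ TT S33 ↔ IsTv x) {t u : V S33} {i j l : Fin 13}
    {σ τ : ZMod 3} (hij : inc i j) (hσ : σ ≠ 0) (hil : inc i l) (hτ : τ ≠ 0)
    (ht : mat t = T i j σ) (hu : mat u = T i l τ) (hjl : j ≠ l) :
    {w | w ∈ TT S33 ∧ comm w t ∧ comm w u} = kap (Sum.inl i) := by
  ext w
  constructor
  · rintro ⟨hw, h1, h2⟩
    obtain ⟨q, m, ρ, hqm, hρ, hm⟩ := exists_coord ((hT w).mp hw)
    have c1 := (comm_iff hqm hρ hij hσ hm ht).mp h1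
    have c2 := (comm_iff hqm hρ hil hτ hm hu).mp h2
    -- q on j and on l, i on j and on l
    have : q = i := by
      rcases quad q j i l c1.2 hil c2.2 hij with h | h
      · exact h
      · exact absurd h hjl
    exact (mem_kap_inl hqm hρ hm i).mpr this
  · intro hw
    have hw' := isTv_of_mem_kap hw
    obtain ⟨q, m, ρ, hqm, hρ, hm⟩ := exists_coord hw'
    have hq : q = i := (mem_kap_inl hqm hρ hm i).mp hw
    subst hq
    exact ⟨(hT w).mpr hw', (comm_iff hqm hρ hij hσ hm ht).mpr ⟨hqm, hij⟩,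
      (comm_iff hqm hρ hil hτ hm hu).mpr ⟨hqm, hil⟩⟩

/-- two transvections with the same axis and different centres: the common neighbourhood is the set
of all transvections with that axis -/
theorem nbhd_line (hT : ∀ x : V S33, x ∈ TT S33 ↔ IsTv x) {t u : V S33} {i k j : Fin 13}
    {σ τ : ZMod 3} (hij : inc i j) (hσ : σ ≠ 0) (hkj : inc k j) (hτ : τ ≠ 0)
    (ht : mat t = T i j σ) (hu : mat u = T k j τ) (hik : i ≠ k) :
    {w | w ∈ TT S33 ∧ comm w t ∧ comm w u} = kap (Sum.inr j) := by
  ext w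
  constructor
  · rintro ⟨hw, h1, h2⟩
    obtain ⟨q, m, ρ, hqm, hρ, hm⟩ := exists_coord ((hT w).mp hw)
    have c1 := (comm_iff hqm hρ hij hσ hm ht).mp h1
    have c2 := (comm_iff hqm hρ hkj hτ hm hu).mp h2
    -- i, k on m and on j
    have : m = j := by
      rcases quad i m k j c1.1 hkj hij c2.1 with h | h
      · exact absurd h hik
      · exact h
    exact (mem_kap_inr hqm hρ hm j).mpr this
  · intro hw
    have hw' := isTv_of_mem_kap hw
    obtain ⟨q, m, ρ, hqm, hρ, hm⟩ := exists_coord hw'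
    have hq : m = j := (mem_kap_inr hqm hρ hm j).mp hw
    subst hq
    exact ⟨(hT w).mpr hw', (comm_iff hqm hρ hij hσ hm ht).mpr ⟨hij, hqm⟩,
      (comm_iff hqm hρ hkj hτ hm hu).mpr ⟨hkj, hqm⟩⟩

/-- transvections with the same centre and the same axis are twins -/
theorem twin_of_same (hT : ∀ x : V S33, x ∈ TT S33 ↔ IsTv x) {t u : V S33} {i j : Fin 13}
    {σ τ : ZMod 3} (hij : inc i j) (hσ : σ ≠ 0) (hτ : τ ≠ 0)
    (ht : mat t = T i j σ) (hu : mat u = T i j τ) : twin t u := by
  intro w hw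
  obtain ⟨q, m, ρ, hqm, hρ, hm⟩ := exists_coord ((hT w).mp hw)
  rw [comm_iff hqm hρ hij hσ hm ht, comm_iff hqm hρ hij hτ hm hu]

end Helper8

open Helper8

/-- [S7a] the family `KK` of `SL(3,3)` consists of the 26 sets `kap a` -/
theorem KK_S33_eq (hT : ∀ x : V S33, x ∈ TT S33 ↔ IsTv x) : KK S33 = Set.range kap := by
  apply Set.eq_of_subset_of_subset
  · rintro K ⟨t, ht, u, hu, hcomm, hntw, rfl⟩
    obtain ⟨i, j, σ, hij, hσ, hmt⟩ := exists_coord ((hT t).mp ht)
    obtain ⟨k, l, τ, hkl, hτ, hmu⟩ := exists_coord ((hT u).mp hu)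
    have c := (comm_iff hij hσ hkl hτ hmt hmu).mp hcomm
    by_cases hik : i = k
    · subst hik
      by_cases hjl : j = l
      · subst hjl
        exact absurd (twin_of_same hT hij hσ hτ hmt hmu) hntw
      · exact ⟨Sum.inl i, (nbhd_point hT hij hσ hkl hτ hmt hmu hjl).symm⟩
    · have hjl : j = l := by
        rcases quad i j k l hij hkl c.2 c.1 with h | h
        · exact absurd h hik
        · exact h
      subst hjl
      exact ⟨Sum.inr j, (nbhd_line hT hij hσ hkl hτ hmt hmu hik).symm⟩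
  · rintro K ⟨a, rfl⟩
    cases a with
    | inl i =>
      obtain ⟨j, hij⟩ := exists_line i
      obtain ⟨l, hlj, hil⟩ := exists_other_line i j
      obtain ⟨q, hqi, hqj⟩ := exists_other_point j i
      have hjl : j ≠ l := fun h => hlj h.symm
      refine ⟨vT i j 1 hij one_ne_zero3, (hT _).mpr (isTv_of_mat_eq_T hij one_ne_zero3 rfl),
        vT i l 1 hil one_ne_zero3, (hT _).mpr (isTv_of_mat_eq_T hil one_ne_zero3 rfl), ?_, ?_, ?_⟩
      · exact (comm_iff hij one_ne_zero3 hil one_ne_zero3 rfl rfl).mpr ⟨hij, hil⟩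
      · intro htw
        have hw : vT q j 1 hqj one_ne_zero3 ∈ TT S33 :=
          (hT _).mpr (isTv_of_mat_eq_T hqj one_ne_zero3 rfl)
        have h1 : comm (vT q j 1 hqj one_ne_zero3) (vT i j 1 hij one_ne_zero3) :=
          (comm_iff hqj one_ne_zero3 hij one_ne_zero3 rfl rfl).mpr ⟨hij, hqj⟩
        have h2 := (htw _ hw).mp h1
        have c2 := (comm_iff hqj one_ne_zero3 hil one_ne_zero3 rfl rfl).mp h2
        rcases quad q j i l hqj hil c2.2 hij with h | h
        · exact hqi h
        · exact hjl h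
      · exact (nbhd_point hT hij one_ne_zero3 hil one_ne_zero3 rfl rfl hjl).symm
    | inr j =>
      obtain ⟨i, hij⟩ := exists_point j
      obtain ⟨k, hki, hkj⟩ := exists_other_point j i
      obtain ⟨m, hmj, him⟩ := exists_other_line i j
      have hik : i ≠ k := fun h => hki h.symm
      refine ⟨vT i j 1 hij one_ne_zero3, (hT _).mpr (isTv_of_mat_eq_T hij one_ne_zero3 rfl),
        vT k j 1 hkj one_ne_zero3, (hT _).mpr (isTv_of_mat_eq_T hkj one_ne_zero3 rfl), ?_, ?_, ?_⟩
      · exact (comm_iff hij one_ne_zero3 hkj one_ne_zero3 rfl rfl).mpr ⟨hkj, hij⟩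
      · intro htw
        have hw : vT i m 1 him one_ne_zero3 ∈ TT S33 :=
          (hT _).mpr (isTv_of_mat_eq_T him one_ne_zero3 rfl)
        have h1 : comm (vT i m 1 him one_ne_zero3) (vT i j 1 hij one_ne_zero3) :=
          (comm_iff him one_ne_zero3 hij one_ne_zero3 rfl rfl).mpr ⟨him, hij⟩
        have h2 := (htw _ hw).mp h1
        have c2 := (comm_iff him one_ne_zero3 hkj one_ne_zero3 rfl rfl).mp h2
        rcases quad i m k j him hkj hij c2.1 with h | h
        · exact hik h
        · exact hmj h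
      · exact (nbhd_line hT hij one_ne_zero3 hkj one_ne_zero3 rfl rfl hik).symm

end Cfsg.Agent.Lib.Helper28.CG
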