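import Mathlib
import Cfsg.Agent.Lib.Helper28.CG.Defs
import Cfsg.Agent.Lib.Helper10.CGS5
import Cfsg.Agent.Lib.Helper8.CGCoord

/-!
# S3412 farm (helper28), leaf [S7b] `kap_facts` (helper8)
-/

set_option autoImplicit false

namespace Cfsg.Agent.Lib.Helper28.CG

open Matrix

namespace Helper8

theorem inter_inl_inl {i i' : Fin 13} (h : i ≠ i') : kap (Sum.inl i) ∩ kap (Sum.inl i') = ∅ := by
  rw [Set.eq_empty_iff_forall_notMem]
  rintro x ⟨h1, h2⟩
  obtain ⟨q, m, ρ, hqm, hρ, hx⟩ := exists_coord (isTv_of_mem_kap h1)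
  have e1 := (mem_kap_inl hqm hρ hx i).mp h1
  have e2 := (mem_kap_inl hqm hρ hx i').mp h2
  exact h (e1.symm.trans e2)

theorem inter_inr_inr {j j' : Fin 13} (h : j ≠ j') : kap (Sum.inr j) ∩ kap (Sum.inr j') = ∅ := by
  rw [Set.eq_empty_iff_forall_notMem]
  rintro x ⟨h1, h2⟩
  obtain ⟨q, m, ρ, hqm, hρ, hx⟩ := exists_coord (isTv_of_mem_kap h1)
  have e1 := (mem_kap_inr hqm hρ hx j).mp h1
  have e2 := (mem_kap_inr hqm hρ hx j').mp h2
  exact h (e1.symm.trans e2)

theorem inter_inl_inr_nonempty (i j : Fin 13) :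
    (kap (Sum.inl i) ∩ kap (Sum.inr j)).Nonempty ↔ inc i j := by
  constructor
  · rintro ⟨x, h1, h2⟩
    obtain ⟨q, m, ρ, hqm, hρ, hx⟩ := exists_coord (isTv_of_mem_kap h1)
    have e1 := (mem_kap_inl hqm hρ hx i).mp h1
    have e2 := (mem_kap_inr hqm hρ hx j).mp h2
    rw [← e1, ← e2]; exact hqm
  · intro h
    exact ⟨vT i j 1 h one_ne_zero3, vT_mem_inl i j h, vT_mem_inr i j h⟩

theorem inter_inl_inr_ncard (i j : Fin 13) :
    (kap (Sum.inl i) ∩ kap (Sum.inr j)).ncard ≤ 2 := by
  have hsub : kap (Sum.inl i) ∩ kap (Sum.inr j) ⊆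
      {x | mat x = T i j 1} ∪ {x | mat x = T i j (-1)} := by
    rintro x ⟨h1, h2⟩
    obtain ⟨q, m, ρ, hqm, hρ, hx⟩ := exists_coord (isTv_of_mem_kap h1)
    have e1 := (mem_kap_inl hqm hρ hx i).mp h1
    have e2 := (mem_kap_inr hqm hρ hx j).mp h2
    subst e1 e2
    rcases rho_cases ρ hρ with rfl | rfl
    · left; exact hx
    · right; exact hx
  have hA : ({x | mat x = T i j 1} : Set (V S33)).ncard ≤ 1 := by
    rw [Set.ncard_le_one (Set.toFinite _)]
    intro a ha b hb
    exact mat_injective (ha.trans hb.symm)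
  have hB : ({x | mat x = T i j (-1)} : Set (V S33)).ncard ≤ 1 := by
    rw [Set.ncard_le_one (Set.toFinite _)]
    intro a ha b hb
    exact mat_injective (ha.trans hb.symm)
  calc (kap (Sum.inl i) ∩ kap (Sum.inr j)).ncard
      ≤ ({x | mat x = T i j 1} ∪ {x | mat x = T i j (-1)} : Set (V S33)).ncard :=
        Set.ncard_le_ncard hsub (Set.toFinite _)
    _ ≤ ({x | mat x = T i j 1} : Set (V S33)).ncard + ({x | mat x = T i j (-1)} : Set (V S33)).ncard :=
        Set.ncard_union_le _ _
    _ ≤ 2 := by omega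

end Helper8

open Helper8

/-- [S7b] the sets `kap a`: distinct, meeting exactly along the Levi graph, in at most two elements;
every transvection lies in two of them -/
theorem kap_facts :
    Function.Injective kap ∧
    (∀ a b : Om, a ≠ b → ((kap a ∩ kap b).Nonempty ↔ LeviAdj a b)) ∧
    (∀ a b : Om, a ≠ b → (kap a ∩ kap b).ncard ≤ 2) ∧
    (∀ x : V S33, IsTv x → ∃ a b : Om, a ≠ b ∧ x ∈ kap a ∧ x ∈ kap b) := by
  refine ⟨?_, ?_, ?_, ?_⟩
  · -- injectivity
    intro a b hab
    by_contra hne
    cases a with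
    | inl i =>
      cases b with
      | inl i' =>
        have hii : i ≠ i' := fun h => hne (by rw [h])
        obtain ⟨j, hj⟩ := exists_line i
        have hx := vT_mem_inl i j hj
        have hx' : vT i j 1 hj one_ne_zero3 ∈ kap (Sum.inl i) ∩ kap (Sum.inl i') :=
          ⟨hx, hab ▸ hx⟩
        rw [inter_inl_inl hii] at hx'
        exact hx'
      | inr j =>
        obtain ⟨j', hj', hinc⟩ := exists_other_line i j
        have hx := vT_mem_inl i j' hinc
        rw [hab] at hx
        exact hj' ((mem_kap_inr hinc one_ne_zero3 (mat_vT i j' 1 hinc one_ne_zero3) j).mp hx)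
    | inr j =>
      cases b with
      | inl i =>
        obtain ⟨i', hi', hinc⟩ := exists_other_point j i
        have hx := vT_mem_inr i' j hinc
        rw [hab] at hx
        exact hi' ((mem_kap_inl hinc one_ne_zero3 (mat_vT i' j 1 hinc one_ne_zero3) i).mp hx)
      | inr j' =>
        have hjj : j ≠ j' := fun h => hne (by rw [h])
        obtain ⟨i, hi⟩ := exists_point j
        have hx := vT_mem_inr i j hi
        have hx' : vT i j 1 hi one_ne_zero3 ∈ kap (Sum.inr j) ∩ kap (Sum.inr j') :=
          ⟨hx, hab ▸ hx⟩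
        rw [inter_inr_inr hjj] at hx'
        exact hx'
  · -- nonempty intersection iff adjacent
    intro a b hab
    cases a with
    | inl i =>
      cases b with
      | inl i' =>
        have hii : i ≠ i' := fun h => hab (by rw [h])
        rw [inter_inl_inl hii]
        simp [LeviAdj]
      | inr j => exact inter_inl_inr_nonempty i j
    | inr j =>
      cases b with
      | inl i =>
        rw [Set.inter_comm]
        exact inter_inl_inr_nonempty i j
      | inr j' =>
        have hjj : j ≠ j' := fun h => hab (by rw [h])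
        rw [inter_inr_inr hjj]
        simp [LeviAdj]
  · -- at most two common elements
    intro a b hab
    cases a with
    | inl i =>
      cases b with
      | inl i' =>
        have hii : i ≠ i' := fun h => hab (by rw [h])
        rw [inter_inl_inl hii]; simp
      | inr j => exact inter_inl_inr_ncard i j
    | inr j =>
      cases b with
      | inl i =>
        rw [Set.inter_comm]
        exact inter_inl_inr_ncard i j
      | inr j' =>
        have hjj : j ≠ j' := fun h => hab (by rw [h])
        rw [inter_inr_inr hjj]; simp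
  · -- every transvection lies in two of them
    intro x hx
    obtain ⟨i, j, ρ, hij, hρ, hm⟩ := exists_coord hx
    exact ⟨Sum.inl i, Sum.inr j, Sum.inl_ne_inr,
      (mem_kap_inl hij hρ hm i).mpr rfl, (mem_kap_inr hij hρ hm j).mpr rfl⟩

end Cfsg.Agent.Lib.Helper28.CG
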