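import Cfsg.Prelude.Def_ChevStructure
import Cfsg.Prelude.Def_ChevG2
import Cfsg.Prelude.Def_ChevB2
import Cfsg.Prelude.Def_ChevD4
import Cfsg.Prelude.Def_ChevF4
import Cfsg.Prelude.Def_ChevE6
import Cfsg.Prelude.Def_ChevE7
import Cfsg.Prelude.Def_ChevE8

set_option autoImplicit false

namespace Cfsg.Agent.Lib.Helper8.Chev

open Cfsg.Lie Matrix

variable (D : ChevalleyDatum)

/-- The matrix `x_r(t)` over an arbitrary commutative ring (same formula as `ChevalleyDatum.xMat`). -/
def xR (R : Type*) [CommRing R] (r : Fin D.nroots) (t : R) : Matrix D.Idx D.Idx R :=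
  Matrix.of fun row col =>
    match col with
    | Sum.inl i =>
      (match row with
       | Sum.inl i' => if i' = i then 1 else 0
       | Sum.inr u => if u = r then - (((D.cartanSR.getD i.val #[]).getD r.val 0 : ℤ) : R) * t else 0)
    | Sum.inr s =>
      if s = r then (match row with | Sum.inr u => if u = r then 1 else 0 | Sum.inl _ => 0)
      else if s.val = D.negIdx.getD r.val 0 then
        (match row with
         | Sum.inl i => (((D.coroot.getD r.val #[]).getD i.val 0 : ℤ) : R) * t
         | Sum.inr u => if u = s then 1 else if u = r then -(t ^ 2) else 0)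
      else
        (match row with
         | Sum.inl _ => 0
         | Sum.inr u => (if u = s then 1 else 0) +
             ((D.chainCoeff r.val s.val u.val).map fun km => ((km.2 : ℤ) : R) * t ^ km.1).sum)

theorem xMat_eq_xR (F : Type*) [Field F] (r : Fin D.nroots) (t : F) :
    D.xMat F r t = xR D F r t := by
  ext row col
  cases row <;> cases col <;> rfl

theorem map_xR {R S : Type*} [CommRing R] [CommRing S] (f : R →+* S) (r : Fin D.nroots) (t : R) :
    (xR D R r t).map f = xR D S r (f t) := by
  ext row col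
  rcases row with i' | u <;> rcases col with i | s
  · simp only [xR, Matrix.map_apply, Matrix.of_apply]
    split_ifs <;> simp
  · simp only [xR, Matrix.map_apply, Matrix.of_apply]
    split_ifs <;> simp
  · simp only [xR, Matrix.map_apply, Matrix.of_apply]
    split_ifs <;> simp
  · simp only [xR, Matrix.map_apply, Matrix.of_apply]
    split_ifs <;> simp [map_list_sum, List.map_map, Function.comp_def]

/-- `x_r(t)` with the root given by a natural number (identity when out of range), over a commutative ring. -/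
def xN (R : Type*) [CommRing R] (r : ℕ) (t : R) : Matrix D.Idx D.Idx R :=
  if h : r < D.nroots then xR D R ⟨r, h⟩ t else 1

theorem x_eq_xN (F : Type*) [Field F] (r : ℕ) (t : F) : D.x F r t = xN D F r t := by
  unfold ChevalleyDatum.x xN
  split_ifs with h
  · exact xMat_eq_xR D F _ t
  · rfl

theorem map_xN {R S : Type*} [CommRing R] [CommRing S] (f : R →+* S) (r : ℕ) (t : R) :
    (xN D R r t).map f = xN D S r (f t) := by
  unfold xN
  split_ifs with h
  · exact map_xR D f _ t
  · ext i j
    simp [Matrix.map_apply, Matrix.one_apply]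


/-! ### Basis vectors -/

/-- basis vector `e_u` (zero when out of range) -/
def E (R : Type*) [CommRing R] (u : ℕ) : D.Idx → R :=
  if h : u < D.nroots then Pi.single (Sum.inr ⟨u, h⟩) 1 else 0

/-- basis vector `h_{p_i}` (zero when out of range) -/
def Hb (R : Type*) [CommRing R] (i : ℕ) : D.Idx → R :=
  if h : i < D.rank then Pi.single (Sum.inl ⟨i, h⟩) 1 else 0

/-- coefficient `c_i(r)` of the coroot `h_r` -/
def cor (r i : ℕ) : ℤ := (D.coroot.getD r #[]).getD i 0

/-- the coroot vector `h_r = Σ c_i(r) h_{p_i}` -/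
def Hr (R : Type*) [CommRing R] (r : ℕ) : D.Idx → R := fun idx =>
  match idx with
  | Sum.inl i => (cor D r i.val : R)
  | Sum.inr _ => 0

variable {D}

@[simp] theorem E_apply_inl (R : Type*) [CommRing R] (u : ℕ) (i : Fin D.rank) :
    E D R u (Sum.inl i) = 0 := by
  unfold E; split_ifs <;> simp

theorem E_apply_inr (R : Type*) [CommRing R] (u : ℕ) (v : Fin D.nroots) :
    E D R u (Sum.inr v) = if v.val = u then 1 else 0 := by
  unfold E
  split_ifs with h h' h'
  · subst h'; simp
  · rw [Pi.single_apply, if_neg]; intro h2; apply h'; rw [Sum.inr.injEq] at h2; rw [h2]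
  · omega
  · rfl

@[simp] theorem Hb_apply_inr (R : Type*) [CommRing R] (i : ℕ) (v : Fin D.nroots) :
    Hb D R i (Sum.inr v) = 0 := by
  unfold Hb; split_ifs <;> simp

theorem Hb_apply_inl (R : Type*) [CommRing R] (i : ℕ) (j : Fin D.rank) :
    Hb D R i (Sum.inl j) = if j.val = i then 1 else 0 := by
  unfold Hb
  split_ifs with h h' h'
  · subst h'; simp
  · rw [Pi.single_apply, if_neg]; intro h2; apply h'; rw [Sum.inl.injEq] at h2; rw [h2]
  · omega
  · rfl

@[simp] theorem Hr_apply_inl (R : Type*) [CommRing R] (r : ℕ) (i : Fin D.rank) :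
    Hr D R r (Sum.inl i) = (cor D r i.val : R) := rfl

@[simp] theorem Hr_apply_inr (R : Type*) [CommRing R] (r : ℕ) (v : Fin D.nroots) :
    Hr D R r (Sum.inr v) = 0 := rfl

theorem E_of_lt (R : Type*) [CommRing R] {u : ℕ} (h : u < D.nroots) :
    E D R u = Pi.single (Sum.inr ⟨u, h⟩) 1 := by
  unfold E; rw [dif_pos h]

theorem Hb_of_lt (R : Type*) [CommRing R] {i : ℕ} (h : i < D.rank) :
    Hb D R i = Pi.single (Sum.inl ⟨i, h⟩) 1 := by
  unfold Hb; rw [dif_pos h]

theorem mulVec_E {R : Type*} [CommRing R] (M : Matrix D.Idx D.Idx R) {u : ℕ} (h : u < D.nroots)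
    (idx : D.Idx) : (M *ᵥ E D R u) idx = M idx (Sum.inr ⟨u, h⟩) := by
  rw [E_of_lt R h, Matrix.mulVec_single_one]; rfl

theorem mulVec_Hb {R : Type*} [CommRing R] (M : Matrix D.Idx D.Idx R) {i : ℕ} (h : i < D.rank)
    (idx : D.Idx) : (M *ᵥ Hb D R i) idx = M idx (Sum.inl ⟨i, h⟩) := by
  rw [Hb_of_lt R h, Matrix.mulVec_single_one]; rfl

/-- Two matrices agreeing on all basis vectors are equal. -/
theorem ext_mulVec {R : Type*} [CommRing R] {M N : Matrix D.Idx D.Idx R}
    (hH : ∀ i < D.rank, M *ᵥ Hb D R i = N *ᵥ Hb D R i)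
    (hE : ∀ u < D.nroots, M *ᵥ E D R u = N *ᵥ E D R u) : M = N := by
  ext row col
  rcases col with i | u
  · have := congrFun (hH i.val i.isLt) row
    rwa [mulVec_Hb M i.isLt, mulVec_Hb N i.isLt] at this
  · have := congrFun (hE u.val u.isLt) row
    rwa [mulVec_E M u.isLt, mulVec_E N u.isLt] at this

end Cfsg.Agent.Lib.Helper8.Chev
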