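import Cfsg.Agent.Lib.Helper3.BNPair4
import Cfsg.Agent.H26.Rs5F

set_option autoImplicit false

/-! Automorphisms of a group with a (B,N)-pair that preserve `B` permute the minimal parabolic
subgroups. -/

namespace Cfsg.Agent.Lib.Helper8.Chev

open Cfsg.Agent.Lib.Helper3

section

variable {G : Type*} [Group G] (P : Cfsg.BNPair G)

theorem aut_min_parabolic (θ : MulAut G) (h1 : ∀ b ∈ P.B, θ b ∈ P.B)
    (h2 : ∀ b ∈ P.B, θ⁻¹ b ∈ P.B) {s : G} (hs : s ∈ P.S) :
    ∃ s' ∈ P.S, (P.parabolic {s}).map θ.toMonoidHom = P.parabolic {s'} := by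
  have hsub : ({s} : Set G) ⊆ P.S := Set.singleton_subset_iff.2 hs
  set M := (P.parabolic {s}).map θ.toMonoidHom with hM
  have hBM : P.B ≤ M := by
    intro b hb
    refine ⟨θ⁻¹ b, (le_sup_left : P.B ≤ P.parabolic {s}) (h2 b hb), ?_⟩
    exact MulAut.apply_inv_self _ θ b
  have hMeq := BN.eq_parabolic_gens P M hBM
  have hgs := BN.gens_subset P M
  have hne : (BN.gens P M).Nonempty := by
    by_contra hcon
    rw [Set.not_nonempty_iff_eq_empty] at hcon
    rw [hcon, BN.parabolic_empty] at hMeq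
    have hsP : s ∈ P.parabolic {s} :=
      (le_sup_right : Subgroup.closure {s} ≤ P.parabolic {s}) (Subgroup.subset_closure rfl)
    have : θ s ∈ M := ⟨s, hsP, rfl⟩
    rw [hMeq] at this
    have h3 := h2 _ this
    rw [MulAut.inv_apply_self] at h3
    exact BN.S_not_mem_B P hs h3
  obtain ⟨s', hs'⟩ := hne
  have hs'S : s' ∈ P.S := hgs hs'
  have hsub' : ({s'} : Set G) ⊆ P.S := Set.singleton_subset_iff.2 hs'S
  refine ⟨s', hs'S, ?_⟩
  have hle : P.parabolic {s'} ≤ M := by
    rw [hMeq]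
    exact (BN.parabolic_le_iff P hsub' hgs).2 (Set.singleton_subset_iff.2 hs')
  apply le_antisymm _ hle
  -- the preimage of `P_{s'}`
  set K := (P.parabolic {s'}).map (θ⁻¹).toMonoidHom with hK
  have hBK : P.B ≤ K := by
    intro b hb
    refine ⟨θ b, (le_sup_left : P.B ≤ P.parabolic {s'}) (h1 b hb), ?_⟩
    exact MulAut.inv_apply_self _ θ b
  have hKle : K ≤ P.parabolic {s} := by
    rintro _ ⟨y, hy, rfl⟩
    obtain ⟨z, hz, rfl⟩ := hle hy
    show θ⁻¹ (θ z) ∈ _
    rw [MulAut.inv_apply_self]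
    exact hz
  have hKeq := BN.eq_parabolic_gens P K hBK
  have hgK := BN.gens_subset P K
  have hgKs : BN.gens P K ⊆ {s} := by
    rw [hKeq] at hKle
    exact (BN.parabolic_le_iff P hgK hsub).1 hKle
  have hKne : (BN.gens P K).Nonempty := by
    by_contra hcon
    rw [Set.not_nonempty_iff_eq_empty] at hcon
    rw [hcon, BN.parabolic_empty] at hKeq
    have hsP : s' ∈ P.parabolic {s'} :=
      (le_sup_right : Subgroup.closure {s'} ≤ P.parabolic {s'}) (Subgroup.subset_closure rfl)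
    have : θ⁻¹ s' ∈ K := ⟨s', hsP, rfl⟩
    rw [hKeq] at this
    have h3 := h1 _ this
    rw [MulAut.apply_inv_self] at h3
    exact BN.S_not_mem_B P hs'S h3
  have hgKeq : BN.gens P K = {s} := by
    obtain ⟨x, hx⟩ := hKne
    have := hgKs hx
    rw [Set.mem_singleton_iff] at this
    subst this
    exact Set.Subset.antisymm hgKs (Set.singleton_subset_iff.2 hx)
  rw [hgKeq] at hKeq
  rintro _ ⟨y, hy, rfl⟩
  rw [← hKeq] at hy
  obtain ⟨z, hz, rfl⟩ := hy
  show θ (θ⁻¹ z) ∈ _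
  rw [MulAut.apply_inv_self]
  exact hz

end

end Cfsg.Agent.Lib.Helper8.Chev
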