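import Cfsg.Agent.Lib.Helper8.ChevAu9

set_option autoImplicit false

/-! The standard data of an automorphism preserving `U` and `V`: a permutation of the nodes and
the parameter maps on the fundamental root subgroups. -/

namespace Cfsg.Agent.Lib.Helper8.Chev

open Cfsg.Lie Matrix Cfsg.Agent.Lib.Helper3

section

variable {D : ChevalleyDatum} {F : Type*} [Field F]

/-- the data of an automorphism permuting the fundamental root subgroups and their negatives -/
structure StdAut (hD : D ∈ [chevG2, chevB2, chevD4, chevF4, chevE6, chevE7, chevE8])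
    (θ : MulAut ↥(D.group F)) where
  ρ : Equiv.Perm (Fin D.rank)
  f : Fin D.rank → F → F
  g : Fin D.rank → F → F
  hf : ∀ (i : Fin D.rank) (t : F), θ (xEl hD (D.simple i) t) = xEl hD (D.simple (ρ i)) (f i t)
  hg : ∀ (i : Fin D.rank) (t : F), θ (xEl hD (D.neg (D.simple i)) t) = xEl hD (D.neg (D.simple (ρ i))) (g i t)

theorem exists_stdAut [Finite F]
    (hD : D ∈ [chevG2, chevB2, chevD4, chevF4, chevE6, chevE7, chevE8])
    {θ : MulAut ↥(D.group F)} (hU : Pres θ (D.posUnipotent F)) (hV : Pres θ (D.negUnipotent F)) :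
    Nonempty (StdAut hD θ) := by
  have V := valid0_of_mem hD
  have J := validJ_of_mem hD
  have h1 : ∀ i : Fin D.rank, ∃ j : Fin D.rank,
      MapsTo θ (D.rootSubgroup F (D.simple i)) (D.rootSubgroup F (D.simple j)) ∧
      MapsTo θ (D.rootSubgroup F (D.neg (D.simple i)))
        (D.rootSubgroup F (D.neg (D.simple j))) := by
    intro i
    obtain ⟨j, hj, h⟩ := simple_match hD hU hV i.isLt
    exact ⟨⟨j, hj⟩, h⟩
  have h2 : ∀ i : Fin D.rank, ∃ j : Fin D.rank,
      MapsTo (θ⁻¹ : MulAut ↥(D.group F)) (D.rootSubgroup F (D.simple i))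
        (D.rootSubgroup F (D.simple j)) ∧
      MapsTo (θ⁻¹ : MulAut ↥(D.group F)) (D.rootSubgroup F (D.neg (D.simple i)))
        (D.rootSubgroup F (D.neg (D.simple j))) := by
    intro i
    obtain ⟨j, hj, h⟩ := simple_match hD hU.inv hV.inv i.isLt
    exact ⟨⟨j, hj⟩, h⟩
  choose ρ₁ hρ₁ using h1
  choose ρ₂ hρ₂ using h2
  have hp : ∀ i : Fin D.rank, D.simple i < D.nroots := fun i => (J.S i i.isLt).1
  have hnp : ∀ i : Fin D.rank, D.neg (D.simple i) < D.nroots := fun i => V.neg_lt (hp i)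
  have h21 : ∀ i, ρ₂ (ρ₁ i) = i := by
    intro i
    apply Fin.ext
    apply simple_eq_of_le (F := F) hD i.isLt (ρ₂ (ρ₁ i)).isLt
    have := (hρ₂ (ρ₁ i)).1 _ ((hρ₁ i).1 _ (xEl_mem_rootSubgroup hD (hp i) (1 : F)))
    rwa [MulAut.inv_apply_self] at this
  have h12 : ∀ i, ρ₁ (ρ₂ i) = i := by
    intro i
    apply Fin.ext
    apply simple_eq_of_le (F := F) hD i.isLt (ρ₁ (ρ₂ i)).isLt
    have := (hρ₁ (ρ₂ i)).1 _ ((hρ₂ i).1 _ (xEl_mem_rootSubgroup hD (hp i) (1 : F)))
    rwa [MulAut.apply_inv_self] at this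
  have hf : ∀ (i : Fin D.rank) (t : F), ∃ s : F,
      θ (xEl hD (D.simple i) t) = xEl hD (D.simple (ρ₁ i)) s := fun i t =>
    eq_xEl_of_mem hD (hp _) ((hρ₁ i).1 _ (xEl_mem_rootSubgroup hD (hp i) t))
  have hg : ∀ (i : Fin D.rank) (t : F), ∃ s : F,
      θ (xEl hD (D.neg (D.simple i)) t) = xEl hD (D.neg (D.simple (ρ₁ i))) s := fun i t =>
    eq_xEl_of_mem hD (hnp _) ((hρ₁ i).2 _ (xEl_mem_rootSubgroup hD (hnp i) t))
  choose f hf using hf
  choose g hg using hg
  exact ⟨⟨⟨ρ₁, ρ₂, h21, h12⟩, f, g, hf, hg⟩⟩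

namespace StdAut

variable {hD : D ∈ [chevG2, chevB2, chevD4, chevF4, chevE6, chevE7, chevE8]}
  {θ : MulAut ↥(D.group F)} (S : StdAut hD θ)

theorem simple_lt (hD : D ∈ [chevG2, chevB2, chevD4, chevF4, chevE6, chevE7, chevE8])
    (i : Fin D.rank) : D.simple i < D.nroots :=
  ((validJ_of_mem hD).S i i.isLt).1

theorem neg_simple_lt (hD : D ∈ [chevG2, chevB2, chevD4, chevF4, chevE6, chevE7, chevE8])
    (i : Fin D.rank) : D.neg (D.simple i) < D.nroots :=
  (valid0_of_mem hD).neg_lt (simple_lt hD i)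

include S in
theorem f_add (i : Fin D.rank) (t u : F) : S.f i (t + u) = S.f i t + S.f i u := by
  apply xEl_inj hD (simple_lt hD (S.ρ i))
  rw [← S.hf, xEl_add hD (simple_lt hD i), map_mul, S.hf, S.hf,
    ← xEl_add hD (simple_lt hD (S.ρ i))]

include S in
theorem g_add (i : Fin D.rank) (t u : F) : S.g i (t + u) = S.g i t + S.g i u := by
  apply xEl_inj hD (neg_simple_lt hD (S.ρ i))
  rw [← S.hg, xEl_add hD (neg_simple_lt hD i), map_mul, S.hg, S.hg,
    ← xEl_add hD (neg_simple_lt hD (S.ρ i))]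

include S in
theorem f_inj (i : Fin D.rank) : Function.Injective (S.f i) := by
  intro t u h
  apply xEl_inj hD (simple_lt hD i)
  apply θ.injective
  rw [S.hf, S.hf, h]

include S in
theorem g_inj (i : Fin D.rank) : Function.Injective (S.g i) := by
  intro t u h
  apply xEl_inj hD (neg_simple_lt hD i)
  apply θ.injective
  rw [S.hg, S.hg, h]

include S in
theorem f_zero (i : Fin D.rank) : S.f i 0 = 0 := by
  have := S.f_add i 0 0
  rw [add_zero] at this
  exact left_eq_add.mp this

include S in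
theorem g_zero (i : Fin D.rank) : S.g i 0 = 0 := by
  have := S.g_add i 0 0
  rw [add_zero] at this
  exact left_eq_add.mp this

include S in
theorem f_neg (i : Fin D.rank) (t : F) : S.f i (-t) = - S.f i t := by
  have := S.f_add i t (-t)
  rw [add_neg_cancel, S.f_zero] at this
  exact eq_neg_of_add_eq_zero_right this.symm

include S in
theorem g_neg (i : Fin D.rank) (t : F) : S.g i (-t) = - S.g i t := by
  have := S.g_add i t (-t)
  rw [add_neg_cancel, S.g_zero] at this
  exact eq_neg_of_add_eq_zero_right this.symm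

include S in
theorem f_surj [Finite F] (i : Fin D.rank) : Function.Surjective (S.f i) :=
  Finite.injective_iff_surjective.mp (S.f_inj i)

include S in
theorem g_surj [Finite F] (i : Fin D.rank) : Function.Surjective (S.g i) :=
  Finite.injective_iff_surjective.mp (S.g_inj i)

include S in
theorem f_ne_zero (i : Fin D.rank) {t : F} (ht : t ≠ 0) : S.f i t ≠ 0 := by
  intro h
  rw [← S.f_zero i] at h
  exact ht (S.f_inj i h)

end StdAut

end

end Cfsg.Agent.Lib.Helper8.Chev
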