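import Cfsg.Agent.Lib.Helper8.ChevBN4
import Cfsg.Prelude.Def_ChevAutomorphisms

set_option autoImplicit false

namespace Cfsg.Agent.Lib.Helper8.Chev

open Cfsg.Lie Matrix

section

variable {D : ChevalleyDatum} {F : Type*} [Field F]

/-- a character of the root lattice is multiplicative along the chains -/
theorem rootChar_chain (V : Valid0 D) (V1 : Valid1 D) {χ : ℕ → Fˣ} (hχ : D.IsRootCharacter χ)
    {r : ℕ} (hr : r < D.nroots) {c : ℕ} (hc : c < D.nroots) :
    ∀ (k u : ℕ) (M : ℤ), (D.chainEntry r c)[k]? = some (u, M) → χ u = χ c * χ r ^ (k + 1) := by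
  intro k
  induction k with
  | zero =>
    intro u M hu
    have h1 : D.chainRoot r c 1 = some u := by
      unfold ChevalleyDatum.chainRoot
      rw [Nat.sub_self, hu]
      rfl
    rw [hχ.2 r c u hr hc h1, zero_add, pow_one, mul_comm]
  | succ k ih =>
    intro u M hu
    have hlen : k + 1 < (D.chainEntry r c).length := by
      by_contra hn
      rw [List.getElem?_eq_none (by omega)] at hu
      exact absurd hu (by simp)
    have hk : (D.chainEntry r c)[k]? = some ((D.chainEntry r c)[k]'(by omega)) :=
      List.getElem?_eq_getElem (by omega)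
    set q := (D.chainEntry r c)[k]'(by omega) with hq
    have hk' : (D.chainEntry r c)[k]? = some (q.1, q.2) := hk
    have e1 := ih q.1 q.2 hk'
    have hq1 := (chainEntry_tgt V hr hk').1
    have hu1 := (chainEntry_tgt V hr hu).1
    have T := tailOK_chainEntry V V1 hr c (k + 1) 1 (by omega) le_rfl q.1 q.2
      (by rw [Nat.add_sub_cancel]; exact hk')
    have T2 := T.2 (by omega)
    have e2 : cr D.nroots (D.chainEntry r c) (1 + (k + 1)) = u := by
      unfold cr
      have : 1 + (k + 1) - 1 = k + 1 := by omega
      rw [this, hu]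
      rfl
    rw [e2] at T2
    have h1 : D.chainRoot r q.1 1 = some u := by
      unfold ChevalleyDatum.chainRoot
      unfold cr at T2
      rw [Nat.sub_self] at T2 ⊢
      cases hz : (D.chainEntry r q.1)[0]? with
      | none =>
        rw [hz] at T2
        simp only [Option.map_none, Option.getD_none] at T2
        omega
      | some z =>
        rw [hz] at T2
        simp only [Option.map_some, Option.getD_some] at T2 ⊢
        rw [T2]
    rw [hχ.2 r q.1 u hr hq1 h1, e1, pow_succ (χ r) (k + 1)]
    rw [mul_comm (χ r), mul_assoc]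

/-- a character of the root lattice in the sense of the Prelude is one in the sense of the library -/
theorem isChar_of_rootChar (V : Valid0 D) (V1 : Valid1 D) {χ : ℕ → Fˣ}
    (hχ : D.IsRootCharacter χ) : IsChar D (fun s => ((χ s : Fˣ) : F)) := by
  intro r hr c e he
  unfold xCol at he
  by_cases hc : c < D.nroots
  · rw [if_pos hc] at he
    by_cases h1 : c = r
    · rw [if_pos h1, List.mem_singleton] at he
      subst he
      simp
    · rw [if_neg h1] at he
      by_cases h2 : c + r + 1 = D.nroots
      · rw [if_pos h2] at he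
        have hcn : c = D.neg r := by rw [V.neg_eq r hr]; omega
        have hac : χ c = (χ r)⁻¹ := by rw [hcn]; exact hχ.1 r hr
        simp only [List.mem_cons, List.mem_append, List.mem_map, List.mem_range,
          List.not_mem_nil, or_false] at he
        rcases he with rfl | ⟨i, hi, rfl⟩ | rfl
        · simp
        · dsimp only
          unfold extC
          rw [if_neg (by omega), if_pos hc, pow_one]
          beta_reduce
          rw [hac, ← Units.val_mul, inv_mul_cancel, Units.val_one]
        · dsimp only
          unfold extC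
          rw [if_pos hr, if_pos hc]
          beta_reduce
          rw [hac, ← Units.val_pow_eq_pow_val, ← Units.val_mul, pow_two,
            ← mul_assoc, inv_mul_cancel, one_mul]
      · rw [if_neg h2, List.mem_cons] at he
        rcases he with rfl | he
        · simp
        · rw [List.mem_map] at he
          obtain ⟨q, hq, rfl⟩ := he
          have hmem := List.mem_zipIdx hq
          have hget : (D.chainEntry r c)[q.2]? = some (q.1.1, q.1.2) := by
            rw [List.getElem?_eq_getElem (by omega)]
            simp only [Nat.sub_zero] at hmem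
            rw [← hmem.2.2]
          have htgt := (chainEntry_tgt V hr hget).1
          dsimp only
          unfold extC
          rw [if_pos htgt, if_pos hc]
          beta_reduce
          rw [rootChar_chain V V1 hχ hr hc q.2 q.1.1 q.1.2 hget,
            Units.val_mul, Units.val_pow_eq_pow_val]
  · rw [if_neg hc] at he
    by_cases hc2 : c < D.nroots + D.rank
    · rw [if_pos hc2] at he
      simp only [List.mem_cons, List.not_mem_nil, or_false] at he
      rcases he with rfl | rfl
      · simp
      · dsimp only
        unfold extC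
        rw [if_pos hr, if_neg hc, one_mul, pow_one]
    · rw [if_neg hc2] at he
      simp at he

theorem torusLike_charDiag (V : Valid0 D) (V1 : Valid1 D) {χ : ℕ → Fˣ}
    (hχ : D.IsRootCharacter χ) : TorusLike D F (D.charDiag F χ) :=
  ⟨χ, isChar_of_rootChar V V1 hχ, rfl⟩

/-- a diagonal element of `U` is trivial -/
theorem torusLike_pos_eq_one (J : ValidJ D) (V1 : Valid1 D) (Tr : TriP D) (P : PosP D)
    {x : GL D.Idx F} (hxU : x ∈ D.posUnipotent F)
    (hx : TorusLike D F (x : Matrix D.Idx D.Idx F)) : x = 1 := by
  have h1 := posUnipotent_sub_one_mem J.V V1 Tr P hxU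
  obtain ⟨f, _, hm⟩ := hx
  apply Units.ext
  ext i j
  by_cases hij : i = j
  · subst hij
    by_contra hne
    have : ((x : Matrix D.Idx D.Idx F) - 1) i i ≠ 0 := by
      rw [Matrix.sub_apply, Matrix.one_apply_eq]
      intro h0
      apply hne
      rw [Units.val_one, Matrix.one_apply_eq]
      exact sub_eq_zero.mp h0
    have := h1 i i this
    omega
  · rw [hm, diagC_apply_ne _ hij, Units.val_one, Matrix.one_apply_ne hij]

/-- diagonal elements conjugate `U` into itself -/
theorem torusLike_conj_pos (V : Valid0 D) {g : GL D.Idx F}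
    (hg : TorusLike D F (g : Matrix D.Idx D.Idx F)) :
    ∀ u ∈ D.posUnipotent F, g * u * g⁻¹ ∈ D.posUnipotent F := by
  unfold ChevalleyDatum.posUnipotent
  apply conj_closure_le
  rintro y ⟨r, t, hr, hy⟩
  obtain ⟨c, hc⟩ := torus_conj_x V hg hr.1
  exact Subgroup.subset_closure ⟨r, c * t, hr, hc t y hy⟩

/-- diagonal matrices commute -/
theorem torusLike_comm {g h : GL D.Idx F} (hg : TorusLike D F (g : Matrix D.Idx D.Idx F))
    (hh : TorusLike D F (h : Matrix D.Idx D.Idx F)) : g * h = h * g := by
  obtain ⟨f, _, hm⟩ := hg
  obtain ⟨f', _, hm'⟩ := hh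
  apply Units.ext
  rw [Units.val_mul, Units.val_mul, hm, hm', diagC_mul_diagC, diagC_mul_diagC]
  congr 1
  funext s
  exact mul_comm _ _

/-- an element of the group that is a diagonal matrix of a character lies in `H` -/
theorem mem_diagonal_of_torusLike (hD : D ∈ [chevG2, chevB2, chevD4, chevF4, chevE6, chevE7, chevE8])
    {g : GL D.Idx F} (hgG : g ∈ D.group F) (hg : TorusLike D F (g : Matrix D.Idx D.Idx F)) :
    g ∈ D.diagonalSubgroup F := by
  have V := valid0_of_mem hD
  have V1 := valid1_of_mem hD
  have J := validJ_of_mem hD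
  have H := validH_of_mem hD
  have P := posP_of_mem hD
  have Tr := triP_of_mem hD
  -- `g` conjugates `B` into itself
  have hconjB : ∀ b ∈ D.borelSubgroup F, g * b * g⁻¹ ∈ D.borelSubgroup F := by
    intro b hb
    obtain ⟨u, hu, h, hh, rfl⟩ := borel_decomp J V1 H hb
    have e : g * (u * h) * g⁻¹ = (g * u * g⁻¹) * h := by
      have hc := torusLike_comm hg (torusLike_of_mem J V1 H hh)
      calc g * (u * h) * g⁻¹ = g * u * (h * g⁻¹) := by group
        _ = g * u * (g⁻¹ * h) := by
          congr 1
          rw [eq_inv_mul_iff_mul_eq, ← mul_assoc, hc, mul_assoc, mul_inv_cancel, mul_one]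
        _ = (g * u * g⁻¹) * h := by group
    rw [e]
    exact mul_mem (pos_le_borel (torusLike_conj_pos V hg u hu)) (diagonal_le_borel hh)
  -- hence `g ∈ B`
  have hgB : g ∈ D.borelSubgroup F := by
    have hmem := Cfsg.Agent.Lib.Helper3.BN.mem_of_conj' (chevBN hD F) ⟨g, hgG⟩ (chevBN hD F).B
      le_rfl (by
        intro b hb
        rw [chevBN_B hD] at hb ⊢
        rw [Subgroup.mem_subgroupOf] at hb ⊢
        exact hconjB _ hb)
    rw [chevBN_B hD, Subgroup.mem_subgroupOf] at hmem
    exact hmem
  obtain ⟨u, hu, h, hh, e⟩ := borel_decomp J V1 H hgB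
  have hT : TorusLike D F ((g * h⁻¹ : GL D.Idx F) : Matrix D.Idx D.Idx F) := by
    rw [Units.val_mul]
    exact hg.mul (torusLike_of_mem J V1 H (inv_mem hh))
  have hu' : u = g * h⁻¹ := by rw [e]; group
  have h1 : u = 1 := torusLike_pos_eq_one J V1 Tr P hu (hu' ▸ hT)
  rw [e, h1, one_mul]
  exact hh

end

end Cfsg.Agent.Lib.Helper8.Chev
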