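import Cfsg.Agent.Lib.Helper8.ChevPar1
import Cfsg.Agent.Lib.Helper8.ChevOrdH3

set_option autoImplicit false

/-! The coefficients of the roots on the fundamental roots are additive weights, and have the
signs of the coefficients of the coroots. -/

namespace Cfsg.Agent.Lib.Helper8.Chev

open Cfsg.Lie Matrix

/-- the adjugate of the Cartan matrix, by the number of roots -/
def adjL (D : ChevalleyDatum) : List (List ℕ) :=
  if D.nroots = 12 then [[2, 3], [1, 2]]
  else if D.nroots = 8 then [[2, 2], [1, 2]]
  else if D.nroots = 24 then [[4, 4, 2, 2], [4, 8, 4, 4], [2, 4, 4, 2], [2, 4, 2, 4]]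
  else if D.nroots = 48 then [[2, 3, 4, 2], [3, 6, 8, 4], [2, 4, 6, 3], [1, 2, 3, 2]]
  else if D.nroots = 72 then [[4, 3, 5, 6, 4, 2], [3, 6, 6, 9, 6, 3], [5, 6, 10, 12, 8, 4], [6, 9, 12, 18, 12, 6], [4, 6, 8, 12, 10, 5], [2, 3, 4, 6, 5, 4]]
  else if D.nroots = 126 then [[4, 4, 6, 8, 6, 4, 2], [4, 7, 8, 12, 9, 6, 3], [6, 8, 12, 16, 12, 8, 4], [8, 12, 16, 24, 18, 12, 6], [6, 9, 12, 18, 15, 10, 5], [4, 6, 8, 12, 10, 8, 4], [2, 3, 4, 6, 5, 4, 3]]
  else if D.nroots = 240 then [[4, 5, 7, 10, 8, 6, 4, 2], [5, 8, 10, 15, 12, 9, 6, 3], [7, 10, 14, 20, 16, 12, 8, 4], [10, 15, 20, 30, 24, 18, 12, 6], [8, 12, 16, 24, 20, 15, 10, 5], [6, 9, 12, 18, 15, 12, 8, 4], [4, 6, 8, 12, 10, 8, 6, 3], [2, 3, 4, 6, 5, 4, 3, 2]]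
  else []

/-- the determinant of the Cartan matrix, by the number of roots -/
def adjD (D : ChevalleyDatum) : ℤ :=
  if D.nroots = 12 then 1
  else if D.nroots = 8 then 2
  else if D.nroots = 24 then 4
  else if D.nroots = 48 then 1
  else if D.nroots = 72 then 3
  else if D.nroots = 126 then 2
  else if D.nroots = 240 then 1
  else 0

/-- the adjugate times the Cartan matrix is the determinant times the identity -/
noncomputable def checkAdj (D : ChevalleyDatum) : Bool :=
  forallLtF (fun t => forallLtF (fun j =>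
    decide (sumLtF (fun i => (((nthF 0 (nthF [] (adjL D) t) i : ℕ) : ℤ)) *
      D.cartan i (D.simple j)) D.rank = if t = j then adjD D else 0)) D.rank) D.rank

/-- the coefficient of the root `s` on the fundamental root `t` -/
def rc (D : ChevalleyDatum) (s t : ℕ) : ℤ :=
  ((((rootCoordL D).getD s []).getD t 0 : ℕ) : ℤ) - (16 : ℕ)

/-- the root coefficients have the signs of the coroot coefficients -/
noncomputable def checkSgn (D : ChevalleyDatum) : Bool :=
  forallLtF (fun s => forallLtF (fun t =>
    withInt ((((nthF 0 (nthF [] (rootCoordL D) s) t : ℕ) : ℤ)) - (16 : ℕ)) fun a =>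
    withInt (getZ 5 16 (packC D) s t) fun c =>
      (decide (0 < a) == decide (0 < c)) && (decide (a < 0) == decide (c < 0))) D.rank) D.nroots

theorem checkAdj_G2 : checkAdj chevG2 = true := by decide +kernel
theorem checkAdj_B2 : checkAdj chevB2 = true := by decide +kernel
theorem checkAdj_D4 : checkAdj chevD4 = true := by decide +kernel
theorem checkAdj_F4 : checkAdj chevF4 = true := by decide +kernel
theorem checkAdj_E6 : checkAdj chevE6 = true := by decide +kernel
theorem checkAdj_E7 : checkAdj chevE7 = true := by decide +kernel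
theorem checkAdj_E8 : checkAdj chevE8 = true := by decide +kernel

set_option maxRecDepth 100000 in
theorem checkSgn_G2 : checkSgn chevG2 = true := by decide +kernel
set_option maxRecDepth 100000 in
theorem checkSgn_B2 : checkSgn chevB2 = true := by decide +kernel
set_option maxRecDepth 100000 in
theorem checkSgn_D4 : checkSgn chevD4 = true := by decide +kernel
set_option maxRecDepth 100000 in
theorem checkSgn_F4 : checkSgn chevF4 = true := by decide +kernel
set_option maxRecDepth 100000 in
theorem checkSgn_E6 : checkSgn chevE6 = true := by decide +kernel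
set_option maxRecDepth 100000 in
theorem checkSgn_E7 : checkSgn chevE7 = true := by decide +kernel
set_option maxRecDepth 100000 in
theorem checkSgn_E8 : checkSgn chevE8 = true := by decide +kernel

section

variable {D : ChevalleyDatum}

theorem checkAdj_of_mem (hD : D ∈ [chevG2, chevB2, chevD4, chevF4, chevE6, chevE7, chevE8]) :
    checkAdj D = true := by
  simp only [List.mem_cons, List.not_mem_nil, or_false] at hD
  rcases hD with rfl | rfl | rfl | rfl | rfl | rfl | rfl
  · exact checkAdj_G2
  · exact checkAdj_B2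
  · exact checkAdj_D4
  · exact checkAdj_F4
  · exact checkAdj_E6
  · exact checkAdj_E7
  · exact checkAdj_E8

theorem checkSgn_of_mem (hD : D ∈ [chevG2, chevB2, chevD4, chevF4, chevE6, chevE7, chevE8]) :
    checkSgn D = true := by
  simp only [List.mem_cons, List.not_mem_nil, or_false] at hD
  rcases hD with rfl | rfl | rfl | rfl | rfl | rfl | rfl
  · exact checkSgn_G2
  · exact checkSgn_B2
  · exact checkSgn_D4
  · exact checkSgn_F4
  · exact checkSgn_E6
  · exact checkSgn_E7
  · exact checkSgn_E8

theorem adjD_ne_zero (hD : D ∈ [chevG2, chevB2, chevD4, chevF4, chevE6, chevE7, chevE8]) :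
    adjD D ≠ 0 := by
  simp only [List.mem_cons, List.not_mem_nil, or_false] at hD
  rcases hD with rfl | rfl | rfl | rfl | rfl | rfl | rfl <;> decide

/-- the determinant times a root coefficient, through the Cartan integers -/
theorem adjD_mul_rc (hD : D ∈ [chevG2, chevB2, chevD4, chevF4, chevE6, chevE7, chevE8])
    {s : ℕ} (hs : s < D.nroots) {t : ℕ} (ht : t < D.rank) :
    adjD D * rc D s t = ∑ i ∈ Finset.range D.rank,
      ((((adjL D).getD t []).getD i 0 : ℕ) : ℤ) * D.cartan i s := by
  have hA := checkAdj_of_mem hD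
  have hm := rootCoord_of_mem hD
  simp only [checkAdj, forallLtF_eq_true, decide_eq_true_eq, sumLtF_eq, nthF_eq_getD] at hA
  have h1 : ∀ i ∈ Finset.range D.rank, ((((adjL D).getD t []).getD i 0 : ℕ) : ℤ) * D.cartan i s =
      ∑ j ∈ Finset.range D.rank, rc D s j *
        (((((adjL D).getD t []).getD i 0 : ℕ) : ℤ) * D.cartan i (D.simple j)) := by
    intro i hi
    rw [Finset.mem_range] at hi
    rw [hm s hs i hi, Finset.mul_sum]
    apply Finset.sum_congr rfl
    intro j _
    unfold rc
    ring
  rw [Finset.sum_congr rfl h1, Finset.sum_comm]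
  have h2 : ∀ j ∈ Finset.range D.rank, ∑ i ∈ Finset.range D.rank, rc D s j *
      (((((adjL D).getD t []).getD i 0 : ℕ) : ℤ) * D.cartan i (D.simple j)) =
      rc D s j * if t = j then adjD D else 0 := by
    intro j hj
    rw [Finset.mem_range] at hj
    rw [← Finset.mul_sum, hA t ht j hj]
  rw [Finset.sum_congr rfl h2]
  rw [Finset.sum_eq_single t]
  · rw [if_pos rfl, mul_comm]
  · intro j _ hjt
    rw [if_neg (Ne.symm hjt), mul_zero]
  · intro h
    exact absurd (Finset.mem_range.mpr ht) h

/-- the root coefficients are additive weights -/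
theorem rc_isWt (hD : D ∈ [chevG2, chevB2, chevD4, chevF4, chevE6, chevE7, chevE8])
    {t : ℕ} (ht : t < D.rank) : IsWt D (fun s => rc D s t) := by
  have J := validJ_of_mem hD
  have H := validH_of_mem hD
  have hd := adjD_ne_zero hD
  have hW : IsWt D (fun s => ∑ i ∈ Finset.range D.rank,
      ((((adjL D).getD t []).getD i 0 : ℕ) : ℤ) * D.cartan i s) :=
    isWt_sum _ D.rank (fun i hi => isWt_of_check J.V J.T H.hsz H.wt hi)
  refine ⟨fun r hr => ?_, fun r hr c hc q hq => ?_⟩
  · have := hW.1 r hr
    simp only at this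
    rw [← adjD_mul_rc hD (J.V.neg_lt hr) ht, ← adjD_mul_rc hD hr ht] at this
    apply mul_left_cancel₀ hd
    rw [this]
    ring
  · have hmem := List.mem_zipIdx hq
    simp only [Nat.sub_zero, zero_add] at hmem
    have hget : (D.chainEntry r c)[q.2]? = some (q.1.1, q.1.2) := by
      rw [List.getElem?_eq_getElem (by omega), hmem.2.2]
    have htgt := (chainEntry_tgt J.V hr hget).1
    have := hW.2 r hr c hc q hq
    simp only at this
    rw [← adjD_mul_rc hD htgt ht, ← adjD_mul_rc hD hc ht, ← adjD_mul_rc hD hr ht] at this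
    apply mul_left_cancel₀ hd
    rw [this]
    ring

theorem rc_sign (hD : D ∈ [chevG2, chevB2, chevD4, chevF4, chevE6, chevE7, chevE8])
    {s : ℕ} (hs : s < D.nroots) {t : ℕ} (ht : t < D.rank) :
    (0 < rc D s t ↔ 0 < cor D s t) ∧ (rc D s t < 0 ↔ cor D s t < 0) := by
  have J := validJ_of_mem hD
  have h := checkSgn_of_mem hD
  simp only [checkSgn, forallLtF_eq_true, withInt_eq, Bool.and_eq_true, beq_iff_eq,
    decide_eq_decide, nthF_eq_getD] at h
  have := h s hs t ht
  rw [J.T.cor_eq s hs t ht] at this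
  exact this

theorem rc_eq_zero_iff (hD : D ∈ [chevG2, chevB2, chevD4, chevF4, chevE6, chevE7, chevE8])
    {s : ℕ} (hs : s < D.nroots) {t : ℕ} (ht : t < D.rank) :
    rc D s t = 0 ↔ cor D s t = 0 := by
  have := rc_sign hD hs ht
  constructor
  · intro h
    rw [h] at this
    have h1 : ¬ 0 < cor D s t := fun hp => absurd (this.1.mpr hp) (lt_irrefl _)
    have h2 : ¬ cor D s t < 0 := fun hp => absurd (this.2.mpr hp) (lt_irrefl _)
    omega
  · intro h
    rw [h] at this
    have h1 : ¬ 0 < rc D s t := fun hp => absurd (this.1.mp hp) (lt_irrefl _)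
    have h2 : ¬ rc D s t < 0 := fun hp => absurd (this.2.mp hp) (lt_irrefl _)
    omega

end

end Cfsg.Agent.Lib.Helper8.Chev
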