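import Cfsg.Agent.Lib.Helper8.ChevAu10
import Cfsg.Agent.Lib.Helper8.ChevDiag1
import Cfsg.Agent.Lib.Helper8.ChevPar2

set_option autoImplicit false

/-! Diagonal automorphisms. -/

namespace Cfsg.Agent.Lib.Helper8.Chev

open Cfsg.Lie Matrix Cfsg.Agent.Lib.Helper3

/-- conjugation by an element mapping a subgroup into itself, both ways -/
def conjAutOf {G : Type*} [Group G] (K : Subgroup G) (d : G) (h1 : ∀ g ∈ K, d * g * d⁻¹ ∈ K)
    (h2 : ∀ g ∈ K, d⁻¹ * g * d ∈ K) : ↥K ≃* ↥K where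
  toFun g := ⟨d * g * d⁻¹, h1 g g.2⟩
  invFun g := ⟨d⁻¹ * g * d, h2 g g.2⟩
  left_inv g := by
    apply Subtype.ext
    show d⁻¹ * (d * g * d⁻¹) * d = g
    group
  right_inv g := by
    apply Subtype.ext
    show d * (d⁻¹ * g * d) * d⁻¹ = g
    group
  map_mul' a b := by
    apply Subtype.ext
    show d * (a * b : G) * d⁻¹ = (d * a * d⁻¹) * (d * b * d⁻¹)
    group

theorem conj_mem_closure {G : Type*} [Group G] {S : Set G} (d : G)
    (h : ∀ s ∈ S, d * s * d⁻¹ ∈ Subgroup.closure S) :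
    ∀ g ∈ Subgroup.closure S, d * g * d⁻¹ ∈ Subgroup.closure S := by
  intro g hg
  induction hg using Subgroup.closure_induction with
  | mem s hs => exact h s hs
  | one => simp
  | mul a b _ _ ha hb =>
    have : d * (a * b) * d⁻¹ = (d * a * d⁻¹) * (d * b * d⁻¹) := by group
    rw [this]
    exact mul_mem ha hb
  | inv a _ ha =>
    have : d * a⁻¹ * d⁻¹ = (d * a * d⁻¹)⁻¹ := by group
    rw [this]
    exact inv_mem ha

section

variable {D : ChevalleyDatum} {F : Type*} [Field F]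

theorem charDiag_mul_inv (χ : ℕ → Fˣ) :
    D.charDiag F χ * D.charDiag F (fun r => (χ r)⁻¹) = 1 := by
  unfold ChevalleyDatum.charDiag
  rw [Matrix.diagonal_mul_diagonal, ← Matrix.diagonal_one]
  congr 1
  funext i
  rcases i with i | i
  · simp
  · simp

/-- the diagonal matrix of a function to the units, as an element of `GL` -/
noncomputable def charUnit (D : ChevalleyDatum) (F : Type*) [Field F] (χ : ℕ → Fˣ) :
    GL D.Idx F :=
  ⟨D.charDiag F χ, D.charDiag F (fun r => (χ r)⁻¹), charDiag_mul_inv χ, by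
    have := charDiag_mul_inv (D := D) (F := F) (fun r => (χ r)⁻¹)
    simpa using this⟩

theorem coe_charUnit (χ : ℕ → Fˣ) :
    ((charUnit D F χ : GL D.Idx F) : Matrix D.Idx D.Idx F) = D.charDiag F χ := rfl

theorem coe_charUnit_inv (χ : ℕ → Fˣ) :
    (((charUnit D F χ)⁻¹ : GL D.Idx F) : Matrix D.Idx D.Idx F) =
      D.charDiag F (fun r => (χ r)⁻¹) := rfl

theorem charUnit_inv (χ : ℕ → Fˣ) :
    (charUnit D F χ)⁻¹ = charUnit D F (fun r => (χ r)⁻¹) := by
  apply Units.ext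
  rfl

theorem charUnit_conj (hD : D ∈ [chevG2, chevB2, chevD4, chevF4, chevE6, chevE7, chevE8])
    {χ : ℕ → Fˣ} (hχ : D.IsRootCharacter χ) {r : ℕ} (hr : r < D.nroots) (t : F)
    (g : GL D.Idx F) (hg : (g : Matrix D.Idx D.Idx F) = D.x F r t) :
    ((charUnit D F χ * g * (charUnit D F χ)⁻¹ : GL D.Idx F) : Matrix D.Idx D.Idx F) =
      D.x F r ((χ r : F) * t) := by
  have V := valid0_of_mem hD
  have V1 := valid1_of_mem hD
  have h1 := diagC_mul_xN V (isChar_of_rootChar V V1 hχ) hr t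
  have e : D.charDiag F χ = diagC D (fun s => ((χ s : Fˣ) : F)) := rfl
  rw [Units.val_mul, Units.val_mul, coe_charUnit, coe_charUnit_inv, hg, x_eq_xN, x_eq_xN, e, h1,
    ← e, Matrix.mul_assoc, charDiag_mul_inv, Matrix.mul_one]

theorem isRootCharacter_inv {χ : ℕ → Fˣ} (hχ : D.IsRootCharacter χ) :
    D.IsRootCharacter (fun r => (χ r)⁻¹) := by
  refine ⟨fun r hr => ?_, fun r s k hr hs hk => ?_⟩
  · simp only
    rw [hχ.1 r hr]
  · simp only
    rw [hχ.2 r s k hr hs hk, mul_inv]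

theorem charUnit_conj_mem (hD : D ∈ [chevG2, chevB2, chevD4, chevF4, chevE6, chevE7, chevE8])
    {χ : ℕ → Fˣ} (hχ : D.IsRootCharacter χ) :
    ∀ g ∈ D.group F, charUnit D F χ * g * (charUnit D F χ)⁻¹ ∈ D.group F := by
  unfold ChevalleyDatum.group
  apply conj_mem_closure
  rintro g ⟨r, t, hg⟩
  have hg' : (g : Matrix D.Idx D.Idx F) = D.x F r.val t := by
    rw [hg]; unfold ChevalleyDatum.x; rw [dif_pos r.isLt]
  have := x_mem_group r.isLt _ _ (charUnit_conj hD hχ r.isLt t g hg')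
  exact this

/-- the diagonal automorphism of a character of the root lattice -/
noncomputable def diagAut (hD : D ∈ [chevG2, chevB2, chevD4, chevF4, chevE6, chevE7, chevE8])
    {χ : ℕ → Fˣ} (hχ : D.IsRootCharacter χ) : MulAut ↥(D.group F) :=
  conjAutOf (D.group F) (charUnit D F χ) (charUnit_conj_mem hD hχ) (by
    intro g hg
    have := charUnit_conj_mem hD (isRootCharacter_inv hχ) g hg
    rw [← charUnit_inv, inv_inv] at this
    exact this)

theorem diagAut_apply (hD : D ∈ [chevG2, chevB2, chevD4, chevF4, chevE6, chevE7, chevE8])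
    {χ : ℕ → Fˣ} (hχ : D.IsRootCharacter χ) (g : ↥(D.group F)) :
    ((diagAut hD hχ g : ↥(D.group F)) : GL D.Idx F) =
      charUnit D F χ * g * (charUnit D F χ)⁻¹ := rfl

theorem diagAut_xEl (hD : D ∈ [chevG2, chevB2, chevD4, chevF4, chevE6, chevE7, chevE8])
    {χ : ℕ → Fˣ} (hχ : D.IsRootCharacter χ) {r : ℕ} (hr : r < D.nroots) (t : F) :
    diagAut hD hχ (xEl hD r t) = xEl hD r ((χ r : F) * t) := by
  apply Subtype.ext
  apply Units.ext
  rw [diagAut_apply, charUnit_conj hD hχ hr t _ (coe_xEl hD hr t), coe_xEl hD hr]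

theorem isDiagonalAut_diagAut (hD : D ∈ [chevG2, chevB2, chevD4, chevF4, chevE6, chevE7, chevE8])
    {χ : ℕ → Fˣ} (hχ : D.IsRootCharacter χ) : D.IsDiagonalAut (diagAut (F := F) hD hχ) := by
  refine ⟨χ, hχ, fun g => ?_⟩
  rw [diagAut_apply, Units.val_mul, Units.val_mul, coe_charUnit, coe_charUnit_inv]

end

end Cfsg.Agent.Lib.Helper8.Chev
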