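import Cfsg.Agent.Lib.Helper8.ChevAu12

set_option autoImplicit false

/-! Rank one: an automorphism in standard form with `f_i(1) = 1` maps `n_i` to `n_{ρ i}` and has
the same parameter maps on `X_{p_i}` and `X_{-p_i}`. -/

namespace Cfsg.Agent.Lib.Helper8.Chev

open Cfsg.Lie Matrix Cfsg.Agent.Lib.Helper3

section SL2

variable {F : Type*} [Field F]

theorem sl2_id4 {s : F} (hs : 1 + s ≠ 0) :
    (upS 1 * loS s * upS 1) * upS 1 =
      (loS (s / (1 + s)) * upS ((1 + s) ^ 2) * loS (-(s / (1 + s)))) *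
        (upS 1 * loS s * upS 1) := by
  ext i j
  simp only [Matrix.SpecialLinearGroup.coe_mul, coe_upS, coe_loS]
  fin_cases i <;> fin_cases j <;>
    simp [Matrix.mul_apply, Fin.sum_univ_two]
  all_goals (try field_simp)
  all_goals (try ring_nf)

theorem sl2_id5 (t : F) :
    (upS 1 * loS (-1) * upS 1) * upS t = loS (-t) * (upS 1 * loS (-1 : F) * upS 1) := by
  ext i j
  simp only [Matrix.SpecialLinearGroup.coe_mul, coe_upS, coe_loS]
  fin_cases i <;> fin_cases j <;>
    simp [Matrix.mul_apply, Fin.sum_univ_two]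

end SL2

section

variable {D : ChevalleyDatum} {F : Type*} [Field F]

theorem rootSubgroup_le_group {r : ℕ} (hr : r < D.nroots) :
    D.rootSubgroup F r ≤ D.group F := by
  unfold ChevalleyDatum.rootSubgroup
  rw [Subgroup.closure_le]
  rintro g ⟨t, hg⟩
  exact x_mem_group hr t g hg

/-- the homomorphism from `SL₂` attached to a root, into the group -/
theorem exists_phiG (hD : D ∈ [chevG2, chevB2, chevD4, chevF4, chevE6, chevE7, chevE8])
    {r : ℕ} (hr : r < D.nroots) :
    ∃ φ : Matrix.SpecialLinearGroup (Fin 2) F →* ↥(D.group F),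
      (∀ t : F, φ (upS t) = xEl hD r t) ∧ (∀ t : F, φ (loS t) = xEl hD (D.neg r) t) := by
  have V := valid0_of_mem hD
  have hnr := V.neg_lt hr
  obtain ⟨φ, hrange, h⟩ := Cfsg.Agent.S1030.result (F := F) D hD r hr
  have hmem : ∀ x, φ x ∈ D.group F := by
    intro x
    have hx : φ x ∈ φ.range := ⟨x, rfl⟩
    rw [hrange] at hx
    exact (sup_le (rootSubgroup_le_group hr) (rootSubgroup_le_group hnr)) hx
  refine ⟨φ.codRestrict (D.group F) hmem, fun t => ?_, fun t => ?_⟩
  · apply Subtype.ext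
    apply Units.ext
    rw [coe_xEl hD hr]
    exact (h (upS t) t).1 rfl
  · apply Subtype.ext
    apply Units.ext
    rw [coe_xEl hD hnr]
    exact (h (loS t) t).2 rfl

/-- `n_i x_{p_i}(t) = x_{-p_i}(-t) n_i` -/
theorem nEl_mul_xEl (hD : D ∈ [chevG2, chevB2, chevD4, chevF4, chevE6, chevE7, chevE8])
    {i : ℕ} (hi : i < D.rank) (t : F) :
    (nEl hD F i : ↥(D.group F)) * xEl hD (D.simple i) t =
      xEl hD (D.neg (D.simple i)) (-t) * nEl hD F i := by
  have J := validJ_of_mem hD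
  obtain ⟨φ, h1, h2⟩ := exists_phiG (F := F) hD (J.S i hi).1
  have := congrArg φ (sl2_id5 t)
  simp only [map_mul, h1, h2] at this
  rw [nEl_eq hD hi]
  exact this

/-- a root element of a positive root equal to one of a negative root is trivial -/
theorem xEl_pos_eq_neg (hD : D ∈ [chevG2, chevB2, chevD4, chevF4, chevE6, chevE7, chevE8])
    {r s : ℕ} (hr : D.IsPosRoot r) (hs : D.IsNegRoot s) {t u : F}
    (h : (xEl hD r t : ↥(D.group F)) = xEl hD s u) : t = 0 := by
  have V := valid0_of_mem hD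
  have C := copP_of_mem hD
  have hr' := hr.1
  have hmem : ((xEl hD r t : ↥(D.group F)) : GL D.Idx F) ∈
      D.posUnipotent F ⊓ D.negUnipotent F := by
    refine Subgroup.mem_inf.mpr ⟨rootSub_le_pos hr (xEl_mem_rootSubgroup hD hr' t), ?_⟩
    rw [h]
    exact rootSubgroup_le_neg hs (xEl_mem_rootSubgroup hD hs.1 u)
  rw [pos_inf_neg hD, Subgroup.mem_bot] at hmem
  have h1 : D.x F r t = 1 := by
    rw [← coe_xEl hD hr', hmem]
    rfl
  rw [x_eq_xN] at h1
  exact xN_eq_one V C hr' h1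

theorem xEl_zero (hD : D ∈ [chevG2, chevB2, chevD4, chevF4, chevE6, chevE7, chevE8])
    (r : ℕ) : (xEl hD r (0 : F) : ↥(D.group F)) = 1 := by
  have V := valid0_of_mem hD
  by_cases hr : r < D.nroots
  · apply Subtype.ext
    apply Units.ext
    rw [coe_xEl hD hr, x_eq_xN, xN_zero V]
    rfl
  · unfold xEl
    rw [dif_neg hr]

theorem xEl_inv (hD : D ∈ [chevG2, chevB2, chevD4, chevF4, chevE6, chevE7, chevE8])
    {r : ℕ} (hr : r < D.nroots) (t : F) :
    (xEl hD r t : ↥(D.group F))⁻¹ = xEl hD r (-t) := by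
  rw [inv_eq_iff_mul_eq_one, ← xEl_add hD hr, add_neg_cancel, xEl_zero]

namespace StdAut

variable {hD : D ∈ [chevG2, chevB2, chevD4, chevF4, chevE6, chevE7, chevE8]}
  {θ : MulAut ↥(D.group F)} (S : StdAut hD θ)

include S in
/-- with `f_i(1) = 1`, also `g_i(-1) = -1` -/
theorem g_neg_one (i : Fin D.rank) (h1 : S.f i 1 = 1) : S.g i (-1) = -1 := by
  have P := posP_of_mem hD
  by_contra hne
  have hs : 1 + S.g i (-1) ≠ 0 := fun h => hne (by linear_combination h)
  have hp' := simple_lt hD (S.ρ i)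
  have hnp' := neg_simple_lt hD (S.ρ i)
  have e1 := congrArg θ (nEl_mul_xEl hD i.isLt (1 : F))
  rw [map_mul, map_mul, nEl_eq hD i.isLt, map_mul, map_mul, S.hf, S.hg, h1] at e1
  obtain ⟨φ, p1, p2⟩ := exists_phiG (F := F) hD hp'
  have e2 := congrArg φ (sl2_id4 hs)
  simp only [map_mul, p1, p2] at e2
  have e3 := mul_right_cancel (e1.symm.trans e2)
  have e4 : (xEl hD (D.simple (S.ρ i)) ((1 + S.g i (-1)) ^ 2) : ↥(D.group F)) =
      xEl hD (D.neg (D.simple (S.ρ i)))
        (-(S.g i (-1) / (1 + S.g i (-1))) + S.g i (-1) + S.g i (-1) / (1 + S.g i (-1))) := by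
    rw [xEl_add hD hnp', xEl_add hD hnp', e3, ← xEl_inv hD hnp']
    group
  have := xEl_pos_eq_neg hD (isPosRoot_simple hD (S.ρ i).isLt)
    (isNegRoot_neg_simple hD (S.ρ i).isLt) e4
  exact hs ((pow_eq_zero_iff (two_ne_zero)).mp this)

include S in
theorem map_nEl (i : Fin D.rank) (h1 : S.f i 1 = 1) :
    θ (nEl hD F i) = nEl hD F (S.ρ i) := by
  rw [nEl_eq hD i.isLt, nEl_eq hD (S.ρ i).isLt, map_mul, map_mul, S.hf, S.hg, h1,
    S.g_neg_one i h1]

include S in
theorem g_eq_f (i : Fin D.rank) (h1 : S.f i 1 = 1) (t : F) : S.g i t = S.f i t := by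
  have e1 := congrArg θ (nEl_mul_xEl hD i.isLt (-t))
  rw [map_mul, map_mul, S.map_nEl i h1, S.hf, S.hg, neg_neg] at e1
  have e2 := nEl_mul_xEl hD (S.ρ i).isLt (S.f i (-t))
  have e3 := xEl_inj hD (neg_simple_lt hD (S.ρ i)) (mul_right_cancel (e1.symm.trans e2))
  rw [e3, S.f_neg, neg_neg]

end StdAut

end

end Cfsg.Agent.Lib.Helper8.Chev
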