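import Cfsg.Agent.Lib.Helper8.ChevAu13

set_option autoImplicit false

/-! The diagonal adjustment of an automorphism in standard form. -/

namespace Cfsg.Agent.Lib.Helper8.Chev

open Cfsg.Lie Matrix Cfsg.Agent.Lib.Helper3

section

variable {D : ChevalleyDatum} {F : Type*} [Field F]

theorem diagAut_mul_inv (hD : D ∈ [chevG2, chevB2, chevD4, chevF4, chevE6, chevE7, chevE8])
    {χ : ℕ → Fˣ} (hχ : D.IsRootCharacter χ) :
    diagAut (F := F) hD hχ * diagAut hD (isRootCharacter_inv hχ) = 1 := by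
  apply MulEquiv.ext
  intro g
  apply Subtype.ext
  rw [MulAut.mul_apply, diagAut_apply, diagAut_apply, ← charUnit_inv, MulAut.one_apply]
  group

theorem diagAut_inv_mul (hD : D ∈ [chevG2, chevB2, chevD4, chevF4, chevE6, chevE7, chevE8])
    {χ : ℕ → Fˣ} (hχ : D.IsRootCharacter χ) :
    diagAut (F := F) hD (isRootCharacter_inv hχ) * diagAut hD hχ = 1 := by
  apply MulEquiv.ext
  intro g
  apply Subtype.ext
  rw [MulAut.mul_apply, diagAut_apply, diagAut_apply, ← charUnit_inv, MulAut.one_apply]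
  group

/-- the diagonal adjustment -/
theorem exists_normalized (hD : D ∈ [chevG2, chevB2, chevD4, chevF4, chevE6, chevE7, chevE8])
    {θ : MulAut ↥(D.group F)} (S : StdAut hD θ) :
    ∃ (χ : ℕ → Fˣ) (hχ : D.IsRootCharacter χ) (θ' : MulAut ↥(D.group F)) (S' : StdAut hD θ'),
      θ = diagAut hD hχ * θ' ∧ S'.ρ = S.ρ ∧ ∀ i, S'.f i 1 = 1 := by
  have hne : ∀ j : Fin D.rank, S.f (S.ρ.symm j) 1 ≠ 0 := fun j => S.f_ne_zero _ one_ne_zero
  set c : Fin D.rank → Fˣ := fun j => Units.mk0 (S.f (S.ρ.symm j) 1) (hne j) with hc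
  have hχ := rcChar_isRootCharacter (F := F) hD c
  have hχi := isRootCharacter_inv hχ
  refine ⟨rcChar D c, hχ, diagAut hD hχi * θ,
    ⟨S.ρ, fun i t => ((rcChar D c (D.simple (S.ρ i)))⁻¹ : Fˣ) * S.f i t,
      fun i t => ((rcChar D c (D.neg (D.simple (S.ρ i))))⁻¹ : Fˣ) * S.g i t, ?_, ?_⟩, ?_, rfl, ?_⟩
  · intro i t
    rw [MulAut.mul_apply, S.hf, diagAut_xEl hD hχi (StdAut.simple_lt hD _)]
  · intro i t
    rw [MulAut.mul_apply, S.hg, diagAut_xEl hD hχi (StdAut.neg_simple_lt hD _)]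
  · rw [← mul_assoc, diagAut_mul_inv, one_mul]
  · intro i
    show ((rcChar D c (D.simple (S.ρ i)))⁻¹ : Fˣ) * S.f i 1 = 1
    rw [rcChar_simple hD c (S.ρ i), hc]
    simp only [Equiv.symm_apply_apply]
    rw [Units.val_inv_eq_inv_val, Units.val_mk0, inv_mul_cancel₀]
    have := hne (S.ρ i)
    rwa [Equiv.symm_apply_apply] at this

end

end Cfsg.Agent.Lib.Helper8.Chev
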