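import Cfsg.Agent.Lib.Helper8.ChevAu14

set_option autoImplicit false

/-! Rank two, one root length: the commutator relations of two fundamental root subgroups. -/

namespace Cfsg.Agent.Lib.Helper8.Chev

open Cfsg.Lie Matrix Cfsg.Agent.Lib.Helper3

/-- two fundamental roots are joined by no bond and commute, or by one bond and have the single
commutator term `(1, 1)` with constant `±1`; every node has a neighbour -/
noncomputable def checkSL2 (D : ChevalleyDatum) : Bool :=
  forallLtF (fun i => forallLtF (fun j => Nat.beq i j ||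
    (match D.commTerms (D.simple i) (D.simple j) with
     | [] => decide (D.bonds i j = 0)
     | [(k, C, 1, 1)] =>
        decide (D.bonds i j = 1) && (decide (C = 1) || decide (C = -1)) && Nat.blt k D.nroots
     | _ => false)) D.rank) D.rank &&
  forallLtF (fun i => existsLtF (fun j => !(Nat.beq i j) && decide (D.bonds i j = 1))
    D.rank) D.rank

theorem checkSL2_D4 : checkSL2 chevD4 = true := by decide +kernel
theorem checkSL2_E6 : checkSL2 chevE6 = true := by decide +kernel
theorem checkSL2_E7 : checkSL2 chevE7 = true := by decide +kernel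
set_option maxRecDepth 100000 in
theorem checkSL2_E8 : checkSL2 chevE8 = true := by decide +kernel

theorem checkSL2_of_mem {D : ChevalleyDatum}
    (hD : D ∈ [chevD4, chevE6, chevE7, chevE8]) : checkSL2 D = true := by
  simp only [List.mem_cons, List.not_mem_nil, or_false] at hD
  rcases hD with rfl | rfl | rfl | rfl
  · exact checkSL2_D4
  · exact checkSL2_E6
  · exact checkSL2_E7
  · exact checkSL2_E8

theorem mem7_of_mem4 {D : ChevalleyDatum} (hD : D ∈ [chevD4, chevE6, chevE7, chevE8]) :
    D ∈ [chevG2, chevB2, chevD4, chevF4, chevE6, chevE7, chevE8] := by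
  simp only [List.mem_cons, List.not_mem_nil, or_false] at hD ⊢
  rcases hD with rfl | rfl | rfl | rfl <;> simp

section

variable {D : ChevalleyDatum} {F : Type*} [Field F]

/-- the shape of the commutator terms of two fundamental roots -/
theorem commTerms_simple (hD : D ∈ [chevD4, chevE6, chevE7, chevE8]) {i j : ℕ}
    (hi : i < D.rank) (hj : j < D.rank) (hij : i ≠ j) :
    (D.bonds i j = 0 ∧ D.commTerms (D.simple i) (D.simple j) = []) ∨
    (D.bonds i j = 1 ∧ ∃ k < D.nroots, ∃ C : ℤ, (C = 1 ∨ C = -1) ∧
      D.commTerms (D.simple i) (D.simple j) = [(k, C, 1, 1)]) := by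
  have h := checkSL2_of_mem hD
  simp only [checkSL2, Bool.and_eq_true, forallLtF_eq_true, Bool.or_eq_true, Nat.beq_eq] at h
  rcases h.1 i hi j hj with h1 | h1
  · exact absurd h1 hij
  · split at h1
    · rename_i e
      exact Or.inl ⟨by simpa using h1, e⟩
    · rename_i k C e
      simp only [Bool.and_eq_true, Bool.or_eq_true, decide_eq_true_eq, Nat.blt_eq] at h1
      exact Or.inr ⟨h1.1.1, k, h1.2, C, h1.1.2, e⟩
    · exact absurd h1 (by simp)

theorem exists_neighbour (hD : D ∈ [chevD4, chevE6, chevE7, chevE8]) {i : ℕ}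
    (hi : i < D.rank) : ∃ j < D.rank, i ≠ j ∧ D.bonds i j = 1 := by
  have h := checkSL2_of_mem hD
  simp only [checkSL2, Bool.and_eq_true, forallLtF_eq_true, existsLtF_eq_true,
    decide_eq_true_eq, Bool.not_eq_true'] at h
  obtain ⟨j, hj, h1, h2⟩ := h.2 i hi
  refine ⟨j, hj, ?_, h2⟩
  intro e
  rw [e, Bool.eq_false_iff] at h1
  exact h1 (Nat.beq_eq.mpr rfl)

/-- the commutator relation of two fundamental root subgroups -/
theorem comm_simple_simple (hD4 : D ∈ [chevD4, chevE6, chevE7, chevE8])
    (hD : D ∈ [chevG2, chevB2, chevD4, chevF4, chevE6, chevE7, chevE8]) {i j : ℕ}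
    (hi : i < D.rank) (hj : j < D.rank) (hij : i ≠ j) :
    (D.bonds i j = 0 ∧ ∀ t u : F, (xEl hD (D.simple j) u : ↥(D.group F)) * xEl hD (D.simple i) t =
      xEl hD (D.simple i) t * xEl hD (D.simple j) u) ∨
    (D.bonds i j = 1 ∧ ∃ k < D.nroots, ∃ C : F, (C = 1 ∨ C = -1) ∧
      ∀ t u : F, (xEl hD (D.simple j) u : ↥(D.group F)) * xEl hD (D.simple i) t =
        xEl hD (D.simple i) t * xEl hD (D.simple j) u * xEl hD k (C * t * u)) := by
  have V := valid0_of_mem hD
  have J := validJ_of_mem hD
  have P := posP_of_mem hD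
  have hpi := (J.S i hi).1
  have hpj := (J.S j hj).1
  have hposi := (P _ hpi).1.mp (isPosRoot_simple hD hi)
  have hposj := (P _ hpj).1.mp (isPosRoot_simple hD hj)
  have hnegi := (P _ (V.neg_lt hpi)).2.mp (isNegRoot_neg_simple hD hi)
  have h1 : D.simple j ≠ D.simple i := fun h => hij (simple_inj J hi hj h.symm)
  have h2 : D.simple j ≠ D.neg (D.simple i) := by omega
  have hcf := fun t u : F => comm_formula hD hpi hpj h1 h2 t u
  rcases commTerms_simple hD4 hi hj hij with ⟨hb, hnil⟩ | ⟨hb, k, hk, C, hC, hone⟩
  · refine Or.inl ⟨hb, fun t u => ?_⟩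
    have := hcf t u
    unfold ChevalleyDatum.commWord at this
    rw [hnil] at this
    simp only [List.map_nil, ChevalleyDatum.wordMat, List.prod_nil, mul_one] at this
    apply Subtype.ext
    apply Units.ext
    rw [Subgroup.coe_mul, Subgroup.coe_mul, Units.val_mul, Units.val_mul, coe_xEl hD hpi,
      coe_xEl hD hpj]
    exact this
  · refine Or.inr ⟨hb, k, hk, -(C : F), ?_, fun t u => ?_⟩
    · rcases hC with rfl | rfl
      · right; simp
      · left; simp
    · have := hcf t u
      unfold ChevalleyDatum.commWord at this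
      rw [hone] at this
      simp only [List.map_cons, List.map_nil, ChevalleyDatum.wordMat, List.prod_cons,
        List.prod_nil, mul_one, pow_one] at this
      apply Subtype.ext
      apply Units.ext
      rw [Subgroup.coe_mul, Subgroup.coe_mul, Subgroup.coe_mul, Units.val_mul, Units.val_mul,
        Units.val_mul, coe_xEl hD hpi, coe_xEl hD hpj, coe_xEl hD hk, this]
      congr 2
      ring

end

end Cfsg.Agent.Lib.Helper8.Chev
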