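import Cfsg.Agent.Lib.Helper8.ChevAu15
import Cfsg.Agent.Lib.Helper27.BondsConn

set_option autoImplicit false

/-! One root length: a normalised automorphism in standard form is given by a symmetry of the
diagram and a field automorphism. -/

namespace Cfsg.Agent.Lib.Helper8.Chev

open Cfsg.Lie Matrix Cfsg.Agent.Lib.Helper3

section

variable {D : ChevalleyDatum} {F : Type*} [Field F]

theorem xEl_eq_one (hD : D ∈ [chevG2, chevB2, chevD4, chevF4, chevE6, chevE7, chevE8])
    {r : ℕ} (hr : r < D.nroots) {t : F} (h : (xEl hD r t : ↥(D.group F)) = 1) : t = 0 := by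
  rw [← xEl_zero hD r] at h
  exact xEl_inj hD hr h

/-- the rank two step -/
theorem StdAut.rank2_step (hD4 : D ∈ [chevD4, chevE6, chevE7, chevE8])
    {hD : D ∈ [chevG2, chevB2, chevD4, chevF4, chevE6, chevE7, chevE8]}
    {θ : MulAut ↥(D.group F)} (S : StdAut hD θ) (h1 : ∀ i, S.f i 1 = 1)
    {i j : Fin D.rank} (hij : i ≠ j) :
    D.bonds (S.ρ i) (S.ρ j) = D.bonds i j ∧
      (D.bonds i j = 1 → (∀ t, S.f i t = S.f j t) ∧
        ∀ t u, S.f j (t * u) = S.f j t * S.f j u) := by
  have hij' : (i : ℕ) ≠ j := fun h => hij (Fin.ext h)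
  have hρ : ((S.ρ i : Fin D.rank) : ℕ) ≠ S.ρ j := fun h => hij (S.ρ.injective (Fin.ext h))
  rcases comm_simple_simple (F := F) hD4 hD i.isLt j.isLt hij' with
    ⟨hb, rel⟩ | ⟨hb, k, hk, C, hC, rel⟩ <;>
  rcases comm_simple_simple (F := F) hD4 hD (S.ρ i).isLt (S.ρ j).isLt hρ with
    ⟨hb', rel'⟩ | ⟨hb', k', hk', C', hC', rel'⟩
  · refine ⟨by rw [hb, hb'], fun h => ?_⟩
    rw [hb] at h
    exact absurd h (by decide)
  · exfalso
    have e := congrArg θ (rel 1 1)
    rw [map_mul, map_mul, S.hf, S.hf, h1, h1, rel' 1 1] at e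
    have e2 := xEl_eq_one hD hk' (mul_left_cancel (e.trans (mul_one _).symm))
    rcases hC' with rfl | rfl
    · simp at e2
    · simp at e2
  · exfalso
    have e := congrArg θ (rel 1 1)
    rw [map_mul, map_mul, map_mul, S.hf, S.hf, h1, h1, rel' 1 1] at e
    have e2 : θ (xEl hD k (C * 1 * 1)) = 1 := (mul_left_cancel ((mul_one _).trans e)).symm
    rw [← map_one θ] at e2
    have e3 := xEl_eq_one hD hk (θ.injective e2)
    rcases hC with rfl | rfl
    · simp at e3
    · simp at e3
  · refine ⟨by rw [hb, hb'], fun _ => ?_⟩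
    have hC0 : C' ≠ 0 := by
      rcases hC' with rfl | rfl
      · exact one_ne_zero
      · exact neg_ne_zero.mpr one_ne_zero
    have key : ∀ t u : F, θ (xEl hD k (C * t * u)) = xEl hD k' (C' * S.f i t * S.f j u) := by
      intro t u
      have e := congrArg θ (rel t u)
      rw [map_mul, map_mul, map_mul, S.hf, S.hf, rel' (S.f i t) (S.f j u)] at e
      exact (mul_left_cancel e).symm
    have hmul : ∀ t u : F, S.f i t * S.f j u = S.f j (t * u) := by
      intro t u
      have e1 := key t u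
      have e2 := key 1 (t * u)
      have : C * t * u = C * 1 * (t * u) := by ring
      rw [this, e2, h1] at e1
      have := xEl_inj hD hk' e1
      have h3 : C' * (S.f j (t * u)) = C' * (S.f i t * S.f j u) := by
        rw [← mul_assoc, ← this]; ring
      exact (mul_left_cancel₀ hC0 h3).symm
    have heq : ∀ t, S.f i t = S.f j t := by
      intro t
      have := hmul t 1
      rwa [h1, mul_one, mul_one] at this
    refine ⟨heq, fun t u => ?_⟩
    rw [← hmul t u, heq t]

theorem rank_pos_of_mem (hD : D ∈ [chevG2, chevB2, chevD4, chevF4, chevE6, chevE7, chevE8]) :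
    0 < D.rank := by
  simp only [List.mem_cons, List.not_mem_nil, or_false] at hD
  rcases hD with rfl | rfl | rfl | rfl | rfl | rfl | rfl <;> decide

/-- one root length: the symmetry of the diagram and the field automorphism -/
theorem StdAut.sl_form [Finite F] (hD4 : D ∈ [chevD4, chevE6, chevE7, chevE8])
    {hD : D ∈ [chevG2, chevB2, chevD4, chevF4, chevE6, chevE7, chevE8]}
    {θ : MulAut ↥(D.group F)} (S : StdAut hD θ) (h1 : ∀ i, S.f i 1 = 1) :
    ∃ σ : F ≃+* F, D.IsDiagramSymmetry S.ρ ∧ ∀ (i : Fin D.rank) (t : F), S.f i t = σ t := by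
  have hsym : D.IsDiagramSymmetry S.ρ := fun i j hij => (S.rank2_step hD4 h1 hij).1
  have hconst : ∀ i j : Fin D.rank, S.f i = S.f j := by
    apply Cfsg.Agent.Lib.Helper27.BondsConn.const_of_bonds D hD4
    intro i j hb
    by_cases hij : i = j
    · rw [hij]
    · funext t
      exact ((S.rank2_step hD4 h1 hij).2 hb).1 t
  set i₀ : Fin D.rank := ⟨0, rank_pos_of_mem hD⟩ with hi₀
  obtain ⟨j, hj, hne, hb⟩ := exists_neighbour hD4 i₀.isLt
  have hne' : i₀ ≠ ⟨j, hj⟩ := fun h => hne (congrArg Fin.val h)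
  have hmul := ((S.rank2_step hD4 h1 hne').2 hb).2
  rw [← hconst i₀ ⟨j, hj⟩] at hmul
  let φ : F →+* F :=
    { toFun := S.f i₀
      map_one' := h1 i₀
      map_mul' := hmul
      map_zero' := S.f_zero i₀
      map_add' := S.f_add i₀ }
  refine ⟨RingEquiv.ofBijective φ ⟨S.f_inj i₀, S.f_surj i₀⟩, hsym, fun i t => ?_⟩
  rw [hconst i i₀]
  rfl

end

end Cfsg.Agent.Lib.Helper8.Chev
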