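import Cfsg.Agent.Lib.Helper8.ChevAu16
import Cfsg.Agent.S1080

set_option autoImplicit false

/-! The automorphism theorem: assembly from the form of the normalised automorphisms. -/

namespace Cfsg.Agent.Lib.Helper8.Chev

open Cfsg.Lie Matrix Cfsg.Agent.Lib.Helper3

/-- no fundamental root is long (one root length) -/
noncomputable def checkNoLong (D : ChevalleyDatum) : Bool :=
  forallLtF (fun j => !(D.isLong (D.simple j))) D.rank

set_option maxRecDepth 1000000 in
theorem checkNoLong_D4 : checkNoLong chevD4 = true := by decide +kernel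
set_option maxRecDepth 1000000 in
theorem checkNoLong_E6 : checkNoLong chevE6 = true := by decide +kernel
set_option maxRecDepth 1000000 in
theorem checkNoLong_E7 : checkNoLong chevE7 = true := by decide +kernel
set_option maxRecDepth 1000000 in
theorem checkNoLong_E8 : checkNoLong chevE8 = true := by decide +kernel

theorem graphExp_eq_one {D : ChevalleyDatum} (hD : D ∈ [chevD4, chevE6, chevE7, chevE8])
    (c : ℕ) (i : ℕ) {j : ℕ} (hj : j < D.rank) : D.graphExp c i j = 1 := by
  have h : checkNoLong D = true := by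
    simp only [List.mem_cons, List.not_mem_nil, or_false] at hD
    rcases hD with rfl | rfl | rfl | rfl
    · exact checkNoLong_D4
    · exact checkNoLong_E6
    · exact checkNoLong_E7
    · exact checkNoLong_E8
  simp only [checkNoLong, forallLtF_eq_true, Bool.not_eq_true'] at h
  unfold ChevalleyDatum.graphExp
  rw [h j hj]
  simp

section

variable {D : ChevalleyDatum} {F : Type*} [Field F]

/-- the field automorphism of the group attached to an automorphism of the field -/
theorem exists_fieldAut (hD : D ∈ [chevG2, chevB2, chevD4, chevF4, chevE6, chevE7, chevE8])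
    (σ : F ≃+* F) : ∃ α : MulAut ↥(D.group F), D.IsFieldAut α ∧
      ∀ (r : ℕ) (t : F), r < D.nroots → α (xEl hD r t) = xEl hD r (σ t) := by
  obtain ⟨α, hα⟩ := Cfsg.Agent.S1080.result (F := F) D hD σ
  refine ⟨α, ⟨σ, hα⟩, fun r t hr => ?_⟩
  apply Subtype.ext
  apply Units.ext
  rw [hα _ r t hr (coe_xEl hD hr t), coe_xEl hD hr]

/-- the form of the normalised automorphisms: a symmetry of the diagram and a field
automorphism -/
def NormalForm (hD : D ∈ [chevG2, chevB2, chevD4, chevF4, chevE6, chevE7, chevE8])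
    (F : Type*) [Field F] : Prop :=
  ∀ (θ : MulAut ↥(D.group F)) (S : StdAut hD θ), (∀ i, S.f i 1 = 1) →
    ∃ σ : F ≃+* F, D.IsDiagramSymmetry S.ρ ∧
      ∀ (i : Fin D.rank) (t : F), S.f i t = (σ t) ^ D.graphExp (ringChar F) i (S.ρ i)

theorem normalForm_sl [Finite F] (hD4 : D ∈ [chevD4, chevE6, chevE7, chevE8])
    (hD : D ∈ [chevG2, chevB2, chevD4, chevF4, chevE6, chevE7, chevE8]) :
    NormalForm hD F := by
  intro θ S h1
  obtain ⟨σ, hs, hf⟩ := S.sl_form hD4 h1
  refine ⟨σ, hs, fun i t => ?_⟩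
  rw [graphExp_eq_one hD4 _ _ (S.ρ i).isLt, pow_one, hf]

/-- the decomposition of an automorphism preserving `U` and `V` -/
theorem decomp_of_pres [Finite F]
    (hD : D ∈ [chevG2, chevB2, chevD4, chevF4, chevE6, chevE7, chevE8])
    (hN : NormalForm hD F) {θ : MulAut ↥(D.group F)}
    (hU : Pres θ (D.posUnipotent F)) (hV : Pres θ (D.negUnipotent F)) :
    ∃ (χ : ℕ → Fˣ) (hχ : D.IsRootCharacter χ) (g f : MulAut ↥(D.group F)),
      D.IsGraphAut g ∧ D.IsFieldAut f ∧ θ = diagAut hD hχ * g * f := by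
  obtain ⟨S⟩ := exists_stdAut hD hU hV
  obtain ⟨χ, hχ, θ', S', hθ, -, h1⟩ := exists_normalized hD S
  obtain ⟨σ, hsym, hf⟩ := hN θ' S' h1
  obtain ⟨α, hα, hαx⟩ := exists_fieldAut (F := F) hD σ
  have hαinv : ∀ (r : ℕ) (t : F), r < D.nroots →
      (α⁻¹ : MulAut ↥(D.group F)) (xEl hD r t) = xEl hD r (σ.symm t) := by
    intro r t hr
    have := hαx r (σ.symm t) hr
    rw [RingEquiv.apply_symm_apply] at this
    rw [← this, MulAut.inv_apply_self]
  refine ⟨χ, hχ, θ' * α⁻¹, α, ⟨S'.ρ, hsym, fun g₀ i t => ⟨fun hg => ?_, fun hg => ?_⟩⟩, hα, ?_⟩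
  · have hp := StdAut.simple_lt hD i
    have e : g₀ = xEl hD (D.simple i) t := by
      apply Subtype.ext
      apply Units.ext
      rw [hg, coe_xEl hD hp]
    rw [e, MulAut.mul_apply, hαinv _ _ hp, S'.hf, hf, RingEquiv.apply_symm_apply,
      coe_xEl hD (StdAut.simple_lt hD _)]
  · have hp := StdAut.neg_simple_lt hD i
    have e : g₀ = xEl hD (D.neg (D.simple i)) t := by
      apply Subtype.ext
      apply Units.ext
      rw [hg, coe_xEl hD hp]
    rw [e, MulAut.mul_apply, hαinv _ _ hp, S'.hg, S'.g_eq_f i (h1 i), hf,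
      RingEquiv.apply_symm_apply, coe_xEl hD (StdAut.neg_simple_lt hD _)]
  · rw [hθ, mul_assoc, mul_assoc, inv_mul_cancel, mul_one]

/-- the automorphism theorem -/
theorem steinberg_of_form [Finite F]
    (hD : D ∈ [chevG2, chevB2, chevD4, chevF4, chevE6, chevE7, chevE8])
    (hN : NormalForm hD F) (θ : MulAut ↥(D.group F)) :
    ∃ (x : ↥(D.group F)) (d g f : ↥(D.group F) ≃* ↥(D.group F)),
      D.IsDiagonalAut d ∧ D.IsGraphAut g ∧ D.IsFieldAut f ∧
        ∀ y : ↥(D.group F), θ y = x * d (g (f y)) * x⁻¹ := by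
  have : Fintype F := Fintype.ofFinite F
  have : Fact (ringChar F).Prime := ⟨CharP.char_is_prime F (ringChar F)⟩
  obtain ⟨x, hU, hV⟩ := exists_adjust (ringChar F) hD θ
  obtain ⟨χ, hχ, g, f, hg, hf, e⟩ := decomp_of_pres hD hN hU hV
  refine ⟨x⁻¹, diagAut hD hχ, g, f, isDiagonalAut_diagAut hD hχ, hg, hf, fun y => ?_⟩
  have : θ = MulAut.conj x⁻¹ * (diagAut hD hχ * g * f) := by
    rw [← e, ← mul_assoc, ← map_mul, inv_mul_cancel, map_one, one_mul]
  rw [this]
  simp only [MulAut.mul_apply, MulAut.conj_apply, inv_inv]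

end

end Cfsg.Agent.Lib.Helper8.Chev
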