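import Cfsg.Agent.Lib.Helper8.ChevAu17

set_option autoImplicit false

/-! The group of the automorphisms preserving `U` and `V`. -/

namespace Cfsg.Agent.Lib.Helper8.Chev

open Cfsg.Lie Matrix Cfsg.Agent.Lib.Helper3

section

variable {D : ChevalleyDatum} {F : Type*} [Field F]

/-- an automorphism mapping the generators of a subgroup into a subgroup maps the subgroup
into it -/
theorem mapsTo_of_gens {θ : MulAut ↥(D.group F)} {S : Set (GL D.Idx F)}
    (hS : S ⊆ (D.group F : Set (GL D.Idx F))) {K : Subgroup (GL D.Idx F)}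
    (h : ∀ g : ↥(D.group F), (g : GL D.Idx F) ∈ S → ((θ g : ↥(D.group F)) : GL D.Idx F) ∈ K) :
    MapsTo θ (Subgroup.closure S) K := by
  intro g hg
  have h1 : g ∈ (Subgroup.closure S).subgroupOf (D.group F) := Subgroup.mem_subgroupOf.mpr hg
  rw [closure_subgroupOf_eq (D.group F) S hS] at h1
  have h2 : Subgroup.closure {n : ↥(D.group F) | (n : GL D.Idx F) ∈ S} ≤
      (K.subgroupOf (D.group F)).comap θ.toMonoidHom := by
    rw [Subgroup.closure_le]
    intro n hn
    exact Subgroup.mem_subgroupOf.mpr (h n hn)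
  exact Subgroup.mem_subgroupOf.mp (h2 h1)

/-- an automorphism mapping each `x_r(t)`, `r` positive, to a root element of a positive root
preserves `U` -/
theorem pres_pos_of_gens {θ : MulAut ↥(D.group F)}
    (h : ∀ (g : ↥(D.group F)) (r : ℕ) (t : F), D.IsPosRoot r →
      ((g : GL D.Idx F) : Matrix D.Idx D.Idx F) = D.x F r t →
      ∃ (r' : ℕ) (t' : F), D.IsPosRoot r' ∧
        (((θ g : ↥(D.group F)) : GL D.Idx F) : Matrix D.Idx D.Idx F) = D.x F r' t') :
    Pres θ (D.posUnipotent F) := by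
  unfold ChevalleyDatum.posUnipotent
  apply mapsTo_of_gens
  · rintro g ⟨r, t, hr, hg⟩
    exact x_mem_group hr.1 t g hg
  · rintro g ⟨r, t, hr, hg⟩
    obtain ⟨r', t', hr', hg'⟩ := h g r t hr hg
    exact Subgroup.subset_closure ⟨r', t', hr', hg'⟩

theorem pres_neg_of_gens {θ : MulAut ↥(D.group F)}
    (h : ∀ (g : ↥(D.group F)) (r : ℕ) (t : F), D.IsNegRoot r →
      ((g : GL D.Idx F) : Matrix D.Idx D.Idx F) = D.x F r t →
      ∃ (r' : ℕ) (t' : F), D.IsNegRoot r' ∧
        (((θ g : ↥(D.group F)) : GL D.Idx F) : Matrix D.Idx D.Idx F) = D.x F r' t') :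
    Pres θ (D.negUnipotent F) := by
  unfold ChevalleyDatum.negUnipotent
  apply mapsTo_of_gens
  · rintro g ⟨r, t, hr, hg⟩
    exact x_mem_group hr.1 t g hg
  · rintro g ⟨r, t, hr, hg⟩
    obtain ⟨r', t', hr', hg'⟩ := h g r t hr hg
    exact Subgroup.subset_closure ⟨r', t', hr', hg'⟩

/-- the automorphisms preserving `U` and `V` -/
def presSub (D : ChevalleyDatum) (F : Type*) [Field F] [Finite F] :
    Subgroup (MulAut ↥(D.group F)) where
  carrier := {θ | Pres θ (D.posUnipotent F) ∧ Pres θ (D.negUnipotent F)}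
  one_mem' := ⟨fun _ hg => hg, fun _ hg => hg⟩
  mul_mem' := fun ha hb => ⟨ha.1.mul hb.1, ha.2.mul hb.2⟩
  inv_mem' := fun ha => ⟨ha.1.inv, ha.2.inv⟩

theorem mem_presSub [Finite F] {θ : MulAut ↥(D.group F)} :
    θ ∈ presSub D F ↔ Pres θ (D.posUnipotent F) ∧ Pres θ (D.negUnipotent F) := Iff.rfl

theorem diagAut_mem_presSub [Finite F]
    (hD : D ∈ [chevG2, chevB2, chevD4, chevF4, chevE6, chevE7, chevE8])
    {χ : ℕ → Fˣ} (hχ : D.IsRootCharacter χ) : diagAut hD hχ ∈ presSub D F := by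
  constructor
  · apply pres_pos_of_gens
    intro g r t hr hg
    refine ⟨r, (χ r : F) * t, hr, ?_⟩
    rw [diagAut_apply]
    exact charUnit_conj hD hχ hr.1 t _ hg
  · apply pres_neg_of_gens
    intro g r t hr hg
    refine ⟨r, (χ r : F) * t, hr, ?_⟩
    rw [diagAut_apply]
    exact charUnit_conj hD hχ hr.1 t _ hg

theorem fieldAut_mem_presSub [Finite F] {α : MulAut ↥(D.group F)} (hα : D.IsFieldAut α) :
    α ∈ presSub D F := by
  obtain ⟨σ, hσ⟩ := hα
  constructor
  · apply pres_pos_of_gens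
    intro g r t hr hg
    exact ⟨r, σ t, hr, hσ g r t hr.1 hg⟩
  · apply pres_neg_of_gens
    intro g r t hr hg
    exact ⟨r, σ t, hr, hσ g r t hr.1 hg⟩

/-- distinct fundamental root subgroups meet trivially -/
theorem simple_eq_of_xEl_eq (hD : D ∈ [chevG2, chevB2, chevD4, chevF4, chevE6, chevE7, chevE8])
    {a b : Fin D.rank} {s s' : F} (hs : s ≠ 0)
    (h : (xEl hD (D.simple a) s : ↥(D.group F)) = xEl hD (D.simple b) s') : b = a := by
  classical
  set c : Fin D.rank → Fˣ := fun j => if j = a then (Units.mk0 s hs)⁻¹ else 1 with hc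
  have hχ := rcChar_isRootCharacter (F := F) hD c
  have e := congrArg (diagAut hD hχ) h
  rw [diagAut_xEl hD hχ (StdAut.simple_lt hD a), diagAut_xEl hD hχ (StdAut.simple_lt hD b),
    rcChar_simple hD c a] at e
  have h1 : ((c a : Fˣ) : F) * s = 1 := by
    rw [hc]
    simp only [if_true, Units.val_inv_eq_inv_val, Units.val_mk0]
    exact inv_mul_cancel₀ hs
  rw [h1] at e
  apply Fin.ext
  apply simple_eq_of_le (F := F) hD a.isLt b.isLt
  rw [e]
  exact xEl_mem_rootSubgroup hD (StdAut.simple_lt hD b) _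

end

end Cfsg.Agent.Lib.Helper8.Chev
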