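import Cfsg.Agent.Lib.Helper8.ChevAu18
import Cfsg.Agent.Lib.Helper8.ChevGen1

set_option autoImplicit false

/-! The number of automorphisms preserving `U` and `V` (one root length). -/

namespace Cfsg.Agent.Lib.Helper8.Chev

open Cfsg.Lie Matrix Cfsg.Agent.Lib.Helper3

section

variable {D : ChevalleyDatum} {F : Type*} [Field F]

theorem eq_xEl_of_coe (hD : D ∈ [chevG2, chevB2, chevD4, chevF4, chevE6, chevE7, chevE8])
    {r : ℕ} (hr : r < D.nroots) {t : F} {y : ↥(D.group F)}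
    (h : ((y : GL D.Idx F) : Matrix D.Idx D.Idx F) = D.x F r t) : y = xEl hD r t := by
  apply Subtype.ext
  apply Units.ext
  rw [h, coe_xEl hD hr]

theorem fieldAut_xEl (hD : D ∈ [chevG2, chevB2, chevD4, chevF4, chevE6, chevE7, chevE8])
    {α : MulAut ↥(D.group F)} (hα : D.IsFieldAut α) :
    ∃ σ : F ≃+* F, ∀ (r : ℕ) (t : F), r < D.nroots → α (xEl hD r t) = xEl hD r (σ t) := by
  obtain ⟨σ, hσ⟩ := hα
  exact ⟨σ, fun r t hr => eq_xEl_of_coe hD hr (hσ _ r t hr (coe_xEl hD hr t))⟩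

theorem graphAut_xEl (hD4 : D ∈ [chevD4, chevE6, chevE7, chevE8])
    (hD : D ∈ [chevG2, chevB2, chevD4, chevF4, chevE6, chevE7, chevE8])
    {g : MulAut ↥(D.group F)} (hg : D.IsGraphAut g) :
    ∃ π : Equiv.Perm (Fin D.rank), D.IsDiagramSymmetry π ∧ ∀ (i : Fin D.rank) (t : F),
      g (xEl hD (D.simple i) t) = xEl hD (D.simple (π i)) t ∧
      g (xEl hD (D.neg (D.simple i)) t) = xEl hD (D.neg (D.simple (π i))) t := by
  obtain ⟨π, hπ, h⟩ := hg
  refine ⟨π, hπ, fun i t => ⟨?_, ?_⟩⟩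
  · have := (h _ i t).1 (coe_xEl hD (StdAut.simple_lt hD i) t)
    rw [graphExp_eq_one hD4 _ _ (π i).isLt, pow_one] at this
    exact eq_xEl_of_coe hD (StdAut.simple_lt hD _) this
  · have := (h _ i t).2 (coe_xEl hD (StdAut.neg_simple_lt hD i) t)
    rw [graphExp_eq_one hD4 _ _ (π i).isLt, pow_one] at this
    exact eq_xEl_of_coe hD (StdAut.neg_simple_lt hD _) this

/-- two automorphisms agreeing on the fundamental root elements and their negatives agree -/
theorem aut_ext_fund (hD : D ∈ [chevG2, chevB2, chevD4, chevF4, chevE6, chevE7, chevE8])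
    {θ θ' : MulAut ↥(D.group F)}
    (h1 : ∀ (i : Fin D.rank) (t : F), θ (xEl hD (D.simple i) t) = θ' (xEl hD (D.simple i) t))
    (h2 : ∀ (i : Fin D.rank) (t : F),
      θ (xEl hD (D.neg (D.simple i)) t) = θ' (xEl hD (D.neg (D.simple i)) t)) : θ = θ' := by
  have := hom_ext_fund hD θ.toMonoidHom θ'.toMonoidHom (by
    rintro y ⟨i, hi, t, hy | hy⟩
    · rw [eq_xEl_of_coe hD (StdAut.simple_lt hD ⟨i, hi⟩) hy]
      exact h1 ⟨i, hi⟩ t
    · rw [eq_xEl_of_coe hD (StdAut.neg_simple_lt hD ⟨i, hi⟩) hy]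
      exact h2 ⟨i, hi⟩ t)
  apply MulEquiv.ext
  intro y
  exact DFunLike.congr_fun this y

/-- every symmetry of the diagram is realised by an automorphism preserving `U` and `V` -/
def GraphReal (hD : D ∈ [chevG2, chevB2, chevD4, chevF4, chevE6, chevE7, chevE8])
    (F : Type*) [Field F] [Finite F] : Prop :=
  ∀ π : Equiv.Perm (Fin D.rank), D.IsDiagramSymmetry π →
    ∃ g ∈ presSub D F, ∀ (i : Fin D.rank) (t : F),
      g (xEl hD (D.simple i) t) = xEl hD (D.simple (π i)) t ∧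
      g (xEl hD (D.neg (D.simple i)) t) = xEl hD (D.neg (D.simple (π i))) t

theorem rcChar_neg_simple (hD : D ∈ [chevG2, chevB2, chevD4, chevF4, chevE6, chevE7, chevE8])
    (c : Fin D.rank → Fˣ) (i : Fin D.rank) :
    rcChar D c (D.neg (D.simple i)) = (c i)⁻¹ := by
  rw [(rcChar_isRootCharacter hD c).1 _ (StdAut.simple_lt hD i), rcChar_simple hD c i]

/-- the number of automorphisms preserving `U` and `V` -/
theorem card_presSub [Fintype F] (hD4 : D ∈ [chevD4, chevE6, chevE7, chevE8])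
    (hD : D ∈ [chevG2, chevB2, chevD4, chevF4, chevE6, chevE7, chevE8])
    (hN : NormalForm hD F) (hΓ : GraphReal hD F) :
    Nat.card (presSub D F) = (Fintype.card F - 1) ^ D.rank *
      Nat.card {π : Equiv.Perm (Fin D.rank) // D.IsDiagramSymmetry π} * Nat.card (F ≃+* F) := by
  classical
  choose gOf hgmem hgOf using hΓ
  have hfex := fun σ : F ≃+* F => exists_fieldAut (F := F) hD σ
  choose fOf hfield hfOf using hfex
  let Ξ : (Fin D.rank → Fˣ) × {π : Equiv.Perm (Fin D.rank) // D.IsDiagramSymmetry π} ×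
      (F ≃+* F) → presSub D F := fun p =>
    ⟨diagAut hD (rcChar_isRootCharacter hD p.1) * gOf p.2.1.1 p.2.1.2 * fOf p.2.2,
      mul_mem (mul_mem (diagAut_mem_presSub hD _) (hgmem _ _))
        (fieldAut_mem_presSub (hfield _))⟩
  have hΞ1 : ∀ p (i : Fin D.rank) (t : F), (Ξ p).1 (xEl hD (D.simple i) t) =
      xEl hD (D.simple (p.2.1.1 i)) ((p.1 (p.2.1.1 i) : F) * p.2.2 t) := by
    intro p i t
    show (diagAut hD (rcChar_isRootCharacter hD p.1) * gOf p.2.1.1 p.2.1.2 * fOf p.2.2) _ = _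
    rw [MulAut.mul_apply, MulAut.mul_apply, hfOf _ _ _ (StdAut.simple_lt hD i),
      (hgOf _ _ i _).1, diagAut_xEl hD _ (StdAut.simple_lt hD _), rcChar_simple hD]
  have hΞ2 : ∀ p (i : Fin D.rank) (t : F), (Ξ p).1 (xEl hD (D.neg (D.simple i)) t) =
      xEl hD (D.neg (D.simple (p.2.1.1 i))) (((p.1 (p.2.1.1 i))⁻¹ : Fˣ) * p.2.2 t) := by
    intro p i t
    show (diagAut hD (rcChar_isRootCharacter hD p.1) * gOf p.2.1.1 p.2.1.2 * fOf p.2.2) _ = _
    rw [MulAut.mul_apply, MulAut.mul_apply, hfOf _ _ _ (StdAut.neg_simple_lt hD i),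
      (hgOf _ _ i _).2, diagAut_xEl hD _ (StdAut.neg_simple_lt hD _), rcChar_neg_simple hD]
  have hbij : Function.Bijective Ξ := by
    constructor
    · rintro ⟨c, ⟨π, hπ⟩, σ⟩ ⟨c', ⟨π', hπ'⟩, σ'⟩ h
      have h' : (Ξ (c, ⟨π, hπ⟩, σ)).1 = (Ξ (c', ⟨π', hπ'⟩, σ')).1 := congrArg Subtype.val h
      have key : ∀ (i : Fin D.rank) (t : F),
          (xEl hD (D.simple (π i)) ((c (π i) : F) * σ t) : ↥(D.group F)) =
            xEl hD (D.simple (π' i)) ((c' (π' i) : F) * σ' t) := by
        intro i t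
        have := hΞ1 (c, ⟨π, hπ⟩, σ) i t
        rw [h', hΞ1 (c', ⟨π', hπ'⟩, σ') i t] at this
        exact this.symm
      have hπeq : π = π' := by
        apply Equiv.ext
        intro i
        have := key i 1
        rw [map_one, map_one, mul_one, mul_one] at this
        exact (simple_eq_of_xEl_eq hD (Units.ne_zero _) this).symm
      subst hπeq
      have hceq : c = c' := by
        funext j
        obtain ⟨i, rfl⟩ := π.surjective j
        have := xEl_inj hD (StdAut.simple_lt hD _) (key i 1)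
        rw [map_one, map_one, mul_one, mul_one] at this
        exact Units.ext this
      subst hceq
      have hσeq : σ = σ' := by
        apply RingEquiv.ext
        intro t
        have i : Fin D.rank := ⟨0, rank_pos_of_mem hD⟩
        have := xEl_inj hD (StdAut.simple_lt hD _) (key i t)
        exact mul_left_cancel₀ (Units.ne_zero _) this
      subst hσeq
      rfl
    · rintro ⟨θ, hθ⟩
      obtain ⟨χ, hχ, g, f, hg, hf, e⟩ := decomp_of_pres hD hN hθ.1 hθ.2
      obtain ⟨π, hπ, hgx⟩ := graphAut_xEl hD4 hD hg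
      obtain ⟨σ, hfx⟩ := fieldAut_xEl hD hf
      refine ⟨(fun j => χ (D.simple j), ⟨π, hπ⟩, σ), ?_⟩
      apply Subtype.ext
      show (Ξ _).1 = θ
      apply aut_ext_fund hD
      · intro i t
        rw [hΞ1, e, MulAut.mul_apply, MulAut.mul_apply, hfx _ _ (StdAut.simple_lt hD i),
          (hgx i _).1, diagAut_xEl hD hχ (StdAut.simple_lt hD _)]
      · intro i t
        rw [hΞ2, e, MulAut.mul_apply, MulAut.mul_apply, hfx _ _ (StdAut.neg_simple_lt hD i),
          (hgx i _).2, diagAut_xEl hD hχ (StdAut.neg_simple_lt hD _),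
          hχ.1 _ (StdAut.simple_lt hD _)]
  rw [← Nat.card_eq_of_bijective Ξ hbij, Nat.card_prod, Nat.card_prod, Nat.card_fun,
    Nat.card_eq_fintype_card (α := Fˣ), Fintype.card_units, Nat.card_eq_fintype_card (α := Fin D.rank),
    Fintype.card_fin, mul_assoc]

end

end Cfsg.Agent.Lib.Helper8.Chev
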