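import Cfsg.Agent.Lib.Helper8.ChevTw2
import Cfsg.Agent.Lib.Helper8.ChevHi1

set_option autoImplicit false

/-! Decomposition of `U_w⁻` along a good word, one letter at a time. -/

namespace Cfsg.Agent.Lib.Helper8.Chev

open Cfsg.Lie Matrix

section

variable {D : ChevalleyDatum} {F : Type*} [Field F]

theorem pos_inf_neg (hD : D ∈ [chevG2, chevB2, chevD4, chevF4, chevE6, chevE7, chevE8]) :
    D.posUnipotent F ⊓ D.negUnipotent F = ⊥ := by
  have V1 := valid1_of_mem hD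
  have J := validJ_of_mem hD
  have H := validH_of_mem hD
  have P := posP_of_mem hD
  have Tr := triP_of_mem hD
  rw [eq_bot_iff, ← borel_inf_neg (F := F) J V1 H Tr P]
  exact inf_le_inf_right _ pos_le_borel

/-- an element of `U` which `n_w` conjugates into `V` lies in `U_w⁻` (`w` given by a good word) -/
theorem mem_unegW_of_conj_neg (hD : D ∈ [chevG2, chevB2, chevD4, chevF4, chevE6, chevE7, chevE8])
    {l : List ℕ} (hg : GoodW D l) {v : GL D.Idx F} (hv : v ∈ D.posUnipotent F)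
    (hc : nP D F l * v * (nP D F l)⁻¹ ∈ D.negUnipotent F) : v ∈ UnegW D F l := by
  have V1 := valid1_of_mem hD
  have J := validJ_of_mem hD
  have H := validH_of_mem hD
  have P := posP_of_mem hD
  have Tr := triP_of_mem hD
  have hl := hg.lt
  obtain ⟨b, hb, u', hu', e⟩ := good_claim (F := F) hD hg v hv
  have h1 : nP D F l * u' * (nP D F l)⁻¹ ∈ D.negUnipotent F :=
    conj_unegS_le_neg _ ⟨u', unegW_le_unegS hD hl hu', rfl⟩
  have h2 : b = (nP D F l * v * (nP D F l)⁻¹) * (nP D F l * u' * (nP D F l)⁻¹)⁻¹ := by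
    have : b = (nP D F l * v) * u'⁻¹ * (nP D F l)⁻¹ := by rw [e]; group
    rw [this]; group
  have h3 : b ∈ D.borelSubgroup F ⊓ D.negUnipotent F :=
    Subgroup.mem_inf.mpr ⟨hb, by rw [h2]; exact mul_mem hc (inv_mem h1)⟩
  rw [borel_inf_neg J V1 H Tr P, Subgroup.mem_bot] at h3
  rw [h3, one_mul] at e
  have : v = u' := mul_left_cancel e
  rw [this]
  exact hu'

/-- `U_{w s_k}⁻ = n_k⁻¹ U_w⁻ n_k · X_{p_k}` when `w(p_k) > 0` -/
theorem unegW_concat_decomp (hD : D ∈ [chevG2, chevB2, chevD4, chevF4, chevE6, chevE7, chevE8])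
    {l : List ℕ} (hg : GoodW D l) {k : ℕ} (hk : k < D.rank)
    (hpos : D.nroots / 2 ≤ reflWord D l (D.simple k))
    {u : GL D.Idx F} (hu : u ∈ UnegW D F (l ++ [k])) :
    ∃ v ∈ UnegW D F l, ∃ (g : GL D.Idx F) (t : F),
      (g : Matrix D.Idx D.Idx F) = D.x F (D.simple k) t ∧ u = (nG D F k)⁻¹ * v * nG D F k * g := by
  have V := valid0_of_mem hD
  have V1 := valid1_of_mem hD
  have J := validJ_of_mem hD
  have H := validH_of_mem hD
  have P := posP_of_mem hD
  have hl := hg.lt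
  have hpk := (J.S k hk).1
  have hlk : ∀ i ∈ l ++ [k], i < D.rank := by
    intro i hi
    rw [List.mem_append, List.mem_singleton] at hi
    rcases hi with hi | rfl
    · exact hl i hi
    · exact hk
  have huS := unegW_le_unegS hD hlk hu
  have huU := unegS_le_pos _ huS
  obtain ⟨ui, hui, g, t, hgm, rfl⟩ := pos_decomp hD hk huU
  have hv : nG D F k * ui * (nG D F k)⁻¹ ∈ Subgroup.closure (genPar D F k) :=
    (Subgroup.mem_normalizer_iff.mp (nG_normalizes_par hD hk) ui).mp hui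
  refine ⟨nG D F k * ui * (nG D F k)⁻¹, ?_, g, t, hgm, by group⟩
  apply mem_unegW_of_conj_neg hD hg (genPar_le_pos hv)
  -- conjugating `u` and `g` by `n_{l ++ [k]}` gives elements of `V`
  have h1 : nP D F (l ++ [k]) * (ui * g) * (nP D F (l ++ [k]))⁻¹ ∈ D.negUnipotent F :=
    conj_unegS_le_neg _ ⟨ui * g, huS, rfl⟩
  have hgU : g ∈ UnegW D F (l ++ [k]) := by
    apply Subgroup.subset_closure
    refine ⟨D.simple k, t, (refl_pos J (checkRP_of_mem hD) hk).1, hpk, ?_, hgm⟩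
    rw [reflWord_append]
    have h2 : reflWord D [k] (D.simple k) = D.neg (D.simple k) := reflectRoot_simple k
    have hσlt := reflWord_lt J H.nS hl hpk
    rw [h2, reflWord_neg J H.nS hl hpk, V.neg_eq _ hσlt]
    have := V.even
    omega
  have h2 : nP D F (l ++ [k]) * g * (nP D F (l ++ [k]))⁻¹ ∈ D.negUnipotent F :=
    conj_unegS_le_neg _ ⟨g, unegW_le_unegS hD hlk hgU, rfl⟩
  have e : nP D F l * (nG D F k * ui * (nG D F k)⁻¹) * (nP D F l)⁻¹ =
      (nP D F (l ++ [k]) * (ui * g) * (nP D F (l ++ [k]))⁻¹) *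
        (nP D F (l ++ [k]) * g * (nP D F (l ++ [k]))⁻¹)⁻¹ := by
    rw [nP_append, nP_cons, nP_nil, mul_one]
    group
  rw [e]
  exact mul_mem h1 (inv_mem h2)

/-- uniqueness of the decomposition -/
theorem unegW_concat_unique (hD : D ∈ [chevG2, chevB2, chevD4, chevF4, chevE6, chevE7, chevE8])
    {n : GL D.Idx F} {v v' x x' : GL D.Idx F}
    (hv : v ∈ D.posUnipotent F) (hv' : v' ∈ D.posUnipotent F)
    (hx : n * x * n⁻¹ ∈ D.negUnipotent F) (hx' : n * x' * n⁻¹ ∈ D.negUnipotent F)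
    (e : n⁻¹ * v * n * x = n⁻¹ * v' * n * x') : v = v' ∧ x = x' := by
  have h1 : v'⁻¹ * v = (n * x' * n⁻¹) * (n * x * n⁻¹)⁻¹ := by
    have : v'⁻¹ * v = n * (n⁻¹ * v' * n)⁻¹ * (n⁻¹ * v * n * x) * x⁻¹ * n⁻¹ := by group
    rw [this, e]
    group
  have h2 : v'⁻¹ * v ∈ D.posUnipotent F ⊓ D.negUnipotent F :=
    Subgroup.mem_inf.mpr ⟨mul_mem (inv_mem hv') hv, by rw [h1]; exact mul_mem hx' (inv_mem hx)⟩
  rw [pos_inf_neg hD, Subgroup.mem_bot, inv_mul_eq_one] at h2
  refine ⟨h2.symm, ?_⟩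
  rw [h2] at e
  exact mul_left_cancel e

end

end Cfsg.Agent.Lib.Helper8.Chev
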