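import Cfsg.Agent.Lib.Helper8.ChevAu1
import Cfsg.Agent.Lib.Helper8.ChevPar7
import Cfsg.Agent.Lib.Helper8.ChevSyl1
import Cfsg.Agent.Lib.Helper8.ChevTw3
import Cfsg.Agent.S2326

set_option autoImplicit false

/-! Automorphisms of Chevalley groups: adjusting by an inner automorphism so that `U` and `V`
are preserved. -/

namespace Cfsg.Agent.Lib.Helper8.Chev

open Cfsg.Lie Matrix Cfsg.Agent.Lib.Helper3

section

variable {D : ChevalleyDatum} {F : Type*} [Field F]

/-- an automorphism of the Chevalley group preserves the intersection with a subgroup of `GL` -/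
def Pres (θ : ↥(D.group F) ≃* ↥(D.group F)) (S : Subgroup (GL D.Idx F)) : Prop :=
  ∀ g : ↥(D.group F), (g : GL D.Idx F) ∈ S → ((θ g : ↥(D.group F)) : GL D.Idx F) ∈ S

theorem Pres.inv [Finite F] {θ : MulAut ↥(D.group F)} {S : Subgroup (GL D.Idx F)}
    (h : Pres θ S) : Pres (θ⁻¹ : MulAut ↥(D.group F)) S := by
  intro g hg
  have := Cfsg.Agent.H26.Ro.aut_inv_preserve θ (S.subgroupOf (D.group F))
    (fun x hx => Subgroup.mem_subgroupOf.mpr (h x (Subgroup.mem_subgroupOf.mp hx))) g
    (Subgroup.mem_subgroupOf.mpr hg)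
  exact Subgroup.mem_subgroupOf.mp this

theorem Pres.mul {θ θ' : MulAut ↥(D.group F)} {S : Subgroup (GL D.Idx F)}
    (h : Pres θ S) (h' : Pres θ' S) : Pres (θ * θ' : MulAut ↥(D.group F)) S := by
  intro g hg
  rw [MulAut.mul_apply]
  exact h _ (h' g hg)

theorem pres_conj {S : Subgroup (GL D.Idx F)} (x : ↥(D.group F)) (hx : (x : GL D.Idx F) ∈ S) :
    Pres (MulAut.conj x : MulAut ↥(D.group F)) S := by
  intro g hg
  rw [MulAut.conj_apply]
  exact mul_mem (mul_mem hx hg) (inv_mem hx)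

/-- preimages under a preserving automorphism -/
theorem Pres.mem_of_map [Finite F] {θ : MulAut ↥(D.group F)} {S : Subgroup (GL D.Idx F)}
    (h : Pres θ S) {g : ↥(D.group F)} (hg : ((θ g : ↥(D.group F)) : GL D.Idx F) ∈ S) :
    (g : GL D.Idx F) ∈ S := by
  have := h.inv (θ g) hg
  rwa [MulAut.inv_apply_self] at this

theorem unipotentRadical_empty (hD : D ∈ [chevG2, chevB2, chevD4, chevF4, chevE6, chevE7, chevE8]) :
    D.unipotentRadical F ∅ = D.posUnipotent F := by
  have C := copP_of_mem hD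
  unfold ChevalleyDatum.unipotentRadical ChevalleyDatum.posUnipotent
  congr 1
  ext g
  constructor
  · rintro ⟨r, t, hr, -, hg⟩
    exact ⟨r, t, hr, hg⟩
  · rintro ⟨r, t, hr, hg⟩
    refine ⟨r, t, hr, ?_, hg⟩
    rintro ⟨hlt, hz⟩
    obtain ⟨i, hi, j, hj, hgcd⟩ := C r hlt
    have h1 : cor D r i = 0 := hz i hi (Set.notMem_empty i)
    have h2 : cor D r j = 0 := hz j hj (Set.notMem_empty j)
    rw [h1, h2] at hgcd
    simp at hgcd

theorem parabolicSubgroup_empty : D.parabolicSubgroup F ∅ = D.borelSubgroup F := by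
  unfold ChevalleyDatum.parabolicSubgroup
  have : {g : GL D.Idx F | ∃ j ∈ (∅ : Set ℕ), j < D.rank ∧
      (g : Matrix D.Idx D.Idx F) = D.nMat F (D.simple j) 1} = ∅ := by
    ext g
    simp
  rw [this, Subgroup.closure_empty, sup_bot_eq]

/-- `B` is the normalizer of `U` -/
theorem normalizer_pos (hD : D ∈ [chevG2, chevB2, chevD4, chevF4, chevE6, chevE7, chevE8]) :
    Subgroup.normalizer (D.posUnipotent F : Set (GL D.Idx F)) ⊓ D.group F = D.borelSubgroup F := by
  have := normalizer_inf_group (F := F) hD ∅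
  rwa [unipotentRadical_empty hD, parabolicSubgroup_empty] at this

/-- an automorphism preserving `U` preserves `B` -/
theorem Pres.borel [Finite F] (hD : D ∈ [chevG2, chevB2, chevD4, chevF4, chevE6, chevE7, chevE8])
    {θ : MulAut ↥(D.group F)} (h : Pres θ (D.posUnipotent F)) : Pres θ (D.borelSubgroup F) := by
  have J := validJ_of_mem hD
  have V1 := valid1_of_mem hD
  have H := validH_of_mem hD
  intro b hb
  rw [← normalizer_pos hD]
  have hbn := borel_le_normalizer_pos J V1 H hb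
  refine Subgroup.mem_inf.mpr ⟨?_, (θ b).2⟩
  rw [Subgroup.mem_normalizer_iff]
  intro u
  have key : ∀ (c : ↥(D.group F)), (c : GL D.Idx F) ∈
      Subgroup.normalizer (D.posUnipotent F : Set (GL D.Idx F)) →
      ∀ u : GL D.Idx F, u ∈ D.posUnipotent F →
        ((θ c : ↥(D.group F)) : GL D.Idx F) * u * ((θ c : ↥(D.group F)) : GL D.Idx F)⁻¹ ∈
          D.posUnipotent F := by
    intro c hc u hu
    have huG := pos_le_group hu
    have h1 := h.inv ⟨u, huG⟩ hu
    have h2 : (c : GL D.Idx F) * ((θ⁻¹ : MulAut ↥(D.group F)) ⟨u, huG⟩ : ↥(D.group F)) *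
        (c : GL D.Idx F)⁻¹ ∈ D.posUnipotent F :=
      (Subgroup.mem_normalizer_iff.mp hc _).mp h1
    have h3 := h (c * (θ⁻¹ : MulAut ↥(D.group F)) ⟨u, huG⟩ * c⁻¹) h2
    rw [map_mul, map_mul, map_inv, MulAut.apply_inv_self] at h3
    exact h3
  constructor
  · intro hu
    exact key b hbn u hu
  · intro hu
    have hbn' : ((b⁻¹ : ↥(D.group F)) : GL D.Idx F) ∈
        Subgroup.normalizer (D.posUnipotent F : Set (GL D.Idx F)) := inv_mem hbn
    have := key b⁻¹ hbn' _ hu
    rw [map_inv] at this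
    have e : ((θ b)⁻¹ : ↥(D.group F)) *
        (((θ b : ↥(D.group F)) : GL D.Idx F) * u * ((θ b : ↥(D.group F)) : GL D.Idx F)⁻¹) *
        ((((θ b)⁻¹ : ↥(D.group F)) : ↥(D.group F)) : GL D.Idx F)⁻¹ = u := by
      simp only [Subgroup.coe_inv]
      group
    rwa [e] at this

end

end Cfsg.Agent.Lib.Helper8.Chev
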