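import Cfsg.Agent.Lib.Helper8.ChevGA2

set_option autoImplicit false

namespace Cfsg.Agent.Lib.Helper8.Chev

open Cfsg.Lie Matrix

/-! ### Data for E6 -/

def gaRho_E6 (i : ℕ) : ℕ := ([5, 1, 4, 3, 2, 0] : List ℕ).getD i 0
def gaRhoInv_E6 (i : ℕ) : ℕ := ([5, 1, 4, 3, 2, 0] : List ℕ).getD i 0
def gaPi_E6 (r : ℕ) : ℕ := ([0, 1, 2, 5, 16, 3, 6, 17, 8, 19, 22, 11, 26, 30, 33, 35, 4, 7, 18, 9, 20, 23, 10, 21, 24, 25, 12, 27, 31, 34, 13, 28, 32, 14, 29, 15, 56, 42, 57, 39, 43, 58, 37, 40, 44, 59, 46, 47, 50, 61, 48, 51, 62, 53, 64, 67, 36, 38, 41, 45, 60, 49, 52, 63, 54, 65, 68, 55, 66, 69, 70, 71] : List ℕ).getD r 0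
def gaPiInv_E6 (r : ℕ) : ℕ := ([0, 1, 2, 5, 16, 3, 6, 17, 8, 19, 22, 11, 26, 30, 33, 35, 4, 7, 18, 9, 20, 23, 10, 21, 24, 25, 12, 27, 31, 34, 13, 28, 32, 14, 29, 15, 56, 42, 57, 39, 43, 58, 37, 40, 44, 59, 46, 47, 50, 61, 48, 51, 62, 53, 64, 67, 36, 38, 41, 45, 60, 49, 52, 63, 54, 65, 68, 55, 66, 69, 70, 71] : List ℕ).getD r 0
def gaEps_E6 (r : ℕ) : ℤ := ([1, 1, 1, 1, -1, 1, 1, -1, 1, -1, -1, 1, -1, 1, -1, 1, -1, -1, 1, -1, 1, 1, -1, 1, 1, 1, -1, 1, -1, 1, 1, -1, 1, -1, 1, 1, 1, 1, -1, 1, -1, 1, 1, -1, 1, -1, 1, 1, 1, -1, 1, 1, -1, 1, -1, -1, 1, -1, 1, -1, 1, -1, -1, 1, -1, 1, 1, -1, 1, 1, 1, 1] : List ℤ).getD r 0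

theorem gaOk_E6 : GAOk chevE6 gaRho_E6 gaRhoInv_E6 gaPi_E6 gaPiInv_E6 gaEps_E6 where
  hρ := by decide +kernel
  hρ' := by decide +kernel
  hπ := by decide +kernel
  hπ' := by decide +kernel
  hε := by decide +kernel
  hcart := by decide +kernel
  hcor := by decide +kernel
  hneg := by decide +kernel
  hchain := by decide +kernel
  hsimple := by decide +kernel

/-! ### Data for D4a -/

def gaRho_D4a (i : ℕ) : ℕ := ([2, 1, 3, 0] : List ℕ).getD i 0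
def gaRhoInv_D4a (i : ℕ) : ℕ := ([3, 1, 0, 2] : List ℕ).getD i 0
def gaPi_D4a (r : ℕ) : ℕ := ([0, 1, 6, 2, 7, 10, 3, 8, 4, 9, 11, 5, 18, 12, 14, 19, 15, 20, 13, 16, 21, 17, 22, 23] : List ℕ).getD r 0
def gaPiInv_D4a (r : ℕ) : ℕ := ([0, 1, 3, 6, 8, 11, 2, 4, 7, 9, 5, 10, 13, 18, 14, 16, 19, 21, 12, 15, 17, 20, 22, 23] : List ℕ).getD r 0
def gaEps_D4a (r : ℕ) : ℤ := ([1, 1, -1, 1, -1, 1, -1, 1, -1, 1, 1, 1, 1, 1, 1, -1, 1, -1, 1, -1, 1, -1, 1, 1] : List ℤ).getD r 0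

theorem gaOk_D4a : GAOk chevD4 gaRho_D4a gaRhoInv_D4a gaPi_D4a gaPiInv_D4a gaEps_D4a where
  hρ := by decide +kernel
  hρ' := by decide +kernel
  hπ := by decide +kernel
  hπ' := by decide +kernel
  hε := by decide +kernel
  hcart := by decide +kernel
  hcor := by decide +kernel
  hneg := by decide +kernel
  hchain := by decide +kernel
  hsimple := by decide +kernel

/-! ### Data for D4b -/

def gaRho_D4b (i : ℕ) : ℕ := ([3, 1, 0, 2] : List ℕ).getD i 0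
def gaRhoInv_D4b (i : ℕ) : ℕ := ([2, 1, 3, 0] : List ℕ).getD i 0
def gaPi_D4b (r : ℕ) : ℕ := ([0, 1, 3, 6, 8, 11, 2, 4, 7, 9, 5, 10, 13, 18, 14, 16, 19, 21, 12, 15, 17, 20, 22, 23] : List ℕ).getD r 0
def gaPiInv_D4b (r : ℕ) : ℕ := ([0, 1, 6, 2, 7, 10, 3, 8, 4, 9, 11, 5, 18, 12, 14, 19, 15, 20, 13, 16, 21, 17, 22, 23] : List ℕ).getD r 0
def gaEps_D4b (r : ℕ) : ℤ := ([1, 1, 1, -1, -1, 1, -1, -1, 1, 1, 1, 1, 1, 1, 1, 1, -1, -1, 1, -1, -1, 1, 1, 1] : List ℤ).getD r 0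

theorem gaOk_D4b : GAOk chevD4 gaRho_D4b gaRhoInv_D4b gaPi_D4b gaPiInv_D4b gaEps_D4b where
  hρ := by decide +kernel
  hρ' := by decide +kernel
  hπ := by decide +kernel
  hπ' := by decide +kernel
  hε := by decide +kernel
  hcart := by decide +kernel
  hcor := by decide +kernel
  hneg := by decide +kernel
  hchain := by decide +kernel
  hsimple := by decide +kernel

end Cfsg.Agent.Lib.Helper8.Chev
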