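import Cfsg.Agent.Lib.Helper8.ChevAu19
import Cfsg.Agent.Lib.Helper8.ChevGA3
import Cfsg.Agent.Lib.Helper23.DiagSym

set_option autoImplicit false

/-! The symmetries of the diagrams of types `E₆`, `E₇`, `E₈` and their realisation. -/

namespace Cfsg.Agent.Lib.Helper8.Chev

open Cfsg.Lie Matrix Cfsg.Agent.Lib.Helper3

theorem mem7_E6 : chevE6 ∈ [chevG2, chevB2, chevD4, chevF4, chevE6, chevE7, chevE8] := by simp
theorem mem7_E7 : chevE7 ∈ [chevG2, chevB2, chevD4, chevF4, chevE6, chevE7, chevE8] := by simp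
theorem mem7_E8 : chevE8 ∈ [chevG2, chevB2, chevD4, chevF4, chevE6, chevE7, chevE8] := by simp
theorem mem4_E6 : chevE6 ∈ [chevD4, chevE6, chevE7, chevE8] := by simp
theorem mem4_E7 : chevE7 ∈ [chevD4, chevE6, chevE7, chevE8] := by simp
theorem mem4_E8 : chevE8 ∈ [chevD4, chevE6, chevE7, chevE8] := by simp

section

variable {F : Type*} [Field F] [Finite F]

theorem graphReal_of_trivial {D : ChevalleyDatum}
    (hD : D ∈ [chevG2, chevB2, chevD4, chevF4, chevE6, chevE7, chevE8])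
    (h : ∀ π : Equiv.Perm (Fin D.rank), D.IsDiagramSymmetry π → π = 1) : GraphReal hD F := by
  intro π hπ
  rw [h π hπ]
  exact ⟨1, one_mem _, fun i t => ⟨rfl, rfl⟩⟩

theorem card_sym_of_trivial {D : ChevalleyDatum}
    (h : ∀ π : Equiv.Perm (Fin D.rank), D.IsDiagramSymmetry π → π = 1) :
    Nat.card {π : Equiv.Perm (Fin D.rank) // D.IsDiagramSymmetry π} = 1 := by
  rw [Nat.card_eq_one_iff_unique]
  refine ⟨⟨fun a b => Subtype.ext ((h a.1 a.2).trans (h b.1 b.2).symm)⟩,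
    ⟨⟨1, fun i j _ => rfl⟩⟩⟩

theorem graphReal_E8 : GraphReal mem7_E8 F :=
  graphReal_of_trivial mem7_E8 Cfsg.Agent.Lib.Helper23.DiagSym.diagSym_E8

theorem graphReal_E7 : GraphReal mem7_E7 F :=
  graphReal_of_trivial mem7_E7 Cfsg.Agent.Lib.Helper23.DiagSym.diagSym_E7

theorem card_sym_E8 :
    Nat.card {π : Equiv.Perm (Fin chevE8.rank) // chevE8.IsDiagramSymmetry π} = 1 :=
  card_sym_of_trivial Cfsg.Agent.Lib.Helper23.DiagSym.diagSym_E8

theorem card_sym_E7 :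
    Nat.card {π : Equiv.Perm (Fin chevE7.rank) // chevE7.IsDiagramSymmetry π} = 1 :=
  card_sym_of_trivial Cfsg.Agent.Lib.Helper23.DiagSym.diagSym_E7

end

/-- the non-trivial symmetry of the diagram of type `E₆` -/
def flipE6 : Equiv.Perm (Fin chevE6.rank) where
  toFun i := ⟨gaRho_E6 i.val, (gaOk_E6.hρ i.val i.isLt).1⟩
  invFun i := ⟨gaRho_E6 i.val, (gaOk_E6.hρ i.val i.isLt).1⟩
  left_inv i := Fin.ext (gaOk_E6.hρ i.val i.isLt).2
  right_inv i := Fin.ext (gaOk_E6.hρ i.val i.isLt).2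

theorem flipE6_apply (i : Fin chevE6.rank) : (flipE6 i).val = gaRho_E6 i.val := rfl

set_option maxRecDepth 100000 in
theorem flipE6_sym : chevE6.IsDiagramSymmetry flipE6 := by
  unfold ChevalleyDatum.IsDiagramSymmetry
  decide +kernel

theorem flipE6_ne_one : flipE6 ≠ 1 := by
  intro h
  have := congrArg (fun π : Equiv.Perm (Fin chevE6.rank) => (π ⟨0, by decide⟩).val) h
  revert this
  decide

theorem eq_flipE6 {π : Equiv.Perm (Fin chevE6.rank)}
    (h : ∀ i : Fin chevE6.rank, (π i).val = [5, 1, 4, 3, 2, 0].getD i.val 0) : π = flipE6 := by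
  apply Equiv.ext
  intro i
  apply Fin.ext
  rw [h i, flipE6_apply]
  rfl

theorem gaPi_E6_pos : ∀ r < chevE6.nroots,
    (chevE6.nroots / 2 ≤ r → chevE6.nroots / 2 ≤ gaPi_E6 r) ∧
      (r < chevE6.nroots / 2 → gaPi_E6 r < chevE6.nroots / 2) := by
  decide +kernel

section

variable {F : Type*} [Field F] [Finite F]

theorem graphReal_E6 : GraphReal mem7_E6 F := by
  have V := valid0_of_mem mem7_E6
  have V1 := valid1_of_mem mem7_E6
  have J := validJ_of_mem mem7_E6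
  have P := posP_of_mem mem7_E6
  intro π hπ
  rcases Cfsg.Agent.Lib.Helper23.DiagSym.diagSym_E6 π hπ with rfl | h
  · exact ⟨1, one_mem _, fun i t => ⟨rfl, rfl⟩⟩
  · rw [eq_flipE6 h]
    refine ⟨gaEquiv (F := F) V V1 gaOk_E6, ⟨?_, ?_⟩, fun i t => ⟨?_, ?_⟩⟩
    · apply pres_pos_of_gens
      intro g r t hr hg
      refine ⟨gaPi_E6 r, ((gaEps_E6 r : ℤ) : F) * t, ?_, ?_⟩
      · rw [(P _ (gaOk_E6.hπ r hr.1).1).1]
        exact (gaPi_E6_pos r hr.1).1 ((P r hr.1).1.mp hr)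
      · rw [coe_gaEquiv]
        exact gaU_conj_x V V1 gaOk_E6 hr.1 t _ hg
    · apply pres_neg_of_gens
      intro g r t hr hg
      refine ⟨gaPi_E6 r, ((gaEps_E6 r : ℤ) : F) * t, ?_, ?_⟩
      · rw [(P _ (gaOk_E6.hπ r hr.1).1).2]
        exact (gaPi_E6_pos r hr.1).2 ((P r hr.1).2.mp hr)
      · rw [coe_gaEquiv]
        exact gaU_conj_x V V1 gaOk_E6 hr.1 t _ hg
    · apply eq_xEl_of_coe mem7_E6 (StdAut.simple_lt mem7_E6 _)
      exact (gaEquiv_simple J V1 gaOk_E6 _ i.isLt t).1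
        (coe_xEl mem7_E6 (StdAut.simple_lt mem7_E6 i) t)
    · apply eq_xEl_of_coe mem7_E6 (StdAut.neg_simple_lt mem7_E6 _)
      exact (gaEquiv_simple J V1 gaOk_E6 _ i.isLt t).2
        (coe_xEl mem7_E6 (StdAut.neg_simple_lt mem7_E6 i) t)

theorem card_sym_E6 :
    Nat.card {π : Equiv.Perm (Fin chevE6.rank) // chevE6.IsDiagramSymmetry π} = 2 := by
  rw [Nat.card_eq_two_iff]
  refine ⟨⟨1, fun i j _ => rfl⟩, ⟨flipE6, flipE6_sym⟩, ?_, ?_⟩
  · intro h
    exact flipE6_ne_one (congrArg Subtype.val h).symm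
  · ext ⟨π, hπ⟩
    simp only [Set.mem_insert_iff, Set.mem_singleton_iff, Set.mem_univ, iff_true]
    rcases Cfsg.Agent.Lib.Helper23.DiagSym.diagSym_E6 π hπ with rfl | h
    · left; rfl
    · right; exact Subtype.ext (eq_flipE6 h)

end

end Cfsg.Agent.Lib.Helper8.Chev
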