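import Cfsg.Agent.Lib.Helper8.ChevAu20
import Cfsg.Agent.Lib.Helper27.OutCount
import Cfsg.Agent.S1035

set_option autoImplicit false

/-! The order of the outer automorphism group (one root length). -/

namespace Cfsg.Agent.Lib.Helper8.Chev

open Cfsg.Lie Matrix Cfsg.Agent.Lib.Helper3

/-- the number of automorphisms of a finite field -/
theorem card_ringAut_pf {F : Type*} [Field F] [Fintype F] (p f : ℕ) [Fact p.Prime] [CharP F p]
    (hF : Fintype.card F = p ^ f) : Nat.card (F ≃+* F) = f := by
  letI : Algebra (ZMod p) F := ZMod.algebra F p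
  have hk : Module.finrank (ZMod p) F = f := by
    have := Module.card_eq_pow_finrank (K := ZMod p) (V := F)
    rw [hF, ZMod.card] at this
    exact (Nat.pow_right_injective (Fact.out : p.Prime).two_le this).symm
  rw [← hk, ← IsGalois.card_aut_eq_finrank (ZMod p) F]
  apply Nat.card_congr
  refine ⟨fun τ => AlgEquiv.ofRingEquiv (f := τ) (fun r => ?_), fun e => e.toRingEquiv,
    fun τ => rfl, fun e => rfl⟩
  exact RingHom.congr_fun (Subsingleton.elim ((τ : F →+* F).comp (algebraMap (ZMod p) F))
    (algebraMap (ZMod p) F)) r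

section

variable {D : ChevalleyDatum} {F : Type*} [Field F]

/-- the facts on the conjugations by elements of `H` -/
structure DiagConj (D : ChevalleyDatum) (F : Type*) [Field F] : Prop where
  mem : ∀ x : ↥(D.group F),
    Pres (MulAut.conj x : MulAut ↥(D.group F)) (D.posUnipotent F) →
    Pres (MulAut.conj x : MulAut ↥(D.group F)) (D.negUnipotent F) →
    (x : GL D.Idx F) ∈ D.diagonalSubgroup F
  pres : ∀ x : ↥(D.group F), (x : GL D.Idx F) ∈ D.diagonalSubgroup F →
    Pres (MulAut.conj x : MulAut ↥(D.group F)) (D.posUnipotent F) ∧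
      Pres (MulAut.conj x : MulAut ↥(D.group F)) (D.negUnipotent F)
  inj : ∀ x : ↥(D.group F), (x : GL D.Idx F) ∈ D.diagonalSubgroup F →
    (MulAut.conj x : MulAut ↥(D.group F)) = 1 → x = 1

/-- the order of the outer automorphism group -/
theorem card_out_sl [Fintype F] (p f : ℕ) [Fact p.Prime] [CharP F p]
    (hF : Fintype.card F = p ^ f) (hD4 : D ∈ [chevD4, chevE6, chevE7, chevE8])
    (hD : D ∈ [chevG2, chevB2, chevD4, chevF4, chevE6, chevE7, chevE8])
    (hΓ : GraphReal hD F) (hC : DiagConj D F) (d : ℕ)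
    (hd : d * Nat.card (D.diagonalSubgroup F) = (p ^ f - 1) ^ D.rank) :
    Nat.card (Cfsg.Out ↥(D.group F)) =
      d * Nat.card {π : Equiv.Perm (Fin D.rank) // D.IsDiagramSymmetry π} * f := by
  have V := valid0_of_mem hD
  have V1 := valid1_of_mem hD
  have hN := normalForm_sl (F := F) hD4 hD
  have hA := card_presSub hD4 hD hN hΓ
  rw [card_ringAut_pf p f hF, hF] at hA
  have hO := Cfsg.Agent.Lib.Helper27.OutCount.card_out_mul (presSub D F)
    ((D.diagonalSubgroup F).subgroupOf (D.group F))
    (fun θ => exists_adjust p hD θ)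
    (fun x hx => Subgroup.mem_subgroupOf.mpr (hC.mem x hx.1 hx.2))
    (fun x hx => hC.pres x (Subgroup.mem_subgroupOf.mp hx))
    (fun x hx h => hC.inj x (Subgroup.mem_subgroupOf.mp hx) h)
  have hH : Nat.card ((D.diagonalSubgroup F).subgroupOf (D.group F)) =
      Nat.card (D.diagonalSubgroup F) :=
    Nat.card_congr (Subgroup.subgroupOfEquivOfLe (diagonal_le_group V V1)).toEquiv
  rw [hH, hA, ← hd] at hO
  have hpos : 0 < Nat.card (D.diagonalSubgroup F) := Nat.card_pos
  apply Nat.eq_of_mul_eq_mul_right hpos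
  rw [hO]
  ring

end

end Cfsg.Agent.Lib.Helper8.Chev
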