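import Cfsg.Agent.Lib.Helper8.ChevAu21

set_option autoImplicit false

/-! Tracking: a normalised automorphism in standard form permutes all the root subgroups, in the
way prescribed by its permutation of the nodes. -/

namespace Cfsg.Agent.Lib.Helper8.Chev

open Cfsg.Lie Matrix Cfsg.Agent.Lib.Helper3

section

variable {D : ChevalleyDatum} {F : Type*} [Field F]

/-- conjugation of a root element by `n_i` -/
theorem nEl_conj_xEl (hD : D ∈ [chevG2, chevB2, chevD4, chevF4, chevE6, chevE7, chevE8])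
    {i : ℕ} (hi : i < D.rank) {s : ℕ} (hs : s < D.nroots) :
    D.reflectRoot i s < D.nroots ∧ ∃ ε : Fˣ, ∀ t : F,
      (nEl hD F i : ↥(D.group F)) * xEl hD s t * (nEl hD F i)⁻¹ =
        xEl hD (D.reflectRoot i s) ((ε : F) * t) := by
  have V1 := valid1_of_mem hD
  have J := validJ_of_mem hD
  have H := validH_of_mem hD
  have hPs : RootPerm D F ((nG D F i : GL D.Idx F) : Matrix D.Idx D.Idx F)
      (D.reflectRoot i) := by
    rw [coe_nG J V1 hi]
    exact (rootPermN_nMat J V1 H.nS hi).rootPerm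
  obtain ⟨hlt, ε, e⟩ := hPs s hs
  refine ⟨hlt, ε, fun t => ?_⟩
  apply Subtype.ext
  apply Units.ext
  rw [Subgroup.coe_mul, Subgroup.coe_mul, Subgroup.coe_inv, coe_nEl hD hi, Units.val_mul,
    Units.val_mul, coe_xEl hD hs, coe_xEl hD hlt, x_eq_xN, e t, Matrix.mul_assoc,
    ← Units.val_mul, mul_inv_cancel, Units.val_one, Matrix.mul_one, x_eq_xN]

/-- the image of a root subgroup under a normalised automorphism in standard form -/
theorem StdAut.track {hD : D ∈ [chevG2, chevB2, chevD4, chevF4, chevE6, chevE7, chevE8]}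
    {θ : MulAut ↥(D.group F)} (S : StdAut hD θ) (h1 : ∀ i, S.f i 1 = 1)
    (l : List (Fin D.rank)) (j : Fin D.rank) :
    reflWord D (l.map Fin.val) (D.simple j) < D.nroots ∧
    reflWord D (l.map fun i => (S.ρ i).val) (D.simple (S.ρ j)) < D.nroots ∧
    ∃ a b : Fˣ, ∀ t : F, θ (xEl hD (reflWord D (l.map Fin.val) (D.simple j)) t) =
      xEl hD (reflWord D (l.map fun i => (S.ρ i).val) (D.simple (S.ρ j)))
        ((a : F) * S.f j ((b : F) * t)) := by
  induction l with
  | nil =>
    refine ⟨StdAut.simple_lt hD j, StdAut.simple_lt hD _, 1, 1, fun t => ?_⟩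
    simp only [List.map_nil, reflWord, List.foldr_nil, Units.val_one, one_mul]
    exact S.hf j t
  | cons i l ih =>
    obtain ⟨hs, hs', a, b, ih⟩ := ih
    obtain ⟨hlt, ε, e⟩ := nEl_conj_xEl (F := F) hD i.isLt hs
    obtain ⟨hlt', ε', e'⟩ := nEl_conj_xEl (F := F) hD (S.ρ i).isLt hs'
    refine ⟨hlt, hlt', ε' * a, b * ε⁻¹, fun t => ?_⟩
    simp only [List.map_cons, reflWord_cons]
    have h2 := e ((ε⁻¹ : Fˣ) * t)
    rw [← mul_assoc, ← Units.val_mul, mul_inv_cancel, Units.val_one, one_mul] at h2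
    rw [← h2, map_mul, map_mul, map_inv, S.map_nEl i (h1 i), ih, e']
    congr 1
    rw [Units.val_mul, Units.val_mul, mul_assoc, mul_assoc]

end

end Cfsg.Agent.Lib.Helper8.Chev
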