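import Cfsg.Agent.Lib.Helper8.ChevAu23

set_option autoImplicit false

/-! Type `G₂`: the data. -/

namespace Cfsg.Agent.Lib.Helper8.Chev

open Cfsg.Lie Matrix Cfsg.Agent.Lib.Helper3

theorem mem7_G2 : chevG2 ∈ [chevG2, chevB2, chevD4, chevF4, chevE6, chevE7, chevE8] := by simp

theorem G2_rank : chevG2.rank = 2 := by decide
theorem G2_nroots : chevG2.nroots = 12 := by decide
theorem G2_simple0 : chevG2.simple 0 = 7 := by decide
theorem G2_simple1 : chevG2.simple 1 = 6 := by decide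

theorem G2_ct76 : chevG2.commTerms 7 6 =
    [(8, -1, 1, 1), (9, 1, 2, 1), (10, 1, 3, 1), (11, 1, 3, 2)] := by decide +kernel

theorem G2_ct67 : chevG2.commTerms 6 7 =
    [(8, 1, 1, 1), (9, 1, 1, 2), (10, -1, 1, 3), (11, -2, 2, 3)] := by decide +kernel

theorem G2_ct_nil : chevG2.commTerms 8 10 = [] ∧ chevG2.commTerms 8 11 = [] ∧
    chevG2.commTerms 9 10 = [] ∧ chevG2.commTerms 9 11 = [] := by decide +kernel

theorem G2_refl : chevG2.reflectRoot 1 7 = 8 ∧ chevG2.reflectRoot 0 8 = 9 ∧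
    chevG2.reflectRoot 0 6 = 10 ∧ chevG2.reflectRoot 1 10 = 11 ∧
    chevG2.reflectRoot 0 10 = 6 ∧ chevG2.reflectRoot 1 8 = 7 := by decide +kernel

theorem G2_long : chevG2.isLong 7 = false ∧ chevG2.isLong 6 = true := by decide +kernel

theorem G2_bonds : ∀ a b : Fin chevG2.rank, a ≠ b → chevG2.bonds a b = 3 := by decide +kernel

section

variable {F : Type*} [Field F]

/-- the algebraic core of the rank two analysis -/
theorem rank2_core (f h : F → F) (c e : Fˣ) (n : ℕ) (hf1 : f 1 = 1) (hh1 : h 1 = 1)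
    (E : ∀ t u : F, (c : F) * f ((e : F) * (t * u)) = f t * h u ^ n) :
    (∀ u, f u = h u ^ n) ∧ ∀ t u, f (t * u) = f t * f u := by
  have e1 : ∀ t, (c : F) * f ((e : F) * t) = f t := by
    intro t
    have := E t 1
    rwa [mul_one, hh1, one_pow, mul_one] at this
  have e2 : ∀ u, f u = h u ^ n := by
    intro u
    have := E 1 u
    rw [one_mul, hf1, one_mul, e1] at this
    exact this
  refine ⟨e2, fun t u => ?_⟩
  rw [← e1 (t * u), E t u, e2 u]

end

end Cfsg.Agent.Lib.Helper8.Chev
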