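import Cfsg.Agent.Lib.Helper8.ChevAu24

set_option autoImplicit false

/-! Type `G₂`: the relations and the normal form of the automorphisms. -/

namespace Cfsg.Agent.Lib.Helper8.Chev

open Cfsg.Lie Matrix Cfsg.Agent.Lib.Helper3

section

variable {F : Type*} [Field F]

/-- parameters on the roots `8, 9, 10, 11` -/
def par4 (A B C E : F) (r : ℕ) : F :=
  if r = 8 then A else if r = 9 then B else if r = 10 then C else E

theorem segW_G2 (t : ℕ → F) :
    segW chevG2 8 t = [(8, t 8), (9, t 9), (10, t 10), (11, t 11)] := by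
  unfold segW
  rw [G2_nroots]
  rfl

theorem G2_neg7 : chevG2.neg 7 = 4 := by decide
theorem G2_neg6 : chevG2.neg 6 = 5 := by decide

/-- the ordered product of root elements of the roots `8, 9, 10, 11` -/
noncomputable def prod4 (A B C E : F) : ↥(chevG2.group F) :=
  xEl mem7_G2 8 A * (xEl mem7_G2 9 B * (xEl mem7_G2 10 C * (xEl mem7_G2 11 E * 1)))

theorem prod4_eq (A B C E : F) :
    prod4 A B C E = ((segW chevG2 8 (par4 A B C E)).map fun p =>
      (xEl mem7_G2 p.1 p.2 : ↥(chevG2.group F))).prod := by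
  rw [segW_G2]
  simp [prod4, par4]

theorem prod4_inj {A B C E A' B' C' E' : F} (h : prod4 A B C E = prod4 A' B' C' E') :
    A = A' ∧ B = B' ∧ C = C' ∧ E = E' := by
  rw [prod4_eq, prod4_eq] at h
  have key := fun r (h1 : 8 ≤ r) (h2 : r < chevG2.nroots) =>
    seg_unique_G mem7_G2 (k := 8) (by decide) (by decide) _ _ h h1 h2
  have h8 := key 8 (by decide) (by decide)
  have h9 := key 9 (by decide) (by decide)
  have h10 := key 10 (by decide) (by decide)
  have h11 := key 11 (by decide) (by decide)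
  simp only [par4] at h8 h9 h10 h11
  norm_num at h8 h9 h10 h11
  exact ⟨h8, h9, h10, h11⟩

theorem relG2 (t u : F) :
    (xEl mem7_G2 6 u : ↥(chevG2.group F)) * xEl mem7_G2 7 t =
      xEl mem7_G2 7 t * xEl mem7_G2 6 u *
        prod4 (t * u) (t ^ 2 * u) (-(t ^ 3 * u)) (-(t ^ 3 * u ^ 2)) := by
  have := comm_formula_G (F := F) mem7_G2 (r := 7) (s := 6) (by decide) (by decide) (by decide)
    (by rw [G2_neg7]; decide) t u
  rw [this]
  congr 1
  unfold ChevalleyDatum.commWord
  rw [G2_ct76]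
  simp only [List.map_cons, List.map_nil, List.prod_cons, List.prod_nil, prod4]
  have e : ∀ (A B C E A' B' C' E' : F), A = A' → B = B' → C = C' → E = E' →
      (xEl mem7_G2 8 A : ↥(chevG2.group F)) * (xEl mem7_G2 9 B * (xEl mem7_G2 10 C *
        (xEl mem7_G2 11 E * 1))) = xEl mem7_G2 8 A' * (xEl mem7_G2 9 B' * (xEl mem7_G2 10 C' *
        (xEl mem7_G2 11 E' * 1))) := by
    intro A B C E A' B' C' E' h1 h2 h3 h4
    rw [h1, h2, h3, h4]
  apply e <;> push_cast <;> ring

theorem relG2' (t u : F) :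
    (xEl mem7_G2 7 u : ↥(chevG2.group F)) * xEl mem7_G2 6 t =
      xEl mem7_G2 6 t * xEl mem7_G2 7 u *
        prod4 (-(t * u)) (-(t * u ^ 2)) (t * u ^ 3) (-(2 * t ^ 2 * u ^ 3)) := by
  have := comm_formula_G (F := F) mem7_G2 (r := 6) (s := 7) (by decide) (by decide) (by decide)
    (by rw [G2_neg6]; decide) t u
  rw [this]
  congr 1
  unfold ChevalleyDatum.commWord
  rw [G2_ct67]
  simp only [List.map_cons, List.map_nil, List.prod_cons, List.prod_nil, prod4]
  have e : ∀ (A B C E A' B' C' E' : F), A = A' → B = B' → C = C' → E = E' →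
      (xEl mem7_G2 8 A : ↥(chevG2.group F)) * (xEl mem7_G2 9 B * (xEl mem7_G2 10 C *
        (xEl mem7_G2 11 E * 1))) = xEl mem7_G2 8 A' * (xEl mem7_G2 9 B' * (xEl mem7_G2 10 C' *
        (xEl mem7_G2 11 E' * 1))) := by
    intro A B C E A' B' C' E' h1 h2 h3 h4
    rw [h1, h2, h3, h4]
  apply e <;> push_cast <;> ring

theorem G2_neg8 : chevG2.neg 8 = 3 := by decide
theorem G2_neg9 : chevG2.neg 9 = 2 := by decide

theorem G2_commute (t u : F) :
    Commute (xEl mem7_G2 8 t : ↥(chevG2.group F)) (xEl mem7_G2 10 u) ∧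
    Commute (xEl mem7_G2 8 t : ↥(chevG2.group F)) (xEl mem7_G2 11 u) ∧
    Commute (xEl mem7_G2 9 t : ↥(chevG2.group F)) (xEl mem7_G2 10 u) ∧
    Commute (xEl mem7_G2 9 t : ↥(chevG2.group F)) (xEl mem7_G2 11 u) := by
  obtain ⟨n1, n2, n3, n4⟩ := G2_ct_nil
  have h1 := comm_formula_G (F := F) mem7_G2 (r := 8) (s := 10) (by decide) (by decide)
    (by decide) (by rw [G2_neg8]; decide) t u
  have h2 := comm_formula_G (F := F) mem7_G2 (r := 8) (s := 11) (by decide) (by decide)
    (by decide) (by rw [G2_neg8]; decide) t u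
  have h3 := comm_formula_G (F := F) mem7_G2 (r := 9) (s := 10) (by decide) (by decide)
    (by decide) (by rw [G2_neg9]; decide) t u
  have h4 := comm_formula_G (F := F) mem7_G2 (r := 9) (s := 11) (by decide) (by decide)
    (by decide) (by rw [G2_neg9]; decide) t u
  unfold ChevalleyDatum.commWord at h1 h2 h3 h4
  rw [n1] at h1
  rw [n2] at h2
  rw [n3] at h3
  rw [n4] at h4
  simp only [List.map_nil, List.prod_nil, mul_one] at h1 h2 h3 h4
  exact ⟨h1.symm, h2.symm, h3.symm, h4.symm⟩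

theorem G2_reorder (A B C E : F) :
    (xEl mem7_G2 10 A : ↥(chevG2.group F)) * xEl mem7_G2 11 B * xEl mem7_G2 8 C *
      xEl mem7_G2 9 E = prod4 C E A B := by
  have c1 := (G2_commute (F := F) C A).1
  have c2 := (G2_commute (F := F) C B).2.1
  have c3 := (G2_commute (F := F) E A).2.2.1
  have c4 := (G2_commute (F := F) E B).2.2.2
  have hc : Commute ((xEl mem7_G2 8 C : ↥(chevG2.group F)) * xEl mem7_G2 9 E)
      (xEl mem7_G2 10 A * xEl mem7_G2 11 B) :=
    Commute.mul_left (Commute.mul_right c1 c2) (Commute.mul_right c3 c4)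
  unfold prod4
  rw [mul_one, mul_assoc (xEl mem7_G2 10 A * xEl mem7_G2 11 B), ← hc.eq, mul_assoc]

end

end Cfsg.Agent.Lib.Helper8.Chev
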