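import Cfsg.Agent.Lib.Helper8.ChevAu25

set_option autoImplicit false

/-! Type `G₂`: the normal form of the automorphisms. -/

namespace Cfsg.Agent.Lib.Helper8.Chev

open Cfsg.Lie Matrix Cfsg.Agent.Lib.Helper3

theorem G2_lt0 : 0 < chevG2.rank := by decide
theorem G2_lt1 : 1 < chevG2.rank := by decide

/-- the node of the short fundamental root -/
def g2i0 : Fin chevG2.rank := ⟨0, G2_lt0⟩
/-- the node of the long fundamental root -/
def g2i1 : Fin chevG2.rank := ⟨1, G2_lt1⟩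

theorem G2_fin (a : Fin chevG2.rank) : a = g2i0 ∨ a = g2i1 := by
  revert a
  decide

theorem G2_w1 : reflWord chevG2 [1] (chevG2.simple 0) = 8 := by decide +kernel
theorem G2_w2 : reflWord chevG2 [0, 1] (chevG2.simple 0) = 9 := by decide +kernel
theorem G2_w3 : reflWord chevG2 [0] (chevG2.simple 1) = 10 := by decide +kernel
theorem G2_w4 : reflWord chevG2 [1, 0] (chevG2.simple 1) = 11 := by decide +kernel

section

variable {D : ChevalleyDatum} {F : Type*} [Field F]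

theorem StdAut.track_eq {hD : D ∈ [chevG2, chevB2, chevD4, chevF4, chevE6, chevE7, chevE8]}
    {θ : MulAut ↥(D.group F)} (S : StdAut hD θ) (h1 : ∀ i, S.f i 1 = 1)
    (l : List (Fin D.rank)) (j : Fin D.rank) {k k' : ℕ}
    (hk : reflWord D (l.map Fin.val) (D.simple j) = k)
    (hk' : reflWord D (l.map fun i => (S.ρ i).val) (D.simple (S.ρ j)) = k') :
    ∃ a b : Fˣ, ∀ t : F, θ (xEl hD k t) = xEl hD k' ((a : F) * S.f j ((b : F) * t)) := by
  obtain ⟨_, _, a, b, h⟩ := S.track h1 l j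
  rw [hk, hk'] at h
  exact ⟨a, b, h⟩

end

section

variable {F : Type*} [Field F]

/-- the tracking of the four non-fundamental positive roots, when the nodes are fixed -/
theorem G2_track_id {θ : MulAut ↥(chevG2.group F)} (S : StdAut mem7_G2 θ)
    (h1 : ∀ i, S.f i 1 = 1) (e0 : S.ρ g2i0 = g2i0) (e1 : S.ρ g2i1 = g2i1) :
    (∃ a b : Fˣ, ∀ t : F, θ (xEl mem7_G2 8 t) =
      xEl mem7_G2 8 ((a : F) * S.f g2i0 ((b : F) * t))) ∧
    (∃ a b : Fˣ, ∀ t : F, θ (xEl mem7_G2 9 t) =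
      xEl mem7_G2 9 ((a : F) * S.f g2i0 ((b : F) * t))) ∧
    (∃ a b : Fˣ, ∀ t : F, θ (xEl mem7_G2 10 t) =
      xEl mem7_G2 10 ((a : F) * S.f g2i1 ((b : F) * t))) ∧
    (∃ a b : Fˣ, ∀ t : F, θ (xEl mem7_G2 11 t) =
      xEl mem7_G2 11 ((a : F) * S.f g2i1 ((b : F) * t))) := by
  refine ⟨?_, ?_, ?_, ?_⟩
  · exact S.track_eq h1 [g2i1] g2i0 G2_w1 (by
      simp only [List.map_cons, List.map_nil, e0, e1]
      exact G2_w1)
  · exact S.track_eq h1 [g2i0, g2i1] g2i0 G2_w2 (by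
      simp only [List.map_cons, List.map_nil, e0, e1]
      exact G2_w2)
  · exact S.track_eq h1 [g2i0] g2i1 G2_w3 (by
      simp only [List.map_cons, List.map_nil, e0, e1]
      exact G2_w3)
  · exact S.track_eq h1 [g2i1, g2i0] g2i1 G2_w4 (by
      simp only [List.map_cons, List.map_nil, e0, e1]
      exact G2_w4)

/-- the tracking of the root `8`, when the nodes are exchanged -/
theorem G2_track_swap {θ : MulAut ↥(chevG2.group F)} (S : StdAut mem7_G2 θ)
    (h1 : ∀ i, S.f i 1 = 1) (e0 : S.ρ g2i0 = g2i1) (e1 : S.ρ g2i1 = g2i0) :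
    (∃ a b : Fˣ, ∀ t : F, θ (xEl mem7_G2 8 t) =
      xEl mem7_G2 10 ((a : F) * S.f g2i0 ((b : F) * t))) ∧
    (∃ a b : Fˣ, ∀ t : F, θ (xEl mem7_G2 9 t) =
      xEl mem7_G2 11 ((a : F) * S.f g2i0 ((b : F) * t))) ∧
    (∃ a b : Fˣ, ∀ t : F, θ (xEl mem7_G2 10 t) =
      xEl mem7_G2 8 ((a : F) * S.f g2i1 ((b : F) * t))) ∧
    (∃ a b : Fˣ, ∀ t : F, θ (xEl mem7_G2 11 t) =
      xEl mem7_G2 9 ((a : F) * S.f g2i1 ((b : F) * t))) := by
  refine ⟨?_, ?_, ?_, ?_⟩
  · exact S.track_eq h1 [g2i1] g2i0 G2_w1 (by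
      simp only [List.map_cons, List.map_nil, e0, e1]
      exact G2_w3)
  · exact S.track_eq h1 [g2i0, g2i1] g2i0 G2_w2 (by
      simp only [List.map_cons, List.map_nil, e0, e1]
      exact G2_w4)
  · exact S.track_eq h1 [g2i0] g2i1 G2_w3 (by
      simp only [List.map_cons, List.map_nil, e0, e1]
      exact G2_w1)
  · exact S.track_eq h1 [g2i1, g2i0] g2i1 G2_w4 (by
      simp only [List.map_cons, List.map_nil, e0, e1]
      exact G2_w2)

end

end Cfsg.Agent.Lib.Helper8.Chev
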