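import Cfsg.Agent.Lib.Helper8.ChevAu26

set_option autoImplicit false

/-! Type `G₂`: the normal form of the automorphisms preserving `U` and `V`. -/

namespace Cfsg.Agent.Lib.Helper8.Chev

open Cfsg.Lie Matrix Cfsg.Agent.Lib.Helper3

theorem G2_isSym (ρ : Equiv.Perm (Fin chevG2.rank)) : chevG2.IsDiagramSymmetry ρ := by
  intro i j hij
  rw [G2_bonds _ _ hij, G2_bonds _ _ (fun h => hij (ρ.injective h))]

theorem G2_graphExp (c : ℕ) : chevG2.graphExp c 0 0 = 1 ∧ chevG2.graphExp c 1 1 = 1 ∧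
    chevG2.graphExp c 0 1 = c ∧ chevG2.graphExp c 1 0 = 1 := by
  unfold ChevalleyDatum.graphExp
  rw [G2_simple0, G2_simple1, G2_long.1, G2_long.2]
  simp

theorem G2_val0 : (g2i0 : ℕ) = 0 := rfl
theorem G2_val1 : (g2i1 : ℕ) = 1 := rfl

section

variable {F : Type*} [Field F]

theorem G2_form_id {θ : MulAut ↥(chevG2.group F)} (S : StdAut mem7_G2 θ)
    (h1 : ∀ i, S.f i 1 = 1) (e0 : S.ρ g2i0 = g2i0) (e1 : S.ρ g2i1 = g2i1) :
    (∀ t, S.f g2i0 t = S.f g2i1 t) ∧ ∀ t u, S.f g2i0 (t * u) = S.f g2i0 t * S.f g2i0 u := by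
  have hx7 : ∀ t, θ (xEl mem7_G2 7 t) = xEl mem7_G2 7 (S.f g2i0 t) := by
    intro t
    have := S.hf g2i0 t
    rw [e0, G2_val0, G2_simple0] at this
    exact this
  have hx6 : ∀ t, θ (xEl mem7_G2 6 t) = xEl mem7_G2 6 (S.f g2i1 t) := by
    intro t
    have := S.hf g2i1 t
    rw [e1, G2_val1, G2_simple1] at this
    exact this
  obtain ⟨⟨a8, b8, h8⟩, ⟨a9, b9, h9⟩, ⟨a10, b10, h10⟩, ⟨a11, b11, h11⟩⟩ := G2_track_id S h1 e0 e1
  have E : ∀ t u : F, (a8 : F) * S.f g2i0 ((b8 : F) * (t * u)) = S.f g2i0 t * S.f g2i1 u ^ 1 := by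
    intro t u
    have r := congrArg θ (relG2 t u)
    rw [map_mul, map_mul, map_mul, hx6, hx7, relG2 (S.f g2i0 t) (S.f g2i1 u)] at r
    have r2 := mul_left_cancel r
    have r3 : θ (prod4 (t * u) (t ^ 2 * u) (-(t ^ 3 * u)) (-(t ^ 3 * u ^ 2))) =
        prod4 ((a8 : F) * S.f g2i0 ((b8 : F) * (t * u)))
          ((a9 : F) * S.f g2i0 ((b9 : F) * (t ^ 2 * u)))
          ((a10 : F) * S.f g2i1 ((b10 : F) * (-(t ^ 3 * u))))
          ((a11 : F) * S.f g2i1 ((b11 : F) * (-(t ^ 3 * u ^ 2)))) := by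
      simp only [prod4, map_mul, map_one, h8, h9, h10, h11]
    rw [r3] at r2
    have := (prod4_inj r2).1
    rw [pow_one]
    exact this.symm
  obtain ⟨k1, k2⟩ := rank2_core (S.f g2i0) (S.f g2i1) a8 b8 1 (h1 g2i0) (h1 g2i1) E
  refine ⟨fun t => ?_, k2⟩
  rw [k1, pow_one]

theorem G2_form_swap {θ : MulAut ↥(chevG2.group F)} (S : StdAut mem7_G2 θ)
    (h1 : ∀ i, S.f i 1 = 1) (e0 : S.ρ g2i0 = g2i1) (e1 : S.ρ g2i1 = g2i0) :
    (∀ t, S.f g2i0 t = S.f g2i1 t ^ 3) ∧
      ∀ t u, S.f g2i0 (t * u) = S.f g2i0 t * S.f g2i0 u := by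
  have hx7 : ∀ t, θ (xEl mem7_G2 7 t) = xEl mem7_G2 6 (S.f g2i0 t) := by
    intro t
    have := S.hf g2i0 t
    rw [e0, G2_val0, G2_val1, G2_simple0, G2_simple1] at this
    exact this
  have hx6 : ∀ t, θ (xEl mem7_G2 6 t) = xEl mem7_G2 7 (S.f g2i1 t) := by
    intro t
    have := S.hf g2i1 t
    rw [e1, G2_val0, G2_val1, G2_simple0, G2_simple1] at this
    exact this
  obtain ⟨⟨a8, b8, h8⟩, ⟨a9, b9, h9⟩, ⟨a10, b10, h10⟩, ⟨a11, b11, h11⟩⟩ :=
    G2_track_swap S h1 e0 e1
  have E : ∀ t u : F, (a8 : F) * S.f g2i0 ((b8 : F) * (t * u)) = S.f g2i0 t * S.f g2i1 u ^ 3 := by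
    intro t u
    have r := congrArg θ (relG2 t u)
    rw [map_mul, map_mul, map_mul, hx6, hx7, relG2' (S.f g2i0 t) (S.f g2i1 u)] at r
    have r2 := mul_left_cancel r
    have r3 : θ (prod4 (t * u) (t ^ 2 * u) (-(t ^ 3 * u)) (-(t ^ 3 * u ^ 2))) =
        prod4 ((a10 : F) * S.f g2i1 ((b10 : F) * (-(t ^ 3 * u))))
          ((a11 : F) * S.f g2i1 ((b11 : F) * (-(t ^ 3 * u ^ 2))))
          ((a8 : F) * S.f g2i0 ((b8 : F) * (t * u)))
          ((a9 : F) * S.f g2i0 ((b9 : F) * (t ^ 2 * u))) := by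
      rw [← G2_reorder]
      simp only [prod4, map_mul, h8, h9, h10, h11, mul_one, mul_assoc]
    rw [r3] at r2
    have := (prod4_inj r2).2.2.1
    exact this.symm
  exact rank2_core (S.f g2i0) (S.f g2i1) a8 b8 3 (h1 g2i0) (h1 g2i1) E


theorem G2_ne : g2i1 ≠ g2i0 := fun h => absurd (congrArg Fin.val h) (by decide)

/-- the normal form for type `G₂` -/
theorem normalForm_G2 [Finite F] : NormalForm (D := chevG2) mem7_G2 F := by
  intro θ S h1
  have hsym := G2_isSym S.ρ
  rcases G2_fin (S.ρ g2i0) with e0 | e0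
  · have e1 : S.ρ g2i1 = g2i1 := by
      rcases G2_fin (S.ρ g2i1) with e1 | e1
      · exact absurd (S.ρ.injective (e1.trans e0.symm)) G2_ne
      · exact e1
    obtain ⟨k1, k2⟩ := G2_form_id S h1 e0 e1
    let φ : F →+* F :=
      { toFun := S.f g2i0
        map_one' := h1 g2i0
        map_mul' := k2
        map_zero' := S.f_zero g2i0
        map_add' := S.f_add g2i0 }
    refine ⟨RingEquiv.ofBijective φ ⟨S.f_inj g2i0, S.f_surj g2i0⟩, hsym, fun i t => ?_⟩
    rcases G2_fin i with rfl | rfl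
    · rw [e0, G2_val0, (G2_graphExp _).1, pow_one]
      rfl
    · rw [e1, G2_val1, (G2_graphExp _).2.1, pow_one, ← k1]
      rfl
  · have e1 : S.ρ g2i1 = g2i0 := by
      rcases G2_fin (S.ρ g2i1) with e1 | e1
      · exact e1
      · exact absurd (S.ρ.injective (e1.trans e0.symm)) G2_ne
    obtain ⟨k1, k2⟩ := G2_form_swap S h1 e0 e1
    have hadd : ∀ t u : F, 3 * (S.f g2i1 t * S.f g2i1 u * (S.f g2i1 t + S.f g2i1 u)) = 0 := by
      intro t u
      have := S.f_add g2i0 t u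
      rw [k1, k1, k1, S.f_add g2i1] at this
      linear_combination this
    have h6 : (6 : F) = 0 := by
      have := hadd 1 1
      rw [h1] at this
      linear_combination this
    have hp : ∀ t, S.f g2i0 t = S.f g2i1 t ^ ringChar F := by
      intro t
      rw [k1]
      by_cases h3 : (3 : F) = 0
      · have : ringChar F = 3 :=
          CharP.ringChar_of_prime_eq_zero Nat.prime_three (by exact_mod_cast h3)
        rw [this]
      · have h2 : (2 : F) = 0 := by
          have : (2 : F) * 3 = 0 := by linear_combination h6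
          rcases mul_eq_zero.mp this with h | h
          · exact h
          · exact absurd h h3
        have : ringChar F = 2 :=
          CharP.ringChar_of_prime_eq_zero Nat.prime_two (by exact_mod_cast h2)
        rw [this]
        have e := hadd t 1
        rw [h1] at e
        have e' : S.f g2i1 t * 1 * (S.f g2i1 t + 1) = 0 := by
          rcases mul_eq_zero.mp e with h | h
          · exact absurd h h3
          · exact h
        linear_combination (S.f g2i1 t) * e' - (S.f g2i1 t) ^ 2 * h2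
    have : ExpChar F (ringChar F) := ExpChar.prime (CharP.char_is_prime F _)
    have hmul : ∀ t u, S.f g2i1 (t * u) = S.f g2i1 t * S.f g2i1 u := by
      intro t u
      apply frobenius_inj F (ringChar F)
      rw [frobenius_def, frobenius_def, mul_pow, ← hp, ← hp, ← hp, k2]
    let φ : F →+* F :=
      { toFun := S.f g2i1
        map_one' := h1 g2i1
        map_mul' := hmul
        map_zero' := S.f_zero g2i1
        map_add' := S.f_add g2i1 }
    refine ⟨RingEquiv.ofBijective φ ⟨S.f_inj g2i1, S.f_surj g2i1⟩, hsym, fun i t => ?_⟩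
    rcases G2_fin i with rfl | rfl
    · rw [e0, G2_val0, G2_val1, (G2_graphExp _).2.2.1, hp]
      rfl
    · rw [e1, G2_val1, G2_val0, (G2_graphExp _).2.2.2, pow_one]
      rfl

end

end Cfsg.Agent.Lib.Helper8.Chev
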