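import Cfsg.Agent.Lib.Helper8.ChevAu21

set_option autoImplicit false

/-! The order of the outer automorphism group: the general count. -/

namespace Cfsg.Agent.Lib.Helper8.Chev

open Cfsg.Lie Matrix Cfsg.Agent.Lib.Helper3

section

variable {D : ChevalleyDatum} {F : Type*} [Field F]

theorem graphExp_self (c i : ℕ) : D.graphExp c i i = 1 := by
  unfold ChevalleyDatum.graphExp
  cases D.isLong (D.simple i) <;> simp

/-- the node permutation is determined by the automorphism -/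
theorem StdAut.rho_unique {hD : D ∈ [chevG2, chevB2, chevD4, chevF4, chevE6, chevE7, chevE8]}
    {θ : MulAut ↥(D.group F)} (S S' : StdAut hD θ) : S.ρ = S'.ρ := by
  apply Equiv.ext
  intro i
  have h := S.hf i 1
  rw [S'.hf i 1] at h
  exact simple_eq_of_xEl_eq hD (S'.f_ne_zero i one_ne_zero) h

theorem StdAut.rho_eq_of_eq {hD : D ∈ [chevG2, chevB2, chevD4, chevF4, chevE6, chevE7, chevE8]}
    {θ θ' : MulAut ↥(D.group F)} (S : StdAut hD θ) (S' : StdAut hD θ') (h : θ = θ') :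
    S.ρ = S'.ρ := by
  subst h
  exact S.rho_unique S'

/-- the product of two standard automorphisms -/
def StdAut.mul {hD : D ∈ [chevG2, chevB2, chevD4, chevF4, chevE6, chevE7, chevE8]}
    {θ₁ θ₂ : MulAut ↥(D.group F)} (S₁ : StdAut hD θ₁) (S₂ : StdAut hD θ₂) :
    StdAut hD (θ₁ * θ₂) where
  ρ := S₁.ρ * S₂.ρ
  f := fun i t => S₁.f (S₂.ρ i) (S₂.f i t)
  g := fun i t => S₁.g (S₂.ρ i) (S₂.g i t)
  hf := by
    intro i t
    rw [MulAut.mul_apply, S₂.hf, S₁.hf]
    rfl
  hg := by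
    intro i t
    rw [MulAut.mul_apply, S₂.hg, S₁.hg]
    rfl

theorem StdAut.mul_rho {hD : D ∈ [chevG2, chevB2, chevD4, chevF4, chevE6, chevE7, chevE8]}
    {θ₁ θ₂ : MulAut ↥(D.group F)} (S₁ : StdAut hD θ₁) (S₂ : StdAut hD θ₂) :
    (S₁.mul S₂).ρ = S₁.ρ * S₂.ρ := rfl

/-- the trivial standard automorphism -/
def StdAut.one (hD : D ∈ [chevG2, chevB2, chevD4, chevF4, chevE6, chevE7, chevE8]) :
    StdAut hD (1 : MulAut ↥(D.group F)) where
  ρ := 1
  f := fun _ t => t
  g := fun _ t => t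
  hf := fun _ _ => rfl
  hg := fun _ _ => rfl

/-- an automorphism preserving `U` and `V` and fixing the nodes is diagonal times field -/
theorem decomp_of_rho_one [Finite F]
    (hD : D ∈ [chevG2, chevB2, chevD4, chevF4, chevE6, chevE7, chevE8])
    (hN : NormalForm hD F) {κ : MulAut ↥(D.group F)} (S : StdAut hD κ) (hρ : S.ρ = 1) :
    ∃ (c : Fin D.rank → Fˣ) (σ : F ≃+* F), ∀ (i : Fin D.rank) (t : F),
      κ (xEl hD (D.simple i) t) = xEl hD (D.simple i) ((c i : F) * σ t) ∧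
      κ (xEl hD (D.neg (D.simple i)) t) =
        xEl hD (D.neg (D.simple i)) (((c i)⁻¹ : Fˣ) * σ t) := by
  obtain ⟨χ, hχ, θ', S', hθ, hρ', h1⟩ := exists_normalized hD S
  obtain ⟨σ, -, hf⟩ := hN θ' S' h1
  have hρ1 : S'.ρ = 1 := hρ'.trans hρ
  have hf' : ∀ (i : Fin D.rank) (t : F), S'.f i t = σ t := by
    intro i t
    rw [hf, hρ1, Equiv.Perm.one_apply, graphExp_self, pow_one]
  refine ⟨fun j => χ (D.simple j), σ, fun i t => ⟨?_, ?_⟩⟩
  · rw [hθ, MulAut.mul_apply, S'.hf, hf', hρ1, Equiv.Perm.one_apply,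
      diagAut_xEl hD hχ (StdAut.simple_lt hD _)]
  · rw [hθ, MulAut.mul_apply, S'.hg, S'.g_eq_f i (h1 i), hf', hρ1, Equiv.Perm.one_apply,
      diagAut_xEl hD hχ (StdAut.neg_simple_lt hD _), hχ.1 _ (StdAut.simple_lt hD _)]


/-- the number of automorphisms preserving `U` and `V`, in terms of the set `R` of the node
permutations that they realise -/
theorem card_presSub_gen [Fintype F]
    (hD : D ∈ [chevG2, chevB2, chevD4, chevF4, chevE6, chevE7, chevE8])
    (hN : NormalForm hD F) (R : Set (Equiv.Perm (Fin D.rank)))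
    (hR1 : ∀ (θ : MulAut ↥(D.group F)) (S : StdAut hD θ), θ ∈ presSub D F → S.ρ ∈ R)
    (hR2 : ∀ π ∈ R, ∃ (θ : MulAut ↥(D.group F)) (S : StdAut hD θ), θ ∈ presSub D F ∧ S.ρ = π) :
    Nat.card (presSub D F) =
      (Fintype.card F - 1) ^ D.rank * Nat.card (F ≃+* F) * Nat.card R := by
  classical
  choose gOf SOf hgmem hgρ using hR2
  have hfex := fun σ : F ≃+* F => exists_fieldAut (F := F) hD σ
  choose fOf hfield hfOf using hfex
  let Ξ : (Fin D.rank → Fˣ) × (F ≃+* F) × R → presSub D F := fun p =>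
    ⟨diagAut hD (rcChar_isRootCharacter hD p.1) * fOf p.2.1 * gOf p.2.2.1 p.2.2.2,
      mul_mem (mul_mem (diagAut_mem_presSub hD _) (fieldAut_mem_presSub (hfield _)))
        (hgmem _ _)⟩
  have hΞ1 : ∀ p (i : Fin D.rank) (t : F), (Ξ p).1 (xEl hD (D.simple i) t) =
      xEl hD (D.simple (p.2.2.1 i))
        ((p.1 (p.2.2.1 i) : F) * p.2.1 ((SOf p.2.2.1 p.2.2.2).f i t)) := by
    intro p i t
    show (diagAut hD (rcChar_isRootCharacter hD p.1) * fOf p.2.1 * gOf p.2.2.1 p.2.2.2) _ = _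
    rw [MulAut.mul_apply, MulAut.mul_apply, (SOf p.2.2.1 p.2.2.2).hf, hgρ,
      hfOf _ _ _ (StdAut.simple_lt hD _), diagAut_xEl hD _ (StdAut.simple_lt hD _),
      rcChar_simple hD]
  have hΞ2 : ∀ p (i : Fin D.rank) (t : F), (Ξ p).1 (xEl hD (D.neg (D.simple i)) t) =
      xEl hD (D.neg (D.simple (p.2.2.1 i)))
        (((p.1 (p.2.2.1 i))⁻¹ : Fˣ) * p.2.1 ((SOf p.2.2.1 p.2.2.2).g i t)) := by
    intro p i t
    show (diagAut hD (rcChar_isRootCharacter hD p.1) * fOf p.2.1 * gOf p.2.2.1 p.2.2.2) _ = _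
    rw [MulAut.mul_apply, MulAut.mul_apply, (SOf p.2.2.1 p.2.2.2).hg, hgρ,
      hfOf _ _ _ (StdAut.neg_simple_lt hD _), diagAut_xEl hD _ (StdAut.neg_simple_lt hD _),
      rcChar_neg_simple hD]
  have hbij : Function.Bijective Ξ := by
    constructor
    · rintro ⟨c, σ, ⟨π, hπ⟩⟩ ⟨c', σ', ⟨π', hπ'⟩⟩ h
      have h' : (Ξ (c, σ, ⟨π, hπ⟩)).1 = (Ξ (c', σ', ⟨π', hπ'⟩)).1 := congrArg Subtype.val h
      have key : ∀ (i : Fin D.rank) (t : F),
          (xEl hD (D.simple (π i)) ((c (π i) : F) * σ ((SOf π hπ).f i t)) : ↥(D.group F)) =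
            xEl hD (D.simple (π' i)) ((c' (π' i) : F) * σ' ((SOf π' hπ').f i t)) := by
        intro i t
        have := hΞ1 (c, σ, ⟨π, hπ⟩) i t
        rw [h', hΞ1 (c', σ', ⟨π', hπ'⟩) i t] at this
        exact this.symm
      have hπeq : π = π' := by
        apply Equiv.ext
        intro i
        have hne : (c (π i) : F) * σ ((SOf π hπ).f i 1) ≠ 0 := by
          apply mul_ne_zero (Units.ne_zero _)
          intro h0
          rw [← map_zero σ] at h0
          exact (SOf π hπ).f_ne_zero i one_ne_zero (σ.injective h0)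
        exact (simple_eq_of_xEl_eq hD hne (key i 1)).symm
      subst hπeq
      have key2 : ∀ (i : Fin D.rank) (u : F), (c (π i) : F) * σ u = (c' (π i) : F) * σ' u := by
        intro i u
        obtain ⟨t, rfl⟩ := (SOf π hπ).f_surj i u
        exact xEl_inj hD (StdAut.simple_lt hD _) (key i t)
      have hceq : c = c' := by
        funext j
        obtain ⟨i, rfl⟩ := π.surjective j
        have := key2 i 1
        rw [map_one, map_one, mul_one, mul_one] at this
        exact Units.ext this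
      subst hceq
      have hσeq : σ = σ' := by
        apply RingEquiv.ext
        intro t
        have i : Fin D.rank := ⟨0, rank_pos_of_mem hD⟩
        exact mul_left_cancel₀ (Units.ne_zero _) (key2 i t)
      subst hσeq
      rfl
    · rintro ⟨θ, hθ⟩
      obtain ⟨S⟩ := exists_stdAut hD hθ.1 hθ.2
      have hπ : S.ρ ∈ R := hR1 θ S hθ
      have hκmem : θ * (gOf S.ρ hπ)⁻¹ ∈ presSub D F := mul_mem hθ (inv_mem (hgmem _ _))
      obtain ⟨Sκ⟩ := exists_stdAut hD hκmem.1 hκmem.2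
      have hκg : θ * (gOf S.ρ hπ)⁻¹ * gOf S.ρ hπ = θ := by
        rw [mul_assoc, inv_mul_cancel, mul_one]
      have hρκ : Sκ.ρ = 1 := by
        have := (Sκ.mul (SOf S.ρ hπ)).rho_eq_of_eq S hκg
        rw [StdAut.mul_rho, hgρ] at this
        exact mul_eq_right.mp this
      obtain ⟨c, σ, hcσ⟩ := decomp_of_rho_one hD hN Sκ hρκ
      refine ⟨(c, σ, ⟨S.ρ, hπ⟩), ?_⟩
      apply Subtype.ext
      show (Ξ _).1 = θ
      apply aut_ext_fund hD
      · intro i t
        rw [hΞ1]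
        conv_rhs => rw [← hκg, MulAut.mul_apply, (SOf S.ρ hπ).hf, hgρ, (hcσ _ _).1]
      · intro i t
        rw [hΞ2]
        conv_rhs => rw [← hκg, MulAut.mul_apply, (SOf S.ρ hπ).hg, hgρ, (hcσ _ _).2]
  rw [← Nat.card_eq_of_bijective Ξ hbij, Nat.card_prod, Nat.card_prod, Nat.card_fun,
    Nat.card_eq_fintype_card (α := Fˣ), Fintype.card_units,
    Nat.card_eq_fintype_card (α := Fin D.rank), Fintype.card_fin, mul_assoc]

/-- the order of the outer automorphism group, in terms of the set `R` of the node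
permutations realised by automorphisms preserving `U` and `V` -/
theorem card_out_gen [Fintype F] (p f : ℕ) [Fact p.Prime] [CharP F p]
    (hF : Fintype.card F = p ^ f)
    (hD : D ∈ [chevG2, chevB2, chevD4, chevF4, chevE6, chevE7, chevE8])
    (hN : NormalForm hD F) (hC : DiagConj D F) (d : ℕ)
    (hd : d * Nat.card (D.diagonalSubgroup F) = (p ^ f - 1) ^ D.rank)
    (R : Set (Equiv.Perm (Fin D.rank)))
    (hR1 : ∀ (θ : MulAut ↥(D.group F)) (S : StdAut hD θ), θ ∈ presSub D F → S.ρ ∈ R)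
    (hR2 : ∀ π ∈ R, ∃ (θ : MulAut ↥(D.group F)) (S : StdAut hD θ), θ ∈ presSub D F ∧ S.ρ = π) :
    Nat.card (Cfsg.Out ↥(D.group F)) = d * Nat.card R * f := by
  have V := valid0_of_mem hD
  have V1 := valid1_of_mem hD
  have hA := card_presSub_gen hD hN R hR1 hR2
  rw [card_ringAut_pf p f hF, hF] at hA
  have hO := Cfsg.Agent.Lib.Helper27.OutCount.card_out_mul (presSub D F)
    ((D.diagonalSubgroup F).subgroupOf (D.group F))
    (fun θ => exists_adjust p hD θ)
    (fun x hx => Subgroup.mem_subgroupOf.mpr (hC.mem x hx.1 hx.2))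
    (fun x hx => hC.pres x (Subgroup.mem_subgroupOf.mp hx))
    (fun x hx h => hC.inj x (Subgroup.mem_subgroupOf.mp hx) h)
  have hH : Nat.card ((D.diagonalSubgroup F).subgroupOf (D.group F)) =
      Nat.card (D.diagonalSubgroup F) :=
    Nat.card_congr (Subgroup.subgroupOfEquivOfLe (diagonal_le_group V V1)).toEquiv
  rw [hH, hA, ← hd] at hO
  have hpos : 0 < Nat.card (D.diagonalSubgroup F) := Nat.card_pos
  apply Nat.eq_of_mul_eq_mul_right hpos
  rw [hO]
  ring

end

end Cfsg.Agent.Lib.Helper8.Chev
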