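import Cfsg.Agent.Lib.Helper8.ChevEx2

set_option autoImplicit false
set_option maxRecDepth 100000

namespace Cfsg.Agent.Lib.Helper8.Chev

open Cfsg.Lie Matrix

def exDataG2 : ExData where
  p := 3
  bar := #[2, 3, 0, 1, 5, 4, 7, 6, 10, 11, 8, 9]
  lg := #[true, true, false, false, false, true, true, false, false, false, true, true]
  rho := #[1, 0]
  lgS := #[false, true]

def exDataB2 : ExData where
  p := 2
  bar := #[1, 0, 3, 2, 5, 4, 7, 6]
  lg := #[true, false, false, true, true, false, false, true]
  rho := #[1, 0]
  lgS := #[false, true]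

theorem checkSwap_G2 : checkSwap chevG2 exDataG2 = true := by decide +kernel
theorem checkSwap_B2 : checkSwap chevB2 exDataB2 = true := by decide +kernel

theorem checkEx_G2 : checkEx chevG2 exDataG2 = true := by decide +kernel
theorem checkEx_B2 : checkEx chevB2 exDataB2 = true := by decide +kernel

end Cfsg.Agent.Lib.Helper8.Chev
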