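import Cfsg.Agent.Lib.Helper8.ChevEx3F

set_option autoImplicit false
set_option maxRecDepth 1000000

namespace Cfsg.Agent.Lib.Helper8.Chev

open Cfsg.Lie Matrix

theorem checkEx_F4_r3 : checkExRange chevF4 exDataF4 36 12 = true := by decide +kernel

end Cfsg.Agent.Lib.Helper8.Chev
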