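import Cfsg.Agent.Lib.Helper8.ChevEx3F0
import Cfsg.Agent.Lib.Helper8.ChevEx3F1
import Cfsg.Agent.Lib.Helper8.ChevEx3F2
import Cfsg.Agent.Lib.Helper8.ChevEx3F3

set_option autoImplicit false

namespace Cfsg.Agent.Lib.Helper8.Chev

open Cfsg.Lie Matrix

theorem checkEx_F4 : checkEx chevF4 exDataF4 = true := by
  simp only [checkEx, forallLtF_eq_true]
  intro r hr
  have hr' : r < 48 := hr
  by_cases h1 : r < 12
  · exact checkExRoot_of_range checkEx_F4_r0 (by omega) (by omega)
  by_cases h2 : r < 24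
  · exact checkExRoot_of_range checkEx_F4_r1 (by omega) (by omega)
  by_cases h3 : r < 36
  · exact checkExRoot_of_range checkEx_F4_r2 (by omega) (by omega)
  · exact checkExRoot_of_range checkEx_F4_r3 (by omega) (by omega)

end Cfsg.Agent.Lib.Helper8.Chev
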