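import Cfsg.Agent.Lib.Helper8.ChevEx6

set_option autoImplicit false

namespace Cfsg.Agent.Lib.Helper8.Chev

open Cfsg.Lie Matrix

variable {D : ChevalleyDatum} {K : Type*} [Field K]

theorem isQN_inr (X : ExData) (r : ℕ) : isQN D X (D.rank + r) = X.lg.getD r false := by
  unfold isQN
  rw [if_neg (by omega), Nat.add_sub_cancel_left]

theorem swN_inr (X : ExData) (r : ℕ) : swN D X (D.rank + r) = D.rank + X.bar.getD r 0 := by
  unfold swN
  rw [if_neg (by omega), Nat.add_sub_cancel_left]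

theorem bar_bar {X : ExData} (hS : SwapOK D X) {r : ℕ} (hr : r < D.nroots) :
    X.bar.getD (X.bar.getD r 0) 0 = r := by
  have := hS.inv (D.rank + r) (by omega)
  rw [swN_inr, swN_inr] at this
  omega

theorem lg_bar {X : ExData} (hS : SwapOK D X) {r : ℕ} (hr : r < D.nroots) :
    X.lg.getD (X.bar.getD r 0) false = !X.lg.getD r false := by
  have := hS.flip (D.rank + r) (by omega)
  rw [swN_inr, isQN_inr, isQN_inr] at this
  exact this

theorem mul_exS_at {X : ExData} (hS : SwapOK D X) {R : Type*} [CommRing R] (M : Matrix D.Idx D.Idx R)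
    (row x : D.Idx) (hx : isQN D X (codeI D x) = false) :
    (M * exS D X R) row (decI D (swN D X (codeI D x)) (hS.lt _ (codeI_lt D x))) = M row x := by
  rw [mul_exS hS]
  have hcode : codeI D (decI D (swN D X (codeI D x)) (hS.lt _ (codeI_lt D x))) =
      swN D X (codeI D x) := codeI_decI D _ _
  split_ifs with h
  · congr 1
    apply codeI_injective
    rw [codeI_decI, hcode, hS.inv _ (codeI_lt D x)]
  · exact absurd (by rw [hcode, hS.flip _ (codeI_lt D x), hx]; rfl) h

theorem exS_mul_at {X : ExData} (hS : SwapOK D X) {R : Type*} [CommRing R] (M : Matrix D.Idx D.Idx R)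
    (x col : D.Idx) (hx : isQN D X (codeI D x) = true) :
    (exS D X R * M) (decI D (swN D X (codeI D x)) (hS.lt _ (codeI_lt D x))) col = M x col := by
  rw [exS_mul hS]
  have hcode : codeI D (decI D (swN D X (codeI D x)) (hS.lt _ (codeI_lt D x))) =
      swN D X (codeI D x) := codeI_decI D _ _
  split_ifs with h
  · congr 1
    apply codeI_injective
    rw [codeI_decI, hcode, hS.inv _ (codeI_lt D x)]
  · exact absurd (by rw [hcode, hS.flip _ (codeI_lt D x), hx]; rfl) h

/-- the exceptional graph automorphism -/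
theorem exists_exAut (hD : D ∈ [chevG2, chevB2, chevD4, chevF4, chevE6, chevE7, chevE8])
    (X : ExData) (hP : PowOK D) (hS : SwapOK D X) (hc : checkEx D X = true)
    (hp : X.p = 2 ∨ X.p = 3) [CharP K X.p] (hperf : ∀ x : K, ∃ y : K, y ^ X.p = x)
    (a : ℕ) (ha : a < D.nroots) (hapos : D.nroots / 2 ≤ a) (hash : X.lg.getD a false = false)
    (a' : ℕ) (ha' : a' < D.nroots) (ha'pos : D.nroots / 2 ≤ a')
    (ha'lg : X.lg.getD (D.neg a') false = true) :
    ∃ α : ↥(D.group K) ≃* ↥(D.group K), ∀ (g : ↥(D.group K)) (r : ℕ) (t : K), r < D.nroots →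
      gmat g = D.x K r t → gmat (α g) = D.x K (X.bar.getD r 0) (t ^ lamN X r) := by
  have V := valid0_of_mem hD
  set S := exS D X K with hSdef
  have rel : ∀ r < D.nroots, ∀ t : K,
      S * xN D K r t = xN D K (X.bar.getD r 0) (t ^ lamN X r) * S := by
    intro r hr t
    simp only [checkEx, forallLtF_eq_true] at hc
    exact exS_rel hP hS hr (hc r hr) hp t
  -- surjectivity of the projections
  have h1 : ∀ g : ↥(D.group K), ∃ g' : ↥(D.group K), S * gmat g = gmat g' * S := by
    rintro ⟨x, hx⟩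
    show ∃ g' : ↥(D.group K), S * (x : Matrix D.Idx D.Idx K) = gmat g' * S
    unfold ChevalleyDatum.group at hx
    induction hx using Subgroup.closure_induction with
    | mem y hy =>
      obtain ⟨r, t, hy⟩ := hy
      obtain ⟨g', hg'⟩ := exists_xG (K := K) hD (hS.bar_lt r.val r.isLt) (t ^ lamN X r.val)
      refine ⟨g', ?_⟩
      rw [hg', hy, xMat_eq_xR]
      have := rel r.val r.isLt t
      unfold xN at this
      rw [dif_pos r.isLt] at this
      exact this
    | one => exact ⟨1, by simp⟩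
    | mul y z _ _ hy hz =>
      obtain ⟨y', hy'⟩ := hy
      obtain ⟨z', hz'⟩ := hz
      refine ⟨y' * z', ?_⟩
      rw [Units.val_mul, gmat_mul, ← Matrix.mul_assoc, hy', Matrix.mul_assoc, hz', Matrix.mul_assoc]
    | inv y _ hy =>
      obtain ⟨y', hy'⟩ := hy
      refine ⟨y'⁻¹, ?_⟩
      have e1 : (y : Matrix D.Idx D.Idx K) * ((y⁻¹ : GL D.Idx K) : Matrix D.Idx D.Idx K) = 1 := by
        rw [← Units.val_mul, mul_inv_cancel, Units.val_one]
      calc S * ((y⁻¹ : GL D.Idx K) : Matrix D.Idx D.Idx K)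
          = gmat y'⁻¹ * (gmat y' * S) * ((y⁻¹ : GL D.Idx K) : Matrix D.Idx D.Idx K) := by
            rw [← Matrix.mul_assoc, gmat_inv_mul, Matrix.one_mul]
        _ = gmat y'⁻¹ * S := by
            rw [← hy', Matrix.mul_assoc, Matrix.mul_assoc, e1, Matrix.mul_one]
  have h2 : ∀ g' : ↥(D.group K), ∃ g : ↥(D.group K), S * gmat g = gmat g' * S := by
    rintro ⟨x, hx⟩
    show ∃ g : ↥(D.group K), S * gmat g = (x : Matrix D.Idx D.Idx K) * S
    unfold ChevalleyDatum.group at hx
    induction hx using Subgroup.closure_induction with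
    | mem y hy =>
      obtain ⟨r, t, hy⟩ := hy
      have hbr := hS.bar_lt r.val r.isLt
      -- the preimage parameter
      obtain ⟨t₀, ht₀⟩ : ∃ t₀ : K, t₀ ^ lamN X (X.bar.getD r.val 0) = t := by
        unfold lamN
        by_cases hl : X.lg.getD (X.bar.getD r.val 0) false = true
        · rw [if_pos hl]; exact ⟨t, pow_one t⟩
        · rw [if_neg hl]; exact hperf t
      obtain ⟨g, hg⟩ := exists_xG (K := K) hD hbr t₀
      refine ⟨g, ?_⟩
      rw [hg, hy, xMat_eq_xR, rel _ hbr t₀, ht₀]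
      have e : xN D K (X.bar.getD (X.bar.getD r.val 0) 0) t = xR D K r t := by
        rw [bar_bar hS r.isLt]
        unfold xN
        rw [dif_pos r.isLt]
      rw [e]
    | one => exact ⟨1, by simp⟩
    | mul y z _ _ hy hz =>
      obtain ⟨y', hy'⟩ := hy
      obtain ⟨z', hz'⟩ := hz
      refine ⟨y' * z', ?_⟩
      rw [Units.val_mul, gmat_mul, ← Matrix.mul_assoc, hy', Matrix.mul_assoc, hz', Matrix.mul_assoc]
    | inv y _ hy =>
      obtain ⟨y', hy'⟩ := hy
      refine ⟨y'⁻¹, ?_⟩
      have e1 : ((y⁻¹ : GL D.Idx K) : Matrix D.Idx D.Idx K) * (y : Matrix D.Idx D.Idx K) = 1 := by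
        rw [← Units.val_mul, inv_mul_cancel, Units.val_one]
      calc S * gmat y'⁻¹
          = ((y⁻¹ : GL D.Idx K) : Matrix D.Idx D.Idx K) * ((y : Matrix D.Idx D.Idx K) * S) * gmat y'⁻¹ := by
            rw [← Matrix.mul_assoc, e1, Matrix.one_mul]
        _ = ((y⁻¹ : GL D.Idx K) : Matrix D.Idx D.Idx K) * S := by
            rw [← hy', Matrix.mul_assoc, Matrix.mul_assoc, gmat_mul_inv, Matrix.mul_one]
  -- the special entries
  have hca : codeI D (Sum.inr ⟨a, ha⟩) = D.rank + a := rfl
  have hcn : codeI D (Sum.inr ⟨D.neg a', V.neg_lt ha'⟩) = D.rank + D.neg a' := rfl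
  have hk := exAut_aux (K := K) hD S h1 h2 a ha hapos
    (decI D (swN D X (codeI D (Sum.inr ⟨a, ha⟩))) (hS.lt _ (codeI_lt D _)))
    (by
      intro M
      exact mul_exS_at hS M _ _ (by rw [hca, isQN_inr, hash]))
    a' ha' ha'pos
    (decI D (swN D X (codeI D (Sum.inr ⟨D.neg a', V.neg_lt ha'⟩))) (hS.lt _ (codeI_lt D _)))
    (by
      intro M
      exact exS_mul_at hS M _ _ (by rw [hcn, isQN_inr, ha'lg]))
  obtain ⟨α, hα⟩ := exists_aut_of_rel S h1 h2 hk.1 hk.2
  refine ⟨α, ?_⟩
  intro g r t hr hg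
  obtain ⟨g', hg'⟩ := exists_xG (K := K) hD (hS.bar_lt r hr) (t ^ lamN X r)
  have : S * gmat g = gmat g' * S := by
    rw [hg, hg', x_eq_xN]
    exact rel r hr t
  rw [(hα g g').1 this, hg', x_eq_xN]

end Cfsg.Agent.Lib.Helper8.Chev
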