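import Cfsg.Agent.Lib.Helper8.ChevAu19
import Cfsg.Agent.Lib.Helper8.ChevEx7
import Cfsg.Agent.Lib.Helper8.ChevEx3
import Cfsg.Agent.Lib.Helper8.ChevEx3G

set_option autoImplicit false

/-! The exceptional graph automorphisms preserve `U` and `V`. -/

namespace Cfsg.Agent.Lib.Helper8.Chev

open Cfsg.Lie Matrix Cfsg.Agent.Lib.Helper3

section

variable {D : ChevalleyDatum} {F : Type*} [Field F]

/-- an automorphism permuting the root elements, positive to positive and negative to negative,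
preserves `U` and `V` -/
theorem exAut_mem_presSub [Finite F] (X : ExData)
    (hbar : ∀ r, D.IsPosRoot r → D.IsPosRoot (X.bar.getD r 0))
    (hbar' : ∀ r, D.IsNegRoot r → D.IsNegRoot (X.bar.getD r 0))
    {α : MulAut ↥(D.group F)}
    (hα : ∀ (g : ↥(D.group F)) (r : ℕ) (t : F), r < D.nroots →
      gmat g = D.x F r t → gmat (α g) = D.x F (X.bar.getD r 0) (t ^ lamN X r)) :
    α ∈ presSub D F := by
  constructor
  · apply pres_pos_of_gens
    intro g r t hr hg
    exact ⟨X.bar.getD r 0, t ^ lamN X r, hbar r hr, hα g r t hr.1 hg⟩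
  · apply pres_neg_of_gens
    intro g r t hr hg
    exact ⟨X.bar.getD r 0, t ^ lamN X r, hbar' r hr, hα g r t hr.1 hg⟩

theorem exAut_xEl (hD : D ∈ [chevG2, chevB2, chevD4, chevF4, chevE6, chevE7, chevE8])
    (X : ExData) (hlt : ∀ r, r < D.nroots → X.bar.getD r 0 < D.nroots)
    {α : MulAut ↥(D.group F)}
    (hα : ∀ (g : ↥(D.group F)) (r : ℕ) (t : F), r < D.nroots →
      gmat g = D.x F r t → gmat (α g) = D.x F (X.bar.getD r 0) (t ^ lamN X r))
    {r : ℕ} (hr : r < D.nroots) (t : F) :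
    α (xEl hD r t) = xEl hD (X.bar.getD r 0) (t ^ lamN X r) :=
  eq_xEl_of_coe hD (hlt r hr) (hα _ r t hr (coe_xEl hD hr t))

end

theorem bar_pos_G2 : ∀ r : Fin 12, chevG2.IsPosRoot r → chevG2.IsPosRoot (exDataG2.bar.getD r 0) := by
  decide +kernel

theorem bar_neg_G2 : ∀ r : Fin 12, chevG2.IsNegRoot r → chevG2.IsNegRoot (exDataG2.bar.getD r 0) := by
  decide +kernel

theorem bar_lt_G2 : ∀ r : Fin 12, exDataG2.bar.getD r 0 < chevG2.nroots := by
  decide +kernel

theorem bar_pos_F4 : ∀ r : Fin 48, chevF4.IsPosRoot r → chevF4.IsPosRoot (exDataF4.bar.getD r 0) := by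
  decide +kernel

theorem bar_neg_F4 : ∀ r : Fin 48, chevF4.IsNegRoot r → chevF4.IsNegRoot (exDataF4.bar.getD r 0) := by
  decide +kernel

theorem bar_lt_F4 : ∀ r : Fin 48, exDataF4.bar.getD r 0 < chevF4.nroots := by
  decide +kernel

theorem G2_nroots' : chevG2.nroots = 12 := by decide
theorem F4_nroots' : chevF4.nroots = 48 := by decide


theorem G2_dataA : chevG2.simple 0 = 7 ∧ chevG2.simple 1 = 6 ∧ chevG2.neg 7 = 4 ∧ chevG2.neg 6 = 5 := by
  decide

theorem G2_gexpA (c : ℕ) : chevG2.graphExp c 0 1 = c ∧ chevG2.graphExp c 1 0 = 1 := by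
  have h : chevG2.isLong 7 = false ∧ chevG2.isLong 6 = true := by decide +kernel
  unfold ChevalleyDatum.graphExp
  rw [G2_dataA.1, G2_dataA.2.1, h.1, h.2]
  simp

theorem F4_dataA : chevF4.simple 0 = 33 ∧ chevF4.simple 1 = 27 ∧ chevF4.simple 2 = 25 ∧
    chevF4.simple 3 = 24 ∧ chevF4.neg 33 = 14 ∧ chevF4.neg 27 = 20 ∧ chevF4.neg 25 = 22 ∧
    chevF4.neg 24 = 23 := by
  decide

theorem F4_gexpA (c : ℕ) : chevF4.graphExp c 0 3 = c ∧ chevF4.graphExp c 1 2 = c ∧
    chevF4.graphExp c 2 1 = 1 ∧ chevF4.graphExp c 3 0 = 1 := by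
  have h : chevF4.isLong 33 = false ∧ chevF4.isLong 27 = false ∧ chevF4.isLong 25 = true ∧
      chevF4.isLong 24 = true := by decide +kernel
  unfold ChevalleyDatum.graphExp
  rw [F4_dataA.1, F4_dataA.2.1, F4_dataA.2.2.1, F4_dataA.2.2.2.1, h.1, h.2.1, h.2.2.1, h.2.2.2]
  simp

theorem frob_surj_of_finite {F : Type*} [Field F] [Finite F] (p : ℕ) [Fact p.Prime] [CharP F p]
    (x : F) : ∃ y : F, y ^ p = x := by
  have hinj : Function.Injective (frobenius F p) := frobenius_inj F p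
  obtain ⟨y, hy⟩ := Finite.injective_iff_surjective.mp hinj x
  exact ⟨y, by rw [← hy, frobenius_def]⟩

/-- the exceptional graph automorphism of `G₂` in characteristic 3 -/
theorem exists_swap_G2 {F : Type*} [Field F] [Finite F] [CharP F 3]
    (hD : chevG2 ∈ [chevG2, chevB2, chevD4, chevF4, chevE6, chevE7, chevE8]) :
    ∃ g ∈ presSub chevG2 F, ∀ (i : Fin chevG2.rank) (t : F),
      g (xEl hD (chevG2.simple i) t) =
        xEl hD (chevG2.simple
          (Equiv.swap (⟨0, by decide⟩ : Fin chevG2.rank) ⟨1, by decide⟩ i))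
          (t ^ chevG2.graphExp (ringChar F) i
            (Equiv.swap (⟨0, by decide⟩ : Fin chevG2.rank) ⟨1, by decide⟩ i)) ∧
      g (xEl hD (chevG2.neg (chevG2.simple i)) t) =
        xEl hD (chevG2.neg (chevG2.simple
          (Equiv.swap (⟨0, by decide⟩ : Fin chevG2.rank) ⟨1, by decide⟩ i)))
          (t ^ chevG2.graphExp (ringChar F) i
            (Equiv.swap (⟨0, by decide⟩ : Fin chevG2.rank) ⟨1, by decide⟩ i)) := by
  have hF3 : ringChar F = 3 := ringChar.eq F 3
  have : Fact (Nat.Prime 3) := ⟨Nat.prime_three⟩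
  have hperf : ∀ x : F, ∃ y : F, y ^ exDataG2.p = x := frob_surj_of_finite 3
  have : CharP F exDataG2.p := inferInstanceAs (CharP F 3)
  obtain ⟨α, hα⟩ := exists_exAut (K := F) hD exDataG2
    (powOK_of_check (valid0_of_mem hD) checkPow_G2) (swapOK_of_check checkSwap_G2)
    checkEx_G2 (Or.inr rfl) hperf
    7 (by decide) (by decide) (by decide) 6 (by decide) (by decide) (by decide)
  have hlt : ∀ r, r < chevG2.nroots → exDataG2.bar.getD r 0 < chevG2.nroots := by
    intro r hr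
    have h := hr
    rw [G2_nroots'] at h
    exact bar_lt_G2 ⟨r, h⟩
  have key := fun {r : ℕ} (hr : r < chevG2.nroots) (t : F) =>
    exAut_xEl (F := F) hD exDataG2 hlt (α := α) hα hr t
  refine ⟨α, exAut_mem_presSub exDataG2 ?_ ?_ hα, fun i t => ?_⟩
  · intro r hr
    have h := hr.1
    rw [G2_nroots'] at h
    exact bar_pos_G2 ⟨r, h⟩ hr
  · intro r hr
    have h := hr.1
    rw [G2_nroots'] at h
    exact bar_neg_G2 ⟨r, h⟩ hr
  · have hi : i = ⟨0, by decide⟩ ∨ i = ⟨1, by decide⟩ := by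
      revert i
      decide
    rcases hi with rfl | rfl
    · rw [Equiv.swap_apply_left]
      show α (xEl hD (chevG2.simple 0) t) =
          xEl hD (chevG2.simple 1) (t ^ chevG2.graphExp (ringChar F) 0 1) ∧
        α (xEl hD (chevG2.neg (chevG2.simple 0)) t) =
          xEl hD (chevG2.neg (chevG2.simple 1)) (t ^ chevG2.graphExp (ringChar F) 0 1)
      rw [(G2_gexpA _).1, hF3, G2_dataA.1, G2_dataA.2.1, G2_dataA.2.2.1, G2_dataA.2.2.2]
      exact ⟨key (r := 7) (by decide) t, key (r := 4) (by decide) t⟩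
    · rw [Equiv.swap_apply_right]
      show α (xEl hD (chevG2.simple 1) t) =
          xEl hD (chevG2.simple 0) (t ^ chevG2.graphExp (ringChar F) 1 0) ∧
        α (xEl hD (chevG2.neg (chevG2.simple 1)) t) =
          xEl hD (chevG2.neg (chevG2.simple 0)) (t ^ chevG2.graphExp (ringChar F) 1 0)
      rw [(G2_gexpA _).2, G2_dataA.1, G2_dataA.2.1, G2_dataA.2.2.1, G2_dataA.2.2.2]
      exact ⟨key (r := 6) (by decide) t, key (r := 5) (by decide) t⟩

/-- the exceptional graph automorphism of `F₄` in characteristic 2 -/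
theorem exists_rev_F4 {F : Type*} [Field F] [Finite F] [CharP F 2]
    (hD : chevF4 ∈ [chevG2, chevB2, chevD4, chevF4, chevE6, chevE7, chevE8]) :
    ∃ g ∈ presSub chevF4 F, ∀ (i : Fin chevF4.rank) (t : F),
      g (xEl hD (chevF4.simple i) t) =
        xEl hD (chevF4.simple ((Fin.revPerm : Equiv.Perm (Fin chevF4.rank)) i))
          (t ^ chevF4.graphExp (ringChar F) i
            ((Fin.revPerm : Equiv.Perm (Fin chevF4.rank)) i)) ∧
      g (xEl hD (chevF4.neg (chevF4.simple i)) t) =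
        xEl hD (chevF4.neg (chevF4.simple ((Fin.revPerm : Equiv.Perm (Fin chevF4.rank)) i)))
          (t ^ chevF4.graphExp (ringChar F) i
            ((Fin.revPerm : Equiv.Perm (Fin chevF4.rank)) i)) := by
  have hF2 : ringChar F = 2 := ringChar.eq F 2
  have : Fact (Nat.Prime 2) := ⟨Nat.prime_two⟩
  have hperf : ∀ x : F, ∃ y : F, y ^ exDataF4.p = x := frob_surj_of_finite 2
  have : CharP F exDataF4.p := inferInstanceAs (CharP F 2)
  obtain ⟨α, hα⟩ := exists_exAut (K := F) hD exDataF4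
    (powOK_of_check (valid0_of_mem hD) checkPow_F4) (swapOK_of_check checkSwap_F4)
    checkEx_F4 (Or.inl rfl) hperf
    27 (by decide) (by decide) (by decide) 24 (by decide) (by decide) (by decide)
  have hlt : ∀ r, r < chevF4.nroots → exDataF4.bar.getD r 0 < chevF4.nroots := by
    intro r hr
    have h := hr
    rw [F4_nroots'] at h
    exact bar_lt_F4 ⟨r, h⟩
  have key := fun {r : ℕ} (hr : r < chevF4.nroots) (t : F) =>
    exAut_xEl (F := F) hD exDataF4 hlt (α := α) hα hr t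
  refine ⟨α, exAut_mem_presSub exDataF4 ?_ ?_ hα, fun i t => ?_⟩
  · intro r hr
    have h := hr.1
    rw [F4_nroots'] at h
    exact bar_pos_F4 ⟨r, h⟩ hr
  · intro r hr
    have h := hr.1
    rw [F4_nroots'] at h
    exact bar_neg_F4 ⟨r, h⟩ hr
  · have hi : i = ⟨0, by decide⟩ ∨ i = ⟨1, by decide⟩ ∨ i = ⟨2, by decide⟩ ∨
        i = ⟨3, by decide⟩ := by
      revert i
      decide
    rw [Fin.revPerm_apply]
    rcases hi with rfl | rfl | rfl | rfl
    · show α (xEl hD (chevF4.simple 0) t) =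
          xEl hD (chevF4.simple 3) (t ^ chevF4.graphExp (ringChar F) 0 3) ∧
        α (xEl hD (chevF4.neg (chevF4.simple 0)) t) =
          xEl hD (chevF4.neg (chevF4.simple 3)) (t ^ chevF4.graphExp (ringChar F) 0 3)
      rw [(F4_gexpA _).1, hF2, F4_dataA.1, F4_dataA.2.2.2.1, F4_dataA.2.2.2.2.1,
        F4_dataA.2.2.2.2.2.2.2]
      exact ⟨key (r := 33) (by decide) t, key (r := 14) (by decide) t⟩
    · show α (xEl hD (chevF4.simple 1) t) =
          xEl hD (chevF4.simple 2) (t ^ chevF4.graphExp (ringChar F) 1 2) ∧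
        α (xEl hD (chevF4.neg (chevF4.simple 1)) t) =
          xEl hD (chevF4.neg (chevF4.simple 2)) (t ^ chevF4.graphExp (ringChar F) 1 2)
      rw [(F4_gexpA _).2.1, hF2, F4_dataA.2.1, F4_dataA.2.2.1, F4_dataA.2.2.2.2.2.1,
        F4_dataA.2.2.2.2.2.2.1]
      exact ⟨key (r := 27) (by decide) t, key (r := 20) (by decide) t⟩
    · show α (xEl hD (chevF4.simple 2) t) =
          xEl hD (chevF4.simple 1) (t ^ chevF4.graphExp (ringChar F) 2 1) ∧
        α (xEl hD (chevF4.neg (chevF4.simple 2)) t) =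
          xEl hD (chevF4.neg (chevF4.simple 1)) (t ^ chevF4.graphExp (ringChar F) 2 1)
      rw [(F4_gexpA _).2.2.1, F4_dataA.2.1, F4_dataA.2.2.1, F4_dataA.2.2.2.2.2.1,
        F4_dataA.2.2.2.2.2.2.1]
      exact ⟨key (r := 25) (by decide) t, key (r := 22) (by decide) t⟩
    · show α (xEl hD (chevF4.simple 3) t) =
          xEl hD (chevF4.simple 0) (t ^ chevF4.graphExp (ringChar F) 3 0) ∧
        α (xEl hD (chevF4.neg (chevF4.simple 3)) t) =
          xEl hD (chevF4.neg (chevF4.simple 0)) (t ^ chevF4.graphExp (ringChar F) 3 0)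
      rw [(F4_gexpA _).2.2.2, F4_dataA.1, F4_dataA.2.2.2.1, F4_dataA.2.2.2.2.1,
        F4_dataA.2.2.2.2.2.2.2]
      exact ⟨key (r := 24) (by decide) t, key (r := 23) (by decide) t⟩

end Cfsg.Agent.Lib.Helper8.Chev
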