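import Cfsg.Agent.Lib.Helper8.ChevAu2
import Cfsg.Agent.Lib.Helper8.ChevFld3

set_option autoImplicit false

/-! Automorphisms of Chevalley groups: adjusting by an inner automorphism so that `U` and `V`
are preserved. -/

namespace Cfsg.Agent.Lib.Helper8.Chev

open Cfsg.Lie Matrix Cfsg.Agent.Lib.Helper3

section

variable {D : ChevalleyDatum} {F : Type*} [Field F]

theorem rootPerm_of_monomial (hD : D ∈ [chevG2, chevB2, chevD4, chevF4, chevE6, chevE7, chevE8])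
    {n : GL D.Idx F} (hn : n ∈ D.monomialSubgroup F) :
    ∃ σ : ℕ → ℕ, RootPerm D F (n : Matrix D.Idx D.Idx F) σ := by
  have V := valid0_of_mem hD
  have V1 := valid1_of_mem hD
  have J := validJ_of_mem hD
  have H := validH_of_mem hD
  obtain ⟨h, hh, l, hl, rfl⟩ := monomial_form hD hn
  refine ⟨id ∘ reflWord D l, ?_⟩
  rw [Units.val_mul]
  exact (rootPerm_torus V (torusLike_of_mem J V1 H hh)).mul (rootPermN_nP J V1 H.nS l hl).rootPerm

/-- a conjugate of `U` by an element of `N` meeting `U` trivially on root elements is inside `V` -/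
theorem conj_pos_le_neg (hD : D ∈ [chevG2, chevB2, chevD4, chevF4, chevE6, chevE7, chevE8])
    {n : GL D.Idx F} {σ : ℕ → ℕ} (hσ : RootPerm D F (n : Matrix D.Idx D.Idx F) σ)
    (hneg : ∀ r, D.nroots / 2 ≤ r → r < D.nroots → σ r < D.nroots / 2) :
    (D.posUnipotent F).map (MulAut.conj n).toMonoidHom ≤ D.negUnipotent F := by
  have P := posP_of_mem hD
  unfold ChevalleyDatum.posUnipotent
  rw [MonoidHom.map_closure, Subgroup.closure_le]
  rintro _ ⟨g, ⟨r, t, hr, hg⟩, rfl⟩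
  obtain ⟨ε, he⟩ := rootPerm_conj hσ hr.1 t g hg
  have hpos := (P r hr.1).1.mp hr
  have hlt := (hσ r hr.1).1
  have hn := (P _ hlt).2.mpr (hneg r hpos hr.1)
  exact Subgroup.subset_closure ⟨σ r, ε * t, hn, he⟩

/-- every automorphism of a finite Chevalley group preserves `U` and `V` up to an inner
automorphism -/
theorem exists_adjust [Fintype F] (p : ℕ) [Fact p.Prime] [CharP F p]
    (hD : D ∈ [chevG2, chevB2, chevD4, chevF4, chevE6, chevE7, chevE8])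
    (θ : MulAut ↥(D.group F)) :
    ∃ x : ↥(D.group F), Pres (MulAut.conj x * θ : MulAut ↥(D.group F)) (D.posUnipotent F) ∧
      Pres (MulAut.conj x * θ : MulAut ↥(D.group F)) (D.negUnipotent F) := by
  classical
  have V := valid0_of_mem hD
  have V1 := valid1_of_mem hD
  have J := validJ_of_mem hD
  have H := validH_of_mem hD
  have C := copP_of_mem hD
  have P := posP_of_mem hD
  -- Sylow
  obtain ⟨S, hS⟩ := Cfsg.Agent.S2326.result (F := F) p D hD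
  have hcard : Nat.card ↥((D.posUnipotent F).subgroupOf (D.group F)) =
      p ^ (Nat.card ↥(D.group F)).factorization p := by
    rw [← hS]
    exact S.card_eq_multiplicity
  obtain ⟨x₁, hx₁⟩ := Cfsg.Agent.H26.Ro.exists_conj_preserve_sylow p _ hcard θ
  obtain ⟨θ₁, hθ₁⟩ : ∃ θ₁ : MulAut ↥(D.group F), θ₁ = MulAut.conj x₁ * θ := ⟨_, rfl⟩
  rw [← hθ₁] at hx₁
  have hP₁ : Pres θ₁ (D.posUnipotent F) := fun g hg =>
    Subgroup.mem_subgroupOf.mp (hx₁ g (Subgroup.mem_subgroupOf.mpr hg))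
  -- the longest element
  obtain ⟨n₀, hn₀, σ₀, τ₀, hσ₀, hτ₀, h1, h2⟩ := exists_w0 (F := F) hD
  have hn₀G := monomial_le_group V V1 hn₀
  have hVle : D.negUnipotent F ≤ (D.posUnipotent F).map (MulAut.conj n₀).toMonoidHom := by
    unfold ChevalleyDatum.negUnipotent
    rw [Subgroup.closure_le]
    rintro g ⟨s, t, hs, hg⟩
    have hneg := (P s hs.1).2.mp hs
    obtain ⟨ε, he⟩ := rootPerm_conj hτ₀ hs.1 t g hg
    have hlt := (hτ₀ s hs.1).1
    have hpos := (P _ hlt).1.mpr (h2 s hneg)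
    have hu : n₀⁻¹ * g * n₀⁻¹⁻¹ ∈ D.posUnipotent F :=
      Subgroup.subset_closure ⟨τ₀ s, ε * t, hpos, he⟩
    rw [SetLike.mem_coe, Subgroup.mem_map]
    refine ⟨n₀⁻¹ * g * n₀⁻¹⁻¹, hu, ?_⟩
    show n₀ * (n₀⁻¹ * g * n₀⁻¹⁻¹) * n₀⁻¹ = g
    group
  have hleV : (D.posUnipotent F).map (MulAut.conj n₀).toMonoidHom ≤ D.negUnipotent F :=
    conj_pos_le_neg hD hσ₀ h1
  set g : ↥(D.group F) := θ₁ ⟨n₀, hn₀G⟩ with hg
  obtain ⟨b, hb, n, hn, u, hu, e⟩ := bruhat_exists_chev hD (g⁻¹).2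
  have huU : u ∈ D.posUnipotent F := unegS_le_pos n hu
  have huG := pos_le_group huU
  have hnG := monomial_le_group V V1 hn
  have hbG := borel_le_group V V1 hb
  have eg : (g : GL D.Idx F) = u⁻¹ * n⁻¹ * b⁻¹ := by
    have : ((g⁻¹ : ↥(D.group F)) : GL D.Idx F) = b * n * u := e
    rw [Subgroup.coe_inv] at this
    rw [← inv_inv (g : GL D.Idx F), this]
    group
  -- the second adjustment
  obtain ⟨θ₂, hθ₂⟩ : ∃ θ₂ : MulAut ↥(D.group F),
      θ₂ = MulAut.conj (⟨u, huG⟩ : ↥(D.group F)) * θ₁ := ⟨_, rfl⟩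
  have hP₂ : Pres θ₂ (D.posUnipotent F) := by
    rw [hθ₂]
    exact (pres_conj _ huU).mul hP₁
  refine ⟨⟨u, huG⟩ * x₁, ?_, ?_⟩
  · have : MulAut.conj (⟨u, huG⟩ * x₁) * θ = θ₂ := by
      rw [hθ₂, hθ₁, map_mul, mul_assoc]
    rw [this]
    exact hP₂
  have hθeq : MulAut.conj (⟨u, huG⟩ * x₁) * θ = θ₂ := by
    rw [hθ₂, hθ₁, map_mul, mul_assoc]
  rw [hθeq]
  -- the image of `V`
  set W : Subgroup (GL D.Idx F) := (D.posUnipotent F).map (MulAut.conj n⁻¹).toMonoidHom with hW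
  have hVW : ∀ v : ↥(D.group F), (v : GL D.Idx F) ∈ D.negUnipotent F →
      ((θ₂ v : ↥(D.group F)) : GL D.Idx F) ∈ W := by
    intro v hv
    obtain ⟨u₀, hu₀, hv0⟩ := hVle hv
    have hu₀G := pos_le_group hu₀
    have hv' : v = ⟨n₀, hn₀G⟩ * ⟨u₀, hu₀G⟩ * (⟨n₀, hn₀G⟩ : ↥(D.group F))⁻¹ := by
      apply Subtype.ext
      exact hv0.symm
    have h3 := hP₁ ⟨u₀, hu₀G⟩ hu₀
    have hbn := borel_le_normalizer_pos J V1 H (inv_mem hb)
    have h4 : b⁻¹ * ((θ₁ ⟨u₀, hu₀G⟩ : ↥(D.group F)) : GL D.Idx F) * b⁻¹⁻¹ ∈ D.posUnipotent F :=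
      (Subgroup.mem_normalizer_iff.mp hbn _).mp h3
    have e1 : θ₂ v = ⟨u, huG⟩ * (g * θ₁ ⟨u₀, hu₀G⟩ * g⁻¹) * (⟨u, huG⟩ : ↥(D.group F))⁻¹ := by
      rw [hθ₂, MulAut.mul_apply, MulAut.conj_apply, hv', map_mul, map_mul, map_inv]
    have key : ((θ₂ v : ↥(D.group F)) : GL D.Idx F) =
        n⁻¹ * (b⁻¹ * ((θ₁ ⟨u₀, hu₀G⟩ : ↥(D.group F)) : GL D.Idx F) * b⁻¹⁻¹) * n⁻¹⁻¹ := by
      rw [e1]
      simp only [Subgroup.coe_mul, Subgroup.coe_inv]
      rw [eg]
      group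
    rw [hW, Subgroup.mem_map]
    exact ⟨_, h4, key.symm⟩
  -- cardinalities
  have hcW : Nat.card ↥W = Nat.card ↥(D.posUnipotent F) :=
    Subgroup.card_map_of_injective (MulAut.conj n⁻¹).injective
  have hcV : Nat.card ↥(D.negUnipotent F) = Nat.card ↥(D.posUnipotent F) := by
    have : D.negUnipotent F = (D.posUnipotent F).map (MulAut.conj n₀).toMonoidHom :=
      le_antisymm hVle hleV
    rw [this]
    exact Subgroup.card_map_of_injective (MulAut.conj n₀).injective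
  let f : ↥(D.negUnipotent F) → ↥W := fun v =>
    ⟨((θ₂ ⟨v.1, neg_le_group v.2⟩ : ↥(D.group F)) : GL D.Idx F), hVW _ v.2⟩
  have hfinj : Function.Injective f := by
    intro v v' hvv
    have h3 : ((f v : ↥W) : GL D.Idx F) = ((f v' : ↥W) : GL D.Idx F) := by rw [hvv]
    have h3' : ((θ₂ ⟨v.1, neg_le_group v.2⟩ : ↥(D.group F)) : GL D.Idx F) =
        ((θ₂ ⟨v'.1, neg_le_group v'.2⟩ : ↥(D.group F)) : GL D.Idx F) := h3
    have h4 := θ₂.injective (Subtype.ext h3')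
    have h5 : (v.1 : GL D.Idx F) = v'.1 := congrArg (fun z : ↥(D.group F) => (z : GL D.Idx F)) h4
    exact Subtype.ext h5
  have hfbij : Function.Bijective f :=
    hfinj.bijective_of_nat_card_le (by rw [hcW, hcV])
  -- the permutation of `n⁻¹`
  obtain ⟨σ, hσ⟩ := rootPerm_of_monomial hD (inv_mem hn)
  have hneg : ∀ r, D.nroots / 2 ≤ r → r < D.nroots → σ r < D.nroots / 2 := by
    intro r hr1 hr2
    by_contra hcon
    rw [not_lt] at hcon
    obtain ⟨gx, hgx⟩ := exists_unit_x (F := F) V V1 hr2 1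
    have hrpos := (P r hr2).1.mpr hr1
    have hgxU : gx ∈ D.posUnipotent F := Subgroup.subset_closure ⟨r, 1, hrpos, hgx⟩
    have hwW : n⁻¹ * gx * n⁻¹⁻¹ ∈ W := ⟨gx, hgxU, rfl⟩
    obtain ⟨ε, he⟩ := rootPerm_conj hσ hr2 1 gx hgx
    have hlt := (hσ r hr2).1
    have hpos' := (P _ hlt).1.mpr hcon
    have hwU : n⁻¹ * gx * n⁻¹⁻¹ ∈ D.posUnipotent F :=
      Subgroup.subset_closure ⟨σ r, ε * 1, hpos', he⟩
    obtain ⟨v, hv⟩ := hfbij.2 ⟨_, hwW⟩
    have hv' : ((θ₂ ⟨v.1, neg_le_group v.2⟩ : ↥(D.group F)) : GL D.Idx F) = n⁻¹ * gx * n⁻¹⁻¹ := by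
      have : ((f v : ↥W) : GL D.Idx F) = n⁻¹ * gx * n⁻¹⁻¹ := by rw [hv]
      exact this
    have hvU : (v.1 : GL D.Idx F) ∈ D.posUnipotent F := by
      have := hP₂.mem_of_map (g := ⟨v.1, neg_le_group v.2⟩) (by rw [hv']; exact hwU)
      exact this
    have hv1 : (v.1 : GL D.Idx F) = 1 := by
      have : (v.1 : GL D.Idx F) ∈ D.posUnipotent F ⊓ D.negUnipotent F := ⟨hvU, v.2⟩
      rw [pos_inf_neg hD, Subgroup.mem_bot] at this
      exact this
    have hone : n⁻¹ * gx * n⁻¹⁻¹ = 1 := by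
      rw [← hv']
      have : (⟨v.1, neg_le_group v.2⟩ : ↥(D.group F)) = 1 := Subtype.ext hv1
      rw [this, map_one]
      rfl
    have hx1 : xN D F (σ r) ((ε : F) * 1) = 1 := by
      rw [← x_eq_xN, ← he, hone]
      rfl
    have := xN_eq_one V C hlt hx1
    rw [mul_one] at this
    exact ε.ne_zero this
  have hWV : W ≤ D.negUnipotent F := conj_pos_le_neg hD hσ hneg
  intro v hv
  exact hWV (hVW v hv)

end

end Cfsg.Agent.Lib.Helper8.Chev
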