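import Cfsg.Agent.Lib.Helper8.ChevAu3
import Cfsg.Agent.Lib.Helper8.ChevW1_E8

set_option autoImplicit false

/-! The longest element of the Weyl group exchanges the fundamental roots and their negatives. -/

namespace Cfsg.Agent.Lib.Helper8.Chev

open Cfsg.Lie Matrix

/-- the longest word maps negative roots to positive roots, its inverse positive roots to
negative roots, and it maps the negatives of the fundamental roots onto the fundamental roots -/
noncomputable def checkW0s (D : ChevalleyDatum) (l : List ℕ) : Bool :=
  forallLtF (fun s => cond (Nat.blt s (D.nroots / 2))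
    (Nat.ble (D.nroots / 2) (reflWordF D l s))
    (Nat.blt (reflWordF D l.reverse s) (D.nroots / 2))) D.nroots &&
  (forallLtF (fun j => existsLtF (fun i =>
    Nat.beq (reflWordF D l (D.neg (D.simple i))) (D.simple j)) D.rank) D.rank &&
  forallLtF (fun i => existsLtF (fun j =>
    Nat.beq (reflWordF D l (D.neg (D.simple i))) (D.simple j)) D.rank) D.rank)

theorem checkW0s_G2 : checkW0s chevG2 (w0L chevG2) = true := by decide +kernel
theorem checkW0s_B2 : checkW0s chevB2 (w0L chevB2) = true := by decide +kernel
theorem checkW0s_D4 : checkW0s chevD4 (w0L chevD4) = true := by decide +kernel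
theorem checkW0s_F4 : checkW0s chevF4 (w0L chevF4) = true := by decide +kernel
theorem checkW0s_E6 : checkW0s chevE6 (w0L chevE6) = true := by decide +kernel
theorem checkW0s_E7 : checkW0s chevE7 (w0L chevE7) = true := by decide +kernel
set_option maxRecDepth 100000 in
theorem checkW0s_E8 : checkW0s chevE8 (w0L chevE8) = true := by decide +kernel

theorem checkW0s_of_mem {D : ChevalleyDatum}
    (hD : D ∈ [chevG2, chevB2, chevD4, chevF4, chevE6, chevE7, chevE8]) :
    checkW0s D (w0L D) = true := by
  simp only [List.mem_cons, List.not_mem_nil, or_false] at hD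
  rcases hD with rfl | rfl | rfl | rfl | rfl | rfl | rfl
  · exact checkW0s_G2
  · exact checkW0s_B2
  · exact checkW0s_D4
  · exact checkW0s_F4
  · exact checkW0s_E6
  · exact checkW0s_E7
  · exact checkW0s_E8

end Cfsg.Agent.Lib.Helper8.Chev
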