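import Cfsg.Agent.Lib.Helper8.ChevAu5

set_option autoImplicit false

/-! An automorphism preserving `U` and `V` permutes the fundamental root subgroups. -/

namespace Cfsg.Agent.Lib.Helper8.Chev

open Cfsg.Lie Matrix Cfsg.Agent.Lib.Helper3

section

variable {D : ChevalleyDatum} {F : Type*} [Field F]

theorem nG_not_mem_borel (hD : D ∈ [chevG2, chevB2, chevD4, chevF4, chevE6, chevE7, chevE8])
    {i : ℕ} (hi : i < D.rank) : nG D F i ∉ D.borelSubgroup F := by
  intro h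
  apply BN.S_not_mem_B (chevBN hD F) (sG_mem_S hD hi)
  rw [mem_chevBN_B, coe_sG hD hi]
  exact h

theorem rootSubgroup_le_neg {s : ℕ} (hs : D.IsNegRoot s) :
    D.rootSubgroup F s ≤ D.negUnipotent F := by
  unfold ChevalleyDatum.rootSubgroup ChevalleyDatum.negUnipotent
  apply Subgroup.closure_mono
  rintro g ⟨t, hg⟩
  exact ⟨s, t, hs, hg⟩

theorem rootSub_le_pos {s : ℕ} (hs : D.IsPosRoot s) :
    D.rootSubgroup F s ≤ D.posUnipotent F := by
  unfold ChevalleyDatum.rootSubgroup ChevalleyDatum.posUnipotent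
  apply Subgroup.closure_mono
  rintro g ⟨t, hg⟩
  exact ⟨s, t, hs, hg⟩

theorem isNegRoot_neg_simple (hD : D ∈ [chevG2, chevB2, chevD4, chevF4, chevE6, chevE7, chevE8])
    {i : ℕ} (hi : i < D.rank) : D.IsNegRoot (D.neg (D.simple i)) := by
  have V := valid0_of_mem hD
  have J := validJ_of_mem hD
  have P := posP_of_mem hD
  have hRP := checkRP_of_mem hD
  have hp := (J.S i hi).1
  have hpos := (refl_pos J hRP hi).1
  have hnp := V.neg_lt hp
  rw [(P _ hnp).2, V.neg_eq _ hp]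
  have := V.even
  omega

/-- `V ∩ B n_i B ⊆ X_{-p_i}` -/
theorem neg_inf_cell (hD : D ∈ [chevG2, chevB2, chevD4, chevF4, chevE6, chevE7, chevE8])
    {i : ℕ} (hi : i < D.rank) {v b₁ b₂ : GL D.Idx F} (hv : v ∈ D.negUnipotent F)
    (hb₁ : b₁ ∈ D.borelSubgroup F) (hb₂ : b₂ ∈ D.borelSubgroup F)
    (e : v = b₁ * nG D F i * b₂) : v ∈ D.rootSubgroup F (D.neg (D.simple i)) := by
  have V := valid0_of_mem hD
  have V1 := valid1_of_mem hD
  have J := validJ_of_mem hD
  have H := validH_of_mem hD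
  have P := posP_of_mem hD
  have Tr := triP_of_mem hD
  have hp := (J.S i hi).1
  have hnp := V.neg_lt hp
  have hnegroot := isNegRoot_neg_simple hD hi
  have hpos : D.IsPosRoot (D.simple i) := (P _ hp).1.mpr (refl_pos J (checkRP_of_mem hD) hi).1
  obtain ⟨u, hu, h, hh, rfl⟩ := borel_decomp J V1 H hb₂
  obtain ⟨u', hu', g, t, hg, rfl⟩ := pos_decomp hD hi hu
  have hb3 : nG D F i * u' * (nG D F i)⁻¹ ∈ D.borelSubgroup F :=
    pos_le_borel (genPar_le_pos
      ((Subgroup.mem_normalizer_iff.mp (nG_normalizes_par hD hi) u').mp hu'))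
  have e' : v = (b₁ * (nG D F i * u' * (nG D F i)⁻¹)) * (nG D F i * g) * h := by
    rw [e]; group
  have hb4 := mul_mem hb₁ hb3
  by_cases ht : t = 0
  · exfalso
    have g1 : g = 1 := Units.ext (by rw [hg, ht, x_eq_xN, xN_zero V]; rfl)
    rw [g1, mul_one] at e'
    have hvn := (Subgroup.mem_normalizer_iff.mp (diagonal_le_normalizer_neg J V1 H hh) v).mp hv
    have e2 : nG D F i = ((b₁ * (nG D F i * u' * (nG D F i)⁻¹))⁻¹ * h⁻¹) * (h * v * h⁻¹) := by
      rw [e']; group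
    have hnN : nG D F i ∈ D.monomialSubgroup F := by
      have := nP_mem_monomial (F := F) hD (l := [i]) (by simpa using hi)
      simpa [nP_cons, nP_nil] using this
    exact nG_not_mem_borel hD hi (monomial_borel_neg hD hnN
      (mul_mem (inv_mem hb4) (inv_mem (diagonal_le_borel hh))) hvn e2)
  · obtain ⟨φ, h1, h2⟩ := exists_phi (F := F) hD hp
    have hid := congrArg φ (sl2_id1 ht)
    -- the three factors
    have hk : φ (dgS (-t⁻¹)) ∈ D.diagonalSubgroup F :=
      hMat_mem_diagonal hp (neg_ne_zero.mpr (inv_ne_zero ht)) _ (phi_dgS h1 h2 _)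
    have hxa : φ (upS (-t)) ∈ D.posUnipotent F :=
      Subgroup.subset_closure ⟨_, _, hpos, h1 (-t)⟩
    have hy : φ (loS t⁻¹) ∈ D.rootSubgroup F (D.neg (D.simple i)) :=
      x_mem_rootSubgroup _ _ (h2 t⁻¹)
    have hng : nG D F i * g = φ (dgS (-t⁻¹)) * φ (upS (-t)) * φ (loS t⁻¹) := by
      rw [← map_mul, ← map_mul, ← hid, map_mul]
      congr 1
      · apply Units.ext
        rw [coe_nG J V1 hi]
        exact (phi_nS h1 h2 1).symm
      · apply Units.ext
        rw [hg, h1]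
    -- conjugate `y` by `h⁻¹`
    have hy' : h⁻¹ * φ (loS t⁻¹) * h⁻¹⁻¹ ∈ D.rootSubgroup F (D.neg (D.simple i)) := by
      obtain ⟨c, hc⟩ := torus_conj_x V (torusLike_of_mem J V1 H (inv_mem hh)) hnp
      exact x_mem_rootSubgroup _ _ (hc _ _ (h2 t⁻¹))
    set b₄ := (b₁ * (nG D F i * u' * (nG D F i)⁻¹)) * φ (dgS (-t⁻¹)) * φ (upS (-t)) * h with hb₄
    have hb₄B : b₄ ∈ D.borelSubgroup F :=
      mul_mem (mul_mem (mul_mem hb4 (diagonal_le_borel hk)) (pos_le_borel hxa))
        (diagonal_le_borel hh)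
    have e3 : v = b₄ * (h⁻¹ * φ (loS t⁻¹) * h⁻¹⁻¹) := by
      rw [e', hng, hb₄]; group
    have hb₄V : b₄ ∈ D.negUnipotent F := by
      have : b₄ = v * (h⁻¹ * φ (loS t⁻¹) * h⁻¹⁻¹)⁻¹ := by rw [e3]; group
      rw [this]
      exact mul_mem hv (inv_mem (rootSubgroup_le_neg hnegroot hy'))
    have hb₄1 : b₄ = 1 := by
      have : b₄ ∈ D.borelSubgroup F ⊓ D.negUnipotent F := ⟨hb₄B, hb₄V⟩
      rwa [borel_inf_neg J V1 H Tr P, Subgroup.mem_bot] at this
    rw [e3, hb₄1, one_mul]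
    exact hy'

end

end Cfsg.Agent.Lib.Helper8.Chev
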