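import Cfsg.Agent.Lib.Helper8.ChevAu6

set_option autoImplicit false

/-! An automorphism preserving `U` and `V` permutes the fundamental root subgroups. -/

namespace Cfsg.Agent.Lib.Helper8.Chev

open Cfsg.Lie Matrix Cfsg.Agent.Lib.Helper3

section

variable {D : ChevalleyDatum} {F : Type*} [Field F]

/-- an automorphism maps the intersection of `G` with one subgroup of `GL` into another -/
def MapsTo (θ : ↥(D.group F) ≃* ↥(D.group F)) (S T : Subgroup (GL D.Idx F)) : Prop :=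
  ∀ g : ↥(D.group F), (g : GL D.Idx F) ∈ S → ((θ g : ↥(D.group F)) : GL D.Idx F) ∈ T

/-- `x_{-p_i}(t)` is the conjugate of an element of `X_{p_i}` by `n_i` -/
theorem neg_simple_conj (hD : D ∈ [chevG2, chevB2, chevD4, chevF4, chevE6, chevE7, chevE8])
    {i : ℕ} (hi : i < D.rank) {g : GL D.Idx F}
    (hg : g ∈ D.rootSubgroup F (D.neg (D.simple i))) :
    ∃ a ∈ D.rootSubgroup F (D.simple i), g = nG D F i * a * (nG D F i)⁻¹ := by
  have V := valid0_of_mem hD
  have V1 := valid1_of_mem hD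
  have J := validJ_of_mem hD
  have H := validH_of_mem hD
  have hp := (J.S i hi).1
  have hnp := V.neg_lt hp
  obtain ⟨t, hgt⟩ := rootSubgroup_form V V1 hnp hg
  have hPs : RootPerm D F ((nG D F i : GL D.Idx F) : Matrix D.Idx D.Idx F)
      (D.reflectRoot i) := by
    rw [coe_nG J V1 hi]
    exact (rootPermN_nMat J V1 H.nS hi).rootPerm
  obtain ⟨_, ε₀, e₀⟩ := hPs _ hp
  obtain ⟨a, ha⟩ := exists_unit_x (F := F) V V1 hp ((ε₀ : F)⁻¹ * t)
  refine ⟨a, x_mem_rootSubgroup _ a ha, ?_⟩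
  apply Units.ext
  rw [Units.val_mul, Units.val_mul, ha, x_eq_xN, e₀, Matrix.mul_assoc, ← Units.val_mul,
    mul_inv_cancel, Units.val_one, Matrix.mul_one, reflectRoot_simple, hgt, x_eq_xN,
    ← mul_assoc, mul_inv_cancel₀ ε₀.ne_zero, one_mul]

theorem neg_simple_perm [Finite F]
    (hD : D ∈ [chevG2, chevB2, chevD4, chevF4, chevE6, chevE7, chevE8])
    {θ : MulAut ↥(D.group F)} (hU : Pres θ (D.posUnipotent F)) (hV : Pres θ (D.negUnipotent F))
    {i : ℕ} (hi : i < D.rank) :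
    ∃ j < D.rank, MapsTo θ (D.rootSubgroup F (D.neg (D.simple i)))
      (D.rootSubgroup F (D.neg (D.simple j))) := by
  have V := valid0_of_mem hD
  have V1 := valid1_of_mem hD
  have J := validJ_of_mem hD
  have H := validH_of_mem hD
  have P := posP_of_mem hD
  have Tr := triP_of_mem hD
  have hp := (J.S i hi).1
  have hnp := V.neg_lt hp
  have hpos : D.IsPosRoot (D.simple i) := (P _ hp).1.mpr (refl_pos J (checkRP_of_mem hD) hi).1
  set PP := chevBN hD F with hPP
  have hB := hU.borel hD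
  have hBi := hU.inv.borel hD
  have h1 : ∀ b ∈ PP.B, θ b ∈ PP.B := fun b hb =>
    (mem_chevBN_B hD).mpr (hB b ((mem_chevBN_B hD).mp hb))
  have h2 : ∀ b ∈ PP.B, (θ⁻¹ : MulAut ↥(D.group F)) b ∈ PP.B := fun b hb =>
    (mem_chevBN_B hD).mpr (hBi b ((mem_chevBN_B hD).mp hb))
  obtain ⟨s', hs', hmap⟩ := aut_min_parabolic PP θ h1 h2 (sG_mem_S hD hi)
  have hs'' := hs'
  rw [hPP, chevBN_S] at hs''
  obtain ⟨j, hj, hsj⟩ := hs''
  have hs'eq : s' = sG hD F j := by
    apply Subtype.ext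
    apply Units.ext
    rw [hsj, coe_sG hD hj, coe_nG J V1 hj]
  refine ⟨j, hj, ?_⟩
  intro g hg
  -- `g` lies in the minimal parabolic
  have hgP : g ∈ PP.parabolic {sG hD F i} := by
    obtain ⟨a, ha, e⟩ := neg_simple_conj hD hi hg
    have haU : a ∈ D.posUnipotent F := rootSub_le_pos hpos ha
    have haG := pos_le_group haU
    have e' : g = sG hD F i * ⟨a, haG⟩ * (sG hD F i)⁻¹ := by
      apply Subtype.ext
      show (g : GL D.Idx F) = ((sG hD F i : ↥(D.group F)) : GL D.Idx F) * a *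
        ((sG hD F i : ↥(D.group F)) : GL D.Idx F)⁻¹
      rw [coe_sG hD hi]
      exact e
    have hsP : sG hD F i ∈ PP.parabolic {sG hD F i} :=
      (le_sup_right : Subgroup.closure {sG hD F i} ≤ PP.parabolic {sG hD F i})
        (Subgroup.subset_closure rfl)
    have haP : (⟨a, haG⟩ : ↥(D.group F)) ∈ PP.parabolic {sG hD F i} :=
      (le_sup_left : PP.B ≤ PP.parabolic {sG hD F i})
        ((mem_chevBN_B hD).mpr (pos_le_borel haU))
    rw [e']
    exact mul_mem (mul_mem hsP haP) (inv_mem hsP)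
  have hθg : θ g ∈ PP.parabolic {s'} := by
    rw [← hmap]
    exact ⟨g, hgP, rfl⟩
  have hθgV : ((θ g : ↥(D.group F)) : GL D.Idx F) ∈ D.negUnipotent F :=
    hV g (rootSubgroup_le_neg (isNegRoot_neg_simple hD hi) hg)
  have hcases : θ g ∈ (PP.parabolic {s'} : Set ↥(D.group F)) := hθg
  rw [BN.parabolic_singleton PP hs'] at hcases
  rcases hcases with hc | hc
  · have : ((θ g : ↥(D.group F)) : GL D.Idx F) ∈ D.borelSubgroup F ⊓ D.negUnipotent F :=
      ⟨(mem_chevBN_B hD).mp hc, hθgV⟩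
    rw [borel_inf_neg J V1 H Tr P, Subgroup.mem_bot] at this
    rw [this]
    exact one_mem _
  · rw [BN.mem_C] at hc
    obtain ⟨b, hb, b', hb', e⟩ := hc
    have e' : ((θ g : ↥(D.group F)) : GL D.Idx F) = (b : GL D.Idx F) * nG D F j * (b' : GL D.Idx F) := by
      rw [e, hs'eq]
      show ((b : GL D.Idx F)) * ((sG hD F j : ↥(D.group F)) : GL D.Idx F) * (b' : GL D.Idx F) = _
      rw [coe_sG hD hj]
    exact neg_inf_cell hD hj hθgV ((mem_chevBN_B hD).mp hb) ((mem_chevBN_B hD).mp hb') e'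

end

end Cfsg.Agent.Lib.Helper8.Chev
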