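import Cfsg.Agent.Lib.Helper8.ChevAu7

set_option autoImplicit false

/-! An automorphism preserving `U` and `V` permutes the positive fundamental root subgroups. -/

namespace Cfsg.Agent.Lib.Helper8.Chev

open Cfsg.Lie Matrix Cfsg.Agent.Lib.Helper3

section

variable {D : ChevalleyDatum} {F : Type*} [Field F]

/-- the longest element, with all its properties -/
theorem w0_data (hD : D ∈ [chevG2, chevB2, chevD4, chevF4, chevE6, chevE7, chevE8]) :
    ∃ n ∈ D.monomialSubgroup F, ∃ σ τ : ℕ → ℕ,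
      RootPerm D F (n : Matrix D.Idx D.Idx F) σ ∧
      RootPerm D F ((n⁻¹ : GL D.Idx F) : Matrix D.Idx D.Idx F) τ ∧
      (∀ s, D.nroots / 2 ≤ s → s < D.nroots → σ s < D.nroots / 2) ∧
      (∀ s, s < D.nroots / 2 → D.nroots / 2 ≤ σ s) ∧
      (∀ s, D.nroots / 2 ≤ s → s < D.nroots → τ s < D.nroots / 2) ∧
      (∀ s, s < D.nroots / 2 → D.nroots / 2 ≤ τ s) ∧
      (∀ s < D.nroots, τ (σ s) = s) ∧
      (∀ j < D.rank, ∃ i < D.rank, σ (D.neg (D.simple i)) = D.simple j) ∧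
      (∀ i < D.rank, ∃ j < D.rank, σ (D.neg (D.simple i)) = D.simple j) := by
  have V := valid0_of_mem hD
  have V1 := valid1_of_mem hD
  have J := validJ_of_mem hD
  have H := validH_of_mem hD
  have hW := checkW0_of_mem hD
  have hWs := checkW0s_of_mem hD
  have hI := checkInv_of_mem hD
  simp only [checkW0, Bool.and_eq_true, allF_eq_true, Nat.blt_eq, forallLtF_eq_true] at hW
  obtain ⟨hl, hall⟩ := hW
  simp only [checkW0s, Bool.and_eq_true, forallLtF_eq_true, existsLtF_eq_true, Nat.beq_eq]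
    at hWs
  obtain ⟨hall2, hsur, htot⟩ := hWs
  have hlr : ∀ i ∈ (w0L D).reverse, i < D.rank := fun i hi => hl i (List.mem_reverse.mp hi)
  obtain ⟨n, hn, hP⟩ := exists_nProd (F := F) J V1 H.nS (w0L D) hl
  have hhalf : D.nroots / 2 ≤ D.nroots := Nat.div_le_self _ _
  have hsimp : ∀ i < D.rank, D.neg (D.simple i) < D.nroots := fun i hi =>
    V.neg_lt (J.S i hi).1
  refine ⟨n, hn, reflWord D (w0L D), reflWord D (w0L D).reverse, hP, ?_, ?_, ?_, ?_, ?_, ?_,
    ?_, ?_⟩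
  · apply hP.inv_unit
    intro s hs
    exact ⟨reflWord_lt J H.nS hlr hs, reflWord_reverse_cancel J H.nS hI hl hs⟩
  · intro s h1 h2
    have := hall s h2
    rw [reflWordF_eq J H.nS hl h2] at this
    have hb : Nat.blt s (D.nroots / 2) = false := by
      rw [Bool.eq_false_iff, ne_eq, Nat.blt_eq]; omega
    rw [hb] at this
    simpa using this
  · intro s h1
    have h2 : s < D.nroots := lt_of_lt_of_le h1 hhalf
    have := hall2 s h2
    rw [reflWordF_eq J H.nS hl h2] at this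
    have hb : Nat.blt s (D.nroots / 2) = true := by rw [Nat.blt_eq]; exact h1
    rw [hb] at this
    simpa using this
  · intro s h1 h2
    have := hall2 s h2
    rw [reflWordF_eq J H.nS hlr h2] at this
    have hb : Nat.blt s (D.nroots / 2) = false := by
      rw [Bool.eq_false_iff, ne_eq, Nat.blt_eq]; omega
    rw [hb] at this
    simpa using this
  · intro s h1
    have h2 : s < D.nroots := lt_of_lt_of_le h1 hhalf
    have := hall s h2
    rw [reflWordF_eq J H.nS hlr h2] at this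
    have hb : Nat.blt s (D.nroots / 2) = true := by rw [Nat.blt_eq]; exact h1
    rw [hb] at this
    simpa using this
  · intro s hs
    have := reflWord_reverse_cancel J H.nS hI hlr hs
    rwa [List.reverse_reverse] at this
  · intro j hj
    obtain ⟨i, hi, e⟩ := hsur j hj
    rw [reflWordF_eq J H.nS hl (hsimp i hi)] at e
    exact ⟨i, hi, e⟩
  · intro i hi
    obtain ⟨j, hj, e⟩ := htot i hi
    rw [reflWordF_eq J H.nS hl (hsimp i hi)] at e
    exact ⟨j, hj, e⟩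

theorem conj_neg_le_pos (hD : D ∈ [chevG2, chevB2, chevD4, chevF4, chevE6, chevE7, chevE8])
    {n : GL D.Idx F} {σ : ℕ → ℕ} (hσ : RootPerm D F (n : Matrix D.Idx D.Idx F) σ)
    (hpos : ∀ r, r < D.nroots / 2 → D.nroots / 2 ≤ σ r) :
    (D.negUnipotent F).map (MulAut.conj n).toMonoidHom ≤ D.posUnipotent F := by
  have P := posP_of_mem hD
  unfold ChevalleyDatum.negUnipotent
  rw [MonoidHom.map_closure, Subgroup.closure_le]
  rintro _ ⟨g, ⟨r, t, hr, hg⟩, rfl⟩
  obtain ⟨ε, he⟩ := rootPerm_conj hσ hr.1 t g hg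
  have hneg := (P r hr.1).2.mp hr
  have hlt := (hσ r hr.1).1
  have hp := (P _ hlt).1.mpr (hpos r hneg)
  exact Subgroup.subset_closure ⟨σ r, ε * t, hp, he⟩

/-- conjugation by an element acting on the roots maps root subgroups to root subgroups -/
theorem rootSub_conj (hD : D ∈ [chevG2, chevB2, chevD4, chevF4, chevE6, chevE7, chevE8])
    {n : GL D.Idx F} {σ : ℕ → ℕ} (hσ : RootPerm D F (n : Matrix D.Idx D.Idx F) σ)
    {s : ℕ} (hs : s < D.nroots) {g : GL D.Idx F} (hg : g ∈ D.rootSubgroup F s) :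
    n * g * n⁻¹ ∈ D.rootSubgroup F (σ s) := by
  have V := valid0_of_mem hD
  have V1 := valid1_of_mem hD
  obtain ⟨t, hgt⟩ := rootSubgroup_form V V1 hs hg
  obtain ⟨ε, he⟩ := rootPerm_conj hσ hs t g hgt
  exact x_mem_rootSubgroup _ _ he

theorem pos_simple_perm [Finite F]
    (hD : D ∈ [chevG2, chevB2, chevD4, chevF4, chevE6, chevE7, chevE8])
    {θ : MulAut ↥(D.group F)} (hU : Pres θ (D.posUnipotent F)) (hV : Pres θ (D.negUnipotent F))
    {j : ℕ} (hj : j < D.rank) :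
    ∃ j' < D.rank, MapsTo θ (D.rootSubgroup F (D.simple j)) (D.rootSubgroup F (D.simple j')) := by
  have V := valid0_of_mem hD
  have V1 := valid1_of_mem hD
  have J := validJ_of_mem hD
  obtain ⟨n₀, hn₀, σ, τ, hσ, hτ, s1, s2, t1, t2, hτσ, hsur, htot⟩ := w0_data (F := F) hD
  have hn₀G := monomial_le_group V V1 hn₀
  set c : ↥(D.group F) := ⟨n₀, hn₀G⟩ with hc
  obtain ⟨ψ, hψ⟩ : ∃ ψ : MulAut ↥(D.group F), ψ = MulAut.conj c⁻¹ * θ * MulAut.conj c := ⟨_, rfl⟩
  have hψapp : ∀ g : ↥(D.group F), ((ψ g : ↥(D.group F)) : GL D.Idx F) =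
      n₀⁻¹ * ((θ (c * g * c⁻¹) : ↥(D.group F)) : GL D.Idx F) * n₀⁻¹⁻¹ := by
    intro g
    rw [hψ, MulAut.mul_apply, MulAut.mul_apply, MulAut.conj_apply, MulAut.conj_apply]
    rfl
  have hψU : Pres ψ (D.posUnipotent F) := by
    intro g hg
    rw [hψapp]
    apply conj_neg_le_pos hD hτ t2
    refine ⟨_, hV _ ?_, rfl⟩
    exact conj_pos_le_neg hD hσ s1 ⟨_, hg, rfl⟩
  have hψV : Pres ψ (D.negUnipotent F) := by
    intro g hg
    rw [hψapp]
    apply conj_pos_le_neg hD hτ t1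
    refine ⟨_, hU _ ?_, rfl⟩
    exact conj_neg_le_pos hD hσ s2 ⟨_, hg, rfl⟩
  obtain ⟨i, hi, hij⟩ := hsur j hj
  obtain ⟨i', hi', hmaps⟩ := neg_simple_perm hD hψU hψV hi
  obtain ⟨j', hj', hij'⟩ := htot i' hi'
  refine ⟨j', hj', ?_⟩
  intro g hg
  have hp := (J.S j hj).1
  have hnpi := V.neg_lt (J.S i hi).1
  have hnpi' := V.neg_lt (J.S i' hi').1
  -- `g' = n₀⁻¹ g n₀` lies in `X_{-p_i}`
  have hg' : n₀⁻¹ * (g : GL D.Idx F) * n₀⁻¹⁻¹ ∈ D.rootSubgroup F (D.neg (D.simple i)) := by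
    have := rootSub_conj hD hτ hp hg
    rwa [← hij, hτσ _ hnpi] at this
  have h3 := hmaps (c⁻¹ * g * c⁻¹⁻¹) hg'
  rw [hψapp] at h3
  have e1 : c * (c⁻¹ * g * c⁻¹⁻¹) * c⁻¹ = g := by group
  rw [e1] at h3
  have h4 := rootSub_conj hD hσ hnpi' h3
  rw [hij'] at h4
  have e2 : n₀ * (n₀⁻¹ * ((θ g : ↥(D.group F)) : GL D.Idx F) * n₀⁻¹⁻¹) * n₀⁻¹ =
      ((θ g : ↥(D.group F)) : GL D.Idx F) := by group
  rwa [e2] at h4

end

end Cfsg.Agent.Lib.Helper8.Chev
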