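import Cfsg.Agent.Lib.Helper8.ChevAu8

set_option autoImplicit false

/-! An automorphism preserving `U` and `V` permutes the fundamental root subgroups and their
negatives in the same way. -/

namespace Cfsg.Agent.Lib.Helper8.Chev

open Cfsg.Lie Matrix Cfsg.Agent.Lib.Helper3

/-- the fundamental root `p_a` and the negative of another one have no commutator terms -/
noncomputable def checkSN (D : ChevalleyDatum) : Bool :=
  forallLtF (fun a => forallLtF (fun b =>
    Nat.beq a b || (D.commTerms (D.simple a) (D.neg (D.simple b))).isEmpty) D.rank) D.rank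

theorem checkSN_G2 : checkSN chevG2 = true := by decide +kernel
theorem checkSN_B2 : checkSN chevB2 = true := by decide +kernel
theorem checkSN_D4 : checkSN chevD4 = true := by decide +kernel
theorem checkSN_F4 : checkSN chevF4 = true := by decide +kernel
theorem checkSN_E6 : checkSN chevE6 = true := by decide +kernel
theorem checkSN_E7 : checkSN chevE7 = true := by decide +kernel
set_option maxRecDepth 100000 in
theorem checkSN_E8 : checkSN chevE8 = true := by decide +kernel

theorem checkSN_of_mem {D : ChevalleyDatum}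
    (hD : D ∈ [chevG2, chevB2, chevD4, chevF4, chevE6, chevE7, chevE8]) :
    checkSN D = true := by
  simp only [List.mem_cons, List.not_mem_nil, or_false] at hD
  rcases hD with rfl | rfl | rfl | rfl | rfl | rfl | rfl
  · exact checkSN_G2
  · exact checkSN_B2
  · exact checkSN_D4
  · exact checkSN_F4
  · exact checkSN_E6
  · exact checkSN_E7
  · exact checkSN_E8

section

variable {D : ChevalleyDatum} {F : Type*} [Field F]

/-- the root element `x_r(t)` as an element of the group -/
noncomputable def xEl (hD : D ∈ [chevG2, chevB2, chevD4, chevF4, chevE6, chevE7, chevE8])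
    (r : ℕ) (t : F) : ↥(D.group F) :=
  if hr : r < D.nroots then
    ⟨⟨xN D F r t, xN D F r (-t),
      xN_mul_neg (valid0_of_mem hD) (valid1_of_mem hD) hr t,
      xN_neg_mul (valid0_of_mem hD) (valid1_of_mem hD) hr t⟩,
      x_mem_group hr t _ (x_eq_xN D F r t).symm⟩
  else 1

theorem coe_xEl (hD : D ∈ [chevG2, chevB2, chevD4, chevF4, chevE6, chevE7, chevE8])
    {r : ℕ} (hr : r < D.nroots) (t : F) :
    (((xEl hD r t : ↥(D.group F)) : GL D.Idx F) : Matrix D.Idx D.Idx F) = D.x F r t := by
  unfold xEl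
  rw [dif_pos hr]
  exact (x_eq_xN D F r t).symm

theorem xEl_mem_rootSubgroup (hD : D ∈ [chevG2, chevB2, chevD4, chevF4, chevE6, chevE7, chevE8])
    {r : ℕ} (hr : r < D.nroots) (t : F) :
    ((xEl hD r t : ↥(D.group F)) : GL D.Idx F) ∈ D.rootSubgroup F r :=
  x_mem_rootSubgroup t _ (coe_xEl hD hr t)

theorem xEl_add (hD : D ∈ [chevG2, chevB2, chevD4, chevF4, chevE6, chevE7, chevE8])
    {r : ℕ} (hr : r < D.nroots) (t u : F) :
    (xEl hD r (t + u) : ↥(D.group F)) = xEl hD r t * xEl hD r u := by
  have V := valid0_of_mem hD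
  have V1 := valid1_of_mem hD
  apply Subtype.ext
  apply Units.ext
  rw [Subgroup.coe_mul, Units.val_mul, coe_xEl hD hr, coe_xEl hD hr, coe_xEl hD hr, x_eq_xN,
    x_eq_xN, x_eq_xN, xN_mul_xN F V V1 hr]

theorem xEl_inj (hD : D ∈ [chevG2, chevB2, chevD4, chevF4, chevE6, chevE7, chevE8])
    {r : ℕ} (hr : r < D.nroots) {t u : F} (h : (xEl hD r t : ↥(D.group F)) = xEl hD r u) :
    t = u := by
  apply x_param_inj hD hr
  rw [← coe_xEl hD hr, ← coe_xEl hD hr, h]

/-- an element of the group lying in a root subgroup is a root element -/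
theorem eq_xEl_of_mem (hD : D ∈ [chevG2, chevB2, chevD4, chevF4, chevE6, chevE7, chevE8])
    {r : ℕ} (hr : r < D.nroots) {g : ↥(D.group F)}
    (hg : (g : GL D.Idx F) ∈ D.rootSubgroup F r) : ∃ t : F, g = xEl hD r t := by
  have V := valid0_of_mem hD
  have V1 := valid1_of_mem hD
  obtain ⟨t, ht⟩ := rootSubgroup_form V V1 hr hg
  refine ⟨t, ?_⟩
  apply Subtype.ext
  apply Units.ext
  rw [ht, coe_xEl hD hr]

/-- a fundamental root element commutes with the negative of another one -/
theorem comm_simple_neg (hD : D ∈ [chevG2, chevB2, chevD4, chevF4, chevE6, chevE7, chevE8])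
    {a b : ℕ} (ha : a < D.rank) (hb : b < D.rank) (hab : a ≠ b) (t u : F) :
    (xEl hD (D.neg (D.simple b)) u : ↥(D.group F)) * xEl hD (D.simple a) t =
      xEl hD (D.simple a) t * xEl hD (D.neg (D.simple b)) u := by
  have V := valid0_of_mem hD
  have J := validJ_of_mem hD
  have P := posP_of_mem hD
  have hpa := (J.S a ha).1
  have hpb := (J.S b hb).1
  have hnb := V.neg_lt hpb
  have hc := checkSN_of_mem hD
  simp only [checkSN, forallLtF_eq_true, Bool.or_eq_true, Nat.beq_eq, List.isEmpty_iff] at hc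
  have hnil : D.commTerms (D.simple a) (D.neg (D.simple b)) = [] := by
    rcases hc a ha b hb with h | h
    · exact absurd h hab
    · exact h
  have hposa := (P _ hpa).1.mp (isPosRoot_simple hD ha)
  have hposb := (P _ hpb).1.mp (isPosRoot_simple hD hb)
  have hnegb := (P _ hnb).2.mp (isNegRoot_neg_simple hD hb)
  have h1 : D.neg (D.simple b) ≠ D.simple a := by omega
  have h2 : D.neg (D.simple b) ≠ D.neg (D.simple a) := by
    intro h
    rw [V.neg_eq _ hpa, V.neg_eq _ hpb] at h
    have : D.simple a = D.simple b := by omega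
    exact hab (simple_inj J ha hb this)
  have := comm_formula hD hpa hnb h1 h2 t u
  unfold ChevalleyDatum.commWord at this
  rw [hnil] at this
  simp only [List.map_nil, ChevalleyDatum.wordMat, List.prod_nil, mul_one] at this
  apply Subtype.ext
  apply Units.ext
  rw [Subgroup.coe_mul, Subgroup.coe_mul, Units.val_mul, Units.val_mul, coe_xEl hD hpa,
    coe_xEl hD hnb]
  exact this

/-- `n_i` as an element of the group -/
noncomputable def nEl (hD : D ∈ [chevG2, chevB2, chevD4, chevF4, chevE6, chevE7, chevE8])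
    (F : Type*) [Field F] (i : ℕ) : ↥(D.group F) :=
  if hi : i < D.rank then ⟨nG D F i, nG_mem_group hD hi⟩ else 1

theorem coe_nEl (hD : D ∈ [chevG2, chevB2, chevD4, chevF4, chevE6, chevE7, chevE8])
    {i : ℕ} (hi : i < D.rank) : ((nEl hD F i : ↥(D.group F)) : GL D.Idx F) = nG D F i := by
  unfold nEl
  rw [dif_pos hi]

theorem nEl_eq (hD : D ∈ [chevG2, chevB2, chevD4, chevF4, chevE6, chevE7, chevE8])
    {i : ℕ} (hi : i < D.rank) :
    (nEl hD F i : ↥(D.group F)) =
      xEl hD (D.simple i) 1 * xEl hD (D.neg (D.simple i)) (-1) * xEl hD (D.simple i) 1 := by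
  have V := valid0_of_mem hD
  have V1 := valid1_of_mem hD
  have J := validJ_of_mem hD
  have hp := (J.S i hi).1
  have hnp := V.neg_lt hp
  apply Subtype.ext
  apply Units.ext
  rw [coe_nEl hD hi, coe_nG J V1 hi, Subgroup.coe_mul, Subgroup.coe_mul, Units.val_mul,
    Units.val_mul, coe_xEl hD hp, coe_xEl hD hnp]
  unfold ChevalleyDatum.nMat ChevalleyDatum.wordMat ChevalleyDatum.nWord
  simp only [List.map_cons, List.map_nil, List.prod_cons, List.prod_nil, mul_one, inv_one,
    mul_assoc]

/-- `x_{p_i}(1)` and `x_{-p_i}(-1)` do not commute -/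
theorem not_comm_simple (hD : D ∈ [chevG2, chevB2, chevD4, chevF4, chevE6, chevE7, chevE8])
    {i : ℕ} (hi : i < D.rank) :
    (xEl hD (D.simple i) (1 : F) : ↥(D.group F)) * xEl hD (D.neg (D.simple i)) (-1) ≠
      xEl hD (D.neg (D.simple i)) (-1) * xEl hD (D.simple i) 1 := by
  intro h
  have V := valid0_of_mem hD
  have J := validJ_of_mem hD
  have hp := (J.S i hi).1
  have hnp := V.neg_lt hp
  apply nG_not_mem_borel (F := F) hD hi
  have hn : nG D F i ∈ D.monomialSubgroup F := by
    have := nP_mem_monomial (F := F) hD (l := [i]) (by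
      intro j hj; rw [List.mem_singleton] at hj; rw [hj]; exact hi)
    rwa [nP_cons, nP_nil, mul_one] at this
  have e : (nEl hD F i : ↥(D.group F)) =
      xEl hD (D.simple i) (1 + 1) * xEl hD (D.neg (D.simple i)) (-1) := by
    rw [nEl_eq hD hi, mul_assoc, ← h, ← mul_assoc, ← xEl_add hD hp]
  have e' : nG D F i = ((xEl hD (D.simple i) ((1 : F) + 1) : ↥(D.group F)) : GL D.Idx F) *
      ((xEl hD (D.neg (D.simple i)) (-1 : F) : ↥(D.group F)) : GL D.Idx F) := by
    rw [← coe_nEl hD hi, e, Subgroup.coe_mul]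
  refine monomial_borel_neg hD hn ?_ ?_ e'
  · exact pos_le_borel (rootSub_le_pos (isPosRoot_simple hD hi)
      (xEl_mem_rootSubgroup hD hp _))
  · exact rootSubgroup_le_neg (isNegRoot_neg_simple hD hi) (xEl_mem_rootSubgroup hD hnp _)

/-- an automorphism preserving `U` and `V` maps `X_{p_i}` and `X_{-p_i}` to the root subgroups
of the same node -/
theorem simple_match [Finite F]
    (hD : D ∈ [chevG2, chevB2, chevD4, chevF4, chevE6, chevE7, chevE8])
    {θ : MulAut ↥(D.group F)} (hU : Pres θ (D.posUnipotent F)) (hV : Pres θ (D.negUnipotent F))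
    {i : ℕ} (hi : i < D.rank) :
    ∃ j < D.rank, MapsTo θ (D.rootSubgroup F (D.simple i)) (D.rootSubgroup F (D.simple j)) ∧
      MapsTo θ (D.rootSubgroup F (D.neg (D.simple i)))
        (D.rootSubgroup F (D.neg (D.simple j))) := by
  have V := valid0_of_mem hD
  have J := validJ_of_mem hD
  have hp := (J.S i hi).1
  have hnp := V.neg_lt hp
  obtain ⟨a, ha, hma⟩ := pos_simple_perm hD hU hV hi
  obtain ⟨b, hb, hmb⟩ := neg_simple_perm hD hU hV hi
  by_cases hab : a = b
  · subst hab
    exact ⟨a, ha, hma, hmb⟩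
  · exfalso
    obtain ⟨t, ht⟩ := eq_xEl_of_mem hD (J.S a ha).1
      (hma _ (xEl_mem_rootSubgroup hD hp (1 : F)))
    obtain ⟨u, hu⟩ := eq_xEl_of_mem hD (V.neg_lt (J.S b hb).1)
      (hmb _ (xEl_mem_rootSubgroup hD hnp (-1 : F)))
    apply not_comm_simple (F := F) hD hi
    apply θ.injective
    rw [map_mul, map_mul, ht, hu]
    exact (comm_simple_neg hD ha hb hab t u).symm

/-- if `X_{p_i} ≤ X_{p_k}` inside the group then `k = i` -/
theorem simple_eq_of_le (hD : D ∈ [chevG2, chevB2, chevD4, chevF4, chevE6, chevE7, chevE8])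
    {i k : ℕ} (hi : i < D.rank) (hk : k < D.rank)
    (h : ((xEl hD (D.simple i) (1 : F) : ↥(D.group F)) : GL D.Idx F) ∈
      D.rootSubgroup F (D.simple k)) : k = i := by
  have J := validJ_of_mem hD
  by_contra hne
  obtain ⟨t, ht⟩ := eq_xEl_of_mem hD (J.S k hk).1 h
  apply not_comm_simple (F := F) hD hi
  rw [ht]
  exact (comm_simple_neg hD hk hi hne t (-1)).symm

end

end Cfsg.Agent.Lib.Helper8.Chev
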