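import Cfsg.Agent.Lib.Helper8.ChevA
import Cfsg.Agent.Lib.Helper8.ChevFast

set_option autoImplicit false

namespace Cfsg.Agent.Lib.Helper8.Chev

open Cfsg.Lie Matrix

/-! ### Level 0 validity of a datum (boolean check) -/

/-- the row of the chain table of `r`, as a list -/
def row (D : ChevalleyDatum) (r : ℕ) : List (ℕ × Array (ℕ × ℤ)) := (D.chain.getD r #[]).toList

theorem getD_of_toList_getElem? {α : Type*} (arr : Array α) (i : ℕ) (d a : α)
    (h : arr.toList[i]? = some a) : arr.getD i d = a := by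
  rw [Array.getElem?_toList] at h
  simp [Array.getD_eq_getD_getElem?, h]

theorem toList_getElem?_of_lt {α : Type*} (arr : Array α) (i : ℕ) (d : α) (h : i < arr.size) :
    arr.toList[i]? = some (arr.getD i d) := by
  rw [Array.getElem?_toList]
  simp [Array.getD_eq_getD_getElem?, h]

noncomputable def checkRow0 (n r nr : ℕ) (l : List (ℕ × Array (ℕ × ℤ))) : Bool :=
  strictIncrF (mapF Prod.fst l) none &&
  allF (fun e => Nat.blt e.1 n && !(Nat.beq e.1 r) && !(Nat.beq e.1 nr) &&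
    allF (fun q => Nat.blt q.1 n && !(Nat.beq q.1 r) && !(Nat.beq q.1 nr)) e.2.toList) l

noncomputable def check0 (D : ChevalleyDatum) : Bool :=
  Nat.beq D.chain.size D.nroots && Nat.beq D.negIdx.size D.nroots && Nat.beq (D.nroots % 2) 0 &&
  allIdxF (fun r nr => Nat.beq (nr + r + 1) D.nroots) D.negIdx.toList 0 &&
  allIdxF (fun r rowArr => checkRow0 D.nroots r (D.nroots - 1 - r) rowArr.toList) D.chain.toList 0

/-- Level 0 validity. -/
structure Valid0 (D : ChevalleyDatum) : Prop where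
  neg_eq : ∀ r < D.nroots, D.neg r = D.nroots - 1 - r
  even : D.nroots % 2 = 0
  keys_nodup : ∀ r < D.nroots, ((row D r).map Prod.fst).Nodup
  key_lt : ∀ r < D.nroots, ∀ e ∈ row D r, e.1 < D.nroots
  key_ne : ∀ r < D.nroots, ∀ e ∈ row D r, e.1 ≠ r
  key_ne_neg : ∀ r < D.nroots, ∀ e ∈ row D r, e.1 ≠ D.neg r
  tgt_lt : ∀ r < D.nroots, ∀ e ∈ row D r, ∀ q ∈ e.2.toList, q.1 < D.nroots
  tgt_ne : ∀ r < D.nroots, ∀ e ∈ row D r, ∀ q ∈ e.2.toList, q.1 ≠ r
  tgt_ne_neg : ∀ r < D.nroots, ∀ e ∈ row D r, ∀ q ∈ e.2.toList, q.1 ≠ D.neg r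

theorem valid0_of_check {D : ChevalleyDatum} (h : check0 D = true) : Valid0 D := by
  simp only [check0, Bool.and_eq_true, Nat.beq_eq, allIdxF_eq_true, zero_add] at h
  obtain ⟨⟨⟨⟨hcs, hns⟩, hev⟩, hneg⟩, hrow⟩ := h
  have neg_eq : ∀ r < D.nroots, D.neg r = D.nroots - 1 - r := by
    intro r hr
    have h1 := toList_getElem?_of_lt D.negIdx r 0 (by omega)
    have h2 := hneg r _ h1
    show D.negIdx.getD r 0 = _
    omega
  have hrow' : ∀ r < D.nroots, checkRow0 D.nroots r (D.neg r) (row D r) = true := by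
    intro r hr
    have h1 := toList_getElem?_of_lt D.chain r #[] (by omega)
    have h2 := hrow r _ h1
    rw [neg_eq r hr]
    exact h2
  simp only [checkRow0, Bool.and_eq_true, allF_eq_true, Nat.blt_eq, Bool.not_eq_true',
    nat_beq_eq_false] at hrow'
  refine ⟨neg_eq, hev, ?_, ?_, ?_, ?_, ?_, ?_, ?_⟩
  · intro r hr
    have := strictIncrF_nodup (hrow' r hr).1
    rwa [mapF_eq_map] at this
  · intro r hr e he; exact (((hrow' r hr).2 e he).1.1.1)
  · intro r hr e he; exact (((hrow' r hr).2 e he).1.1.2)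
  · intro r hr e he; exact (((hrow' r hr).2 e he).1.2)
  · intro r hr e he q hq; exact ((((hrow' r hr).2 e he).2 q hq).1.1)
  · intro r hr e he q hq; exact ((((hrow' r hr).2 e he).2 q hq).1.2)
  · intro r hr e he q hq; exact ((((hrow' r hr).2 e he).2 q hq).2)

namespace Valid0
variable {D : ChevalleyDatum} (V : Valid0 D)
include V

theorem neg_lt {r : ℕ} (hr : r < D.nroots) : D.neg r < D.nroots := by
  rw [V.neg_eq r hr]; omega

theorem neg_ne {r : ℕ} (hr : r < D.nroots) : D.neg r ≠ r := by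
  rw [V.neg_eq r hr]; have := V.even; omega

theorem neg_neg {r : ℕ} (hr : r < D.nroots) : D.neg (D.neg r) = r := by
  rw [V.neg_eq _ (V.neg_lt hr), V.neg_eq r hr]; omega

end Valid0

end Cfsg.Agent.Lib.Helper8.Chev
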