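import Cfsg.Agent.Lib.Helper8.ChevN4
import Cfsg.Prelude.Def_LieExceptional

set_option autoImplicit false

namespace Cfsg.Agent.Lib.Helper8.Chev

/-! ### Double cosets -/

section

variable {Γ : Type*} [Group Γ]

/-- `x ∈ B n B` -/
def InDC (B : Subgroup Γ) (n x : Γ) : Prop := ∃ b1 ∈ B, ∃ b2 ∈ B, x = b1 * n * b2

theorem InDC.mul_left {B : Subgroup Γ} {n x b : Γ} (hb : b ∈ B) (h : InDC B n x) :
    InDC B n (b * x) := by
  obtain ⟨b1, h1, b2, h2, rfl⟩ := h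
  exact ⟨b * b1, mul_mem hb h1, b2, h2, by group⟩

theorem InDC.mul_right {B : Subgroup Γ} {n x b : Γ} (hb : b ∈ B) (h : InDC B n x) :
    InDC B n (x * b) := by
  obtain ⟨b1, h1, b2, h2, rfl⟩ := h
  exact ⟨b1, h1, b2 * b, mul_mem h2 hb, by group⟩

theorem InDC.of_left {B : Subgroup Γ} {n x b : Γ} (hb : b ∈ B) (h : InDC B n x) :
    InDC B (b * n) x := by
  obtain ⟨b1, h1, b2, h2, rfl⟩ := h
  exact ⟨b1 * b⁻¹, mul_mem h1 (inv_mem hb), b2, h2, by group⟩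

theorem InDC.of_right {B : Subgroup Γ} {n x b : Γ} (hb : b ∈ B) (h : InDC B n x) :
    InDC B (n * b) x := by
  obtain ⟨b1, h1, b2, h2, rfl⟩ := h
  exact ⟨b1, h1, b⁻¹ * b2, mul_mem (inv_mem hb) h2, by group⟩

theorem closure_subgroupOf_eq (G : Subgroup Γ) (S : Set Γ) (hS : S ⊆ (G : Set Γ)) :
    (Subgroup.closure S).subgroupOf G = Subgroup.closure {n : ↥G | (n : Γ) ∈ S} := by
  have himg : G.subtype '' {n : ↥G | (n : Γ) ∈ S} = S := by
    ext x
    constructor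
    · rintro ⟨n, hn, rfl⟩
      exact hn
    · intro hx
      exact ⟨⟨x, hS hx⟩, hx, rfl⟩
  have h1 : (Subgroup.closure {n : ↥G | (n : Γ) ∈ S}).map G.subtype = Subgroup.closure S := by
    rw [MonoidHom.map_closure, himg]
  rw [← h1]
  exact Subgroup.comap_map_eq_self_of_injective G.subtype_injective _

/-- a `(B, N)`-pair in a subgroup from data in the ambient group -/
theorem bnpair_of_ambient (G B N : Subgroup Γ) (S : Set Γ)
    (hBG : B ≤ G) (hNG : N ≤ G) (hsup : B ⊔ N = G)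
    (hconj : ∀ n ∈ N, ∀ t ∈ B ⊓ N, n * t * n⁻¹ ∈ B)
    (hSN : S ⊆ (N : Set Γ)) (hsq : ∀ s ∈ S, s * s ∈ B)
    (hinj : ∀ s ∈ S, ∀ s' ∈ S, s⁻¹ * s' ∈ B → s = s')
    (hgen : Subgroup.closure S ⊔ (B ⊓ N) = N)
    (hmul : ∀ s ∈ S, ∀ n ∈ N, ∀ b ∈ B, InDC B (s * n) (s * b * n) ∨ InDC B n (s * b * n))
    (hne : ∀ s ∈ S, ∃ b ∈ B, s * b * s ∉ B) :
    ∃ P : Cfsg.BNPair ↥G, P.B = B.subgroupOf G ∧ P.N = N.subgroupOf G ∧
      P.S = {n : ↥G | (n : Γ) ∈ S} := by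
  have hSG : S ⊆ (G : Set Γ) := fun x hx => hNG (hSN hx)
  refine ⟨{ B := B.subgroupOf G, N := N.subgroupOf G, S := {n : ↥G | (n : Γ) ∈ S},
            sup_eq_top := ?_, conj_mem := ?_, subset := ?_, sq_mem := ?_, inj := ?_,
            closure_sup := ?_, mul_mem_union := ?_, conj_ne := ?_ }, rfl, rfl, rfl⟩
  · rw [← Subgroup.subgroupOf_sup hBG hNG, hsup, Subgroup.subgroupOf_self]
  · intro n hn t ht
    rw [Subgroup.mem_subgroupOf] at hn ⊢
    rw [Subgroup.mem_inf, Subgroup.mem_subgroupOf, Subgroup.mem_subgroupOf] at ht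
    simpa using hconj _ hn _ ⟨ht.1, ht.2⟩
  · intro s hs
    exact hSN hs
  · intro s hs
    rw [Subgroup.mem_subgroupOf]
    simpa using hsq _ hs
  · intro s hs s' hs' h
    rw [Subgroup.mem_subgroupOf] at h
    apply Subtype.ext
    apply hinj _ hs _ hs'
    simpa using h
  · rw [← closure_subgroupOf_eq G S hSG]
    have h1 : (B.subgroupOf G ⊓ N.subgroupOf G) = (B ⊓ N).subgroupOf G := rfl
    rw [h1, ← Subgroup.subgroupOf_sup ((Subgroup.closure_le G).mpr hSG)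
      (le_trans inf_le_left hBG), hgen]
  · intro s hs n hn b hb
    rw [Subgroup.mem_subgroupOf] at hn hb
    rcases hmul _ hs _ hn _ hb with h | h
    · left
      obtain ⟨b1, h1, b2, h2, e⟩ := h
      rw [DoubleCoset.mem_doubleCoset]
      refine ⟨⟨b1, hBG h1⟩, h1, ⟨b2, hBG h2⟩, h2, ?_⟩
      apply Subtype.ext
      simpa using e
    · right
      obtain ⟨b1, h1, b2, h2, e⟩ := h
      rw [DoubleCoset.mem_doubleCoset]
      refine ⟨⟨b1, hBG h1⟩, h1, ⟨b2, hBG h2⟩, h2, ?_⟩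
      apply Subtype.ext
      simpa using e
  · intro s hs heq
    obtain ⟨b, hb, hnot⟩ := hne _ hs
    have hmem : s * ⟨b, hBG hb⟩ * s ∈ (fun x : ↥G => s * x * s) '' (B.subgroupOf G : Set ↥G) :=
      ⟨⟨b, hBG hb⟩, hb, rfl⟩
    rw [heq] at hmem
    apply hnot
    have := Subgroup.mem_subgroupOf.mp hmem
    simpa using this

end

end Cfsg.Agent.Lib.Helper8.Chev
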