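import Cfsg.Agent.Lib.Helper8.ChevBN1

set_option autoImplicit false

namespace Cfsg.Agent.Lib.Helper8.Chev

open Cfsg.Lie Matrix

section

variable {D : ChevalleyDatum} {F : Type*} [Field F]

/-! ### Decompositions -/

theorem rootSubgroup_form (V : Valid0 D) (V1 : Valid1 D) {r : ℕ} (hr : r < D.nroots)
    {g : GL D.Idx F} (hg : g ∈ D.rootSubgroup F r) :
    ∃ t : F, (g : Matrix D.Idx D.Idx F) = D.x F r t := by
  unfold ChevalleyDatum.rootSubgroup at hg
  induction hg using Subgroup.closure_induction'' with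
  | mem g hg => exact hg
  | inv_mem g hg =>
    obtain ⟨t, hg⟩ := hg
    exact ⟨-t, x_inv V V1 hr t g hg⟩
  | one => exact ⟨0, by rw [Units.val_one, x_eq_xN, xN_zero V]⟩
  | mul g g' _ _ hg hg' =>
    obtain ⟨t, hg⟩ := hg
    obtain ⟨t', hg'⟩ := hg'
    exact ⟨t + t', by rw [Units.val_mul, hg, hg', x_eq_xN, x_eq_xN, x_eq_xN, xN_mul_xN F V V1 hr]⟩

theorem x_mem_rootSubgroup {r : ℕ} (t : F) (g : GL D.Idx F)
    (hg : (g : Matrix D.Idx D.Idx F) = D.x F r t) : g ∈ D.rootSubgroup F r :=
  Subgroup.subset_closure ⟨t, hg⟩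

theorem nG_mem_rank1 (J : ValidJ D) (V1 : Valid1 D) {i : ℕ} (hi : i < D.rank) :
    nG D F i ∈ D.rootSubgroup F (D.simple i) ⊔ D.rootSubgroup F (D.neg (D.simple i)) := by
  have V := J.V
  have hp := (J.S i hi).1
  obtain ⟨a1, h1⟩ := exists_unit_x V V1 hp (1 : F)
  obtain ⟨a2, h2⟩ := exists_unit_x V V1 (V.neg_lt hp) (-(1 : F)⁻¹)
  have e : nG D F i = a1 * a2 * a1 := by
    apply Units.ext
    rw [coe_nG J V1 hi, nMat_eq_wN, Units.val_mul, Units.val_mul, h1, h2, x_eq_xN, x_eq_xN]
    simp [ChevalleyDatum.nWord, wN_cons, Matrix.mul_assoc]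
  rw [e]
  exact mul_mem (mul_mem (Subgroup.mem_sup_left (x_mem_rootSubgroup _ a1 h1))
    (Subgroup.mem_sup_right (x_mem_rootSubgroup _ a2 h2)))
    (Subgroup.mem_sup_left (x_mem_rootSubgroup _ a1 h1))

theorem genPar_le_pos {i : ℕ} : Subgroup.closure (genPar D F i) ≤ D.posUnipotent F := by
  unfold ChevalleyDatum.posUnipotent
  apply Subgroup.closure_mono
  rintro g ⟨s, t, hs, _, hg⟩
  exact ⟨s, t, hs, hg⟩

/-- `U = U_i X_{p_i}` -/
theorem pos_decomp (hD : D ∈ [chevG2, chevB2, chevD4, chevF4, chevE6, chevE7, chevE8]) {i : ℕ}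
    (hi : i < D.rank) {u : GL D.Idx F} (hu : u ∈ D.posUnipotent F) :
    ∃ u' ∈ Subgroup.closure (genPar D F i), ∃ (g : GL D.Idx F) (t : F),
      (g : Matrix D.Idx D.Idx F) = D.x F (D.simple i) t ∧ u = u' * g := by
  have V := valid0_of_mem hD
  have V1 := valid1_of_mem hD
  have J := validJ_of_mem hD
  have hp := (J.S i hi).1
  rw [← par_sup hD hi] at hu
  have hset := Subgroup.coe_mul_of_right_le_normalizer_left (Subgroup.closure (genPar D F i))
    (D.rootSubgroup F (D.simple i)) (le_trans le_sup_left (par_normalizer hD hi))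
  have hu' : u ∈ ((Subgroup.closure (genPar D F i) ⊔ D.rootSubgroup F (D.simple i) :
      Subgroup (GL D.Idx F)) : Set (GL D.Idx F)) := hu
  rw [hset, Set.mem_mul] at hu'
  obtain ⟨u', hu', g, hg, rfl⟩ := hu'
  obtain ⟨t, ht⟩ := rootSubgroup_form V V1 hp hg
  exact ⟨u', hu', g, t, ht, rfl⟩

/-- `B = U H` -/
theorem borel_decomp (J : ValidJ D) (V1 : Valid1 D) (H : ValidH D) {b : GL D.Idx F}
    (hb : b ∈ D.borelSubgroup F) :
    ∃ u ∈ D.posUnipotent F, ∃ h ∈ D.diagonalSubgroup F, b = u * h := by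
  have hset := Subgroup.coe_mul_of_right_le_normalizer_left (D.posUnipotent F)
    (D.diagonalSubgroup F) (diagonal_le_normalizer_pos J V1 H)
  have hb' : b ∈ ((D.posUnipotent F ⊔ D.diagonalSubgroup F : Subgroup (GL D.Idx F)) :
      Set (GL D.Idx F)) := hb
  rw [hset, Set.mem_mul] at hb'
  obtain ⟨u, hu, h, hh, rfl⟩ := hb'
  exact ⟨u, hu, h, hh, rfl⟩

theorem simple_inj (J : ValidJ D) {i j : ℕ} (hi : i < D.rank) (hj : j < D.rank)
    (h : D.simple i = D.simple j) : i = j := by
  have h1 := (J.S i hi).2 i hi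
  have h2 := (J.S j hj).2 i hi
  rw [h, h2] at h1
  by_contra hne
  rw [if_neg hne, if_pos rfl] at h1
  exact zero_ne_one h1

theorem nG_sq_mem (J : ValidJ D) (V1 : Valid1 D) (H : ValidH D) {i : ℕ} (hi : i < D.rank) :
    nG D F i * nG D F i ∈ D.diagonalSubgroup F := by
  have hp := (J.S i hi).1
  apply hMat_mem_diagonal hp (neg_ne_zero.mpr one_ne_zero)
  rw [Units.val_mul, coe_nG J V1 hi, nMat_one_sq J V1 H hp]

/-! ### The double coset condition -/

theorem bn_mul_aux (hD : D ∈ [chevG2, chevB2, chevD4, chevF4, chevE6, chevE7, chevE8]) {i : ℕ}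
    (hi : i < D.rank) {l : List ℕ} (hl : ∀ j ∈ l, j < D.rank) (t : F) (g : GL D.Idx F)
    (hg : (g : Matrix D.Idx D.Idx F) = D.x F (D.simple i) t) :
    InDC (D.borelSubgroup F) (nG D F i * nP D F l) (nG D F i * g * nP D F l) ∨
      InDC (D.borelSubgroup F) (nP D F l) (nG D F i * g * nP D F l) := by
  have V := valid0_of_mem hD
  have V1 := valid1_of_mem hD
  have J := validJ_of_mem hD
  have H := validH_of_mem hD
  have P := posP_of_mem hD
  have hI := checkInv_of_mem hD
  have hRP := checkRP_of_mem hD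
  have hp := (J.S i hi).1
  have hppos := (refl_pos J hRP hi).1
  have hlr : ∀ j ∈ l.reverse, j < D.rank := fun j hj => hl j (List.mem_reverse.mp hj)
  have hPm := (rootPermN_nP (F := F) J V1 H.nS l hl).rootPerm
  have hPmi : RootPerm D F (((nP D F l)⁻¹ : GL D.Idx F) : Matrix D.Idx D.Idx F)
      (reflWord D l.reverse) := hPm.inv_unit (fun s hs =>
    ⟨reflWord_lt J H.nS hlr hs, reflWord_reverse_cancel J H.nS hI hl hs⟩)
  have hτlt := reflWord_lt J H.nS hlr hp
  by_cases hc : D.nroots / 2 ≤ reflWord D l.reverse (D.simple i)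
  · left
    obtain ⟨ε, he⟩ := rootPerm_conj hPmi hp t g hg
    have hu : (nP D F l)⁻¹ * g * (nP D F l)⁻¹⁻¹ ∈ D.posUnipotent F :=
      Subgroup.subset_closure ⟨_, ε * t, (P _ hτlt).1.mpr hc, he⟩
    exact ⟨1, one_mem _, _, pos_le_borel hu, by group⟩
  · rw [not_le] at hc
    by_cases ht : t = 0
    · left
      subst ht
      have e : g = 1 := Units.ext (by rw [hg, x_eq_xN, xN_zero V, Units.val_one])
      rw [e]
      exact ⟨1, one_mem _, 1, one_mem _, by group⟩
    · right
      have hPs : RootPerm D F ((nG D F i : GL D.Idx F) : Matrix D.Idx D.Idx F)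
          (D.reflectRoot i) := by
        rw [coe_nG J V1 hi]
        exact (rootPermN_nMat J V1 H.nS hi).rootPerm
      obtain ⟨η, hη⟩ := rootPerm_conj hPs hp t g hg
      rw [reflectRoot_simple] at hη
      have hd : (η : F) * t ≠ 0 := mul_ne_zero (Units.ne_zero η) ht
      set d : F := (η : F) * t with hddef
      have hc0 : -d⁻¹ ≠ 0 := neg_ne_zero.mpr (inv_ne_zero hd)
      obtain ⟨a, ha⟩ := exists_unit_x V V1 hp (- -d⁻¹)
      obtain ⟨k, hk⟩ := exists_unit_wN V V1 (D.hWord (D.simple i) (-d⁻¹)) (hWord_lt V hp _)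
      rw [← hMat_eq_wN] at hk
      have hkH : k ∈ D.diagonalSubgroup F := hMat_mem_diagonal hp hc0 k hk
      have haU : a ∈ D.posUnipotent F :=
        Subgroup.subset_closure ⟨_, _, (P _ hp).1.mpr hppos, ha⟩
      have key : nG D F i * g * (nG D F i)⁻¹ = a * k * nG D F i * a := by
        apply Units.ext
        rw [hη, Units.val_mul, Units.val_mul, Units.val_mul, ha, hk, coe_nG J V1 hi, x_eq_xN,
          x_eq_xN]
        have e1 : D.hMat F (D.simple i) (-d⁻¹) * D.nMat F (D.simple i) 1 =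
            D.nMat F (D.simple i) (-d⁻¹) := (nMat_eq_hMat_mul V V1 hp _).symm
        have e2 : D.nMat F (D.simple i) (-d⁻¹) = xN D F (D.simple i) (-d⁻¹) *
            (xN D F (D.neg (D.simple i)) d * xN D F (D.simple i) (-d⁻¹)) := by
          rw [nMat_eq_wN]
          simp [ChevalleyDatum.nWord, wN_cons, inv_neg]
        calc xN D F (D.neg (D.simple i)) d
            = (xN D F (D.simple i) (- -d⁻¹) * xN D F (D.simple i) (-d⁻¹)) *
                xN D F (D.neg (D.simple i)) d *
                (xN D F (D.simple i) (-d⁻¹) * xN D F (D.simple i) (- -d⁻¹)) := by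
              rw [xN_neg_mul V V1 hp, xN_mul_neg V V1 hp, Matrix.one_mul, Matrix.mul_one]
          _ = xN D F (D.simple i) (- -d⁻¹) * (D.hMat F (D.simple i) (-d⁻¹) *
                D.nMat F (D.simple i) 1) * xN D F (D.simple i) (- -d⁻¹) := by
              rw [e1, e2]
              simp only [Matrix.mul_assoc]
          _ = xN D F (D.simple i) (- -d⁻¹) * D.hMat F (D.simple i) (-d⁻¹) *
                D.nMat F (D.simple i) 1 * xN D F (D.simple i) (- -d⁻¹) := by
              simp only [Matrix.mul_assoc]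
      -- the element `n_i m`
      have hl' : ∀ j ∈ i :: l, j < D.rank := by
        intro j hj
        rw [List.mem_cons] at hj
        rcases hj with rfl | hj
        · exact hi
        · exact hl j hj
      have hlr' : ∀ j ∈ (i :: l).reverse, j < D.rank := fun j hj => hl' j (List.mem_reverse.mp hj)
      have hPm' := (rootPermN_nP (F := F) J V1 H.nS (i :: l) hl').rootPerm
      have hPmi' : RootPerm D F (((nP D F (i :: l))⁻¹ : GL D.Idx F) : Matrix D.Idx D.Idx F)
          (reflWord D (i :: l).reverse) := hPm'.inv_unit (fun s hs =>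
        ⟨reflWord_lt J H.nS hlr' hs, reflWord_reverse_cancel J H.nS hI hl' hs⟩)
      have hτ' : D.nroots / 2 ≤ reflWord D (i :: l).reverse (D.simple i) := by
        rw [List.reverse_cons, reflWord_append]
        have h2 : reflWord D [i] (D.simple i) = D.neg (D.simple i) := reflectRoot_simple i
        rw [h2, reflWord_neg J H.nS hlr hp, V.neg_eq _ hτlt]
        have := V.even
        omega
      obtain ⟨ε', he'⟩ := rootPerm_conj hPmi' hp _ a ha
      have hu3 : (nP D F (i :: l))⁻¹ * a * (nP D F (i :: l))⁻¹⁻¹ ∈ D.posUnipotent F :=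
        Subgroup.subset_closure ⟨_, _, (P _ (reflWord_lt J H.nS hlr' hp)).1.mpr hτ', he'⟩
      rw [nP_cons] at hu3
      refine ⟨a * k * (nG D F i * nG D F i), ?_, _, pos_le_borel hu3, ?_⟩
      · exact mul_mem (mul_mem (pos_le_borel haU) (diagonal_le_borel hkH))
          (diagonal_le_borel (nG_sq_mem J V1 H hi))
      · calc nG D F i * g * nP D F l
            = (nG D F i * g * (nG D F i)⁻¹) * (nG D F i * nP D F l) := by group
          _ = a * k * nG D F i * a * (nG D F i * nP D F l) := by rw [key]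
          _ = a * k * (nG D F i * nG D F i) * nP D F l *
                ((nG D F i * nP D F l)⁻¹ * a * (nG D F i * nP D F l)⁻¹⁻¹) := by group

end

end Cfsg.Agent.Lib.Helper8.Chev
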