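import Cfsg.Agent.Lib.Helper8.ChevBN2

set_option autoImplicit false

namespace Cfsg.Agent.Lib.Helper8.Chev

open Cfsg.Lie Matrix

section

variable {D : ChevalleyDatum} {F : Type*} [Field F]

theorem nG_normalizes_par (hD : D ∈ [chevG2, chevB2, chevD4, chevF4, chevE6, chevE7, chevE8])
    {i : ℕ} (hi : i < D.rank) :
    nG D F i ∈ Subgroup.normalizer (Subgroup.closure (genPar D F i) : Set (GL D.Idx F)) :=
  par_normalizer hD hi (nG_mem_rank1 (validJ_of_mem hD) (valid1_of_mem hD) hi)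

/-- `(B n_i B)(B n B) ⊆ B n_i n B ∪ B n B` -/
theorem bn_mul (hD : D ∈ [chevG2, chevB2, chevD4, chevF4, chevE6, chevE7, chevE8]) {i : ℕ}
    (hi : i < D.rank) {n : GL D.Idx F} (hn : n ∈ D.monomialSubgroup F) {b : GL D.Idx F}
    (hb : b ∈ D.borelSubgroup F) :
    InDC (D.borelSubgroup F) (nG D F i * n) (nG D F i * b * n) ∨
      InDC (D.borelSubgroup F) n (nG D F i * b * n) := by
  have V := valid0_of_mem hD
  have V1 := valid1_of_mem hD
  have J := validJ_of_mem hD
  have H := validH_of_mem hD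
  have hI := checkInv_of_mem hD
  have hp := (J.S i hi).1
  obtain ⟨u, hu, h, hh, rfl⟩ := borel_decomp J V1 H hb
  obtain ⟨u', hu', g, t, hg, rfl⟩ := pos_decomp hD hi hu
  obtain ⟨h0, hh0, l, hl, rfl⟩ := monomial_form hD hn
  have hh1 : h * h0 ∈ D.diagonalSubgroup F := mul_mem hh hh0
  obtain ⟨c, hc⟩ := torus_conj_x V (torusLike_of_mem J V1 H (inv_mem hh1)) hp
  have hg' := hc t g hg
  have hsn := nG_mem_normalizer (F := F) J V1 H hI hi
  have hb1 : nG D F i * u' * (nG D F i)⁻¹ ∈ D.borelSubgroup F :=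
    pos_le_borel (genPar_le_pos
      ((Subgroup.mem_normalizer_iff.mp (nG_normalizes_par hD hi) u').mp hu'))
  have hb2 : nG D F i * (h * h0) * (nG D F i)⁻¹ ∈ D.borelSubgroup F :=
    diagonal_le_borel ((Subgroup.mem_normalizer_iff.mp hsn _).mp hh1)
  have hb3 : nG D F i * h0 * (nG D F i)⁻¹ ∈ D.borelSubgroup F :=
    diagonal_le_borel ((Subgroup.mem_normalizer_iff.mp hsn _).mp hh0)
  have e : nG D F i * (u' * g * h) * (h0 * nP D F l) =
      (nG D F i * u' * (nG D F i)⁻¹ * (nG D F i * (h * h0) * (nG D F i)⁻¹)) *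
        (nG D F i * ((h * h0)⁻¹ * g * (h * h0)⁻¹⁻¹) * nP D F l) := by group
  rw [e]
  rcases bn_mul_aux hD hi hl (c * t) _ hg' with h1 | h1
  · left
    have h2 := (h1.of_left hb3).mul_left (mul_mem hb1 hb2)
    have e2 : nG D F i * h0 * (nG D F i)⁻¹ * (nG D F i * nP D F l) =
        nG D F i * (h0 * nP D F l) := by group
    rwa [e2] at h2
  · right
    exact (h1.of_left (diagonal_le_borel hh0)).mul_left (mul_mem hb1 hb2)

/-- distinct fundamental reflections are distinct modulo `B` -/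
theorem bn_inj (hD : D ∈ [chevG2, chevB2, chevD4, chevF4, chevE6, chevE7, chevE8]) {i j : ℕ}
    (hi : i < D.rank) (hj : j < D.rank) (h : (nG D F i)⁻¹ * nG D F j ∈ D.borelSubgroup F) :
    i = j := by
  have V := valid0_of_mem hD
  have V1 := valid1_of_mem hD
  have J := validJ_of_mem hD
  have H := validH_of_mem hD
  have C := copP_of_mem hD
  have hRP := checkRP_of_mem hD
  have hpj := (J.S j hj).1
  have hN : (nG D F i)⁻¹ * nG D F j ∈ D.monomialSubgroup F := by
    rw [monomial_eq hD]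
    exact Subgroup.mem_sup_right (mul_mem (inv_mem (nG_mem_N0 hi)) (nG_mem_N0 hj))
  have hH : (nG D F i)⁻¹ * nG D F j ∈ D.diagonalSubgroup F := by
    rw [← borel_inf_monomial hD]
    exact ⟨h, hN⟩
  have hP1 : RootPerm D F ((nG D F j : GL D.Idx F) : Matrix D.Idx D.Idx F) (D.reflectRoot j) := by
    rw [coe_nG J V1 hj]
    exact (rootPermN_nMat J V1 H.nS hj).rootPerm
  have hP2 : RootPerm D F ((nG D F i : GL D.Idx F) : Matrix D.Idx D.Idx F) (D.reflectRoot i) := by
    rw [coe_nG J V1 hi]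
    exact (rootPermN_nMat J V1 H.nS hi).rootPerm
  have hP3 := hP2.mul (rootPerm_torus V (torusLike_of_mem J V1 H hH))
  have e : nG D F i * ((nG D F i)⁻¹ * nG D F j) = nG D F j := by group
  rw [← Units.val_mul, e] at hP3
  have hinv : ((nG D F j : GL D.Idx F) : Matrix D.Idx D.Idx F) *
      (((nG D F j)⁻¹ : GL D.Idx F) : Matrix D.Idx D.Idx F) = 1 := by
    rw [← Units.val_mul, mul_inv_cancel, Units.val_one]
  have hu := rootPerm_unique V C hinv hP1 hP3 hpj
  rw [reflectRoot_simple] at hu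
  by_contra hne
  have hne' : D.simple j ≠ D.simple i := fun h' => hne (simple_inj J hi hj h'.symm)
  have h1 := (refl_pos J hRP hi).2 _ hpj (refl_pos J hRP hj).1 hne'
  have h2 : D.reflectRoot i (D.simple j) = D.neg (D.simple j) := hu.symm
  rw [h2, V.neg_eq _ hpj] at h1
  have := V.even
  have := (refl_pos J hRP hj).1
  omega

/-- `n_i B n_i ≠ B` -/
theorem bn_ne (hD : D ∈ [chevG2, chevB2, chevD4, chevF4, chevE6, chevE7, chevE8]) {i : ℕ}
    (hi : i < D.rank) : ∃ b ∈ D.borelSubgroup F, nG D F i * b * nG D F i ∉ D.borelSubgroup F := by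
  have V := valid0_of_mem hD
  have V1 := valid1_of_mem hD
  have J := validJ_of_mem hD
  have H := validH_of_mem hD
  have C := copP_of_mem hD
  have P := posP_of_mem hD
  have Tr := triP_of_mem hD
  have hRP := checkRP_of_mem hD
  have hp := (J.S i hi).1
  have hppos := (refl_pos J hRP hi).1
  obtain ⟨a, ha⟩ := exists_unit_x V V1 hp (1 : F)
  have haU : a ∈ D.posUnipotent F := Subgroup.subset_closure ⟨_, _, (P _ hp).1.mpr hppos, ha⟩
  refine ⟨a, pos_le_borel haU, fun hmem => ?_⟩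
  have hPs : RootPerm D F ((nG D F i : GL D.Idx F) : Matrix D.Idx D.Idx F) (D.reflectRoot i) := by
    rw [coe_nG J V1 hi]
    exact (rootPermN_nMat J V1 H.nS hi).rootPerm
  obtain ⟨η, hη⟩ := rootPerm_conj hPs hp 1 a ha
  rw [reflectRoot_simple] at hη
  have hnp := V.neg_lt hp
  have hnneg : D.neg (D.simple i) < D.nroots / 2 := by
    rw [V.neg_eq _ hp]
    have := V.even
    omega
  have hB : nG D F i * a * (nG D F i)⁻¹ ∈ D.borelSubgroup F := by
    have e : nG D F i * a * (nG D F i)⁻¹ =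
        (nG D F i * a * nG D F i) * (nG D F i * nG D F i)⁻¹ := by group
    rw [e]
    exact mul_mem hmem (inv_mem (diagonal_le_borel (nG_sq_mem J V1 H hi)))
  have hV : nG D F i * a * (nG D F i)⁻¹ ∈ D.negUnipotent F :=
    Subgroup.subset_closure ⟨_, _, (P _ hnp).2.mpr hnneg, hη⟩
  have hmem' : nG D F i * a * (nG D F i)⁻¹ ∈ D.borelSubgroup F ⊓ D.negUnipotent F := ⟨hB, hV⟩
  rw [borel_inf_neg J V1 H Tr P, Subgroup.mem_bot] at hmem'
  rw [hmem', Units.val_one, x_eq_xN] at hη
  have h0 := xN_eq_one V C hnp hη.symm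
  rw [mul_one] at h0
  exact Units.ne_zero η h0

/-- `B ⊔ N = G` -/
theorem borel_sup_monomial (hD : D ∈ [chevG2, chevB2, chevD4, chevF4, chevE6, chevE7, chevE8]) :
    D.borelSubgroup F ⊔ D.monomialSubgroup F = D.group F := by
  have V := valid0_of_mem hD
  have V1 := valid1_of_mem hD
  have P := posP_of_mem hD
  refine le_antisymm (sup_le (borel_le_group V V1) (monomial_le_group V V1)) ?_
  obtain ⟨n, hn, σ, τ, hσ, hτ, h1, h2⟩ := exists_w0 (F := F) hD
  have hUB : D.posUnipotent F ≤ D.borelSubgroup F ⊔ D.monomialSubgroup F :=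
    le_trans pos_le_borel le_sup_left
  have hN : n ∈ D.borelSubgroup F ⊔ D.monomialSubgroup F := Subgroup.mem_sup_right hn
  unfold ChevalleyDatum.group
  rw [Subgroup.closure_le]
  rintro g ⟨r, t, hg⟩
  have hx : (g : Matrix D.Idx D.Idx F) = D.x F r.val t := by
    rw [hg]; unfold ChevalleyDatum.x; rw [dif_pos r.isLt]
  by_cases hr : D.nroots / 2 ≤ r.val
  · have hpos := (P r.val r.isLt).1.mpr hr
    exact hUB (Subgroup.subset_closure ⟨r.val, t, hpos, hx⟩)
  · rw [not_le] at hr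
    obtain ⟨ε, he⟩ := rootPerm_conj hτ r.isLt t g hx
    have hlt := (hτ r.val r.isLt).1
    have hpos := (P _ hlt).1.mpr (h2 r.val hr)
    have hu : n⁻¹ * g * n⁻¹⁻¹ ∈ D.posUnipotent F :=
      Subgroup.subset_closure ⟨τ r.val, ε * t, hpos, he⟩
    have e : g = n * (n⁻¹ * g * n⁻¹⁻¹) * n⁻¹ := by group
    rw [SetLike.mem_coe, e]
    exact mul_mem (mul_mem hN (hUB hu)) (inv_mem hN)

/-- the `(B, N)`-pair of a Chevalley group -/
theorem chev_bnpair (hD : D ∈ [chevG2, chevB2, chevD4, chevF4, chevE6, chevE7, chevE8]) :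
    ∃ P : Cfsg.BNPair ↥(D.group F),
      P.B = (D.borelSubgroup F).subgroupOf (D.group F) ∧
      P.N = (D.monomialSubgroup F).subgroupOf (D.group F) ∧
      P.S = {n : ↥(D.group F) | ∃ i < D.rank,
        ((n : GL D.Idx F) : Matrix D.Idx D.Idx F) = D.nMat F (D.simple i) 1} := by
  have V := valid0_of_mem hD
  have V1 := valid1_of_mem hD
  have J := validJ_of_mem hD
  have H := validH_of_mem hD
  have hS : ∀ s : GL D.Idx F, (∃ i < D.rank,
      (s : Matrix D.Idx D.Idx F) = D.nMat F (D.simple i) 1) → ∃ i < D.rank, s = nG D F i := by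
    rintro s ⟨i, hi, hs⟩
    exact ⟨i, hi, Units.ext (by rw [hs, coe_nG J V1 hi])⟩
  apply bnpair_of_ambient (D.group F) (D.borelSubgroup F) (D.monomialSubgroup F)
    {s : GL D.Idx F | ∃ i < D.rank, (s : Matrix D.Idx D.Idx F) = D.nMat F (D.simple i) 1}
    (borel_le_group V V1) (monomial_le_group V V1) (borel_sup_monomial hD)
  · intro n hn t ht
    rw [borel_inf_monomial hD] at ht
    exact diagonal_le_borel
      ((Subgroup.mem_normalizer_iff.mp (monomial_le_normalizer hD hn) t).mp ht)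
  · intro s hs
    obtain ⟨i, hi, rfl⟩ := hS s hs
    exact nP_mem_monomial hD (l := [i]) (by simpa using hi) |> fun h => by
      simpa [nP_cons, nP_nil] using h
  · intro s hs
    obtain ⟨i, hi, rfl⟩ := hS s hs
    exact diagonal_le_borel (nG_sq_mem J V1 H hi)
  · intro s hs s' hs' h
    obtain ⟨i, hi, rfl⟩ := hS s hs
    obtain ⟨j, hj, rfl⟩ := hS s' hs'
    rw [bn_inj hD hi hj h]
  · rw [borel_inf_monomial hD, monomial_eq hD, sup_comm]
    congr 1
    unfold N0
    congr 1
    ext s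
    constructor
    · intro hs
      exact hS s hs
    · rintro ⟨i, hi, rfl⟩
      exact ⟨i, hi, coe_nG J V1 hi⟩
  · intro s hs n hn b hb
    obtain ⟨i, hi, rfl⟩ := hS s hs
    exact bn_mul hD hi hn hb
  · intro s hs
    obtain ⟨i, hi, rfl⟩ := hS s hs
    exact bn_ne hD hi

end

end Cfsg.Agent.Lib.Helper8.Chev
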