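import Cfsg.Agent.Lib.Helper8.ChevH5
import Cfsg.Agent.Lib.Helper8.ChevU3

set_option autoImplicit false

namespace Cfsg.Agent.Lib.Helper8.Chev

open Cfsg.Lie Matrix

/-! ### Strictly upper triangular matrices and the subgroup `V` -/

section Up

variable (D : ChevalleyDatum) (R : Type*) [CommRing R]

/-- matrices all of whose non-zero entries lie at least `k` steps above the diagonal -/
def UpK (k : ℕ) : Set (Matrix D.Idx D.Idx R) := {M | ∀ i j, M i j ≠ 0 → ord D i + k ≤ ord D j}

variable {D R}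

theorem zero_mem_UpK (k : ℕ) : (0 : Matrix D.Idx D.Idx R) ∈ UpK D R k := by
  intro i j h; simp at h

theorem UpK_mono {a b : ℕ} (hab : a ≤ b) {M : Matrix D.Idx D.Idx R} (h : M ∈ UpK D R b) :
    M ∈ UpK D R a := by
  intro i j hij; have := h i j hij; omega

theorem UpK_add {k : ℕ} {M N : Matrix D.Idx D.Idx R} (hM : M ∈ UpK D R k) (hN : N ∈ UpK D R k) :
    M + N ∈ UpK D R k := by
  intro i j hij
  by_cases h1 : M i j = 0
  · apply hN i j; intro h2; apply hij; simp [h1, h2]
  · exact hM i j h1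

theorem UpK_mul {a b : ℕ} {M N : Matrix D.Idx D.Idx R} (hM : M ∈ UpK D R a) (hN : N ∈ UpK D R b) :
    M * N ∈ UpK D R (a + b) := by
  intro i j hij
  rw [Matrix.mul_apply] at hij
  obtain ⟨k, _, hk⟩ := Finset.exists_ne_zero_of_sum_ne_zero hij
  have h1 := hM i k (left_ne_zero_of_mul hk)
  have h2 := hN k j (right_ne_zero_of_mul hk)
  omega

theorem mem_UpK_of_cols {k : ℕ} {M : Matrix D.Idx D.Idx R}
    (h : ∀ j i, (M *ᵥ Pi.single j 1) i ≠ 0 → ord D i + k ≤ ord D j) : M ∈ UpK D R k := by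
  intro i j hij
  apply h j i
  rw [Matrix.mulVec_single_one]
  exact hij

/-- for a negative root `r` the matrix `x_r(t) - 1` is strictly upper triangular -/
theorem xN_sub_one_mem_neg (V : Valid0 D) (Tr : TriP D) {r : ℕ} (hr : r < D.nroots)
    (hneg : r < D.nroots / 2) (t : R) : xN D R r t - 1 ∈ UpK D R 1 := by
  have heven := V.even
  apply mem_UpK_of_cols
  intro j i hne
  rw [Matrix.sub_mulVec, Matrix.one_mulVec] at hne
  rcases j with j | s
  · rw [← Hb_of_lt R j.isLt, xN_mulVec_Hb R hr t j.isLt] at hne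
    simp only [Pi.sub_apply, sub_sub_cancel_left, Pi.smul_apply,
      smul_eq_mul, ne_eq, neg_eq_zero] at hne
    obtain ⟨_, rfl⟩ := E_ne_zero_imp (right_ne_zero_of_mul hne)
    have := j.isLt
    simp only [ord]
    rw [if_pos (by omega)]
    omega
  · rw [← E_of_lt R s.isLt] at hne
    by_cases h1 : s.val = r
    · rw [h1, xN_mulVec_E_self R hr t] at hne
      simp at hne
    by_cases h2 : s.val = D.neg r
    · rw [h2, xN_mulVec_E_neg V R hr t] at hne
      have hnr : D.neg r = D.nroots - 1 - r := V.neg_eq r hr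
      have hs_ord : ord D (Sum.inr s) = s.val + D.rank := by
        simp only [ord]; rw [if_neg (by omega)]
      rw [hs_ord]
      rcases i with i | u
      · have := i.isLt
        simp only [ord]; omega
      · have hne2 : t ^ 2 * E D R r (Sum.inr u) ≠ 0 := by
          intro h0
          apply hne
          simp [h0]
        obtain ⟨_, hu⟩ := E_ne_zero_imp (right_ne_zero_of_mul hne2)
        rw [hu]
        simp only [ord]
        rw [if_pos (by omega)]
        omega
    · rw [xN_mulVec_E V R hr t s.isLt h1 h2] at hne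
      simp only [add_sub_cancel_left] at hne
      obtain ⟨q, hq, hu, rfl⟩ := chainVec_ne_zero_imp hne
      have hne' : D.chainEntry r s.val ≠ [] := by intro h0; rw [h0] at hq; simp at hq
      obtain ⟨e, he, hes, hL⟩ := chainEntry_mem D hne'
      have := (Tr r hr e he q (by rw [hL]; exact hq)).2 hneg
      rw [hes] at this
      have := ord_inr_lt (D := D) (s := ⟨q.1, hu⟩) (u := s) this
      omega

end Up

section Neg

variable {D : ChevalleyDatum} {F : Type*} [Field F]

theorem negUnipotent_sub_one_mem (V : Valid0 D) (V1 : Valid1 D) (Tr : TriP D) (P : PosP D)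
    {g : GL D.Idx F} (hg : g ∈ D.negUnipotent F) : (g : Matrix D.Idx D.Idx F) - 1 ∈ UpK D F 1 := by
  unfold ChevalleyDatum.negUnipotent at hg
  induction hg using Subgroup.closure_induction'' with
  | mem g hg =>
    obtain ⟨r, t, hr, hg⟩ := hg
    rw [hg, x_eq_xN]
    exact xN_sub_one_mem_neg V Tr hr.1 ((P r hr.1).2.mp hr) t
  | inv_mem g hg =>
    obtain ⟨r, t, hr, hg⟩ := hg
    rw [x_inv V V1 hr.1 t g hg, x_eq_xN]
    exact xN_sub_one_mem_neg V Tr hr.1 ((P r hr.1).2.mp hr) (-t)
  | one => simpa using zero_mem_UpK (D := D) (R := F) 1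
  | mul g g' _ _ hg hg' =>
    have : ((g * g' : GL D.Idx F) : Matrix D.Idx D.Idx F) - 1 =
        ((g : Matrix D.Idx D.Idx F) - 1) * ((g' : Matrix D.Idx D.Idx F) - 1) +
          ((g : Matrix D.Idx D.Idx F) - 1) + ((g' : Matrix D.Idx D.Idx F) - 1) := by
      rw [Units.val_mul]; noncomm_ring
    rw [this]
    exact UpK_add (UpK_add (UpK_mono (by omega) (UpK_mul hg hg')) hg) hg'

end Neg

/-! ### The elements of `H` -/

section Torus

variable {D : ChevalleyDatum}

theorem extC_mul {R : Type*} [CommRing R] (f g : ℕ → R) (c : ℕ) :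
    extC D (fun s => f s * g s) c = extC D f c * extC D g c := by
  unfold extC
  split_ifs <;> simp

theorem isChar_one {R : Type*} [CommRing R] : IsChar D (fun _ => (1 : R)) := by
  intro r _ c e _
  unfold extC
  split_ifs <;> simp

theorem IsChar.mul {R : Type*} [CommRing R] {f g : ℕ → R} (hf : IsChar D f) (hg : IsChar D g) :
    IsChar D (fun s => f s * g s) := by
  intro r hr c e he
  rw [extC_mul, extC_mul, hf r hr c e he, hg r hr c e he, mul_pow]
  ring

variable {F : Type*} [Field F]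

/-- a diagonal matrix given by a character of the root lattice -/
def TorusLike (D : ChevalleyDatum) (F : Type*) [Field F] (M : Matrix D.Idx D.Idx F) : Prop :=
  ∃ f : ℕ → Fˣ, IsChar D (fun s => ((f s : Fˣ) : F)) ∧ M = diagC D (fun s => ((f s : Fˣ) : F))

theorem torusLike_hMat (J : ValidJ D) (V1 : Valid1 D) (H : ValidH D) {r : ℕ} (hr : r < D.nroots)
    {c : F} (hc : c ≠ 0) : TorusLike D F (D.hMat F r c) :=
  ⟨fun s => Units.mk0 c hc ^ aco D r s,
    isChar_of_isWt J.V (isWt_aco J.V J.T H.hsz H.wt r) (Units.mk0 c hc),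
    by rw [hMat_eq r hc, hG_eq J V1 H.hS H.hG hr]⟩

theorem torusLike_one : TorusLike D F 1 :=
  ⟨fun _ => 1, by simpa using isChar_one (D := D) (R := F), by simpa using (diagC_one (D := D) (R := F)).symm⟩

theorem TorusLike.mul {M N : Matrix D.Idx D.Idx F} (hM : TorusLike D F M) (hN : TorusLike D F N) :
    TorusLike D F (M * N) := by
  obtain ⟨f, hf, rfl⟩ := hM
  obtain ⟨g, hg, rfl⟩ := hN
  refine ⟨fun s => f s * g s, ?_, ?_⟩
  · simpa only [Units.val_mul] using hf.mul hg
  · rw [diagC_mul_diagC]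
    simp only [Units.val_mul]

theorem hMat_inv (J : ValidJ D) (V1 : Valid1 D) (H : ValidH D) {r : ℕ} (hr : r < D.nroots)
    {c : F} (hc : c ≠ 0) (g : GL D.Idx F) (hg : (g : Matrix D.Idx D.Idx F) = D.hMat F r c) :
    ((g⁻¹ : GL D.Idx F) : Matrix D.Idx D.Idx F) = D.hMat F r c⁻¹ := by
  rw [Matrix.coe_units_inv, hg]
  apply Matrix.inv_eq_right_inv
  rw [hMat_mul_hMat J V1 H hr hc (inv_ne_zero hc), mul_inv_cancel₀ hc, hMat_one J V1 H hr]

/-- every element of `H` is a diagonal matrix given by a character -/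
theorem torusLike_of_mem (J : ValidJ D) (V1 : Valid1 D) (H : ValidH D) {g : GL D.Idx F}
    (hg : g ∈ D.diagonalSubgroup F) : TorusLike D F (g : Matrix D.Idx D.Idx F) := by
  unfold ChevalleyDatum.diagonalSubgroup at hg
  induction hg using Subgroup.closure_induction'' with
  | mem g hg =>
    obtain ⟨r, t, hr, ht, hg⟩ := hg
    rw [hg]
    exact torusLike_hMat J V1 H hr ht
  | inv_mem g hg =>
    obtain ⟨r, t, hr, ht, hg⟩ := hg
    rw [hMat_inv J V1 H hr ht g hg]
    exact torusLike_hMat J V1 H hr (inv_ne_zero ht)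
  | one => exact torusLike_one
  | mul g g' _ _ hg hg' =>
    rw [Units.val_mul]
    exact hg.mul hg'

/-- conjugation of a root element by a torus element -/
theorem torus_conj_x (V : Valid0 D) {h : GL D.Idx F} (hh : TorusLike D F (h : Matrix D.Idx D.Idx F))
    {s : ℕ} (hs : s < D.nroots) :
    ∃ c : Fˣ, ∀ (t : F) (g : GL D.Idx F), (g : Matrix D.Idx D.Idx F) = D.x F s t →
      ((h * g * h⁻¹ : GL D.Idx F) : Matrix D.Idx D.Idx F) = D.x F s (c * t) := by
  obtain ⟨f, hf, hm⟩ := hh
  refine ⟨f s, fun t g hg => ?_⟩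
  have h1 := diagC_mul_xN V hf hs t
  rw [Units.val_mul, Units.val_mul, hg, x_eq_xN, x_eq_xN, hm, h1, ← hm, Matrix.mul_assoc,
    ← Units.val_mul, mul_inv_cancel, Units.val_one, Matrix.mul_one]

theorem diagonal_le_normalizer_pos (J : ValidJ D) (V1 : Valid1 D) (H : ValidH D) :
    D.diagonalSubgroup F ≤ Subgroup.normalizer (D.posUnipotent F : Set (GL D.Idx F)) := by
  unfold ChevalleyDatum.posUnipotent
  rw [Subgroup.le_normalizer_closure_iff]
  rintro h hh g ⟨r, t, hr, hg⟩
  obtain ⟨c, hc⟩ := torus_conj_x J.V (torusLike_of_mem J V1 H hh) hr.1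
  exact Subgroup.subset_closure ⟨r, c * t, hr, hc t g hg⟩

theorem diagonal_le_normalizer_neg (J : ValidJ D) (V1 : Valid1 D) (H : ValidH D) :
    D.diagonalSubgroup F ≤ Subgroup.normalizer (D.negUnipotent F : Set (GL D.Idx F)) := by
  unfold ChevalleyDatum.negUnipotent
  rw [Subgroup.le_normalizer_closure_iff]
  rintro h hh g ⟨r, t, hr, hg⟩
  obtain ⟨c, hc⟩ := torus_conj_x J.V (torusLike_of_mem J V1 H hh) hr.1
  exact Subgroup.subset_closure ⟨r, c * t, hr, hc t g hg⟩

theorem diagC_mem_LowK_zero (f : ℕ → F) : diagC D f ∈ LowK D F 0 := by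
  intro i j hij
  by_cases h : i = j
  · subst h; omega
  · exfalso; apply hij
    unfold diagC
    exact Matrix.diagonal_apply_ne _ h

theorem diagC_apply_ne (f : ℕ → F) {i j : D.Idx} (h : i ≠ j) : diagC D f i j = 0 := by
  unfold diagC
  exact Matrix.diagonal_apply_ne _ h

/-- `U ∩ H = 1` -/
theorem pos_inf_diagonal (J : ValidJ D) (V1 : Valid1 D) (H : ValidH D) (Tr : TriP D) (P : PosP D) :
    D.posUnipotent F ⊓ D.diagonalSubgroup F = ⊥ := by
  rw [Subgroup.eq_bot_iff_forall]
  rintro x ⟨hxU, hxH⟩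
  have h1 := posUnipotent_sub_one_mem J.V V1 Tr P hxU
  obtain ⟨f, _, hm⟩ := torusLike_of_mem J V1 H hxH
  apply Units.ext
  ext i j
  by_cases hij : i = j
  · subst hij
    by_contra hne
    have : ((x : Matrix D.Idx D.Idx F) - 1) i i ≠ 0 := by
      rw [Matrix.sub_apply, Matrix.one_apply_eq]
      intro h0
      apply hne
      rw [Units.val_one, Matrix.one_apply_eq]
      exact sub_eq_zero.mp h0
    have := h1 i i this
    omega
  · rw [hm, diagC_apply_ne _ hij, Units.val_one, Matrix.one_apply_ne hij]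

/-- the elements of `B` are lower triangular -/
theorem borel_mem_LowK (J : ValidJ D) (V1 : Valid1 D) (H : ValidH D) (Tr : TriP D) (P : PosP D)
    {x : GL D.Idx F} (hx : x ∈ D.borelSubgroup F) : (x : Matrix D.Idx D.Idx F) ∈ LowK D F 0 := by
  have hset := Subgroup.coe_mul_of_right_le_normalizer_left (D.posUnipotent F) (D.diagonalSubgroup F)
    (diagonal_le_normalizer_pos J V1 H)
  have hx' : x ∈ ((D.posUnipotent F ⊔ D.diagonalSubgroup F : Subgroup (GL D.Idx F)) : Set (GL D.Idx F)) := hx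
  rw [hset] at hx'
  obtain ⟨u, hu, h, hh, rfl⟩ := hx'
  obtain ⟨f, _, hm⟩ := torusLike_of_mem J V1 H hh
  have h1 := posUnipotent_sub_one_mem J.V V1 Tr P hu
  have h2 : (u : Matrix D.Idx D.Idx F) ∈ LowK D F 0 := by
    have : (u : Matrix D.Idx D.Idx F) = ((u : Matrix D.Idx D.Idx F) - 1) + 1 := by abel
    rw [this]
    exact LowK_add (LowK_mono (by omega) h1) one_mem_LowK
  rw [Units.val_mul, hm]
  have := LowK_mul h2 (diagC_mem_LowK_zero (D := D) (fun s => ((f s : Fˣ) : F)))
  simpa using this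

/-- `B ∩ V = 1` -/
theorem borel_inf_neg (J : ValidJ D) (V1 : Valid1 D) (H : ValidH D) (Tr : TriP D) (P : PosP D) :
    D.borelSubgroup F ⊓ D.negUnipotent F = ⊥ := by
  rw [Subgroup.eq_bot_iff_forall]
  rintro x ⟨hxB, hxV⟩
  have h1 := borel_mem_LowK J V1 H Tr P hxB
  have h2 := negUnipotent_sub_one_mem J.V V1 Tr P hxV
  apply Units.ext
  ext i j
  by_contra hne
  have h3 : ((x : Matrix D.Idx D.Idx F) - 1) i j ≠ 0 := by
    rw [Matrix.sub_apply]
    intro h0
    apply hne
    rw [Units.val_one]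
    exact sub_eq_zero.mp h0
  have h4 := h2 i j h3
  by_cases hij : i = j
  · subst hij; omega
  · have h5 : (x : Matrix D.Idx D.Idx F) i j ≠ 0 := by
      intro h0
      apply h3
      rw [Matrix.sub_apply, h0, Matrix.one_apply_ne hij, sub_zero]
    have := h1 i j h5
    omega

/-- `B ∩ VH = H` -/
theorem borel_inf_neg_sup_diagonal (J : ValidJ D) (V1 : Valid1 D) (H : ValidH D) (Tr : TriP D)
    (P : PosP D) :
    D.borelSubgroup F ⊓ (D.negUnipotent F ⊔ D.diagonalSubgroup F) = D.diagonalSubgroup F := by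
  apply le_antisymm
  · rintro x ⟨hxB, hxVH⟩
    have hset := Subgroup.coe_mul_of_right_le_normalizer_left (D.negUnipotent F)
      (D.diagonalSubgroup F) (diagonal_le_normalizer_neg J V1 H)
    have hx' : x ∈ ((D.negUnipotent F ⊔ D.diagonalSubgroup F : Subgroup (GL D.Idx F)) :
        Set (GL D.Idx F)) := hxVH
    rw [hset] at hx'
    obtain ⟨v, hv, h, hh, rfl⟩ := hx'
    have hvB : v ∈ D.borelSubgroup F := by
      have : v = (v * h) * h⁻¹ := by group
      rw [this]
      exact mul_mem hxB (inv_mem (Subgroup.mem_sup_right hh))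
    have hv1 : v ∈ D.borelSubgroup F ⊓ D.negUnipotent F := ⟨hvB, hv⟩
    rw [borel_inf_neg J V1 H Tr P, Subgroup.mem_bot] at hv1
    rw [hv1]
    show 1 * h ∈ D.diagonalSubgroup F
    rw [one_mul]
    exact hh
  · exact le_inf le_sup_right le_sup_right

end Torus

end Cfsg.Agent.Lib.Helper8.Chev
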