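import Cfsg.Agent.Lib.Helper8.ChevBor1
import Mathlib.GroupTheory.Solvable

set_option autoImplicit false

namespace Cfsg.Agent.Lib.Helper8.Chev

open Cfsg.Lie Matrix

/-! ### A solvability criterion -/

theorem isSolvable_sup_of_le_normalizer {G : Type*} [Group G] (A N : Subgroup G)
    (hLE : A ≤ Subgroup.normalizer (N : Set G)) [Group.IsSolvable N]
    (hA : ∀ a ∈ A, ∀ b ∈ A, a * b = b * a) : Group.IsSolvable ↥(A ⊔ N) := by
  haveI hn : (N.subgroupOf (A ⊔ N)).Normal := Subgroup.normal_subgroupOf_sup_of_le_normalizer hLE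
  have hset := Subgroup.coe_mul_of_left_le_normalizer_right A N hLE
  have hdec : ∀ x : ↥(A ⊔ N), ∃ a : ↥(A ⊔ N), (a : G) ∈ A ∧
      (QuotientGroup.mk x : ↥(A ⊔ N) ⧸ N.subgroupOf (A ⊔ N)) = QuotientGroup.mk a := by
    intro x
    have hx : (x : G) ∈ ((A ⊔ N : Subgroup G) : Set G) := x.2
    rw [hset] at hx
    obtain ⟨a, ha, n, hn', hx⟩ := hx
    refine ⟨⟨a, Subgroup.mem_sup_left ha⟩, ha, ?_⟩
    rw [QuotientGroup.eq]
    rw [Subgroup.mem_subgroupOf]
    have : (((x⁻¹ * ⟨a, Subgroup.mem_sup_left ha⟩ : ↥(A ⊔ N)) : ↥(A ⊔ N)) : G) = n⁻¹ := by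
      rw [Subgroup.coe_mul, Subgroup.coe_inv, ← hx]
      simp only
      group
    rw [this]
    exact inv_mem hn'
  haveI : Group.IsSolvable (↥(A ⊔ N) ⧸ N.subgroupOf (A ⊔ N)) := by
    apply Group.isSolvable_of_comm
    intro p q
    induction p using QuotientGroup.induction_on with
    | H x =>
      induction q using QuotientGroup.induction_on with
      | H y =>
        obtain ⟨a, ha, hxa⟩ := hdec x
        obtain ⟨b, hb, hyb⟩ := hdec y
        rw [hxa, hyb, ← QuotientGroup.mk_mul, ← QuotientGroup.mk_mul]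
        congr 1
        apply Subtype.ext
        rw [Subgroup.coe_mul, Subgroup.coe_mul]
        exact hA _ ha _ hb
  apply Group.isSolvable_of_ker_le_range (Subgroup.inclusion (le_sup_right : N ≤ A ⊔ N))
    (QuotientGroup.mk' (N.subgroupOf (A ⊔ N)))
  intro x hx
  rw [QuotientGroup.ker_mk', Subgroup.mem_subgroupOf] at hx
  exact ⟨⟨x, hx⟩, rfl⟩

/-! ### The subgroup `B` is solvable -/

section

variable {D : ChevalleyDatum} {F : Type*} [Field F]

theorem diagonal_comm (J : ValidJ D) (V1 : Valid1 D) (H : ValidH D) :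
    ∀ a ∈ D.diagonalSubgroup F, ∀ b ∈ D.diagonalSubgroup F, a * b = b * a := by
  intro a ha b hb
  obtain ⟨f, _, hf⟩ := torusLike_of_mem J V1 H ha
  obtain ⟨g, _, hg⟩ := torusLike_of_mem J V1 H hb
  apply Units.ext
  rw [Units.val_mul, Units.val_mul, hf, hg, diagC_mul_diagC, diagC_mul_diagC]
  apply diagC_congr
  intro s _
  rw [mul_comm]

theorem borel_isSolvable (J : ValidJ D) (V1 : Valid1 D) (H : ValidH D)
    [Group.IsSolvable ↥(D.posUnipotent F)] : Group.IsSolvable ↥(D.borelSubgroup F) := by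
  have key := isSolvable_sup_of_le_normalizer (D.diagonalSubgroup F) (D.posUnipotent F)
    (diagonal_le_normalizer_pos J V1 H) (diagonal_comm J V1 H)
  have e : D.borelSubgroup F = D.diagonalSubgroup F ⊔ D.posUnipotent F := by
    unfold ChevalleyDatum.borelSubgroup
    exact sup_comm _ _
  rw [e]
  exact key

/-! ### The elements of `H` as products of the `h_{p_i}` -/

theorem hWord_unit (r : ℕ) (u : Fˣ) : D.hWord r ((u : Fˣ) : F) = evalWd u 1 (hW r (D.neg r)) := by
  rw [evalWd_hW]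
  simp [ChevalleyDatum.hWord, ChevalleyDatum.nWord]

/-- the word `∏_{i<k} h_{p_i}(c_i)` -/
def hProdW (D : ChevalleyDatum) {F : Type*} [Field F] (c : ℕ → Fˣ) (k : ℕ) : List (ℕ × F) :=
  (List.range k).flatMap fun i => D.hWord (D.simple i) ((c i : Fˣ) : F)

theorem wN_hProdW (J : ValidJ D) (hS : checkHS D = true) (c : ℕ → Fˣ) (k : ℕ) (hk : k ≤ D.rank) :
    wN D F (hProdW D c k) =
      diagC D (fun s => ((∏ i ∈ Finset.range k, c i ^ D.cartan i s : Fˣ) : F)) := by
  induction k with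
  | zero =>
    simp only [hProdW, List.range_zero, List.flatMap_nil, wN_nil, Finset.range_zero,
      Finset.prod_empty, Units.val_one]
    exact diagC_one.symm
  | succ k ih =>
    have h1 := ih (by omega)
    unfold hProdW at h1 ⊢
    rw [List.range_succ, List.flatMap_append, wN_append, h1]
    simp only [List.flatMap_cons, List.flatMap_nil, List.append_nil]
    rw [hWord_unit, hS_eq J hS (by omega : k < D.rank), diagC_mul_diagC]
    apply diagC_congr
    intro s _
    rw [Finset.prod_range_succ, Units.val_mul]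

theorem hProdW_eq_hAllW (m : ℕ → ℤ) (T : Fˣ) (k : ℕ) :
    hProdW D (fun i => T ^ m i) k = hAllW D m T k := by
  unfold hProdW hAllW
  congr 1
  funext i
  exact hWord_unit _ _

/-- every element of `H` is a product of the `h_{p_i}(c_i)` -/
theorem diagonal_eq_hProd (J : ValidJ D) (V1 : Valid1 D) (H : ValidH D) {g : GL D.Idx F}
    (hg : g ∈ D.diagonalSubgroup F) :
    ∃ c : ℕ → Fˣ, (g : Matrix D.Idx D.Idx F) = wN D F (hProdW D c D.rank) := by
  have hgen : ∀ (r : ℕ) (t : F), r < D.nroots → t ≠ 0 →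
      ∃ c : ℕ → Fˣ, D.hMat F r t = wN D F (hProdW D c D.rank) := by
    intro r t hr ht
    refine ⟨fun i => Units.mk0 t ht ^ cor D r i, ?_⟩
    rw [hMat_eq r ht, hG_word J V1 H.hS H.hG hr, hProdW_eq_hAllW]
  unfold ChevalleyDatum.diagonalSubgroup at hg
  induction hg using Subgroup.closure_induction'' with
  | mem g hg =>
    obtain ⟨r, t, hr, ht, hg⟩ := hg
    rw [hg]
    exact hgen r t hr ht
  | inv_mem g hg =>
    obtain ⟨r, t, hr, ht, hg⟩ := hg
    rw [hMat_inv J V1 H hr ht g hg]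
    exact hgen r t⁻¹ hr (inv_ne_zero ht)
  | one =>
    refine ⟨fun _ => 1, ?_⟩
    rw [wN_hProdW J H.hS _ _ (le_refl _), Units.val_one, ← diagC_one]
    apply diagC_congr
    intro s _
    simp
  | mul g g' _ _ hg hg' =>
    obtain ⟨c, hc⟩ := hg
    obtain ⟨c', hc'⟩ := hg'
    refine ⟨fun i => c i * c' i, ?_⟩
    rw [Units.val_mul, hc, hc', wN_hProdW J H.hS _ _ (le_refl _), wN_hProdW J H.hS _ _ (le_refl _),
      wN_hProdW J H.hS _ _ (le_refl _), diagC_mul_diagC]
    apply diagC_congr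
    intro s _
    rw [← Units.val_mul, ← Finset.prod_mul_distrib]
    congr 2
    funext i
    rw [mul_zpow]

end

end Cfsg.Agent.Lib.Helper8.Chev
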