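import Cfsg.Agent.Lib.Helper8.ChevU4

set_option autoImplicit false

namespace Cfsg.Agent.Lib.Helper8.Chev

open Cfsg.Lie Matrix

theorem checkSep_G2 : checkSep chevG2 = true := by decide +kernel
theorem checkSep_B2 : checkSep chevB2 = true := by decide +kernel
theorem checkSep_D4 : checkSep chevD4 = true := by decide +kernel
theorem checkSep_F4 : checkSep chevF4 = true := by decide +kernel
theorem checkSep_E6 : checkSep chevE6 = true := by decide +kernel
theorem checkSep_E7 : checkSep chevE7 = true := by decide +kernel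
theorem checkSep_E8 : checkSep chevE8 = true := by decide +kernel

theorem sepP_of_mem {D : ChevalleyDatum}
    (hD : D ∈ [chevG2, chevB2, chevD4, chevF4, chevE6, chevE7, chevE8]) : SepP D :=
  forall_seven (P := SepP) (sepP_of_check checkSep_G2) (sepP_of_check checkSep_B2)
    (sepP_of_check checkSep_D4) (sepP_of_check checkSep_F4) (sepP_of_check checkSep_E6)
    (sepP_of_check checkSep_E7) (sepP_of_check checkSep_E8) hD

theorem checkCop_G2 : checkCop chevG2 = true := by decide +kernel
theorem checkCop_B2 : checkCop chevB2 = true := by decide +kernel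
theorem checkCop_D4 : checkCop chevD4 = true := by decide +kernel
theorem checkCop_F4 : checkCop chevF4 = true := by decide +kernel
theorem checkCop_E6 : checkCop chevE6 = true := by decide +kernel
theorem checkCop_E7 : checkCop chevE7 = true := by decide +kernel
theorem checkCop_E8 : checkCop chevE8 = true := by decide +kernel

theorem copP_of_mem {D : ChevalleyDatum}
    (hD : D ∈ [chevG2, chevB2, chevD4, chevF4, chevE6, chevE7, chevE8]) : CopP D := by
  have hT := validT_of_mem hD
  revert hT
  exact forall_seven (P := fun D => ValidT D → CopP D)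
    (fun T => copP_of_check T checkCop_G2) (fun T => copP_of_check T checkCop_B2)
    (fun T => copP_of_check T checkCop_D4) (fun T => copP_of_check T checkCop_F4)
    (fun T => copP_of_check T checkCop_E6) (fun T => copP_of_check T checkCop_E7)
    (fun T => copP_of_check T checkCop_E8) hD

variable {D : ChevalleyDatum} {F : Type*} [Field F]

theorem posRoots_eq (P : PosP D) :
    D.posRoots = List.range' (D.nroots / 2) (D.nroots - D.nroots / 2) := by
  unfold ChevalleyDatum.posRoots
  have h1 : List.range D.nroots =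
      List.range' 0 (D.nroots / 2) ++ List.range' (D.nroots / 2) (D.nroots - D.nroots / 2) := by
    rw [List.range_eq_range']
    have := List.range'_append_1 (s := 0) (m := D.nroots / 2) (n := D.nroots - D.nroots / 2)
    rw [zero_add] at this
    rw [this]
    congr 1
    omega
  rw [h1, List.filter_append]
  have e1 : (List.range' 0 (D.nroots / 2)).filter (fun r => decide (D.IsPosRoot r)) = [] := by
    rw [List.filter_eq_nil_iff]
    intro r hr
    rw [List.mem_range'_1] at hr
    simp only [decide_eq_true_eq]
    intro hpos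
    have := (P r hpos.1).1.mp hpos
    omega
  have e2 : (List.range' (D.nroots / 2) (D.nroots - D.nroots / 2)).filter
      (fun r => decide (D.IsPosRoot r)) = List.range' (D.nroots / 2) (D.nroots - D.nroots / 2) := by
    rw [List.filter_eq_self]
    intro r hr
    rw [List.mem_range'_1] at hr
    simp only [decide_eq_true_eq]
    exact (P r (by omega)).1.mpr hr.1
  rw [e1, e2, List.nil_append]

theorem posRoots_map (P : PosP D) (t : ℕ → F) :
    (D.posRoots.map fun r => (r, t r)) = segW D (D.nroots / 2) t := by
  rw [posRoots_eq P]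
  rfl

theorem exists_unit_x (V : Valid0 D) (V1 : Valid1 D) {r : ℕ} (hr : r < D.nroots) (u : F) :
    ∃ g : GL D.Idx F, (g : Matrix D.Idx D.Idx F) = D.x F r u :=
  ⟨⟨xN D F r u, xN D F r (-u), xN_mul_neg V V1 hr u, xN_neg_mul V V1 hr u⟩,
    (x_eq_xN D F r u).symm⟩

theorem posUnipotent_word (hD : D ∈ [chevG2, chevB2, chevD4, chevF4, chevE6, chevE7, chevE8])
    (w : List (ℕ × F)) (hw : ∀ p ∈ w, D.nroots / 2 ≤ p.1 ∧ p.1 < D.nroots) :
    ∃ g ∈ D.posUnipotent F, (g : Matrix D.Idx D.Idx F) = wN D F w := by
  have V := valid0_of_mem hD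
  have V1 := valid1_of_mem hD
  have P := posP_of_mem hD
  induction w with
  | nil => exact ⟨1, one_mem _, rfl⟩
  | cons p w ih =>
    obtain ⟨g', hg', hm'⟩ := ih (fun q hq => hw q (List.mem_cons_of_mem _ hq))
    have hp := hw p List.mem_cons_self
    obtain ⟨gx, hgx⟩ := exists_unit_x V V1 hp.2 p.2
    refine ⟨gx * g', mul_mem ?_ hg', ?_⟩
    · exact Subgroup.subset_closure ⟨p.1, p.2, (P p.1 hp.2).1.mpr hp.1, hgx⟩
    · rw [Units.val_mul, hgx, hm', wN_cons, x_eq_xN]

theorem posUnipotent_exists (hD : D ∈ [chevG2, chevB2, chevD4, chevF4, chevE6, chevE7, chevE8])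
    {g : GL D.Idx F} (hg : g ∈ D.posUnipotent F) :
    ∃ t : ℕ → F, (g : Matrix D.Idx D.Idx F) = wN D F (segW D (D.nroots / 2) t) := by
  have V := valid0_of_mem hD
  have V1 := valid1_of_mem hD
  have P := posP_of_mem hD
  have hcol := collect (F := F) hD (D.nroots - D.nroots / 2) (D.nroots / 2) (le_refl _) (by omega)
  have hgen : ∀ (r : ℕ) (u : F), D.IsPosRoot r →
      ∃ t : ℕ → F, D.x F r u = wN D F (segW D (D.nroots / 2) t) := by
    intro r u hr
    have hpos := (P r hr.1).1.mp hr
    obtain ⟨t', ht'⟩ := hcol [(r, u)] (by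
      intro p hp
      rw [List.mem_singleton] at hp
      subst hp
      exact ⟨hpos, hr.1⟩) (fun _ => 0)
    refine ⟨t', ?_⟩
    rw [← ht', wN_segW_zero V, Matrix.mul_one, wN_cons, wN_nil, Matrix.mul_one, x_eq_xN]
  unfold ChevalleyDatum.posUnipotent at hg
  induction hg using Subgroup.closure_induction'' with
  | mem g hg =>
    obtain ⟨r, u, hr, hg⟩ := hg
    rw [hg]
    exact hgen r u hr
  | inv_mem g hg =>
    obtain ⟨r, u, hr, hg⟩ := hg
    rw [x_inv V V1 hr.1 u g hg]
    exact hgen r (-u) hr
  | one => exact ⟨fun _ => 0, by rw [wN_segW_zero V]; rfl⟩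
  | mul g g' _ _ hg hg' =>
    obtain ⟨t, ht⟩ := hg
    obtain ⟨t', ht'⟩ := hg'
    obtain ⟨t'', ht''⟩ := hcol (segW D (D.nroots / 2) t) (fun p hp => segW_mem hp) t'
    exact ⟨t'', by rw [Units.val_mul, ht, ht', ht'']⟩

/-- every element of `U` is uniquely the ordered product over the positive roots -/
theorem posUnipotent_unique_word
    (hD : D ∈ [chevG2, chevB2, chevD4, chevF4, chevE6, chevE7, chevE8]) :
    (∀ g : GL D.Idx F, g ∈ D.posUnipotent F →
      ∃! t : ℕ → F, (∀ r, ¬ D.IsPosRoot r → t r = 0) ∧
        (g : Matrix D.Idx D.Idx F) = D.wordMat F (D.posRoots.map fun r => (r, t r))) ∧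
    (∀ t : ℕ → F, ∃ g : GL D.Idx F, g ∈ D.posUnipotent F ∧
      (g : Matrix D.Idx D.Idx F) = D.wordMat F (D.posRoots.map fun r => (r, t r))) := by
  have V := valid0_of_mem hD
  have V1 := valid1_of_mem hD
  have P := posP_of_mem hD
  have Tr := triP_of_mem hD
  have S := sepP_of_mem hD
  have C := copP_of_mem hD
  constructor
  · intro g hg
    obtain ⟨t, ht⟩ := posUnipotent_exists hD hg
    refine ⟨fun r => if D.IsPosRoot r then t r else 0, ⟨?_, ?_⟩, ?_⟩
    · intro r hr
      simp only [if_neg hr]
    · rw [ht, wordMat_eq_wN, posRoots_map P]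
      congr 1
      apply segW_congr
      intro r h1 h2
      simp only [if_pos ((P r h2).1.mpr h1)]
    · rintro t' ⟨h1, h2⟩
      funext r
      by_cases hr : D.IsPosRoot r
      · simp only [if_pos hr]
        rw [h2, wordMat_eq_wN, posRoots_map P] at ht
        exact seg_unique V V1 Tr S C (D.nroots - D.nroots / 2) (D.nroots / 2) (le_refl _)
          (by omega) t' t ht r ((P r hr.1).1.mp hr) hr.1
      · simp only [if_neg hr]
        exact h1 r hr
  · intro t
    obtain ⟨g, hg, hm⟩ := posUnipotent_word hD (segW D (D.nroots / 2) t) (fun p hp => segW_mem hp)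
    exact ⟨g, hg, by rw [hm, wordMat_eq_wN, posRoots_map P]⟩

/-- the order of `U` over a finite field -/
theorem card_posUnipotent [Fintype F]
    (hD : D ∈ [chevG2, chevB2, chevD4, chevF4, chevE6, chevE7, chevE8]) :
    Nat.card (D.posUnipotent F) = Fintype.card F ^ (D.nroots / 2) := by
  classical
  have V := valid0_of_mem hD
  have P := posP_of_mem hD
  obtain ⟨hex, hall⟩ := posUnipotent_unique_word (F := F) hD
  let tf : D.posUnipotent F → ℕ → F := fun g => Classical.choose (hex g.1 g.2)
  have htf : ∀ g : D.posUnipotent F, (∀ r, ¬ D.IsPosRoot r → tf g r = 0) ∧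
      ((g : GL D.Idx F) : Matrix D.Idx D.Idx F) =
        D.wordMat F (D.posRoots.map fun r => (r, tf g r)) :=
    fun g => (Classical.choose_spec (hex g.1 g.2)).1
  have htf_u : ∀ (g : D.posUnipotent F) (t : ℕ → F), (∀ r, ¬ D.IsPosRoot r → t r = 0) →
      ((g : GL D.Idx F) : Matrix D.Idx D.Idx F) = D.wordMat F (D.posRoots.map fun r => (r, t r)) →
      t = tf g :=
    fun g t h1 h2 => (Classical.choose_spec (hex g.1 g.2)).2 t ⟨h1, h2⟩
  let f : D.posUnipotent F → (Fin (D.nroots / 2) → F) := fun g j => tf g (D.nroots / 2 + j.val)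
  have hbij : Function.Bijective f := by
    constructor
    · intro g g' hgg
      have ht : tf g = tf g' := by
        funext r
        by_cases hr : D.IsPosRoot r
        · have hpos := (P r hr.1).1.mp hr
          have heven := V.even
          have := congrFun hgg ⟨r - D.nroots / 2, by have := hr.1; omega⟩
          simp only [f] at this
          rwa [show D.nroots / 2 + (r - D.nroots / 2) = r by omega] at this
        · rw [(htf g).1 r hr, (htf g').1 r hr]
      apply Subtype.ext
      apply Units.ext
      rw [(htf g).2, (htf g').2, ht]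
    · intro τ
      let t : ℕ → F := fun r =>
        if h : D.nroots / 2 ≤ r ∧ r < D.nroots then τ ⟨r - D.nroots / 2, by
          have := V.even; omega⟩ else 0
      have hsupp : ∀ r, ¬ D.IsPosRoot r → t r = 0 := by
        intro r hr
        simp only [t]
        rw [dif_neg]
        rintro ⟨h1, h2⟩
        exact hr ((P r h2).1.mpr h1)
      obtain ⟨g, hg, hm⟩ := hall t
      refine ⟨⟨g, hg⟩, ?_⟩
      have := htf_u ⟨g, hg⟩ t hsupp hm
      funext j
      simp only [f]
      rw [← this]
      simp only [t]
      have hj := j.isLt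
      have heven := V.even
      rw [dif_pos ⟨by omega, by omega⟩]
      congr 1
      apply Fin.ext
      simp
  rw [Nat.card_eq_of_bijective f hbij, Nat.card_eq_fintype_card, Fintype.card_fun, Fintype.card_fin]

end Cfsg.Agent.Lib.Helper8.Chev
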