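import Cfsg.Agent.Lib.Helper8.ChevBor2
import Cfsg.Agent.Lib.Helper8.ChevU5

set_option autoImplicit false

namespace Cfsg.Agent.Lib.Helper8.Chev

open Cfsg.Lie Matrix

/-! ### Group-theoretic helpers -/

theorem conj_closure_le {G : Type*} [Group G] {S : Set G} {h : G}
    (h1 : ∀ g ∈ S, h * g * h⁻¹ ∈ Subgroup.closure S) :
    ∀ x ∈ Subgroup.closure S, h * x * h⁻¹ ∈ Subgroup.closure S := by
  intro x hx
  have : (Subgroup.closure S).map (MulAut.conj h).toMonoidHom ≤ Subgroup.closure S := by
    rw [MonoidHom.map_closure, Subgroup.closure_le]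
    rintro y ⟨g, hg, rfl⟩
    exact h1 g hg
  exact this ⟨x, hx, rfl⟩

theorem mem_normalizer_closure_of {G : Type*} [Group G] {S : Set G} {h : G}
    (h1 : ∀ g ∈ S, h * g * h⁻¹ ∈ Subgroup.closure S)
    (h2 : ∀ g ∈ S, h⁻¹ * g * h ∈ Subgroup.closure S) :
    h ∈ Subgroup.normalizer (Subgroup.closure S : Set G) := by
  rw [Subgroup.mem_normalizer_iff]
  intro x
  constructor
  · exact conj_closure_le h1 x
  · intro hx
    have h2' : ∀ g ∈ S, h⁻¹ * g * h⁻¹⁻¹ ∈ Subgroup.closure S := by
      intro g hg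
      rw [inv_inv]
      exact h2 g hg
    have := conj_closure_le h2' _ hx
    rw [inv_inv] at this
    have e : h⁻¹ * (h * x * h⁻¹) * h = x := by group
    rwa [e] at this

section

variable {D : ChevalleyDatum} {F : Type*} [Field F]

/-- words in root elements of roots satisfying `Q` lie in the subgroup generated by them -/
theorem word_mem_closure (V : Valid0 D) (V1 : Valid1 D) {S : Set (GL D.Idx F)} {Q : ℕ → Prop}
    (hQ : ∀ s, Q s → s < D.nroots)
    (hS : ∀ (s : ℕ) (t : F) (g : GL D.Idx F), Q s → (g : Matrix D.Idx D.Idx F) = D.x F s t → g ∈ S)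
    (w : List (ℕ × F)) (hw : ∀ p ∈ w, Q p.1) :
    ∃ g ∈ Subgroup.closure S, (g : Matrix D.Idx D.Idx F) = wN D F w := by
  induction w with
  | nil => exact ⟨1, one_mem _, rfl⟩
  | cons p w ih =>
    obtain ⟨g', hg', hm'⟩ := ih (fun q hq => hw q (List.mem_cons_of_mem _ hq))
    have hp := hw p List.mem_cons_self
    obtain ⟨gx, hgx⟩ := exists_unit_x V V1 (hQ _ hp) p.2
    refine ⟨gx * g', mul_mem (Subgroup.subset_closure (hS p.1 p.2 gx hp hgx)) hg', ?_⟩
    rw [Units.val_mul, hgx, hm', wN_cons, x_eq_xN]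

/-! ### The table condition for the minimal parabolic subgroups -/

noncomputable def third (l : List (ℕ × ℤ)) : Option ℕ :=
  match l with
  | _ :: _ :: (k, _) :: _ => some k
  | _ => none

theorem chainRoot_three (r s : ℕ) : D.chainRoot r s 3 = third (D.chainEntry r s) := by
  unfold ChevalleyDatum.chainRoot
  generalize D.chainEntry r s = l
  match l with
  | [] => rfl
  | [_] => rfl
  | [_, _] => rfl
  | _ :: _ :: (k, _) :: _ => rfl

/-- the root `q` is positive and different from `p` -/
def okR (n p q : ℕ) : Bool := Nat.ble (n / 2) q && !(Nat.beq q p)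

noncomputable def parOK (D : ChevalleyDatum) (p r s : ℕ) : Bool :=
  allF (fun q : ℕ × ℤ => okR D.nroots p q.1) (lookF (rowAt D r) s) &&
  allF (fun q : ℕ × ℤ => okR D.nroots p q.1) (lookF (rowAt D s) r) &&
  (match third (lookF (rowAt D r) s) with
    | some k => allF (fun q : ℕ × ℤ => okR D.nroots p q.1) (lookF (rowAt D k) s)
    | none => true) &&
  (match third (lookF (rowAt D s) r) with
    | some k => allF (fun q : ℕ × ℤ => okR D.nroots p q.1) (lookF (rowAt D k) r)
    | none => true)

noncomputable def checkPar (D : ChevalleyDatum) : Bool :=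
  forallLtF (fun i => withNat (D.simple i) fun p => Nat.ble (D.nroots / 2) p &&
    forallLtF (fun s => Nat.blt s (D.nroots / 2) || Nat.beq s p ||
      (parOK D p p s && parOK D p (D.nroots - 1 - p) s)) D.nroots) D.rank

theorem okR_iff {n p q : ℕ} : okR n p q = true ↔ n / 2 ≤ q ∧ q ≠ p := by
  unfold okR
  rw [Bool.and_eq_true, Nat.ble_eq, Bool.not_eq_true', nat_beq_eq_false]

theorem chainRoot_lt (V : Valid0 D) {a b i q : ℕ} (ha : a < D.nroots)
    (h : D.chainRoot a b i = some q) : q < D.nroots := by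
  obtain ⟨M, hM⟩ := chainRoot_spec h
  exact (chainEntry_tgt V ha hM).1

theorem chainRoot_mem {a b i q : ℕ} (h : D.chainRoot a b i = some q) :
    ∃ M, (q, M) ∈ D.chainEntry a b := by
  obtain ⟨M, hM⟩ := chainRoot_spec h
  exact ⟨M, List.mem_of_getElem? hM⟩

theorem parOK_letters (V : Valid0 D) {p r s : ℕ} (hr : r < D.nroots) (hs : s < D.nroots)
    (h : parOK D p r s = true) :
    ∀ c ∈ D.commTerms r s, (D.nroots / 2 ≤ c.1 ∧ c.1 ≠ p) ∧ c.1 < D.nroots := by
  unfold parOK at h
  simp only [Bool.and_eq_true, allF_eq_true, rowAt_eq, lookF_eq, okR_iff] at h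
  obtain ⟨⟨⟨h1, h2⟩, h3⟩, h4⟩ := h
  intro c hc
  rcases commTerms_root hc with ⟨i, hi⟩ | ⟨i, hi⟩ | ⟨k, hk1, hk2⟩ | ⟨k, hk1, hk2⟩
  · obtain ⟨M, hM⟩ := chainRoot_mem hi
    exact ⟨h1 _ hM, chainRoot_lt V hr hi⟩
  · obtain ⟨M, hM⟩ := chainRoot_mem hi
    exact ⟨h2 _ hM, chainRoot_lt V hs hi⟩
  · rw [chainRoot_three] at hk1
    rw [hk1] at h3
    simp only [allF_eq_true, okR_iff] at h3
    obtain ⟨M, hM⟩ := chainRoot_mem hk2
    have hk : k < D.nroots := by
      rw [← chainRoot_three] at hk1
      exact chainRoot_lt V hr hk1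
    exact ⟨h3 _ hM, chainRoot_lt V hk hk2⟩
  · rw [chainRoot_three] at hk1
    rw [hk1] at h4
    simp only [allF_eq_true, okR_iff] at h4
    obtain ⟨M, hM⟩ := chainRoot_mem hk2
    have hk : k < D.nroots := by
      rw [← chainRoot_three] at hk1
      exact chainRoot_lt V hs hk1
    exact ⟨h4 _ hM, chainRoot_lt V hk hk2⟩

theorem checkPar_G2 : checkPar chevG2 = true := by decide +kernel
theorem checkPar_B2 : checkPar chevB2 = true := by decide +kernel
theorem checkPar_D4 : checkPar chevD4 = true := by decide +kernel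
theorem checkPar_F4 : checkPar chevF4 = true := by decide +kernel
theorem checkPar_E6 : checkPar chevE6 = true := by decide +kernel
theorem checkPar_E7 : checkPar chevE7 = true := by decide +kernel
theorem checkPar_E8 : checkPar chevE8 = true := by decide +kernel

theorem checkPar_of_mem (hD : D ∈ [chevG2, chevB2, chevD4, chevF4, chevE6, chevE7, chevE8]) :
    checkPar D = true :=
  forall_seven (P := fun D => checkPar D = true) checkPar_G2 checkPar_B2 checkPar_D4 checkPar_F4
    checkPar_E6 checkPar_E7 checkPar_E8 hD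

/-! ### The root subgroups of `±p_i` normalise the subgroup of the other positive roots -/

/-- the generators of `U_i` -/
def genPar (D : ChevalleyDatum) (F : Type*) [Field F] (i : ℕ) : Set (GL D.Idx F) :=
  {g : GL D.Idx F | ∃ (s : ℕ) (t : F), D.IsPosRoot s ∧ s ≠ D.simple i ∧
    (g : Matrix D.Idx D.Idx F) = D.x F s t}

theorem par_conj (hD : D ∈ [chevG2, chevB2, chevD4, chevF4, chevE6, chevE7, chevE8]) {i : ℕ}
    (hi : i < D.rank) {r : ℕ} (hr : r = D.simple i ∨ r = D.neg (D.simple i)) (t : F)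
    (gr : GL D.Idx F) (hgr : (gr : Matrix D.Idx D.Idx F) = D.x F r t) :
    ∀ g ∈ genPar D F i, gr * g * gr⁻¹ ∈ Subgroup.closure (genPar D F i) := by
  have V := valid0_of_mem hD
  have V1 := valid1_of_mem hD
  have P := posP_of_mem hD
  have J := validJ_of_mem hD
  have hp := (J.S i hi).1
  have hchk := checkPar_of_mem hD
  simp only [checkPar, forallLtF_eq_true, withNat_eq, Bool.and_eq_true, Nat.ble_eq,
    Bool.or_eq_true, Nat.blt_eq, Nat.beq_eq] at hchk
  obtain ⟨hppos, hall⟩ := hchk i hi
  have hrn : r < D.nroots := by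
    rcases hr with rfl | rfl
    · exact hp
    · exact V.neg_lt hp
  rintro g ⟨s, u, hs, hsp, hg⟩
  have hspos := (P s hs.1).1.mp hs
  have hpar : parOK D (D.simple i) r s = true := by
    rcases hall s hs.1 with (h | h) | h
    · omega
    · exact absurd h hsp
    · rcases hr with rfl | rfl
      · exact h.1
      · rw [V.neg_eq _ hp]; exact h.2
  have hlet := parOK_letters V hrn hs.1 hpar
  have hsr : s ≠ r := by
    rcases hr with rfl | rfl
    · exact hsp
    · rw [V.neg_eq _ hp]; omega
  have hsnr : s ≠ D.neg r := by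
    rcases hr with rfl | rfl
    · rw [V.neg_eq _ hp]; omega
    · rw [V.neg_neg hp]; exact hsp
  have hcf := comm_formula hD (F := F) hrn hs.1 hsr hsnr (-t) u
  -- the conjugate as a word
  have hword : ((gr * g * gr⁻¹ : GL D.Idx F) : Matrix D.Idx D.Idx F) =
      wN D F ((s, u) :: D.commWord F r s (-t) u) := by
    rw [Units.val_mul, Units.val_mul, x_inv V V1 hrn t gr hgr, hgr, hg, wN_cons, ← wordMat_eq_wN,
      ← x_eq_xN]
    calc D.x F r t * D.x F s u * D.x F r (-t)
        = D.x F r t * (D.x F s u * D.x F r (-t)) := by rw [Matrix.mul_assoc]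
      _ = D.x F r t * D.x F r (-t) * D.x F s u * D.wordMat F (D.commWord F r s (-t) u) := by
          rw [hcf]; simp only [Matrix.mul_assoc]
      _ = D.x F s u * D.wordMat F (D.commWord F r s (-t) u) := by
          rw [x_eq_xN, x_eq_xN, xN_mul_neg V V1 hrn, Matrix.one_mul]
  obtain ⟨g', hg', hm'⟩ := word_mem_closure V V1 (S := genPar D F i)
    (Q := fun q => D.nroots / 2 ≤ q ∧ q ≠ D.simple i ∧ q < D.nroots)
    (fun q hq => hq.2.2)
    (fun q t' g'' hq hg'' => ⟨q, t', (P q hq.2.2).1.mpr hq.1, hq.2.1, hg''⟩)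
    ((s, u) :: D.commWord F r s (-t) u) (by
      intro q hq
      rw [List.mem_cons] at hq
      rcases hq with rfl | hq
      · exact ⟨hspos, hsp, hs.1⟩
      · unfold ChevalleyDatum.commWord at hq
        rw [List.mem_map] at hq
        obtain ⟨c, hc, rfl⟩ := hq
        have := hlet c hc
        exact ⟨this.1.1, this.1.2, this.2⟩)
  have : gr * g * gr⁻¹ = g' := Units.ext (by rw [hword, hm'])
  rw [this]
  exact hg'

theorem par_normalizer (hD : D ∈ [chevG2, chevB2, chevD4, chevF4, chevE6, chevE7, chevE8]) {i : ℕ}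
    (hi : i < D.rank) :
    D.rootSubgroup F (D.simple i) ⊔ D.rootSubgroup F (D.neg (D.simple i)) ≤
      Subgroup.normalizer (Subgroup.closure (genPar D F i) : Set (GL D.Idx F)) := by
  have V := valid0_of_mem hD
  have V1 := valid1_of_mem hD
  have J := validJ_of_mem hD
  have hp := (J.S i hi).1
  have key : ∀ r, (r = D.simple i ∨ r = D.neg (D.simple i)) →
      D.rootSubgroup F r ≤ Subgroup.normalizer (Subgroup.closure (genPar D F i) : Set (GL D.Idx F)) := by
    intro r hr
    have hrn : r < D.nroots := by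
      rcases hr with rfl | rfl
      · exact hp
      · exact V.neg_lt hp
    unfold ChevalleyDatum.rootSubgroup
    rw [Subgroup.closure_le]
    rintro gr ⟨t, hgr⟩
    apply mem_normalizer_closure_of
    · exact par_conj hD hi hr t gr hgr
    · have hinv := x_inv V V1 hrn t gr hgr
      intro g hg
      have := par_conj hD hi hr (-t) gr⁻¹ hinv g hg
      rwa [inv_inv] at this
  exact sup_le (key _ (Or.inl rfl)) (key _ (Or.inr rfl))

theorem par_sup (hD : D ∈ [chevG2, chevB2, chevD4, chevF4, chevE6, chevE7, chevE8]) {i : ℕ}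
    (hi : i < D.rank) :
    Subgroup.closure (genPar D F i) ⊔ D.rootSubgroup F (D.simple i) = D.posUnipotent F := by
  have V := valid0_of_mem hD
  have P := posP_of_mem hD
  have J := validJ_of_mem hD
  have hp := (J.S i hi).1
  have hchk := checkPar_of_mem hD
  simp only [checkPar, forallLtF_eq_true, withNat_eq, Bool.and_eq_true, Nat.ble_eq] at hchk
  have hppos := (hchk i hi).1
  apply le_antisymm
  · apply sup_le
    · unfold ChevalleyDatum.posUnipotent
      apply Subgroup.closure_mono
      rintro g ⟨s, t, hs, _, hg⟩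
      exact ⟨s, t, hs, hg⟩
    · unfold ChevalleyDatum.rootSubgroup ChevalleyDatum.posUnipotent
      apply Subgroup.closure_mono
      rintro g ⟨t, hg⟩
      exact ⟨D.simple i, t, (P _ hp).1.mpr hppos, hg⟩
  · unfold ChevalleyDatum.posUnipotent
    rw [Subgroup.closure_le]
    rintro g ⟨s, t, hs, hg⟩
    by_cases hsp : s = D.simple i
    · apply Subgroup.mem_sup_right
      unfold ChevalleyDatum.rootSubgroup
      exact Subgroup.subset_closure ⟨t, by rw [hg, hsp]⟩
    · apply Subgroup.mem_sup_left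
      exact Subgroup.subset_closure ⟨s, t, hs, hsp, hg⟩

end

end Cfsg.Agent.Lib.Helper8.Chev
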