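import Cfsg.Agent.Lib.Helper8.ChevSimp1

set_option autoImplicit false

namespace Cfsg.Agent.Lib.Helper8.Chev

open Cfsg.Lie Matrix Cfsg.Agent.Lib.Helper3

/-- words of fundamental reflections all of whose initial segments are length-increasing -/
inductive GoodW (D : ChevalleyDatum) : List ℕ → Prop
  | nil : GoodW D []
  | concat {l : List ℕ} {k : ℕ} : GoodW D l → k < D.rank →
      D.nroots / 2 ≤ reflWord D l (D.simple k) → GoodW D (l ++ [k])

theorem GoodW.lt {D : ChevalleyDatum} {l : List ℕ} (h : GoodW D l) : ∀ i ∈ l, i < D.rank := by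
  induction h with
  | nil => intro i hi; simp at hi
  | concat _ hk _ ih =>
    intro i hi
    rw [List.mem_append, List.mem_singleton] at hi
    rcases hi with hi | rfl
    · exact ih i hi
    · exact hk

section

variable {D : ChevalleyDatum} {F : Type*} [Field F]

/-- every product of the `n_{p_i}(1)` is, modulo `H`, the product along a good word -/
theorem exists_good (hD : D ∈ [chevG2, chevB2, chevD4, chevF4, chevE6, chevE7, chevE8]) :
    ∀ (m : ℕ) (l : List ℕ), l.length ≤ m → (∀ i ∈ l, i < D.rank) →
      ∃ h ∈ D.diagonalSubgroup F, ∃ l' : List ℕ, GoodW D l' ∧ l'.length ≤ l.length ∧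
        nP D F l = h * nP D F l' := by
  have V := valid0_of_mem hD
  have V1 := valid1_of_mem hD
  have J := validJ_of_mem hD
  have H := validH_of_mem hD
  have hI := checkInv_of_mem hD
  have hRP := checkRP_of_mem hD
  intro m
  induction m using Nat.strong_induction_on with
  | _ m ih =>
    intro l hlen hl
    rcases List.eq_nil_or_concat l with rfl | ⟨l0, k, hlk⟩
    · exact ⟨1, one_mem _, [], GoodW.nil, le_rfl, by rw [one_mul]⟩
    · rw [List.concat_eq_append] at hlk
      subst hlk
      have hk : k < D.rank := hl k (by simp)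
      have hl0 : ∀ i ∈ l0, i < D.rank := fun i hi => hl i (by simp [hi])
      have hlen0 : l0.length < m := by
        simp only [List.length_append, List.length_cons, List.length_nil] at hlen
        omega
      obtain ⟨h0, hh0, l0', hg0, hlen0', e0⟩ := ih _ hlen0 l0 le_rfl hl0
      have hl0' := hg0.lt
      by_cases hpos : D.nroots / 2 ≤ reflWord D l0' (D.simple k)
      · refine ⟨h0, hh0, l0' ++ [k], GoodW.concat hg0 hk hpos, ?_, ?_⟩
        · simp only [List.length_append, List.length_cons, List.length_nil]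
          omega
        · rw [nP_append, nP_append, e0, mul_assoc]
      · rw [not_le] at hpos
        obtain ⟨u1, j, u2, e, he⟩ := exchange J H.nS hRP hk l0' hl0' hpos
        have hj : j < D.rank := hl0' j (by rw [e]; simp)
        have hu1 : ∀ i ∈ u1, i < D.rank := fun i hi => hl0' i (by rw [e]; simp [hi])
        have hu2 : ∀ i ∈ u2, i < D.rank := fun i hi => hl0' i (by rw [e]; simp [hi])
        obtain ⟨t, ht, hdel⟩ := delete_pair (F := F) hD hu2 hj hk he
        have hnorm := N0_le_normalizer J V1 H hI (nP_mem_N0 (F := F) hu1)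
        have ht' : nP D F u1 * t * (nP D F u1)⁻¹ ∈ D.diagonalSubgroup F :=
          (Subgroup.mem_normalizer_iff.mp hnorm t).mp ht
        have hl' : ∀ i ∈ u1 ++ u2, i < D.rank := by
          intro i hi
          rw [List.mem_append] at hi
          rcases hi with hi | hi
          · exact hu1 i hi
          · exact hu2 i hi
        have hlen' : (u1 ++ u2).length < m := by
          rw [e] at hlen0'
          simp only [List.length_append, List.length_cons, List.length_nil] at hlen0' hlen ⊢
          omega
        obtain ⟨h2, hh2, l2, hg2, hlen2, e2⟩ := ih _ hlen' (u1 ++ u2) le_rfl hl'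
        refine ⟨h0 * (nP D F u1 * t * (nP D F u1)⁻¹) * h2, mul_mem (mul_mem hh0 ht') hh2, l2,
          hg2, ?_, ?_⟩
        · rw [e] at hlen0'
          simp only [List.length_append, List.length_cons, List.length_nil] at hlen0' hlen2 ⊢
          omega
        · rw [nP_append, e0, e, nP_append, nP_cons, nP_cons, nP_nil, mul_one]
          calc h0 * (nP D F u1 * (nG D F j * nP D F u2)) * nG D F k
              = h0 * nP D F u1 * (nG D F j * nP D F u2 * nG D F k) := by group
            _ = h0 * nP D F u1 * (t * nP D F u2) := by rw [hdel]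
            _ = h0 * (nP D F u1 * t * (nP D F u1)⁻¹) * nP D F (u1 ++ u2) := by
                rw [nP_append]; group
            _ = h0 * (nP D F u1 * t * (nP D F u1)⁻¹) * h2 * nP D F l2 := by
                rw [e2]; group

/-- the subgroup `U_w⁻` generated by the positive root subgroups made negative by `w` -/
def UnegW (D : ChevalleyDatum) (F : Type*) [Field F] (l : List ℕ) : Subgroup (GL D.Idx F) :=
  Subgroup.closure {x | ∃ (r : ℕ) (t : F), D.nroots / 2 ≤ r ∧ r < D.nroots ∧
    reflWord D l r < D.nroots / 2 ∧ (x : Matrix D.Idx D.Idx F) = D.x F r t}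

theorem good_claim (hD : D ∈ [chevG2, chevB2, chevD4, chevF4, chevE6, chevE7, chevE8])
    {l : List ℕ} (hg : GoodW D l) :
    ∀ u ∈ D.posUnipotent F, ∃ b ∈ D.borelSubgroup F, ∃ u' ∈ UnegW D F l,
      nP D F l * u = b * nP D F l * u' := by
  have V := valid0_of_mem hD
  have V1 := valid1_of_mem hD
  have J := validJ_of_mem hD
  have H := validH_of_mem hD
  have hI := checkInv_of_mem hD
  have hRP := checkRP_of_mem hD
  induction hg with
  | nil =>
    intro u hu
    exact ⟨u, pos_le_borel hu, 1, one_mem _, by rw [nP_nil]; group⟩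
  | @concat l0 k hg0 hk hpos ih =>
    intro u hu
    have hl0 := hg0.lt
    have hpk := (J.S k hk).1
    have hkpos := (refl_pos J hRP hk).1
    obtain ⟨ui, hui, g, t, hgm, rfl⟩ := pos_decomp hD hk hu
    have hu1 : nG D F k * ui * (nG D F k)⁻¹ ∈ Subgroup.closure (genPar D F k) :=
      (Subgroup.mem_normalizer_iff.mp (nG_normalizes_par hD hk) ui).mp hui
    obtain ⟨b, hb, u1', hu1', e1⟩ := ih _ (genPar_le_pos hu1)
    have hσlt := reflWord_lt J H.nS hl0 hpk
    -- the conjugation by `n_k⁻¹` maps `U⁻(l0)` into `U⁻(l0 ++ [k])`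
    have hmap : (UnegW D F l0).map (MulAut.conj (nG D F k)⁻¹).toMonoidHom ≤
        UnegW D F (l0 ++ [k]) := by
      unfold UnegW
      rw [MonoidHom.map_closure, Subgroup.closure_le]
      rintro _ ⟨y, ⟨r, t', hr1, hr2, hr3, hy⟩, rfl⟩
      obtain ⟨ε, he⟩ := rootPerm_conj (rootPerm_nG_inv J V1 H hI hk) hr2 t' y hy
      have hne : r ≠ D.simple k := by
        rintro rfl
        omega
      apply Subgroup.subset_closure
      refine ⟨D.reflectRoot k r, ε * t', (refl_pos J hRP hk).2 r hr2 hr1 hne,
        ((nS_props J H.nS hk).2.2 r hr2).1, ?_, he⟩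
      rw [reflWord_append]
      have h2 : reflWord D [k] (D.reflectRoot k r) = D.reflectRoot k (D.reflectRoot k r) := rfl
      rw [h2, refl_invol J hI hk hr2]
      exact hr3
    have hgU : g ∈ UnegW D F (l0 ++ [k]) := by
      apply Subgroup.subset_closure
      refine ⟨D.simple k, t, hkpos, hpk, ?_, hgm⟩
      rw [reflWord_append]
      have h2 : reflWord D [k] (D.simple k) = D.neg (D.simple k) := reflectRoot_simple k
      rw [h2, reflWord_neg J H.nS hl0 hpk, V.neg_eq _ hσlt]
      have := V.even
      omega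
    have hcU : (nG D F k)⁻¹ * u1' * (nG D F k)⁻¹⁻¹ ∈ UnegW D F (l0 ++ [k]) :=
      hmap ⟨u1', hu1', rfl⟩
    refine ⟨b, hb, (nG D F k)⁻¹ * u1' * (nG D F k)⁻¹⁻¹ * g, mul_mem hcU hgU, ?_⟩
    rw [nP_append, nP_cons, nP_nil, mul_one]
    calc nP D F l0 * nG D F k * (ui * g)
        = (nP D F l0 * (nG D F k * ui * (nG D F k)⁻¹)) * nG D F k * g := by group
      _ = b * nP D F l0 * u1' * nG D F k * g := by rw [e1]
      _ = b * (nP D F l0 * nG D F k) * ((nG D F k)⁻¹ * u1' * (nG D F k)⁻¹⁻¹ * g) := by group

end

end Cfsg.Agent.Lib.Helper8.Chev
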