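import Cfsg.Agent.Lib.Helper8.ChevBr1

set_option autoImplicit false

namespace Cfsg.Agent.Lib.Helper8.Chev

open Cfsg.Lie Matrix Cfsg.Agent.Lib.Helper3

section

variable {D : ChevalleyDatum} {F : Type*} [Field F]

/-- the subgroup `U_n⁻` of the statement -/
def UnegS (D : ChevalleyDatum) (F : Type*) [Field F] (n : GL D.Idx F) : Subgroup (GL D.Idx F) :=
  Subgroup.closure {x : GL D.Idx F | ∃ (r : ℕ) (t : F), D.IsPosRoot r ∧
    (D.rootSubgroup F r).map (MulAut.conj n).toMonoidHom ≤ D.negUnipotent F ∧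
    (x : Matrix D.Idx D.Idx F) = D.x F r t}

theorem unegW_le_unegS (hD : D ∈ [chevG2, chevB2, chevD4, chevF4, chevE6, chevE7, chevE8])
    {l : List ℕ} (hl : ∀ i ∈ l, i < D.rank) : UnegW D F l ≤ UnegS D F (nP D F l) := by
  have V := valid0_of_mem hD
  have V1 := valid1_of_mem hD
  have J := validJ_of_mem hD
  have H := validH_of_mem hD
  have P := posP_of_mem hD
  have hP := (rootPermN_nP (F := F) J V1 H.nS l hl).rootPerm
  unfold UnegW UnegS
  apply Subgroup.closure_mono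
  rintro x ⟨r, t, hr1, hr2, hr3, hx⟩
  refine ⟨r, t, (P r hr2).1.mpr hr1, ?_, hx⟩
  unfold ChevalleyDatum.rootSubgroup
  rw [MonoidHom.map_closure, Subgroup.closure_le]
  rintro _ ⟨y, ⟨t', hy⟩, rfl⟩
  obtain ⟨ε, he⟩ := rootPerm_conj hP hr2 t' y hy
  exact Subgroup.subset_closure ⟨_, _, (P _ (hP r hr2).1).2.mpr hr3, he⟩

theorem unegS_le_pos : ∀ n : GL D.Idx F, UnegS D F n ≤ D.posUnipotent F := by
  intro n
  unfold UnegS ChevalleyDatum.posUnipotent
  apply Subgroup.closure_mono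
  rintro x ⟨r, t, hr, _, hx⟩
  exact ⟨r, t, hr, hx⟩

theorem conj_unegS_le_neg (n : GL D.Idx F) :
    (UnegS D F n).map (MulAut.conj n).toMonoidHom ≤ D.negUnipotent F := by
  unfold UnegS
  rw [MonoidHom.map_closure, Subgroup.closure_le]
  rintro _ ⟨x, ⟨r, t, hr, hle, hx⟩, rfl⟩
  exact hle ⟨x, x_mem_rootSubgroup t x hx, rfl⟩

/-- `B = H U` -/
theorem borel_decomp' (J : ValidJ D) (V1 : Valid1 D) (H : ValidH D) {b : GL D.Idx F}
    (hb : b ∈ D.borelSubgroup F) :
    ∃ h ∈ D.diagonalSubgroup F, ∃ u ∈ D.posUnipotent F, b = h * u := by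
  obtain ⟨u, hu, h, hh, e⟩ := borel_decomp J V1 H (inv_mem hb)
  refine ⟨h⁻¹, inv_mem hh, u⁻¹, inv_mem hu, ?_⟩
  rw [← _root_.mul_inv_rev, ← e, inv_inv]

/-- the canonical form: existence -/
theorem bruhat_exists_chev (hD : D ∈ [chevG2, chevB2, chevD4, chevF4, chevE6, chevE7, chevE8])
    {g : GL D.Idx F} (hg : g ∈ D.group F) :
    ∃ b ∈ D.borelSubgroup F, ∃ n ∈ D.monomialSubgroup F, ∃ u ∈ UnegS D F n, g = b * n * u := by
  have V := valid0_of_mem hD
  have V1 := valid1_of_mem hD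
  have J := validJ_of_mem hD
  have H := validH_of_mem hD
  obtain ⟨n, hn, hgC⟩ := BN.bruhat_exists (chevBN hD F) ⟨g, hg⟩
  rw [BN.mem_C] at hgC
  obtain ⟨b1, hb1, b2, hb2, e⟩ := hgC
  rw [mem_chevBN_B] at hb1 hb2
  rw [mem_chevBN_N] at hn
  have e' : g = (b1 : GL D.Idx F) * (n : GL D.Idx F) * (b2 : GL D.Idx F) := by
    have := congrArg Subtype.val e
    simpa using this
  obtain ⟨h0, hh0, l, hl, en⟩ := monomial_form hD hn
  obtain ⟨h1, hh1, l', hg', _, el⟩ := exists_good (F := F) hD l.length l le_rfl hl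
  have hl' := hg'.lt
  obtain ⟨h2, hh2, u2, hu2, eb⟩ := borel_decomp' J V1 H hb2
  obtain ⟨b, hb, u', hu', ec⟩ := good_claim (F := F) hD hg' u2 hu2
  have hc : nP D F l' * h2 * (nP D F l')⁻¹ ∈ D.diagonalSubgroup F :=
    (Subgroup.mem_normalizer_iff.mp (monomial_le_normalizer hD (nP_mem_monomial hD hl')) h2).mp hh2
  refine ⟨(b1 : GL D.Idx F) * h0 * h1 * (nP D F l' * h2 * (nP D F l')⁻¹) * b, ?_, nP D F l',
    nP_mem_monomial hD hl', u', unegW_le_unegS hD hl' hu', ?_⟩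
  · exact mul_mem (mul_mem (mul_mem (mul_mem hb1 (diagonal_le_borel hh0)) (diagonal_le_borel hh1))
      (diagonal_le_borel hc)) hb
  · rw [e', en, el, eb]
    calc (b1 : GL D.Idx F) * (h0 * (h1 * nP D F l')) * (h2 * u2)
        = (b1 : GL D.Idx F) * h0 * h1 * (nP D F l' * h2 * (nP D F l')⁻¹) * (nP D F l' * u2) := by
          group
      _ = (b1 : GL D.Idx F) * h0 * h1 * (nP D F l' * h2 * (nP D F l')⁻¹) *
            (b * nP D F l' * u') := by rw [ec]
      _ = (b1 : GL D.Idx F) * h0 * h1 * (nP D F l' * h2 * (nP D F l')⁻¹) * b * nP D F l' * u' := by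
          group

/-- the canonical form: uniqueness -/
theorem bruhat_unique_chev (hD : D ∈ [chevG2, chevB2, chevD4, chevF4, chevE6, chevE7, chevE8])
    {b b' n n' u u' : GL D.Idx F} (hb : b ∈ D.borelSubgroup F) (hb' : b' ∈ D.borelSubgroup F)
    (hn : n ∈ D.monomialSubgroup F) (hn' : n' ∈ D.monomialSubgroup F) (hu : u ∈ UnegS D F n)
    (hu' : u' ∈ UnegS D F n') (e : b * n * u = b' * n' * u') :
    n⁻¹ * n' ∈ D.diagonalSubgroup F ∧ (n = n' → b = b' ∧ u = u') := by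
  have V := valid0_of_mem hD
  have V1 := valid1_of_mem hD
  have J := validJ_of_mem hD
  have H := validH_of_mem hD
  have P := posP_of_mem hD
  have Tr := triP_of_mem hD
  have hnG := monomial_le_group V V1 hn
  have hnG' := monomial_le_group V V1 hn'
  have huB := pos_le_borel (unegS_le_pos n hu)
  have huB' := pos_le_borel (unegS_le_pos n' hu')
  constructor
  · -- the double cosets coincide
    have hmem : (⟨n', hnG'⟩ : ↥(D.group F)) ∈ BN.C (chevBN hD F) ⟨n, hnG⟩ := by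
      rw [BN.mem_C]
      refine ⟨⟨b'⁻¹ * b, borel_le_group V V1 (mul_mem (inv_mem hb') hb)⟩,
        (mem_chevBN_B hD).mpr (mul_mem (inv_mem hb') hb),
        ⟨u * u'⁻¹, borel_le_group V V1 (mul_mem huB (inv_mem huB'))⟩,
        (mem_chevBN_B hD).mpr (mul_mem huB (inv_mem huB')), ?_⟩
      apply Subtype.ext
      show n' = b'⁻¹ * b * n * (u * u'⁻¹)
      have : n' = b'⁻¹ * (b' * n' * u') * u'⁻¹ := by group
      rw [this, ← e]
      group
    have hrel := BN.rel_of_mem_C (chevBN hD F) ((mem_chevBN_N hD).mpr hn)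
      ((mem_chevBN_N hD).mpr hn') hmem
    have hB : n⁻¹ * n' ∈ D.borelSubgroup F := by
      have := (mem_chevBN_B hD).mp hrel
      simpa using this
    have hN : n⁻¹ * n' ∈ D.monomialSubgroup F := mul_mem (inv_mem hn) hn'
    rw [← borel_inf_monomial hD]
    exact ⟨hB, hN⟩
  · intro hnn
    subst hnn
    have h1 : b'⁻¹ * b = n * (u' * u⁻¹) * n⁻¹ := by
      have : b'⁻¹ * b = b'⁻¹ * (b * n * u) * u⁻¹ * n⁻¹ := by group
      rw [this, e]
      group
    have hV : n * (u' * u⁻¹) * n⁻¹ ∈ D.negUnipotent F :=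
      conj_unegS_le_neg n ⟨u' * u⁻¹, mul_mem hu' (inv_mem hu), rfl⟩
    have hB' : b'⁻¹ * b ∈ D.borelSubgroup F := mul_mem (inv_mem hb') hb
    have hV' : b'⁻¹ * b ∈ D.negUnipotent F := by rw [h1]; exact hV
    have hmem : b'⁻¹ * b ∈ D.borelSubgroup F ⊓ D.negUnipotent F := ⟨hB', hV'⟩
    rw [borel_inf_neg J V1 H Tr P, Subgroup.mem_bot] at hmem
    have hbb : b = b' := by
      have : b = b' * (b'⁻¹ * b) := by group
      rw [this, hmem, mul_one]
    refine ⟨hbb, ?_⟩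
    subst hbb
    exact mul_left_cancel e

end

end Cfsg.Agent.Lib.Helper8.Chev
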