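import Cfsg.Agent.Lib.Helper8.ChevBr2

set_option autoImplicit false

namespace Cfsg.Agent.Lib.Helper8.Chev

open Cfsg.Lie Matrix Cfsg.Agent.Lib.Helper3

section

variable {D : ChevalleyDatum} {F : Type*} [Field F]

theorem torus_conj_unegS (hD : D ∈ [chevG2, chevB2, chevD4, chevF4, chevE6, chevE7, chevE8])
    (n : GL D.Idx F) {k : GL D.Idx F} (hk : k ∈ D.diagonalSubgroup F) {u : GL D.Idx F}
    (hu : u ∈ UnegS D F n) : k * u * k⁻¹ ∈ UnegS D F n := by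
  have V := valid0_of_mem hD
  have V1 := valid1_of_mem hD
  have J := validJ_of_mem hD
  have H := validH_of_mem hD
  have hmap : (UnegS D F n).map (MulAut.conj k).toMonoidHom ≤ UnegS D F n := by
    unfold UnegS
    rw [MonoidHom.map_closure, Subgroup.closure_le]
    rintro _ ⟨x, ⟨r, t, hr, hle, hx⟩, rfl⟩
    obtain ⟨c, hc⟩ := torus_conj_x V (torusLike_of_mem J V1 H hk) hr.1
    exact Subgroup.subset_closure ⟨r, c * t, hr, hle, hc t x hx⟩
  exact hmap ⟨u, hu, rfl⟩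

/-- elements of `H` conjugate in `G` are conjugate under `N` -/
theorem diagonal_conj (hD : D ∈ [chevG2, chevB2, chevD4, chevF4, chevE6, chevE7, chevE8])
    {h₁ h₂ g : GL D.Idx F} (h1 : h₁ ∈ D.diagonalSubgroup F) (h2 : h₂ ∈ D.diagonalSubgroup F)
    (hg : g ∈ D.group F) (hc : g * h₁ * g⁻¹ = h₂) :
    ∃ n ∈ D.monomialSubgroup F, n * h₁ * n⁻¹ = h₂ := by
  have V := valid0_of_mem hD
  have V1 := valid1_of_mem hD
  have J := validJ_of_mem hD
  have H := validH_of_mem hD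
  have P := posP_of_mem hD
  have Tr := triP_of_mem hD
  obtain ⟨b, hb, n, hn, u, hu, e⟩ := bruhat_exists_chev hD hg
  refine ⟨n, hn, ?_⟩
  obtain ⟨u0, hu0, h, hh, eb⟩ := borel_decomp J V1 H hb
  have hk : n * h₁ * n⁻¹ ∈ D.diagonalSubgroup F :=
    (Subgroup.mem_normalizer_iff.mp (monomial_le_normalizer hD hn) h₁).mp h1
  have hu1 : h₁⁻¹ * u * h₁⁻¹⁻¹ ∈ UnegS D F n := torus_conj_unegS hD n (inv_mem h1) hu
  have hgh : g * h₁ = h₂ * g := by
    rw [← hc]; group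
  have e2 : b * (n * h₁ * n⁻¹) * n * (h₁⁻¹ * u * h₁⁻¹⁻¹) = h₂ * b * n * u := by
    have : b * (n * h₁ * n⁻¹) * n * (h₁⁻¹ * u * h₁⁻¹⁻¹) = (b * n * u) * h₁ := by group
    rw [this, ← e, hgh, e]
    group
  have hB1 : b * (n * h₁ * n⁻¹) ∈ D.borelSubgroup F := mul_mem hb (diagonal_le_borel hk)
  have hB2 : h₂ * b ∈ D.borelSubgroup F := mul_mem (diagonal_le_borel h2) hb
  have huniq := (bruhat_unique_chev hD hB1 hB2 hn hn hu1 hu e2).2 rfl
  have e3 := huniq.1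
  rw [eb] at e3
  -- compare the components in `U` and `H`
  have hU : u0⁻¹ * (h₂ * u0 * h₂⁻¹) ∈ D.posUnipotent F := by
    have hnorm := diagonal_le_normalizer_pos J V1 H h2
    exact mul_mem (inv_mem hu0) ((Subgroup.mem_normalizer_iff.mp hnorm u0).mp hu0)
  have e4 : u0⁻¹ * (h₂ * u0 * h₂⁻¹) = h * (n * h₁ * n⁻¹) * (h₂ * h)⁻¹ := by
    have : u0⁻¹ * (h₂ * u0 * h₂⁻¹) = u0⁻¹ * (h₂ * (u0 * h)) * (h₂ * h)⁻¹ := by group
    rw [this, ← e3]
    group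
  have hH : u0⁻¹ * (h₂ * u0 * h₂⁻¹) ∈ D.diagonalSubgroup F := by
    rw [e4]
    exact mul_mem (mul_mem hh hk) (inv_mem (mul_mem h2 hh))
  have h1' : u0⁻¹ * (h₂ * u0 * h₂⁻¹) ∈ D.posUnipotent F ⊓ D.diagonalSubgroup F := ⟨hU, hH⟩
  rw [pos_inf_diagonal J V1 H Tr P, Subgroup.mem_bot] at h1'
  rw [h1'] at e4
  have e5 : h * (n * h₁ * n⁻¹) = h₂ * h := by
    have : h * (n * h₁ * n⁻¹) = (h * (n * h₁ * n⁻¹) * (h₂ * h)⁻¹) * (h₂ * h) := by group
    rw [this, ← e4, one_mul]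
  have hcomm := diagonal_comm J V1 H h₂ h2 h hh
  rw [hcomm] at e5
  exact mul_left_cancel e5

end

end Cfsg.Agent.Lib.Helper8.Chev
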