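import Cfsg.Agent.Lib.Helper8.ChevB

set_option autoImplicit false

namespace Cfsg.Agent.Lib.Helper8.Chev

open Cfsg.Lie Matrix

variable {D : ChevalleyDatum}

/-! ### `chainCoeff` versus `chainEntry` -/

theorem filter_eq_find?_toList {α : Type*} (f : α → ℕ) (s : ℕ) :
    ∀ (l : List α), (l.map f).Nodup →
      l.filter (fun e => decide (f e = s)) = (l.find? (fun e => decide (f e = s))).toList
  | [], _ => rfl
  | a :: l, h => by
    rw [List.map_cons, List.nodup_cons] at h
    by_cases ha : f a = s
    · rw [List.filter_cons_of_pos (by simpa using ha), List.find?_cons_of_pos (by simpa using ha)]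
      simp only [Option.toList_some, List.cons.injEq, true_and]
      rw [List.filter_eq_nil_iff]
      intro b hb
      simp only [decide_eq_true_eq]
      intro hbs
      exact h.1 (List.mem_map.mpr ⟨b, hb, by rw [hbs, ha]⟩)
    · rw [List.filter_cons_of_neg (by simpa using ha), List.find?_cons_of_neg (by simpa using ha)]
      exact filter_eq_find?_toList f s l h.2

theorem chainEntry_eq (D : ChevalleyDatum) (r s : ℕ) :
    D.chainEntry r s = match (row D r).find? (fun e => decide (e.1 = s)) with
      | none => []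
      | some e => e.2.toList := rfl

theorem chainCoeff_eq (V : Valid0 D) {r : ℕ} (hr : r < D.nroots) (s u : ℕ) :
    D.chainCoeff r s u =
      (((D.chainEntry r s).zipIdx).filter (fun q => decide (q.1.1 = u))).map
        fun q => (q.2 + 1, q.1.2) := by
  have h1 : (D.chain.getD r #[]).toList.filter (fun e => decide (e.1 = s)) =
      ((row D r).find? (fun e => decide (e.1 = s))).toList :=
    filter_eq_find?_toList Prod.fst s (row D r) (V.keys_nodup r hr)
  unfold ChevalleyDatum.chainCoeff
  rw [h1, chainEntry_eq]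
  cases (row D r).find? (fun e => decide (e.1 = s)) with
  | none => rfl
  | some e => simp

theorem chainEntry_mem (D : ChevalleyDatum) {r s : ℕ} (h : D.chainEntry r s ≠ []) :
    ∃ e ∈ row D r, e.1 = s ∧ e.2.toList = D.chainEntry r s := by
  rw [chainEntry_eq] at h ⊢
  cases hf : (row D r).find? (fun e => decide (e.1 = s)) with
  | none => rw [hf] at h; exact absurd rfl h
  | some e =>
    refine ⟨e, List.mem_of_find?_eq_some hf, ?_, rfl⟩
    have := List.find?_some hf
    simpa using this

theorem chainEntry_of_mem (V : Valid0 D) {r : ℕ} (hr : r < D.nroots) {e : ℕ × Array (ℕ × ℤ)}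
    (he : e ∈ row D r) : D.chainEntry r e.1 = e.2.toList := by
  rw [chainEntry_eq]
  have hnd := V.keys_nodup r hr
  cases hf : (row D r).find? (fun e' => decide (e'.1 = e.1)) with
  | none =>
    rw [List.find?_eq_none] at hf
    exact absurd (by simp) (hf e he)
  | some e' =>
    have h1 : e'.1 = e.1 := by simpa using List.find?_some hf
    have h2 : e' ∈ row D r := List.mem_of_find?_eq_some hf
    have : e' = e := by
      have hinj := List.inj_on_of_nodup_map hnd
      exact hinj h2 he h1
    rw [this]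

/-! ### The action of `x_r(t)` on the basis vectors -/

/-- the vector `Σ_k M_{r,s,k} t^k e_{kr+s}` (k ≥ 1) -/
def chainVec (D : ChevalleyDatum) (R : Type*) [CommRing R] (r s : ℕ) (t : R) : D.Idx → R :=
  (((D.chainEntry r s).zipIdx).map fun q => (((q.1.2 : ℤ) : R) * t ^ (q.2 + 1)) • E D R q.1.1).sum

theorem list_sum_apply {ι : Type*} {R : Type*} [AddCommMonoid R] (l : List (ι → R)) (i : ι) :
    l.sum i = (l.map fun f => f i).sum := by
  induction l with
  | nil => rfl
  | cons a l ih => simp [ih]

theorem chainVec_apply_inl (R : Type*) [CommRing R] (r s : ℕ) (t : R) (i : Fin D.rank) :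
    chainVec D R r s t (Sum.inl i) = 0 := by
  unfold chainVec
  rw [list_sum_apply, List.map_map]
  apply List.sum_eq_zero
  intro x hx
  rw [List.mem_map] at hx
  obtain ⟨q, _, rfl⟩ := hx
  simp

theorem sum_map_filter_aux {α : Type*} {R : Type*} [CommRing R] (l : List α) (p : α → Prop)
    [DecidablePred p] (f : α → R) :
    ((l.filter (fun q => decide (p q))).map f).sum =
      (l.map fun q => f q * (if p q then 1 else 0)).sum := by
  induction l with
  | nil => rfl
  | cons a l ih =>
    by_cases ha : p a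
    · rw [List.filter_cons_of_pos (by simpa using ha)]
      simp [ih, ha]
    · rw [List.filter_cons_of_neg (by simpa using ha)]
      simp [ih, ha]

theorem chainVec_apply_inr (V : Valid0 D) (R : Type*) [CommRing R] {r : ℕ} (hr : r < D.nroots)
    (s : ℕ) (t : R) (u : Fin D.nroots) :
    chainVec D R r s t (Sum.inr u) =
      ((D.chainCoeff r s u.val).map fun km => ((km.2 : ℤ) : R) * t ^ km.1).sum := by
  rw [chainCoeff_eq V hr, List.map_map]
  unfold chainVec
  rw [list_sum_apply, List.map_map]
  have := sum_map_filter_aux ((D.chainEntry r s).zipIdx) (fun q => q.1.1 = u.val)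
    (fun q => ((q.1.2 : ℤ) : R) * t ^ (q.2 + 1))
  simp only [Function.comp_def] at this ⊢
  rw [this]
  congr 1
  apply List.map_congr_left
  intro q _
  simp only [Pi.smul_apply, smul_eq_mul, E_apply_inr]
  congr 1
  by_cases h : q.1.1 = u.val
  · rw [if_pos h, if_pos h.symm]
  · rw [if_neg h, if_neg (fun h' => h h'.symm)]

variable (V : Valid0 D) (R : Type*) [CommRing R]

/-- `x_r(t) h_{p_i} = h_{p_i} - A_{p_i,r} t e_r` -/
theorem xN_mulVec_Hb {r : ℕ} (hr : r < D.nroots) (t : R) {i : ℕ} (hi : i < D.rank) :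
    xN D R r t *ᵥ Hb D R i = Hb D R i - ((D.cartan i r : R) * t) • E D R r := by
  funext idx
  rw [mulVec_Hb _ hi]
  unfold xN
  rw [dif_pos hr]
  rcases idx with i' | u
  · simp only [xR, Matrix.of_apply, Pi.sub_apply, Pi.smul_apply, E_apply_inl, smul_zero, sub_zero,
      Hb_apply_inl]
    by_cases h : i' = ⟨i, hi⟩
    · subst h; simp
    · rw [if_neg h, if_neg]
      intro h'; apply h; exact Fin.ext h'
  · simp only [xR, Matrix.of_apply, Pi.sub_apply, Pi.smul_apply, Hb_apply_inr, zero_sub,
      E_apply_inr, smul_eq_mul]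
    by_cases h : u = ⟨r, hr⟩
    · subst h; simp [ChevalleyDatum.cartan]
    · rw [if_neg h, if_neg]
      · simp
      · intro h'; apply h; exact Fin.ext h'

/-- `x_r(t) e_r = e_r` -/
theorem xN_mulVec_E_self {r : ℕ} (hr : r < D.nroots) (t : R) :
    xN D R r t *ᵥ E D R r = E D R r := by
  funext idx
  rw [mulVec_E _ hr]
  unfold xN
  rw [dif_pos hr]
  rcases idx with i' | u
  · simp [xR]
  · simp only [xR, Matrix.of_apply, if_true, E_apply_inr]
    by_cases h : u = ⟨r, hr⟩
    · subst h; simp
    · rw [if_neg h, if_neg]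
      intro h'; apply h; exact Fin.ext h'

include V

/-- `x_r(t) e_{-r} = e_{-r} + t h_r - t² e_r` -/
theorem xN_mulVec_E_neg {r : ℕ} (hr : r < D.nroots) (t : R) :
    xN D R r t *ᵥ E D R (D.neg r) = E D R (D.neg r) + t • Hr D R r - t ^ 2 • E D R r := by
  funext idx
  rw [mulVec_E _ (V.neg_lt hr)]
  unfold xN
  rw [dif_pos hr]
  have hne : (⟨D.neg r, V.neg_lt hr⟩ : Fin D.nroots) ≠ ⟨r, hr⟩ := by
    intro h; exact V.neg_ne hr (Fin.mk.inj_iff.mp h)
  rcases idx with i' | u
  · simp only [xR, Matrix.of_apply, if_neg hne, Pi.add_apply, Pi.sub_apply, Pi.smul_apply,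
      E_apply_inl, Hr_apply_inl, smul_zero, sub_zero, zero_add, smul_eq_mul]
    rw [if_pos (by rfl)]
    simp only [cor]
    ring
  · simp only [xR, Matrix.of_apply, if_neg hne, Pi.add_apply, Pi.sub_apply, Pi.smul_apply,
      E_apply_inr, Hr_apply_inr, smul_zero, add_zero, smul_eq_mul]
    rw [if_pos (by rfl)]
    by_cases h1 : u = ⟨D.neg r, V.neg_lt hr⟩
    · subst h1
      rw [if_pos rfl, if_pos rfl, if_neg (V.neg_ne hr)]
      ring
    · have h1' : ¬ u.val = D.neg r := fun h' => h1 (Fin.ext h')
      rw [if_neg h1, if_neg h1']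
      by_cases h2 : u = ⟨r, hr⟩
      · subst h2; rw [if_pos rfl, if_pos rfl]; ring
      · have h2' : ¬ u.val = r := fun h' => h2 (Fin.ext h')
        rw [if_neg h2, if_neg h2']; ring

/-- `x_r(t) e_s = e_s + Σ_k M_{r,s,k} t^k e_{kr+s}` for `s ≠ ±r` -/
theorem xN_mulVec_E {r : ℕ} (hr : r < D.nroots) (t : R) {s : ℕ} (hs : s < D.nroots)
    (h1 : s ≠ r) (h2 : s ≠ D.neg r) :
    xN D R r t *ᵥ E D R s = E D R s + chainVec D R r s t := by
  funext idx
  rw [mulVec_E _ hs]
  unfold xN
  rw [dif_pos hr]
  have hne : (⟨s, hs⟩ : Fin D.nroots) ≠ ⟨r, hr⟩ := by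
    intro h; exact h1 (Fin.mk.inj_iff.mp h)
  rcases idx with i' | u
  · simp only [xR, Matrix.of_apply, if_neg hne, Pi.add_apply, E_apply_inl, zero_add,
      chainVec_apply_inl]
    rw [if_neg]
    exact h2
  · simp only [xR, Matrix.of_apply, if_neg hne, Pi.add_apply, E_apply_inr]
    rw [if_neg (by exact h2), chainVec_apply_inr V R hr]
    congr 1
    by_cases h : u = ⟨s, hs⟩
    · subst h; simp
    · rw [if_neg h, if_neg]
      intro h'; apply h; exact Fin.ext h'

end Cfsg.Agent.Lib.Helper8.Chev
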