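import Cfsg.Agent.Lib.Helper8.ChevX5

set_option autoImplicit false

namespace Cfsg.Agent.Lib.Helper8.Chev

open Cfsg.Lie Matrix

/-! ### A small verified calculator: words in root elements with monomial arguments acting on
sparse vectors with Laurent polynomial coefficients in two variables -/

/-- a term `coef · T^a U^b · (basis vector of the code)` : `(code, a, b, coef)` -/
abbrev Term := ℕ × ℤ × ℤ × ℤ

/-- a monomial argument `coef · T^a U^b` : `(a, b, coef)` -/
abbrev Mono := ℤ × ℤ × ℤ

section Sem

variable (D : ChevalleyDatum) {R : Type*} [CommRing R] (T U : Rˣ)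

/-- value of a monomial `T^a U^b` -/
def chi (a b : ℤ) : R := ((T ^ a * U ^ b : Rˣ) : R)

theorem chi_add (a b a' b' : ℤ) : chi T U (a + a') (b + b') = chi T U a b * chi T U a' b' := by
  unfold chi
  rw [← Units.val_mul, _root_.zpow_add, _root_.zpow_add]
  congr 1
  rw [mul_mul_mul_comm]

theorem chi_zero : chi T U 0 0 = 1 := by simp [chi]

theorem chi_nsmul (k : ℕ) (a b : ℤ) : chi T U (k * a) (k * b) = chi T U a b ^ k := by
  unfold chi
  rw [← Units.val_pow_eq_pow_val, mul_pow, ← zpow_natCast, ← zpow_natCast, ← _root_.zpow_mul,
    ← _root_.zpow_mul, mul_comm a, mul_comm b]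

/-- value of a monomial argument -/
def evalM (q : Mono) : R := (q.2.2 : R) * chi T U q.1 q.2.1

/-- value of a list of terms -/
def svT (v : List Term) : D.Idx → R :=
  (v.map fun e => ((e.2.2.2 : R) * chi T U e.2.1 e.2.2.1) • Bv D R e.1).sum

variable {D T U}

@[simp] theorem svT_nil : svT D T U [] = 0 := rfl

theorem svT_cons (e : Term) (v : List Term) :
    svT D T U (e :: v) = ((e.2.2.2 : R) * chi T U e.2.1 e.2.2.1) • Bv D R e.1 + svT D T U v := by
  simp [svT]

theorem svT_append (v w : List Term) : svT D T U (v ++ w) = svT D T U v + svT D T U w := by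
  simp [svT]

theorem svT_flatMap {α : Type*} (l : List α) (f : α → List Term) :
    svT D T U (l.flatMap f) = (l.map fun a => svT D T U (f a)).sum := by
  induction l with
  | nil => simp
  | cons a l ih => rw [List.flatMap_cons, svT_append, ih]; simp

end Sem

/-! ### Columns of the root elements -/

section Col

/-- the column of `x_r(·)` at the basis vector of code `c`, as a list of `(target, coefficient, power)`;
`ce` is the chain entry of `(r, c)`, `co` the coroot of `r`, `ca` the Cartan integers `A_{p_i, r}` -/
def xCol (n rk : ℕ) (ce : ℕ → List (ℕ × ℤ)) (co ca : ℕ → ℤ) (r c : ℕ) : List (ℕ × ℤ × ℕ) :=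
  if c < n then
    if c = r then [(c, 1, 0)]
    else if c + r + 1 = n then
      (c, 1, 0) :: (((List.range rk).map fun i => (n + i, co i, 1)) ++ [(r, -1, 2)])
    else (c, 1, 0) :: ((ce c).zipIdx.map fun q => (q.1.1, q.1.2, q.2 + 1))
  else if c < n + rk then [(c, 1, 0), (r, - ca (c - n), 1)] else []

variable {D : ChevalleyDatum} {R : Type*} [CommRing R]

theorem Bv_of_ge {c : ℕ} (hc : D.nroots + D.rank ≤ c) : Bv D R c = 0 := by
  unfold Bv
  rw [if_neg (by omega)]
  unfold Hb
  rw [dif_neg (by omega)]

/-- the action of `x_r(x)` on a basis vector, read off the column -/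
theorem xN_mulVec_Bv (V : Valid0 D) {r : ℕ} (hr : r < D.nroots) (x : R) (c : ℕ) :
    xN D R r x *ᵥ Bv D R c =
      ((xCol D.nroots D.rank (D.chainEntry r) (cor D r) (fun i => D.cartan i r) r c).map
        fun e => ((e.2.1 : R) * x ^ e.2.2) • Bv D R e.1).sum := by
  unfold xCol
  by_cases hc : c < D.nroots
  · rw [if_pos hc, Bv_of_lt hc]
    by_cases h1 : c = r
    · subst h1
      rw [if_pos rfl, xN_mulVec_E_self R hc]
      simp [Bv_of_lt hc]
    · rw [if_neg h1]
      by_cases h2 : c + r + 1 = D.nroots
      · have hcn : c = D.neg r := by rw [V.neg_eq r hr]; omega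
        rw [if_pos h2, hcn, xN_mulVec_E_neg V R hr]
        simp only [List.map_cons, List.map_append, List.map_map, List.sum_cons, List.sum_append,
          List.map_nil, List.sum_nil, add_zero, Int.cast_one, pow_zero, mul_one, one_smul,
          Int.cast_neg, neg_mul, one_mul, neg_smul]
        rw [Bv_of_lt (V.neg_lt hr), Bv_of_lt hr, Hr_eq_sum, sub_eq_add_neg, add_assoc]
        congr 2
        rw [Finset.smul_sum]
        have : ∀ (m : ℕ), (List.map ((fun e : ℕ × ℤ × ℕ => ((e.2.1 : R) * x ^ e.2.2) • Bv D R e.1) ∘
            fun i => (D.nroots + i, cor D r i, 1)) (List.range m)).sum =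
            ∑ i ∈ Finset.range m, x • ((cor D r i : R) • Hb D R i) := by
          intro m
          induction m with
          | zero => simp
          | succ m ih =>
            rw [List.range_succ, List.map_append, List.sum_append, ih, Finset.sum_range_succ]
            simp [Bv_add, smul_smul, mul_comm]
        exact (this D.rank).symm
      · have hcn : c ≠ D.neg r := by rw [V.neg_eq r hr]; omega
        rw [if_neg h2, xN_mulVec_E V R hr x hc h1 hcn]
        simp only [List.map_cons, List.sum_cons, Int.cast_one, pow_zero, mul_one, one_smul,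
          List.map_map, Bv_of_lt hc]
        congr 1
        unfold chainVec
        congr 1
        apply List.map_congr_left
        intro q hq
        simp only [Function.comp_apply]
        have := List.mem_zipIdx hq
        have hget : (D.chainEntry r c)[q.2]? = some (q.1.1, q.1.2) := by
          rw [List.getElem?_eq_getElem (by omega)]
          simp only [Nat.sub_zero] at this
          rw [← this.2.2]
        rw [Bv_of_lt (chainEntry_tgt V hr hget).1]
  · rw [if_neg hc]
    by_cases hc2 : c < D.nroots + D.rank
    · rw [if_pos hc2]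
      obtain ⟨i, rfl⟩ : ∃ i, c = D.nroots + i := ⟨c - D.nroots, by omega⟩
      have hi : i < D.rank := by omega
      rw [Bv_add, xN_mulVec_Hb R hr x hi]
      simp only [List.map_cons, List.map_nil, List.sum_cons, List.sum_nil, add_zero, Int.cast_one,
        pow_zero, mul_one, one_smul, Bv_add, Nat.add_sub_cancel_left, Int.cast_neg, pow_one,
        neg_mul, neg_smul, Bv_of_lt hr]
      rw [sub_eq_add_neg]
    · rw [if_neg hc2, Bv_of_ge (by omega)]
      simp

end Col

end Cfsg.Agent.Lib.Helper8.Chev
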