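import Cfsg.Agent.Lib.Helper8.ChevCAS1

set_option autoImplicit false

namespace Cfsg.Agent.Lib.Helper8.Chev

open Cfsg.Lie Matrix

/-! ### Applying letters and words to lists of terms -/

/-- apply the letter with argument `q` to a list of terms; `col c` is the column at the code `c` -/
def applyL (col : ℕ → List (ℕ × ℤ × ℕ)) (q : Mono) (v : List Term) : List Term :=
  v.flatMap fun e => (col e.1).map fun f =>
    (f.1, e.2.1 + f.2.2 * q.1, e.2.2.1 + f.2.2 * q.2.1, e.2.2.2 * (f.2.1 * q.2.2 ^ f.2.2))

/-- apply a word (the last letter first) -/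
def applyW (cols : ℕ → ℕ → List (ℕ × ℤ × ℕ)) (w : List (ℕ × Mono)) (v : List Term) : List Term :=
  w.foldr (fun l acc => applyL (cols l.1) l.2 acc) v

/-- the word with its arguments evaluated -/
def evalWd {R : Type*} [CommRing R] (T U : Rˣ) (w : List (ℕ × Mono)) : List (ℕ × R) :=
  w.map fun l => (l.1, evalM T U l.2)

section Sound

variable {D : ChevalleyDatum} {R : Type*} [CommRing R] {T U : Rˣ}

/-- the columns are those of the datum -/
def ColsOK (D : ChevalleyDatum) (cols : ℕ → ℕ → List (ℕ × ℤ × ℕ)) : Prop :=
  ∀ r < D.nroots, ∀ c, cols r c =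
    xCol D.nroots D.rank (D.chainEntry r) (cor D r) (fun i => D.cartan i r) r c

theorem svT_applyL (V : Valid0 D) {cols : ℕ → ℕ → List (ℕ × ℤ × ℕ)} (hcols : ColsOK D cols)
    {r : ℕ} (hr : r < D.nroots) (q : Mono) (v : List Term) :
    svT D T U (applyL (cols r) q v) = xN D R r (evalM T U q) *ᵥ svT D T U v := by
  unfold applyL
  rw [svT_flatMap]
  induction v with
  | nil => simp
  | cons e v ih =>
    rw [List.map_cons, List.sum_cons, ih, svT_cons, Matrix.mulVec_add, Matrix.mulVec_smul,
      xN_mulVec_Bv V hr, hcols r hr]
    congr 1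
    rw [List.smul_sum, List.map_map]
    unfold svT
    rw [List.map_map]
    congr 1
    apply List.map_congr_left
    intro f _
    simp only [Function.comp_apply, smul_smul]
    congr 1
    rw [chi_add, chi_nsmul]
    unfold evalM
    push_cast
    ring

theorem svT_applyW (V : Valid0 D) {cols : ℕ → ℕ → List (ℕ × ℤ × ℕ)} (hcols : ColsOK D cols)
    (w : List (ℕ × Mono)) (hw : ∀ l ∈ w, l.1 < D.nroots) (v : List Term) :
    svT D T U (applyW cols w v) = wN D R (evalWd T U w) *ᵥ svT D T U v := by
  induction w with
  | nil => simp [applyW, evalWd]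
  | cons l w ih =>
    have hw' : ∀ l' ∈ w, l'.1 < D.nroots := fun l' hl' => hw l' (List.mem_cons_of_mem _ hl')
    have : applyW cols (l :: w) v = applyL (cols l.1) l.2 (applyW cols w v) := rfl
    rw [this, svT_applyL V hcols (hw l List.mem_cons_self), ih hw']
    have : evalWd T U (l :: w) = (l.1, evalM T U l.2) :: evalWd T U w := rfl
    rw [this, wN_cons, Matrix.mulVec_mulVec]

end Sound

/-! ### The zero test -/

/-- total coefficient of the key `(c, a, b)` -/
def coeffT (v : List Term) (c : ℕ) (a b : ℤ) : ℤ :=
  ((v.filter fun e => decide (e.1 = c ∧ e.2.1 = a ∧ e.2.2.1 = b)).map fun e => e.2.2.2).sum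

/-- all coefficients cancel -/
def eqzT (v : List Term) : Prop := ∀ e ∈ v, coeffT v e.1 e.2.1 e.2.2.1 = 0

section Zero

variable {D : ChevalleyDatum} {R : Type*} [CommRing R] {T U : Rˣ}

theorem svT_filter_add (p : Term → Bool) (v : List Term) :
    svT D T U v = svT D T U (v.filter p) + svT D T U (v.filter fun e => !p e) := by
  induction v with
  | nil => simp
  | cons e v ih =>
    by_cases h : p e = true
    · rw [List.filter_cons_of_pos h, List.filter_cons_of_neg (by simp [h]), svT_cons, svT_cons, ih]
      abel
    · rw [List.filter_cons_of_neg h, List.filter_cons_of_pos (by simpa using h), svT_cons, svT_cons, ih]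
      abel

theorem svT_same_key (c : ℕ) (a b : ℤ) (v : List Term)
    (h : ∀ e ∈ v, e.1 = c ∧ e.2.1 = a ∧ e.2.2.1 = b) :
    svT D T U v = (((v.map fun e => e.2.2.2).sum : ℤ) : R) • (chi T U a b • Bv D R c) := by
  induction v with
  | nil => simp
  | cons e v ih =>
    have he := h e List.mem_cons_self
    rw [svT_cons, ih (fun e' he' => h e' (List.mem_cons_of_mem _ he')), List.map_cons, List.sum_cons,
      he.1, he.2.1, he.2.2]
    push_cast
    rw [add_smul, smul_smul, smul_smul]

theorem svT_eq_zero : ∀ (n : ℕ) (v : List Term), v.length ≤ n → eqzT v → svT D T U v = 0 := by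
  intro n
  induction n with
  | zero =>
    intro v hv _
    have : v = [] := List.length_eq_zero_iff.mp (by omega)
    rw [this]; rfl
  | succ n ih =>
    intro v hv hz
    cases v with
    | nil => rfl
    | cons e v' =>
      set v := e :: v' with hvdef
      let p : Term → Bool := fun e' => decide (e'.1 = e.1 ∧ e'.2.1 = e.2.1 ∧ e'.2.2.1 = e.2.2.1)
      rw [svT_filter_add p v]
      have h1 : svT D T U (v.filter p) = 0 := by
        rw [svT_same_key e.1 e.2.1 e.2.2.1]
        · have := hz e List.mem_cons_self
          unfold coeffT at this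
          rw [this]; simp
        · intro e' he'
          simpa [p] using (List.mem_filter.mp he').2
      rw [h1, zero_add]
      apply ih
      · have hlt : (v.filter fun e' => !p e').length < v.length := by
          apply List.length_filter_lt_length_iff_exists.mpr
          exact ⟨e, List.mem_cons_self, by simp [p]⟩
        have : v.length = v'.length + 1 := rfl
        omega
      · intro e' he'
        have hmem := List.mem_filter.mp he'
        have := hz e' hmem.1
        unfold coeffT at this ⊢
        rw [List.filter_filter]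
        rw [← this]
        congr 2
        apply List.filter_congr
        intro e'' _
        have hne : ¬ (e'.1 = e.1 ∧ e'.2.1 = e.2.1 ∧ e'.2.2.1 = e.2.2.1) := by
          have := hmem.2
          simp only [p, Bool.not_eq_true', decide_eq_false_iff_not] at this
          exact this
        by_cases hk : e''.1 = e'.1 ∧ e''.2.1 = e'.2.1 ∧ e''.2.2.1 = e'.2.2.1
        · have h3 : ¬ (e''.1 = e.1 ∧ e''.2.1 = e.2.1 ∧ e''.2.2.1 = e.2.2.1) := by
            rw [hk.1, hk.2.1, hk.2.2]; exact hne
          have e1 : p e'' = false := by simp only [p, decide_eq_false_iff_not]; exact h3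
          rw [e1]
          simp [hk]
        · simp [hk]

end Zero

end Cfsg.Agent.Lib.Helper8.Chev
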