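import Cfsg.Agent.Lib.Helper8.ChevCAS2

set_option autoImplicit false

namespace Cfsg.Agent.Lib.Helper8.Chev

open Cfsg.Lie Matrix

/-! ### Kernel-friendly versions -/

noncomputable def zipIdxMapF (l : List (ℕ × ℤ)) : ℕ → List (ℕ × ℤ × ℕ) :=
  @List.rec (ℕ × ℤ) (fun _ => ℕ → List (ℕ × ℤ × ℕ)) (fun _ => [])
    (fun a _ ih k => (a.1, a.2, k + 1) :: ih (k + 1)) l

theorem zipIdxMapF_eq (l : List (ℕ × ℤ)) (k : ℕ) :
    zipIdxMapF l k = (l.zipIdx k).map fun q => (q.1.1, q.1.2, q.2 + 1) := by
  induction l generalizing k with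
  | nil => rfl
  | cons a l ih =>
    show (a.1, a.2, k + 1) :: zipIdxMapF l (k + 1) = _
    rw [ih]; rfl

noncomputable def xColF (n rk : ℕ) (ce : ℕ → List (ℕ × ℤ)) (co ca : ℕ → ℤ) (r c : ℕ) :
    List (ℕ × ℤ × ℕ) :=
  cond (Nat.blt c n)
    (cond (Nat.beq c r) [(c, 1, 0)]
      (cond (Nat.beq (c + r + 1) n)
        ((c, 1, 0) :: appendF (mapF (fun i => (n + i, co i, 1)) (rangeF rk)) [(r, -1, 2)])
        ((c, 1, 0) :: zipIdxMapF (ce c) 0)))
    (cond (Nat.blt c (n + rk)) [(c, 1, 0), (r, - ca (c - n), 1)] [])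

theorem xColF_eq (n rk : ℕ) (ce : ℕ → List (ℕ × ℤ)) (co ca : ℕ → ℤ) (r c : ℕ) :
    xColF n rk ce co ca r c = xCol n rk ce co ca r c := by
  unfold xColF xCol
  by_cases hc : c < n
  · have : Nat.blt c n = true := by rw [Nat.blt_eq]; exact hc
    rw [this, if_pos hc, cond_true]
    by_cases h1 : c = r
    · have : Nat.beq c r = true := by rw [Nat.beq_eq]; exact h1
      rw [this, if_pos h1, cond_true]
    · have : Nat.beq c r = false := by rw [nat_beq_eq_false]; exact h1
      rw [this, if_neg h1, cond_false]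
      by_cases h2 : c + r + 1 = n
      · have : Nat.beq (c + r + 1) n = true := by rw [Nat.beq_eq]; exact h2
        rw [this, if_pos h2, cond_true, appendF_eq, mapF_eq_map, rangeF_eq]
      · have : Nat.beq (c + r + 1) n = false := by rw [nat_beq_eq_false]; exact h2
        rw [this, if_neg h2, cond_false, zipIdxMapF_eq]
  · have : Nat.blt c n = false := by rw [← Bool.not_eq_true, Nat.blt_eq]; exact hc
    rw [this, if_neg hc, cond_false]
    by_cases hc2 : c < n + rk
    · have : Nat.blt c (n + rk) = true := by rw [Nat.blt_eq]; exact hc2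
      rw [this, if_pos hc2, cond_true]
    · have : Nat.blt c (n + rk) = false := by rw [← Bool.not_eq_true, Nat.blt_eq]; exact hc2
      rw [this, if_neg hc2, cond_false]

/-- the columns of a datum, computed from the packed tables -/
noncomputable def colsF (D : ChevalleyDatum) (r c : ℕ) : List (ℕ × ℤ × ℕ) :=
  xColF D.nroots D.rank (lookF (row D r)) (fun i => getZ 5 16 (packC D) r i)
    (fun i => getZ 4 8 (packA D) i r) r c

theorem colsF_ok {D : ChevalleyDatum} (T : ValidT D) : ColsOK D (colsF D) := by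
  intro r hr c
  unfold colsF
  rw [xColF_eq]
  have hce : lookF (row D r) = D.chainEntry r := by funext u; exact lookF_eq D r u
  rw [hce]
  unfold xCol
  by_cases hc : c < D.nroots
  · rw [if_pos hc, if_pos hc]
    by_cases h1 : c = r
    · rw [if_pos h1, if_pos h1]
    · rw [if_neg h1, if_neg h1]
      by_cases h2 : c + r + 1 = D.nroots
      · rw [if_pos h2, if_pos h2]
        congr 2
        apply List.map_congr_left
        intro i hi
        rw [List.mem_range] at hi
        simp only
        rw [T.cor_eq r hr i hi]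
      · rw [if_neg h2, if_neg h2]
  · rw [if_neg hc, if_neg hc]
    by_cases hc2 : c < D.nroots + D.rank
    · rw [if_pos hc2, if_pos hc2]
      simp only
      rw [T.cartan_eq (c - D.nroots) (by omega) r hr]
    · rw [if_neg hc2, if_neg hc2]

noncomputable def applyLF (col : ℕ → List (ℕ × ℤ × ℕ)) (q : Mono) (v : List Term) : List Term :=
  flatMapF (fun e : Term => mapF (fun f : ℕ × ℤ × ℕ =>
    ((f.1, e.2.1 + f.2.2 * q.1, e.2.2.1 + f.2.2 * q.2.1, e.2.2.2 * (f.2.1 * q.2.2 ^ f.2.2)) : Term))
    (col e.1)) v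

theorem applyLF_eq (col : ℕ → List (ℕ × ℤ × ℕ)) (q : Mono) (v : List Term) :
    applyLF col q v = applyL col q v := by
  unfold applyLF applyL
  rw [flatMapF_eq]
  congr 1
  funext e
  rw [mapF_eq_map]

noncomputable def applyWF (cols : ℕ → ℕ → List (ℕ × ℤ × ℕ)) (w : List (ℕ × Mono)) (v : List Term) :
    List Term :=
  @List.rec (ℕ × Mono) (fun _ => List Term) v (fun l _ ih => applyLF (cols l.1) l.2 ih) w

theorem applyWF_eq (cols : ℕ → ℕ → List (ℕ × ℤ × ℕ)) (w : List (ℕ × Mono)) (v : List Term) :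
    applyWF cols w v = applyW cols w v := by
  induction w with
  | nil => rfl
  | cons l w ih =>
    show applyLF (cols l.1) l.2 (applyWF cols w v) = _
    rw [ih, applyLF_eq]; rfl

noncomputable def coeffTF (v : List Term) (c : ℕ) (a b : ℤ) : ℤ :=
  @List.rec Term (fun _ => ℤ) 0
    (fun e _ ih => cond (Nat.beq e.1 c && decide (e.2.1 = a) && decide (e.2.2.1 = b)) (e.2.2.2 + ih) ih) v

theorem coeffTF_eq (v : List Term) (c : ℕ) (a b : ℤ) : coeffTF v c a b = coeffT v c a b := by
  induction v with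
  | nil => rfl
  | cons e v ih =>
    show cond (Nat.beq e.1 c && decide (e.2.1 = a) && decide (e.2.2.1 = b)) (e.2.2.2 + coeffTF v c a b)
      (coeffTF v c a b) = _
    rw [ih]
    unfold coeffT
    by_cases h : e.1 = c ∧ e.2.1 = a ∧ e.2.2.1 = b
    · rw [List.filter_cons_of_pos (by simpa using h)]
      have : (Nat.beq e.1 c && decide (e.2.1 = a) && decide (e.2.2.1 = b)) = true := by
        simp only [Bool.and_eq_true, Nat.beq_eq, decide_eq_true_eq]
        exact ⟨⟨h.1, h.2.1⟩, h.2.2⟩
      rw [this]; simp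
    · rw [List.filter_cons_of_neg (by simpa using h)]
      have : (Nat.beq e.1 c && decide (e.2.1 = a) && decide (e.2.2.1 = b)) = false := by
        rw [← Bool.not_eq_true]
        simp only [Bool.and_eq_true, Nat.beq_eq, decide_eq_true_eq]
        intro h'
        exact h ⟨h'.1.1, h'.1.2, h'.2⟩
      rw [this]; rfl

noncomputable def eqzTF (v : List Term) : Bool :=
  allF (fun e : Term => decide (coeffTF v e.1 e.2.1 e.2.2.1 = 0)) v

theorem eqzTF_eq_true {v : List Term} : eqzTF v = true ↔ eqzT v := by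
  unfold eqzTF eqzT
  rw [allF_eq_true]
  simp only [decide_eq_true_eq, coeffTF_eq]

noncomputable def negTF (v : List Term) : List Term :=
  mapF (fun e : Term => ((e.1, e.2.1, e.2.2.1, -e.2.2.2) : Term)) v

theorem svT_negTF {D : ChevalleyDatum} {R : Type*} [CommRing R] {T U : Rˣ} (v : List Term) :
    svT D T U (negTF v) = - svT D T U v := by
  unfold negTF
  rw [mapF_eq_map]
  induction v with
  | nil => simp
  | cons e v ih =>
    rw [List.map_cons, svT_cons, svT_cons, ih]
    simp only [Int.cast_neg, neg_mul, neg_smul, neg_add_rev]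
    abel

/-! ### Checking a word identity -/

noncomputable def checkWordEq (cols : ℕ → ℕ → List (ℕ × ℤ × ℕ)) (n rk : ℕ)
    (w1 w2 : List (ℕ × Mono)) : Bool :=
  allF (fun l : ℕ × Mono => Nat.blt l.1 n) w1 && allF (fun l : ℕ × Mono => Nat.blt l.1 n) w2 &&
  forallLtF (fun c => eqzTF (appendF (applyWF cols w1 [((c, 0, 0, 1) : Term)])
    (negTF (applyWF cols w2 [((c, 0, 0, 1) : Term)])))) (n + rk)

theorem wordEq_of_check {D : ChevalleyDatum} (V : Valid0 D) {cols : ℕ → ℕ → List (ℕ × ℤ × ℕ)}
    (hcols : ColsOK D cols) {w1 w2 : List (ℕ × Mono)}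
    (h : checkWordEq cols D.nroots D.rank w1 w2 = true) {R : Type*} [CommRing R] (T U : Rˣ) :
    wN D R (evalWd T U w1) = wN D R (evalWd T U w2) := by
  simp only [checkWordEq, Bool.and_eq_true, allF_eq_true, Nat.blt_eq, forallLtF_eq_true,
    eqzTF_eq_true] at h
  obtain ⟨⟨hw1, hw2⟩, h⟩ := h
  have key : ∀ c < D.nroots + D.rank,
      wN D R (evalWd T U w1) *ᵥ Bv D R c = wN D R (evalWd T U w2) *ᵥ Bv D R c := by
    intro c hc
    have h0 := svT_eq_zero (D := D) (T := T) (U := U) _ _ (le_refl _) (h c hc)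
    rw [appendF_eq, svT_append, svT_negTF, applyWF_eq, applyWF_eq, svT_applyW V hcols w1 hw1,
      svT_applyW V hcols w2 hw2] at h0
    have hB : svT D T U [((c, 0, 0, 1) : Term)] = Bv D R c := by
      simp [svT, chi_zero]
    rw [hB] at h0
    exact eq_of_sub_eq_zero (by rw [← h0]; abel)
  apply ext_mulVec
  · intro i hi
    have := key (D.nroots + i) (by omega)
    rwa [Bv_add] at this
  · intro u hu
    have := key u (by omega)
    rwa [Bv_of_lt hu] at this

end Cfsg.Agent.Lib.Helper8.Chev
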