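import Cfsg.Agent.Lib.Helper8.ChevCAS3

set_option autoImplicit false

namespace Cfsg.Agent.Lib.Helper8.Chev

open Cfsg.Lie Matrix

/-! ### Normalisation of lists of terms -/

/-- add a term into a list, merging it with the first term of the same key -/
noncomputable def insT (e : Term) (v : List Term) : List Term :=
  @List.rec Term (fun _ => List Term) [e]
    (fun f tl ih => cond (Nat.beq f.1 e.1 && decide (f.2.1 = e.2.1) && decide (f.2.2.1 = e.2.2.1))
      (((f.1, f.2.1, f.2.2.1, f.2.2.2 + e.2.2.2) : Term) :: tl) (f :: ih)) v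

/-- merge the terms of equal keys -/
noncomputable def normT (v : List Term) : List Term :=
  @List.rec Term (fun _ => List Term) [] (fun e _ ih => insT e ih) v

/-- drop the terms with coefficient zero -/
noncomputable def dropZ (v : List Term) : List Term :=
  @List.rec Term (fun _ => List Term) [] (fun e _ ih => cond (decide (e.2.2.2 = 0)) ih (e :: ih)) v

section

variable {D : ChevalleyDatum} {R : Type*} [CommRing R] {T U : Rˣ}

theorem svT_insT (e : Term) (v : List Term) : svT D T U (insT e v) = svT D T U (e :: v) := by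
  induction v with
  | nil => rfl
  | cons f tl ih =>
    show svT D T U (cond (Nat.beq f.1 e.1 && decide (f.2.1 = e.2.1) && decide (f.2.2.1 = e.2.2.1))
      (((f.1, f.2.1, f.2.2.1, f.2.2.2 + e.2.2.2) : Term) :: tl) (f :: insT e tl)) = _
    cases hc : (Nat.beq f.1 e.1 && decide (f.2.1 = e.2.1) && decide (f.2.2.1 = e.2.2.1)) with
    | true =>
      simp only [Bool.and_eq_true, Nat.beq_eq, decide_eq_true_eq] at hc
      obtain ⟨⟨h1, h2⟩, h3⟩ := hc
      rw [cond_true, svT_cons, svT_cons, svT_cons]
      simp only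
      rw [h1, h2, h3]
      push_cast
      rw [add_mul, add_smul]
      abel
    | false =>
      rw [cond_false, svT_cons, ih, svT_cons, svT_cons, svT_cons]
      abel

theorem svT_normT (v : List Term) : svT D T U (normT v) = svT D T U v := by
  induction v with
  | nil => rfl
  | cons e v ih =>
    show svT D T U (insT e (normT v)) = _
    rw [svT_insT, svT_cons, ih, svT_cons]

theorem svT_dropZ (v : List Term) : svT D T U (dropZ v) = svT D T U v := by
  induction v with
  | nil => rfl
  | cons e v ih =>
    show svT D T U (cond (decide (e.2.2.2 = 0)) (dropZ v) (e :: dropZ v)) = _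
    by_cases h : e.2.2.2 = 0
    · rw [decide_eq_true h, cond_true, ih, svT_cons, h]
      simp
    · rw [decide_eq_false h, cond_false, svT_cons, ih, svT_cons]

end

/-- apply a word, normalising after each letter -/
noncomputable def applyWN (cols : ℕ → ℕ → List (ℕ × ℤ × ℕ)) (w : List (ℕ × Mono)) (v : List Term) :
    List Term :=
  @List.rec (ℕ × Mono) (fun _ => List Term) v (fun l _ ih => dropZ (normT (applyLF (cols l.1) l.2 ih))) w

theorem svT_applyWN {D : ChevalleyDatum} {R : Type*} [CommRing R] {T U : Rˣ} (V : Valid0 D)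
    {cols : ℕ → ℕ → List (ℕ × ℤ × ℕ)} (hcols : ColsOK D cols)
    (w : List (ℕ × Mono)) (hw : ∀ l ∈ w, l.1 < D.nroots) (v : List Term) :
    svT D T U (applyWN cols w v) = wN D R (evalWd T U w) *ᵥ svT D T U v := by
  induction w with
  | nil => simp [applyWN, evalWd]
  | cons l w ih =>
    have hw' : ∀ l' ∈ w, l'.1 < D.nroots := fun l' hl' => hw l' (List.mem_cons_of_mem _ hl')
    have : applyWN cols (l :: w) v = dropZ (normT (applyLF (cols l.1) l.2 (applyWN cols w v))) := rfl
    rw [this, svT_dropZ, svT_normT, applyLF_eq, svT_applyL V hcols (hw l List.mem_cons_self), ih hw']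
    have : evalWd T U (l :: w) = (l.1, evalM T U l.2) :: evalWd T U w := rfl
    rw [this, wN_cons, Matrix.mulVec_mulVec]

def isNilB {α : Type*} : List α → Bool
  | [] => true
  | _ :: _ => false

/-- check that two words agree on the basis vectors of the given codes -/
noncomputable def checkWordEqOn (cols : ℕ → ℕ → List (ℕ × ℤ × ℕ)) (n : ℕ) (codes : List ℕ)
    (w1 w2 : List (ℕ × Mono)) : Bool :=
  allF (fun l : ℕ × Mono => Nat.blt l.1 n) w1 && allF (fun l : ℕ × Mono => Nat.blt l.1 n) w2 &&
  allF (fun c => isNilB (dropZ (normT (appendF (applyWN cols w1 [((c, 0, 0, 1) : Term)])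
    (negTF (applyWN cols w2 [((c, 0, 0, 1) : Term)])))))) codes

theorem wordEqOn_of_check {D : ChevalleyDatum} (V : Valid0 D) {cols : ℕ → ℕ → List (ℕ × ℤ × ℕ)}
    (hcols : ColsOK D cols) {codes : List ℕ} {w1 w2 : List (ℕ × Mono)}
    (h : checkWordEqOn cols D.nroots codes w1 w2 = true) {R : Type*} [CommRing R] (T U : Rˣ) :
    ∀ c ∈ codes, wN D R (evalWd T U w1) *ᵥ Bv D R c = wN D R (evalWd T U w2) *ᵥ Bv D R c := by
  simp only [checkWordEqOn, Bool.and_eq_true, allF_eq_true, Nat.blt_eq] at h
  obtain ⟨⟨hw1, hw2⟩, h⟩ := h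
  intro c hc
  have hnil := h c hc
  have h0 : svT D T U (dropZ (normT (appendF (applyWN cols w1 [((c, 0, 0, 1) : Term)])
      (negTF (applyWN cols w2 [((c, 0, 0, 1) : Term)]))))) = 0 := by
    cases hL : dropZ (normT (appendF (applyWN cols w1 [((c, 0, 0, 1) : Term)])
      (negTF (applyWN cols w2 [((c, 0, 0, 1) : Term)])))) with
    | nil => rfl
    | cons a l => rw [hL] at hnil; simp [isNilB] at hnil
  rw [svT_dropZ, svT_normT, appendF_eq, svT_append, svT_negTF, svT_applyWN V hcols w1 hw1,
    svT_applyWN V hcols w2 hw2] at h0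
  have hB : svT D T U [((c, 0, 0, 1) : Term)] = Bv D R c := by
    simp [svT, chi_zero]
  rw [hB] at h0
  exact eq_of_sub_eq_zero (by rw [← h0]; abel)

/-- check that two words are equal, on all basis vectors -/
noncomputable def checkWordEqN (cols : ℕ → ℕ → List (ℕ × ℤ × ℕ)) (n rk : ℕ)
    (w1 w2 : List (ℕ × Mono)) : Bool :=
  checkWordEqOn cols n (rangeF (n + rk)) w1 w2

theorem wordEqN_of_check {D : ChevalleyDatum} (V : Valid0 D) {cols : ℕ → ℕ → List (ℕ × ℤ × ℕ)}
    (hcols : ColsOK D cols) {w1 w2 : List (ℕ × Mono)}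
    (h : checkWordEqN cols D.nroots D.rank w1 w2 = true) {R : Type*} [CommRing R] (T U : Rˣ) :
    wN D R (evalWd T U w1) = wN D R (evalWd T U w2) := by
  have key := wordEqOn_of_check V hcols h (R := R) T U
  rw [rangeF_eq] at key
  apply ext_mulVec
  · intro i hi
    have := key (D.nroots + i) (List.mem_range.mpr (by omega))
    rwa [Bv_add] at this
  · intro u hu
    have := key u (List.mem_range.mpr (by omega))
    rwa [Bv_of_lt hu] at this

end Cfsg.Agent.Lib.Helper8.Chev
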