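import Cfsg.Agent.Lib.Helper8.ChevCAS4

set_option autoImplicit false

namespace Cfsg.Agent.Lib.Helper8.Chev

open Cfsg.Lie Matrix

/-! ### Words are automorphisms; automorphisms agreeing on generators are equal -/

section Aut

variable {D : ChevalleyDatum} {R : Type*} [CommRing R]

/-- a matrix preserving the bracket -/
def PresBr (D : ChevalleyDatum) (R : Type*) [CommRing R] (M : Matrix D.Idx D.Idx R) : Prop :=
  ∀ y z, M *ᵥ br D R y z = br D R (M *ᵥ y) (M *ᵥ z)

theorem presBr_one : PresBr D R 1 := by
  intro y z; simp

theorem PresBr.mul {M N : Matrix D.Idx D.Idx R} (hM : PresBr D R M) (hN : PresBr D R N) :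
    PresBr D R (M * N) := by
  intro y z
  rw [← Matrix.mulVec_mulVec, hN, hM, Matrix.mulVec_mulVec, Matrix.mulVec_mulVec]

theorem presBr_xN (J : ValidJ D) (V1 : Valid1 D) (r : ℕ) (t : R) : PresBr D R (xN D R r t) := by
  by_cases hr : r < D.nroots
  · have hder : IsDer D ℤ (E D ℤ r) := by
      have := J.der r (by omega)
      rwa [Bv_of_lt hr] at this
    exact fun y z => xN_br J.V V1 hr hder t y z
  · have : xN D R r t = 1 := by unfold xN; rw [dif_neg hr]
    rw [this]; exact presBr_one

theorem presBr_wN (J : ValidJ D) (V1 : Valid1 D) (w : List (ℕ × R)) : PresBr D R (wN D R w) := by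
  induction w with
  | nil => exact presBr_one
  | cons p w ih => rw [wN_cons]; exact (presBr_xN J V1 p.1 p.2).mul ih

end Aut

section Gen

variable {D : ChevalleyDatum} {K : Type*} [Field K] [CharZero K]

/-- two bracket-preserving matrices over a field of characteristic zero that agree on `e_0` and on the
fundamental root vectors are equal -/
theorem eq_of_agree_gen (J : ValidJ D) {M N : Matrix D.Idx D.Idx K} (hM : PresBr D K M)
    (hN : PresBr D K N) (h0 : M *ᵥ Bv D K 0 = N *ᵥ Bv D K 0)
    (hs : ∀ i < D.rank, M *ᵥ Bv D K (D.simple i) = N *ᵥ Bv D K (D.simple i)) : M = N := by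
  have V := J.V
  have hroots : ∀ r < D.nroots, M *ᵥ E D K r = N *ᵥ E D K r := by
    intro r
    induction r using Nat.strong_induction_on with
    | _ r ih =>
      intro hr
      rcases J.G r hr with h | ⟨i, hi, h⟩ | ⟨i, hi, s, hsr, Nc, hNc, L, hL⟩
      · rw [h, ← Bv_of_lt (R := K) (by omega : 0 < D.nroots)]; exact h0
      · rw [h, ← Bv_of_lt (R := K) (J.S i hi).1]; exact hs i hi
      · have hp := (J.S i hi).1
        have hs' : s < D.nroots := by omega
        have hne : s ≠ D.neg (D.simple i) := by
          intro h
          have := chainEntry_mem D (r := D.simple i) (s := s) (by rw [hL]; simp)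
          obtain ⟨e, he, hes, _⟩ := this
          exact V.key_ne_neg _ hp e he (by rw [hes, h])
        have hbr : br D K (E D K (D.simple i)) (E D K s) = ((Nc : ℤ) : K) • E D K r := by
          rw [br_E_E hp hs' hne]
          have hN' : Nrs D (D.simple i) s = Nc := by unfold Nrs; rw [hL]; simp [cm]
          have hS' : sumIdx D (D.simple i) s = r := by unfold sumIdx; rw [hL]; simp [cr]
          rw [hN', hS']
        have e1 : M *ᵥ E D K (D.simple i) = N *ᵥ E D K (D.simple i) := by
          rw [← Bv_of_lt (R := K) hp]; exact hs i hi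
        have e2 := ih s hsr hs'
        have h3 : M *ᵥ (((Nc : ℤ) : K) • E D K r) = N *ᵥ (((Nc : ℤ) : K) • E D K r) := by
          rw [← hbr, hM, hN, e1, e2]
        rw [Matrix.mulVec_smul, Matrix.mulVec_smul] at h3
        have hNc' : ((Nc : ℤ) : K) ≠ 0 := by exact_mod_cast hNc
        exact smul_right_injective _ hNc' h3
  apply ext_mulVec
  · intro i hi
    have hp := (J.S i hi).1
    have : Hr D K (D.simple i) = Hb D K i := by
      rw [Hr_eq_sum]
      rw [Finset.sum_eq_single_of_mem i (Finset.mem_range.mpr hi)]
      · rw [(J.S i hi).2 i hi]; simp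
      · intro j hj hji
        rw [(J.S i hi).2 j (Finset.mem_range.mp hj), if_neg hji]; simp
    rw [← this, ← br_E_neg V hp, hM, hN, hroots _ hp, hroots _ (V.neg_lt hp)]
  · exact hroots

end Gen

/-! ### Transfer from the generic point -/

section Transfer

variable {D : ChevalleyDatum}

theorem wN_transfer_units {σ : Type} (W1 W2 : List (ℕ × MvPolynomial σ ℤ))
    (h : ∀ (K : Type) [Field K] [CharZero K] (v : σ → K), (∀ i, v i ≠ 0) →
      wN D K (evalW v W1) = wN D K (evalW v W2))
    {R : Type*} [CommRing R] (v : σ → R) : wN D R (evalW v W1) = wN D R (evalW v W2) := by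
  let P := MvPolynomial σ ℤ
  let K := FractionRing P
  have : CharZero K := IsFractionRing.charZero_of_isFractionRing P (K := K)
  let ι : P →+* K := algebraMap P K
  have hι : Function.Injective ι := IsFractionRing.injective P K
  have hιeq : ι = MvPolynomial.eval₂Hom (Int.castRingHom K) (fun i => ι (MvPolynomial.X i)) := by
    apply MvPolynomial.ringHom_ext
    · intro z
      simp
    · intro i
      simp
  have h1 := h K (fun i => ι (MvPolynomial.X i)) (by
    intro i
    rw [Ne, ← map_zero ι]
    intro h0
    exact MvPolynomial.X_ne_zero i (hι h0))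
  unfold evalW at h1
  rw [← hιeq, ← map_wN, ← map_wN] at h1
  have h2 : wN D P W1 = wN D P W2 := by
    refine Matrix.ext fun i j => ?_
    have := congrFun (congrFun h1 i) j
    simp only [Matrix.map_apply] at this
    exact hι this
  unfold evalW
  rw [← map_wN, ← map_wN, h2]

end Transfer

end Cfsg.Agent.Lib.Helper8.Chev
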