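import Cfsg.Agent.Lib.Helper8.Weyl2

set_option autoImplicit false

/-! Central elements of a finite reflection group: they fix every fundamental root up to sign, and
for a connected diagram they are the identity or the negation. -/

namespace Cfsg.Agent.Lib.Helper8.Weyl

open Finset

namespace WData

variable {X : WData}

section

variable (hX : X.Ok)
include hX

theorem ng_ng (r : Fin X.n) : X.ng (X.ng r) = r := by
  apply hX.c_inj
  funext k
  rw [hX.c_ng, hX.c_ng, neg_neg]

theorem ng_ne (r : Fin X.n) : X.ng r ≠ r := by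
  intro h
  have := hX.pos_ng r
  rw [h] at this
  tauto

theorem ng_p_ne_p (i j : Fin X.l) : X.ng (X.p i) ≠ X.p j := by
  intro h
  have h1 := (hX.pos_ng (X.p i)).mp (h ▸ hX.p_pos j)
  exact h1 (hX.p_pos i)

/-- a root negated by a fundamental reflection is the fundamental root up to sign -/
theorem eq_p_of_s_eq_ng {i : Fin X.l} {r : Fin X.n} (h : X.s i r = X.ng r) :
    r = X.p i ∨ r = X.ng (X.p i) := by
  by_cases hp : X.pos r
  · left
    by_contra hne
    have h1 := hX.s_pos i r hp hne
    rw [h] at h1
    exact (hX.pos_ng r).mp h1 hp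
  · right
    have hp' : X.pos (X.ng r) := (hX.pos_ng r).mpr hp
    have h2 : X.s i (X.ng r) = X.ng (X.ng r) := by rw [hX.s_ng, h]
    have h3 : X.ng r = X.p i := by
      by_contra hne
      have h1 := hX.s_pos i (X.ng r) hp' hne
      rw [h2] at h1
      exact (hX.pos_ng (X.ng r)).mp h1 hp'
    rw [← h3, ng_ng hX]

/-- a central element maps every fundamental root to itself up to sign -/
theorem central_p {w : Equiv.Perm (Fin X.n)} (hw : w ∈ Subgroup.closure (Set.range X.s))
    (hc : ∀ i, w * X.s i = X.s i * w) (i : Fin X.l) :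
    w (X.p i) = X.p i ∨ w (X.p i) = X.ng (X.p i) := by
  have hw' : w ∈ X.WJ Set.univ := by rw [WJ_univ]; exact hw
  apply eq_p_of_s_eq_ng hX
  have h1 : (w * X.s i) (X.p i) = (X.s i * w) (X.p i) := by rw [hc i]
  rw [Equiv.Perm.mul_apply, Equiv.Perm.mul_apply, hX.s_p, w_ng hX hw'] at h1
  exact h1.symm

theorem c_s_p (i j : Fin X.l) (m : Fin X.l) :
    X.c (X.s j (X.p i)) m = (if m = i then 1 else 0) - if m = j then X.A i j else 0 := by
  rw [hX.c_s, hX.c_p]
  congr 1
  by_cases hm : m = j
  · rw [if_pos hm, if_pos hm]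
    simp only [hX.c_p]
    rw [Finset.sum_eq_single i]
    · simp
    · intro b _ hb
      rw [if_neg hb, zero_mul]
    · intro h
      exact absurd (Finset.mem_univ i) h
  · rw [if_neg hm, if_neg hm]

/-- the signs of a central element agree along the edges of the diagram -/
theorem central_edge {w : Equiv.Perm (Fin X.n)} (hw : w ∈ Subgroup.closure (Set.range X.s))
    (hc : ∀ i, w * X.s i = X.s i * w) {i j : Fin X.l} (hij : i ≠ j) (hA : X.A i j ≠ 0) :
    ∑ t, X.c (w (X.p i)) t * X.A t j = X.A i j * X.c (w (X.p j)) j := by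
  have hw' : w ∈ X.WJ Set.univ := by rw [WJ_univ]; exact hw
  have hlin := lin_of_mem hX hw'
  have h1 : (w * X.s j) (X.p i) = (X.s j * w) (X.p i) := by rw [hc j]
  rw [Equiv.Perm.mul_apply, Equiv.Perm.mul_apply] at h1
  have h2 : X.c (w (X.s j (X.p i))) j = X.c (X.s j (w (X.p i))) j := by rw [h1]
  rw [hlin (X.s j (X.p i)) j, hX.c_s, if_pos rfl] at h2
  simp only [c_s_p hX, sub_mul, Finset.sum_sub_distrib, ite_mul, one_mul, zero_mul,
    Finset.sum_ite_eq', Finset.mem_univ, if_true] at h2
  linarith

theorem central_iff {w : Equiv.Perm (Fin X.n)} (hw : w ∈ Subgroup.closure (Set.range X.s))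
    (hc : ∀ i, w * X.s i = X.s i * w) {i j : Fin X.l} (hA : X.A i j ≠ 0) :
    w (X.p i) = X.p i ↔ w (X.p j) = X.p j := by
  by_cases hij : i = j
  · rw [hij]
  have hE := central_edge hX hw hc hij hA
  have hsum : ∀ a : ℤ, (∀ t, X.c (w (X.p i)) t = a * if t = i then 1 else 0) →
      ∑ t, X.c (w (X.p i)) t * X.A t j = a * X.A i j := by
    intro a ha
    simp only [ha]
    rw [Finset.sum_eq_single i]
    · simp
    · intro b _ hb
      rw [if_neg hb]; ring
    · intro h
      exact absurd (Finset.mem_univ i) h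
  rcases central_p hX hw hc i with hi | hi <;> rcases central_p hX hw hc j with hj | hj
  · exact ⟨fun _ => hj, fun _ => hi⟩
  · exfalso
    rw [hsum 1 (fun t => by rw [hi, hX.c_p, one_mul]), hj, hX.c_ng, hX.c_p, if_pos rfl] at hE
    have : X.A i j = 0 := by linarith
    exact hA this
  · exfalso
    rw [hsum (-1) (fun t => by rw [hi, hX.c_ng, hX.c_p]; ring), hj, hX.c_p, if_pos rfl] at hE
    have : X.A i j = 0 := by linarith
    exact hA this
  · constructor
    · intro h
      rw [h] at hi
      exact absurd hi.symm (ng_p_ne_p hX i i)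
    · intro h
      rw [h] at hj
      exact absurd hj.symm (ng_p_ne_p hX j j)

/-- for a connected diagram, a central element is the identity or the negation -/
theorem central_cases (d : Fin X.l → ℕ) (i0 : Fin X.l)
    (hd : ∀ i, i = i0 ∨ ∃ j, d j < d i ∧ (X.A i j ≠ 0 ∨ X.A j i ≠ 0))
    {w : Equiv.Perm (Fin X.n)} (hw : w ∈ Subgroup.closure (Set.range X.s))
    (hc : ∀ i, w * X.s i = X.s i * w) : w = 1 ∨ ∀ r, w r = X.ng r := by
  have hw' : w ∈ X.WJ Set.univ := by rw [WJ_univ]; exact hw
  have hlin := lin_of_mem hX hw'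
  have hall : ∀ m : ℕ, ∀ i, d i = m → (w (X.p i) = X.p i ↔ w (X.p i0) = X.p i0) := by
    intro m
    induction m using Nat.strong_induction_on with
    | _ m ih =>
      intro i hi
      rcases hd i with h | ⟨j, hj, hA⟩
      · rw [h]
      · have h1 := ih (d j) (hi ▸ hj) j rfl
        rcases hA with hA | hA
        · rw [central_iff hX hw hc hA, h1]
        · rw [← central_iff hX hw hc hA, h1]
  rcases central_p hX hw hc i0 with h0 | h0
  · left
    apply lin_det hX hlin (lin_one hX)
    intro j
    rw [Equiv.Perm.one_apply]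
    exact (hall (d j) j rfl).mpr h0
  · right
    have hneg : ∀ j, w (X.p j) = X.ng (X.p j) := by
      intro j
      rcases central_p hX hw hc j with hj | hj
      · have := (hall (d j) j rfl).mp hj
        rw [this] at h0
        exact absurd h0.symm (ng_p_ne_p hX i0 i0)
      · exact hj
    intro r
    apply hX.c_inj
    funext k
    rw [hlin r k, hX.c_ng]
    simp only [hneg, hX.c_ng, hX.c_p]
    rw [Finset.sum_eq_single k]
    · simp
    · intro b _ hb
      rw [if_neg (Ne.symm hb)]; ring
    · intro h
      exact absurd (Finset.mem_univ k) h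

/-- the negation commutes with the reflection group -/
theorem ng_comm {z w : Equiv.Perm (Fin X.n)} (hz : ∀ r, z r = X.ng r)
    (hw : w ∈ Subgroup.closure (Set.range X.s)) : z * w = w * z := by
  have hw' : w ∈ X.WJ Set.univ := by rw [WJ_univ]; exact hw
  ext r
  rw [Equiv.Perm.mul_apply, Equiv.Perm.mul_apply, hz, hz, w_ng hX hw']

/-- if the negation is in the reflection group, it is the inverse of any element making all
positive roots negative -/
theorem ng_mul_eq_one {z u : Equiv.Perm (Fin X.n)} (hz : ∀ r, z r = X.ng r)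
    (hzm : z ∈ Subgroup.closure (Set.range X.s)) (hu : u ∈ Subgroup.closure (Set.range X.s))
    (hneg : ∀ r, X.pos r → ¬ X.pos (u r)) : z * u = 1 := by
  apply hX.triv _ (mul_mem hzm hu)
  intro r hr
  rw [Equiv.Perm.mul_apply, hz]
  exact (hX.pos_ng _).mpr (hneg r hr)

end

end WData

end Cfsg.Agent.Lib.Helper8.Weyl
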