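import Cfsg.Agent.Lib.Helper8.ChevCox5
import Cfsg.Agent.Lib.Helper8.Weyl5

set_option autoImplicit false

/-! The centre of the Weyl group of a Chevalley datum. -/

namespace Cfsg.Agent.Lib.Helper8.Chev

open Cfsg.Lie Matrix Cfsg.Agent.Lib.Helper8.Weyl

section

variable {D : ChevalleyDatum} (hD : D ∈ [chevG2, chevB2, chevD4, chevF4, chevE6, chevE7, chevE8])

/-- a central element of the Weyl group of a connected diagram is the identity or the negation -/
theorem center_WD_cases {SS : ℕ} (h1 : checkSS D SS = true) (h2 : checkCS D SS = true)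
    (h3 : checkCI D = true) (d : Fin D.rank → ℕ) (i0 : Fin D.rank)
    (hd : ∀ i : Fin D.rank, i = i0 ∨ ∃ j : Fin D.rank, d j < d i ∧
      (D.cartan i.val (D.simple j.val) ≠ 0 ∨ D.cartan j.val (D.simple i.val) ≠ 0))
    {z : ↥(WD hD)} (hz : z ∈ Subgroup.center ↥(WD hD)) :
    z = 1 ∨ ∀ r : Fin D.nroots, ((z : Equiv.Perm (Fin D.nroots)) r).val = D.neg r.val := by
  have hX := chevWD_ok hD h1 h2 h3
  have hc : ∀ i : Fin D.rank, (z : Equiv.Perm (Fin D.nroots)) *
      sPerm (validJ_of_mem hD) (validH_of_mem hD) (checkInv_of_mem hD) i =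
      sPerm (validJ_of_mem hD) (validH_of_mem hD) (checkInv_of_mem hD) i *
        (z : Equiv.Perm (Fin D.nroots)) := by
    intro i
    have := Subgroup.mem_center_iff.mp hz (sW hD i)
    exact (congrArg Subtype.val this).symm
  rcases WData.central_cases hX d i0 hd z.2 hc with h | h
  · left
    exact Subtype.ext h
  · right
    intro r
    exact congrArg Fin.val (h r)

/-- the centre of the Weyl group when a power of a word is the negation -/
theorem center_WD_two {SS : ℕ} (h1 : checkSS D SS = true) (h2 : checkCS D SS = true)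
    (h3 : checkCI D = true) (d : Fin D.rank → ℕ) (i0 : Fin D.rank)
    (hd : ∀ i : Fin D.rank, i = i0 ∨ ∃ j : Fin D.rank, d j < d i ∧
      (D.cartan i.val (D.simple j.val) ≠ 0 ∨ D.cartan j.val (D.simple i.val) ≠ 0))
    (l : List (Fin D.rank)) (k : ℕ)
    (hk : forallLtF (fun r => Nat.beq (cpowF SS D.nroots (l.map Fin.val) k r) (D.nroots - 1 - r))
      D.nroots = true) :
    Nat.card (Subgroup.center ↥(WD hD)) = 2 ∧
      Subgroup.center ↥(WD hD) ≤ Subgroup.zpowers (wp (sW hD) l) := by
  have V := valid0_of_mem hD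
  have J := validJ_of_mem hD
  have hX := chevWD_ok hD h1 h2 h3
  rw [forallLtF_eq_true] at hk
  have hz0 : ∀ r : Fin D.nroots,
      ((((wp (sW hD) l) ^ k : ↥(WD hD)) : Equiv.Perm (Fin D.nroots)) r).val = D.neg r.val := by
    intro r
    have := hk r.val r.isLt
    rw [Nat.beq_eq, cpowF_eq hD h1 l k r] at this
    rw [this, V.neg_eq r.val r.isLt]
  have hz0' : ∀ r : Fin D.nroots,
      (((wp (sW hD) l) ^ k : ↥(WD hD)) : Equiv.Perm (Fin D.nroots)) r =
      (chevWD D (validJ_of_mem hD) (validH_of_mem hD) (checkInv_of_mem hD)).ng r :=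
    fun r => Fin.ext (hz0 r)
  have hcen : (wp (sW hD) l) ^ k ∈ Subgroup.center ↥(WD hD) := by
    rw [Subgroup.mem_center_iff]
    intro g
    apply Subtype.ext
    rw [Subgroup.coe_mul, Subgroup.coe_mul]
    exact (WData.ng_comm hX hz0' g.2).symm
  have hne : (wp (sW hD) l) ^ k ≠ 1 := by
    intro h
    have hr := hz0' ⟨D.simple i0.val, (J.S i0.val i0.isLt).1⟩
    rw [h] at hr
    exact WData.ng_ne hX _ hr.symm
  have hall : ∀ z ∈ Subgroup.center ↥(WD hD), z = 1 ∨ z = (wp (sW hD) l) ^ k := by
    intro z hz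
    rcases center_WD_cases hD h1 h2 h3 d i0 hd hz with h | h
    · exact Or.inl h
    · right
      apply Subtype.ext
      apply Equiv.ext
      intro r
      apply Fin.ext
      rw [h r, hz0 r]
  constructor
  · rw [Nat.card_eq_two_iff]
    refine ⟨⟨1, one_mem _⟩, ⟨(wp (sW hD) l) ^ k, hcen⟩, ?_, ?_⟩
    · intro h
      exact hne (congrArg Subtype.val h).symm
    · rw [Set.eq_univ_iff_forall]
      rintro ⟨z, hz⟩
      rcases hall z hz with h | h
      · left
        exact Subtype.ext h
      · right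
        exact Subtype.ext h
  · intro z hz
    rcases hall z hz with h | h
    · rw [h]; exact one_mem _
    · rw [h]; exact Subgroup.pow_mem _ (Subgroup.mem_zpowers _) k

/-- the centre of the Weyl group is trivial when the longest element is not the negation -/
theorem center_WD_one {SS : ℕ} (h1 : checkSS D SS = true) (h2 : checkCS D SS = true)
    (h3 : checkCI D = true) (d : Fin D.rank → ℕ) (i0 : Fin D.rank)
    (hd : ∀ i : Fin D.rank, i = i0 ∨ ∃ j : Fin D.rank, d j < d i ∧
      (D.cartan i.val (D.simple j.val) ≠ 0 ∨ D.cartan j.val (D.simple i.val) ≠ 0))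
    (l : List (Fin D.rank)) (hl : l.map Fin.val = w0L D) (s : ℕ) (hs : s < D.nroots)
    (hne : reflWordF D (w0L D) s ≠ D.nroots - 1 - s) :
    Subgroup.center ↥(WD hD) = ⊥ := by
  have V := valid0_of_mem hD
  have J := validJ_of_mem hD
  have H := validH_of_mem hD
  have hX := chevWD_ok hD h1 h2 h3
  have hW := checkW0_of_mem hD
  simp only [checkW0, Bool.and_eq_true, allF_eq_true, Nat.blt_eq, forallLtF_eq_true] at hW
  obtain ⟨hlt, hall⟩ := hW
  rw [Subgroup.eq_bot_iff_forall]
  intro z hz
  rcases center_WD_cases hD h1 h2 h3 d i0 hd hz with h | h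
  · exact h
  · exfalso
    have hz' : ∀ r : Fin D.nroots, (z : Equiv.Perm (Fin D.nroots)) r =
        (chevWD D (validJ_of_mem hD) (validH_of_mem hD) (checkInv_of_mem hD)).ng r :=
      fun r => Fin.ext (h r)
    have hu : ∀ r, (chevWD D (validJ_of_mem hD) (validH_of_mem hD) (checkInv_of_mem hD)).pos r →
        ¬ (chevWD D (validJ_of_mem hD) (validH_of_mem hD) (checkInv_of_mem hD)).pos
          (((wp (sW hD) l : ↥(WD hD)) : Equiv.Perm (Fin D.nroots)) r) := by
      intro r hr hr'
      have e : D.nroots / 2 ≤ reflWord D (l.map Fin.val) r.val := by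
        rw [← wp_sW_val hD l r]
        exact hr'
      rw [hl] at e
      have := hall r.val r.isLt
      rw [reflWordF_eq J H.nS hlt r.isLt] at this
      have hb : Nat.blt r.val (D.nroots / 2) = false := by
        rw [Bool.eq_false_iff, ne_eq, Nat.blt_eq]
        exact not_lt.mpr hr
      rw [hb] at this
      simp only [cond_false, Nat.blt_eq] at this
      omega
    have h1' := WData.ng_mul_eq_one hX hz' z.2 (wp (sW hD) l : ↥(WD hD)).2 hu
    have h2' : ((z : Equiv.Perm (Fin D.nroots)) * ((wp (sW hD) l : ↥(WD hD)) :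
        Equiv.Perm (Fin D.nroots))) ⟨s, hs⟩ = ⟨s, hs⟩ := DFunLike.congr_fun h1' ⟨s, hs⟩
    rw [Equiv.Perm.mul_apply] at h2'
    have h3' := congrArg Fin.val h2'
    rw [h, wp_sW_val hD l ⟨s, hs⟩, hl, ← reflWordF_eq J H.nS hlt hs] at h3'
    simp only at h3'
    have hlt' : reflWordF D (w0L D) s < D.nroots := by
      rw [reflWordF_eq J H.nS hlt hs]
      exact reflWord_lt J H.nS hlt hs
    rw [V.neg_eq _ hlt'] at h3'
    omega

end

end Cfsg.Agent.Lib.Helper8.Chev
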