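import Cfsg.Agent.Lib.Helper8.ChevCen1

set_option autoImplicit false

/-! The centres of the Coxeter groups of the exceptional types, of `B₂` and of `D₄`. -/

namespace Cfsg.Agent.Lib.Helper8.Chev

open Cfsg.Lie Matrix Cfsg.Agent.Lib.Helper8.Weyl

/-- transport of the statement on the centre along an isomorphism -/
theorem center_transport {n : ℕ} (M : CoxeterMatrix (Fin n)) {W : Type*} [Group W]
    (e : M.Group ≃* W) (s : Fin n → W) (he : ∀ i, e (M.simple i) = s i) (k : ℕ)
    (h : Nat.card (Subgroup.center W) = k ∧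
      Subgroup.center W ≤ Subgroup.zpowers (wp s (List.finRange n))) :
    Nat.card (Subgroup.center M.Group) = k ∧
      Subgroup.center M.Group ≤ Subgroup.zpowers ((List.finRange n).map M.simple).prod := by
  constructor
  · rw [Nat.card_congr (Subgroup.centerCongr e).toEquiv]
    exact h.1
  · intro z hz
    have hz' : e z ∈ Subgroup.center W := by
      rw [Subgroup.mem_center_iff] at hz ⊢
      intro g
      have := hz (e.symm g)
      have h2 := congrArg e this
      rw [map_mul, map_mul, MulEquiv.apply_symm_apply] at h2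
      exact h2
    have h3 := h.2 hz'
    rw [Subgroup.mem_zpowers_iff] at h3 ⊢
    obtain ⟨m, hm⟩ := h3
    refine ⟨m, ?_⟩
    apply e.injective
    rw [map_zpow, map_list_prod, List.map_map]
    have e1 : (List.finRange n).map (⇑e ∘ M.simple) = (List.finRange n).map s :=
      List.map_congr_left (fun i _ => he i)
    rw [e1]
    exact hm

/-- distances from the first node in the diagram of type B2 -/
def cenD_B2 (i : Fin chevB2.rank) : ℕ := ([0, 1] : List ℕ).getD i.val 0

theorem cenConn_B2 : ∀ i : Fin chevB2.rank, i = ⟨0, by decide⟩ ∨ ∃ j : Fin chevB2.rank,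
    cenD_B2 j < cenD_B2 i ∧ (chevB2.cartan i.val (chevB2.simple j.val) ≠ 0 ∨
      chevB2.cartan j.val (chevB2.simple i.val) ≠ 0) := by
  decide +kernel

set_option maxRecDepth 1000000 in
theorem cenNeg_B2 :
    forallLtF (fun r => Nat.beq (cpowF ssB2 chevB2.nroots ((List.finRange 2).map Fin.val) 2 r)
      (chevB2.nroots - 1 - r)) chevB2.nroots = true := by
  decide +kernel

theorem center_cox_B2 :
    Nat.card (Subgroup.center ((CoxeterMatrix.B 2) : CoxeterMatrix (Fin 2)).Group) = 2 ∧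
      Subgroup.center ((CoxeterMatrix.B 2) : CoxeterMatrix (Fin 2)).Group ≤
        Subgroup.zpowers ((List.finRange 2).map ((CoxeterMatrix.B 2) : CoxeterMatrix (Fin 2)).simple).prod :=
  center_transport ((CoxeterMatrix.B 2) : CoxeterMatrix (Fin 2)) coxEquiv_B2 (sW mem_B2) coxEquiv_B2_simple 2
    (center_WD_two (D := chevB2) mem_B2 checkSS_B2 checkCS_B2 checkCI_B2 cenD_B2 ⟨0, by decide⟩
      cenConn_B2 (List.finRange 2) 2 cenNeg_B2)

/-- distances from the first node in the diagram of type G2 -/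
def cenD_G2 (i : Fin chevG2.rank) : ℕ := ([0, 1] : List ℕ).getD i.val 0

theorem cenConn_G2 : ∀ i : Fin chevG2.rank, i = ⟨0, by decide⟩ ∨ ∃ j : Fin chevG2.rank,
    cenD_G2 j < cenD_G2 i ∧ (chevG2.cartan i.val (chevG2.simple j.val) ≠ 0 ∨
      chevG2.cartan j.val (chevG2.simple i.val) ≠ 0) := by
  decide +kernel

set_option maxRecDepth 1000000 in
theorem cenNeg_G2 :
    forallLtF (fun r => Nat.beq (cpowF ssG2 chevG2.nroots ((List.finRange 2).map Fin.val) 3 r)
      (chevG2.nroots - 1 - r)) chevG2.nroots = true := by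
  decide +kernel

theorem center_cox_G2 :
    Nat.card (Subgroup.center (CoxeterMatrix.G₂ : CoxeterMatrix (Fin 2)).Group) = 2 ∧
      Subgroup.center (CoxeterMatrix.G₂ : CoxeterMatrix (Fin 2)).Group ≤
        Subgroup.zpowers ((List.finRange 2).map (CoxeterMatrix.G₂ : CoxeterMatrix (Fin 2)).simple).prod :=
  center_transport (CoxeterMatrix.G₂ : CoxeterMatrix (Fin 2)) coxEquiv_G2 (sW mem_G2) coxEquiv_G2_simple 2
    (center_WD_two (D := chevG2) mem_G2 checkSS_G2 checkCS_G2 checkCI_G2 cenD_G2 ⟨0, by decide⟩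
      cenConn_G2 (List.finRange 2) 3 cenNeg_G2)

/-- distances from the first node in the diagram of type D4 -/
def cenD_D4 (i : Fin chevD4.rank) : ℕ := ([0, 1, 2, 2] : List ℕ).getD i.val 0

theorem cenConn_D4 : ∀ i : Fin chevD4.rank, i = ⟨0, by decide⟩ ∨ ∃ j : Fin chevD4.rank,
    cenD_D4 j < cenD_D4 i ∧ (chevD4.cartan i.val (chevD4.simple j.val) ≠ 0 ∨
      chevD4.cartan j.val (chevD4.simple i.val) ≠ 0) := by
  decide +kernel

set_option maxRecDepth 1000000 in
theorem cenNeg_D4 :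
    forallLtF (fun r => Nat.beq (cpowF ssD4 chevD4.nroots ((List.finRange 4).map Fin.val) 3 r)
      (chevD4.nroots - 1 - r)) chevD4.nroots = true := by
  decide +kernel

theorem center_cox_D4 :
    Nat.card (Subgroup.center (Cfsg.Lie.coxeterD4 : CoxeterMatrix (Fin 4)).Group) = 2 ∧
      Subgroup.center (Cfsg.Lie.coxeterD4 : CoxeterMatrix (Fin 4)).Group ≤
        Subgroup.zpowers ((List.finRange 4).map (Cfsg.Lie.coxeterD4 : CoxeterMatrix (Fin 4)).simple).prod :=
  center_transport (Cfsg.Lie.coxeterD4 : CoxeterMatrix (Fin 4)) coxEquiv_D4 (sW mem_D4) coxEquiv_D4_simple 2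
    (center_WD_two (D := chevD4) mem_D4 checkSS_D4 checkCS_D4 checkCI_D4 cenD_D4 ⟨0, by decide⟩
      cenConn_D4 (List.finRange 4) 3 cenNeg_D4)

/-- distances from the first node in the diagram of type F4 -/
def cenD_F4 (i : Fin chevF4.rank) : ℕ := ([0, 1, 2, 3] : List ℕ).getD i.val 0

theorem cenConn_F4 : ∀ i : Fin chevF4.rank, i = ⟨0, by decide⟩ ∨ ∃ j : Fin chevF4.rank,
    cenD_F4 j < cenD_F4 i ∧ (chevF4.cartan i.val (chevF4.simple j.val) ≠ 0 ∨
      chevF4.cartan j.val (chevF4.simple i.val) ≠ 0) := by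
  decide +kernel

set_option maxRecDepth 1000000 in
theorem cenNeg_F4 :
    forallLtF (fun r => Nat.beq (cpowF ssF4 chevF4.nroots ((List.finRange 4).map Fin.val) 6 r)
      (chevF4.nroots - 1 - r)) chevF4.nroots = true := by
  decide +kernel

theorem center_cox_F4 :
    Nat.card (Subgroup.center (CoxeterMatrix.F₄ : CoxeterMatrix (Fin 4)).Group) = 2 ∧
      Subgroup.center (CoxeterMatrix.F₄ : CoxeterMatrix (Fin 4)).Group ≤
        Subgroup.zpowers ((List.finRange 4).map (CoxeterMatrix.F₄ : CoxeterMatrix (Fin 4)).simple).prod :=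
  center_transport (CoxeterMatrix.F₄ : CoxeterMatrix (Fin 4)) coxEquiv_F4 (sW mem_F4) coxEquiv_F4_simple 2
    (center_WD_two (D := chevF4) mem_F4 checkSS_F4 checkCS_F4 checkCI_F4 cenD_F4 ⟨0, by decide⟩
      cenConn_F4 (List.finRange 4) 6 cenNeg_F4)

/-- distances from the first node in the diagram of type E7 -/
def cenD_E7 (i : Fin chevE7.rank) : ℕ := ([0, 3, 1, 2, 3, 4, 5] : List ℕ).getD i.val 0

theorem cenConn_E7 : ∀ i : Fin chevE7.rank, i = ⟨0, by decide⟩ ∨ ∃ j : Fin chevE7.rank,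
    cenD_E7 j < cenD_E7 i ∧ (chevE7.cartan i.val (chevE7.simple j.val) ≠ 0 ∨
      chevE7.cartan j.val (chevE7.simple i.val) ≠ 0) := by
  decide +kernel

set_option maxRecDepth 1000000 in
theorem cenNeg_E7 :
    forallLtF (fun r => Nat.beq (cpowF ssE7 chevE7.nroots ((List.finRange 7).map Fin.val) 9 r)
      (chevE7.nroots - 1 - r)) chevE7.nroots = true := by
  decide +kernel

theorem center_cox_E7 :
    Nat.card (Subgroup.center (CoxeterMatrix.E₇ : CoxeterMatrix (Fin 7)).Group) = 2 ∧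
      Subgroup.center (CoxeterMatrix.E₇ : CoxeterMatrix (Fin 7)).Group ≤
        Subgroup.zpowers ((List.finRange 7).map (CoxeterMatrix.E₇ : CoxeterMatrix (Fin 7)).simple).prod :=
  center_transport (CoxeterMatrix.E₇ : CoxeterMatrix (Fin 7)) coxEquiv_E7 (sW mem_E7) coxEquiv_E7_simple 2
    (center_WD_two (D := chevE7) mem_E7 checkSS_E7 checkCS_E7 checkCI_E7 cenD_E7 ⟨0, by decide⟩
      cenConn_E7 (List.finRange 7) 9 cenNeg_E7)

/-- distances from the first node in the diagram of type E8 -/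
def cenD_E8 (i : Fin chevE8.rank) : ℕ := ([0, 3, 1, 2, 3, 4, 5, 6] : List ℕ).getD i.val 0

theorem cenConn_E8 : ∀ i : Fin chevE8.rank, i = ⟨0, by decide⟩ ∨ ∃ j : Fin chevE8.rank,
    cenD_E8 j < cenD_E8 i ∧ (chevE8.cartan i.val (chevE8.simple j.val) ≠ 0 ∨
      chevE8.cartan j.val (chevE8.simple i.val) ≠ 0) := by
  decide +kernel

set_option maxRecDepth 1000000 in
theorem cenNeg_E8 :
    forallLtF (fun r => Nat.beq (cpowF ssE8 chevE8.nroots ((List.finRange 8).map Fin.val) 15 r)
      (chevE8.nroots - 1 - r)) chevE8.nroots = true := by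
  decide +kernel

theorem center_cox_E8 :
    Nat.card (Subgroup.center (CoxeterMatrix.E₈ : CoxeterMatrix (Fin 8)).Group) = 2 ∧
      Subgroup.center (CoxeterMatrix.E₈ : CoxeterMatrix (Fin 8)).Group ≤
        Subgroup.zpowers ((List.finRange 8).map (CoxeterMatrix.E₈ : CoxeterMatrix (Fin 8)).simple).prod :=
  center_transport (CoxeterMatrix.E₈ : CoxeterMatrix (Fin 8)) coxEquiv_E8 (sW mem_E8) coxEquiv_E8_simple 2
    (center_WD_two (D := chevE8) mem_E8 checkSS_E8 checkCS_E8 checkCI_E8 cenD_E8 ⟨0, by decide⟩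
      cenConn_E8 (List.finRange 8) 15 cenNeg_E8)

/-- distances from the first node in the diagram of type E6 -/
def cenD_E6 (i : Fin chevE6.rank) : ℕ := ([0, 3, 1, 2, 3, 4] : List ℕ).getD i.val 0

theorem cenConn_E6 : ∀ i : Fin chevE6.rank, i = ⟨0, by decide⟩ ∨ ∃ j : Fin chevE6.rank,
    cenD_E6 j < cenD_E6 i ∧ (chevE6.cartan i.val (chevE6.simple j.val) ≠ 0 ∨
      chevE6.cartan j.val (chevE6.simple i.val) ≠ 0) := by
  decide +kernel

/-- the reduced word of the longest element of type E6 -/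
def cenW0_E6 : List (Fin chevE6.rank) :=
  ([0, 1, 2, 0, 3, 1, 2, 0, 3, 2, 4, 3, 1, 2, 0, 3, 2, 4, 3, 1, 5, 4, 3, 1, 2, 0, 3, 2, 4, 3, 1, 5, 4, 3,
    2, 0] : List (Fin 6))

theorem cenW0_E6_map : cenW0_E6.map Fin.val = w0L chevE6 := by decide +kernel

set_option maxRecDepth 1000000 in
theorem cenNe_E6 : reflWordF chevE6 (w0L chevE6) (chevE6.simple 0) ≠
    chevE6.nroots - 1 - chevE6.simple 0 := by
  decide +kernel

theorem center_cox_E6 :
    Nat.card (Subgroup.center (CoxeterMatrix.E₆ : CoxeterMatrix (Fin 6)).Group) = 1 ∧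
      Subgroup.center (CoxeterMatrix.E₆ : CoxeterMatrix (Fin 6)).Group ≤
        Subgroup.zpowers ((List.finRange 6).map (CoxeterMatrix.E₆ : CoxeterMatrix (Fin 6)).simple).prod := by
  apply center_transport (CoxeterMatrix.E₆ : CoxeterMatrix (Fin 6)) coxEquiv_E6 (sW mem_E6) coxEquiv_E6_simple 1
  have h : Subgroup.center ↥(WD mem_E6) = ⊥ :=
    center_WD_one (D := chevE6) mem_E6 checkSS_E6 checkCS_E6 checkCI_E6 cenD_E6 ⟨0, by decide⟩
      cenConn_E6 cenW0_E6 cenW0_E6_map (chevE6.simple 0) (by decide +kernel) cenNe_E6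
  rw [h]
  exact ⟨Subgroup.card_bot, bot_le⟩

end Cfsg.Agent.Lib.Helper8.Chev
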