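import Cfsg.Agent.Lib.Helper8.ChevGen1
import Cfsg.Prelude.Def_ChevAutomorphisms

set_option autoImplicit false

namespace Cfsg.Agent.Lib.Helper8.Chev

open Cfsg.Lie Matrix

/-! ### Conjugacy classes of root subgroups under `N` -/

/-- certificate: for each fundamental root a representative fundamental root of the same length
and a Weyl word carrying the representative to it; the representatives of the short and long
classes; two short roots whose sum is the long representative, with the structure constant -/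
structure ClsData where
  rep : List (ℕ × List ℕ)
  s0 : ℕ
  l0 : ℕ
  a : ℕ
  a' : ℕ
  M : ℤ

def clsC (D : ChevalleyDatum) : ClsData :=
  if D.nroots = 12 then ⟨[(0, []), (1, [])], 0, 1, 4, 8, -3⟩
  else if D.nroots = 8 then ⟨[(0, []), (1, [])], 0, 1, 2, 6, -2⟩
  else if D.nroots = 24 then ⟨[(0, []), (0, [0, 1]), (0, [1, 2, 0, 1]), (0, [1, 3, 0, 1])], 0, 0, 0, 0, 0⟩
  else if D.nroots = 48 then ⟨[(0, []), (0, [0, 1]), (2, []), (2, [2, 3])], 0, 2, 9, 39, -2⟩
  else if D.nroots = 72 then ⟨[(0, []), (0, [3, 2, 1, 3, 0, 2]), (0, [0, 2]), (0, [2, 3, 0, 2]), (0, [3, 4, 2, 3, 0, 2]), (0, [4, 5, 3, 4, 2, 3, 0, 2])], 0, 0, 0, 0, 0⟩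
  else if D.nroots = 126 then ⟨[(0, []), (0, [3, 2, 1, 3, 0, 2]), (0, [0, 2]), (0, [2, 3, 0, 2]), (0, [3, 4, 2, 3, 0, 2]), (0, [4, 5, 3, 4, 2, 3, 0, 2]), (0, [5, 6, 4, 5, 3, 4, 2, 3, 0, 2])], 0, 0, 0, 0, 0⟩
  else if D.nroots = 240 then ⟨[(0, []), (0, [3, 2, 1, 3, 0, 2]), (0, [0, 2]), (0, [2, 3, 0, 2]), (0, [3, 4, 2, 3, 0, 2]), (0, [4, 5, 3, 4, 2, 3, 0, 2]), (0, [5, 6, 4, 5, 3, 4, 2, 3, 0, 2]), (0, [6, 7, 5, 6, 4, 5, 3, 4, 2, 3, 0, 2])], 0, 0, 0, 0, 0⟩
  else ⟨[], 0, 0, 0, 0, 0⟩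

/-- the conditions on the certificate -/
structure ClsOk (D : ChevalleyDatum) (C : ClsData) : Prop where
  rep : ∀ i < D.rank, (C.rep.getD i (0, [])).1 < D.rank ∧
      (∀ k ∈ (C.rep.getD i (0, [])).2, k < D.rank) ∧
      reflWordF D (C.rep.getD i (0, [])).2 (D.simple (C.rep.getD i (0, [])).1) = D.simple i ∧
      reflWordF D (C.rep.getD i (0, [])).2.reverse (D.simple i) =
        D.simple (C.rep.getD i (0, [])).1 ∧
      (D.isLong (D.simple i) = false → (C.rep.getD i (0, [])).1 = C.s0) ∧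
      (D.isLong (D.simple i) = true → (C.rep.getD i (0, [])).1 = C.l0)
  s0 : C.s0 < D.rank ∧ (C.rep.getD C.s0 (0, [])).1 = C.s0
  l0 : C.l0 < D.rank ∧ (C.rep.getD C.l0 (0, [])).1 = C.l0
  sum : C.s0 = C.l0 ∨ (C.a < D.nroots ∧ C.a' < D.nroots ∧ C.a' ≠ C.a ∧ C.a' ≠ D.neg C.a ∧
      (C.rep.getD ((reachC D).getD C.a ([], 0)).2 (0, [])).1 = C.s0 ∧
      (C.rep.getD ((reachC D).getD C.a' ([], 0)).2 (0, [])).1 = C.s0 ∧
      D.commTerms C.a C.a' = [(D.simple C.l0, C.M, 1, 1)])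

theorem clsOk_G2 : ClsOk chevG2 (clsC chevG2) :=
  ⟨by decide +kernel, by decide +kernel, by decide +kernel, by decide +kernel⟩
theorem clsOk_B2 : ClsOk chevB2 (clsC chevB2) :=
  ⟨by decide +kernel, by decide +kernel, by decide +kernel, by decide +kernel⟩
theorem clsOk_D4 : ClsOk chevD4 (clsC chevD4) :=
  ⟨by decide +kernel, by decide +kernel, by decide +kernel, by decide +kernel⟩
theorem clsOk_F4 : ClsOk chevF4 (clsC chevF4) :=
  ⟨by decide +kernel, by decide +kernel, by decide +kernel, by decide +kernel⟩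
theorem clsOk_E6 : ClsOk chevE6 (clsC chevE6) :=
  ⟨by decide +kernel, by decide +kernel, by decide +kernel, by decide +kernel⟩
theorem clsOk_E7 : ClsOk chevE7 (clsC chevE7) :=
  ⟨by decide +kernel, by decide +kernel, by decide +kernel, by decide +kernel⟩
theorem clsOk_E8 : ClsOk chevE8 (clsC chevE8) :=
  ⟨by decide +kernel, by decide +kernel, by decide +kernel, by decide +kernel⟩

theorem clsOk_of_mem {D : ChevalleyDatum}
    (hD : D ∈ [chevG2, chevB2, chevD4, chevF4, chevE6, chevE7, chevE8]) : ClsOk D (clsC D) := by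
  simp only [List.mem_cons, List.not_mem_nil, or_false] at hD
  rcases hD with rfl | rfl | rfl | rfl | rfl | rfl | rfl
  · exact clsOk_G2
  · exact clsOk_B2
  · exact clsOk_D4
  · exact clsOk_F4
  · exact clsOk_E6
  · exact clsOk_E7
  · exact clsOk_E8

end Cfsg.Agent.Lib.Helper8.Chev
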