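import Cfsg.Agent.Lib.Helper8.ChevCls1

set_option autoImplicit false

namespace Cfsg.Agent.Lib.Helper8.Chev

open Cfsg.Lie Matrix

section

variable {D : ChevalleyDatum}

theorem checkReach_of_mem (hD : D ∈ [chevG2, chevB2, chevD4, chevF4, chevE6, chevE7, chevE8]) :
    checkReach D (reachC D) = true := by
  simp only [List.mem_cons, List.not_mem_nil, or_false] at hD
  rcases hD with rfl | rfl | rfl | rfl | rfl | rfl | rfl
  · exact checkReach_G2
  · exact checkReach_B2
  · exact checkReach_D4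
  · exact checkReach_F4
  · exact checkReach_E6
  · exact checkReach_E7
  · exact checkReach_E8

/-- the certificate of `reach_of_mem`, made explicit -/
theorem reach_spec (hD : D ∈ [chevG2, chevB2, chevD4, chevF4, chevE6, chevE7, chevE8]) {r : ℕ}
    (hr : r < D.nroots) :
    (∀ i ∈ ((reachC D).getD r ([], 0)).1, i < D.rank) ∧ ((reachC D).getD r ([], 0)).2 < D.rank ∧
      reflWord D ((reachC D).getD r ([], 0)).1 (D.simple ((reachC D).getD r ([], 0)).2) = r := by
  have J := validJ_of_mem hD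
  have H := validH_of_mem hD
  have h := checkReach_of_mem hD
  simp only [checkReach, Bool.and_eq_true, Nat.beq_eq, allIdxF_eq_true, zero_add, allF_eq_true,
    Nat.blt_eq] at h
  obtain ⟨hlen, hall⟩ := h
  have hr' : r < (reachC D).length := by rw [hlen]; exact hr
  obtain ⟨⟨hl, hj⟩, he⟩ := hall r (reachC D)[r] (List.getElem?_eq_getElem hr')
  rw [List.getD_eq_getElem _ _ hr']
  refine ⟨hl, hj, ?_⟩
  rw [← reflWordF_eq J H.nS hl (J.S _ hj).1]
  exact he

/-- the class (a fundamental root index) of a fundamental root -/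
def simpCls (D : ChevalleyDatum) (i : ℕ) : ℕ := ((clsC D).rep.getD i (0, [])).1

/-- the class of a root -/
def rootCls (D : ChevalleyDatum) (r : ℕ) : ℕ := simpCls D ((reachC D).getD r ([], 0)).2

theorem exists_word_of_cls (hD : D ∈ [chevG2, chevB2, chevD4, chevF4, chevE6, chevE7, chevE8])
    {r : ℕ} (hr : r < D.nroots) {i : ℕ} (hi : i < D.rank) (h : rootCls D r = simpCls D i) :
    ∃ l : List ℕ, (∀ k ∈ l, k < D.rank) ∧ reflWord D l (D.simple i) = r := by
  have J := validJ_of_mem hD
  have H := validH_of_mem hD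
  have C := clsOk_of_mem hD
  obtain ⟨hl, hj, hw⟩ := reach_spec hD hr
  set j := ((reachC D).getD r ([], 0)).2 with hjdef
  obtain ⟨hk, hu, hu1, -, -, -⟩ := C.rep j hj
  obtain ⟨hk', hu', -, hu2, -, -⟩ := C.rep i hi
  have hrev : ∀ k ∈ ((clsC D).rep.getD i (0, [])).2.reverse, k < D.rank := by
    intro k hk
    exact hu' k (List.mem_reverse.mp hk)
  rw [reflWordF_eq J H.nS hu (J.S _ hk).1] at hu1
  rw [reflWordF_eq J H.nS hrev (J.S _ hi).1] at hu2
  refine ⟨((reachC D).getD r ([], 0)).1 ++ (((clsC D).rep.getD j (0, [])).2 ++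
    ((clsC D).rep.getD i (0, [])).2.reverse), ?_, ?_⟩
  · intro k hk
    rw [List.mem_append, List.mem_append] at hk
    rcases hk with hk | hk | hk
    · exact hl k hk
    · exact hu k hk
    · exact hrev k hk
  · rw [reflWord_append, reflWord_append, hu2]
    have h' : ((clsC D).rep.getD j (0, [])).1 = ((clsC D).rep.getD i (0, [])).1 := h
    rw [← h', hu1]
    exact hw

end

section

variable {D : ChevalleyDatum} {F : Type*} [Field F]

/-- `X_r ≤ M` in terms of elements -/
def XLe (D : ChevalleyDatum) (F : Type*) [Field F] (M : Subgroup (GL D.Idx F)) (r : ℕ) : Prop :=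
  ∀ (t : F) (g : GL D.Idx F), (g : Matrix D.Idx D.Idx F) = D.x F r t → g ∈ M

theorem xLe_of_rootSubgroup_le {M : Subgroup (GL D.Idx F)} {r : ℕ}
    (h : D.rootSubgroup F r ≤ M) : XLe D F M r :=
  fun t g hg => h (Subgroup.subset_closure ⟨t, hg⟩)

theorem xLe_of_word (hD : D ∈ [chevG2, chevB2, chevD4, chevF4, chevE6, chevE7, chevE8])
    {M : Subgroup (GL D.Idx F)} (hN : D.monomialSubgroup F ≤ M) {s : ℕ} (hs : s < D.nroots)
    (hX : XLe D F M s) {l : List ℕ} (hl : ∀ k ∈ l, k < D.rank) :
    XLe D F M (reflWord D l s) := by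
  intro t g hg
  have J := validJ_of_mem hD
  have V1 := valid1_of_mem hD
  have H := validH_of_mem hD
  have hP := (rootPermN_nP (F := F) J V1 H.nS l hl).rootPerm
  have hn : nP D F l ∈ M := hN (nP_mem_monomial hD hl)
  obtain ⟨_, ε, e⟩ := hP s hs
  obtain ⟨g0, hg0⟩ := exists_unit_x (F := F) J.V V1 hs ((ε⁻¹ : Fˣ) * t)
  have hg0M : g0 ∈ M := hX _ g0 hg0
  have hconj : g = nP D F l * g0 * (nP D F l)⁻¹ := by
    apply Units.ext
    rw [Units.val_mul, Units.val_mul, hg0, x_eq_xN, e, Matrix.mul_assoc, ← Units.val_mul,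
      mul_inv_cancel, Units.val_one, Matrix.mul_one, hg, ← mul_assoc]
    have : ((ε : Fˣ) : F) * ((ε⁻¹ : Fˣ) : F) = 1 := by
      rw [← Units.val_mul, mul_inv_cancel, Units.val_one]
    rw [this, one_mul, x_eq_xN]
  rw [hconj]
  exact mul_mem (mul_mem hn hg0M) (inv_mem hn)

theorem xLe_of_cls (hD : D ∈ [chevG2, chevB2, chevD4, chevF4, chevE6, chevE7, chevE8])
    {M : Subgroup (GL D.Idx F)} (hN : D.monomialSubgroup F ≤ M) {i : ℕ} (hi : i < D.rank)
    (hX : XLe D F M (D.simple i)) {r : ℕ} (hr : r < D.nroots)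
    (h : rootCls D r = simpCls D i) : XLe D F M r := by
  have J := validJ_of_mem hD
  obtain ⟨l, hl, e⟩ := exists_word_of_cls hD hr hi h
  rw [← e]
  exact xLe_of_word hD hN (J.S i hi).1 hX hl

/-- a root subgroup obtained as a commutator of two others -/
theorem xLe_of_sum (hD : D ∈ [chevG2, chevB2, chevD4, chevF4, chevE6, chevE7, chevE8])
    {M : Subgroup (GL D.Idx F)} {a a' b : ℕ} {c : ℤ} (ha : a < D.nroots) (ha' : a' < D.nroots)
    (h1 : a' ≠ a) (h2 : a' ≠ D.neg a) (hcomm : D.commTerms a a' = [(b, c, 1, 1)])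
    (hc : ((c : ℤ) : F) ≠ 0) (hXa : XLe D F M a) (hXa' : XLe D F M a') (hb : b < D.nroots) :
    XLe D F M b := by
  intro t g hg
  have V := valid0_of_mem hD
  have V1 := valid1_of_mem hD
  set t' : F := -(t / (c : F)) with ht'
  obtain ⟨ga, hga⟩ := exists_unit_x (F := F) V V1 ha t'
  obtain ⟨ga', hga'⟩ := exists_unit_x (F := F) V V1 ha' (1 : F)
  have key := comm_formula hD (F := F) ha ha' h1 h2 t' 1
  have hw : D.wordMat F (D.commWord F a a' t' 1) = D.x F b t := by
    unfold ChevalleyDatum.commWord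
    rw [hcomm]
    simp only [List.map_cons, List.map_nil, ChevalleyDatum.wordMat, List.prod_cons, List.prod_nil,
      mul_one, pow_one, Int.cast_one]
    congr 1
    rw [ht', neg_neg]
    field_simp
  rw [hw, ← hga, ← hga', ← hg, ← Units.val_mul, ← Units.val_mul, ← Units.val_mul] at key
  have key' : ga' * ga = ga * ga' * g := Units.ext key
  have : g = (ga * ga')⁻¹ * (ga' * ga) := by rw [key']; group
  rw [this]
  exact mul_mem (inv_mem (mul_mem (hXa _ ga hga) (hXa' _ ga' hga')))
    (mul_mem (hXa' _ ga' hga') (hXa _ ga hga))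

theorem group_le_of_xLe {M : Subgroup (GL D.Idx F)} (h : ∀ r < D.nroots, XLe D F M r) :
    D.group F ≤ M := by
  unfold ChevalleyDatum.group
  rw [Subgroup.closure_le]
  rintro g ⟨r, t, hg⟩
  apply h r.val r.isLt t g
  rw [hg]
  unfold ChevalleyDatum.x
  rw [dif_pos r.isLt]

theorem rootCls_cases (hD : D ∈ [chevG2, chevB2, chevD4, chevF4, chevE6, chevE7, chevE8])
    {r : ℕ} (hr : r < D.nroots) : rootCls D r = (clsC D).s0 ∨ rootCls D r = (clsC D).l0 := by
  have C := clsOk_of_mem hD
  obtain ⟨-, hj, -⟩ := reach_spec hD hr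
  obtain ⟨-, -, -, -, h1, h2⟩ := C.rep _ hj
  cases hL : D.isLong (D.simple ((reachC D).getD r ([], 0)).2) with
  | false => exact Or.inl (h1 hL)
  | true => exact Or.inr (h2 hL)

/-- generation by `N` and a short fundamental root subgroup -/
theorem group_le_of_short (hD : D ∈ [chevG2, chevB2, chevD4, chevF4, chevE6, chevE7, chevE8])
    {M : Subgroup (GL D.Idx F)} (hN : D.monomialSubgroup F ≤ M) {i : ℕ} (hi : i < D.rank)
    (hshort : D.isLong (D.simple i) = false) (hX : XLe D F M (D.simple i))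
    (hc : (clsC D).s0 ≠ (clsC D).l0 → (((clsC D).M : ℤ) : F) ≠ 0) : D.group F ≤ M := by
  have J := validJ_of_mem hD
  have C := clsOk_of_mem hD
  have hi0 : simpCls D i = (clsC D).s0 := (C.rep i hi).2.2.2.2.1 hshort
  have hS : ∀ r < D.nroots, rootCls D r = (clsC D).s0 → XLe D F M r := by
    intro r hr h
    exact xLe_of_cls hD hN hi hX hr (h.trans hi0.symm)
  apply group_le_of_xLe
  intro r hr
  rcases rootCls_cases hD hr with h | h
  · exact hS r hr h
  · by_cases hsl : (clsC D).s0 = (clsC D).l0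
    · exact hS r hr (h.trans hsl.symm)
    · rcases C.sum with h0 | ⟨ha, ha', h1, h2, hca, hca', hcomm⟩
      · exact absurd h0 hsl
      · have hl0 := C.l0
        have hXl : XLe D F M (D.simple (clsC D).l0) :=
          xLe_of_sum hD ha ha' h1 h2 hcomm (hc hsl) (hS _ ha hca) (hS _ ha' hca')
            (J.S _ hl0.1).1
        exact xLe_of_cls hD hN hl0.1 hXl hr (h.trans hl0.2.symm)

/-- generation by `N`, a short and a long fundamental root subgroup -/
theorem group_le_of_both (hD : D ∈ [chevG2, chevB2, chevD4, chevF4, chevE6, chevE7, chevE8])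
    {M : Subgroup (GL D.Idx F)} (hN : D.monomialSubgroup F ≤ M) {i j : ℕ} (hi : i < D.rank)
    (hj : j < D.rank) (hshort : D.isLong (D.simple i) = false)
    (hlong : D.isLong (D.simple j) = true) (hXi : XLe D F M (D.simple i))
    (hXj : XLe D F M (D.simple j)) : D.group F ≤ M := by
  have C := clsOk_of_mem hD
  have hi0 : simpCls D i = (clsC D).s0 := (C.rep i hi).2.2.2.2.1 hshort
  have hj0 : simpCls D j = (clsC D).l0 := (C.rep j hj).2.2.2.2.2 hlong
  apply group_le_of_xLe
  intro r hr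
  rcases rootCls_cases hD hr with h | h
  · exact xLe_of_cls hD hN hi hXi hr (h.trans hi0.symm)
  · exact xLe_of_cls hD hN hj hXj hr (h.trans hj0.symm)

end

end Cfsg.Agent.Lib.Helper8.Chev
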