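import Cfsg.Agent.Lib.Helper8.ChevSt15

set_option autoImplicit false
set_option linter.unusedSectionVars false

/-! The universal property of the group presented by (R1), (R2). -/

namespace Cfsg.Agent.Lib.Helper8.Chev

open Cfsg.Lie Matrix

variable {D : ChevalleyDatum} {K : Type*} [Field K] {Γ : Type*} [Group Γ]

theorem lift_stX_gen (X : ℕ → K → Γ) (hout : ∀ r, ¬ r < D.nroots → ∀ t, X r t = 1) (r : ℕ)
    (t : K) :
    FreeGroup.lift (fun p : Fin D.nroots × K => X p.1.val p.2) (D.stX r t) = X r t := by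
  unfold ChevalleyDatum.stX
  by_cases hr : r < D.nroots
  · rw [dif_pos hr, FreeGroup.lift_apply_of]
  · rw [dif_neg hr, map_one, hout r hr]

theorem lift_stWord_gen (X : ℕ → K → Γ) (hout : ∀ r, ¬ r < D.nroots → ∀ t, X r t = 1)
    (w : List (ℕ × K)) :
    FreeGroup.lift (fun p : Fin D.nroots × K => X p.1.val p.2) (D.stWord w) = wS X w := by
  unfold ChevalleyDatum.stWord
  induction w with
  | nil => simp [wS]
  | cons p w ih =>
    rw [List.map_cons, List.prod_cons, map_mul, ih, lift_stX_gen X hout, wS_cons]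

/-- the universal property of the group presented by (R1) and (R2) -/
theorem exists_coverHom (X : ℕ → K → Γ) (hout : ∀ r, ¬ r < D.nroots → ∀ t, X r t = 1)
    (hadd : ∀ r < D.nroots, ∀ t u : K, X r t * X r u = X r (t + u))
    (hcomm : ∀ r < D.nroots, ∀ s < D.nroots, s ≠ r → s ≠ D.neg r → ∀ t u : K,
      X s u * X r t = X r t * X s u * wS X (D.commWord K r s t u)) :
    ∃ φ : D.SteinbergCover K →* Γ, ∀ (r : ℕ) (t : K), φ (D.scGen K r t) = X r t := by
  have hrels : ∀ g ∈ D.steinbergRelsAB K,
      FreeGroup.lift (fun p : Fin D.nroots × K => X p.1.val p.2) g = 1 := by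
    intro g hg
    rcases hg with ⟨r, t₁, t₂, hr, rfl⟩ | ⟨r, s, t, u, hr, hs, h1, h2, rfl⟩
    · rw [map_mul, map_mul, map_inv, mul_inv_eq_one, lift_stX_gen X hout, lift_stX_gen X hout,
        lift_stX_gen X hout, hadd r hr]
    · rw [map_mul, map_mul, map_mul, map_mul, map_inv, map_inv, map_inv, mul_inv_eq_one,
        lift_stX_gen X hout, lift_stX_gen X hout, lift_stWord_gen X hout]
      have := hcomm r hr s hs h1 h2 t u
      calc (X s u)⁻¹ * (X r t)⁻¹ * X s u * X r t
          = (X s u)⁻¹ * (X r t)⁻¹ * (X s u * X r t) := by group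
        _ = _ := by rw [this]; group
  refine ⟨PresentedGroup.toGroup hrels, fun r t => ?_⟩
  have : PresentedGroup.toGroup hrels (D.scGen K r t) =
      FreeGroup.lift (fun p : Fin D.nroots × K => X p.1.val p.2) (D.stX r t) := rfl
  rw [this, lift_stX_gen X hout]

end Cfsg.Agent.Lib.Helper8.Chev
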