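import Cfsg.Agent.Lib.Helper8.Matsumoto
import Cfsg.Agent.Lib.Helper8.ChevWD2

set_option autoImplicit false

/-! The Weyl group of a Chevalley datum is the Coxeter group of its Coxeter matrix. -/

namespace Cfsg.Agent.Lib.Helper8.Weyl

open Finset

namespace WData

variable {X : WData}

/-- multiplying on the left by a fundamental reflection increases the length by at most one -/
theorem len_s_mul_le (hX : X.Ok) (i : Fin X.l) (w : Equiv.Perm (Fin X.n)) :
    X.len (X.s i * w) ≤ X.len w + 1 := by
  unfold len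
  have hsub : X.inv (X.s i * w) ⊆ insert (w⁻¹ (X.p i)) (X.inv w) := by
    intro r hr
    rw [mem_inv, Equiv.Perm.mul_apply] at hr
    rw [mem_insert, mem_inv]
    by_cases hp : X.pos (w r)
    · left
      by_contra hne
      have hne' : w r ≠ X.p i := by
        intro e
        apply hne
        rw [← e]
        simp
      exact hr.2 (hX.s_pos i (w r) hp hne')
    · right
      exact ⟨hr.1, hp⟩
  calc (X.inv (X.s i * w)).card ≤ (insert (w⁻¹ (X.p i)) (X.inv w)).card := card_le_card hsub
    _ ≤ (X.inv w).card + 1 := card_insert_le _ _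

end WData

end Cfsg.Agent.Lib.Helper8.Weyl

namespace Cfsg.Agent.Lib.Helper8.Chev

open Cfsg.Lie Matrix Cfsg.Agent.Lib.Helper8.Weyl

section

variable {D : ChevalleyDatum}

/-- deleting a pair of letters, on the level of the action on the roots -/
theorem reflWord_delete_pair (hD : D ∈ [chevG2, chevB2, chevD4, chevF4, chevE6, chevE7, chevE8])
    {u : List ℕ} (hu : ∀ i ∈ u, i < D.rank) {j k : ℕ} (hj : j < D.rank) (hk : k < D.rank)
    (h : reflWord D u (D.simple k) = D.simple j) :
    ∀ r < D.nroots, reflWord D (j :: (u ++ [k])) r = reflWord D u r := by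
  have V := valid0_of_mem hD
  have V1 := valid1_of_mem hD
  have J := validJ_of_mem hD
  have H := validH_of_mem hD
  have C := copP_of_mem hD
  obtain ⟨t, ht, hdel⟩ := delete_pair (F := ℚ) hD hu hj hk h
  have hjuk : ∀ i ∈ j :: (u ++ [k]), i < D.rank := by
    intro i hi
    rw [List.mem_cons, List.mem_append, List.mem_singleton] at hi
    rcases hi with rfl | hi | rfl
    · exact hj
    · exact hu i hi
    · exact hk
  have hP1 := (rootPermN_nP (F := ℚ) J V1 H.nS _ hjuk).rootPerm
  have hP2 := (rootPerm_torus V (torusLike_of_mem J V1 H ht)).mul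
    (rootPermN_nP (F := ℚ) J V1 H.nS _ hu).rootPerm
  have e : nP D ℚ (j :: (u ++ [k])) = t * nP D ℚ u := by
    rw [nP_cons, nP_append, nP_cons, nP_nil, mul_one, ← mul_assoc, hdel]
  rw [e, Units.val_mul] at hP1
  intro r hr
  exact rootPerm_unique V C
    (Mi := ((t * nP D ℚ u)⁻¹ : GL D.Idx ℚ)) (by rw [← Units.val_mul, ← Units.val_mul, mul_inv_cancel, Units.val_one])
    hP1 hP2 hr

variable (hD : D ∈ [chevG2, chevB2, chevD4, chevF4, chevE6, chevE7, chevE8])

/-- the fundamental reflections as elements of the Weyl group -/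
def sW (i : Fin D.rank) : ↥(WD hD) :=
  ⟨sPerm (validJ_of_mem hD) (validH_of_mem hD) (checkInv_of_mem hD) i,
    Subgroup.subset_closure ⟨i, rfl⟩⟩

theorem wp_sW_val (l : List (Fin D.rank)) (r : Fin D.nroots) :
    (((wp (sW hD) l : ↥(WD hD)) : Equiv.Perm (Fin D.nroots)) r).val =
      reflWord D (l.map Fin.val) r.val := by
  induction l with
  | nil => rfl
  | cons i l ih =>
    rw [wp_cons, Subgroup.coe_mul, Equiv.Perm.mul_apply, List.map_cons, reflWord_cons, ← ih]
    rfl

theorem closure_range_sW : Subgroup.closure (Set.range (sW hD)) = ⊤ := by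
  rw [eq_top_iff]
  rintro ⟨w, hw⟩ -
  unfold WD at hw
  induction hw using Subgroup.closure_induction with
  | mem x hx =>
    obtain ⟨i, rfl⟩ := hx
    exact Subgroup.subset_closure ⟨i, rfl⟩
  | one => exact one_mem _
  | mul x y hx hy ihx ihy => exact mul_mem ihx ihy
  | inv x hx ih => exact inv_mem ih

/-- powers of the product of two fundamental reflections, through the table -/
noncomputable def powF (SS n i j k r : ℕ) : ℕ :=
  @Nat.rec (fun _ => ℕ) r (fun _ x => at2 SS n i (at2 SS n j x)) k

theorem powF_eq {SS : ℕ} (hS : checkSS D SS = true) (i j : Fin D.rank) (k : ℕ)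
    (r : Fin D.nroots) :
    powF SS D.nroots i.val j.val k r.val =
      ((((sW hD i * sW hD j) ^ k : ↥(WD hD)) : Equiv.Perm (Fin D.nroots)) r).val := by
  have J := validJ_of_mem hD
  induction k with
  | zero => rfl
  | succ k ih =>
    rw [pow_succ', Subgroup.coe_mul, Equiv.Perm.mul_apply]
    show at2 SS D.nroots i.val (at2 SS D.nroots j.val (powF SS D.nroots i.val j.val k r.val)) = _
    rw [ih, ss_of_check J hS j.isLt (Fin.isLt _)]
    have hlt : D.reflectRoot j.val ((((sW hD i * sW hD j) ^ k : ↥(WD hD)) :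
        Equiv.Perm (Fin D.nroots)) r).val < D.nroots :=
      (sPerm (validJ_of_mem hD) (validH_of_mem hD) (checkInv_of_mem hD) j _).isLt
    rw [ss_of_check J hS i.isLt hlt]
    rfl

/-- the orders of the products of two fundamental reflections -/
noncomputable def checkOrd (D : ChevalleyDatum) (SS : ℕ) (Mt : List (List ℕ)) : Bool :=
  forallLtF (fun i => forallLtF (fun j => withNat (nthF 0 (nthF [] Mt i) j) fun m =>
    !(Nat.beq m 0) &&
    forallLtF (fun r => Nat.beq (powF SS D.nroots i j m r) r) D.nroots &&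
    (Nat.beq i j || forallLtF (fun k => Nat.beq k 0 ||
      !(forallLtF (fun r => Nat.beq (powF SS D.nroots i j k r) r) D.nroots)) m)) D.rank) D.rank

theorem pow_eq_one_iff_powF {SS : ℕ} (hS : checkSS D SS = true) (i j : Fin D.rank) (k : ℕ) :
    (sW hD i * sW hD j) ^ k = 1 ↔
      forallLtF (fun r => Nat.beq (powF SS D.nroots i.val j.val k r) r) D.nroots = true := by
  rw [forallLtF_eq_true]
  constructor
  · intro h r hr
    rw [Nat.beq_eq, powF_eq hD hS i j k ⟨r, hr⟩, h]
    rfl
  · intro h
    apply Subtype.ext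
    apply Equiv.ext
    intro r
    apply Fin.ext
    have := h r.val r.isLt
    rw [Nat.beq_eq, powF_eq hD hS i j k r] at this
    exact this

theorem ord_of_check {SS : ℕ} (hS : checkSS D SS = true) {Mt : List (List ℕ)}
    (h : checkOrd D SS Mt = true) (i j : Fin D.rank) :
    (sW hD i * sW hD j) ^ ((Mt.getD i.val []).getD j.val 0) = 1 ∧
      (i ≠ j → ∀ k, (sW hD i * sW hD j) ^ k = 1 → (Mt.getD i.val []).getD j.val 0 ∣ k) := by
  simp only [checkOrd, forallLtF_eq_true, withNat_eq, Bool.and_eq_true, Bool.or_eq_true,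
    Nat.beq_eq, Bool.not_eq_true', nthF_eq_getD] at h
  obtain ⟨⟨h0, h1⟩, h2⟩ := h i.val i.isLt j.val j.isLt
  have h1' := (pow_eq_one_iff_powF hD hS i j _).mpr (forallLtF_eq_true.mpr (by
    intro r hr
    rw [Nat.beq_eq]
    exact h1 r hr))
  refine ⟨h1', fun hij k hk => ?_⟩
  rcases h2 with h2 | h2
  · exact absurd (Fin.ext h2) hij
  · -- the order is exactly the entry
    have hord : orderOf (sW hD i * sW hD j) = (Mt.getD i.val []).getD j.val 0 := by
      have hm : (Mt.getD i.val []).getD j.val 0 ≠ 0 := by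
        intro e
        rw [e] at h0
        simp at h0
      rw [orderOf_eq_iff (Nat.pos_of_ne_zero hm)]
      refine ⟨h1', fun m hm1 hm2 hpow => ?_⟩
      rcases h2 m hm1 with h3 | h3
      · omega
      · rw [← Bool.not_eq_true] at h3
        exact h3 ((pow_eq_one_iff_powF hD hS i j m).mp hpow)
    rw [← hord]
    exact orderOf_dvd_of_pow_eq_one hk

end

end Cfsg.Agent.Lib.Helper8.Chev
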