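import Cfsg.Agent.Lib.Helper8.ChevCox1

set_option autoImplicit false

/-! The Weyl group of a Chevalley datum is the Coxeter group of its Coxeter matrix: the
isomorphism and the order. -/

namespace Cfsg.Agent.Lib.Helper8.Chev

open Cfsg.Lie Matrix Cfsg.Agent.Lib.Helper8.Weyl

section

variable {D : ChevalleyDatum} (hD : D ∈ [chevG2, chevB2, chevD4, chevF4, chevE6, chevE7, chevE8])

theorem chev_exData {SS : ℕ} (h1 : checkSS D SS = true) (h2 : checkCS D SS = true)
    (h3 : checkCI D = true) {Mt : List (List ℕ)} (hO : checkOrd D SS Mt = true)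
    (M : CoxeterMatrix (Fin D.rank))
    (hM : ∀ i j : Fin D.rank, M i j = (Mt.getD i.val []).getD j.val 0) :
    ExData M (sW hD) (fun w => lenD D (w : Equiv.Perm (Fin D.nroots))) := by
  have J := validJ_of_mem hD
  have H := validH_of_mem hD
  have hI := checkInv_of_mem hD
  have hRP := checkRP_of_mem hD
  have hX := chevWD_ok hD h1 h2 h3
  have hmem : ∀ w : ↥(WD hD), (w : Equiv.Perm (Fin D.nroots)) ∈
      (chevWD D (validJ_of_mem hD) (validH_of_mem hD) (checkInv_of_mem hD)).WJ Set.univ := by
    intro w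
    rw [WData.WJ_univ]
    exact w.2
  refine ⟨?_, ?_, ?_, ?_, ?_, ?_, ?_⟩
  · intro i
    apply Subtype.ext
    exact WData.s_mul_s hX i
  · show (chevWD D (validJ_of_mem hD) (validH_of_mem hD) (checkInv_of_mem hD)).len 1 = 0
    exact WData.len_one
  · intro w i
    have hwn := WData.w_ng hX (hmem w)
    have := WData.len_mul_s hX (w : Equiv.Perm (Fin D.nroots)) hwn i
    by_cases hp : (chevWD D (validJ_of_mem hD) (validH_of_mem hD) (checkInv_of_mem hD)).pos
        ((w : Equiv.Perm (Fin D.nroots))
          ((chevWD D (validJ_of_mem hD) (validH_of_mem hD) (checkInv_of_mem hD)).p i))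
    · left
      exact this.1 hp
    · right
      exact this.2 hp
  · intro w i
    exact WData.len_s_mul_le hX i (w : Equiv.Perm (Fin D.nroots))
  · intro l i _ hdrop
    have hwn := WData.w_ng hX (hmem (wp (sW hD) l))
    have hlm := WData.len_mul_s hX ((wp (sW hD) l : ↥(WD hD)) : Equiv.Perm (Fin D.nroots)) hwn i
    have hneg : ¬ (chevWD D (validJ_of_mem hD) (validH_of_mem hD) (checkInv_of_mem hD)).pos
        (((wp (sW hD) l : ↥(WD hD)) : Equiv.Perm (Fin D.nroots))
          ((chevWD D (validJ_of_mem hD) (validH_of_mem hD) (checkInv_of_mem hD)).p i)) := by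
      intro hp
      have e1 := hlm.1 hp
      have e2 : lenD D ((wp (sW hD) l : ↥(WD hD)) * sW hD i : ↥(WD hD)) + 1 =
        lenD D (wp (sW hD) l : ↥(WD hD)) := hdrop
      have e3 : lenD D (((wp (sW hD) l : ↥(WD hD)) : Equiv.Perm (Fin D.nroots)) *
          (sW hD i : Equiv.Perm (Fin D.nroots))) =
          lenD D ((wp (sW hD) l : ↥(WD hD)) : Equiv.Perm (Fin D.nroots)) + 1 := e1
      rw [Subgroup.coe_mul] at e2
      omega
    have hneg' : reflWord D (l.map Fin.val) (D.simple i.val) < D.nroots / 2 := by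
      rw [← not_le]
      intro hle
      apply hneg
      have e := wp_sW_val hD l ⟨D.simple i.val, (J.S i.val i.isLt).1⟩
      show D.nroots / 2 ≤ (((wp (sW hD) l : ↥(WD hD)) : Equiv.Perm (Fin D.nroots))
        ⟨D.simple i.val, (J.S i.val i.isLt).1⟩).val
      rw [e]
      exact hle
    have hlt : ∀ k ∈ l.map Fin.val, k < D.rank := by
      intro k hk
      rw [List.mem_map] at hk
      obtain ⟨a, _, rfl⟩ := hk
      exact a.isLt
    obtain ⟨u1, j, u2, hu, hj⟩ := exchange J H.nS hRP i.isLt (l.map Fin.val) hlt hneg'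
    rw [List.map_eq_append_iff] at hu
    obtain ⟨l1, l2', rfl, rfl, hl2'⟩ := hu
    rw [List.map_eq_cons_iff] at hl2'
    obtain ⟨j', l2, rfl, rfl, rfl⟩ := hl2'
    refine ⟨l1, j', l2, rfl, ?_⟩
    have e : sW hD j' * wp (sW hD) l2 * sW hD i = wp (sW hD) (j' :: (l2 ++ [i])) := by
      rw [wp_cons, wp_append, wp_singleton, mul_assoc]
    rw [e]
    apply Subtype.ext
    apply Equiv.ext
    intro r
    apply Fin.ext
    rw [wp_sW_val, wp_sW_val, List.map_cons, List.map_append, List.map_singleton]
    apply reflWord_delete_pair hD _ j'.isLt i.isLt hj _ r.isLt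
    intro k hk
    exact hlt k (by
      rw [List.map_append, List.map_cons, List.mem_append, List.mem_cons]
      right; right; exact hk)
  · intro i j
    rw [hM]
    exact (ord_of_check hD h1 hO i j).1
  · intro i j k hij hk
    rw [hM]
    exact (ord_of_check hD h1 hO i j).2 hij k hk

/-- the isomorphism of the Coxeter group onto the Weyl group -/
noncomputable def coxEquiv {SS : ℕ} (h1 : checkSS D SS = true) (h2 : checkCS D SS = true)
    (h3 : checkCI D = true) {Mt : List (List ℕ)} (hO : checkOrd D SS Mt = true)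
    (M : CoxeterMatrix (Fin D.rank))
    (hM : ∀ i j : Fin D.rank, M i j = (Mt.getD i.val []).getD j.val 0) :
    M.Group ≃* ↥(WD hD) :=
  (chev_exData hD h1 h2 h3 hO M hM).equiv M.toCoxeterSystem (closure_range_sW hD)

theorem coxEquiv_simple {SS : ℕ} (h1 : checkSS D SS = true) (h2 : checkCS D SS = true)
    (h3 : checkCI D = true) {Mt : List (List ℕ)} (hO : checkOrd D SS Mt = true)
    (M : CoxeterMatrix (Fin D.rank))
    (hM : ∀ i j : Fin D.rank, M i j = (Mt.getD i.val []).getD j.val 0) (i : Fin D.rank) :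
    coxEquiv hD h1 h2 h3 hO M hM (M.simple i) = sW hD i :=
  (chev_exData hD h1 h2 h3 hO M hM).equiv_simple M.toCoxeterSystem (closure_range_sW hD) i

/-- the order of the Weyl group -/
theorem card_WD {SS : ℕ} {pl : List ℕ} {steps : List Step}
    (h1 : checkSS D SS = true) (h2 : checkCS D SS = true) (h3 : checkCI D = true)
    (h4 : checkPL D pl = true)
    (h5 : checkChain D.nroots D.rank SS pl steps (List.range D.rank) = true) :
    Nat.card ↥(WD hD) = chainProd 1 steps := by
  classical
  have J := validJ_of_mem hD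
  have hX := chevWD_ok hD h1 h2 h3
  have hpl := pl_of_check h4
  have hsum := WData.sum_W hX (SS := SS) (pl := pl)
    (fun i r => ss_of_check J h1 i.isLt r.isLt) (fun j => hpl.2 j.val j.isLt) hpl.1 1 h5
  rw [← hsum]
  simp only [one_pow, Finset.sum_const, smul_eq_mul, mul_one]
  rw [Nat.card_eq_fintype_card, Fintype.card_subtype]
  rfl

include hD in
/-- the order of the Coxeter group -/
theorem card_coxeter {SS : ℕ} {pl : List ℕ} {steps : List Step}
    (h1 : checkSS D SS = true) (h2 : checkCS D SS = true) (h3 : checkCI D = true)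
    (h4 : checkPL D pl = true)
    (h5 : checkChain D.nroots D.rank SS pl steps (List.range D.rank) = true)
    {Mt : List (List ℕ)} (hO : checkOrd D SS Mt = true)
    (M : CoxeterMatrix (Fin D.rank))
    (hM : ∀ i j : Fin D.rank, M i j = (Mt.getD i.val []).getD j.val 0) :
    Nat.card M.Group = chainProd 1 steps := by
  rw [Nat.card_congr (coxEquiv hD h1 h2 h3 hO M hM).toEquiv, card_WD hD h1 h2 h3 h4 h5]

end

end Cfsg.Agent.Lib.Helper8.Chev
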