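import Cfsg.Agent.Lib.Helper8.ChevWD2

set_option autoImplicit false

/-! Certificate for the Poincaré polynomial of the Weyl group of type B2. -/

namespace Cfsg.Agent.Lib.Helper8.Chev

open Cfsg.Lie Matrix Cfsg.Agent.Lib.Helper8.Weyl

/-- packed tables of the fundamental reflections -/
def ssB2 : ℕ := 0x7050603040102000406020700050103

/-- the fundamental roots -/
def plB2 : List ℕ := [5, 4]

/-- the chain of parabolic subgroups -/
def stepsB2 : List Step := [([1], 0x2010403060507030501070006020404060207000501030706050403020100, [(0, 0, [1, 5], 0), (0, 0, [0, 2], 1), (1, 1, [3, 1], 2), (2, 0, [2, 5], 3)]),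
  ([], 0x7050603040102000706050403020100, [(0, 0, [0, 1], 0), (0, 1, [0, 0], 1)])]

set_option maxRecDepth 1000000 in
theorem checkSS_B2 : checkSS chevB2 ssB2 = true := by decide +kernel

set_option maxRecDepth 1000000 in
theorem checkCS_B2 : checkCS chevB2 ssB2 = true := by decide +kernel

set_option maxRecDepth 1000000 in
theorem checkCI_B2 : checkCI chevB2 = true := by decide +kernel

theorem checkPL_B2 : checkPL chevB2 plB2 = true := by decide +kernel

set_option maxRecDepth 1000000 in
theorem checkChain_B2 :
    checkChain chevB2.nroots chevB2.rank ssB2 plB2 stepsB2 (List.range chevB2.rank) = true := by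
  decide +kernel

set_option maxRecDepth 1000000 in
theorem poly_B2 :
    pmul (xm1Poly chevB2.rank) (chainPoly stepsB2) = degPoly [2, 4] := by
  decide +kernel

end Cfsg.Agent.Lib.Helper8.Chev
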