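import Cfsg.Agent.Lib.Helper8.ChevWD2

set_option autoImplicit false

/-! Certificate for the Poincaré polynomial of the Weyl group of type D4. -/

namespace Cfsg.Agent.Lib.Helper8.Chev

open Cfsg.Lie Matrix Cfsg.Agent.Lib.Helper8.Weyl

/-- packed tables of the fundamental reflections -/
def ssD4 : ℕ := 0x17151613141210110e0f0d0b0c0a080906070503040102001714131615120f0e11100a0c0b0d07060908050201040300161715141213110d0c09100f08070e0b0a060405030200011711100f0e05161514130d0c0b0a04030201120908070600

/-- the fundamental roots -/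
def plD4 : List ℕ := [18, 14, 13, 12]

/-- the chain of parabolic subgroups -/
def stepsD4 : List Step := [([1, 2, 3], 0x50402030100110f100e0c0d0a0b09070806171614151312120907080600161415130c0d0a0b0402030117110f100e05130e0a0b0601171415120f1007080502030016110c0d090415100d0b080317161312110e090605040100140f0c0a0702140f0a0c0702171316120e1106090501040015100b0d080316110d0c090417151412100f080705030200130e0b0a06011711100f0e05161514130d0c0b0a0403020112090807060017161514131211100f0e0d0c0b0a09080706050403020100, [(0, 0, [1, 9, 10, 11], 0), (0, 0, [0, 2, 10, 11], 1), (1, 1, [9, 1, 3, 4], 2), (2, 2, [9, 10, 2, 5], 3), (2, 3, [9, 11, 5, 2], 3), (3, 3, [9, 6, 4, 3], 4), (5, 1, [7, 5, 11, 10], 5), (6, 0, [6, 9, 11, 10], 6)]),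
  ([1, 3], 0x1513121716140b08100d060e09110a070f0c0301000504021614121715130c09110d070f08100a060e0b0402000503011714131615120f0e11100a0c0b0d0706090805020104030017161514131211100f0e0d0c0b0a09080706050403020100, [(0, 0, [0, 5, 1, 7], 0), (0, 2, [0, 2, 0, 7], 1), (1, 1, [0, 1, 5, 3], 2), (2, 3, [0, 7, 5, 2], 3)]),
  ([3], 0x151716131214100d0b08110e09060f0c0a07030504010002161715141213110d0c09100f08070e0b0a0604050302000117161514131211100f0e0d0c0b0a09080706050403020100, [(0, 0, [0, 1, 0, 6], 0), (0, 1, [0, 0, 0, 2], 1), (1, 3, [0, 6, 0, 1], 2)]),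
  ([], 0x17151613141210110e0f0d0b0c0a0809060705030401020017161514131211100f0e0d0c0b0a09080706050403020100, [(0, 0, [0, 0, 0, 1], 0), (0, 3, [0, 0, 0, 0], 1)])]

set_option maxRecDepth 1000000 in
theorem checkSS_D4 : checkSS chevD4 ssD4 = true := by decide +kernel

set_option maxRecDepth 1000000 in
theorem checkCS_D4 : checkCS chevD4 ssD4 = true := by decide +kernel

set_option maxRecDepth 1000000 in
theorem checkCI_D4 : checkCI chevD4 = true := by decide +kernel

theorem checkPL_D4 : checkPL chevD4 plD4 = true := by decide +kernel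

set_option maxRecDepth 1000000 in
theorem checkChain_D4 :
    checkChain chevD4.nroots chevD4.rank ssD4 plD4 stepsD4 (List.range chevD4.rank) = true := by
  decide +kernel

set_option maxRecDepth 1000000 in
theorem poly_D4 :
    pmul (xm1Poly chevD4.rank) (chainPoly stepsD4) = degPoly [2, 4, 4, 6] := by
  decide +kernel

end Cfsg.Agent.Lib.Helper8.Chev
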