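import Cfsg.Agent.Lib.Helper8.ChevCox2
import Cfsg.Agent.Lib.Helper8.ChevWC_G2
import Cfsg.Agent.Lib.Helper8.ChevWC_B2
import Cfsg.Agent.Lib.Helper8.ChevWC_D4
import Cfsg.Agent.Lib.Helper8.ChevWC_F4
import Cfsg.Agent.Lib.Helper8.ChevWC_E6
import Cfsg.Agent.Lib.Helper8.ChevWC_E7
import Cfsg.Agent.Lib.Helper8.ChevWC_E8

set_option autoImplicit false

/-! The Coxeter groups of the exceptional types: certificates and orders. -/

namespace Cfsg.Agent.Lib.Helper8.Chev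

open Cfsg.Lie Matrix Cfsg.Agent.Lib.Helper8.Weyl

/-- the Coxeter matrix of type G2 as a table -/
def MtG2 : List (List ℕ) := [[1, 6], [6, 1]]

set_option maxRecDepth 1000000 in
theorem checkOrd_G2 : checkOrd chevG2 ssG2 MtG2 = true := by decide +kernel

theorem hM_G2 : ∀ i j : Fin 2,
    (CoxeterMatrix.G₂ : CoxeterMatrix (Fin 2)) i j = (MtG2.getD i.val []).getD j.val 0 := by
  intro i j
  fin_cases i <;> fin_cases j <;> rfl

theorem mem_G2 : chevG2 ∈ [chevG2, chevB2, chevD4, chevF4, chevE6, chevE7, chevE8] := by simp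

set_option maxRecDepth 1000000 in
theorem chainProd_G2 : chainProd 1 stepsG2 = 12 := by decide +kernel

theorem card_cox_G2 : Nat.card (CoxeterMatrix.G₂ : CoxeterMatrix (Fin 2)).Group = 12 :=
  (card_coxeter (D := chevG2) mem_G2 checkSS_G2 checkCS_G2 checkCI_G2 checkPL_G2
    checkChain_G2 checkOrd_G2 CoxeterMatrix.G₂ hM_G2).trans chainProd_G2

/-- the isomorphism of the Coxeter group of type G2 onto the Weyl group -/
noncomputable def coxEquiv_G2 : (CoxeterMatrix.G₂ : CoxeterMatrix (Fin 2)).Group ≃* ↥(WD mem_G2) :=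
  coxEquiv (D := chevG2) mem_G2 checkSS_G2 checkCS_G2 checkCI_G2 checkOrd_G2 CoxeterMatrix.G₂ hM_G2

theorem coxEquiv_G2_simple (i : Fin 2) :
    coxEquiv_G2 ((CoxeterMatrix.G₂ : CoxeterMatrix (Fin 2)).simple i) = sW mem_G2 i :=
  coxEquiv_simple (D := chevG2) mem_G2 checkSS_G2 checkCS_G2 checkCI_G2 checkOrd_G2
    CoxeterMatrix.G₂ hM_G2 i

/-- the Coxeter matrix of type B2 as a table -/
def MtB2 : List (List ℕ) := [[1, 4], [4, 1]]

set_option maxRecDepth 1000000 in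
theorem checkOrd_B2 : checkOrd chevB2 ssB2 MtB2 = true := by decide +kernel

theorem hM_B2 : ∀ i j : Fin 2,
    ((CoxeterMatrix.B 2) : CoxeterMatrix (Fin 2)) i j = (MtB2.getD i.val []).getD j.val 0 := by
  intro i j
  fin_cases i <;> fin_cases j <;> rfl

theorem mem_B2 : chevB2 ∈ [chevG2, chevB2, chevD4, chevF4, chevE6, chevE7, chevE8] := by simp

set_option maxRecDepth 1000000 in
theorem chainProd_B2 : chainProd 1 stepsB2 = 8 := by decide +kernel

theorem card_cox_B2 : Nat.card ((CoxeterMatrix.B 2) : CoxeterMatrix (Fin 2)).Group = 8 :=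
  (card_coxeter (D := chevB2) mem_B2 checkSS_B2 checkCS_B2 checkCI_B2 checkPL_B2
    checkChain_B2 checkOrd_B2 (CoxeterMatrix.B 2) hM_B2).trans chainProd_B2

/-- the isomorphism of the Coxeter group of type B2 onto the Weyl group -/
noncomputable def coxEquiv_B2 : ((CoxeterMatrix.B 2) : CoxeterMatrix (Fin 2)).Group ≃* ↥(WD mem_B2) :=
  coxEquiv (D := chevB2) mem_B2 checkSS_B2 checkCS_B2 checkCI_B2 checkOrd_B2 (CoxeterMatrix.B 2) hM_B2

theorem coxEquiv_B2_simple (i : Fin 2) :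
    coxEquiv_B2 (((CoxeterMatrix.B 2) : CoxeterMatrix (Fin 2)).simple i) = sW mem_B2 i :=
  coxEquiv_simple (D := chevB2) mem_B2 checkSS_B2 checkCS_B2 checkCI_B2 checkOrd_B2
    (CoxeterMatrix.B 2) hM_B2 i

/-- the Coxeter matrix of type D4 as a table -/
def MtD4 : List (List ℕ) := [[1, 3, 2, 2], [3, 1, 3, 3], [2, 3, 1, 2], [2, 3, 2, 1]]

set_option maxRecDepth 1000000 in
theorem checkOrd_D4 : checkOrd chevD4 ssD4 MtD4 = true := by decide +kernel

theorem hM_D4 : ∀ i j : Fin 4,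
    (Cfsg.Lie.coxeterD4 : CoxeterMatrix (Fin 4)) i j = (MtD4.getD i.val []).getD j.val 0 := by
  intro i j
  fin_cases i <;> fin_cases j <;> rfl

theorem mem_D4 : chevD4 ∈ [chevG2, chevB2, chevD4, chevF4, chevE6, chevE7, chevE8] := by simp

set_option maxRecDepth 1000000 in
theorem chainProd_D4 : chainProd 1 stepsD4 = 192 := by decide +kernel

theorem card_cox_D4 : Nat.card (Cfsg.Lie.coxeterD4 : CoxeterMatrix (Fin 4)).Group = 192 :=
  (card_coxeter (D := chevD4) mem_D4 checkSS_D4 checkCS_D4 checkCI_D4 checkPL_D4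
    checkChain_D4 checkOrd_D4 Cfsg.Lie.coxeterD4 hM_D4).trans chainProd_D4

/-- the isomorphism of the Coxeter group of type D4 onto the Weyl group -/
noncomputable def coxEquiv_D4 : (Cfsg.Lie.coxeterD4 : CoxeterMatrix (Fin 4)).Group ≃* ↥(WD mem_D4) :=
  coxEquiv (D := chevD4) mem_D4 checkSS_D4 checkCS_D4 checkCI_D4 checkOrd_D4 Cfsg.Lie.coxeterD4 hM_D4

theorem coxEquiv_D4_simple (i : Fin 4) :
    coxEquiv_D4 ((Cfsg.Lie.coxeterD4 : CoxeterMatrix (Fin 4)).simple i) = sW mem_D4 i :=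
  coxEquiv_simple (D := chevD4) mem_D4 checkSS_D4 checkCS_D4 checkCI_D4 checkOrd_D4
    Cfsg.Lie.coxeterD4 hM_D4 i

/-- the Coxeter matrix of type F4 as a table -/
def MtF4 : List (List ℕ) := [[1, 3, 2, 2], [3, 1, 4, 2], [2, 4, 1, 3], [2, 2, 3, 1]]

set_option maxRecDepth 1000000 in
theorem checkOrd_F4 : checkOrd chevF4 ssF4 MtF4 = true := by decide +kernel

theorem hM_F4 : ∀ i j : Fin 4,
    (CoxeterMatrix.F₄ : CoxeterMatrix (Fin 4)) i j = (MtF4.getD i.val []).getD j.val 0 := by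
  intro i j
  fin_cases i <;> fin_cases j <;> rfl

theorem mem_F4 : chevF4 ∈ [chevG2, chevB2, chevD4, chevF4, chevE6, chevE7, chevE8] := by simp

set_option maxRecDepth 1000000 in
theorem chainProd_F4 : chainProd 1 stepsF4 = 1152 := by decide +kernel

theorem card_cox_F4 : Nat.card (CoxeterMatrix.F₄ : CoxeterMatrix (Fin 4)).Group = 1152 :=
  (card_coxeter (D := chevF4) mem_F4 checkSS_F4 checkCS_F4 checkCI_F4 checkPL_F4
    checkChain_F4 checkOrd_F4 CoxeterMatrix.F₄ hM_F4).trans chainProd_F4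

/-- the isomorphism of the Coxeter group of type F4 onto the Weyl group -/
noncomputable def coxEquiv_F4 : (CoxeterMatrix.F₄ : CoxeterMatrix (Fin 4)).Group ≃* ↥(WD mem_F4) :=
  coxEquiv (D := chevF4) mem_F4 checkSS_F4 checkCS_F4 checkCI_F4 checkOrd_F4 CoxeterMatrix.F₄ hM_F4

theorem coxEquiv_F4_simple (i : Fin 4) :
    coxEquiv_F4 ((CoxeterMatrix.F₄ : CoxeterMatrix (Fin 4)).simple i) = sW mem_F4 i :=
  coxEquiv_simple (D := chevF4) mem_F4 checkSS_F4 checkCS_F4 checkCI_F4 checkOrd_F4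
    CoxeterMatrix.F₄ hM_F4 i

/-- the Coxeter matrix of type E6 as a table -/
def MtE6 : List (List ℕ) := [[1, 2, 3, 2, 2, 2], [2, 1, 2, 3, 2, 2], [3, 2, 1, 3, 2, 2], [2, 3, 3, 1, 3, 2], [2, 2, 2, 3, 1, 3], [2, 2, 2, 2, 3, 1]]

set_option maxRecDepth 1000000 in
theorem checkOrd_E6 : checkOrd chevE6 ssE6 MtE6 = true := by decide +kernel

theorem hM_E6 : ∀ i j : Fin 6,
    (CoxeterMatrix.E₆ : CoxeterMatrix (Fin 6)) i j = (MtE6.getD i.val []).getD j.val 0 := by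
  intro i j
  fin_cases i <;> fin_cases j <;> rfl

theorem mem_E6 : chevE6 ∈ [chevG2, chevB2, chevD4, chevF4, chevE6, chevE7, chevE8] := by simp

set_option maxRecDepth 1000000 in
theorem chainProd_E6 : chainProd 1 stepsE6 = 51840 := by decide +kernel

theorem card_cox_E6 : Nat.card (CoxeterMatrix.E₆ : CoxeterMatrix (Fin 6)).Group = 51840 :=
  (card_coxeter (D := chevE6) mem_E6 checkSS_E6 checkCS_E6 checkCI_E6 checkPL_E6
    checkChain_E6 checkOrd_E6 CoxeterMatrix.E₆ hM_E6).trans chainProd_E6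

/-- the isomorphism of the Coxeter group of type E6 onto the Weyl group -/
noncomputable def coxEquiv_E6 : (CoxeterMatrix.E₆ : CoxeterMatrix (Fin 6)).Group ≃* ↥(WD mem_E6) :=
  coxEquiv (D := chevE6) mem_E6 checkSS_E6 checkCS_E6 checkCI_E6 checkOrd_E6 CoxeterMatrix.E₆ hM_E6

theorem coxEquiv_E6_simple (i : Fin 6) :
    coxEquiv_E6 ((CoxeterMatrix.E₆ : CoxeterMatrix (Fin 6)).simple i) = sW mem_E6 i :=
  coxEquiv_simple (D := chevE6) mem_E6 checkSS_E6 checkCS_E6 checkCI_E6 checkOrd_E6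
    CoxeterMatrix.E₆ hM_E6 i

/-- the Coxeter matrix of type E7 as a table -/
def MtE7 : List (List ℕ) := [[1, 2, 3, 2, 2, 2, 2], [2, 1, 2, 3, 2, 2, 2], [3, 2, 1, 3, 2, 2, 2], [2, 3, 3, 1, 3, 2, 2], [2, 2, 2, 3, 1, 3, 2], [2, 2, 2, 2, 3, 1, 3], [2, 2, 2, 2, 2, 3, 1]]

set_option maxRecDepth 1000000 in
theorem checkOrd_E7 : checkOrd chevE7 ssE7 MtE7 = true := by decide +kernel

theorem hM_E7 : ∀ i j : Fin 7,
    (CoxeterMatrix.E₇ : CoxeterMatrix (Fin 7)) i j = (MtE7.getD i.val []).getD j.val 0 := by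
  intro i j
  fin_cases i <;> fin_cases j <;> rfl

theorem mem_E7 : chevE7 ∈ [chevG2, chevB2, chevD4, chevF4, chevE6, chevE7, chevE8] := by simp

set_option maxRecDepth 1000000 in
theorem chainProd_E7 : chainProd 1 stepsE7 = 2903040 := by decide +kernel

theorem card_cox_E7 : Nat.card (CoxeterMatrix.E₇ : CoxeterMatrix (Fin 7)).Group = 2903040 :=
  (card_coxeter (D := chevE7) mem_E7 checkSS_E7 checkCS_E7 checkCI_E7 checkPL_E7
    checkChain_E7 checkOrd_E7 CoxeterMatrix.E₇ hM_E7).trans chainProd_E7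

/-- the isomorphism of the Coxeter group of type E7 onto the Weyl group -/
noncomputable def coxEquiv_E7 : (CoxeterMatrix.E₇ : CoxeterMatrix (Fin 7)).Group ≃* ↥(WD mem_E7) :=
  coxEquiv (D := chevE7) mem_E7 checkSS_E7 checkCS_E7 checkCI_E7 checkOrd_E7 CoxeterMatrix.E₇ hM_E7

theorem coxEquiv_E7_simple (i : Fin 7) :
    coxEquiv_E7 ((CoxeterMatrix.E₇ : CoxeterMatrix (Fin 7)).simple i) = sW mem_E7 i :=
  coxEquiv_simple (D := chevE7) mem_E7 checkSS_E7 checkCS_E7 checkCI_E7 checkOrd_E7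
    CoxeterMatrix.E₇ hM_E7 i

/-- the Coxeter matrix of type E8 as a table -/
def MtE8 : List (List ℕ) := [[1, 2, 3, 2, 2, 2, 2, 2], [2, 1, 2, 3, 2, 2, 2, 2], [3, 2, 1, 3, 2, 2, 2, 2], [2, 3, 3, 1, 3, 2, 2, 2], [2, 2, 2, 3, 1, 3, 2, 2], [2, 2, 2, 2, 3, 1, 3, 2], [2, 2, 2, 2, 2, 3, 1, 3], [2, 2, 2, 2, 2, 2, 3, 1]]

set_option maxRecDepth 1000000 in
theorem checkOrd_E8 : checkOrd chevE8 ssE8 MtE8 = true := by decide +kernel

theorem hM_E8 : ∀ i j : Fin 8,
    (CoxeterMatrix.E₈ : CoxeterMatrix (Fin 8)) i j = (MtE8.getD i.val []).getD j.val 0 := by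
  intro i j
  fin_cases i <;> fin_cases j <;> rfl

theorem mem_E8 : chevE8 ∈ [chevG2, chevB2, chevD4, chevF4, chevE6, chevE7, chevE8] := by simp

set_option maxRecDepth 1000000 in
theorem chainProd_E8 : chainProd 1 stepsE8 = 696729600 := by decide +kernel

theorem card_cox_E8 : Nat.card (CoxeterMatrix.E₈ : CoxeterMatrix (Fin 8)).Group = 696729600 :=
  (card_coxeter (D := chevE8) mem_E8 checkSS_E8 checkCS_E8 checkCI_E8 checkPL_E8
    checkChain_E8 checkOrd_E8 CoxeterMatrix.E₈ hM_E8).trans chainProd_E8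

/-- the isomorphism of the Coxeter group of type E8 onto the Weyl group -/
noncomputable def coxEquiv_E8 : (CoxeterMatrix.E₈ : CoxeterMatrix (Fin 8)).Group ≃* ↥(WD mem_E8) :=
  coxEquiv (D := chevE8) mem_E8 checkSS_E8 checkCS_E8 checkCI_E8 checkOrd_E8 CoxeterMatrix.E₈ hM_E8

theorem coxEquiv_E8_simple (i : Fin 8) :
    coxEquiv_E8 ((CoxeterMatrix.E₈ : CoxeterMatrix (Fin 8)).simple i) = sW mem_E8 i :=
  coxEquiv_simple (D := chevE8) mem_E8 checkSS_E8 checkCS_E8 checkCI_E8 checkOrd_E8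
    CoxeterMatrix.E₈ hM_E8 i

end Cfsg.Agent.Lib.Helper8.Chev
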