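import Cfsg.Agent.Lib.Helper8.ChevCox3

set_option autoImplicit false

/-! The order of the Coxeter element. -/

namespace Cfsg.Agent.Lib.Helper8.Chev

open Cfsg.Lie Matrix Cfsg.Agent.Lib.Helper8.Weyl

section

variable {D : ChevalleyDatum}

/-- the action of a word through the table -/
noncomputable def appF (SS n : ℕ) (w : List ℕ) (x : ℕ) : ℕ :=
  @List.rec ℕ (fun _ => ℕ) x (fun i _ ih => at2 SS n i ih) w

theorem appF_eq (J : ValidJ D) (H : ValidH D) {SS : ℕ} (hS : checkSS D SS = true) {w : List ℕ}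
    (hw : ∀ i ∈ w, i < D.rank) {x : ℕ} (hx : x < D.nroots) :
    appF SS D.nroots w x = reflWord D w x := by
  induction w with
  | nil => rfl
  | cons i w ih =>
    have hw' : ∀ j ∈ w, j < D.rank := fun j hj => hw j (List.mem_cons_of_mem _ hj)
    show at2 SS D.nroots i (appF SS D.nroots w x) = _
    rw [ih hw', ss_of_check J hS (hw i List.mem_cons_self) (reflWord_lt J H.nS hw' hx),
      reflWord_cons]

/-- powers of a word through the table -/
noncomputable def cpowF (SS n : ℕ) (w : List ℕ) (k x : ℕ) : ℕ :=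
  @Nat.rec (fun _ => ℕ) x (fun _ y => appF SS n w y) k

variable (hD : D ∈ [chevG2, chevB2, chevD4, chevF4, chevE6, chevE7, chevE8])

theorem cpowF_eq {SS : ℕ} (hS : checkSS D SS = true) (l : List (Fin D.rank)) (k : ℕ)
    (r : Fin D.nroots) :
    cpowF SS D.nroots (l.map Fin.val) k r.val =
      ((((wp (sW hD) l) ^ k : ↥(WD hD)) : Equiv.Perm (Fin D.nroots)) r).val := by
  have J := validJ_of_mem hD
  have H := validH_of_mem hD
  have hlt : ∀ i ∈ l.map Fin.val, i < D.rank := by
    intro i hi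
    rw [List.mem_map] at hi
    obtain ⟨a, _, rfl⟩ := hi
    exact a.isLt
  induction k with
  | zero => rfl
  | succ k ih =>
    rw [pow_succ', Subgroup.coe_mul, Equiv.Perm.mul_apply, wp_sW_val]
    show appF SS D.nroots (l.map Fin.val) (cpowF SS D.nroots (l.map Fin.val) k r.val) = _
    rw [ih, appF_eq J H hS hlt (Fin.isLt _)]

theorem pow_eq_one_iff_cpowF {SS : ℕ} (hS : checkSS D SS = true) (l : List (Fin D.rank))
    (k : ℕ) :
    (wp (sW hD) l) ^ k = 1 ↔
      forallLtF (fun r => Nat.beq (cpowF SS D.nroots (l.map Fin.val) k r) r) D.nroots = true := by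
  rw [forallLtF_eq_true]
  constructor
  · intro h r hr
    rw [Nat.beq_eq, cpowF_eq hD hS l k ⟨r, hr⟩, h]
    rfl
  · intro h
    apply Subtype.ext
    apply Equiv.ext
    intro r
    apply Fin.ext
    have := h r.val r.isLt
    rw [Nat.beq_eq, cpowF_eq hD hS l k r] at this
    exact this

/-- the order of the product of a word -/
noncomputable def checkCoxOrd (SS n : ℕ) (w : List ℕ) (h : ℕ) : Bool :=
  !(Nat.beq h 0) && forallLtF (fun r => Nat.beq (cpowF SS n w h r) r) n &&
  forallLtF (fun m => Nat.beq m 0 ||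
    !(forallLtF (fun r => Nat.beq (cpowF SS n w m r) r) n)) h

theorem orderOf_of_check {SS : ℕ} (hS : checkSS D SS = true) (l : List (Fin D.rank)) {h : ℕ}
    (hc : checkCoxOrd SS D.nroots (l.map Fin.val) h = true) : orderOf (wp (sW hD) l) = h := by
  simp only [checkCoxOrd, Bool.and_eq_true, Bool.not_eq_true'] at hc
  obtain ⟨⟨h0, h1⟩, h2⟩ := hc
  have hne : h ≠ 0 := by
    intro e
    rw [e] at h0
    exact Bool.noConfusion h0
  rw [orderOf_eq_iff (Nat.pos_of_ne_zero hne)]
  refine ⟨(pow_eq_one_iff_cpowF hD hS l h).mpr h1, fun m hm1 hm2 hpow => ?_⟩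
  rw [forallLtF_eq_true] at h2
  have := h2 m hm1
  rw [Bool.or_eq_true, Nat.beq_eq, Bool.not_eq_true'] at this
  rcases this with h3 | h3
  · omega
  · rw [(pow_eq_one_iff_cpowF hD hS l m).mp hpow] at h3
    exact Bool.noConfusion h3

end

end Cfsg.Agent.Lib.Helper8.Chev
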