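import Cfsg.Agent.Lib.Helper8.ChevCox4

set_option autoImplicit false

/-! The order of the Coxeter element, type by type. -/

namespace Cfsg.Agent.Lib.Helper8.Chev

open Cfsg.Lie Matrix Cfsg.Agent.Lib.Helper8.Weyl

set_option maxRecDepth 1000000 in
theorem checkCoxOrd_B2 :
    checkCoxOrd ssB2 chevB2.nroots ((List.finRange 2).map Fin.val) 4 = true := by
  decide +kernel

theorem coxElt_B2 :
    orderOf ((List.finRange 2).map ((CoxeterMatrix.B 2) : CoxeterMatrix (Fin 2)).simple).prod = 4 := by
  rw [← MulEquiv.orderOf_eq coxEquiv_B2, map_list_prod, List.map_map]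
  have e : (List.finRange 2).map (⇑coxEquiv_B2 ∘ ((CoxeterMatrix.B 2) : CoxeterMatrix (Fin 2)).simple) =
      (List.finRange 2).map (sW mem_B2) :=
    List.map_congr_left (fun i _ => coxEquiv_B2_simple i)
  rw [e]
  exact orderOf_of_check (D := chevB2) mem_B2 checkSS_B2 (List.finRange 2) checkCoxOrd_B2

set_option maxRecDepth 1000000 in
theorem checkCoxOrd_G2 :
    checkCoxOrd ssG2 chevG2.nroots ((List.finRange 2).map Fin.val) 6 = true := by
  decide +kernel

theorem coxElt_G2 :
    orderOf ((List.finRange 2).map (CoxeterMatrix.G₂ : CoxeterMatrix (Fin 2)).simple).prod = 6 := by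
  rw [← MulEquiv.orderOf_eq coxEquiv_G2, map_list_prod, List.map_map]
  have e : (List.finRange 2).map (⇑coxEquiv_G2 ∘ (CoxeterMatrix.G₂ : CoxeterMatrix (Fin 2)).simple) =
      (List.finRange 2).map (sW mem_G2) :=
    List.map_congr_left (fun i _ => coxEquiv_G2_simple i)
  rw [e]
  exact orderOf_of_check (D := chevG2) mem_G2 checkSS_G2 (List.finRange 2) checkCoxOrd_G2

set_option maxRecDepth 1000000 in
theorem checkCoxOrd_D4 :
    checkCoxOrd ssD4 chevD4.nroots ((List.finRange 4).map Fin.val) 6 = true := by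
  decide +kernel

theorem coxElt_D4 :
    orderOf ((List.finRange 4).map (Cfsg.Lie.coxeterD4 : CoxeterMatrix (Fin 4)).simple).prod = 6 := by
  rw [← MulEquiv.orderOf_eq coxEquiv_D4, map_list_prod, List.map_map]
  have e : (List.finRange 4).map (⇑coxEquiv_D4 ∘ (Cfsg.Lie.coxeterD4 : CoxeterMatrix (Fin 4)).simple) =
      (List.finRange 4).map (sW mem_D4) :=
    List.map_congr_left (fun i _ => coxEquiv_D4_simple i)
  rw [e]
  exact orderOf_of_check (D := chevD4) mem_D4 checkSS_D4 (List.finRange 4) checkCoxOrd_D4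

set_option maxRecDepth 1000000 in
theorem checkCoxOrd_F4 :
    checkCoxOrd ssF4 chevF4.nroots ((List.finRange 4).map Fin.val) 12 = true := by
  decide +kernel

theorem coxElt_F4 :
    orderOf ((List.finRange 4).map (CoxeterMatrix.F₄ : CoxeterMatrix (Fin 4)).simple).prod = 12 := by
  rw [← MulEquiv.orderOf_eq coxEquiv_F4, map_list_prod, List.map_map]
  have e : (List.finRange 4).map (⇑coxEquiv_F4 ∘ (CoxeterMatrix.F₄ : CoxeterMatrix (Fin 4)).simple) =
      (List.finRange 4).map (sW mem_F4) :=
    List.map_congr_left (fun i _ => coxEquiv_F4_simple i)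
  rw [e]
  exact orderOf_of_check (D := chevF4) mem_F4 checkSS_F4 (List.finRange 4) checkCoxOrd_F4

set_option maxRecDepth 1000000 in
theorem checkCoxOrd_E6 :
    checkCoxOrd ssE6 chevE6.nroots ((List.finRange 6).map Fin.val) 12 = true := by
  decide +kernel

theorem coxElt_E6 :
    orderOf ((List.finRange 6).map (CoxeterMatrix.E₆ : CoxeterMatrix (Fin 6)).simple).prod = 12 := by
  rw [← MulEquiv.orderOf_eq coxEquiv_E6, map_list_prod, List.map_map]
  have e : (List.finRange 6).map (⇑coxEquiv_E6 ∘ (CoxeterMatrix.E₆ : CoxeterMatrix (Fin 6)).simple) =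
      (List.finRange 6).map (sW mem_E6) :=
    List.map_congr_left (fun i _ => coxEquiv_E6_simple i)
  rw [e]
  exact orderOf_of_check (D := chevE6) mem_E6 checkSS_E6 (List.finRange 6) checkCoxOrd_E6

set_option maxRecDepth 1000000 in
theorem checkCoxOrd_E7 :
    checkCoxOrd ssE7 chevE7.nroots ((List.finRange 7).map Fin.val) 18 = true := by
  decide +kernel

theorem coxElt_E7 :
    orderOf ((List.finRange 7).map (CoxeterMatrix.E₇ : CoxeterMatrix (Fin 7)).simple).prod = 18 := by
  rw [← MulEquiv.orderOf_eq coxEquiv_E7, map_list_prod, List.map_map]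
  have e : (List.finRange 7).map (⇑coxEquiv_E7 ∘ (CoxeterMatrix.E₇ : CoxeterMatrix (Fin 7)).simple) =
      (List.finRange 7).map (sW mem_E7) :=
    List.map_congr_left (fun i _ => coxEquiv_E7_simple i)
  rw [e]
  exact orderOf_of_check (D := chevE7) mem_E7 checkSS_E7 (List.finRange 7) checkCoxOrd_E7

set_option maxRecDepth 1000000 in
theorem checkCoxOrd_E8 :
    checkCoxOrd ssE8 chevE8.nroots ((List.finRange 8).map Fin.val) 30 = true := by
  decide +kernel

theorem coxElt_E8 :
    orderOf ((List.finRange 8).map (CoxeterMatrix.E₈ : CoxeterMatrix (Fin 8)).simple).prod = 30 := by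
  rw [← MulEquiv.orderOf_eq coxEquiv_E8, map_list_prod, List.map_map]
  have e : (List.finRange 8).map (⇑coxEquiv_E8 ∘ (CoxeterMatrix.E₈ : CoxeterMatrix (Fin 8)).simple) =
      (List.finRange 8).map (sW mem_E8) :=
    List.map_congr_left (fun i _ => coxEquiv_E8_simple i)
  rw [e]
  exact orderOf_of_check (D := chevE8) mem_E8 checkSS_E8 (List.finRange 8) checkCoxOrd_E8

end Cfsg.Agent.Lib.Helper8.Chev
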