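import Cfsg.Agent.Lib.Helper8.ChevCox2
import Cfsg.Agent.Lib.Helper8.ChevOrd2

set_option autoImplicit false

/-! `N / H` is the Weyl group. -/

namespace Cfsg.Agent.Lib.Helper8.Chev

open Cfsg.Lie Matrix Cfsg.Agent.Lib.Helper8.Weyl

section

variable {D : ChevalleyDatum} {F : Type*} [Field F]

/-- a permutation of the root indices as a function on the natural numbers -/
def permFun (w : Equiv.Perm (Fin D.nroots)) (r : ℕ) : ℕ :=
  if h : r < D.nroots then (w ⟨r, h⟩).val else r

theorem permFun_lt (w : Equiv.Perm (Fin D.nroots)) {r : ℕ} (h : r < D.nroots) :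
    permFun w r = (w ⟨r, h⟩).val := dif_pos h

theorem RootPerm.congr {M : Matrix D.Idx D.Idx F} {σ τ : ℕ → ℕ} (h : RootPerm D F M σ)
    (e : ∀ s < D.nroots, σ s = τ s) : RootPerm D F M τ := by
  intro s hs
  rw [← e s hs]
  exact h s hs

variable (hD : D ∈ [chevG2, chevB2, chevD4, chevF4, chevE6, chevE7, chevE8])

theorem exists_perm_monomial {n : GL D.Idx F} (hn : n ∈ D.monomialSubgroup F) :
    ∃ w : ↥(WD hD), RootPerm D F (n : Matrix D.Idx D.Idx F)
      (permFun (w : Equiv.Perm (Fin D.nroots))) := by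
  have V := valid0_of_mem hD
  have V1 := valid1_of_mem hD
  have J := validJ_of_mem hD
  have H := validH_of_mem hD
  obtain ⟨h, hh, l, hl, rfl⟩ := monomial_form hD hn
  obtain ⟨w, hw, e⟩ := exists_perm_of_word hD hl
  refine ⟨⟨w, hw⟩, ?_⟩
  have hP := (rootPerm_torus V (torusLike_of_mem J V1 H hh)).mul
    (rootPermN_nP (F := F) J V1 H.nS l hl).rootPerm
  rw [Units.val_mul]
  refine hP.congr (fun s hs => ?_)
  rw [permFun_lt _ hs, e ⟨s, hs⟩]
  rfl

theorem perm_monomial_unique {n : GL D.Idx F} {w w' : ↥(WD hD)}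
    (h1 : RootPerm D F (n : Matrix D.Idx D.Idx F) (permFun (w : Equiv.Perm (Fin D.nroots))))
    (h2 : RootPerm D F (n : Matrix D.Idx D.Idx F) (permFun (w' : Equiv.Perm (Fin D.nroots)))) :
    w = w' := by
  have V := valid0_of_mem hD
  have C := copP_of_mem hD
  apply Subtype.ext
  apply Equiv.ext
  intro r
  apply Fin.ext
  have := rootPerm_unique V C (Mi := ((n⁻¹ : GL D.Idx F) : Matrix D.Idx D.Idx F))
    (by rw [← Units.val_mul, mul_inv_cancel, Units.val_one]) h1 h2 r.isLt
  rw [permFun_lt _ r.isLt, permFun_lt _ r.isLt] at this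
  exact this

/-- the permutation of the roots given by an element of `N` -/
noncomputable def permN (n : ↥(D.monomialSubgroup F)) : ↥(WD hD) :=
  (exists_perm_monomial hD n.2).choose

theorem permN_spec (n : ↥(D.monomialSubgroup F)) :
    RootPerm D F ((n : GL D.Idx F) : Matrix D.Idx D.Idx F)
      (permFun (permN hD n : Equiv.Perm (Fin D.nroots))) :=
  (exists_perm_monomial hD n.2).choose_spec

theorem permN_eq {n : ↥(D.monomialSubgroup F)} {w : ↥(WD hD)}
    (h : RootPerm D F ((n : GL D.Idx F) : Matrix D.Idx D.Idx F)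
      (permFun (w : Equiv.Perm (Fin D.nroots)))) : permN hD n = w :=
  perm_monomial_unique hD (permN_spec hD n) h

theorem permN_mul (n n' : ↥(D.monomialSubgroup F)) :
    permN hD (n * n') = permN hD n * permN hD n' := by
  apply permN_eq
  have h := (permN_spec hD n).mul (permN_spec hD n')
  rw [Subgroup.coe_mul, Units.val_mul]
  refine h.congr (fun s hs => ?_)
  rw [Function.comp_apply, permFun_lt _ hs, permFun_lt _ hs, permFun_lt _ (Fin.isLt _),
    Subgroup.coe_mul, Equiv.Perm.mul_apply]

/-- the homomorphism `N → W` -/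
noncomputable def permNHom : ↥(D.monomialSubgroup F) →* ↥(WD hD) :=
  MonoidHom.mk' (permN hD) (permN_mul hD)

theorem permNHom_nP {l : List ℕ} (hl : ∀ i ∈ l, i < D.rank) {w : ↥(WD hD)}
    (e : ∀ r : Fin D.nroots, ((w : Equiv.Perm (Fin D.nroots)) r).val = reflWord D l r.val) :
    permNHom hD ⟨nP D F l, nP_mem_monomial hD hl⟩ = w := by
  have V1 := valid1_of_mem hD
  have J := validJ_of_mem hD
  have H := validH_of_mem hD
  apply permN_eq
  refine (rootPermN_nP (F := F) J V1 H.nS l hl).rootPerm.congr (fun s hs => ?_)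
  rw [permFun_lt _ hs, e ⟨s, hs⟩]

theorem permNHom_surjective : Function.Surjective (permNHom (F := F) hD) := by
  intro w
  exact ⟨⟨nP D F (lw hD w), nP_mem_monomial hD (lw_lt hD w)⟩,
    permNHom_nP hD (lw_lt hD w) (lw_val hD w)⟩

theorem permNHom_ker :
    (permNHom (F := F) hD).ker = (D.diagonalSubgroup F).subgroupOf (D.monomialSubgroup F) := by
  have V := valid0_of_mem hD
  have V1 := valid1_of_mem hD
  have J := validJ_of_mem hD
  have H := validH_of_mem hD
  ext n
  rw [MonoidHom.mem_ker, Subgroup.mem_subgroupOf]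
  constructor
  · intro hn
    obtain ⟨h, hh, l, hl, e⟩ := monomial_form hD n.2
    obtain ⟨w, hw, ew⟩ := exists_perm_of_word hD hl
    have hP := (rootPerm_torus V (torusLike_of_mem J V1 H hh)).mul
      (rootPermN_nP (F := F) J V1 H.nS l hl).rootPerm
    have h1 : permNHom hD n = ⟨w, hw⟩ := by
      apply permN_eq
      rw [e, Units.val_mul]
      refine hP.congr (fun s hs => ?_)
      rw [permFun_lt _ hs, ew ⟨s, hs⟩]
      rfl
    rw [hn] at h1
    have hw1 : w = 1 := (congrArg Subtype.val h1).symm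
    have hl1 : nP D F l ∈ D.diagonalSubgroup F := by
      apply nP_mem_diagonal_of_pos hD _ _ le_rfl hl
      intro s hs1 hs2
      rw [← ew ⟨s, hs2⟩, hw1]
      exact hs1
    rw [e]
    exact mul_mem hh hl1
  · intro hn
    apply permN_eq
    refine (rootPerm_torus V (torusLike_of_mem J V1 H hn)).congr (fun s hs => ?_)
    rw [permFun_lt _ hs]
    rfl

theorem permNHom_nG (i : Fin D.rank) {g : ↥(D.monomialSubgroup F)}
    (hg : ((g : GL D.Idx F) : Matrix D.Idx D.Idx F) = D.nMat F (D.simple i) 1) :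
    permNHom hD g = sW hD i := by
  have V1 := valid1_of_mem hD
  have J := validJ_of_mem hD
  have hl : ∀ k ∈ [i.val], k < D.rank := by
    intro k hk
    rw [List.mem_singleton] at hk
    rw [hk]
    exact i.isLt
  have e : g = ⟨nP D F [i.val], nP_mem_monomial hD hl⟩ := by
    apply Subtype.ext
    apply Units.ext
    show ((g : GL D.Idx F) : Matrix D.Idx D.Idx F) = ((nP D F [i.val] : GL D.Idx F) : Matrix D.Idx D.Idx F)
    rw [hg, nP_cons, nP_nil, mul_one, coe_nG J V1 i.isLt]
  rw [e]
  exact permNHom_nP hD hl (fun r => rfl)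

/-- `N / H ≅ W`, for a group `C` isomorphic to the Weyl group through the fundamental
reflections -/
theorem exists_hom_monomial (M : CoxeterMatrix (Fin D.rank)) (e : M.Group ≃* ↥(WD hD))
    (he : ∀ i, e (M.simple i) = sW hD i) :
    ∃ φ : ↥(D.monomialSubgroup F) →* M.Group, Function.Surjective φ ∧
      φ.ker = (D.diagonalSubgroup F).subgroupOf (D.monomialSubgroup F) ∧
      ∀ (i : Fin D.rank) (g : ↥(D.monomialSubgroup F)),
        ((g : GL D.Idx F) : Matrix D.Idx D.Idx F) = D.nMat F (D.simple i) 1 →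
          φ g = M.simple i := by
  refine ⟨e.symm.toMonoidHom.comp (permNHom hD), ?_, ?_, ?_⟩
  · exact e.symm.surjective.comp (permNHom_surjective hD)
  · rw [← permNHom_ker hD]
    ext n
    simp only [MonoidHom.mem_ker, MonoidHom.comp_apply, MulEquiv.coe_toMonoidHom,
      EmbeddingLike.map_eq_one_iff]
  · intro i g hg
    rw [MonoidHom.comp_apply, permNHom_nG hD i hg, ← he i]
    exact e.symm_apply_apply _

end

end Cfsg.Agent.Lib.Helper8.Chev
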