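import Cfsg.Agent.Lib.Helper8.ChevHi7

set_option autoImplicit false

/-! # The centraliser of a root element whose root subgroup is central in `U` -/

namespace Cfsg.Agent.Lib.Helper8.Chev

open Cfsg.Lie Matrix

variable {D : ChevalleyDatum} {F : Type*} [Field F]

/-- the root subgroup `X_r` commutes with every positive root element -/
def CenU (D : ChevalleyDatum) (F : Type*) [Field F] (r : ℕ) : Prop :=
  ∀ s, D.IsPosRoot s → ∀ t u : F, D.x F s u * D.x F r t = D.x F r t * D.x F s u

theorem pos_centralizes_of {r : ℕ} (hc : CenU D F r)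
    {g : GL D.Idx F} (hg : g ∈ D.posUnipotent F) {x : GL D.Idx F} {t : F}
    (hx : (x : Matrix D.Idx D.Idx F) = D.x F r t) : g * x = x * g := by
  have hle : D.posUnipotent F ≤ Subgroup.centralizer {x} := by
    unfold ChevalleyDatum.posUnipotent
    rw [Subgroup.closure_le]
    rintro y ⟨s, u, hs, hy⟩
    rw [SetLike.mem_coe, Subgroup.mem_centralizer_iff]
    rintro _ rfl
    apply Units.ext
    rw [Units.val_mul, Units.val_mul, hx, hy]
    exact (hc s hs t u).symm
  have := hle hg
  rw [Subgroup.mem_centralizer_iff] at this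
  exact (this x rfl).symm

/-- `B` acts on the root subgroup by scalars -/
theorem borel_conj_of (hD : D ∈ [chevG2, chevB2, chevD4, chevF4, chevE6, chevE7, chevE8])
    {r : ℕ} (hr : r < D.nroots) (hc : CenU D F r)
    {b : GL D.Idx F} (hb : b ∈ D.borelSubgroup F) :
    ∃ c : Fˣ, ∀ (t : F) (x : GL D.Idx F), (x : Matrix D.Idx D.Idx F) = D.x F r t →
      ((b * x * b⁻¹ : GL D.Idx F) : Matrix D.Idx D.Idx F) = D.x F r (c * t) := by
  have V := valid0_of_mem hD
  have V1 := valid1_of_mem hD
  have J := validJ_of_mem hD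
  have H := validH_of_mem hD
  obtain ⟨u, hu, h, hh, rfl⟩ := borel_decomp J V1 H hb
  obtain ⟨c, hc'⟩ := torus_conj_x V (torusLike_of_mem J V1 H hh) hr
  refine ⟨c, fun t x hx => ?_⟩
  have h1 := hc' t x hx
  have h2 : u * h * x * (u * h)⁻¹ = u * (h * x * h⁻¹) * u⁻¹ := by group
  rw [h2, pos_centralizes_of hc hu h1, mul_assoc, mul_inv_cancel, mul_one, h1]

theorem borel_le_normalizer_of (hD : D ∈ [chevG2, chevB2, chevD4, chevF4, chevE6, chevE7, chevE8])
    {r : ℕ} (hr : r < D.nroots) (hc : CenU D F r) :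
    D.borelSubgroup F ≤ Subgroup.normalizer (D.rootSubgroup F r : Set (GL D.Idx F)) := by
  intro b hb
  unfold ChevalleyDatum.rootSubgroup
  apply mem_normalizer_closure_of
  · rintro x ⟨t, hx⟩
    obtain ⟨c, hc'⟩ := borel_conj_of hD hr hc hb
    exact Subgroup.subset_closure ⟨c * t, hc' t x hx⟩
  · rintro x ⟨t, hx⟩
    obtain ⟨c, hc'⟩ := borel_conj_of hD hr hc (inv_mem hb)
    have := hc' t x hx
    rw [inv_inv] at this
    exact Subgroup.subset_closure ⟨c * t, this⟩

/-- `N_G(X_r)` is the parabolic subgroup of the fundamental reflections fixing `r` -/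
theorem normalizer_root_eq (hD : D ∈ [chevG2, chevB2, chevD4, chevF4, chevE6, chevE7, chevE8])
    {r : ℕ} (hr : r < D.nroots) (hc : CenU D F r) :
    Subgroup.normalizer (D.rootSubgroup F r : Set (GL D.Idx F)) ⊓ D.group F =
      D.parabolicSubgroup F {i | i < D.rank ∧ D.reflectRoot i r = r} := by
  have V := valid0_of_mem hD
  have V1 := valid1_of_mem hD
  have h1 := overgroup_eq_parabolic hD
    (Subgroup.normalizer (D.rootSubgroup F r : Set (GL D.Idx F)) ⊓ D.group F)
    (le_inf (borel_le_normalizer_of hD hr hc) (borel_le_group V V1)) inf_le_right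
  rw [h1]
  apply le_antisymm
  · unfold ChevalleyDatum.parabolicSubgroup
    apply sup_le_sup_left
    apply Subgroup.closure_mono
    rintro g ⟨j, hj, hjr, hg⟩
    refine ⟨j, ⟨hjr, ?_⟩, hjr, hg⟩
    have hj' : nP D F [j] ∈
        Subgroup.normalizer (D.rootSubgroup F r : Set (GL D.Idx F)) := by
      have : nP D F [j] = nG D F j := by rw [nP_cons, nP_nil, mul_one]
      rw [this]
      exact hj.1
    have := (nP_mem_normalizer_iff hD (l := [j]) (by simpa using hjr) hr).mp hj'
    simpa [reflWord] using this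
  · apply parabolic_mono
    rintro j ⟨hjr, hj⟩
    show nG D F j ∈ Subgroup.normalizer (D.rootSubgroup F r : Set (GL D.Idx F)) ⊓
      D.group F
    refine ⟨?_, nG_mem_group hD hjr⟩
    have : nG D F j = nP D F [j] := by rw [nP_cons, nP_nil, mul_one]
    rw [this]
    apply (nP_mem_normalizer_iff hD (l := [j]) (by simpa using hjr) hr).mpr
    simpa [reflWord] using hj

/-- Bruhat form of an element commuting with `x_r(c)`, `c ≠ 0` -/
theorem centralizer_root_word (hD : D ∈ [chevG2, chevB2, chevD4, chevF4, chevE6, chevE7, chevE8])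
    {r : ℕ} (hr : r < D.nroots) (hcen : CenU D F r)
    {t : GL D.Idx F} {c : F} (hc : c ≠ 0)
    (ht : (t : Matrix D.Idx D.Idx F) = D.x F r c) {g : GL D.Idx F}
    (hgG : g ∈ D.group F) (hgC : g * t = t * g) :
    ∃ b ∈ D.borelSubgroup F, ∃ l : List ℕ, (∀ i ∈ l, i < D.rank) ∧ ∃ u ∈ D.posUnipotent F,
      g = b * nP D F l * u ∧ reflWord D l r = r := by
  have V := valid0_of_mem hD
  have V1 := valid1_of_mem hD
  have J := validJ_of_mem hD
  have H := validH_of_mem hD
  have C := copP_of_mem hD
  obtain ⟨b, hb, l, hl, u, hu, e⟩ := bruhat_exists_word hD hgG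
  have huU : u ∈ D.posUnipotent F := unegS_le_pos _ (unegW_le_unegS hD hl hu)
  refine ⟨b, hb, l, hl, u, huU, e, ?_⟩
  have hP := (rootPermN_nP (F := F) J V1 H.nS l hl).rootPerm
  have hut : u * t = t * u := pos_centralizes_of hcen huU ht
  have h1 : nP D F l * t * (nP D F l)⁻¹ = b⁻¹ * t * b⁻¹⁻¹ := by
    have e1 : nP D F l = b⁻¹ * g * u⁻¹ := by rw [e]; group
    have e2 : u⁻¹ * t = t * u⁻¹ := by
      have := congrArg (fun z => u⁻¹ * z * u⁻¹) hut
      simpa [mul_assoc] using this.symm
    rw [inv_inv]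
    calc nP D F l * t * (nP D F l)⁻¹
        = b⁻¹ * g * (u⁻¹ * t) * u * g⁻¹ * b := by rw [e1]; group
      _ = b⁻¹ * (g * t) * g⁻¹ * b := by rw [e2]; group
      _ = b⁻¹ * t * b := by rw [hgC]; group
  obtain ⟨ε, hε⟩ := rootPerm_conj hP hr c t ht
  obtain ⟨c', hc'⟩ := borel_conj_of hD hr hcen (inv_mem hb)
  have h2 := hc' c t ht
  rw [← h1, hε, x_eq_xN, x_eq_xN] at h2
  have hne : ((ε : Fˣ) : F) * c ≠ 0 := mul_ne_zero (Units.ne_zero ε) hc
  exact xN_inj_root V C (hP _ hr).1 hr hne h2

theorem centralizer_root_le (hD : D ∈ [chevG2, chevB2, chevD4, chevF4, chevE6, chevE7, chevE8])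
    {r : ℕ} (hr : r < D.nroots) (hcen : CenU D F r)
    {t : GL D.Idx F} {c : F} (hc : c ≠ 0)
    (ht : (t : Matrix D.Idx D.Idx F) = D.x F r c) {g : GL D.Idx F}
    (hgG : g ∈ D.group F) (hgC : g * t = t * g) :
    g ∈ D.parabolicSubgroup F {i | i < D.rank ∧ D.reflectRoot i r = r} := by
  have V := valid0_of_mem hD
  have V1 := valid1_of_mem hD
  obtain ⟨b, hb, l, hl, u, hu, e, hw⟩ := centralizer_root_word hD hr hcen hc ht hgG hgC
  rw [← normalizer_root_eq hD hr hcen, e]
  have hBle := le_inf (borel_le_normalizer_of (F := F) hD hr hcen) (borel_le_group V V1)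
  refine mul_mem (mul_mem (hBle hb) ⟨?_, ?_⟩) (hBle (pos_le_borel hu))
  · exact (nP_mem_normalizer_iff hD hl hr).mpr hw
  · exact monomial_le_group V V1 (nP_mem_monomial hD hl)

/-- the centraliser of `x_r(1)` when `X_r` is central in `U`: it is generated by `U` and the
root subgroups `X_{-p_j}` of the fundamental roots orthogonal to `r` -/
theorem centralizer_root_eq (hD : D ∈ [chevG2, chevB2, chevD4, chevF4, chevE6, chevE7, chevE8])
    {r : ℕ} (hr : r < D.nroots) (hcen : CenU D F r) {i0 : ℕ} (h0 : i0 < D.rank)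
    {L : List ℕ} (hJL : ∀ j < D.rank, j = i0 ∨ D.neg (D.simple j) ∈ L)
    (hrefl : D.reflectRoot i0 r ≠ r) (haco : acoF D (D.simple i0) r = 1)
    (hLc : ∀ s ∈ L, s < D.nroots ∧
      ∀ t u : F, D.x F s u * D.x F r t = D.x F r t * D.x F s u)
    {t : GL D.Idx F} (ht : (t : Matrix D.Idx D.Idx F) = D.x F r 1) :
    D.group F ⊓ Subgroup.centralizer {t} =
      D.posUnipotent F ⊔ Subgroup.closure (listGens D F L) := by
  have V := valid0_of_mem hD
  have V1 := valid1_of_mem hD
  have J := validJ_of_mem hD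
  have H := validH_of_mem hD
  set C0 : Subgroup (GL D.Idx F) := D.posUnipotent F ⊔ Subgroup.closure (listGens D F L) with hC0
  have hLx : ∀ s ∈ L, ∀ (c : F) (y : GL D.Idx F), (y : Matrix D.Idx D.Idx F) = D.x F s c →
      y ∈ C0 := fun s hs c y hy =>
    Subgroup.mem_sup_right (Subgroup.subset_closure ⟨s, hs, c, hy⟩)
  have hPx : ∀ s, D.IsPosRoot s → ∀ (c : F) (y : GL D.Idx F),
      (y : Matrix D.Idx D.Idx F) = D.x F s c → y ∈ C0 := fun s hs c y hy =>
    Subgroup.mem_sup_left (Subgroup.subset_closure ⟨s, c, hs, hy⟩)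
  have hAB : C0 ≤ D.group F ⊓ Subgroup.centralizer {t} := by
    refine sup_le (le_inf pos_le_group ?_) ?_
    · intro g hg
      rw [Subgroup.mem_centralizer_iff]
      rintro _ rfl
      exact (pos_centralizes_of hcen hg ht).symm
    · rw [Subgroup.closure_le]
      rintro y ⟨s, hs, c, hy⟩
      obtain ⟨hsl, hs3⟩ := hLc s hs
      refine Subgroup.mem_inf.mpr ⟨x_mem_group hsl c y hy, ?_⟩
      rw [Subgroup.mem_centralizer_iff]
      rintro _ rfl
      apply Units.ext
      rw [Units.val_mul, Units.val_mul, ht, hy]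
      exact (hs3 1 c).symm
  have hHN : D.diagonalSubgroup F ≤ Subgroup.normalizer (C0 : Set (GL D.Idx F)) := by
    intro h hh
    have hC0' : C0 = Subgroup.closure ((D.posUnipotent F : Set (GL D.Idx F)) ∪ listGens D F L) := by
      rw [Subgroup.closure_union, Subgroup.closure_eq]
    have key : ∀ h ∈ D.diagonalSubgroup F, ∀ g ∈ (D.posUnipotent F : Set (GL D.Idx F)) ∪
        listGens D F L, h * g * h⁻¹ ∈ Subgroup.closure
          ((D.posUnipotent F : Set (GL D.Idx F)) ∪ listGens D F L) := by
      intro h hh g hg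
      rcases hg with hg | ⟨s, hs, c, hg⟩
      · apply Subgroup.subset_closure
        left
        exact (Subgroup.mem_normalizer_iff.mp (diagonal_le_normalizer_pos J V1 H hh) g).mp hg
      · obtain ⟨hs1, _⟩ := hLc s hs
        obtain ⟨a, ha⟩ := torus_conj_x V (torusLike_of_mem J V1 H hh) hs1
        apply Subgroup.subset_closure
        right
        exact ⟨s, hs, a * c, ha c g hg⟩
    rw [hC0']
    apply mem_normalizer_closure_of
    · exact key h hh
    · intro g hg
      have := key h⁻¹ (inv_mem hh) g hg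
      rwa [inv_inv] at this
  have hPK : D.parabolicSubgroup F {i | i < D.rank ∧ D.reflectRoot i r = r} ≤
        C0 ⊔ D.diagonalSubgroup F := by
    unfold ChevalleyDatum.parabolicSubgroup ChevalleyDatum.borelSubgroup
    refine sup_le (sup_le (le_trans le_sup_left le_sup_left) le_sup_right) ?_
    rw [Subgroup.closure_le]
    rintro g ⟨j, ⟨hjr, hj⟩, _, hg⟩
    apply Subgroup.mem_sup_left
    have hne : j ≠ i0 := by
      rintro rfl
      exact hrefl hj
    have hjL : D.neg (D.simple j) ∈ L := by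
      rcases hJL j hjr with h | h
      · exact absurd h hne
      · exact h
    exact nMat_mem_of hD (J.S j hjr).1 C0 (hPx _ (isPosRoot_simple hD hjr)) (hLx _ hjL) 1 g hg
  have hHC : ∀ h ∈ D.diagonalSubgroup F, h * t = t * h → h ∈ C0 := by
    intro h hh hht
    rw [diagonal_eq_range J V1 H] at hh
    obtain ⟨cc, rfl⟩ := hh
    set i0' : Fin D.rank := ⟨i0, h0⟩ with hi0
    have hsingle : ∀ i : Fin D.rank, i ≠ i0' → ∀ τ : Fˣ, torMap D F (Pi.mulSingle i τ) ∈ C0 := by
      intro i hi τ
      have hjL : D.neg (D.simple i.val) ∈ L := by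
        rcases hJL i.val i.isLt with h | h
        · exact absurd (Fin.ext h) hi
        · exact h
      exact hMat_mem_of hD (J.S i.val i.isLt).1 C0 (hPx _ (isPosRoot_simple hD i.isLt))
        (hLx _ hjL) (Units.ne_zero τ) _ (torMap_mulSingle J H i τ)
    set cc' : Fin D.rank → Fˣ := cc * Pi.mulSingle i0' (cc i0')⁻¹ with hcc'
    have hcc : cc = cc' * Pi.mulSingle i0' (cc i0') := by
      rw [hcc', mul_assoc, ← Pi.mulSingle_mul, inv_mul_cancel, Pi.mulSingle_one, mul_one]
    have hmem' : torMap D F cc' ∈ C0 := by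
      have hc : cc' = ∏ i, Pi.mulSingle i (cc' i) := (Finset.univ_prod_mulSingle cc').symm
      have hmem : cc' ∈ C0.comap (torMap D F) := by
        rw [hc]
        apply Subgroup.prod_mem
        intro i _
        rw [Subgroup.mem_comap]
        by_cases hi : i = i0'
        · have : cc' i = 1 := by
            rw [hi, hcc', Pi.mul_apply, Pi.mulSingle_eq_same, mul_inv_cancel]
          rw [this, Pi.mulSingle_one, map_one]
          exact one_mem _
        · exact hsingle i hi _
      exact hmem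
    have hc1 := (Subgroup.mem_inf.mp (hAB hmem')).2
    rw [Subgroup.mem_centralizer_iff] at hc1
    have hc1' := hc1 t rfl
    have hmul : torMap D F cc = torMap D F cc' * torMap D F (Pi.mulSingle i0' (cc i0')) := by
      rw [← map_mul, ← hcc]
    have hfac : torMap D F (Pi.mulSingle i0' (cc i0')) * t =
        t * torMap D F (Pi.mulSingle i0' (cc i0')) := by
      have e : torMap D F (Pi.mulSingle i0' (cc i0')) = (torMap D F cc')⁻¹ * torMap D F cc := by
        rw [hmul, inv_mul_cancel_left]
      rw [e]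
      calc (torMap D F cc')⁻¹ * torMap D F cc * t
          = (torMap D F cc')⁻¹ * (t * torMap D F cc) := by rw [mul_assoc, hht]
        _ = (torMap D F cc')⁻¹ * (t * torMap D F cc') * (torMap D F cc')⁻¹ * torMap D F cc := by
            group
        _ = t * ((torMap D F cc')⁻¹ * torMap D F cc) := by rw [hc1']; group
    have hone : cc i0' = 1 := by
      have h1 := congrArg (fun z : GL D.Idx F => (z : Matrix D.Idx D.Idx F)) hfac
      simp only [Units.val_mul] at h1
      rw [torMap_mulSingle J H i0' (cc i0'), ht,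
        hMat_conj_x hD (J.S _ h0).1 hr (Units.ne_zero (cc i0'))] at h1
      have h2 : D.x F r (((cc i0' : Fˣ) : F) ^ aco D (D.simple i0) r * 1) =
          D.x F r 1 := by
        have hu : IsUnit (D.hMat F (D.simple i0) ((cc i0' : Fˣ) : F)) := by
          rw [← torMap_mulSingle J H i0' (cc i0')]
          exact ⟨_, rfl⟩
        obtain ⟨w, hw⟩ := hu
        rw [← hw] at h1
        have := congrArg (fun z => z * ((w⁻¹ : GL D.Idx F) : Matrix D.Idx D.Idx F)) h1
        simpa [Matrix.mul_assoc] using this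
      have h3 := xN_inj_param hD hr h2
      rw [← acoF_eq J.T (J.S _ h0).1 hr, haco, zpow_one, mul_one] at h3
      exact Units.ext h3
    have : torMap D F cc = torMap D F cc' := by
      rw [hmul, hone, Pi.mulSingle_one, map_one, mul_one]
    rw [this]
    exact hmem'
  apply le_antisymm
  · intro g hg
    obtain ⟨hgG, hgC⟩ := Subgroup.mem_inf.mp hg
    rw [Subgroup.mem_centralizer_iff] at hgC
    have hgt : g * t = t * g := (hgC t rfl).symm
    have h1 := hPK (centralizer_root_le hD hr hcen one_ne_zero ht hgG hgt)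
    have hset := Subgroup.coe_mul_of_right_le_normalizer_left C0 (D.diagonalSubgroup F) hHN
    have h1' : g ∈ ((C0 ⊔ D.diagonalSubgroup F : Subgroup (GL D.Idx F)) : Set (GL D.Idx F)) := h1
    rw [hset, Set.mem_mul] at h1'
    obtain ⟨c, hc, h, hh, rfl⟩ := h1'
    have hct := (Subgroup.mem_inf.mp (hAB hc)).2
    rw [Subgroup.mem_centralizer_iff] at hct
    have hct' := hct t rfl
    have hht : h * t = t * h := by
      calc h * t = c⁻¹ * (c * h * t) := by group
        _ = c⁻¹ * (t * (c * h)) := by rw [hgt]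
        _ = c⁻¹ * (t * c) * h := by group
        _ = t * h := by rw [hct']; group
    exact mul_mem hc (hHC h hh hht)
  · exact hAB

end Cfsg.Agent.Lib.Helper8.Chev
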