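import Cfsg.Agent.Lib.Helper8.ChevCz1

set_option autoImplicit false

/-! # Root elements commuting in characteristic two; the data for type `F₄` -/

namespace Cfsg.Agent.Lib.Helper8.Chev

open Cfsg.Lie Matrix

variable {D : ChevalleyDatum} {F : Type*} [Field F]

/-- in characteristic two root elements commute when all the constants of the commutator
formula are even -/
theorem x_commute_of_even [CharP F 2]
    (hD : D ∈ [chevG2, chevB2, chevD4, chevF4, chevE6, chevE7, chevE8])
    {r s : ℕ} (hr : r < D.nroots) (hs : s < D.nroots) (h1 : s ≠ r) (h2 : s ≠ D.neg r)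
    (h : ∀ c ∈ D.commTerms r s, (2 : ℤ) ∣ c.2.1) (t u : F) :
    D.x F s u * D.x F r t = D.x F r t * D.x F s u := by
  have V := valid0_of_mem hD
  have := comm_formula hD hr hs h1 h2 t u
  rw [this]
  have key : D.wordMat F (D.commWord F r s t u) = 1 := by
    unfold ChevalleyDatum.commWord
    rw [wordMat_eq_wN]
    generalize D.commTerms r s = L at h
    induction L with
    | nil => simp
    | cons c L ih =>
      rw [List.map_cons, wN_cons, ih (fun c' hc' => h c' (List.mem_cons_of_mem _ hc'))]
      have h2 : ((c.2.1 : ℤ) : F) = 0 := by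
        obtain ⟨k, hk⟩ := h c List.mem_cons_self
        rw [hk]
        push_cast
        have : (2 : F) = 0 := CharTwo.two_eq_zero
        rw [this, zero_mul]
      simp only [h2, zero_mul, xN_zero V, mul_one]
  rw [key, mul_one]

end Cfsg.Agent.Lib.Helper8.Chev
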