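import Cfsg.Agent.Lib.Helper8.ChevCz2

set_option autoImplicit false

/-! # The Cartan part of a word of root elements of large weight -/

namespace Cfsg.Agent.Lib.Helper8.Chev

open Cfsg.Lie Matrix

section

variable {D : ChevalleyDatum} {R : Type*} [CommRing R]

/-- the sum of the parameters of the letters of a word at the root `a` -/
def sumAt (a : ℕ) (w : List (ℕ × R)) : R := (w.map fun p => if p.1 = a then p.2 else 0).sum

theorem sumAt_nil (a : ℕ) : sumAt a ([] : List (ℕ × R)) = 0 := rfl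

theorem sumAt_cons (a : ℕ) (p : ℕ × R) (w : List (ℕ × R)) :
    sumAt a (p :: w) = (if p.1 = a then p.2 else 0) + sumAt a w := by
  simp [sumAt]

theorem sumAt_append (a : ℕ) (w w' : List (ℕ × R)) :
    sumAt a (w ++ w') = sumAt a w + sumAt a w' := by
  simp [sumAt]

theorem sumAt_eq_zero (a : ℕ) (w : List (ℕ × R)) (h : ∀ p ∈ w, p.1 ≠ a) : sumAt a w = 0 := by
  induction w with
  | nil => rfl
  | cons p w ih =>
    rw [sumAt_cons, if_neg (h p List.mem_cons_self),
      ih (fun q hq => h q (List.mem_cons_of_mem _ hq)), add_zero]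

theorem exists_mem_of_sumAt_ne_zero {a : ℕ} {w : List (ℕ × R)} (h : sumAt a w ≠ 0) :
    ∃ p ∈ w, p.1 = a := by
  by_contra hn
  exact h (sumAt_eq_zero a w (fun p hp hpa => hn ⟨p, hp, hpa⟩))

/-- matrices raising the weight by at least `k` -/
def RaisK (D : ChevalleyDatum) (R : Type*) [CommRing R] (f : ℕ → ℤ) (k : ℤ) :
    Set (Matrix D.Idx D.Idx R) :=
  {M | ∀ i j, M i j ≠ 0 → wtI D f j + k ≤ wtI D f i}

theorem RaisK_add {f : ℕ → ℤ} {k : ℤ} {M N : Matrix D.Idx D.Idx R} (hM : M ∈ RaisK D R f k)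
    (hN : N ∈ RaisK D R f k) : M + N ∈ RaisK D R f k := by
  intro i j h
  rw [Matrix.add_apply] at h
  by_cases h1 : M i j = 0
  · rw [h1, zero_add] at h
    exact hN i j h
  · exact hM i j h1

theorem RaisK_mul {f : ℕ → ℤ} {k k' : ℤ} {M N : Matrix D.Idx D.Idx R} (hM : M ∈ RaisK D R f k)
    (hN : N ∈ RaisK D R f k') : M * N ∈ RaisK D R f (k + k') := by
  intro i j h
  rw [Matrix.mul_apply] at h
  obtain ⟨l, _, hl⟩ := Finset.exists_ne_zero_of_sum_ne_zero h
  have h1 := hM i l (left_ne_zero_of_mul hl)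
  have h2 := hN l j (right_ne_zero_of_mul hl)
  linarith

theorem RaisK_mono {f : ℕ → ℤ} {k k' : ℤ} (hk : k' ≤ k) {M : Matrix D.Idx D.Idx R}
    (hM : M ∈ RaisK D R f k) : M ∈ RaisK D R f k' := by
  intro i j h
  have := hM i j h
  linarith

theorem xN_sub_one_mem_RaisK (V : Valid0 D) {f : ℕ → ℤ} (hf : IsWt D f) {m : ℤ} (hm : 0 < m)
    {r : ℕ} (hr : r < D.nroots) (hfr : m ≤ f r) (t : R) : xN D R r t - 1 ∈ RaisK D R f m := by
  intro i j h
  obtain ⟨k, hk, e⟩ := xN_sub_one_wt V hf hr t i j h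
  rw [e]
  have h1 : (1 : ℤ) ≤ (k : ℤ) := by exact_mod_cast hk
  have h2 : f r ≤ (k : ℤ) * f r := by nlinarith
  linarith

theorem wN_sub_one_mem_RaisK (V : Valid0 D) {f : ℕ → ℤ} (hf : IsWt D f) {m : ℤ} (hm : 0 < m)
    (w : List (ℕ × R)) (hw : ∀ p ∈ w, p.1 < D.nroots ∧ m ≤ f p.1) :
    wN D R w - 1 ∈ RaisK D R f m := by
  induction w with
  | nil =>
    intro i j h
    rw [wN_nil, sub_self] at h
    exact absurd rfl h
  | cons p w ih =>
    have h1 := xN_sub_one_mem_RaisK (R := R) V hf hm (hw p List.mem_cons_self).1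
      (hw p List.mem_cons_self).2 p.2
    have h2 := ih (fun q hq => hw q (List.mem_cons_of_mem _ hq))
    have e : wN D R (p :: w) - 1 = (xN D R p.1 p.2 - 1) * (wN D R w - 1) +
        ((xN D R p.1 p.2 - 1) + (wN D R w - 1)) := by
      rw [wN_cons]
      noncomm_ring
    rw [e]
    exact RaisK_add (RaisK_mono (by linarith) (RaisK_mul h1 h2)) (RaisK_add h1 h2)

/-- the Cartan part of `x_r(t) e_s` -/
theorem xN_mulVec_E_inl (V : Valid0 D) {r : ℕ} (hr : r < D.nroots) (t : R) {s : ℕ}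
    (hs : s < D.nroots) (i : Fin D.rank) :
    (xN D R r t *ᵥ E D R s) (Sum.inl i) =
      if s = D.neg r then t * ((cor D r i.val : ℤ) : R) else 0 := by
  by_cases h1 : s = r
  · subst h1
    rw [xN_mulVec_E_self R hs t, if_neg (fun h => V.neg_ne hs h.symm)]
    simp
  by_cases h2 : s = D.neg r
  · subst h2
    rw [if_pos rfl, xN_mulVec_E_neg V R hr t]
    simp
  · rw [if_neg h2, xN_mulVec_E V R hr t hs h1 h2]
    simp [chainVec_apply_inl]

/-- the Cartan part of `w e_s`, for a word `w` of root elements of weight at least `m`, when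
all the roots have weight less than `2m` -/
theorem cartan_part_word (V : Valid0 D) {f : ℕ → ℤ} (hf : IsWt D f) {m : ℤ} (hm : 0 < m)
    (hlt : ∀ s < D.nroots, f s < 2 * m) (w : List (ℕ × R))
    (hw : ∀ p ∈ w, p.1 < D.nroots ∧ m ≤ f p.1) {s : ℕ} (hs : s < D.nroots) (i : Fin D.rank) :
    (wN D R w *ᵥ E D R s) (Sum.inl i) =
      sumAt (D.neg s) w * ((cor D (D.neg s) i.val : ℤ) : R) := by
  induction w with
  | nil => simp [sumAt_nil]
  | cons p w ih =>
    have hp := hw p List.mem_cons_self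
    have hw' : ∀ q ∈ w, q.1 < D.nroots ∧ m ≤ f q.1 := fun q hq => hw q (List.mem_cons_of_mem _ hq)
    have ih' := ih hw'
    have h1 := xN_sub_one_mem_RaisK (R := R) V hf hm hp.1 hp.2 p.2
    have h2 := wN_sub_one_mem_RaisK (R := R) V hf hm w hw'
    have h3 := RaisK_mul h1 h2
    have hz : ((xN D R p.1 p.2 - 1) * (wN D R w - 1)) (Sum.inl i) (Sum.inr ⟨s, hs⟩) = 0 := by
      by_contra hne
      have := h3 _ _ hne
      simp only [wtI, Sum.elim_inl, Sum.elim_inr] at this
      have h4 := hlt (D.neg s) (V.neg_lt hs)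
      rw [hf.1 s hs] at h4
      linarith
    have e : wN D R (p :: w) = (xN D R p.1 p.2 - 1) * (wN D R w - 1) + xN D R p.1 p.2 +
        wN D R w - 1 := by
      rw [wN_cons]
      noncomm_ring
    rw [e, Matrix.sub_mulVec, Matrix.add_mulVec, Matrix.add_mulVec, Matrix.one_mulVec]
    simp only [Pi.add_apply, Pi.sub_apply, E_apply_inl, sub_zero]
    rw [mulVec_E _ hs, hz, zero_add, ih', xN_mulVec_E_inl V hp.1 p.2 hs i, sumAt_cons]
    by_cases h5 : s = D.neg p.1
    · have h6 : p.1 = D.neg s := by rw [h5, V.neg_neg hp.1]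
      rw [if_pos h5, if_pos h6, ← h6]
      ring
    · have h6 : ¬ p.1 = D.neg s := by
        intro h
        apply h5
        rw [h, V.neg_neg hs]
      rw [if_neg h5, if_neg h6]
      ring

end

section Field

variable {D : ChevalleyDatum} {F : Type*} [Field F]

/-- block diagonal matrices for the decomposition `L = H ⊕ ⨁ L_r` -/
def BlockD (D : ChevalleyDatum) (F : Type*) [Field F] (M : Matrix D.Idx D.Idx F) : Prop :=
  (∀ (i : Fin D.rank) (s : Fin D.nroots), M (Sum.inl i) (Sum.inr s) = 0) ∧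
  (∀ (i : Fin D.rank) (s : Fin D.nroots), M (Sum.inr s) (Sum.inl i) = 0)

theorem blockD_one : BlockD D F 1 :=
  ⟨fun i s => Matrix.one_apply_ne (by simp), fun i s => Matrix.one_apply_ne (by simp)⟩

theorem BlockD.mul {M N : Matrix D.Idx D.Idx F} (hM : BlockD D F M) (hN : BlockD D F N) :
    BlockD D F (M * N) := by
  constructor
  · intro i s
    rw [Matrix.mul_apply, Fintype.sum_sum_type]
    simp [hM.1, hN.1]
  · intro i s
    rw [Matrix.mul_apply, Fintype.sum_sum_type]
    simp [hM.2, hN.2]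

theorem blockD_nG (J : ValidJ D) (V1 : Valid1 D) (hN : checkNS D = true) {i : ℕ}
    (hi : i < D.rank) : BlockD D F ((nG D F i : GL D.Idx F) : Matrix D.Idx D.Idx F) := by
  rw [coe_nG J V1 hi, nMat_one_eq]
  constructor
  · intro j s
    have h := mulVec_E (wN D F (castW F (nWZ (D.simple i) (D.neg (D.simple i))))) s.isLt
      (Sum.inl j)
    rw [nS_mulVec_E J hN hi s.isLt] at h
    have e : (Sum.inr s : D.Idx) = Sum.inr ⟨s.val, s.isLt⟩ := rfl
    rw [e, ← h]
    simp
  · intro j s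
    have h := mulVec_Hb (wN D F (castW F (nWZ (D.simple i) (D.neg (D.simple i))))) j.isLt
      (Sum.inr s)
    rw [nS_mulVec_Hb J hN hi j.isLt] at h
    have e : (Sum.inl j : D.Idx) = Sum.inl ⟨j.val, j.isLt⟩ := rfl
    rw [e, ← h]
    simp

theorem blockD_nP (J : ValidJ D) (V1 : Valid1 D) (hN : checkNS D = true) {l : List ℕ}
    (hl : ∀ i ∈ l, i < D.rank) : BlockD D F ((nP D F l : GL D.Idx F) : Matrix D.Idx D.Idx F) := by
  induction l with
  | nil =>
    rw [nP_nil, Units.val_one]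
    exact blockD_one
  | cons i l ih =>
    rw [nP_cons, Units.val_mul]
    exact (blockD_nG J V1 hN (hl i List.mem_cons_self)).mul
      (ih (fun j hj => hl j (List.mem_cons_of_mem _ hj)))

/-- the action of a word of reflections on the root vectors -/
theorem nP_mulVec_E (J : ValidJ D) (V1 : Valid1 D) (hN : checkNS D = true) {l : List ℕ}
    (hl : ∀ i ∈ l, i < D.rank) {s : ℕ} (hs : s < D.nroots) :
    ∃ ε : F, ((nP D F l : GL D.Idx F) : Matrix D.Idx D.Idx F) *ᵥ E D F s =
      ε • E D F (reflWord D l s) := by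
  induction l with
  | nil =>
    refine ⟨1, ?_⟩
    rw [nP_nil, Units.val_one, Matrix.one_mulVec, one_smul]
    rfl
  | cons i l ih =>
    have hl' : ∀ j ∈ l, j < D.rank := fun j hj => hl j (List.mem_cons_of_mem _ hj)
    have hi := hl i List.mem_cons_self
    obtain ⟨ε, hε⟩ := ih hl'
    have hlt := reflWord_lt J hN hl' hs
    refine ⟨ε * ((etaF D i (reflWord D l s) : ℤ) : F), ?_⟩
    rw [nP_cons, Units.val_mul, ← Matrix.mulVec_mulVec, hε, Matrix.mulVec_smul, coe_nG J V1 hi,
      nMat_one_eq, nS_mulVec_E J hN hi hlt, smul_smul, reflWord_cons]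

/-- transport of the support of a word of root elements of large weight by a word of
reflections -/
theorem support_transport (hD : D ∈ [chevG2, chevB2, chevD4, chevF4, chevE6, chevE7, chevE8])
    {f : ℕ → ℤ} (hf : IsWt D f) {m : ℤ} (hm : 0 < m) (hlt : ∀ s < D.nroots, f s < 2 * m)
    {l : List ℕ} (hl : ∀ i ∈ l, i < D.rank) {wy wz : List (ℕ × F)}
    (hwy : ∀ p ∈ wy, p.1 < D.nroots ∧ m ≤ f p.1) (hwz : ∀ p ∈ wz, p.1 < D.nroots ∧ m ≤ f p.1)
    (h : ((nP D F l : GL D.Idx F) : Matrix D.Idx D.Idx F) * wN D F wy =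
      wN D F wz * ((nP D F l : GL D.Idx F) : Matrix D.Idx D.Idx F))
    {a : ℕ} (ha : a < D.nroots) (hne : sumAt a wy ≠ 0) :
    sumAt (reflWord D l a) wz ≠ 0 := by
  intro h0
  have V := valid0_of_mem hD
  have V1 := valid1_of_mem hD
  have J := validJ_of_mem hD
  have H := validH_of_mem hD
  have C := copP_of_mem hD
  have hB := blockD_nP (F := F) J V1 H.nS hl
  have hna := V.neg_lt ha
  obtain ⟨ε, hε⟩ := nP_mulVec_E (F := F) J V1 H.nS hl hna
  rw [reflWord_neg J H.nS hl ha] at hε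
  have hwa := reflWord_lt J H.nS hl ha
  have hv : ∀ i : Fin D.rank, (wN D F wy *ᵥ E D F (D.neg a)) (Sum.inl i) =
      sumAt a wy * ((cor D a i.val : ℤ) : F) := by
    intro i
    have := cartan_part_word (R := F) V hf hm hlt wy hwy hna i
    rwa [V.neg_neg ha] at this
  have hkey : ∀ i : Fin D.rank, (((nP D F l : GL D.Idx F) : Matrix D.Idx D.Idx F) *ᵥ
      (wN D F wy *ᵥ E D F (D.neg a))) (Sum.inl i) = 0 := by
    intro i
    rw [Matrix.mulVec_mulVec, h, ← Matrix.mulVec_mulVec, hε, Matrix.mulVec_smul, Pi.smul_apply,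
      cartan_part_word (R := F) V hf hm hlt wz hwz (V.neg_lt hwa) i, V.neg_neg hwa, h0]
    simp
  generalize wN D F wy *ᵥ E D F (D.neg a) = v at hv hkey
  have hzero : ((nP D F l : GL D.Idx F) : Matrix D.Idx D.Idx F) *ᵥ (sumAt a wy • Hr D F a) = 0 := by
    funext idx
    rcases idx with i | s
    · rw [Pi.zero_apply, ← hkey i]
      simp only [Matrix.mulVec, dotProduct, Fintype.sum_sum_type]
      congr 1
      · apply Finset.sum_congr rfl
        intro j _
        rw [hv j]
        simp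
      · simp [hB.1]
    · simp only [Matrix.mulVec, dotProduct, Fintype.sum_sum_type]
      simp [hB.2]
  have hinv : sumAt a wy • Hr D F a = 0 := by
    have := congrArg (fun x => (((nP D F l)⁻¹ : GL D.Idx F) : Matrix D.Idx D.Idx F) *ᵥ x) hzero
    simp only [Matrix.mulVec_mulVec, Matrix.mulVec_zero] at this
    rw [← Units.val_mul, inv_mul_cancel, Units.val_one, Matrix.one_mulVec] at this
    exact this
  apply hne
  apply eq_zero_of_cop C ha
  intro i hi
  have := congrFun hinv (Sum.inl ⟨i, hi⟩)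
  simpa using this

end Field

end Cfsg.Agent.Lib.Helper8.Chev
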