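import Cfsg.Agent.Lib.Helper8.ChevCz3

set_option autoImplicit false

/-! # Words of root elements over an ideal of roots under conjugation by the Borel subgroup -/

namespace Cfsg.Agent.Lib.Helper8.Chev

open Cfsg.Lie Matrix

section

variable {D : ChevalleyDatum} {F : Type*} [Field F]

/-- the word `w` without its letters with parameter zero -/
noncomputable def nzW (w : List (ℕ × F)) : List (ℕ × F) := by
  classical exact w.filter (fun p => p.2 ≠ 0)

theorem mem_nzW {w : List (ℕ × F)} {p : ℕ × F} : p ∈ nzW w ↔ p ∈ w ∧ p.2 ≠ 0 := by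
  classical
  unfold nzW
  simp [List.mem_filter]

theorem nzW_cons_zero {p : ℕ × F} (h : p.2 = 0) (w : List (ℕ × F)) : nzW (p :: w) = nzW w := by
  classical
  unfold nzW
  rw [List.filter_cons_of_neg (by simpa using h)]

theorem nzW_cons_ne {p : ℕ × F} (h : p.2 ≠ 0) (w : List (ℕ × F)) :
    nzW (p :: w) = p :: nzW w := by
  classical
  unfold nzW
  rw [List.filter_cons_of_pos (by simpa using h)]

theorem wN_nzW (V : Valid0 D) (w : List (ℕ × F)) : wN D F (nzW w) = wN D F w := by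
  induction w with
  | nil => rfl
  | cons p w ih =>
    by_cases h : p.2 = 0
    · rw [nzW_cons_zero h, wN_cons, h, xN_zero V, Matrix.one_mul, ih]
    · rw [nzW_cons_ne h, wN_cons, wN_cons, ih]

theorem sumAt_nzW (a : ℕ) (w : List (ℕ × F)) : sumAt a (nzW w) = sumAt a w := by
  induction w with
  | nil => rfl
  | cons p w ih =>
    by_cases h : p.2 = 0
    · rw [nzW_cons_zero h, sumAt_cons, ih, h]
      simp
    · rw [nzW_cons_ne h, sumAt_cons, sumAt_cons, ih]

/-- every commutator term of a positive root with a root of `Rl` either vanishes in `F` or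
lies over `Rl` and outside `S` -/
def StabR (D : ChevalleyDatum) (F : Type*) [Field F] (Q : ℕ → Prop) (Rl S : List ℕ) : Prop :=
  ∀ q, Q q → D.IsPosRoot q → ∀ r ∈ Rl, r ≠ q → ∀ c ∈ D.commTerms q r,
    ((c.2.1 : ℤ) : F) = 0 ∨ (c.1 ∈ Rl ∧ c.1 ∉ S)

/-- the commutator formula for a positive root and a root of `Rl`, as a word -/
theorem conj_letter_exact (hD : D ∈ [chevG2, chevB2, chevD4, chevF4, chevE6, chevE7, chevE8])
    {q : ℕ} (hq : D.IsPosRoot q) (v : F) {r : ℕ} (hr : D.IsPosRoot r) (hrq : r ≠ q) (c : F) :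
    xN D F r c * xN D F q v = xN D F q v * wN D F ((r, c) :: D.commWord F q r v c) := by
  have V := valid0_of_mem hD
  have P := posP_of_mem hD
  have hrl := hr.1
  have hql := hq.1
  have hrn : r ≠ D.neg q := by
    have h1 := (P r hrl).1.mp hr
    have h2 := (P q hql).1.mp hq
    rw [V.neg_eq q hql]
    omega
  have hcf := comm_formula hD hql hrl hrq hrn v c
  rw [x_eq_xN, x_eq_xN, wordMat_eq_wN] at hcf
  rw [wN_cons, hcf, Matrix.mul_assoc]

theorem conj_letter (hD : D ∈ [chevG2, chevB2, chevD4, chevF4, chevE6, chevE7, chevE8])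
    {Q : ℕ → Prop} {Rl S : List ℕ} (hR : ∀ r ∈ Rl, D.IsPosRoot r) (hS : StabR D F Q Rl S)
    {q : ℕ} (hQ : Q q) (hq : D.IsPosRoot q) (v : F) {r : ℕ} (hr : r ∈ Rl) (c : F) :
    ∃ w' : List (ℕ × F), (∀ p ∈ w', p.1 ∈ Rl) ∧
      xN D F r c * xN D F q v = xN D F q v * wN D F w' ∧
      ∀ a ∈ S, sumAt a w' = if r = a then c else 0 := by
  have V := valid0_of_mem hD
  have V1 := valid1_of_mem hD
  have P := posP_of_mem hD
  have hrl := (hR r hr).1
  have hql := hq.1
  by_cases hrq : r = q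
  · subst hrq
    refine ⟨[(r, c)], ?_, ?_, ?_⟩
    · intro p hp
      rw [List.mem_singleton] at hp
      rw [hp]
      exact hr
    · rw [wN_cons, wN_nil, Matrix.mul_one, xN_mul_xN F V V1 hrl, xN_mul_xN F V V1 hrl, add_comm]
    · intro a _
      rw [sumAt_cons, sumAt_nil, add_zero]
  · refine ⟨nzW ((r, c) :: D.commWord F q r v c), ?_, ?_, ?_⟩
    · intro p hp
      obtain ⟨hp, hp0⟩ := mem_nzW.mp hp
      rcases List.mem_cons.mp hp with rfl | hp
      · exact hr
      · unfold ChevalleyDatum.commWord at hp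
        rw [List.mem_map] at hp
        obtain ⟨c', hc', rfl⟩ := hp
        rcases hS q hQ hq r hr hrq c' hc' with h0 | h0
        · exfalso
          apply hp0
          simp only [h0, zero_mul]
        · exact h0.1
    · rw [wN_nzW V]
      exact conj_letter_exact hD hq v (hR r hr) hrq c
    · intro a ha
      rw [sumAt_nzW, sumAt_cons]
      have : sumAt a (D.commWord F q r v c) = 0 := by
        unfold ChevalleyDatum.commWord sumAt
        rw [List.map_map]
        apply List.sum_eq_zero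
        intro x hx
        rw [List.mem_map] at hx
        obtain ⟨c', hc', rfl⟩ := hx
        simp only [Function.comp_apply]
        split_ifs with h
        · rcases hS q hQ hq r hr hrq c' hc' with h0 | h0
          · rw [h0]
            ring
          · exact absurd (h ▸ ha) h0.2
        · rfl
      rw [this, add_zero]

/-- conjugating a word over `Rl` by a positive root element -/
theorem conj_word_x (hD : D ∈ [chevG2, chevB2, chevD4, chevF4, chevE6, chevE7, chevE8])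
    {Q : ℕ → Prop} {Rl S : List ℕ} (hR : ∀ r ∈ Rl, D.IsPosRoot r) (hS : StabR D F Q Rl S)
    {q : ℕ} (hQ : Q q) (hq : D.IsPosRoot q) (v : F) (w : List (ℕ × F))
    (hw : ∀ p ∈ w, p.1 ∈ Rl) :
    ∃ w' : List (ℕ × F), (∀ p ∈ w', p.1 ∈ Rl) ∧
      wN D F w * xN D F q v = xN D F q v * wN D F w' ∧
      ∀ a ∈ S, sumAt a w' = sumAt a w := by
  induction w with
  | nil =>
    exact ⟨[], by simp, by simp, fun a _ => rfl⟩
  | cons p w ih =>
    obtain ⟨w1, hw1, e1, s1⟩ := ih (fun p' hp' => hw p' (List.mem_cons_of_mem _ hp'))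
    obtain ⟨w2, hw2, e2, s2⟩ := conj_letter hD hR hS hQ hq v (hw p List.mem_cons_self) p.2
    refine ⟨w2 ++ w1, ?_, ?_, ?_⟩
    · intro p' hp'
      rcases List.mem_append.mp hp' with h | h
      · exact hw2 p' h
      · exact hw1 p' h
    · rw [wN_cons, Matrix.mul_assoc, e1, ← Matrix.mul_assoc, e2, Matrix.mul_assoc, wN_append]
    · intro a ha
      rw [sumAt_append, s1 a ha, s2 a ha, sumAt_cons]

/-- conjugating a word over `Rl` by a word of positive root elements -/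
theorem word_conj_word (hD : D ∈ [chevG2, chevB2, chevD4, chevF4, chevE6, chevE7, chevE8])
    {Q : ℕ → Prop} {Rl S : List ℕ} (hR : ∀ r ∈ Rl, D.IsPosRoot r) (hS : StabR D F Q Rl S)
    (wu : List (ℕ × F)) (hwu : ∀ p ∈ wu, Q p.1 ∧ D.IsPosRoot p.1) :
    ∀ (w : List (ℕ × F)), (∀ p ∈ w, p.1 ∈ Rl) →
    ∃ w' : List (ℕ × F), (∀ p ∈ w', p.1 ∈ Rl) ∧
      wN D F w * wN D F wu = wN D F wu * wN D F w' ∧
      ∀ a ∈ S, sumAt a w' = sumAt a w := by
  induction wu with
  | nil =>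
    intro w hw
    exact ⟨w, hw, by simp, fun a _ => rfl⟩
  | cons p wu ih =>
    intro w hw
    obtain ⟨hQ, hq⟩ := hwu p List.mem_cons_self
    obtain ⟨w1, hw1, e1, s1⟩ := conj_word_x hD hR hS hQ hq p.2 w hw
    obtain ⟨w2, hw2, e2, s2⟩ := ih (fun p' hp' => hwu p' (List.mem_cons_of_mem _ hp')) w1 hw1
    refine ⟨w2, hw2, ?_, fun a ha => (s2 a ha).trans (s1 a ha)⟩
    rw [wN_cons, ← Matrix.mul_assoc, e1, Matrix.mul_assoc, e2, Matrix.mul_assoc]

/-- conjugating a word over `Rl` by an element of `U` -/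
theorem pos_conj_word (hD : D ∈ [chevG2, chevB2, chevD4, chevF4, chevE6, chevE7, chevE8])
    {Rl S : List ℕ} (hR : ∀ r ∈ Rl, D.IsPosRoot r) (hS : StabR D F (fun _ => True) Rl S)
    {u : GL D.Idx F} (hu : u ∈ D.posUnipotent F) :
    ∀ (w : List (ℕ × F)), (∀ p ∈ w, p.1 ∈ Rl) →
    ∃ w' : List (ℕ × F), (∀ p ∈ w', p.1 ∈ Rl) ∧
      wN D F w * (u : Matrix D.Idx D.Idx F) = (u : Matrix D.Idx D.Idx F) * wN D F w' ∧
      ∀ a ∈ S, sumAt a w' = sumAt a w := by
  have V := valid0_of_mem hD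
  have V1 := valid1_of_mem hD
  unfold ChevalleyDatum.posUnipotent at hu
  induction hu using Subgroup.closure_induction'' with
  | mem g hg =>
    obtain ⟨q, v, hq, hg⟩ := hg
    intro w hw
    rw [hg, x_eq_xN]
    exact conj_word_x hD hR hS trivial hq v w hw
  | inv_mem g hg =>
    obtain ⟨q, v, hq, hg⟩ := hg
    intro w hw
    rw [x_inv V V1 hq.1 v g hg, x_eq_xN]
    exact conj_word_x hD hR hS trivial hq (-v) w hw
  | one =>
    intro w hw
    exact ⟨w, hw, by simp, fun a _ => rfl⟩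
  | mul g g' _ _ hg hg' =>
    intro w hw
    obtain ⟨w1, hw1, e1, s1⟩ := hg w hw
    obtain ⟨w2, hw2, e2, s2⟩ := hg' w1 hw1
    refine ⟨w2, hw2, ?_, fun a ha => (s2 a ha).trans (s1 a ha)⟩
    rw [Units.val_mul, ← Matrix.mul_assoc, e1, Matrix.mul_assoc, e2, Matrix.mul_assoc]

/-- conjugating a word over `Rl` by an element of `H` -/
theorem torus_conj_word (hD : D ∈ [chevG2, chevB2, chevD4, chevF4, chevE6, chevE7, chevE8])
    {Rl : List ℕ} (hR : ∀ r ∈ Rl, D.IsPosRoot r)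
    {h : GL D.Idx F} (hh : h ∈ D.diagonalSubgroup F) (w : List (ℕ × F))
    (hw : ∀ p ∈ w, p.1 ∈ Rl) :
    ∃ w' : List (ℕ × F), (∀ p ∈ w', p.1 ∈ Rl) ∧
      (h : Matrix D.Idx D.Idx F) * wN D F w = wN D F w' * (h : Matrix D.Idx D.Idx F) := by
  have V := valid0_of_mem hD
  have V1 := valid1_of_mem hD
  have J := validJ_of_mem hD
  have H := validH_of_mem hD
  obtain ⟨f, hf, hm⟩ := torusLike_of_mem J V1 H hh
  refine ⟨w.map (fun p => (p.1, ((f p.1 : Fˣ) : F) * p.2)), ?_, ?_⟩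
  · intro p hp
    rw [List.mem_map] at hp
    obtain ⟨p', hp', rfl⟩ := hp
    exact hw p' hp'
  · rw [hm]
    apply conj_word
    intro p hp
    exact diagC_mul_xN V hf (hR p.1 (hw p hp)).1 p.2

/-- the Bruhat form of an element centralising a word `t` over `Rl`: the word of reflections maps
the roots of `S` in the support of `t` into `Rl` -/
theorem cent_word (hD : D ∈ [chevG2, chevB2, chevD4, chevF4, chevE6, chevE7, chevE8])
    {f : ℕ → ℤ} (hf : IsWt D f) {m : ℤ} (hm : 0 < m) (hlt : ∀ s < D.nroots, f s < 2 * m)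
    {Rl S : List ℕ} (hR : ∀ r ∈ Rl, D.IsPosRoot r ∧ m ≤ f r)
    (hS : StabR D F (fun _ => True) Rl S)
    {t : GL D.Idx F} {wt : List (ℕ × F)} (ht : (t : Matrix D.Idx D.Idx F) = wN D F wt)
    (hwt : ∀ p ∈ wt, p.1 ∈ Rl) (hne : ∀ a ∈ S, sumAt a wt ≠ 0)
    {g : GL D.Idx F} (hgG : g ∈ D.group F) (hgC : g * t = t * g) :
    ∃ b ∈ D.borelSubgroup F, ∃ l : List ℕ, (∀ i ∈ l, i < D.rank) ∧ ∃ u ∈ UnegW D F l,
      g = b * nP D F l * u ∧ ∀ a ∈ S, a < D.nroots → reflWord D l a ∈ Rl := by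
  have V := valid0_of_mem hD
  have V1 := valid1_of_mem hD
  have J := validJ_of_mem hD
  have H := validH_of_mem hD
  have hR' : ∀ r ∈ Rl, D.IsPosRoot r := fun r hr => (hR r hr).1
  obtain ⟨b, hb, l, hl, u, hu, e⟩ := bruhat_exists_word hD hgG
  have huU : u ∈ D.posUnipotent F := unegS_le_pos _ (unegW_le_unegS hD hl hu)
  refine ⟨b, hb, l, hl, u, hu, e, ?_⟩
  -- `y = u t u⁻¹`
  obtain ⟨wy, hwy, ey, sy⟩ := pos_conj_word hD hR' hS (inv_mem huU) wt hwt
  -- `z = b⁻¹ t b`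
  obtain ⟨u1, hu1, h1, hh1, eb⟩ := borel_decomp J V1 H hb
  obtain ⟨w1, hw1, e1, _⟩ := pos_conj_word hD hR' hS hu1 wt hwt
  obtain ⟨wz, hwz, ez⟩ := torus_conj_word hD hR' (inv_mem hh1) w1 hw1
  have hy : ((u * t * u⁻¹ : GL D.Idx F) : Matrix D.Idx D.Idx F) = wN D F wy := by
    have : (u : Matrix D.Idx D.Idx F) * (((u⁻¹ : GL D.Idx F) : Matrix D.Idx D.Idx F) * wN D F wy) =
        wN D F wy := by
      rw [← Matrix.mul_assoc, ← Units.val_mul, mul_inv_cancel, Units.val_one, Matrix.one_mul]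
    rw [Units.val_mul, Units.val_mul, ht, Matrix.mul_assoc, ey, this]
  have hz : ((b⁻¹ * t * b : GL D.Idx F) : Matrix D.Idx D.Idx F) = wN D F wz := by
    have e2 : b⁻¹ * t * b = h1⁻¹ * (u1⁻¹ * t * u1) * h1 := by rw [eb]; group
    have e3 : ((u1⁻¹ * t * u1 : GL D.Idx F) : Matrix D.Idx D.Idx F) = wN D F w1 := by
      rw [Units.val_mul, Units.val_mul, ht, Matrix.mul_assoc, e1, ← Matrix.mul_assoc,
        ← Units.val_mul, inv_mul_cancel, Units.val_one, Matrix.one_mul]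
    rw [e2, Units.val_mul, Units.val_mul, e3, ez, Matrix.mul_assoc, ← Units.val_mul,
      inv_mul_cancel, Units.val_one, Matrix.mul_one]
  have hconj : nP D F l * (u * t * u⁻¹) = (b⁻¹ * t * b) * nP D F l := by
    have e1 : nP D F l = b⁻¹ * g * u⁻¹ := by rw [e]; group
    calc nP D F l * (u * t * u⁻¹) = b⁻¹ * g * u⁻¹ * (u * t * u⁻¹) := by rw [← e1]
      _ = b⁻¹ * (g * t) * u⁻¹ := by group
      _ = b⁻¹ * (t * g) * u⁻¹ := by rw [hgC]
      _ = (b⁻¹ * t * b) * (b⁻¹ * g * u⁻¹) := by group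
      _ = (b⁻¹ * t * b) * nP D F l := by rw [← e1]
  have hmat : ((nP D F l : GL D.Idx F) : Matrix D.Idx D.Idx F) * wN D F wy =
      wN D F wz * ((nP D F l : GL D.Idx F) : Matrix D.Idx D.Idx F) := by
    rw [← hy, ← hz, ← Units.val_mul, ← Units.val_mul, hconj]
  intro a ha hal
  have h3 := support_transport hD hf hm hlt hl
    (fun p hp => ⟨(hR p.1 (hwy p hp)).1.1, (hR p.1 (hwy p hp)).2⟩)
    (fun p hp => ⟨(hR p.1 (hwz p hp)).1.1, (hR p.1 (hwz p hp)).2⟩) hmat hal
    (by rw [sy a ha]; exact hne a ha)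
  obtain ⟨p, hp, hpa⟩ := exists_mem_of_sumAt_ne_zero h3
  rw [← hpa]
  exact hwz p hp

end

end Cfsg.Agent.Lib.Helper8.Chev
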