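import Cfsg.Agent.Lib.Helper8.ChevCz4

set_option autoImplicit false

/-! # Invariance of the Cartan integers under the Weyl group; factorisation of centralisers -/

namespace Cfsg.Agent.Lib.Helper8.Chev

open Cfsg.Lie Matrix Cfsg.Agent.Lib.Helper8.Weyl

section Check

/-- the Cartan integers `⟨s, r^∨⟩` are invariant under the fundamental reflections -/
noncomputable def checkAcoInv (D : ChevalleyDatum) : Bool :=
  forallLtF (fun i => withNat (D.simple i) fun p => forallLtF (fun r =>
    withNat (reflP D p (getZ 4 8 (packA D) i r) r) fun r' => forallLtF (fun s =>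
      withNat (reflP D p (getZ 4 8 (packA D) i s) s) fun s' =>
        decide (acoF D r' s' = acoF D r s)) D.nroots) D.nroots) D.rank

theorem checkAcoInv_G2 : checkAcoInv chevG2 = true := by decide +kernel
theorem checkAcoInv_B2 : checkAcoInv chevB2 = true := by decide +kernel
theorem checkAcoInv_D4 : checkAcoInv chevD4 = true := by decide +kernel
theorem checkAcoInv_F4 : checkAcoInv chevF4 = true := by decide +kernel

variable {D : ChevalleyDatum}

theorem aco_reflect (J : ValidJ D) (hN : checkNS D = true) (h : checkAcoInv D = true) {i : ℕ}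
    (hi : i < D.rank) {r s : ℕ} (hr : r < D.nroots) (hs : s < D.nroots) :
    aco D (D.reflectRoot i r) (D.reflectRoot i s) = aco D r s := by
  have hp := (J.S i hi).1
  simp only [checkAcoInv, forallLtF_eq_true, withNat_eq, decide_eq_true_eq] at h
  have := h i hi r hr s hs
  rw [reflP_eq J.V J.T hi hp hr, reflP_eq J.V J.T hi hp hs] at this
  have hr' := ((nS_props J hN hi).2.2 r hr).1
  have hs' := ((nS_props J hN hi).2.2 s hs).1
  rw [acoF_eq J.T hr' hs', acoF_eq J.T hr hs] at this
  exact this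

theorem aco_reflWord (J : ValidJ D) (hN : checkNS D = true) (h : checkAcoInv D = true) {l : List ℕ}
    (hl : ∀ i ∈ l, i < D.rank) {r s : ℕ} (hr : r < D.nroots) (hs : s < D.nroots) :
    aco D (reflWord D l r) (reflWord D l s) = aco D r s := by
  induction l with
  | nil => rfl
  | cons i l ih =>
    have hl' : ∀ j ∈ l, j < D.rank := fun j hj => hl j (List.mem_cons_of_mem _ hj)
    rw [reflWord_cons, reflWord_cons, aco_reflect J hN h (hl i List.mem_cons_self)
      (reflWord_lt J hN hl' hr) (reflWord_lt J hN hl' hs), ih hl']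

end Check

section

variable {D : ChevalleyDatum} {F : Type*} [Field F]

/-- a word of reflections which is positive on `Φ⁺ ∖ Φ_J` is, up to `H`, a word in `J` -/
theorem nP_factor_of_pos (hD : D ∈ [chevG2, chevB2, chevD4, chevF4, chevE6, chevE7, chevE8])
    (J : Set ℕ) {l : List ℕ} (hl : ∀ i ∈ l, i < D.rank)
    (hpos : ∀ r, D.IsPosRoot r → ¬ D.InRootSub J r → D.nroots / 2 ≤ reflWord D l r) :
    ∃ l' : List ℕ, (∀ i ∈ l', i < D.rank ∧ i ∈ J) ∧
      (∀ r < D.nroots, reflWord D l r = reflWord D l' r) ∧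
      nP D F l * (nP D F l')⁻¹ ∈ D.diagonalSubgroup F := by
  have P := posP_of_mem hD
  have hX := chevWD_ok_mem hD
  obtain ⟨w, hw, ew⟩ := exists_perm_of_word hD hl
  have hwJ : w ∈ (chevWD D (validJ_of_mem hD) (validH_of_mem hD)
      (checkInv_of_mem hD)).WJ (JF D J) := by
    apply WData.mem_WJ_of_pos hX hw
    intro r hr hrJ
    have hr' : D.IsPosRoot r.val := (P r.val r.isLt).1.mpr hr
    have hrJ' : ¬ D.InRootSub J r.val := fun h => hrJ ((inRootSub_iff hD J r).mp h)
    have := hpos r.val hr' hrJ'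
    show D.nroots / 2 ≤ (w r).val
    rw [ew r]
    exact this
  obtain ⟨l', hl', el'⟩ := exists_word_of_mem_WJ hD J hwJ
  have hl'' : ∀ i ∈ l', i < D.rank := fun i hi => (hl' i hi).1
  have hsame : ∀ r < D.nroots, reflWord D l r = reflWord D l' r := by
    intro r hr
    rw [← ew ⟨r, hr⟩, ← el' ⟨r, hr⟩]
  exact ⟨l', hl', hsame, nP_mul_inv_mem_diagonal (F := F) hD hl hl'' hsame⟩

/-- factorisation of the centraliser of a word `t` over `Rl`: `C_G(t) ⊆ B K`, for a subgroup `K`
containing the root subgroups of `Φ_J`, when every word of reflections mapping the marked roots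
into `Rl` is positive on `Φ⁺ ∖ Φ_J` -/
theorem cent_factor (hD : D ∈ [chevG2, chevB2, chevD4, chevF4, chevE6, chevE7, chevE8])
    {f : ℕ → ℤ} (hf : IsWt D f) {m : ℤ} (hm : 0 < m) (hlt : ∀ s < D.nroots, f s < 2 * m)
    {Rl S : List ℕ} (hR : ∀ r ∈ Rl, D.IsPosRoot r ∧ m ≤ f r)
    (hS : StabR D F (fun _ => True) Rl S)
    (hSl : ∀ a ∈ S, a < D.nroots)
    {t : GL D.Idx F} {wt : List (ℕ × F)} (ht : (t : Matrix D.Idx D.Idx F) = wN D F wt)
    (hwt : ∀ p ∈ wt, p.1 ∈ Rl) (hne : ∀ a ∈ S, sumAt a wt ≠ 0)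
    (J : Set ℕ)
    (hW : ∀ l : List ℕ, (∀ i ∈ l, i < D.rank) → (∀ a ∈ S, reflWord D l a ∈ Rl) →
      ∀ r, D.IsPosRoot r → ¬ D.InRootSub J r → D.nroots / 2 ≤ reflWord D l r)
    (K : Subgroup (GL D.Idx F))
    (hKpos : ∀ r, D.InRootSub J r → D.IsPosRoot r → ∀ (c : F) (y : GL D.Idx F),
      (y : Matrix D.Idx D.Idx F) = D.x F r c → y ∈ K)
    (hKneg : ∀ j ∈ J, j < D.rank → ∀ (c : F) (y : GL D.Idx F),
      (y : Matrix D.Idx D.Idx F) = D.x F (D.neg (D.simple j)) c → y ∈ K)
    {g : GL D.Idx F} (hgG : g ∈ D.group F) (hgC : g * t = t * g) :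
    ∃ b ∈ D.borelSubgroup F, ∃ k ∈ K, g = b * k := by
  have V := valid0_of_mem hD
  have V1 := valid1_of_mem hD
  have J' := validJ_of_mem hD
  have P := posP_of_mem hD
  obtain ⟨b, hb, l, hl, u, hu, e, hmap⟩ := cent_word hD hf hm hlt hR hS ht hwt hne hgG hgC
  have hpos := hW l hl (fun a ha => hmap a ha (hSl a ha))
  have hnK' : ∀ l' : List ℕ, (∀ i ∈ l', i < D.rank ∧ i ∈ J) → nP D F l' ∈ K := by
    intro l' hl'
    induction l' with
    | nil => rw [nP_nil]; exact one_mem _
    | cons j l' ih =>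
      rw [nP_cons]
      obtain ⟨hj, hjJ⟩ := hl' j List.mem_cons_self
      refine mul_mem ?_ (ih (fun i hi => hl' i (List.mem_cons_of_mem _ hi)))
      have hsub := inRootSub_simple hD J hj hjJ
      exact nMat_mem_of hD (J'.S j hj).1 K (hKpos _ hsub (isPosRoot_simple hD hj))
        (hKneg j hjJ hj) 1 _ (coe_nG J' V1 hj)
  obtain ⟨l', hl', _, hH⟩ := nP_factor_of_pos (F := F) hD J hl hpos
  have hnK : nP D F l' ∈ K := hnK' l' hl'
  have huK : u ∈ K := by
    have hle : UnegW D F l ≤ K := by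
      unfold UnegW
      rw [Subgroup.closure_le]
      rintro x ⟨r, c, hr1, hr2, hr3, hx⟩
      have hrp : D.IsPosRoot r := (P r hr2).1.mpr hr1
      have hin : D.InRootSub J r := by
        by_contra hn
        have := hpos r hrp hn
        omega
      exact hKpos r hin hrp c x hx
    exact hle hu
  refine ⟨b * (nP D F l * (nP D F l')⁻¹), mul_mem hb (diagonal_le_borel hH),
    nP D F l' * u, mul_mem hnK huK, ?_⟩
  rw [e]
  group

end

end Cfsg.Agent.Lib.Helper8.Chev
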