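import Cfsg.Agent.Lib.Helper8.ChevCz5

set_option autoImplicit false

/-! # The centraliser of a word over an ideal of roots in the Borel subgroup -/

namespace Cfsg.Agent.Lib.Helper8.Chev

open Cfsg.Lie Matrix

section

variable {D : ChevalleyDatum} {F : Type*} [Field F]

/-- the sums of the parameters of a word of root elements of large weight are determined by
its matrix -/
theorem sumAt_eq_of_wN_eq (V : Valid0 D) (C : CopP D) {f : ℕ → ℤ} (hf : IsWt D f) {m : ℤ}
    (hm : 0 < m) (hlt : ∀ s < D.nroots, f s < 2 * m) {w w' : List (ℕ × F)}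
    (hw : ∀ p ∈ w, p.1 < D.nroots ∧ m ≤ f p.1) (hw' : ∀ p ∈ w', p.1 < D.nroots ∧ m ≤ f p.1)
    (h : wN D F w = wN D F w') {a : ℕ} (ha : a < D.nroots) : sumAt a w = sumAt a w' := by
  rw [← sub_eq_zero]
  apply eq_zero_of_cop C ha
  intro i hi
  have h1 := cartan_part_word (R := F) V hf hm hlt w hw (V.neg_lt ha) ⟨i, hi⟩
  have h2 := cartan_part_word (R := F) V hf hm hlt w' hw' (V.neg_lt ha) ⟨i, hi⟩
  rw [V.neg_neg ha] at h1 h2
  rw [sub_mul, ← h1, ← h2, h, sub_self]

/-- the word obtained by conjugating the word `w` by the letter `x_k(v)` -/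
def conjW (D : ChevalleyDatum) (F : Type*) [Field F] (k : ℕ) (v : F) (w : List (ℕ × F)) :
    List (ℕ × F) :=
  w.flatMap fun p => p :: D.commWord F k p.1 v p.2

theorem wN_conjW (hD : D ∈ [chevG2, chevB2, chevD4, chevF4, chevE6, chevE7, chevE8])
    {k : ℕ} (hk : D.IsPosRoot k) (v : F) (w : List (ℕ × F))
    (hw : ∀ p ∈ w, D.IsPosRoot p.1 ∧ p.1 ≠ k) :
    wN D F w * xN D F k v = xN D F k v * wN D F (conjW D F k v w) := by
  induction w with
  | nil => simp [conjW]
  | cons p w ih =>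
    have hp := hw p List.mem_cons_self
    have e : conjW D F k v (p :: w) = (p :: D.commWord F k p.1 v p.2) ++ conjW D F k v w := by
      simp [conjW]
    rw [e, wN_append, wN_cons p w, Matrix.mul_assoc,
      ih (fun q hq => hw q (List.mem_cons_of_mem _ hq)), ← Matrix.mul_assoc,
      conj_letter_exact hD hk v hp.1 hp.2 p.2, Matrix.mul_assoc]

theorem conjW_over (Rl : List ℕ) (hS0 : StabR D F (fun _ => True) Rl [])
    {k : ℕ} (hk : D.IsPosRoot k) (v : F) (w : List (ℕ × F))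
    (hw : ∀ p ∈ w, p.1 ∈ Rl) (hkw : ∀ p ∈ w, p.1 ≠ k) :
    ∀ p ∈ nzW (conjW D F k v w), p.1 ∈ Rl := by
  intro p hp
  obtain ⟨hp, hp0⟩ := mem_nzW.mp hp
  unfold conjW at hp
  rw [List.mem_flatMap] at hp
  obtain ⟨q, hq, hp⟩ := hp
  rcases List.mem_cons.mp hp with rfl | hp
  · exact hw _ hq
  · unfold ChevalleyDatum.commWord at hp
    rw [List.mem_map] at hp
    obtain ⟨c', hc', rfl⟩ := hp
    rcases hS0 k trivial hk q.1 (hw q hq) (hkw q hq) c' hc' with h0 | h0
    · exfalso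
      apply hp0
      simp only [h0, zero_mul]
    · exact h0.1

/-- peeling off a letter of the ordered product commuting with a word `t` over `Rl`: the sum of
the parameters at a root `a` fed by no later letter is unchanged -/
theorem bad_step (hD : D ∈ [chevG2, chevB2, chevD4, chevF4, chevE6, chevE7, chevE8])
    {f : ℕ → ℤ} (hf : IsWt D f) {m : ℤ} (hm : 0 < m) (hlt : ∀ s < D.nroots, f s < 2 * m)
    {Rl : List ℕ} (hR : ∀ r ∈ Rl, D.IsPosRoot r ∧ m ≤ f r)
    (hS0 : StabR D F (fun _ => True) Rl [])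
    {wt : List (ℕ × F)} (hwt : ∀ p ∈ wt, p.1 ∈ Rl)
    {k : ℕ} (hk1 : D.nroots / 2 ≤ k) (hk2 : k < D.nroots) (hkR : k ∉ Rl)
    {a : ℕ} (ha : a < D.nroots) (hS : StabR D F (fun q => k < q) Rl [a])
    (τ : ℕ → F)
    (hc : wN D F wt * wN D F (segW D k τ) = wN D F (segW D k τ) * wN D F wt) :
    sumAt a (conjW D F k (τ k) wt) = sumAt a wt := by
  have V := valid0_of_mem hD
  have V1 := valid1_of_mem hD
  have P := posP_of_mem hD
  have C := copP_of_mem hD
  have hkp : D.IsPosRoot k := (P k hk2).1.mpr hk1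
  have hR' : ∀ r ∈ Rl, D.IsPosRoot r := fun r hr => (hR r hr).1
  have hne : ∀ p ∈ wt, p.1 ≠ k := fun p hp h => hkR (h ▸ hwt p hp)
  have h1 := wN_conjW hD hkp (τ k) wt (fun p hp => ⟨hR' _ (hwt p hp), hne p hp⟩)
  have hov := conjW_over Rl hS0 hkp (τ k) wt hwt hne
  obtain ⟨w2, hw2, e2, s2⟩ := word_conj_word hD hR' hS (segW D (k + 1) τ) (by
    intro p hp
    have := segW_mem hp
    exact ⟨by omega, (P p.1 this.2).1.mpr (by omega)⟩) (nzW (conjW D F k (τ k) wt)) hov
  rw [segW_succ hk2, wN_cons] at hc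
  have h3 : (xN D F k (τ k) * wN D F (segW D (k + 1) τ)) * wN D F w2 =
      (xN D F k (τ k) * wN D F (segW D (k + 1) τ)) * wN D F wt := by
    rw [← hc, ← Matrix.mul_assoc (wN D F wt), h1, Matrix.mul_assoc, Matrix.mul_assoc,
      ← wN_nzW V (conjW D F k (τ k) wt), e2]
  obtain ⟨g, hg⟩ := exists_unit_wN (F := F) V V1 ((k, τ k) :: segW D (k + 1) τ) (by
    intro p hp
    rcases List.mem_cons.mp hp with rfl | hp
    · exact hk2
    · exact (segW_mem hp).2)
  rw [wN_cons] at hg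
  rw [← hg] at h3
  have h4 : wN D F w2 = wN D F wt := by
    have := congrArg (fun M => ((g⁻¹ : GL D.Idx F) : Matrix D.Idx D.Idx F) * M) h3
    simpa [← Matrix.mul_assoc, ← Units.val_mul] using this
  rw [← sumAt_nzW a (conjW D F k (τ k) wt), ← s2 a (by simp)]
  exact sumAt_eq_of_wN_eq V C hf hm hlt
    (fun p hp => ⟨(hR _ (hw2 p hp)).1.1, (hR _ (hw2 p hp)).2⟩)
    (fun p hp => ⟨(hR _ (hwt p hp)).1.1, (hR _ (hwt p hp)).2⟩) h4 ha

/-- the centraliser in `U` of a word `t` over `Rl` lies in `C0`, when every positive root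
element either lies in `C0` or can be peeled off -/
theorem upos_cent (hD : D ∈ [chevG2, chevB2, chevD4, chevF4, chevE6, chevE7, chevE8])
    {f : ℕ → ℤ} (hf : IsWt D f) {m : ℤ} (hm : 0 < m) (hlt : ∀ s < D.nroots, f s < 2 * m)
    {Rl : List ℕ} (hR : ∀ r ∈ Rl, D.IsPosRoot r ∧ m ≤ f r)
    (hS0 : StabR D F (fun _ => True) Rl [])
    {wt : List (ℕ × F)} (hwt : ∀ p ∈ wt, p.1 ∈ Rl)
    (C0 : Subgroup (GL D.Idx F))
    (hcen : ∀ y ∈ C0, (y : Matrix D.Idx D.Idx F) * wN D F wt = wN D F wt * (y : Matrix D.Idx D.Idx F))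
    (hstep : ∀ k, D.nroots / 2 ≤ k → k < D.nroots →
      (∀ (v : F) (y : GL D.Idx F), (y : Matrix D.Idx D.Idx F) = D.x F k v → y ∈ C0) ∨
      (k ∉ Rl ∧ ∃ a, a < D.nroots ∧ StabR D F (fun q => k < q) Rl [a] ∧
        ∀ v : F, sumAt a (conjW D F k v wt) = sumAt a wt → v = 0))
    {u : GL D.Idx F} (hu : u ∈ D.posUnipotent F)
    (huc : (u : Matrix D.Idx D.Idx F) * wN D F wt = wN D F wt * (u : Matrix D.Idx D.Idx F)) :
    u ∈ C0 := by
  have V := valid0_of_mem hD
  have V1 := valid1_of_mem hD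
  have key : ∀ d k, D.nroots / 2 ≤ k → k + d = D.nroots → ∀ τ : ℕ → F,
      wN D F wt * wN D F (segW D k τ) = wN D F (segW D k τ) * wN D F wt →
      ∃ y ∈ C0, (y : Matrix D.Idx D.Idx F) = wN D F (segW D k τ) := by
    intro d
    induction d with
    | zero =>
      intro k _ hkd τ _
      have : k = D.nroots := by omega
      subst this
      exact ⟨1, one_mem _, by rw [segW_top, wN_nil, Units.val_one]⟩
    | succ d ih =>
      intro k hk hkd τ hc
      have hk2 : k < D.nroots := by omega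
      rcases hstep k hk hk2 with hgood | ⟨hkR, a, ha, hS, hv⟩
      · obtain ⟨y0, hy0⟩ := exists_unit_x (F := F) V V1 hk2 (τ k)
        have hy0C := hgood (τ k) y0 hy0
        have hc0 := hcen y0 hy0C
        rw [hy0, x_eq_xN] at hc0
        rw [segW_succ hk2, wN_cons] at hc ⊢
        have hc1 : wN D F wt * wN D F (segW D (k + 1) τ) =
            wN D F (segW D (k + 1) τ) * wN D F wt := by
          have h5 : (y0 : Matrix D.Idx D.Idx F) * (wN D F wt * wN D F (segW D (k + 1) τ)) =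
              (y0 : Matrix D.Idx D.Idx F) * (wN D F (segW D (k + 1) τ) * wN D F wt) := by
            rw [hy0, x_eq_xN, ← Matrix.mul_assoc, hc0, Matrix.mul_assoc, hc, Matrix.mul_assoc]
          have := congrArg (fun M => ((y0⁻¹ : GL D.Idx F) : Matrix D.Idx D.Idx F) * M) h5
          simpa [← Matrix.mul_assoc, ← Units.val_mul] using this
        obtain ⟨y1, hy1C, hy1⟩ := ih (k + 1) (by omega) (by omega) τ hc1
        exact ⟨y0 * y1, mul_mem hy0C hy1C, by rw [Units.val_mul, hy0, hy1, x_eq_xN]⟩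
      · have h0 := hv (τ k) (bad_step hD hf hm hlt hR hS0 hwt hk hk2 hkR ha hS τ hc)
        have e : wN D F (segW D k τ) = wN D F (segW D (k + 1) τ) := by
          rw [segW_succ hk2, wN_cons, h0, xN_zero V, Matrix.one_mul]
        rw [e] at hc ⊢
        exact ih (k + 1) (by omega) (by omega) τ hc
  obtain ⟨τ, hτ⟩ := posUnipotent_exists hD hu
  obtain ⟨y, hy, e⟩ := key (D.nroots - D.nroots / 2) (D.nroots / 2) le_rfl (by omega) τ
    (by rw [← hτ]; exact huc.symm)
  have : u = y := Units.ext (hτ.trans e.symm)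
  rw [this]
  exact hy

end

end Cfsg.Agent.Lib.Helper8.Chev
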