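import Cfsg.Agent.Lib.Helper8.ChevCz6

set_option autoImplicit false

/-! # The centraliser of a word over an ideal of roots: the torus part and the final assembly -/

namespace Cfsg.Agent.Lib.Helper8.Chev

open Cfsg.Lie Matrix

section

variable {D : ChevalleyDatum} {F : Type*} [Field F]

/-- the character of a point of the torus is multiplicative along the columns -/
theorem isChar_chiT' (VJ : ValidJ D) (H : ValidH D) (c : Fin D.rank → Fˣ) :
    IsChar D (fun s => ((chiT D c s : Fˣ) : F)) := by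
  classical
  unfold chiT
  have key : ∀ S : Finset (Fin D.rank),
      IsChar D (fun s => ((∏ i ∈ S, c i ^ D.cartan i.val s : Fˣ) : F)) := by
    intro S
    induction S using Finset.induction_on with
    | empty =>
      simp only [Finset.prod_empty, Units.val_one]
      exact isChar_one
    | insert i S hi ih =>
      have h1 := isChar_of_isWt VJ.V (isWt_of_check VJ.V VJ.T H.hsz H.wt i.isLt) (c i) (R := F)
      have := h1.mul ih
      have e : (fun s => ((c i ^ D.cartan i.val s : Fˣ) : F) *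
          ((∏ j ∈ S, c j ^ D.cartan j.val s : Fˣ) : F)) =
          fun s => ((∏ j ∈ insert i S, c j ^ D.cartan j.val s : Fˣ) : F) := by
        funext s
        rw [Finset.prod_insert hi, Units.val_mul]
      rw [e] at this
      exact this
  exact key Finset.univ

theorem chiT_mul' (c c' : Fin D.rank → Fˣ) (s : ℕ) :
    chiT D (c * c') s = chiT D c s * chiT D c' s := by
  unfold chiT
  rw [← Finset.prod_mul_distrib]
  apply Finset.prod_congr rfl
  intro i _
  rw [Pi.mul_apply, mul_zpow]

/-- the word `w` with the parameters scaled by `g` -/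
def scaleW (g : ℕ → F) (w : List (ℕ × F)) : List (ℕ × F) := w.map fun p => (p.1, g p.1 * p.2)

theorem sumAt_scaleW (g : ℕ → F) (a : ℕ) (w : List (ℕ × F)) :
    sumAt a (scaleW g w) = g a * sumAt a w := by
  induction w with
  | nil => simp [scaleW, sumAt_nil]
  | cons p w ih =>
    have e : scaleW g (p :: w) = (p.1, g p.1 * p.2) :: scaleW g w := rfl
    rw [e, sumAt_cons, sumAt_cons, ih]
    by_cases h : p.1 = a
    · simp only [h, if_true]
      ring
    · simp only [h, if_false]
      ring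

theorem scaleW_over {g : ℕ → F} {w : List (ℕ × F)} {P : ℕ → Prop} (hw : ∀ p ∈ w, P p.1) :
    ∀ p ∈ scaleW g w, P p.1 := by
  intro p hp
  unfold scaleW at hp
  rw [List.mem_map] at hp
  obtain ⟨q, hq, rfl⟩ := hp
  exact hw q hq

theorem scaleW_eq_self {g : ℕ → F} {w : List (ℕ × F)} (h : ∀ p ∈ w, g p.1 = 1) :
    scaleW g w = w := by
  unfold scaleW
  conv_rhs => rw [← List.map_id w]
  apply List.map_congr_left
  intro p hp
  rw [h p hp, one_mul]
  rfl

/-- conjugating a word by a point of the torus -/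
theorem torMap_conj_word (hD : D ∈ [chevG2, chevB2, chevD4, chevF4, chevE6, chevE7, chevE8])
    (cc : Fin D.rank → Fˣ) (w : List (ℕ × F)) (hw : ∀ p ∈ w, p.1 < D.nroots) :
    ((torMap D F cc : GL D.Idx F) : Matrix D.Idx D.Idx F) * wN D F w =
      wN D F (scaleW (fun s => ((chiT D cc s : Fˣ) : F)) w) *
        ((torMap D F cc : GL D.Idx F) : Matrix D.Idx D.Idx F) := by
  have V := valid0_of_mem hD
  have J := validJ_of_mem hD
  have H := validH_of_mem hD
  rw [torMap_apply, coe_diagU]
  apply conj_word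
  intro p hp
  exact diagC_mul_xN V (isChar_chiT' J H cc) (hw p hp) p.2

/-- the final assembly: the centraliser of the word `t` over `Rl` is `C0` -/
theorem cent_eq_of (hD : D ∈ [chevG2, chevB2, chevD4, chevF4, chevE6, chevE7, chevE8])
    {f : ℕ → ℤ} (hf : IsWt D f) {m : ℤ} (hm : 0 < m) (hlt : ∀ s < D.nroots, f s < 2 * m)
    {Rl S : List ℕ} (hR : ∀ r ∈ Rl, D.IsPosRoot r ∧ m ≤ f r)
    (hS : StabR D F (fun _ => True) Rl S) (hSR : ∀ a ∈ S, a ∈ Rl)
    {t : GL D.Idx F} {wt : List (ℕ × F)} (ht : (t : Matrix D.Idx D.Idx F) = wN D F wt)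
    (hwtS : ∀ p ∈ wt, p.1 ∈ S) (hne : ∀ a ∈ S, sumAt a wt ≠ 0)
    (J : Set ℕ)
    (hW : ∀ l : List ℕ, (∀ i ∈ l, i < D.rank) → (∀ a ∈ S, reflWord D l a ∈ Rl) →
      ∀ r, D.IsPosRoot r → ¬ D.InRootSub J r → D.nroots / 2 ≤ reflWord D l r)
    (C0 : Subgroup (GL D.Idx F))
    (hKpos : ∀ r, D.InRootSub J r → D.IsPosRoot r → ∀ (c : F) (y : GL D.Idx F),
      (y : Matrix D.Idx D.Idx F) = D.x F r c → y ∈ C0)
    (hKneg : ∀ j ∈ J, j < D.rank → ∀ (c : F) (y : GL D.Idx F),
      (y : Matrix D.Idx D.Idx F) = D.x F (D.neg (D.simple j)) c → y ∈ C0)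
    (hC0G : C0 ≤ D.group F) (hcen : ∀ y ∈ C0, y * t = t * y)
    (hstep : ∀ k, D.nroots / 2 ≤ k → k < D.nroots →
      (∀ (v : F) (y : GL D.Idx F), (y : Matrix D.Idx D.Idx F) = D.x F k v → y ∈ C0) ∨
      (k ∉ Rl ∧ ∃ a, a < D.nroots ∧ StabR D F (fun q => k < q) Rl [a] ∧
        ∀ v : F, sumAt a (conjW D F k v wt) = sumAt a wt → v = 0))
    (Bd : Finset (Fin D.rank))
    (hgood : ∀ i : Fin D.rank, i ∉ Bd → ∀ τ : Fˣ, torMap D F (Pi.mulSingle i τ) ∈ C0)
    (hbad : ∀ cc : Fin D.rank → Fˣ, (∀ i, i ∉ Bd → cc i = 1) → (∀ a ∈ S, chiT D cc a = 1) →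
      cc = 1) :
    D.group F ⊓ Subgroup.centralizer {t} = C0 := by
  classical
  have V := valid0_of_mem hD
  have V1 := valid1_of_mem hD
  have J' := validJ_of_mem hD
  have H := validH_of_mem hD
  have C := copP_of_mem hD
  have hwt : ∀ p ∈ wt, p.1 ∈ Rl := fun p hp => hSR _ (hwtS p hp)
  have hR' : ∀ r ∈ Rl, D.IsPosRoot r := fun r hr => (hR r hr).1
  have hRw : ∀ {w : List (ℕ × F)}, (∀ p ∈ w, p.1 ∈ Rl) → ∀ p ∈ w, p.1 < D.nroots ∧ m ≤ f p.1 :=
    fun hw p hp => ⟨(hR _ (hw p hp)).1.1, (hR _ (hw p hp)).2⟩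
  have hSl : ∀ a ∈ S, a < D.nroots := fun a ha => (hR a (hSR a ha)).1.1
  have hS0 : StabR D F (fun _ => True) Rl [] := fun q hQ hq r hr hrq c hc =>
    (hS q hQ hq r hr hrq c hc).imp id (fun h => ⟨h.1, by simp⟩)
  have hcenM : ∀ y ∈ C0, (y : Matrix D.Idx D.Idx F) * wN D F wt =
      wN D F wt * (y : Matrix D.Idx D.Idx F) := by
    intro y hy
    rw [← ht, ← Units.val_mul, ← Units.val_mul, hcen y hy]
  -- torus elements commuting with `t` have trivial characters on `S`
  have hchi : ∀ cc : Fin D.rank → Fˣ, ∀ w' : List (ℕ × F), (∀ p ∈ w', p.1 ∈ Rl) →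
      (∀ a ∈ S, sumAt a w' = sumAt a wt) →
      wN D F (scaleW (fun s => ((chiT D cc s : Fˣ) : F)) wt) = wN D F w' →
      ∀ a ∈ S, chiT D cc a = 1 := by
    intro cc w' hw' hs' he a ha
    have h1 := sumAt_eq_of_wN_eq V C hf hm hlt (hRw (scaleW_over (P := fun r => r ∈ Rl) hwt))
      (hRw hw') he (hSl a ha)
    rw [sumAt_scaleW, hs' a ha] at h1
    have h2 : ((chiT D cc a : Fˣ) : F) = 1 := by
      have := hne a ha
      have h3 : (((chiT D cc a : Fˣ) : F) - 1) * sumAt a wt = 0 := by rw [sub_mul, h1, one_mul, sub_self]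
      rcases mul_eq_zero.mp h3 with h4 | h4
      · exact sub_eq_zero.mp h4
      · exact absurd h4 this
    exact Units.ext h2
  apply le_antisymm
  · intro g hg
    obtain ⟨hgG, hgC⟩ := Subgroup.mem_inf.mp hg
    rw [Subgroup.mem_centralizer_iff] at hgC
    have hgt : g * t = t * g := (hgC t rfl).symm
    obtain ⟨b, hb, k, hk, e⟩ := cent_factor hD hf hm hlt hR hS hSl ht hwt hne J hW C0 hKpos hKneg hgG hgt
    have hkt := hcen k hk
    have hbt : b * t = t * b := by
      have e1 : b = g * k⁻¹ := by rw [e]; group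
      have hkt' : k⁻¹ * t = t * k⁻¹ := by
        calc k⁻¹ * t = k⁻¹ * (t * k) * k⁻¹ := by group
          _ = k⁻¹ * (k * t) * k⁻¹ := by rw [hkt]
          _ = t * k⁻¹ := by group
      rw [e1, mul_assoc, hkt', ← mul_assoc, hgt, mul_assoc]
    obtain ⟨u, hu, h, hh, eb⟩ := borel_decomp J' V1 H hb
    rw [diagonal_eq_range J' V1 H] at hh
    obtain ⟨cc, rfl⟩ := hh
    -- `u (h t h⁻¹) = t u`
    have hT := torMap_conj_word hD cc wt (fun p hp => (hRw hwt p hp).1)
    obtain ⟨w', hw', e', s'⟩ := pos_conj_word hD hR' hS hu wt hwt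
    have hbtM : (u : Matrix D.Idx D.Idx F) * ((torMap D F cc : GL D.Idx F) : Matrix D.Idx D.Idx F) *
        wN D F wt = wN D F wt * ((u : Matrix D.Idx D.Idx F) *
          ((torMap D F cc : GL D.Idx F) : Matrix D.Idx D.Idx F)) := by
      rw [← ht, ← Units.val_mul, ← Units.val_mul, ← Units.val_mul, ← eb, hbt]
    have hcmp : wN D F (scaleW (fun s => ((chiT D cc s : Fˣ) : F)) wt) = wN D F w' := by
      have h5 : (u : Matrix D.Idx D.Idx F) *
          wN D F (scaleW (fun s => ((chiT D cc s : Fˣ) : F)) wt) *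
          ((torMap D F cc : GL D.Idx F) : Matrix D.Idx D.Idx F) =
          (u : Matrix D.Idx D.Idx F) * wN D F w' *
            ((torMap D F cc : GL D.Idx F) : Matrix D.Idx D.Idx F) := by
        rw [Matrix.mul_assoc, ← hT, ← Matrix.mul_assoc, hbtM, ← Matrix.mul_assoc, e']
      have h6 := congrArg (fun M => ((u⁻¹ : GL D.Idx F) : Matrix D.Idx D.Idx F) * M *
        (((torMap D F cc)⁻¹ : GL D.Idx F) : Matrix D.Idx D.Idx F)) h5
      simp only [Matrix.mul_assoc] at h6
      rw [← Units.val_mul, mul_inv_cancel, Units.val_one, Matrix.mul_one, Matrix.mul_one,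
        ← Matrix.mul_assoc, ← Matrix.mul_assoc, ← Units.val_mul, inv_mul_cancel, Units.val_one,
        Matrix.one_mul, Matrix.one_mul] at h6
      exact h6
    have hchi1 := hchi cc w' hw' s' hcmp
    have hscale : scaleW (fun s => ((chiT D cc s : Fˣ) : F)) wt = wt :=
      scaleW_eq_self (fun p hp => by rw [hchi1 _ (hwtS p hp), Units.val_one])
    rw [hscale] at hT
    have hht : torMap D F cc * t = t * torMap D F cc := by
      apply Units.ext
      rw [Units.val_mul, Units.val_mul, ht, hT]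
    have hut : u * t = t * u := by
      have e1 : u = b * (torMap D F cc)⁻¹ := by rw [eb]; group
      have hh' : (torMap D F cc)⁻¹ * t = t * (torMap D F cc)⁻¹ := by
        calc (torMap D F cc)⁻¹ * t = (torMap D F cc)⁻¹ * (t * torMap D F cc) * (torMap D F cc)⁻¹ := by
              group
          _ = (torMap D F cc)⁻¹ * (torMap D F cc * t) * (torMap D F cc)⁻¹ := by rw [hht]
          _ = t * (torMap D F cc)⁻¹ := by group
      rw [e1, mul_assoc, hh', ← mul_assoc, hbt, mul_assoc]
    have huC : u ∈ C0 := by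
      apply upos_cent hD hf hm hlt hR hS0 hwt C0 hcenM hstep hu
      rw [← ht, ← Units.val_mul, ← Units.val_mul, hut]
    -- the torus part
    have hhC : torMap D F cc ∈ C0 := by
      set cg : Fin D.rank → Fˣ := fun i => if i ∈ Bd then 1 else cc i with hcg
      set cb : Fin D.rank → Fˣ := fun i => if i ∈ Bd then cc i else 1 with hcb
      have hmul : cc = cg * cb := by
        funext i
        rw [Pi.mul_apply, hcg, hcb]
        by_cases hi : i ∈ Bd
        · simp [hi]
        · simp [hi]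
      have hcgC : torMap D F cg ∈ C0 := by
        have hc : cg = ∏ i, Pi.mulSingle i (cg i) := (Finset.univ_prod_mulSingle cg).symm
        have hmem : cg ∈ C0.comap (torMap D F) := by
          rw [hc]
          apply Subgroup.prod_mem
          intro i _
          rw [Subgroup.mem_comap]
          by_cases hi : i ∈ Bd
          · have : cg i = 1 := by rw [hcg]; simp [hi]
            rw [this, Pi.mulSingle_one, map_one]
            exact one_mem _
          · exact hgood i hi _
        exact hmem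
      have hTg := torMap_conj_word hD cg wt (fun p hp => (hRw hwt p hp).1)
      have hcg1 : ∀ a ∈ S, chiT D cg a = 1 := by
        apply hchi cg wt hwt (fun a _ => rfl)
        have h7 := hcenM _ hcgC
        rw [hTg] at h7
        have h8 := congrArg (fun M => M * (((torMap D F cg)⁻¹ : GL D.Idx F) :
          Matrix D.Idx D.Idx F)) h7
        simp only [Matrix.mul_assoc] at h8
        rw [← Units.val_mul, mul_inv_cancel, Units.val_one, Matrix.mul_one, Matrix.mul_one] at h8
        exact h8
      have hcb1 : ∀ a ∈ S, chiT D cb a = 1 := by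
        intro a ha
        have := hchi1 a ha
        rw [hmul, chiT_mul', hcg1 a ha, one_mul] at this
        exact this
      have hcb0 : cb = 1 := by
        apply hbad cb _ hcb1
        intro i hi
        rw [hcb]
        simp [hi]
      rw [hmul, hcb0, mul_one]
      exact hcgC
    rw [e, eb]
    exact mul_mem (mul_mem huC hhC) hk
  · intro y hy
    refine Subgroup.mem_inf.mpr ⟨hC0G hy, ?_⟩
    rw [Subgroup.mem_centralizer_iff]
    rintro _ rfl
    exact (hcen y hy).symm

end

end Cfsg.Agent.Lib.Helper8.Chev
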