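import Cfsg.Agent.Lib.Helper8.ChevB

set_option autoImplicit false

namespace Cfsg.Agent.Lib.Helper8.Chev

open Cfsg.Lie Matrix

/-- every root is positive or negative (boolean check) -/
noncomputable def checkPN (D : ChevalleyDatum) : Bool :=
  Nat.beq D.coroot.size D.nroots &&
  allF (fun rowArr : Array ℤ => allF (fun c => decide (0 ≤ c)) rowArr.toList ||
    allF (fun c => decide (c ≤ 0)) rowArr.toList) D.coroot.toList

theorem posneg_of_check {D : ChevalleyDatum} (h : checkPN D = true) :
    ∀ r < D.nroots, D.IsPosRoot r ∨ D.IsNegRoot r := by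
  simp only [checkPN, Bool.and_eq_true, Nat.beq_eq, allF_eq_true, Bool.or_eq_true,
    decide_eq_true_eq] at h
  intro r hr
  have h1 := toList_getElem?_of_lt D.coroot r #[] (by omega)
  have h2 := h.2 _ (List.mem_of_getElem? h1)
  rcases h2 with h2 | h2
  · exact Or.inl ⟨hr, h2⟩
  · exact Or.inr ⟨hr, h2⟩

theorem checkPN_G2 : checkPN chevG2 = true := by decide +kernel
theorem checkPN_B2 : checkPN chevB2 = true := by decide +kernel
theorem checkPN_D4 : checkPN chevD4 = true := by decide +kernel
theorem checkPN_F4 : checkPN chevF4 = true := by decide +kernel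
theorem checkPN_E6 : checkPN chevE6 = true := by decide +kernel
theorem checkPN_E7 : checkPN chevE7 = true := by decide +kernel
theorem checkPN_E8 : checkPN chevE8 = true := by decide +kernel

theorem posneg_of_mem {D : ChevalleyDatum}
    (hD : D ∈ [chevG2, chevB2, chevD4, chevF4, chevE6, chevE7, chevE8]) :
    ∀ r < D.nroots, D.IsPosRoot r ∨ D.IsNegRoot r := by
  simp only [List.mem_cons, List.mem_nil_iff, or_false] at hD
  rcases hD with rfl | rfl | rfl | rfl | rfl | rfl | rfl
  · exact posneg_of_check checkPN_G2
  · exact posneg_of_check checkPN_B2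
  · exact posneg_of_check checkPN_D4
  · exact posneg_of_check checkPN_F4
  · exact posneg_of_check checkPN_E6
  · exact posneg_of_check checkPN_E7
  · exact posneg_of_check checkPN_E8

end Cfsg.Agent.Lib.Helper8.Chev
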