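import Cfsg.Agent.Lib.Helper8.ChevC

set_option autoImplicit false

namespace Cfsg.Agent.Lib.Helper8.Chev

open Cfsg.Lie Matrix

variable (D : ChevalleyDatum)

/-- natural-number code of a coordinate index -/
def codeI : D.Idx → ℕ
  | Sum.inl i => i.val
  | Sum.inr u => D.rank + u.val

theorem codeI_lt (x : D.Idx) : codeI D x < D.rank + D.nroots := by
  rcases x with i | u
  · have := i.isLt; simp only [codeI]; omega
  · have := u.isLt; simp only [codeI]; omega

theorem codeI_injective : Function.Injective (codeI D) := by
  intro x y h
  rcases x with i | u <;> rcases y with j | v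
  · simp only [codeI] at h; exact congrArg _ (Fin.ext h)
  · have := i.isLt; simp only [codeI] at h; omega
  · have := j.isLt; simp only [codeI] at h; omega
  · simp only [codeI] at h; exact congrArg _ (Fin.ext (by omega))

/-- decoding -/
def decI (c : ℕ) (h : c < D.rank + D.nroots) : D.Idx :=
  if h1 : c < D.rank then Sum.inl ⟨c, h1⟩ else Sum.inr ⟨c - D.rank, by omega⟩

theorem codeI_decI (c : ℕ) (h : c < D.rank + D.nroots) : codeI D (decI D c h) = c := by
  unfold decI
  split_ifs with h1
  · rfl
  · simp only [codeI]; omega

theorem decI_codeI (x : D.Idx) : decI D (codeI D x) (codeI_lt D x) = x :=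
  codeI_injective D (codeI_decI D _ _)

/-- `[k = j] * v` -/
def atK (k j : ℕ) (v : ℤ) : ℤ := if k = j then v else 0

/-- coefficient of `t^k` in the `(row, col)` entry of `x_r(t)`, on codes -/
def xCoefN (r k rc cc : ℕ) : ℤ :=
  if cc < D.rank then
    (if rc < D.rank then (if rc = cc then atK k 0 1 else 0)
     else (if rc - D.rank = r then atK k 1 (- ((D.cartanSR.getD cc #[]).getD r 0)) else 0))
  else
    if cc - D.rank = r then
      (if rc < D.rank then 0 else if rc - D.rank = r then atK k 0 1 else 0)
    else if cc - D.rank = D.negIdx.getD r 0 then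
      (if rc < D.rank then atK k 1 ((D.coroot.getD r #[]).getD rc 0)
       else if rc = cc then atK k 0 1 else if rc - D.rank = r then atK k 2 (-1) else 0)
    else
      (if rc < D.rank then 0
       else (if rc = cc then atK k 0 1 else 0) +
         ((D.chainCoeff r (cc - D.rank) (rc - D.rank)).map fun km => atK k km.1 km.2).sum)

variable {D}

theorem sum_range4_atK {R : Type*} [CommRing R] (t : R) (j : ℕ) (hj : j < 4) (v : ℤ) :
    ∑ k ∈ Finset.range 4, ((atK k j v : ℤ) : R) * t ^ k = (v : R) * t ^ j := by
  simp only [Finset.sum_range_succ, Finset.sum_range_zero, atK]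
  interval_cases j <;> simp

theorem sum_range4_chain {R : Type*} [CommRing R] (t : R) (l : List (ℕ × ℤ))
    (hl : ∀ km ∈ l, km.1 < 4) :
    ∑ k ∈ Finset.range 4, (((l.map fun km => atK k km.1 km.2).sum : ℤ) : R) * t ^ k =
      (l.map fun km => ((km.2 : ℤ) : R) * t ^ km.1).sum := by
  induction l with
  | nil => simp
  | cons a l ih =>
    simp only [List.map_cons, List.sum_cons, Int.cast_add, add_mul, Finset.sum_add_distrib]
    rw [ih (fun km hkm => hl km (List.mem_cons_of_mem _ hkm)),
      sum_range4_atK t a.1 (hl a List.mem_cons_self)]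

/-- all powers occurring in the chain table are below 4 -/
def PowOK (D : ChevalleyDatum) : Prop :=
  ∀ r < D.nroots, ∀ s u : ℕ, ∀ km ∈ D.chainCoeff r s u, km.1 < 4

theorem xR_eq_sum (hP : PowOK D) {R : Type*} [CommRing R] (r : Fin D.nroots) (t : R)
    (row col : D.Idx) :
    xR D R r t row col =
      ∑ k ∈ Finset.range 4, ((xCoefN D r.val k (codeI D row) (codeI D col) : ℤ) : R) * t ^ k := by
  rcases row with i' | u <;> rcases col with i | s
  · have h1 := i.isLt
    have h2 := i'.isLt
    simp only [xR, Matrix.of_apply]
    rw [show codeI D (Sum.inl i') = i'.val from rfl, show codeI D (Sum.inl i) = i.val from rfl]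
    unfold xCoefN
    simp only [h1, h2, ↓reduceIte]
    by_cases h : i' = i
    · subst h
      simp [atK]
    · have : ¬ i'.val = i.val := fun h' => h (Fin.ext h')
      simp [h, this]
  · have h2 := i'.isLt
    have h3 : ¬ (D.rank + s.val < D.rank) := by omega
    simp only [xR, Matrix.of_apply]
    rw [show codeI D (Sum.inl i') = i'.val from rfl, show codeI D (Sum.inr s) = D.rank + s.val from rfl]
    unfold xCoefN
    simp only [h2, h3, ↓reduceIte, Nat.add_sub_cancel_left]
    by_cases hs : s = r
    · subst hs
      simp
    · have : ¬ s.val = r.val := fun h' => hs (Fin.ext h')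
      simp only [hs, this, ↓reduceIte]
      by_cases hn : s.val = D.negIdx.getD r.val 0
      · simp only [hn, ↓reduceIte]
        simp [atK]
      · simp only [hn, ↓reduceIte]; simp
  · have h1 := i.isLt
    have h3 : ¬ (D.rank + u.val < D.rank) := by omega
    simp only [xR, Matrix.of_apply]
    rw [show codeI D (Sum.inr u) = D.rank + u.val from rfl, show codeI D (Sum.inl i) = i.val from rfl]
    unfold xCoefN
    simp only [h1, h3, ↓reduceIte, Nat.add_sub_cancel_left]
    by_cases hu : u = r
    · subst hu
      simp [atK]
    · have : ¬ u.val = r.val := fun h' => hu (Fin.ext h')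
      simp [hu, this]
  · have h3 : ¬ (D.rank + u.val < D.rank) := by omega
    have h4 : ¬ (D.rank + s.val < D.rank) := by omega
    have e1 : (D.rank + u.val = D.rank + s.val) ↔ u = s := by
      constructor
      · intro h; exact Fin.ext (by omega)
      · intro h; rw [h]
    simp only [xR, Matrix.of_apply]
    rw [show codeI D (Sum.inr u) = D.rank + u.val from rfl, show codeI D (Sum.inr s) = D.rank + s.val from rfl]
    unfold xCoefN
    simp only [h3, h4, ↓reduceIte, Nat.add_sub_cancel_left, e1]
    by_cases hs : s = r
    · subst hs
      simp only [↓reduceIte]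
      by_cases hu : u = s
      · subst hu
        simp [atK]
      · have : ¬ u.val = s.val := fun h' => hu (Fin.ext h')
        simp [hu, this]
    · have hs' : ¬ s.val = r.val := fun h' => hs (Fin.ext h')
      simp only [hs, hs', ↓reduceIte]
      by_cases hn : s.val = D.negIdx.getD r.val 0
      · simp only [hn, ↓reduceIte]
        by_cases hu : u = s
        · subst hu
          simp [atK]
        · simp only [hu, ↓reduceIte]
          by_cases hur : u = r
          · subst hur
            simp [atK]
          · have : ¬ u.val = r.val := fun h' => hur (Fin.ext h')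
            simp [hur, this]
      · simp only [hn, ↓reduceIte]
        simp only [Int.cast_add, add_mul, Finset.sum_add_distrib]
        rw [sum_range4_chain t _ (hP r.val r.isLt s.val u.val)]
        congr 1
        by_cases hu : u = s
        · subst hu
          simp [atK]
        · simp [hu]
theorem xN_eq_sum (hP : PowOK D) {R : Type*} [CommRing R] {r : ℕ} (hr : r < D.nroots) (t : R)
    (row col : D.Idx) :
    xN D R r t row col =
      ∑ k ∈ Finset.range 4, ((xCoefN D r k (codeI D row) (codeI D col) : ℤ) : R) * t ^ k := by
  unfold xN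
  rw [dif_pos hr]
  exact xR_eq_sum hP ⟨r, hr⟩ t row col

/-! ### the power bound from the table -/

noncomputable def checkPow (D : ChevalleyDatum) : Bool :=
  forallLtF (fun r => allF (fun e => Nat.ble e.2.size 3) (row D r)) D.nroots

theorem powOK_of_check (V : Valid0 D) (h : checkPow D = true) : PowOK D := by
  simp only [checkPow, forallLtF_eq_true, allF_eq_true, Nat.ble_eq] at h
  intro r hr s u km hkm
  rw [chainCoeff_eq V hr] at hkm
  simp only [List.mem_map, List.mem_filter] at hkm
  obtain ⟨q, ⟨hq, _⟩, rfl⟩ := hkm
  have hmem := List.mem_zipIdx hq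
  simp only [Nat.sub_zero, zero_add] at hmem
  have hlen : q.2 < (D.chainEntry r s).length := hmem.2.1
  have hne : D.chainEntry r s ≠ [] := by
    intro h0; rw [h0] at hlen; simp at hlen
  obtain ⟨e, he, _, he2⟩ := chainEntry_mem D hne
  have := h r hr e he
  rw [← he2, Array.length_toList] at hlen
  show q.2 + 1 < 4
  omega

theorem checkPow_G2 : checkPow chevG2 = true := by decide +kernel
theorem checkPow_B2 : checkPow chevB2 = true := by decide +kernel
theorem checkPow_F4 : checkPow chevF4 = true := by decide +kernel

end Cfsg.Agent.Lib.Helper8.Chev
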