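import Cfsg.Agent.Lib.Helper8.ChevX5

set_option autoImplicit false

namespace Cfsg.Agent.Lib.Helper8.Chev

open Cfsg.Lie Matrix

/-! ### The commutator formula in the two commuting orientations -/

section

variable {D : ChevalleyDatum} {R : Type*} [CommRing R]

/-- the word `∏_k x_{kr+s}(M_{r,s,k} t^k u)` -/
def chainWord (D : ChevalleyDatum) (R : Type*) [CommRing R] (r s : ℕ) (t u : R) : List (ℕ × R) :=
  (D.chainEntry r s).zipIdx.map fun q => (q.1.1, ((q.1.2 : ℤ) : R) * t ^ (q.2 + 1) * u)

theorem conjWord_eq (r s : ℕ) (t u : R) : conjWord D R r s t u = (s, u) :: chainWord D R r s t u := rfl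

/-- orientation A: `x_s(u) x_r(t) = x_r(t) x_s(u) ∏_k x_{kr+s}(M_{r,s,k} (-t)^k u)` -/
theorem comm_A (J : ValidJ D) (V1 : Valid1 D) {r s : ℕ} (hr : r < D.nroots) (hs : s < D.nroots)
    (h1 : s ≠ r) (h2 : s ≠ D.neg r) (hc : CommChain D r s) (t u : R) :
    xN D R s u * xN D R r t = xN D R r t * xN D R s u * wN D R (chainWord D R r s (-t) u) := by
  have h := conj_formula J V1 hr hs h1 h2 hc (-t) u
  rw [neg_neg, conjWord_eq, wN_cons] at h
  simp only at h
  calc xN D R s u * xN D R r t
      = (xN D R r t * xN D R r (-t)) * (xN D R s u * xN D R r t) := by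
        rw [xN_mul_neg J.V V1 hr, Matrix.one_mul]
    _ = xN D R r t * (xN D R r (-t) * xN D R s u * xN D R r t) := by
        simp only [Matrix.mul_assoc]
    _ = xN D R r t * xN D R s u * wN D R (chainWord D R r s (-t) u) := by
        rw [h, Matrix.mul_assoc]

/-- the inverse of a word -/
def invW (w : List (ℕ × R)) : List (ℕ × R) := (w.map fun p => (p.1, -p.2)).reverse

theorem wN_invW_mul (V : Valid0 D) (V1 : Valid1 D) (w : List (ℕ × R)) (hw : ∀ p ∈ w, p.1 < D.nroots) :
    wN D R (invW w) * wN D R w = 1 := by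
  induction w with
  | nil => simp [invW]
  | cons p w ih =>
    have hw' : ∀ p' ∈ w, p'.1 < D.nroots := fun p' hp' => hw p' (List.mem_cons_of_mem _ hp')
    have : invW (p :: w) = invW w ++ [(p.1, -p.2)] := by simp [invW]
    rw [this, wN_append, wN_cons, wN_cons, wN_nil, Matrix.mul_one]
    calc wN D R (invW w) * xN D R p.1 (-p.2) * (xN D R p.1 p.2 * wN D R w)
        = wN D R (invW w) * (xN D R p.1 (-p.2) * xN D R p.1 p.2) * wN D R w := by
          simp only [Matrix.mul_assoc]
      _ = 1 := by rw [xN_neg_mul V V1 (hw p List.mem_cons_self), Matrix.mul_one, ih hw']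

theorem wN_mul_invW (V : Valid0 D) (V1 : Valid1 D) (w : List (ℕ × R)) (hw : ∀ p ∈ w, p.1 < D.nroots) :
    wN D R w * wN D R (invW w) = 1 := by
  induction w with
  | nil => simp [invW]
  | cons p w ih =>
    have hw' : ∀ p' ∈ w, p'.1 < D.nroots := fun p' hp' => hw p' (List.mem_cons_of_mem _ hp')
    have : invW (p :: w) = invW w ++ [(p.1, -p.2)] := by simp [invW]
    rw [this, wN_append, wN_cons, wN_cons, wN_nil, Matrix.mul_one]
    calc xN D R p.1 p.2 * wN D R w * (wN D R (invW w) * xN D R p.1 (-p.2))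
        = xN D R p.1 p.2 * (wN D R w * wN D R (invW w)) * xN D R p.1 (-p.2) := by
          simp only [Matrix.mul_assoc]
      _ = 1 := by rw [ih hw', Matrix.mul_one, xN_mul_neg V V1 (hw p List.mem_cons_self)]

theorem chainWord_mem_lt (V : Valid0 D) {r s : ℕ} (hr : r < D.nroots) (t u : R)
    {p : ℕ × R} (hp : p ∈ chainWord D R r s t u) : p.1 < D.nroots := by
  unfold chainWord at hp
  rw [List.mem_map] at hp
  obtain ⟨q, hq, rfl⟩ := hp
  have := List.mem_zipIdx hq
  have hget : (D.chainEntry r s)[q.2]? = some (q.1.1, q.1.2) := by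
    rw [List.getElem?_eq_getElem (by omega)]
    simp only [Nat.sub_zero] at this
    rw [← this.2.2]
  exact (chainEntry_tgt V hr hget).1

/-- orientation B: `x_s(u) x_r(t) = x_r(t) x_s(u) (∏_k x_{ks+r}(M_{s,r,k} (-u)^k t))⁻¹` -/
theorem comm_B (J : ValidJ D) (V1 : Valid1 D) {r s : ℕ} (hr : r < D.nroots) (hs : s < D.nroots)
    (h1 : s ≠ r) (h2 : s ≠ D.neg r) (hc : CommChain D s r) (t u : R) :
    xN D R s u * xN D R r t =
      xN D R r t * xN D R s u * wN D R (invW (chainWord D R s r (-u) t)) := by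
  have h2' : r ≠ D.neg s := by
    intro h; apply h2; rw [h, J.V.neg_neg hs]
  have hA := comm_A J V1 hs hr (Ne.symm h1) h2' hc u t
  have hinv := wN_mul_invW J.V V1 (chainWord D R s r (-u) t)
    (fun p hp => chainWord_mem_lt J.V hs _ _ hp)
  rw [hA, Matrix.mul_assoc, hinv, Matrix.mul_one]

/-- root elements whose roots have no sum commute -/
theorem xN_commute (J : ValidJ D) (V1 : Valid1 D) {r s : ℕ} (hr : r < D.nroots) (hs : s < D.nroots)
    (h1 : s ≠ r) (h2 : s ≠ D.neg r) (hnil : D.chainEntry r s = []) (t u : R) :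
    xN D R s u * xN D R r t = xN D R r t * xN D R s u := by
  have hc : CommChain D r s := by
    unfold CommChain; rw [hnil]; simp
  have := comm_A J V1 hr hs h1 h2 hc t u
  rw [this]
  unfold chainWord
  rw [hnil]
  simp

end

end Cfsg.Agent.Lib.Helper8.Chev
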