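import Cfsg.Agent.Lib.Helper8.ChevCAS6
import Cfsg.Agent.Lib.Helper8.ChevX6
import Mathlib.Algebra.Polynomial.Laurent

set_option autoImplicit false

namespace Cfsg.Agent.Lib.Helper8.Chev

open Cfsg.Lie Matrix

/-! ### Diagonal matrices and characters -/

section Diag

variable (D : ChevalleyDatum) {R : Type*} [CommRing R]

/-- the diagonal matrix with entries `1` on the Cartan part and `f s` at the root vector `e_s` -/
def diagC (f : ℕ → R) : Matrix D.Idx D.Idx R :=
  Matrix.diagonal (Sum.elim (fun _ => (1 : R)) (fun s : Fin D.nroots => f s))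

/-- `f` extended by `1` to the codes of the Cartan part -/
def extC (f : ℕ → R) (c : ℕ) : R := if c < D.nroots then f c else 1

variable {D}

theorem ext_Bv {M N : Matrix D.Idx D.Idx R}
    (h : ∀ c < D.nroots + D.rank, M *ᵥ Bv D R c = N *ᵥ Bv D R c) : M = N := by
  apply ext_mulVec
  · intro i hi
    have := h (D.nroots + i) (by omega)
    rwa [Bv_add] at this
  · intro u hu
    have := h u (by omega)
    rwa [Bv_of_lt hu] at this

theorem diagC_mulVec_Bv (f : ℕ → R) (c : ℕ) :
    diagC D f *ᵥ Bv D R c = extC D f c • Bv D R c := by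
  funext idx
  unfold diagC extC
  rw [Matrix.mulVec_diagonal, Pi.smul_apply, smul_eq_mul]
  by_cases hc : c < D.nroots
  · rw [if_pos hc, Bv_of_lt hc]
    rcases idx with j | s
    · simp
    · rw [E_apply_inr]
      simp only [Sum.elim_inr]
      split_ifs with h
      · rw [h]
      · simp
  · rw [if_neg hc]
    unfold Bv
    rw [if_neg hc]
    rcases idx with j | s
    · simp
    · simp

theorem diagC_mul_diagC (f g : ℕ → R) : diagC D f * diagC D g = diagC D (fun s => f s * g s) := by
  unfold diagC
  rw [Matrix.diagonal_mul_diagonal]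
  congr 1
  funext idx
  rcases idx with j | s <;> simp

theorem diagC_one : diagC D (fun _ => (1 : R)) = 1 := by
  unfold diagC
  rw [← Matrix.diagonal_one]
  congr 1
  funext idx
  rcases idx with j | s <;> simp

theorem diagC_congr {f g : ℕ → R} (h : ∀ s < D.nroots, f s = g s) : diagC D f = diagC D g := by
  unfold diagC
  congr 1
  funext idx
  rcases idx with j | s
  · rfl
  · exact h s.val s.isLt

/-- `f` is multiplicative along the columns of the root elements -/
def IsChar (D : ChevalleyDatum) {R : Type*} [CommRing R] (f : ℕ → R) : Prop :=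
  ∀ r < D.nroots, ∀ c,
    ∀ e ∈ xCol D.nroots D.rank (D.chainEntry r) (cor D r) (fun i => D.cartan i r) r c,
      extC D f e.1 = extC D f c * f r ^ e.2.2

theorem mulVec_list_sum_smul {α : Type*} (M : Matrix D.Idx D.Idx R) (l : List α) (g : α → R)
    (b : α → D.Idx → R) :
    M *ᵥ (l.map fun e => g e • b e).sum = (l.map fun e => g e • (M *ᵥ b e)).sum := by
  induction l with
  | nil => simp
  | cons a l ih =>
    simp only [List.map_cons, List.sum_cons, Matrix.mulVec_add, Matrix.mulVec_smul, ih]

theorem diagC_mul_xN (V : Valid0 D) {f : ℕ → R} (hf : IsChar D f) {r : ℕ} (hr : r < D.nroots)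
    (t : R) : diagC D f * xN D R r t = xN D R r (f r * t) * diagC D f := by
  apply ext_Bv
  intro c _
  rw [← Matrix.mulVec_mulVec, ← Matrix.mulVec_mulVec, diagC_mulVec_Bv, Matrix.mulVec_smul,
    xN_mulVec_Bv V hr, xN_mulVec_Bv V hr,
    mulVec_list_sum_smul (diagC D f) _ (fun e : ℕ × ℤ × ℕ => ((e.2.1 : ℤ) : R) * t ^ e.2.2)
      (fun e : ℕ × ℤ × ℕ => Bv D R e.1), List.smul_sum, List.map_map]
  congr 1
  apply List.map_congr_left
  intro e he
  simp only [Function.comp_apply]
  rw [diagC_mulVec_Bv, hf r hr c e he, smul_smul, smul_smul]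
  congr 1
  ring

/-- an additive weight on the roots -/
def IsWt (D : ChevalleyDatum) (a : ℕ → ℤ) : Prop :=
  (∀ r < D.nroots, a (D.neg r) = - a r) ∧
  ∀ r < D.nroots, ∀ c < D.nroots, ∀ q ∈ (D.chainEntry r c).zipIdx,
    a q.1.1 = a c + ((q.2 : ℤ) + 1) * a r

theorem IsWt.add {a b : ℕ → ℤ} (ha : IsWt D a) (hb : IsWt D b) : IsWt D (fun s => a s + b s) := by
  refine ⟨fun r hr => ?_, fun r hr c hc q hq => ?_⟩
  · simp only [ha.1 r hr, hb.1 r hr]; ring
  · simp only [ha.2 r hr c hc q hq, hb.2 r hr c hc q hq]; ring

theorem IsWt.smul {a : ℕ → ℤ} (ha : IsWt D a) (m : ℤ) : IsWt D (fun s => m * a s) := by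
  refine ⟨fun r hr => ?_, fun r hr c hc q hq => ?_⟩
  · simp only [ha.1 r hr]; ring
  · simp only [ha.2 r hr c hc q hq]; ring

theorem isWt_zero : IsWt D (fun _ => 0) := by
  refine ⟨fun r hr => ?_, fun r hr c hc q hq => ?_⟩ <;> simp

theorem isWt_sum {a : ℕ → ℕ → ℤ} (m : ℕ → ℤ) (k : ℕ) (ha : ∀ i < k, IsWt D (a i)) :
    IsWt D (fun s => ∑ i ∈ Finset.range k, m i * a i s) := by
  induction k with
  | zero => simpa using isWt_zero (D := D)
  | succ k ih =>
    have h1 := ih (fun i hi => ha i (by omega))
    have h2 := (ha k (by omega)).smul (m k)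
    have := h1.add h2
    simpa only [Finset.sum_range_succ] using this

theorem zpow_char {T : Rˣ} (x y : ℤ) (k : ℕ) :
    ((T ^ x : Rˣ) : R) * ((T ^ y : Rˣ) : R) ^ k = ((T ^ (x + k * y) : Rˣ) : R) := by
  rw [← Units.val_pow_eq_pow_val, ← Units.val_mul, _root_.zpow_add, _root_.zpow_mul', zpow_natCast]

theorem isChar_of_isWt (V : Valid0 D) {a : ℕ → ℤ} (ha : IsWt D a) (T : Rˣ) :
    IsChar D (fun s => ((T ^ a s : Rˣ) : R)) := by
  intro r hr c e he
  unfold xCol at he
  by_cases hc : c < D.nroots
  · rw [if_pos hc] at he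
    by_cases h1 : c = r
    · rw [if_pos h1, List.mem_singleton] at he
      subst he
      simp
    · rw [if_neg h1] at he
      by_cases h2 : c + r + 1 = D.nroots
      · rw [if_pos h2] at he
        have hcn : c = D.neg r := by rw [V.neg_eq r hr]; omega
        have hac : a c = - a r := by rw [hcn]; exact ha.1 r hr
        simp only [List.mem_cons, List.mem_append, List.mem_map, List.mem_range,
          List.not_mem_nil, or_false] at he
        rcases he with rfl | ⟨i, hi, rfl⟩ | rfl
        · simp
        · dsimp only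
          unfold extC
          rw [if_neg (by omega), if_pos hc, pow_one, ← Units.val_mul, ← _root_.zpow_add, hac,
            neg_add_cancel, zpow_zero, Units.val_one]
        · dsimp only
          unfold extC
          have e2 : -a r + ((2 : ℕ) : ℤ) * a r = a r := by push_cast; ring
          rw [if_pos hr, if_pos hc, zpow_char, hac, e2]
      · rw [if_neg h2, List.mem_cons] at he
        rcases he with rfl | he
        · simp
        · rw [List.mem_map] at he
          obtain ⟨q, hq, rfl⟩ := he
          have hmem := List.mem_zipIdx hq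
          have hget : (D.chainEntry r c)[q.2]? = some (q.1.1, q.1.2) := by
            rw [List.getElem?_eq_getElem (by omega)]
            simp only [Nat.sub_zero] at hmem
            rw [← hmem.2.2]
          have htgt := (chainEntry_tgt V hr hget).1
          dsimp only
          unfold extC
          rw [if_pos htgt, if_pos hc, zpow_char]
          beta_reduce
          rw [ha.2 r hr c hc q hq]
          push_cast
          rfl
  · rw [if_neg hc] at he
    by_cases hc2 : c < D.nroots + D.rank
    · rw [if_pos hc2] at he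
      simp only [List.mem_cons, List.not_mem_nil, or_false] at he
      rcases he with rfl | rfl
      · simp
      · dsimp only
        unfold extC
        rw [if_pos hr, if_neg hc, one_mul, pow_one]
    · rw [if_neg hc2] at he
      simp at he

end Diag

/-! ### Checking the image of a basis vector under a word -/

section Vec

/-- check that the word maps the basis vector of code `c` to the given list of terms -/
noncomputable def checkWordVec (cols : ℕ → ℕ → List (ℕ × ℤ × ℕ)) (n : ℕ) (w : List (ℕ × Mono)) (c : ℕ)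
    (ex : List Term) : Bool :=
  allF (fun l : ℕ × Mono => Nat.blt l.1 n) w &&
  isNilB (dropZ (normT (appendF (applyWN cols w [((c, 0, 0, 1) : Term)]) (negTF ex))))

theorem wordVec_of_check {D : ChevalleyDatum} (V : Valid0 D) {cols : ℕ → ℕ → List (ℕ × ℤ × ℕ)}
    (hcols : ColsOK D cols) {w : List (ℕ × Mono)} {c : ℕ} {ex : List Term}
    (h : checkWordVec cols D.nroots w c ex = true) {R : Type*} [CommRing R] (T U : Rˣ) :
    wN D R (evalWd T U w) *ᵥ Bv D R c = svT D T U ex := by
  simp only [checkWordVec, Bool.and_eq_true, allF_eq_true, Nat.blt_eq] at h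
  obtain ⟨hw, hnil⟩ := h
  have h0 : svT D T U (dropZ (normT (appendF (applyWN cols w [((c, 0, 0, 1) : Term)])
      (negTF ex)))) = 0 := by
    cases hL : dropZ (normT (appendF (applyWN cols w [((c, 0, 0, 1) : Term)]) (negTF ex))) with
    | nil => rfl
    | cons a l => rw [hL] at hnil; simp [isNilB] at hnil
  rw [svT_dropZ, svT_normT, appendF_eq, svT_append, svT_negTF, svT_applyWN V hcols w hw] at h0
  have hB : svT D T U [((c, 0, 0, 1) : Term)] = Bv D R c := by
    simp [svT, chi_zero]
  rw [hB] at h0
  exact eq_of_sub_eq_zero (by rw [← h0]; abel)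

/-- forcing the evaluation of a natural number before it is used -/
noncomputable def withNat {α : Type*} (n : ℕ) (f : ℕ → α) : α :=
  @Nat.rec (fun _ => α) (f 0) (fun k _ => f (k + 1)) n

theorem withNat_eq {α : Type*} (n : ℕ) (f : ℕ → α) : withNat n f = f n := by
  cases n <;> rfl

/-- forcing the evaluation of an integer before it is used -/
noncomputable def withInt {α : Type*} (z : ℤ) (f : ℤ → α) : α :=
  @Int.rec (fun _ => α) (fun n => withNat n fun m => f (Int.ofNat m))
    (fun n => withNat n fun m => f (Int.negSucc m)) z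

theorem withInt_eq {α : Type*} (z : ℤ) (f : ℤ → α) : withInt z f = f z := by
  cases z <;> simp [withInt, withNat_eq]

/-- a word with constant arguments -/
def constW (w : List (ℕ × ℤ)) : List (ℕ × Mono) := w.map fun p => (p.1, ((0, 0, p.2) : Mono))

/-- a word with integer arguments, in a ring -/
def castW (R : Type*) [CommRing R] (w : List (ℕ × ℤ)) : List (ℕ × R) :=
  w.map fun p => (p.1, ((p.2 : ℤ) : R))

theorem evalWd_constW {R : Type*} [CommRing R] (T U : Rˣ) (w : List (ℕ × ℤ)) :
    evalWd T U (constW w) = castW R w := by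
  unfold evalWd constW castW
  rw [List.map_map]
  apply List.map_congr_left
  intro p _
  simp [evalM, chi]

end Vec

/-! ### Conjugation of root elements by automorphisms -/

section Conj

variable {D : ChevalleyDatum}

/-- over a field of characteristic zero, a bracket preserving invertible matrix mapping `e_s` to
`η e_{s'}` conjugates `x_s(u)` to `x_{s'}(η u)` -/
theorem conj_xN_char0 {K : Type*} [Field K] [CharZero K] (J : ValidJ D) (V1 : Valid1 D)
    {M Mi : Matrix D.Idx D.Idx K} (hM : PresBr D K M) (h1 : Mi * M = 1) (h2 : M * Mi = 1)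
    {s s' : ℕ} (hs : s < D.nroots) (hs' : s' < D.nroots) (η : K)
    (hv : M *ᵥ E D K s = η • E D K s') (u : K) :
    M * xN D K s u * Mi = xN D K s' (η * u) := by
  have V := J.V
  have hnil : IsNilpotent (u • adM (E D K s)) :=
    ⟨4, by rw [smul_pow, adM_E_pow_four V V1 hs, smul_zero]⟩
  have hMad : ∀ y : D.Idx → K, M * adM y = adM (M *ᵥ y) * M := by
    intro y
    apply mat_ext_mulVec
    intro z
    rw [← Matrix.mulVec_mulVec, ← Matrix.mulVec_mulVec, adM_mulVec, adM_mulVec, hM]
  rw [xN_eq_exp V V1 hs' (η * u), xN_eq_exp V V1 hs u, exp_conj h1 h2 hnil, Matrix.mul_smul,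
    Matrix.smul_mul, hMad, Matrix.mul_assoc, h2, Matrix.mul_one, hv, adM_smul, smul_smul,
    mul_comm u η]

theorem evalW_castW {σ : Type} {S : Type*} [CommRing S] (v : σ → S) (W : List (ℕ × ℤ)) :
    evalW v (castW (MvPolynomial σ ℤ) W) = castW S W := by
  unfold evalW mapW castW
  rw [List.map_map]
  apply List.map_congr_left
  intro p _
  simp only [Function.comp_apply]
  rw [map_intCast]

theorem evalW_append {σ : Type} {S : Type*} [CommRing S] (v : σ → S)
    (W W' : List (ℕ × MvPolynomial σ ℤ)) : evalW v (W ++ W') = evalW v W ++ evalW v W' := by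
  simp [evalW, mapW]

theorem evalW_cons {σ : Type} {S : Type*} [CommRing S] (v : σ → S)
    (p : ℕ × MvPolynomial σ ℤ) (W : List (ℕ × MvPolynomial σ ℤ)) :
    evalW v (p :: W) = (p.1, MvPolynomial.eval₂Hom (Int.castRingHom S) v p.2) :: evalW v W := by
  simp [evalW, mapW]

theorem evalW_nil {σ : Type} {S : Type*} [CommRing S] (v : σ → S) :
    evalW v ([] : List (ℕ × MvPolynomial σ ℤ)) = [] := rfl

open MvPolynomial in
/-- a word with integer arguments mapping `e_s` to `η e_{s'}` conjugates `x_s(t)` to
`x_{s'}(η t)`, over every commutative ring -/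
theorem word_conj_xN (J : ValidJ D) (V1 : Valid1 D) (W : List (ℕ × ℤ))
    (hW : ∀ p ∈ W, p.1 < D.nroots) {s s' : ℕ} (hs : s < D.nroots) (hs' : s' < D.nroots) (η : ℤ)
    (h : ∀ (K : Type) [Field K] [CharZero K],
      wN D K (castW K W) *ᵥ E D K s = ((η : ℤ) : K) • E D K s')
    {R : Type*} [CommRing R] (t : R) :
    wN D R (castW R W) * xN D R s t = xN D R s' ((η : R) * t) * wN D R (castW R W) := by
  let P := MvPolynomial (Fin 1) ℤ
  let W1 : List (ℕ × P) := castW P W ++ [(s, X 0)]
  let W2 : List (ℕ × P) := (s', ((η : ℤ) : P) * X 0) :: castW P W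
  have e1 : ∀ {S : Type} [CommRing S] (v : Fin 1 → S), evalW v W1 = castW S W ++ [(s, v 0)] := by
    intro S _ v
    rw [evalW_append, evalW_castW, evalW_cons, evalW_nil]
    simp
  have e2 : ∀ {S : Type} [CommRing S] (v : Fin 1 → S),
      evalW v W2 = (s', ((η : ℤ) : S) * v 0) :: castW S W := by
    intro S _ v
    rw [evalW_cons, evalW_castW]
    simp only [map_mul, map_intCast, MvPolynomial.eval₂Hom_X']
  have e1' : evalW (fun _ : Fin 1 => t) W1 = castW R W ++ [(s, t)] := by
    rw [evalW_append, evalW_castW, evalW_cons, evalW_nil]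
    simp
  have e2' : evalW (fun _ : Fin 1 => t) W2 = (s', ((η : ℤ) : R) * t) :: castW R W := by
    rw [evalW_cons, evalW_castW]
    simp only [map_mul, map_intCast, MvPolynomial.eval₂Hom_X']
  have key := wN_transfer (D := D) W1 W2 (by
    intro K _ _ v
    rw [e1, e2, wN_append, wN_cons, wN_cons, wN_nil, Matrix.mul_one]
    have hWK : ∀ p ∈ castW K W, p.1 < D.nroots := by
      intro p hp
      unfold castW at hp
      rw [List.mem_map] at hp
      obtain ⟨p', hp', rfl⟩ := hp
      exact hW p' hp'
    have hc := conj_xN_char0 J V1 (presBr_wN J V1 (castW K W))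
      (wN_invW_mul J.V V1 _ hWK) (wN_mul_invW J.V V1 _ hWK) hs hs' ((η : ℤ) : K) (h K) (v 0)
    simp only at hc ⊢
    rw [← hc]
    simp only [Matrix.mul_assoc]
    rw [wN_invW_mul J.V V1 _ hWK, Matrix.mul_one]) (fun _ => t)
  rw [e1', e2', wN_append, wN_cons, wN_cons, wN_nil, Matrix.mul_one] at key
  exact key

end Conj

/-! ### Transfer of identities with one invertible parameter -/

section Laurent

variable {D : ChevalleyDatum}

theorem wN_transfer_laurent (W1 W2 : List (ℕ × LaurentPolynomial ℤ))
    (h : ∀ (K : Type) [Field K] [CharZero K] (c : Kˣ),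
      wN D K (mapW (LaurentPolynomial.eval₂ (Int.castRingHom K) c) W1) =
        wN D K (mapW (LaurentPolynomial.eval₂ (Int.castRingHom K) c) W2))
    {R : Type*} [CommRing R] (c : Rˣ) :
    wN D R (mapW (LaurentPolynomial.eval₂ (Int.castRingHom R) c) W1) =
      wN D R (mapW (LaurentPolynomial.eval₂ (Int.castRingHom R) c) W2) := by
  let P := Polynomial ℤ
  let K := FractionRing P
  have : CharZero K := IsFractionRing.charZero_of_isFractionRing P (K := K)
  have hinj : Function.Injective (algebraMap P K) := IsFractionRing.injective P K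
  have hX : algebraMap P K Polynomial.X ≠ 0 := by
    rw [Ne, ← map_zero (algebraMap P K)]
    intro h0
    exact Polynomial.X_ne_zero (hinj h0)
  let c0 : Kˣ := Units.mk0 _ hX
  have hιP : ∀ p : P, LaurentPolynomial.eval₂ (Int.castRingHom K) c0 (Polynomial.toLaurent p) =
      algebraMap P K p := by
    intro p
    rw [LaurentPolynomial.eval₂_toLaurent]
    have : Polynomial.eval₂RingHom (Int.castRingHom K) (c0 : K) = algebraMap P K := by
      apply Polynomial.ringHom_ext'
      · exact RingHom.ext_int _ _
      · simp [c0]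
    exact RingHom.congr_fun this p
  have hιinj : Function.Injective (LaurentPolynomial.eval₂ (Int.castRingHom K) c0) := by
    rw [injective_iff_map_eq_zero]
    intro f hf
    obtain ⟨n, f', hf'⟩ := LaurentPolynomial.exists_T_pow f
    have h1 : algebraMap P K f' = 0 := by rw [← hιP, hf', map_mul, hf, zero_mul]
    have h2 : f' = 0 := by
      rw [← map_zero (algebraMap P K)] at h1
      exact hinj h1
    rw [h2, map_zero] at hf'
    exact ((LaurentPolynomial.isUnit_T n).mul_left_eq_zero).mp hf'.symm
  have h1 := h K c0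
  rw [← map_wN, ← map_wN] at h1
  have h2 : wN D (LaurentPolynomial ℤ) W1 = wN D (LaurentPolynomial ℤ) W2 := by
    refine Matrix.ext fun i j => ?_
    have := congrFun (congrFun h1 i) j
    simp only [Matrix.map_apply] at this
    exact hιinj this
  rw [← map_wN, ← map_wN, h2]

/-- the Laurent polynomial word of a word with monomial arguments, with `T` replaced by `T^m` -/
noncomputable def lauW (m : ℤ) (w : List (ℕ × Mono)) : List (ℕ × LaurentPolynomial ℤ) :=
  w.map fun l => (l.1, LaurentPolynomial.C l.2.2.2 * LaurentPolynomial.T (l.2.1 * m))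

theorem mapW_lauW {R : Type*} [CommRing R] (c : Rˣ) (m : ℤ) (w : List (ℕ × Mono)) :
    mapW (LaurentPolynomial.eval₂ (Int.castRingHom R) c) (lauW m w) = evalWd (c ^ m) 1 w := by
  unfold mapW lauW evalWd
  rw [List.map_map]
  apply List.map_congr_left
  intro l _
  simp only [Function.comp_apply]
  congr 1
  rw [LaurentPolynomial.eval₂_C_mul_T]
  unfold evalM chi
  rw [_root_.zpow_mul', _root_.one_zpow, mul_one, eq_intCast]

end Laurent

end Cfsg.Agent.Lib.Helper8.Chev
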