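import Cfsg.Agent.Lib.Helper8.ChevEx1
import Cfsg.Agent.Lib.Helper8.ChevH1

set_option autoImplicit false

namespace Cfsg.Agent.Lib.Helper8.Chev

open Cfsg.Lie Matrix

/-- data for an exceptional graph automorphism: the characteristic, the bijection `r ↦ r̄` on roots,
the long roots, the diagram symmetry on fundamental indices, the long fundamental roots. -/
structure ExData where
  p : ℕ
  bar : Array ℕ
  lg : Array Bool
  rho : Array ℕ
  lgS : Array Bool

variable (D : ChevalleyDatum) (X : ExData)

/-- the swap on codes -/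
def swN (c : ℕ) : ℕ :=
  if c < D.rank then X.rho.getD c 0 else D.rank + X.bar.getD (c - D.rank) 0

/-- the "long" coordinates, on codes -/
def isQN (c : ℕ) : Bool :=
  if c < D.rank then X.lgS.getD c false else X.lg.getD (c - D.rank) false

/-- exponent attached to the root `r` -/
def lamN (r : ℕ) : ℕ := if X.lg.getD r false then 1 else X.p

/-- the matrix `S` (long coordinates mapped to the short ones, short coordinates killed) -/
def exS (R : Type*) [CommRing R] : Matrix D.Idx D.Idx R :=
  Matrix.of fun row col =>
    if isQN D X (codeI D col) = true ∧ swN D X (codeI D col) = codeI D row then 1 else 0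

/-- validity of the swap -/
structure SwapOK : Prop where
  lt : ∀ c < D.rank + D.nroots, swN D X c < D.rank + D.nroots
  inv : ∀ c < D.rank + D.nroots, swN D X (swN D X c) = c
  flip : ∀ c < D.rank + D.nroots, isQN D X (swN D X c) = !isQN D X c
  bar_lt : ∀ r < D.nroots, X.bar.getD r 0 < D.nroots

noncomputable def checkSwap : Bool :=
  forallLtF (fun c => withNat (swN D X c) fun sc =>
    Nat.blt sc (D.rank + D.nroots) && Nat.beq (swN D X sc) c &&
      (isQN D X sc == !isQN D X c)) (D.rank + D.nroots) &&
  forallLtF (fun r => Nat.blt (X.bar.getD r 0) D.nroots) D.nroots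

variable {D X}

theorem swapOK_of_check (h : checkSwap D X = true) : SwapOK D X := by
  simp only [checkSwap, Bool.and_eq_true, forallLtF_eq_true, withNat_eq, Nat.blt_eq, Nat.beq_eq,
    beq_iff_eq] at h
  exact ⟨fun c hc => (h.1 c hc).1.1, fun c hc => (h.1 c hc).1.2, fun c hc => (h.1 c hc).2, h.2⟩

theorem exS_mul (hS : SwapOK D X) {R : Type*} [CommRing R] (M : Matrix D.Idx D.Idx R)
    (row col : D.Idx) :
    (exS D X R * M) row col =
      if isQN D X (codeI D row) = false then
        M (decI D (swN D X (codeI D row)) (hS.lt _ (codeI_lt D row))) col else 0 := by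
  rw [Matrix.mul_apply]
  by_cases hq : isQN D X (codeI D row) = false
  · rw [if_pos hq]
    rw [Finset.sum_eq_single (decI D (swN D X (codeI D row)) (hS.lt _ (codeI_lt D row)))]
    · simp only [exS, Matrix.of_apply, codeI_decI]
      rw [if_pos, one_mul]
      refine ⟨?_, hS.inv _ (codeI_lt D row)⟩
      rw [hS.flip _ (codeI_lt D row), hq]; rfl
    · intro j _ hj
      simp only [exS, Matrix.of_apply]
      rw [if_neg, zero_mul]
      rintro ⟨_, h2⟩
      apply hj
      apply codeI_injective
      rw [codeI_decI, ← h2, hS.inv _ (codeI_lt D j)]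
    · intro h; exact absurd (Finset.mem_univ _) h
  · rw [if_neg hq]
    apply Finset.sum_eq_zero
    intro j _
    simp only [exS, Matrix.of_apply]
    rw [if_neg, zero_mul]
    rintro ⟨h1, h2⟩
    apply hq
    rw [← h2, hS.flip _ (codeI_lt D j), h1]; rfl

theorem mul_exS (hS : SwapOK D X) {R : Type*} [CommRing R] (M : Matrix D.Idx D.Idx R)
    (row col : D.Idx) :
    (M * exS D X R) row col =
      if isQN D X (codeI D col) = true then
        M row (decI D (swN D X (codeI D col)) (hS.lt _ (codeI_lt D col))) else 0 := by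
  rw [Matrix.mul_apply]
  by_cases hq : isQN D X (codeI D col) = true
  · rw [if_pos hq]
    rw [Finset.sum_eq_single (decI D (swN D X (codeI D col)) (hS.lt _ (codeI_lt D col)))]
    · simp only [exS, Matrix.of_apply, codeI_decI]
      simp [hq]
    · intro j _ hj
      simp only [exS, Matrix.of_apply]
      rw [if_neg, mul_zero]
      rintro ⟨_, h2⟩
      apply hj
      apply codeI_injective
      rw [codeI_decI, h2]
    · intro h; exact absurd (Finset.mem_univ _) h
  · rw [if_neg hq]
    apply Finset.sum_eq_zero
    intro j _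
    simp only [exS, Matrix.of_apply]
    rw [if_neg, mul_zero]
    rintro ⟨h1, _⟩
    exact hq h1

/-! ### the coefficient check -/

variable (D X)

/-- coefficient of `t^k` in the entry of `S * x_r(t)` -/
def coefA (r k rc cc : ℕ) : ℤ :=
  if isQN D X rc = false then xCoefN D r k (swN D X rc) cc else 0

/-- coefficient of `u^k` in the entry of `x_{r̄}(u) * S` -/
def coefB (r k rc cc : ℕ) : ℤ :=
  if isQN D X cc = true then xCoefN D (X.bar.getD r 0) k rc (swN D X cc) else 0

def zmodB (p : ℕ) (z : ℤ) : Bool := decide (z % (p : ℤ) = 0)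

noncomputable def checkExEntry (r rc cc : ℕ) : Bool :=
  if X.lg.getD r false then
    forallLtF (fun k => zmodB X.p (coefA D X r k rc cc - coefB D X r k rc cc)) 4
  else
    zmodB X.p (coefA D X r 0 rc cc - coefB D X r 0 rc cc) &&
    zmodB X.p (coefA D X r X.p rc cc - coefB D X r 1 rc cc) &&
    forallLtF (fun k => Nat.beq k 0 || Nat.beq k X.p || zmodB X.p (coefA D X r k rc cc)) 4 &&
    zmodB X.p (coefB D X r 2 rc cc) && zmodB X.p (coefB D X r 3 rc cc)

noncomputable def checkExRoot (r : ℕ) : Bool :=
  forallLtF (fun rc => forallLtF (fun cc =>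
    (isQN D X rc && !isQN D X cc) || checkExEntry D X r rc cc) (D.rank + D.nroots))
    (D.rank + D.nroots)

noncomputable def checkEx : Bool := forallLtF (fun r => checkExRoot D X r) D.nroots

variable {D X}

theorem cast_eq_zero_of_zmodB {K : Type*} [Field K] {p : ℕ} [CharP K p] {z : ℤ}
    (h : zmodB p z = true) : ((z : ℤ) : K) = 0 := by
  simp only [zmodB, decide_eq_true_eq] at h
  exact (CharP.intCast_eq_zero_iff K p z).2 (Int.dvd_of_emod_eq_zero h)

theorem cast_eq_of_zmodB {K : Type*} [Field K] {p : ℕ} [CharP K p] {a b : ℤ}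
    (h : zmodB p (a - b) = true) : ((a : ℤ) : K) = ((b : ℤ) : K) := by
  have := cast_eq_zero_of_zmodB (K := K) h
  rw [Int.cast_sub, sub_eq_zero] at this
  exact this

/-- the intertwining relation `S x_r(t) = x_{r̄}(t^λ) S` -/
theorem exS_rel (hP : PowOK D) (hS : SwapOK D X) {r : ℕ} (hr : r < D.nroots)
    (hc : checkExRoot D X r = true) (hp : X.p = 2 ∨ X.p = 3)
    {K : Type*} [Field K] [CharP K X.p] (t : K) :
    exS D X K * xN D K r t = xN D K (X.bar.getD r 0) (t ^ lamN X r) * exS D X K := by
  ext row col
  rw [exS_mul hS, mul_exS hS, xN_eq_sum hP hr, xN_eq_sum hP (hS.bar_lt r hr), codeI_decI,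
    codeI_decI]
  simp only [checkExRoot, forallLtF_eq_true, Bool.or_eq_true, Bool.and_eq_true,
    Bool.not_eq_true'] at hc
  have hA : (if isQN D X (codeI D row) = false then
      ∑ k ∈ Finset.range 4, ((xCoefN D r k (swN D X (codeI D row)) (codeI D col) : ℤ) : K) * t ^ k
      else 0) = ∑ k ∈ Finset.range 4, ((coefA D X r k (codeI D row) (codeI D col) : ℤ) : K) * t ^ k := by
    unfold coefA
    split_ifs <;> simp
  have hB : (if isQN D X (codeI D col) = true then
      ∑ k ∈ Finset.range 4, ((xCoefN D (X.bar.getD r 0) k (codeI D row) (swN D X (codeI D col)) : ℤ) : K) *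
        (t ^ lamN X r) ^ k
      else 0) = ∑ k ∈ Finset.range 4, ((coefB D X r k (codeI D row) (codeI D col) : ℤ) : K) *
        (t ^ lamN X r) ^ k := by
    unfold coefB
    split_ifs <;> simp
  rw [hA, hB]
  rcases hc _ (codeI_lt D row) _ (codeI_lt D col) with ⟨h1, h2⟩ | hc
  · have e1 : ∀ k, coefA D X r k (codeI D row) (codeI D col) = 0 := by
      intro k; unfold coefA; rw [if_neg (by rw [h1]; simp)]
    have e2 : ∀ k, coefB D X r k (codeI D row) (codeI D col) = 0 := by
      intro k; unfold coefB; rw [if_neg (by rw [h2]; simp)]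
    simp [e1, e2]
  · unfold checkExEntry at hc
    by_cases hl : X.lg.getD r false = true
    · rw [if_pos hl, forallLtF_eq_true] at hc
      have hlam : lamN X r = 1 := by unfold lamN; rw [if_pos hl]
      rw [hlam]
      apply Finset.sum_congr rfl
      intro k hk
      rw [pow_one, cast_eq_of_zmodB (K := K) (hc k (Finset.mem_range.1 hk))]
    · rw [if_neg hl] at hc
      simp only [Bool.and_eq_true, forallLtF_eq_true, Bool.or_eq_true, Nat.beq_eq] at hc
      obtain ⟨⟨⟨⟨h0, h1⟩, h2⟩, h3⟩, h4⟩ := hc
      have hlam : lamN X r = X.p := by unfold lamN; rw [if_neg hl]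
      rw [hlam]
      have b2 := cast_eq_zero_of_zmodB (K := K) h3
      have b3 := cast_eq_zero_of_zmodB (K := K) h4
      have a0 := cast_eq_of_zmodB (K := K) h0
      have a1 := cast_eq_of_zmodB (K := K) h1
      simp only [Finset.sum_range_succ, Finset.sum_range_zero, zero_add, pow_zero, mul_one, pow_one,
        b2, b3, zero_mul, add_zero]
      have cz : ∀ k < 4, k ≠ 0 → k ≠ X.p →
          ((coefA D X r k (codeI D row) (codeI D col) : ℤ) : K) = 0 := by
        intro k hk hk0 hkp
        rcases h2 k hk with (h | h) | h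
        · exact absurd h hk0
        · exact absurd h hkp
        · exact cast_eq_zero_of_zmodB (K := K) h
      rcases hp with hp | hp
      · rw [cz 1 (by norm_num) (by norm_num) (by omega), cz 3 (by norm_num) (by norm_num) (by omega),
          a0, ← a1, hp]
        ring
      · rw [cz 1 (by norm_num) (by norm_num) (by omega), cz 2 (by norm_num) (by norm_num) (by omega),
          a0, ← a1, hp]
        ring

end Cfsg.Agent.Lib.Helper8.Chev
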