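import Cfsg.Agent.Lib.Helper8.ChevEx2

set_option autoImplicit false
set_option maxRecDepth 1000000

namespace Cfsg.Agent.Lib.Helper8.Chev

open Cfsg.Lie Matrix

def exDataF4 : ExData where
  p := 2
  bar := #[3, 7, 8, 0, 9, 11, 18, 1, 2, 4, 15, 5, 16, 21, 23, 10, 12, 19, 6, 17, 22, 13, 20, 14, 33, 27, 34, 25, 30, 41, 28, 35, 37, 24, 26, 31, 42, 32, 43, 45, 46, 29, 36, 38, 47, 39, 40, 44]
  lg := #[true, true, true, false, true, true, true, false, false, false, false, false, false, false, false, true, true, true, false, false, false, true, true, true, true, true, true, false, false, false, true, true, true, false, false, false, false, false, false, false, false, true, true, true, false, true, true, true]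
  rho := #[3, 2, 1, 0]
  lgS := #[false, false, true, true]

theorem checkSwap_F4 : checkSwap chevF4 exDataF4 = true := by decide +kernel

/-- the roots `lo ≤ r < lo + len` pass the check -/
noncomputable def checkExRange (D : ChevalleyDatum) (X : ExData) (lo len : ℕ) : Bool :=
  forallLtF (fun i => checkExRoot D X (lo + i)) len

theorem checkExRoot_of_range {D : ChevalleyDatum} {X : ExData} {lo len : ℕ}
    (h : checkExRange D X lo len = true) {r : ℕ} (h1 : lo ≤ r) (h2 : r < lo + len) :
    checkExRoot D X r = true := by
  simp only [checkExRange, forallLtF_eq_true] at h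
  have := h (r - lo) (by omega)
  rwa [show lo + (r - lo) = r by omega] at this

end Cfsg.Agent.Lib.Helper8.Chev
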