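import Cfsg.Agent.Lib.Helper3.BNPair5

set_option autoImplicit false

namespace Cfsg.Agent.Lib.Helper8.Chev

open Cfsg.Agent.Lib.Helper3 Cfsg.Agent.Lib.Helper3.BN

variable {G : Type*} [Group G] (P : Cfsg.BNPair G)

/-- A normal subgroup of a group with an irreducible (B,N)-pair whose `B` has trivial core is trivial
or supplements `B`. -/
theorem normal_eq_bot_or_sup_eq_top (hirr : P.Irreducible) (hcore : P.B.normalCore = ⊥)
    (H : Subgroup G) [H.Normal] : H = ⊥ ∨ H ⊔ P.B = ⊤ := by
  set M := H ⊔ P.B with hM
  have hBM : P.B ≤ M := le_sup_right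
  have hHM : H ≤ M := le_sup_left
  have hpar := eq_parabolic_gens P M hBM
  have hJ := gens_subset P M
  by_cases hJe : (gens P M).Nonempty
  · by_cases hJc : (P.S \ gens P M).Nonempty
    · exfalso
      obtain ⟨s, hs, s', hs', hnot⟩ := hirr (gens P M) hJ hJe hJc
      apply hnot
      apply comm_mem_B_of_normal P H hs.1 hs'.1 hs.2
      intro h
      exact hs'.2 ⟨hs'.1, h⟩
    · right
      have hJS : gens P M = P.S := by
        apply Set.Subset.antisymm hJ
        intro x hx
        by_contra hx'
        exact hJc ⟨x, hx, hx'⟩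
      rw [hpar, hJS, parabolic_S]
  · left
    have hJ0 : gens P M = ∅ := Set.not_nonempty_iff_eq_empty.1 hJe
    rw [hJ0, parabolic_empty] at hpar
    have hHB : H ≤ P.B := by rw [← hpar]; exact hHM
    have : H ≤ P.B.normalCore := Subgroup.normal_le_normalCore.2 hHB
    rw [hcore] at this
    exact le_bot_iff.1 this

end Cfsg.Agent.Lib.Helper8.Chev
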