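import Cfsg.Agent.Lib.Helper8.ChevEx2
import Cfsg.Agent.Lib.Helper8.ChevEx4
import Cfsg.Agent.Lib.Helper8.ChevSimp2

set_option autoImplicit false

namespace Cfsg.Agent.Lib.Helper8.Chev

open Cfsg.Lie Matrix

variable {D : ChevalleyDatum} {K : Type*} [Field K]

/-- the matrix of an element of the Chevalley group -/
def gmat (g : ↥(D.group K)) : Matrix D.Idx D.Idx K := ((g : GL D.Idx K) : Matrix D.Idx D.Idx K)

@[simp] theorem gmat_one : gmat (1 : ↥(D.group K)) = 1 := rfl
@[simp] theorem gmat_mul (g h : ↥(D.group K)) : gmat (g * h) = gmat g * gmat h := rfl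
theorem gmat_inv_mul (g : ↥(D.group K)) : gmat g⁻¹ * gmat g = 1 := by
  rw [← gmat_mul, inv_mul_cancel, gmat_one]
theorem gmat_mul_inv (g : ↥(D.group K)) : gmat g * gmat g⁻¹ = 1 := by
  rw [← gmat_mul, mul_inv_cancel, gmat_one]
theorem gmat_injective : Function.Injective (gmat (D := D) (K := K)) := by
  intro g h e
  exact Subtype.ext (Units.ext e)

/-- the graph of the intertwining relation -/
def exGamma (S : Matrix D.Idx D.Idx K) : Subgroup (↥(D.group K) × ↥(D.group K)) where
  carrier := {p | S * gmat p.1 = gmat p.2 * S}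
  one_mem' := by simp
  mul_mem' := by
    intro a b ha hb
    simp only [Set.mem_ofPred_eq, Prod.fst_mul, Prod.snd_mul, gmat_mul] at ha hb ⊢
    rw [← Matrix.mul_assoc, ha, Matrix.mul_assoc, hb, Matrix.mul_assoc]
  inv_mem' := by
    intro a ha
    simp only [Set.mem_ofPred_eq, Prod.fst_inv, Prod.snd_inv] at ha ⊢
    calc S * gmat a.1⁻¹ = gmat a.2⁻¹ * (gmat a.2 * S) * gmat a.1⁻¹ := by
          rw [← Matrix.mul_assoc, gmat_inv_mul, Matrix.one_mul]
      _ = gmat a.2⁻¹ * (S * gmat a.1) * gmat a.1⁻¹ := by rw [ha]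
      _ = gmat a.2⁻¹ * S := by
          rw [Matrix.mul_assoc, Matrix.mul_assoc, gmat_mul_inv, Matrix.mul_one]

theorem mem_exGamma {S : Matrix D.Idx D.Idx K} {p : ↥(D.group K) × ↥(D.group K)} :
    p ∈ exGamma S ↔ S * gmat p.1 = gmat p.2 * S := Iff.rfl

/-- a relation with bijective projections is the graph of an automorphism -/
theorem exists_aut_of_rel (S : Matrix D.Idx D.Idx K)
    (h1 : ∀ g : ↥(D.group K), ∃ g' : ↥(D.group K), S * gmat g = gmat g' * S)
    (h2 : ∀ g' : ↥(D.group K), ∃ g : ↥(D.group K), S * gmat g = gmat g' * S)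
    (hk1 : ∀ g : ↥(D.group K), S * gmat g = S → g = 1)
    (hk2 : ∀ g' : ↥(D.group K), S = gmat g' * S → g' = 1) :
    ∃ α : ↥(D.group K) ≃* ↥(D.group K), ∀ g g', S * gmat g = gmat g' * S ↔ α g = g' := by
  set Γ := exGamma S with hΓ
  let p1 : ↥Γ →* ↥(D.group K) := (MonoidHom.fst _ _).comp Γ.subtype
  let p2 : ↥Γ →* ↥(D.group K) := (MonoidHom.snd _ _).comp Γ.subtype
  have b1 : Function.Bijective p1 := by
    constructor
    · rw [injective_iff_map_eq_one]
      rintro ⟨⟨a, b⟩, hab⟩ ha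
      change a = 1 at ha
      subst ha
      have hab' : S * gmat (1 : ↥(D.group K)) = gmat b * S := hab
      rw [gmat_one, Matrix.mul_one] at hab'
      have := hk2 b hab'
      subst this
      rfl
    · intro g
      obtain ⟨g', hg⟩ := h1 g
      exact ⟨⟨(g, g'), hg⟩, rfl⟩
  have b2 : Function.Bijective p2 := by
    constructor
    · rw [injective_iff_map_eq_one]
      rintro ⟨⟨a, b⟩, hab⟩ hb
      change b = 1 at hb
      subst hb
      have hab' : S * gmat a = gmat (1 : ↥(D.group K)) * S := hab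
      rw [gmat_one, Matrix.one_mul] at hab'
      have := hk1 a hab'
      subst this
      rfl
    · intro g'
      obtain ⟨g, hg⟩ := h2 g'
      exact ⟨⟨(g, g'), hg⟩, rfl⟩
  let e1 := MulEquiv.ofBijective p1 b1
  let e2 := MulEquiv.ofBijective p2 b2
  refine ⟨e1.symm.trans e2, ?_⟩
  intro g g'
  constructor
  · intro h
    have : e1 ⟨(g, g'), h⟩ = g := rfl
    rw [MulEquiv.trans_apply, ← this, MulEquiv.symm_apply_apply]
    rfl
  · intro h
    obtain ⟨⟨⟨a, b⟩, hab⟩, hx⟩ := e1.surjective g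
    have ha : a = g := hx
    subst ha
    have : (e1.symm.trans e2) a = b := by
      rw [MulEquiv.trans_apply, ← hx, MulEquiv.symm_apply_apply]
      rfl
    rw [this] at h
    subst h
    exact hab

end Cfsg.Agent.Lib.Helper8.Chev
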