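import Cfsg.Agent.Lib.Helper8.ChevEx5

set_option autoImplicit false

namespace Cfsg.Agent.Lib.Helper8.Chev

open Cfsg.Lie Matrix

variable {D : ChevalleyDatum} {K : Type*} [Field K]

/-- the root element as an element of the Chevalley group -/
theorem exists_xG (hD : D ∈ [chevG2, chevB2, chevD4, chevF4, chevE6, chevE7, chevE8]) {r : ℕ}
    (hr : r < D.nroots) (t : K) : ∃ g : ↥(D.group K), gmat g = xN D K r t := by
  obtain ⟨g, hg, hm⟩ := word_mem_group (F := K) (valid0_of_mem hD) (valid1_of_mem hD) [(r, t)]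
    (by intro p hp; rw [List.mem_singleton] at hp; rw [hp]; exact hr)
  refine ⟨⟨g, hg⟩, ?_⟩
  show (g : Matrix D.Idx D.Idx K) = _
  rw [hm, wN_cons, wN_nil, Matrix.mul_one]

/-- the entry `(-r, r)` of `x_{-r}(1)` is `-1` -/
theorem xN_neg_entry (V : Valid0 D) {a : ℕ} (ha : a < D.nroots) :
    xN D K (D.neg a) 1 (Sum.inr ⟨D.neg a, V.neg_lt ha⟩) (Sum.inr ⟨a, ha⟩) = -1 := by
  unfold xN
  rw [dif_pos (V.neg_lt ha)]
  simp only [xR, Matrix.of_apply]
  have h1 : ¬ ((⟨a, ha⟩ : Fin D.nroots) = ⟨D.neg a, V.neg_lt ha⟩) := by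
    intro h; rw [Fin.mk.injEq] at h; exact V.neg_ne ha h.symm
  have h2 : a = D.negIdx.getD (D.neg a) 0 := (V.neg_neg ha).symm
  rw [if_neg h1, if_pos h2, if_neg (fun h => h1 h.symm)]
  simp

theorem ord_neg_lt (V : Valid0 D) {a : ℕ} (ha : a < D.nroots) (hpos : D.nroots / 2 ≤ a) :
    ord D (Sum.inr ⟨D.neg a, V.neg_lt ha⟩) < ord D (Sum.inr ⟨a, ha⟩) := by
  have h1 := V.neg_eq a ha
  have h2 := V.even
  simp only [ord]
  rw [if_pos (by omega), if_neg (by omega)]
  omega

section Main

variable (hD : D ∈ [chevG2, chevB2, chevD4, chevF4, chevE6, chevE7, chevE8]) (X : ExData)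

include hD in
theorem exAut_aux (S : Matrix D.Idx D.Idx K)
    (h1 : ∀ g : ↥(D.group K), ∃ g' : ↥(D.group K), S * gmat g = gmat g' * S)
    (h2 : ∀ g' : ↥(D.group K), ∃ g : ↥(D.group K), S * gmat g = gmat g' * S)
    (a : ℕ) (ha : a < D.nroots) (hapos : D.nroots / 2 ≤ a)
    (c₀ : D.Idx) (hc₀ : ∀ M : Matrix D.Idx D.Idx K,
      (M * S) (Sum.inr ⟨D.neg a, (valid0_of_mem hD).neg_lt ha⟩) c₀ =
        M (Sum.inr ⟨D.neg a, (valid0_of_mem hD).neg_lt ha⟩) (Sum.inr ⟨a, ha⟩))
    (a' : ℕ) (ha' : a' < D.nroots) (ha'pos : D.nroots / 2 ≤ a')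
    (r₀ : D.Idx) (hr₀ : ∀ M : Matrix D.Idx D.Idx K,
      (S * M) r₀ (Sum.inr ⟨a', ha'⟩) =
        M (Sum.inr ⟨D.neg a', (valid0_of_mem hD).neg_lt ha'⟩) (Sum.inr ⟨a', ha'⟩)) :
    (∀ g : ↥(D.group K), S * gmat g = S → g = 1) ∧
    (∀ g' : ↥(D.group K), S = gmat g' * S → g' = 1) := by
  have V := valid0_of_mem hD
  have V1 := valid1_of_mem hD
  have J := validJ_of_mem hD
  have H := validH_of_mem hD
  have Tr := triP_of_mem hD
  have Pp := posP_of_mem hD
  have hirr := chevBN_irreducible (F := K) hD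
  have hcore : (chevBN hD K).B.normalCore = ⊥ := by rw [chevBN_B]; exact normalCore_borel hD
  have hne : (-1 : K) ≠ 0 := by simp
  constructor
  · -- the kernel on the first factor
    let H1 : Subgroup ↥(D.group K) :=
      { carrier := {g | S * gmat g = S}
        one_mem' := by simp
        mul_mem' := by
          intro x y hx hy
          simp only [Set.mem_ofPred_eq, gmat_mul] at hx hy ⊢
          rw [← Matrix.mul_assoc, hx, hy]
        inv_mem' := by
          intro x hx
          simp only [Set.mem_ofPred_eq] at hx ⊢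
          calc S * gmat x⁻¹ = S * gmat x * gmat x⁻¹ := by rw [hx]
            _ = S := by rw [Matrix.mul_assoc, gmat_mul_inv, Matrix.mul_one] }
    have hN : H1.Normal := by
      constructor
      intro n hn g
      obtain ⟨g', hg'⟩ := h1 g
      show S * gmat (g * n * g⁻¹) = S
      have hn' : S * gmat n = S := hn
      rw [gmat_mul, gmat_mul, ← Matrix.mul_assoc, ← Matrix.mul_assoc, hg', Matrix.mul_assoc (gmat g'),
        hn', ← hg', Matrix.mul_assoc, gmat_mul_inv, Matrix.mul_one]
    rcases normal_eq_bot_or_sup_eq_top (chevBN hD K) hirr hcore H1 with hb | ht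
    · intro g hg
      have : g ∈ H1 := hg
      rw [hb] at this
      exact (Subgroup.mem_bot).1 this
    · exfalso
      obtain ⟨g₀, hg₀⟩ := exists_xG (K := K) hD (V.neg_lt ha') 1
      have hmem : g₀ ∈ H1 ⊔ (chevBN hD K).B := by rw [ht]; trivial
      obtain ⟨k, hk, b, hb, hkb⟩ := Subgroup.mem_sup_of_normal_left.1 hmem
      have hk' : S * gmat k = S := hk
      have hbB := (mem_chevBN_B hD).1 hb
      have hlow := borel_mem_LowK J V1 H Tr Pp hbB
      have e : S * gmat g₀ = S * gmat b := by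
        rw [← hkb, gmat_mul, ← Matrix.mul_assoc, hk']
      have e1 := congrFun (congrFun e r₀) (Sum.inr ⟨a', ha'⟩)
      rw [hr₀, hr₀, hg₀, xN_neg_entry V ha'] at e1
      have hz : gmat b (Sum.inr ⟨D.neg a', V.neg_lt ha'⟩) (Sum.inr ⟨a', ha'⟩) = 0 := by
        by_contra hnz
        have := hlow _ _ hnz
        have := ord_neg_lt V ha' ha'pos
        omega
      rw [hz] at e1
      exact hne e1
  · let H2 : Subgroup ↥(D.group K) :=
      { carrier := {g | S = gmat g * S}
        one_mem' := by simp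
        mul_mem' := by
          intro x y hx hy
          simp only [Set.mem_ofPred_eq, gmat_mul] at hx hy ⊢
          rw [Matrix.mul_assoc, ← hy, ← hx]
        inv_mem' := by
          intro x hx
          simp only [Set.mem_ofPred_eq] at hx ⊢
          calc S = gmat x⁻¹ * (gmat x * S) := by
                rw [← Matrix.mul_assoc, gmat_inv_mul, Matrix.one_mul]
            _ = gmat x⁻¹ * S := by rw [← hx] }
    have hN : H2.Normal := by
      constructor
      intro n hn g
      obtain ⟨g', hg'⟩ := h2 g⁻¹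
      show S = gmat (g * n * g⁻¹) * S
      have hn' : S = gmat n * S := hn
      rw [gmat_mul, gmat_mul]
      calc S = gmat g * (gmat g⁻¹ * S) := by
            rw [← Matrix.mul_assoc, gmat_mul_inv, Matrix.one_mul]
        _ = gmat g * (gmat n * S) * gmat g' := by
            rw [← hn', ← hg', Matrix.mul_assoc]
        _ = gmat g * gmat n * gmat g⁻¹ * S := by
            rw [Matrix.mul_assoc (gmat g), Matrix.mul_assoc (gmat n), hg', Matrix.mul_assoc,
              Matrix.mul_assoc]
    rcases normal_eq_bot_or_sup_eq_top (chevBN hD K) hirr hcore H2 with hb | ht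
    · intro g hg
      have : g ∈ H2 := hg
      rw [hb] at this
      exact (Subgroup.mem_bot).1 this
    · exfalso
      obtain ⟨g₀, hg₀⟩ := exists_xG (K := K) hD (V.neg_lt ha) 1
      have hmem : g₀ ∈ H2 ⊔ (chevBN hD K).B := by rw [ht]; trivial
      obtain ⟨k, hk, b, hb, hkb⟩ := Subgroup.mem_sup_of_normal_left.1 hmem
      have hk' : S = gmat k * S := hk
      have hbB := (mem_chevBN_B hD).1 hb
      have hlow := borel_mem_LowK J V1 H Tr Pp hbB
      obtain ⟨b₀, hb₀⟩ := h2 b
      have e : gmat g₀ * S = gmat b * S := by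
        rw [← hkb, gmat_mul, Matrix.mul_assoc, ← hb₀, ← Matrix.mul_assoc, ← hk']
      have e1 := congrFun (congrFun e (Sum.inr ⟨D.neg a, V.neg_lt ha⟩)) c₀
      rw [hc₀, hc₀, hg₀, xN_neg_entry V ha] at e1
      have hz : gmat b (Sum.inr ⟨D.neg a, V.neg_lt ha⟩) (Sum.inr ⟨a, ha⟩) = 0 := by
        by_contra hnz
        have := hlow _ _ hnz
        have := ord_neg_lt V ha hapos
        omega
      rw [hz] at e1
      exact hne e1

end Main

end Cfsg.Agent.Lib.Helper8.Chev
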