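import Cfsg.Agent.Lib.Helper8.ChevFast

set_option autoImplicit false

/-! Packing lists of small naturals into one big natural number, for constant-time random access
in kernel computations (`Nat.shiftRight`, `Nat.land`, ... are evaluated by GMP in the kernel). -/

namespace Cfsg.Agent.Lib.Helper8.Chev

theorem toList_getElem?_of_lt' {α : Type*} (arr : Array α) (i : ℕ) (d : α) (h : i < arr.size) :
    arr.toList[i]? = some (arr.getD i d) := by
  rw [Array.getElem?_toList]
  simp [Array.getD_eq_getD_getElem?, h]

/-- Horner packing of a list of naturals with digits of `w` bits. -/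
noncomputable def packL (w : ℕ) (l : List ℕ) : ℕ :=
  @List.rec ℕ (fun _ => ℕ) 0 (fun a _ ih => a + (ih <<< w)) l

@[simp] theorem packL_nil (w : ℕ) : packL w [] = 0 := rfl
@[simp] theorem packL_cons (w a : ℕ) (l : List ℕ) : packL w (a :: l) = a + (packL w l <<< w) := rfl

/-- the `k`-th digit (of `w` bits) of `P` -/
def getP (w P k : ℕ) : ℕ := (P >>> (w * k)) % 2 ^ w

theorem getP_packL (w : ℕ) : ∀ (l : List ℕ), (∀ a ∈ l, a < 2 ^ w) → ∀ k, getP w (packL w l) k = l.getD k 0
  | [], _, k => by simp [getP]
  | a :: l, h, k => by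
    have ha : a < 2 ^ w := h a (List.mem_cons_self)
    have hl : ∀ b ∈ l, b < 2 ^ w := fun b hb => h b (List.mem_cons_of_mem _ hb)
    cases k with
    | zero =>
      simp only [getP, packL_cons, mul_zero, Nat.shiftRight_zero, List.getD_cons_zero]
      rw [Nat.shiftLeft_eq, Nat.add_mul_mod_self_right, Nat.mod_eq_of_lt ha]
    | succ k =>
      have ih := getP_packL w l hl k
      simp only [getP, packL_cons, List.getD_cons_succ] at ih ⊢
      rw [← ih, Nat.shiftLeft_eq, Nat.shiftRight_eq_div_pow, Nat.shiftRight_eq_div_pow,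
        Nat.mul_succ, Nat.pow_add, Nat.mul_comm (2 ^ (w * k)) (2 ^ w),
        ← Nat.div_div_eq_div_mul]
      congr 2
      rw [Nat.add_mul_div_right _ _ (Nat.two_pow_pos w), Nat.div_eq_of_lt ha, zero_add]

/-- encode a small integer as a natural with offset `2^(w-1)`... here simply `off` -/
def encZ (off : ℕ) (z : ℤ) : ℕ := (z + off).toNat

def decZ (off : ℕ) (m : ℕ) : ℤ := (m : ℤ) - off

theorem decZ_encZ {off : ℕ} {z : ℤ} (h : -(off : ℤ) ≤ z) : decZ off (encZ off z) = z := by
  unfold decZ encZ
  rw [Int.toNat_of_nonneg (by omega)]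
  ring


/-- `List.getD` through recursors. -/
noncomputable def nthF {α : Type*} (d : α) (l : List α) : ℕ → α :=
  @List.rec α (fun _ => ℕ → α) (fun _ => d)
    (fun a _ ih i => @Nat.rec (fun _ => α) a (fun j _ => ih j) i) l

theorem nthF_eq_getD {α : Type*} (d : α) : ∀ (l : List α) (i : ℕ), nthF d l i = l.getD i d
  | [], i => by simp [nthF]
  | a :: l, 0 => rfl
  | a :: l, i + 1 => by
    show nthF d l i = _
    rw [nthF_eq_getD d l i]; rfl

/-- pack the rows of a table of small integers: every row becomes one natural number -/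
noncomputable def packZ (w off : ℕ) (rows : List (Array ℤ)) : List ℕ :=
  mapF (fun rowA => packL w (mapF (encZ off) rowA.toList)) rows

/-- entry `(i, j)` of a packed table of small integers -/
noncomputable def getZ (w off : ℕ) (Ps : List ℕ) (i j : ℕ) : ℤ := decZ off (getP w (nthF 0 Ps i) j)

/-- all entries of the table are in the range that can be packed -/
noncomputable def boundsZ (w off : ℕ) (rows : List (Array ℤ)) : Bool :=
  allF (fun rowA : Array ℤ => allF (fun z => decide (-(off : ℤ) ≤ z) && decide (z + off < 2 ^ w)) rowA.toList) rows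

theorem getZ_packZ {w off : ℕ} {rows : List (Array ℤ)} (hb : boundsZ w off rows = true)
    {i j : ℕ} {rowA : Array ℤ} (hi : rows[i]? = some rowA) (hj : j < rowA.size) :
    getZ w off (packZ w off rows) i j = rowA.getD j 0 := by
  simp only [boundsZ, allF_eq_true, Bool.and_eq_true, decide_eq_true_eq] at hb
  have hmem : rowA ∈ rows := List.mem_of_getElem? hi
  unfold getZ packZ
  rw [nthF_eq_getD, mapF_eq_map, List.getD_eq_getElem?_getD, List.getElem?_map, hi]
  simp only [Option.map_some, Option.getD_some]
  rw [getP_packL, mapF_eq_map]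
  · rw [List.getD_eq_getElem?_getD, List.getElem?_map]
    have h1 : rowA.toList[j]? = some (rowA.getD j 0) := toList_getElem?_of_lt' rowA j 0 hj
    rw [h1]
    simp only [Option.map_some, Option.getD_some]
    exact decZ_encZ (hb rowA hmem _ (List.mem_of_getElem? h1)).1
  · intro a ha
    rw [mapF_eq_map, List.mem_map] at ha
    obtain ⟨z, hz, rfl⟩ := ha
    have := hb rowA hmem z hz
    unfold encZ
    have h3 : ((z + off).toNat : ℤ) < ((2 ^ w : ℕ) : ℤ) := by
      rw [Int.toNat_of_nonneg (by omega)]; push_cast; exact this.2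
    exact_mod_cast h3

end Cfsg.Agent.Lib.Helper8.Chev
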