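import Cfsg.Agent.Lib.Helper8.ChevC
import Cfsg.Agent.Lib.Helper8.ChevPack

set_option autoImplicit false

namespace Cfsg.Agent.Lib.Helper8.Chev

open Cfsg.Lie Matrix

/-! ### Sizes and ranges of the integer tables -/

/-- packed Cartan table -/
noncomputable def packA (D : ChevalleyDatum) : List ℕ := packZ 4 8 D.cartanSR.toList

/-- packed coroot table -/
noncomputable def packC (D : ChevalleyDatum) : List ℕ := packZ 5 16 D.coroot.toList

noncomputable def checkT (D : ChevalleyDatum) : Bool :=
  Nat.beq D.cartanSR.size D.rank && Nat.beq D.coroot.size D.nroots &&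
  boundsZ 4 8 D.cartanSR.toList && boundsZ 5 16 D.coroot.toList &&
  allF (fun rowA : Array ℤ => Nat.beq rowA.size D.nroots) D.cartanSR.toList &&
  allF (fun rowA : Array ℤ => Nat.beq rowA.size D.rank) D.coroot.toList

/-- the integer tables have the right sizes and small entries -/
structure ValidT (D : ChevalleyDatum) : Prop where
  cartan_eq : ∀ i < D.rank, ∀ r < D.nroots, getZ 4 8 (packA D) i r = D.cartan i r
  cor_eq : ∀ r < D.nroots, ∀ i < D.rank, getZ 5 16 (packC D) r i = cor D r i
  cor_size : ∀ r < D.nroots, (D.coroot.getD r #[]).size = D.rank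

theorem validT_of_check {D : ChevalleyDatum} (h : checkT D = true) : ValidT D := by
  simp only [checkT, Bool.and_eq_true, Nat.beq_eq, allF_eq_true] at h
  obtain ⟨⟨⟨⟨⟨h1, h2⟩, h3⟩, h4⟩, h5⟩, h6⟩ := h
  refine ⟨?_, ?_, ?_⟩
  · intro i hi r hr
    have hi' := toList_getElem?_of_lt D.cartanSR i #[] (by omega)
    have hs := h5 _ (List.mem_of_getElem? hi')
    exact getZ_packZ h3 hi' (by omega)
  · intro r hr i hi
    have hr' := toList_getElem?_of_lt D.coroot r #[] (by omega)
    have hs := h6 _ (List.mem_of_getElem? hr')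
    exact getZ_packZ h4 hr' (by omega)
  · intro r hr
    have hr' := toList_getElem?_of_lt D.coroot r #[] (by omega)
    exact h6 _ (List.mem_of_getElem? hr')

/-! ### Level 1 validity: what is needed for `x_r(t) x_r(u) = x_r(t+u)` -/

/-- `Σ_i c_i(r) A_{i,r}` -/
def corCartan (D : ChevalleyDatum) (r : ℕ) : ℤ := ∑ i ∈ Finset.range D.rank, cor D r i * D.cartan i r

/-- consistency of the chain of `s` under `r` with the chains of the later members of the string -/
def Shape (D : ChevalleyDatum) (r : ℕ) : List (ℕ × ℤ) → Prop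
  | [(u1, _)] => D.chainEntry r u1 = []
  | [(u1, M1), (u2, M2)] =>
      (∃ N, D.chainEntry r u1 = [(u2, N)] ∧ M1 * N = 2 * M2) ∧ D.chainEntry r u2 = []
  | [(u1, M1), (u2, M2), (u3, M3)] =>
      (∃ N2 N3, D.chainEntry r u1 = [(u2, N2), (u3, N3)] ∧ M1 * N2 = 2 * M2 ∧ M1 * N3 = 3 * M3) ∧
      (∃ N, D.chainEntry r u2 = [(u3, N)] ∧ M2 * N = 3 * M3) ∧ D.chainEntry r u3 = []
  | _ => False

structure Valid1 (D : ChevalleyDatum) : Prop where
  cor_cartan : ∀ r < D.nroots, corCartan D r = 2
  shape : ∀ r < D.nroots, ∀ e ∈ row D r, Shape D r e.2.toList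

/-- lookup in a row through the recursor -/
noncomputable def lookF (l : List (ℕ × Array (ℕ × ℤ))) (u : ℕ) : List (ℕ × ℤ) :=
  @List.rec (ℕ × Array (ℕ × ℤ)) (fun _ => List (ℕ × ℤ)) []
    (fun e _ ih => cond (Nat.beq e.1 u) e.2.toList ih) l

theorem lookF_eq (D : ChevalleyDatum) (r u : ℕ) : lookF (row D r) u = D.chainEntry r u := by
  rw [chainEntry_eq]
  induction row D r with
  | nil => rfl
  | cons e l ih =>
    show cond (Nat.beq e.1 u) e.2.toList (lookF l u) = _
    by_cases h : e.1 = u
    · rw [List.find?_cons_of_pos (by simpa using h)]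
      have : Nat.beq e.1 u = true := by rw [Nat.beq_eq]; exact h
      rw [this]; rfl
    · rw [List.find?_cons_of_neg (by simpa using h)]
      have : Nat.beq e.1 u = false := by rw [nat_beq_eq_false]; exact h
      rw [this, ← ih]; rfl

/-- bit mask of a list of naturals -/
noncomputable def maskF (l : List ℕ) : ℕ :=
  @List.rec ℕ (fun _ => ℕ) 0 (fun a _ ih => (1 <<< a) ||| ih) l

theorem testBit_maskF (l : List ℕ) (u : ℕ) : (maskF l).testBit u = true ↔ u ∈ l := by
  induction l with
  | nil => simp [maskF]
  | cons a l ih =>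
    show ((1 <<< a) ||| maskF l).testBit u = true ↔ _
    rw [Nat.testBit_or, Bool.or_eq_true, ih, List.mem_cons, Nat.one_shiftLeft, Nat.testBit_two_pow]
    simp only [decide_eq_true_eq]
    constructor
    · rintro (h | h)
      · exact Or.inl h.symm
      · exact Or.inr h
    · rintro (h | h)
      · exact Or.inl h.symm
      · exact Or.inr h

theorem chainEntry_eq_nil_of_not_mem (D : ChevalleyDatum) (r u : ℕ)
    (h : u ∉ (row D r).map Prod.fst) : D.chainEntry r u = [] := by
  rw [chainEntry_eq]
  have : (row D r).find? (fun e => decide (e.1 = u)) = none := by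
    rw [List.find?_eq_none]
    intro e he
    simp only [decide_eq_true_eq]
    intro heu
    exact h (List.mem_map.mpr ⟨e, he, heu⟩)
  rw [this]

def shapeB (mask : ℕ) (look : ℕ → List (ℕ × ℤ)) : List (ℕ × ℤ) → Bool
  | [(u1, _)] => !(mask.testBit u1)
  | [(u1, M1), (u2, M2)] =>
      (match look u1 with
        | [(u2', N)] => Nat.beq u2' u2 && decide (M1 * N = 2 * M2)
        | _ => false) && !(mask.testBit u2)
  | [(u1, M1), (u2, M2), (u3, M3)] =>
      (match look u1 with
        | [(u2', N2), (u3', N3)] =>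
            Nat.beq u2' u2 && Nat.beq u3' u3 && decide (M1 * N2 = 2 * M2) && decide (M1 * N3 = 3 * M3)
        | _ => false) &&
      (match look u2 with
        | [(u3', N)] => Nat.beq u3' u3 && decide (M2 * N = 3 * M3)
        | _ => false) && !(mask.testBit u3)
  | _ => false

theorem shape_of_shapeB (D : ChevalleyDatum) (r : ℕ) (L : List (ℕ × ℤ))
    (h : shapeB (maskF ((row D r).map Prod.fst)) (fun u => D.chainEntry r u) L = true) :
    Shape D r L := by
  have hnil : ∀ u, (!(maskF ((row D r).map Prod.fst)).testBit u) = true → D.chainEntry r u = [] := by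
    intro u hu
    apply chainEntry_eq_nil_of_not_mem
    rw [← testBit_maskF]
    simpa using hu
  match L, h with
  | [(u1, _)], h => exact hnil u1 h
  | [(u1, M1), (u2, M2)], h =>
    simp only [shapeB, Bool.and_eq_true] at h
    refine ⟨?_, hnil u2 h.2⟩
    have h1 := h.1
    split at h1
    · rename_i u2' N heq
      simp only [Bool.and_eq_true, Nat.beq_eq, decide_eq_true_eq] at h1
      exact ⟨N, by rw [heq, h1.1], h1.2⟩
    · exact absurd h1 (by simp)
  | [(u1, M1), (u2, M2), (u3, M3)], h =>
    simp only [shapeB, Bool.and_eq_true] at h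
    refine ⟨?_, ?_, hnil u3 h.2⟩
    · have h1 := h.1.1
      split at h1
      · rename_i u2' N2 u3' N3 heq
        simp only [Bool.and_eq_true, Nat.beq_eq, decide_eq_true_eq] at h1
        exact ⟨N2, N3, by rw [heq, h1.1.1.1, h1.1.1.2], h1.1.2, h1.2⟩
      · exact absurd h1 (by simp)
    · have h1 := h.1.2
      split at h1
      · rename_i u3' N heq
        simp only [Bool.and_eq_true, Nat.beq_eq, decide_eq_true_eq] at h1
        exact ⟨N, by rw [heq, h1.1], h1.2⟩
      · exact absurd h1 (by simp)
  | [], h => simp [shapeB] at h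
  | _ :: _ :: _ :: _ :: _, h => simp [shapeB] at h

/-- `Σ_k l[k] f(k0+k)` through the recursor -/
noncomputable def dotF (f : ℕ → ℤ) (l : List ℤ) : ℕ → ℤ :=
  @List.rec ℤ (fun _ => ℕ → ℤ) (fun _ => 0) (fun a _ ih k => a * f k + ih (k + 1)) l

theorem dotF_eq (f : ℕ → ℤ) : ∀ (l : List ℤ) (k : ℕ),
    dotF f l k = ∑ i ∈ Finset.range l.length, l.getD i 0 * f (k + i)
  | [], k => by simp [dotF]
  | a :: l, k => by
    show a * f k + dotF f l (k + 1) = _
    rw [dotF_eq f l (k + 1), List.length_cons, Finset.sum_range_succ']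
    simp only [List.getD_cons_succ, List.getD_cons_zero, add_zero]
    rw [add_comm]
    congr 1
    apply Finset.sum_congr rfl
    intro i _
    rw [show k + 1 + i = k + (i + 1) by omega]

noncomputable def checkRow1 (l : List (ℕ × Array (ℕ × ℤ))) : Bool :=
  allF (fun e => shapeB (maskF (mapF Prod.fst l)) (lookF l) e.2.toList) l

noncomputable def check1 (D : ChevalleyDatum) : Bool :=
  allIdxF (fun r (crow : Array ℤ) =>
    decide (dotF (fun i => getZ 4 8 (packA D) i r) crow.toList 0 = 2)) D.coroot.toList 0 &&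
  allF (fun rowArr : Array (ℕ × Array (ℕ × ℤ)) => checkRow1 rowArr.toList) D.chain.toList

theorem valid1_of_check {D : ChevalleyDatum} (T : ValidT D) (hsz : D.chain.size = D.nroots)
    (hcs : D.coroot.size = D.nroots)
    (h : check1 D = true) : Valid1 D := by
  simp only [check1, Bool.and_eq_true, allIdxF_eq_true, zero_add, decide_eq_true_eq,
    allF_eq_true] at h
  refine ⟨?_, ?_⟩
  · intro r hr
    have hr' := toList_getElem?_of_lt D.coroot r #[] (by omega)
    have h1 := h.1 r _ hr'
    rw [dotF_eq] at h1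
    unfold corCartan
    rw [← h1]
    have hlen : (D.coroot.getD r #[]).toList.length = D.rank := by
      rw [Array.length_toList]; exact T.cor_size r hr
    rw [hlen]
    apply Finset.sum_congr rfl
    intro i hi
    rw [Finset.mem_range] at hi
    rw [zero_add, T.cartan_eq i hi r hr]
    congr 1
    unfold cor
    simp [Array.getD_eq_getD_getElem?, List.getD_eq_getElem?_getD]
  · intro r hr e he
    have hr' := toList_getElem?_of_lt D.chain r #[] (by omega)
    have h1 := h.2 _ (List.mem_of_getElem? hr')
    simp only [checkRow1, allF_eq_true] at h1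
    have h2 := h1 e he
    rw [mapF_eq_map] at h2
    have : lookF (D.chain.getD r #[]).toList = fun u => D.chainEntry r u := by
      funext u; exact lookF_eq D r u
    rw [this] at h2
    exact shape_of_shapeB D r _ h2

end Cfsg.Agent.Lib.Helper8.Chev
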