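import Cfsg.Agent.Lib.Helper8.ChevFld1

set_option autoImplicit false

/-! The elements of a Chevalley group fixed by a field automorphism come from the fixed field,
when the torus is parametrised injectively by `(Fˣ)^l`. -/

namespace Cfsg.Agent.Lib.Helper8.Chev

open Cfsg.Lie Matrix

section

variable {D : ChevalleyDatum} {F F₀ : Type*} [Field F] [Field F₀]

/-- fixed elements of `U` come from the fixed field -/
theorem pos_fixed (hD : D ∈ [chevG2, chevB2, chevD4, chevF4, chevE6, chevE7, chevE8])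
    (ι : F₀ →+* F) (σ : F →+* F) (hσ : ∀ x, σ x = x → x ∈ Set.range ι)
    {u : GL D.Idx F} (hu : u ∈ D.posUnipotent F) (hfix : bc D σ u = u) :
    ∃ u₀ ∈ D.posUnipotent F₀, bc D ι u₀ = u := by
  obtain ⟨hex, hall⟩ := posUnipotent_unique_word (F := F) hD
  obtain ⟨t, ⟨ht0, ht⟩, huniq⟩ := hex u hu
  have hσt : (fun r => σ (t r)) = t := by
    apply huniq
    refine ⟨fun r hr => by rw [ht0 r hr, map_zero], ?_⟩
    have := bc_wordMat σ ht
    rw [hfix] at this
    rw [this]
    congr 1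
    simp [mapW, List.map_map]
  have hmem : ∀ r, ∃ x : F₀, ι x = t r := fun r => hσ (t r) (congrFun hσt r)
  choose t₀ ht₀ using hmem
  obtain ⟨u₀, hu₀, hm₀⟩ := (posUnipotent_unique_word (F := F₀) hD).2 t₀
  refine ⟨u₀, hu₀, ?_⟩
  apply Units.ext
  rw [bc_wordMat ι hm₀, ht]
  congr 1
  simp [mapW, List.map_map, ht₀]

/-- fixed elements of `H` come from the fixed field -/
theorem diagonal_fixed (hD : D ∈ [chevG2, chevB2, chevD4, chevF4, chevE6, chevE7, chevE8])
    (htor : Function.Injective (torMap D F))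
    (ι : F₀ →+* F) (σ : F →+* F) (hσ : ∀ x, σ x = x → x ∈ Set.range ι)
    {h : GL D.Idx F} (hh : h ∈ D.diagonalSubgroup F) (hfix : bc D σ h = h) :
    ∃ h₀ ∈ D.diagonalSubgroup F₀, bc D ι h₀ = h := by
  have V1 := valid1_of_mem hD
  have J := validJ_of_mem hD
  have H := validH_of_mem hD
  rw [diagonal_eq_range J V1 H] at hh
  obtain ⟨c, rfl⟩ := hh
  rw [bc_torMap] at hfix
  have hc := htor hfix
  have hmem : ∀ i, ∃ x : F₀, ι x = ((c i : Fˣ) : F) := by
    intro i
    apply hσ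
    have := congrFun hc i
    exact congrArg Units.val this
  choose x hx using hmem
  have hx0 : ∀ i, x i ≠ 0 := by
    intro i h0
    have := hx i
    rw [h0, map_zero] at this
    exact (Units.ne_zero (c i)) this.symm
  refine ⟨torMap D F₀ (fun i => Units.mk0 (x i) (hx0 i)), torMap_mem J H _, ?_⟩
  rw [bc_torMap]
  congr 1
  funext i
  apply Units.ext
  exact hx i

/-- the elements of the group fixed by the field automorphism come from the fixed field -/
theorem group_fixed (hD : D ∈ [chevG2, chevB2, chevD4, chevF4, chevE6, chevE7, chevE8])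
    (htor : Function.Injective (torMap D F))
    (ι : F₀ →+* F) (σ : F →+* F) (hσ : ∀ x, σ x = x → x ∈ Set.range ι)
    {g : GL D.Idx F} (hg : g ∈ D.group F) (hfix : bc D σ g = g) :
    ∃ g₀ ∈ D.group F₀, bc D ι g₀ = g := by
  have V := valid0_of_mem hD
  have V1 := valid1_of_mem hD
  have J := validJ_of_mem hD
  have H := validH_of_mem hD
  have P := posP_of_mem hD
  have Tr := triP_of_mem hD
  have V₀ := valid0_of_mem hD
  obtain ⟨⟨w, b, u⟩, hx⟩ := bruhatMap_surjective (F := F) hD ⟨g, hg⟩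
  have hge : (b : GL D.Idx F) * nP D F (lw hD w) * (u : GL D.Idx F) = g :=
    congrArg Subtype.val hx
  have hl := lw_lt hD w
  -- the components are fixed
  have hb' := bc_mem_borel σ b.2
  have hu' := bc_mem_unegW σ (lw hD w) u.2
  have hx' : bruhatMap hD F ⟨w, ⟨bc D σ b, hb'⟩, ⟨bc D σ u, hu'⟩⟩ = bruhatMap hD F ⟨w, b, u⟩ := by
    apply Subtype.ext
    show bc D σ b * nP D F (lw hD w) * bc D σ u = (b : GL D.Idx F) * nP D F (lw hD w) * u
    have e1 : bc D σ b * nP D F (lw hD w) * bc D σ u =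
        bc D σ ((b : GL D.Idx F) * nP D F (lw hD w) * u) := by
      rw [map_mul, map_mul, bc_nP J V1 σ hl]
    rw [e1, hge, hfix]
  have hinj := bruhatMap_injective (F := F) hD hx'
  rw [Sigma.mk.inj_iff] at hinj
  have hpair := eq_of_heq hinj.2
  rw [Prod.mk.injEq] at hpair
  have hbfix : bc D σ b = b := congrArg Subtype.val hpair.1
  have hufix : bc D σ u = u := congrArg Subtype.val hpair.2
  -- the Borel part
  obtain ⟨u₁, hu₁, h, hh, hb⟩ := borel_decomp J V1 H b.2
  have hsplit : bc D σ u₁ * bc D σ h = u₁ * h := by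
    rw [← map_mul, ← hb, hbfix]
  have hm : u₁⁻¹ * bc D σ u₁ ∈ D.posUnipotent F ⊓ D.diagonalSubgroup F := by
    refine Subgroup.mem_inf.mpr ⟨mul_mem (inv_mem hu₁) (bc_mem_pos σ hu₁), ?_⟩
    have : u₁⁻¹ * bc D σ u₁ = h * (bc D σ h)⁻¹ := by
      rw [inv_mul_eq_iff_eq_mul, ← mul_assoc, ← hsplit, mul_inv_cancel_right]
    rw [this]
    exact mul_mem hh (inv_mem (bc_mem_diagonal σ hh))
  rw [pos_inf_diagonal J V1 H Tr P, Subgroup.mem_bot, inv_mul_eq_one] at hm
  have hu₁fix : bc D σ u₁ = u₁ := hm.symm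
  have hhfix : bc D σ h = h := by
    rw [hu₁fix] at hsplit
    exact mul_left_cancel hsplit
  obtain ⟨a₁, ha₁, e₁⟩ := pos_fixed hD ι σ hσ hu₁ hu₁fix
  obtain ⟨a₂, ha₂, e₂⟩ := diagonal_fixed hD htor ι σ hσ hh hhfix
  obtain ⟨a₃, ha₃, e₃⟩ := pos_fixed hD ι σ hσ
    (unegS_le_pos _ (unegW_le_unegS hD hl u.2)) hufix
  refine ⟨a₁ * a₂ * nP D F₀ (lw hD w) * a₃, ?_, ?_⟩
  · exact mul_mem (mul_mem (mul_mem (pos_le_group ha₁) (diagonal_le_group V₀ V1 ha₂))
      (monomial_le_group V₀ V1 (nP_mem_monomial hD hl))) (pos_le_group ha₃)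
  · rw [map_mul, map_mul, map_mul, e₁, e₂, e₃, bc_nP J V1 ι hl, ← hb, hge]

end

end Cfsg.Agent.Lib.Helper8.Chev
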