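import Cfsg.Agent.Lib.Helper8.ChevTw4

set_option autoImplicit false

/-! Class elements: words, the action of the twisting endomorphism, coordinates. -/

namespace Cfsg.Agent.Lib.Helper8.Chev

open Cfsg.Lie Matrix

/-- the word `x_{f j₀}(τ j₀) x_{f j₁}(τ j₁) ⋯` -/
def xwS {F : Type*} (f : ℕ → ℕ) (J : List ℕ) (τ : ℕ → F) : List (ℕ × F) :=
  J.map fun j => (f j, τ j)

/-- the class word `x_{f j₀}(t) x_{f j₁}(φ t) x_{f j₂}(φ² t) ⋯` -/
def clsWS {F : Type*} (f : ℕ → ℕ) (φ : F → F) : List ℕ → F → List (ℕ × F)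
  | [], _ => []
  | j :: J, t => (f j, t) :: clsWS f φ J (φ t)

/-- `f j` is `p_j` or `-p_j` -/
def SgnF (D : ChevalleyDatum) (f : ℕ → ℕ) : Prop :=
  ∀ j, f j ∈ [D.simple j, D.neg (D.simple j)]

theorem sgnF_simple (D : ChevalleyDatum) : SgnF D D.simple := fun j => by simp

theorem sgnF_neg (D : ChevalleyDatum) : SgnF D (fun j => D.neg (D.simple j)) := fun j => by simp

section

variable {D : ChevalleyDatum} {F : Type*} [Field F] {ρ ρ' π π' : ℕ → ℕ} {ε : ℕ → ℤ}

theorem clsWS_append (f : ℕ → ℕ) (φ : F → F) (J : List ℕ) (j : ℕ) (t : F) :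
    clsWS f φ (J ++ [j]) t = clsWS f φ J t ++ [(f j, φ^[J.length] t)] := by
  induction J generalizing t with
  | nil => rfl
  | cons i J ih =>
    show (f i, t) :: clsWS f φ (J ++ [j]) (φ t) = (f i, t) :: (clsWS f φ J (φ t) ++ _)
    rw [ih]
    rfl

theorem clsWS_letters (f : ℕ → ℕ) (φ : F → F) (J : List ℕ) (t : F) :
    ∀ p ∈ clsWS f φ J t, ∃ j ∈ J, p.1 = f j := by
  induction J generalizing t with
  | nil => intro p hp; simp [clsWS] at hp
  | cons i J ih =>
    intro p hp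
    simp only [clsWS, List.mem_cons] at hp
    rcases hp with rfl | hp
    · exact ⟨i, List.mem_cons_self, rfl⟩
    · obtain ⟨j, hj, e⟩ := ih _ p hp
      exact ⟨j, List.mem_cons_of_mem _ hj, e⟩

theorem sgnF_lt (V : Valid0 D) (J : ValidJ D) {f : ℕ → ℕ} (hf : SgnF D f) {j : ℕ}
    (hj : j < D.rank) : f j < D.nroots := by
  have hp := (J.S j hj).1
  have := hf j
  simp only [List.mem_cons, List.not_mem_nil, or_false] at this
  rcases this with h | h
  · rw [h]; exact hp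
  · rw [h]; exact V.neg_lt hp

/-- a root element of `±p_{j₀}` commutes with a word in the `±p_j`, `j` orthogonal to `j₀` -/
theorem xN_comm_word (hD : D ∈ [chevG2, chevB2, chevD4, chevF4, chevE6, chevE7, chevE8])
    {j₀ : ℕ} (hj₀ : j₀ < D.rank) {a : ℕ} (ha : a ∈ [D.simple j₀, D.neg (D.simple j₀)])
    (w : List (ℕ × F))
    (hw : ∀ p ∈ w, ∃ j, j < D.rank ∧ OrthJ D j₀ j ∧ p.1 ∈ [D.simple j, D.neg (D.simple j)])
    (c : F) : xN D F a c * wN D F w = wN D F w * xN D F a c := by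
  induction w with
  | nil => simp
  | cons p w ih =>
    obtain ⟨j, hj, ho, hp⟩ := hw p List.mem_cons_self
    rw [wN_cons, ← Matrix.mul_assoc, orth_comm hD hj₀ hj ho ha hp, Matrix.mul_assoc,
      ih (fun q hq => hw q (List.mem_cons_of_mem _ hq)), Matrix.mul_assoc]

/-- the twisting endomorphism on class words -/
theorem sgW_clsWS (h : GAOk D ρ ρ' π π' ε) (φ : F →+* F) {f : ℕ → ℕ}
    (hf : ∀ j < D.rank, π (f j) = f (ρ j) ∧ ε (f j) = 1) (J : List ℕ)
    (hJ : ∀ j ∈ J, j < D.rank) (t : F) :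
    sgW π ε φ (clsWS f φ J t) = clsWS f φ (J.map ρ) (φ t) := by
  induction J generalizing t with
  | nil => rfl
  | cons i J ih =>
    have hi := hf i (hJ i List.mem_cons_self)
    show (π (f i), ((ε (f i) : ℤ) : F) * φ t) :: sgW π ε φ (clsWS f φ J (φ t)) =
      (f (ρ i), φ t) :: clsWS f φ (J.map ρ) (φ (φ t))
    rw [ih (fun j hj => hJ j (List.mem_cons_of_mem _ hj)), hi.1, hi.2, Int.cast_one, one_mul]

theorem hf_simple (h : GAOk D ρ ρ' π π' ε) :
    ∀ j < D.rank, π (D.simple j) = D.simple (ρ j) ∧ ε (D.simple j) = 1 := h.hsimple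

theorem hf_neg (J : ValidJ D) (h : GAOk D ρ ρ' π π' ε) :
    ∀ j < D.rank, π (D.neg (D.simple j)) = D.neg (D.simple (ρ j)) ∧ ε (D.neg (D.simple j)) = 1 := by
  intro j hj
  have h1 := h.hneg (D.simple j) (J.S j hj).1
  have h2 := h.hsimple j hj
  rw [h1.1, h1.2, h2.1, h2.2]
  exact ⟨rfl, rfl⟩

/-- class elements are fixed by the twisting endomorphism -/
theorem sg_cls (hD : D ∈ [chevG2, chevB2, chevD4, chevF4, chevE6, chevE7, chevE8])
    (h : GAOk D ρ ρ' π π' ε) (φ : F →+* F) {f : ℕ → ℕ} (hs : SgnF D f)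
    (hf : ∀ j < D.rank, π (f j) = f (ρ j) ∧ ε (f j) = 1) {J : List ℕ} (hJ : ClsOk D ρ J)
    {t : F} (ht : φ^[J.length] t = t) {g : GL D.Idx F}
    (hg : (g : Matrix D.Idx D.Idx F) = wN D F (clsWS f φ J t)) : sg h φ g = g := by
  have V := valid0_of_mem hD
  have V1 := valid1_of_mem hD
  have VJ := validJ_of_mem hD
  obtain ⟨j₀, J', e, hmap⟩ := hJ.rot
  have hlt : ∀ p ∈ clsWS f φ J t, p.1 < D.nroots := by
    intro p hp
    obtain ⟨j, hj, e⟩ := clsWS_letters f φ J t p hp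
    rw [e]
    exact sgnF_lt V VJ hs (hJ.lt j hj)
  apply Units.ext
  rw [sg_word V V1 h φ _ hlt g hg, sgW_clsWS h φ hf J hJ.lt, hmap, clsWS_append, wN_append, hg, e]
  show _ = wN D F ((f j₀, t) :: clsWS f φ J' (φ t))
  rw [wN_cons, wN_cons, wN_nil, Matrix.mul_one]
  have hlen : φ^[J'.length] (φ t) = t := by
    rw [← Function.iterate_succ_apply]
    rw [e] at ht
    exact ht
  rw [hlen]
  have hj₀ : j₀ < D.rank := hJ.lt j₀ (by rw [e]; exact List.mem_cons_self)
  symm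
  apply xN_comm_word hD hj₀ (hs j₀)
  intro p hp
  obtain ⟨j, hj, ep⟩ := clsWS_letters f φ J' (φ t) p hp
  have hjJ : j ∈ J := by rw [e]; exact List.mem_cons_of_mem _ hj
  have hne : j₀ ≠ j := by
    have := hJ.nodup
    rw [e, List.nodup_cons] at this
    rintro rfl
    exact this.1 hj
  refine ⟨j, hJ.lt j hjJ, hJ.orth j₀ (by rw [e]; exact List.mem_cons_self) j hjJ hne, ?_⟩
  rw [ep]
  exact hs j

end

end Cfsg.Agent.Lib.Helper8.Chev
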