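import Cfsg.Agent.Lib.Helper8.ChevTw18

set_option autoImplicit false

/-! The `(B, N)`-pair of a twisted group. -/

namespace Cfsg.Agent.Lib.Helper8.Chev

open Cfsg.Lie Matrix

section

variable {D : ChevalleyDatum} {F : Type*} [Field F] {ρ ρ' π π' : ℕ → ℕ} {ε : ℕ → ℤ}

/-- `(B n_J B)(B n B) ⊆ ⋃_{I ⊆ J} B n_I n B` -/
theorem iter_bn_mul (hD : D ∈ [chevG2, chevB2, chevD4, chevF4, chevE6, chevE7, chevE8]) :
    ∀ (J₀ : List ℕ), (∀ j ∈ J₀, j < D.rank) → ∀ {n : GL D.Idx F}, n ∈ D.monomialSubgroup F →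
      ∀ {b : GL D.Idx F}, b ∈ D.borelSubgroup F →
      ∃ I : List ℕ, I.Sublist J₀ ∧ InDC (D.borelSubgroup F) (nP D F I * n) (nP D F J₀ * b * n) := by
  intro J₀
  induction J₀ with
  | nil =>
    intro _ n _ b hb
    refine ⟨[], List.Sublist.refl _, b, hb, 1, one_mem _, ?_⟩
    rw [nP_nil, one_mul, one_mul, mul_one]
  | cons j J₀ ih =>
    intro hJ₀ n hn b hb
    have hj := hJ₀ j List.mem_cons_self
    have hJ₀' : ∀ i ∈ J₀, i < D.rank := fun i hi => hJ₀ i (List.mem_cons_of_mem _ hi)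
    obtain ⟨I', hI', b1, hb1, b2, hb2, e⟩ := ih hJ₀' hn hb
    have hI'lt : ∀ i ∈ I', i < D.rank := fun i hi => hJ₀' i (hI'.subset hi)
    have hn' : nP D F I' * n ∈ D.monomialSubgroup F := mul_mem (nP_mem_monomial hD hI'lt) hn
    have e' : nP D F (j :: J₀) * b * n = nG D F j * b1 * (nP D F I' * n) * b2 := by
      rw [nP_cons]
      calc nG D F j * nP D F J₀ * b * n = nG D F j * (nP D F J₀ * b * n) := by group
        _ = nG D F j * (b1 * (nP D F I' * n) * b2) := by rw [e]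
        _ = _ := by group
    rcases bn_mul hD hj hn' hb1 with h | h
    · refine ⟨j :: I', hI'.cons_cons j, ?_⟩
      rw [e', nP_cons, mul_assoc (nG D F j)]
      exact h.mul_right hb2
    · refine ⟨I', hI'.cons j, ?_⟩
      rw [e']
      exact h.mul_right hb2

theorem wN_clsWS_zero (V : Valid0 D) (f : ℕ → ℕ) (φ : F →+* F) :
    ∀ J : List ℕ, wN D F (clsWS f φ J 0) = 1 := by
  intro J
  induction J with
  | nil => rfl
  | cons j J ih =>
    show wN D F ((f j, 0) :: clsWS f φ J (φ 0)) = 1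
    rw [wN_cons, map_zero, ih, xN_zero V, mul_one]

theorem nP_flatten_mem_closure {S : Set (GL D.Idx F)} {cls : List (List ℕ)}
    (hS : ∀ J ∈ cls, nP D F J ∈ S) : ∀ {Js : List (List ℕ)}, (∀ J ∈ Js, J ∈ cls) →
      nP D F Js.flatten ∈ Subgroup.closure S := by
  intro Js
  induction Js with
  | nil => intro _; rw [List.flatten_nil, nP_nil]; exact one_mem _
  | cons J Js ih =>
    intro hJs
    rw [List.flatten_cons, nP_append]
    exact mul_mem (Subgroup.subset_closure (hS J (hJs J List.mem_cons_self)))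
      (ih (fun J' hJ' => hJs J' (List.mem_cons_of_mem _ hJ')))

end

namespace TwGrp

variable {D : ChevalleyDatum} {F : Type*} [Field F] {ρ ρ' π π' : ℕ → ℕ} {ε : ℕ → ℤ}
  {T : TwOk D ρ ρ' π π' ε} {φ : F →+* F} {cls : List (List ℕ)} {G1 : Subgroup (GL D.Idx F)}

/-- a sublist of a class whose reflection links two symmetric elements is trivial or everything -/
theorem sub_cases (X : TwGrp T φ cls G1) {J : List ℕ} (hJ : J ∈ cls) {I : List ℕ}
    (hI : I.Sublist J) {n : GL D.Idx F} (hn : n ∈ D.monomialSubgroup F ⊓ G1)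
    {Js : List (List ℕ)} (hJs : ∀ J ∈ Js, J ∈ cls)
    (h : (nP D F I * n)⁻¹ * nP D F Js.flatten ∈ D.diagonalSubgroup F) : I = [] ∨ I = J := by
  have hD := X.hD
  have V1 := valid1_of_mem hD
  have VJ := validJ_of_mem hD
  have H := validH_of_mem hD
  have hI' := checkInv_of_mem hD
  obtain ⟨hn1, hn2⟩ := Subgroup.mem_inf.mp hn
  obtain ⟨h₀, hh₀, l, hl, e, hsym⟩ := mono_fix_sym hD T φ hn1 (X.le_fix hn2)
  have hJok := X.cd.ok J hJ
  have hIlt : ∀ i ∈ I, i < D.rank := fun i hi => hJok.lt i (hI.subset hi)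
  have hIl : ∀ i ∈ I ++ l, i < D.rank := by
    intro i hi
    rw [List.mem_append] at hi
    rcases hi with hi | hi
    · exact hIlt i hi
    · exact hl i hi
  have hls := sym_lt (X.clsOk hJs)
  have hnI := nP_mem_monomial (F := F) hD hIl
  -- `n_{I ++ l}⁻¹ n_{ls} ∈ H`
  have h2 : (nP D F (I ++ l))⁻¹ * nP D F Js.flatten ∈ D.diagonalSubgroup F := by
    have hc : (nP D F (I ++ l))⁻¹ * (nP D F I * h₀ * (nP D F I)⁻¹) * (nP D F (I ++ l))⁻¹⁻¹ ∈
        D.diagonalSubgroup F :=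
      (Subgroup.mem_normalizer_iff.mp (monomial_le_normalizer hD (inv_mem hnI)) _).mp
        ((Subgroup.mem_normalizer_iff.mp (monomial_le_normalizer hD
          (nP_mem_monomial hD hIlt)) _).mp hh₀)
    have e2 : (nP D F (I ++ l))⁻¹ * nP D F Js.flatten =
        ((nP D F (I ++ l))⁻¹ * (nP D F I * h₀ * (nP D F I)⁻¹) * (nP D F (I ++ l))⁻¹⁻¹) *
          ((nP D F I * n)⁻¹ * nP D F Js.flatten) := by
      rw [e, nP_append]; group
    rw [e2]
    exact mul_mem hc h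
  have heq := reflWord_eq_of_mem_diagonal hD hIl hls h2
  apply X.cd.sub J hJ I (List.mem_sublists.mpr hI)
  intro r hr
  have hlr : ∀ i ∈ l.reverse, i < D.rank := fun i hi => hl i (List.mem_reverse.mp hi)
  have hr₀ := reflWord_lt VJ H.nS hlr hr
  have hc := reflWord_reverse_cancel VJ H.nS hI' hl hr
  have h3 : reflWord D I r = reflWord D Js.flatten (reflWord D l.reverse r) := by
    rw [← heq _ hr₀, reflWord_append, hc]
  rw [h3, pi_reflWord VJ H.nS T hls hr₀, reflWord_sym hD T.ga (X.clsOk hJs) _ (T.ga.hπ _ hr₀).1,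
    ← heq _ (T.ga.hπ _ hr₀).1, reflWord_append, ← hsym _ hr₀, hc]


/-- the `(B, N)`-pair of a twisted group -/
theorem bnpair (X : TwGrp T φ cls G1) :
    ∃ P : Cfsg.BNPair ↥G1, P.B = (D.borelSubgroup F ⊓ G1).subgroupOf G1 ∧
      P.N = (D.monomialSubgroup F ⊓ G1).subgroupOf G1 ∧
      P.S = {n : ↥G1 | (n : GL D.Idx F) ∈ {x | ∃ J ∈ cls, x = nP D F J}} := by
  have hD := X.hD
  have V := valid0_of_mem hD
  have V1 := valid1_of_mem hD
  have VJ := validJ_of_mem hD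
  have H := validH_of_mem hD
  have P := posP_of_mem hD
  have Tr := triP_of_mem hD
  have hSmem : ∀ J ∈ cls, nP D F J ∈ D.monomialSubgroup F ⊓ G1 := fun J hJ =>
    Subgroup.mem_inf.mpr ⟨nP_mem_monomial hD (X.cd.ok J hJ).lt, X.nP_cls_mem' hJ⟩
  have hHB : ∀ {x : GL D.Idx F}, x ∈ D.diagonalSubgroup F → x ∈ G1 → x ∈ D.borelSubgroup F ⊓ G1 :=
    fun hx hx' => Subgroup.mem_inf.mpr ⟨diagonal_le_borel hx, hx'⟩
  have hUB : ∀ {x : GL D.Idx F}, x ∈ D.posUnipotent F → x ∈ G1 → x ∈ D.borelSubgroup F ⊓ G1 :=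
    fun hx hx' => Subgroup.mem_inf.mpr ⟨pos_le_borel hx, hx'⟩
  apply bnpair_of_ambient G1 (D.borelSubgroup F ⊓ G1) (D.monomialSubgroup F ⊓ G1)
    {x | ∃ J ∈ cls, x = nP D F J} inf_le_right inf_le_right
  · -- `B¹ N¹ = G¹`
    apply le_antisymm (sup_le inf_le_right inf_le_right)
    intro g hg
    obtain ⟨Js, hJs, hgood, u₁, hu₁, h₁, hh₁, u, hu, e⟩ := X.bruhat hg
    obtain ⟨hu₁a, hu₁b⟩ := Subgroup.mem_inf.mp hu₁
    obtain ⟨hh₁a, hh₁b⟩ := Subgroup.mem_inf.mp hh₁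
    obtain ⟨hua, hub⟩ := Subgroup.mem_inf.mp hu
    rw [e]
    refine mul_mem (mul_mem (mul_mem ?_ ?_) ?_) ?_
    · exact Subgroup.mem_sup_left (hUB hu₁a hu₁b)
    · exact Subgroup.mem_sup_left (hHB hh₁a hh₁b)
    · exact Subgroup.mem_sup_right (Subgroup.mem_inf.mpr
        ⟨nP_mem_monomial hD (sym_lt (X.clsOk hJs)), X.nP_mem hJs⟩)
    · exact Subgroup.mem_sup_left (hUB (unegW_le_pos hD (sym_lt (X.clsOk hJs)) hua) hub)
  · -- `N¹` normalizes `H¹`
    intro n hn t ht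
    obtain ⟨hn1, hn2⟩ := Subgroup.mem_inf.mp hn
    obtain ⟨ht1, ht2⟩ := Subgroup.mem_inf.mp ht
    have htH : t ∈ D.diagonalSubgroup F := by
      rw [← borel_inf_monomial hD]
      exact Subgroup.mem_inf.mpr ⟨(Subgroup.mem_inf.mp ht1).1, (Subgroup.mem_inf.mp ht2).1⟩
    exact hHB ((Subgroup.mem_normalizer_iff.mp (monomial_le_normalizer hD hn1) _).mp htH)
      (mul_mem (mul_mem hn2 (Subgroup.mem_inf.mp ht1).2) (inv_mem hn2))
  · rintro s ⟨J, hJ, rfl⟩
    exact hSmem J hJ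
  · rintro s ⟨J, hJ, rfl⟩
    exact hHB (nP_cls_sq_mem hD (X.cd.ok J hJ).orthL)
      (mul_mem (X.nP_cls_mem' hJ) (X.nP_cls_mem' hJ))
  · rintro s ⟨J, hJ, rfl⟩ s' ⟨J', hJ', rfl⟩ h
    have hH : (nP D F J)⁻¹ * nP D F J' ∈ D.diagonalSubgroup F := by
      rw [← borel_inf_monomial hD]
      exact Subgroup.mem_inf.mpr ⟨(Subgroup.mem_inf.mp h).1,
        mul_mem (inv_mem (hSmem J hJ).1) (hSmem J' hJ').1⟩
    have := X.cd.inj J hJ J' hJ'
      (reflWord_eq_of_mem_diagonal hD (X.cd.ok J hJ).lt (X.cd.ok J' hJ').lt hH)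
    rw [this]
  · -- `N¹ = ⟨S⟩ H¹`
    apply le_antisymm
    · apply sup_le _ inf_le_right
      rw [Subgroup.closure_le]
      rintro s ⟨J, hJ, rfl⟩
      exact hSmem J hJ
    · intro n hn
      obtain ⟨hn1, hn2⟩ := Subgroup.mem_inf.mp hn
      obtain ⟨Js, hJs, hgood, u₁, hu₁, h₁, hh₁, u, hu, e⟩ := X.bruhat hn2
      obtain ⟨hu₁a, hu₁b⟩ := Subgroup.mem_inf.mp hu₁
      obtain ⟨hh₁a, hh₁b⟩ := Subgroup.mem_inf.mp hh₁
      obtain ⟨hua, hub⟩ := Subgroup.mem_inf.mp hu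
      have hls := sym_lt (X.clsOk hJs)
      have hnls := nP_mem_monomial (F := F) hD hls
      have hdc := dc_disjoint (x := n) hD hnls hn1
        ⟨u₁ * h₁, mul_mem (pos_le_borel hu₁a) (diagonal_le_borel hh₁a), u,
          pos_le_borel (unegW_le_pos hD hls hua), e⟩
        ⟨1, one_mem _, 1, one_mem _, by group⟩
      have e2 : n = nP D F Js.flatten * ((nP D F Js.flatten)⁻¹ * n) := by group
      rw [e2]
      refine mul_mem (Subgroup.mem_sup_left
        (nP_flatten_mem_closure (S := {x | ∃ J ∈ cls, x = nP D F J})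
          (fun J hJ => ⟨J, hJ, rfl⟩) hJs)) (Subgroup.mem_sup_right ?_)
      have hG : (nP D F Js.flatten)⁻¹ * n ∈ G1 := mul_mem (inv_mem (X.nP_mem hJs)) hn2
      exact Subgroup.mem_inf.mpr ⟨hHB hdc hG, Subgroup.mem_inf.mpr
        ⟨mul_mem (inv_mem hnls) hn1, hG⟩⟩
  · -- the double coset condition
    rintro s ⟨J, hJ, rfl⟩ n hn b hb
    obtain ⟨hn1, hn2⟩ := Subgroup.mem_inf.mp hn
    obtain ⟨hb1, hb2⟩ := Subgroup.mem_inf.mp hb
    have hsG := X.nP_cls_mem' hJ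
    have hgG : nP D F J * b * n ∈ G1 := mul_mem (mul_mem hsG hb2) hn2
    obtain ⟨Js, hJs, hgood, u₁, hu₁, h₁, hh₁, u, hu, e⟩ := X.bruhat hgG
    obtain ⟨hu₁a, hu₁b⟩ := Subgroup.mem_inf.mp hu₁
    obtain ⟨hh₁a, hh₁b⟩ := Subgroup.mem_inf.mp hh₁
    obtain ⟨hua, hub⟩ := Subgroup.mem_inf.mp hu
    have hls := sym_lt (X.clsOk hJs)
    have hnls := nP_mem_monomial (F := F) hD hls
    have hnlsG := X.nP_mem hJs
    obtain ⟨I, hI, hdc⟩ := iter_bn_mul hD J (X.cd.ok J hJ).lt hn1 hb1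
    have hIlt : ∀ i ∈ I, i < D.rank := fun i hi => (X.cd.ok J hJ).lt i (hI.subset hi)
    have hH := dc_disjoint hD (mul_mem (nP_mem_monomial hD hIlt) hn1) hnls hdc
      ⟨u₁ * h₁, mul_mem (pos_le_borel hu₁a) (diagonal_le_borel hh₁a), u,
        pos_le_borel (unegW_le_pos hD hls hua), e⟩
    have hB1 : u₁ * h₁ ∈ D.borelSubgroup F ⊓ G1 :=
      mul_mem (hUB hu₁a hu₁b) (hHB hh₁a hh₁b)
    have hB2 : u ∈ D.borelSubgroup F ⊓ G1 := hUB (unegW_le_pos hD hls hua) hub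
    rcases X.sub_cases hJ hI hn hJs hH with rfl | rfl
    · right
      rw [nP_nil, one_mul] at hH
      have hG : n⁻¹ * nP D F Js.flatten ∈ G1 := mul_mem (inv_mem hn2) hnlsG
      refine ⟨u₁ * h₁, hB1, (n⁻¹ * nP D F Js.flatten) * u, mul_mem (hHB hH hG) hB2, ?_⟩
      rw [e]; group
    · left
      have hG : (nP D F I * n)⁻¹ * nP D F Js.flatten ∈ G1 :=
        mul_mem (inv_mem (mul_mem hsG hn2)) hnlsG
      refine ⟨u₁ * h₁, hB1, ((nP D F I * n)⁻¹ * nP D F Js.flatten) * u,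
        mul_mem (hHB hH hG) hB2, ?_⟩
      rw [e]; group
  · -- `s B¹ s ≠ B¹`
    rintro s ⟨J, hJ, rfl⟩
    have hJok := X.cd.ok J hJ
    have hO := hJok.orthL
    have hne : J ≠ [] := by
      obtain ⟨j₀, J', e, _⟩ := hJok.rot
      rw [e]; simp
    have hc := coe_wG (F := F) V V1 _ (clsWS_lt V VJ (sgnF_simple D) φ hJok.lt (1 : F))
    obtain ⟨τ, hτ⟩ := clsWS_eq_xwS D.simple φ hJok.nodup (1 : F)
    have hgood := hO.good hD
    have hbU : wG D F (clsWS D.simple φ J 1) ∈ D.posUnipotent F := by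
      have := cls_mem_unegW (l := []) hD hO (by simpa using hgood) τ _ (by rw [hc, hτ])
      rw [List.nil_append] at this
      exact unegW_le_pos hD hO.lt this
    have hbG : wG D F (clsWS D.simple φ J 1) ∈ G1 :=
      X.cls_mem J hJ _ (by simp) 1 (Function.iterate_fixed (map_one φ) _) _ hc
    refine ⟨_, hUB hbU hbG, fun hcon => ?_⟩
    have hV := conj_cls_neg hD hO hgood τ _ (by rw [hc, hτ])
    have hsq := nP_cls_sq_mem (F := F) hD hO
    have hB : nP D F J * wG D F (clsWS D.simple φ J 1) * (nP D F J)⁻¹ ∈ D.borelSubgroup F := by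
      have e : nP D F J * wG D F (clsWS D.simple φ J 1) * (nP D F J)⁻¹ =
          (nP D F J * wG D F (clsWS D.simple φ J 1) * nP D F J) * (nP D F J * nP D F J)⁻¹ := by
        group
      rw [e]
      exact mul_mem (Subgroup.mem_inf.mp hcon).1 (inv_mem (diagonal_le_borel hsq))
    have h1 : nP D F J * wG D F (clsWS D.simple φ J 1) * (nP D F J)⁻¹ ∈
        D.borelSubgroup F ⊓ D.negUnipotent F := Subgroup.mem_inf.mpr ⟨hB, hV⟩
    rw [borel_inf_neg VJ V1 H Tr P, Subgroup.mem_bot] at h1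
    have h2 : wG D F (clsWS D.simple φ J 1) = 1 := by
      have : wG D F (clsWS D.simple φ J 1) = (nP D F J)⁻¹ *
          (nP D F J * wG D F (clsWS D.simple φ J 1) * (nP D F J)⁻¹) * nP D F J := by group
      rw [this, h1]; group
    have h3 : wN D F (clsWS D.simple φ J (1 : F)) = wN D F (clsWS D.simple φ J (0 : F)) := by
      rw [wN_clsWS_zero V, ← hc, h2, Units.val_one]
    exact one_ne_zero (clsWS_inj hD φ hO hne h3)

end TwGrp

end Cfsg.Agent.Lib.Helper8.Chev
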