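import Cfsg.Agent.Lib.Helper8.ChevTw27
import Cfsg.Agent.Lib.Helper8.ChevSimp2

set_option autoImplicit false
set_option maxRecDepth 100000

/-! Twisted groups: simplicity. -/

namespace Cfsg.Agent.Lib.Helper8.Chev

open Cfsg.Lie Matrix Cfsg.Agent.Lib.Helper3
open scoped commutatorElement

/-- a `(B, N)`-pair whose distinguished generators form a chain is irreducible -/
theorem irr_of_chain {G : Type*} [Group G] (P : Cfsg.BNPair G) (L : List G)
    (hS : ∀ s, s ∈ P.S ↔ s ∈ L)
    (hadj : ∀ i (h : i + 1 < L.length), L[i] * L[i + 1] * (L[i])⁻¹ * (L[i + 1])⁻¹ ∉ P.B) :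
    P.Irreducible := by
  intro J hJ hne hcomp
  by_contra hcon
  push Not at hcon
  have hsymm : ∀ a b : G, a * b * a⁻¹ * b⁻¹ ∈ P.B → b * a * b⁻¹ * a⁻¹ ∈ P.B := by
    intro a b h
    have : b * a * b⁻¹ * a⁻¹ = (a * b * a⁻¹ * b⁻¹)⁻¹ := by group
    rw [this]
    exact inv_mem h
  have key : ∀ i (h : i < L.length), (L[i] ∈ J ↔ L[0]'(by omega) ∈ J) := by
    intro i
    induction i with
    | zero => intro _; rfl
    | succ i ih =>
      intro h
      rw [← ih (by omega)]
      have hi : L[i] ∈ P.S := (hS _).mpr (List.getElem_mem _)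
      have hi1 : L[i + 1] ∈ P.S := (hS _).mpr (List.getElem_mem _)
      constructor
      · intro h1
        by_contra h2
        exact hadj i h (hsymm _ _ (hcon _ h1 _ ⟨hi, h2⟩))
      · intro h1
        by_contra h2
        exact hadj i h (hcon _ h1 _ ⟨hi1, h2⟩)
  obtain ⟨s, hs⟩ := hne
  obtain ⟨s', hs'S, hs'J⟩ := hcomp
  obtain ⟨i, hi, rfl⟩ := List.getElem_of_mem ((hS s).mp (hJ hs))
  obtain ⟨i', hi', rfl⟩ := List.getElem_of_mem ((hS s').mp hs'S)
  exact hs'J ((key i' hi').mpr ((key i hi).mp hs))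

section

variable {D : ChevalleyDatum} {F : Type*} [Field F]

/-- a commutator of two representatives that moves a root does not lie in `B` -/
theorem comm_nP_not_mem_borel (hD : D ∈ [chevG2, chevB2, chevD4, chevF4, chevE6, chevE7, chevE8])
    {l l' : List ℕ} (hl : ∀ i ∈ l, i < D.rank) (hl' : ∀ i ∈ l', i < D.rank) {s : ℕ}
    (hs : s < D.nroots)
    (hne : reflWord D l (reflWord D l' (reflWord D l.reverse (reflWord D l'.reverse s))) ≠ s) :
    nP D F l * nP D F l' * (nP D F l)⁻¹ * (nP D F l')⁻¹ ∉ D.borelSubgroup F := by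
  have V := valid0_of_mem hD
  have V1 := valid1_of_mem hD
  have J := validJ_of_mem hD
  have H := validH_of_mem hD
  have C := copP_of_mem hD
  have hI := checkInv_of_mem hD
  intro hB
  have hN : nP D F l * nP D F l' * (nP D F l)⁻¹ * (nP D F l')⁻¹ ∈ D.monomialSubgroup F :=
    mul_mem (mul_mem (mul_mem (nP_mem_monomial hD hl) (nP_mem_monomial hD hl'))
      (inv_mem (nP_mem_monomial hD hl))) (inv_mem (nP_mem_monomial hD hl'))
  have hH : nP D F l * nP D F l' * (nP D F l)⁻¹ * (nP D F l')⁻¹ ∈ D.diagonalSubgroup F := by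
    rw [← borel_inf_monomial hD]
    exact ⟨hB, hN⟩
  have hP1 := rootPerm_torus V (torusLike_of_mem J V1 H hH)
  have hPl := (rootPermN_nP (F := F) J V1 H.nS l hl).rootPerm
  have hPl' := (rootPermN_nP (F := F) J V1 H.nS l' hl').rootPerm
  have hrl : ∀ i ∈ l.reverse, i < D.rank := fun i hi => hl i (List.mem_reverse.mp hi)
  have hrl' : ∀ i ∈ l'.reverse, i < D.rank := fun i hi => hl' i (List.mem_reverse.mp hi)
  have hPli := hPl.inv_unit (τ := reflWord D l.reverse) (fun s hs =>
    ⟨reflWord_lt J H.nS hrl hs, reflWord_reverse_cancel J H.nS hI hl hs⟩)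
  have hPli' := hPl'.inv_unit (τ := reflWord D l'.reverse) (fun s hs =>
    ⟨reflWord_lt J H.nS hrl' hs, reflWord_reverse_cancel J H.nS hI hl' hs⟩)
  have hP2 := ((hPl.mul hPl').mul hPli).mul hPli'
  rw [← Units.val_mul, ← Units.val_mul, ← Units.val_mul] at hP2
  have hinv : ((nP D F l * nP D F l' * (nP D F l)⁻¹ * (nP D F l')⁻¹ : GL D.Idx F) :
      Matrix D.Idx D.Idx F) *
      (((nP D F l * nP D F l' * (nP D F l)⁻¹ * (nP D F l')⁻¹)⁻¹ : GL D.Idx F) :
        Matrix D.Idx D.Idx F) = 1 := by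
    rw [← Units.val_mul, mul_inv_cancel, Units.val_one]
  have hu := rootPerm_unique V C hinv hP1 hP2 hs
  exact hne hu.symm

end

namespace TwGrp

variable {D : ChevalleyDatum} {F : Type*} [Field F] {ρ ρ' π π' : ℕ → ℕ} {ε : ℕ → ℤ}
  {T : TwOk D ρ ρ' π π' ε} {φ : F →+* F} {cls : List (List ℕ)} {G1 : Subgroup (GL D.Idx F)}

theorem nontrivial (X : TwGrp T φ cls G1) : Nontrivial ↥G1 := by
  have hD := X.hD
  have V := valid0_of_mem hD
  have V1 := valid1_of_mem hD
  have VJ := validJ_of_mem hD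
  have hdyn := checkDyn_of_mem hD
  simp only [checkDyn, Bool.and_eq_true, Nat.blt_eq] at hdyn
  obtain ⟨J, hJ, _⟩ := X.cd.cover 0 hdyn.1
  have hJok := X.cd.ok J hJ
  have hne : J ≠ [] := by
    obtain ⟨j₀, J', e, _⟩ := hJok.rot
    rw [e]; simp
  obtain ⟨hm, hc⟩ := X.wG_cls_mem hJ (f := D.simple) (by simp) (t := 1)
    (Function.iterate_fixed (map_one φ) _)
  refine ⟨⟨⟨_, hm⟩, 1, fun h => ?_⟩⟩
  have h2 : wG D F (clsWS D.simple φ J 1) = 1 := congrArg Subtype.val h
  have h3 : wN D F (clsWS D.simple φ J (1 : F)) = wN D F (clsWS D.simple φ J (0 : F)) := by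
    rw [wN_clsWS_zero V, ← hc, h2, Units.val_one]
  exact one_ne_zero (clsWS_inj hD φ hJok.orthL hne h3)

/-- simplicity of a perfect twisted group whose classes form a chain -/
theorem simple (X : TwGrp T φ cls G1) (hperf : G1 ≤ ⁅G1, G1⁆) (L : List (List ℕ))
    (hL : ∀ J, J ∈ L ↔ J ∈ cls)
    (hadj : ∀ i (h : i + 1 < L.length), ∃ s < D.nroots,
      reflWord D L[i] (reflWord D L[i + 1] (reflWord D L[i].reverse
        (reflWord D L[i + 1].reverse s))) ≠ s) :
    IsSimpleGroup ↥G1 ∧ ¬ IsMulCommutative ↥G1 := by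
  have hD := X.hD
  have V := valid0_of_mem hD
  have V1 := valid1_of_mem hD
  have VJ := validJ_of_mem hD
  have H := validH_of_mem hD
  have := X.nontrivial
  have hperf' := commutator_eq_top_of_le G1 hperf
  obtain ⟨P, hB, hN, hS⟩ := X.bnpair
  have hLc : ∀ J ∈ L, J ∈ cls := fun J hJ => (hL J).mp hJ
  refine ⟨?_, ?_⟩
  · apply BN.isSimpleGroup P ?_ ?_ hperf' ?_
    · -- irreducible
      have hmem : ∀ J ∈ L, nP D F J ∈ G1 := fun J hJ => X.nP_cls_mem' (hLc J hJ)
      let L' : List ↥G1 := L.attach.map fun J => ⟨nP D F J.1, hmem J.1 J.2⟩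
      have hlen : L'.length = L.length := by simp [L']
      have hget : ∀ i (h : i < L'.length), ((L'[i] : ↥G1) : GL D.Idx F) =
          nP D F (L[i]'(by omega)) := by
        intro i h
        simp [L']
      apply irr_of_chain P L'
      · intro s
        rw [hS]
        constructor
        · rintro ⟨J, hJ, e⟩
          have hJL := (hL J).mpr hJ
          rw [List.mem_map]
          exact ⟨⟨J, hJL⟩, List.mem_attach _ _, Subtype.ext e.symm⟩
        · intro hs
          rw [List.mem_map] at hs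
          obtain ⟨⟨J, hJL⟩, _, rfl⟩ := hs
          exact ⟨J, hLc J hJL, rfl⟩
      · intro i hi
        have hi' : i + 1 < L.length := by omega
        obtain ⟨s, hs, hne⟩ := hadj i hi'
        rw [hB, Subgroup.mem_subgroupOf]
        intro hcon
        have h1 := (Subgroup.mem_inf.mp hcon).1
        simp only [Subgroup.coe_mul, Subgroup.coe_inv, hget] at h1
        exact comm_nP_not_mem_borel hD (X.cd.ok _ (hLc _ (List.getElem_mem _))).lt
          (X.cd.ok _ (hLc _ (List.getElem_mem _))).lt hs hne h1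
    · -- `B¹` is solvable
      rw [hB]
      have : Group.IsNilpotent ↥(D.posUnipotent F) := Cfsg.Agent.S1029.result D hD
      have hsol : Group.IsSolvable ↥(D.borelSubgroup F) := borel_isSolvable VJ V1 H
      let f1 : ↥((D.borelSubgroup F ⊓ G1).subgroupOf G1) →* ↥(D.borelSubgroup F ⊓ G1) :=
        (Subgroup.subgroupOfEquivOfLe (inf_le_right : D.borelSubgroup F ⊓ G1 ≤ G1)).toMonoidHom
      let f2 : ↥(D.borelSubgroup F ⊓ G1) →* ↥(D.borelSubgroup F) :=
        Subgroup.inclusion inf_le_left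
      have hf2 : Function.Injective f2 := Subgroup.inclusion_injective inf_le_left
      have hf1 : Function.Injective f1 :=
        (Subgroup.subgroupOfEquivOfLe (inf_le_right : D.borelSubgroup F ⊓ G1 ≤ G1)).injective
      exact Group.isSolvable_of_isSolvable_injective (f := f2.comp f1) (hf2.comp hf1)
    · rw [hB]
      exact X.core_eq_bot
  · intro hc
    have := commutator_eq_bot_of_comm (G := ↥G1) (fun a b => hc.is_comm.comm a b)
    rw [hperf'] at this
    exact top_ne_bot this

end TwGrp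

end Cfsg.Agent.Lib.Helper8.Chev
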