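import Cfsg.Agent.Lib.Helper8.ChevF

set_option autoImplicit false

namespace Cfsg.Agent.Lib.Helper8.Chev

open Cfsg.Lie Matrix

variable {D : ChevalleyDatum}

/-! ### Divided powers of `ad e_r` -/

/-- `M_{r,s,k}` read off a chain entry -/
def cm (L : List (ℕ × ℤ)) (k : ℕ) : ℤ := ((L[k - 1]?).map Prod.snd).getD 0

/-- index of `k r + s` read off a chain entry (`d` when absent) -/
def cr (d : ℕ) (L : List (ℕ × ℤ)) (k : ℕ) : ℕ := ((L[k - 1]?).map Prod.fst).getD d

theorem chainM_eq_cm (D : ChevalleyDatum) (r s k : ℕ) : D.chainM r s k = cm (D.chainEntry r s) k := rfl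

/-- the columns of the `k`-th divided power of `ad e_r` -/
def dpCol (D : ChevalleyDatum) (R : Type*) [CommRing R] (r k : ℕ) : D.Idx → (D.Idx → R)
  | Sum.inl i => if k = 0 then Hb D R i.val else if k = 1 then (-(D.cartan i.val r : R)) • E D R r else 0
  | Sum.inr s => if k = 0 then E D R s.val else
      if s.val = r then 0
      else if s.val = D.neg r then (if k = 1 then Hr D R r else if k = 2 then - E D R r else 0)
      else ((cm (D.chainEntry r s.val) k : ℤ) : R) • E D R (cr D.nroots (D.chainEntry r s.val) k)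

/-- the `k`-th divided power of `ad e_r` as a matrix -/
def dp (D : ChevalleyDatum) (R : Type*) [CommRing R] (r k : ℕ) : Matrix D.Idx D.Idx R :=
  Matrix.of fun row col => dpCol D R r k col row

variable (R : Type*) [CommRing R]

theorem dp_mulVec_Hb (r k : ℕ) {i : ℕ} (hi : i < D.rank) :
    dp D R r k *ᵥ Hb D R i =
      if k = 0 then Hb D R i else if k = 1 then (-(D.cartan i r : R)) • E D R r else 0 := by
  funext idx
  rw [mulVec_Hb _ hi]
  rfl

theorem dp_mulVec_E_self (r k : ℕ) (hr : r < D.nroots) :
    dp D R r k *ᵥ E D R r = if k = 0 then E D R r else 0 := by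
  funext idx
  rw [mulVec_E _ hr]
  show dpCol D R r k (Sum.inr ⟨r, hr⟩) idx = _
  simp only [dpCol, if_true]

theorem dp_mulVec_E_neg (V : Valid0 D) (r k : ℕ) (hr : r < D.nroots) :
    dp D R r k *ᵥ E D R (D.neg r) = if k = 0 then E D R (D.neg r) else
      if k = 1 then Hr D R r else if k = 2 then - E D R r else 0 := by
  funext idx
  rw [mulVec_E _ (V.neg_lt hr)]
  show dpCol D R r k (Sum.inr ⟨D.neg r, V.neg_lt hr⟩) idx = _
  simp only [dpCol, if_true, if_neg (V.neg_ne hr)]

theorem dp_mulVec_E (r k : ℕ) {s : ℕ} (hs : s < D.nroots) (h1 : s ≠ r) (h2 : s ≠ D.neg r) :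
    dp D R r k *ᵥ E D R s = if k = 0 then E D R s else
      ((cm (D.chainEntry r s) k : ℤ) : R) • E D R (cr D.nroots (D.chainEntry r s) k) := by
  funext idx
  rw [mulVec_E _ hs]
  show dpCol D R r k (Sum.inr ⟨s, hs⟩) idx = _
  simp only [dpCol, if_neg h1, if_neg h2]

theorem E_of_ge {u : ℕ} (h : D.nroots ≤ u) : E D R u = 0 := by
  unfold E; rw [dif_neg (by omega)]

theorem dp_zero (V : Valid0 D) (r : ℕ) (hr : r < D.nroots) : dp D R r 0 = 1 := by
  apply ext_mulVec
  · intro i hi; rw [dp_mulVec_Hb R r 0 hi, Matrix.one_mulVec]; simp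
  · intro u hu
    rw [Matrix.one_mulVec]
    by_cases h1 : u = r
    · subst h1; rw [dp_mulVec_E_self R u 0 hr]; simp
    · by_cases h2 : u = D.neg r
      · subst h2; rw [dp_mulVec_E_neg R V r 0 hr]; simp
      · rw [dp_mulVec_E R r 0 hu h1 h2]; simp

/-- the coroot vector as a combination of the fundamental coroot vectors -/
theorem Hr_eq_sum (r : ℕ) : Hr D R r = ∑ i ∈ Finset.range D.rank, (cor D r i : R) • Hb D R i := by
  funext idx
  rw [Finset.sum_apply]
  rcases idx with i | u
  · simp only [Hr_apply_inl, Pi.smul_apply, Hb_apply_inl, smul_eq_mul]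
    rw [Finset.sum_eq_single i.val]
    · simp
    · intro b _ hb; rw [if_neg (fun h => hb h.symm)]; simp
    · intro h; exact absurd (Finset.mem_range.mpr i.isLt) h
  · simp

theorem chainVec_eq_sum (r s : ℕ) (t : R) (hlen : (D.chainEntry r s).length ≤ 3) :
    chainVec D R r s t = ∑ k ∈ Finset.range 3,
      (t ^ (k + 1)) • (((cm (D.chainEntry r s) (k + 1) : ℤ) : R) •
        E D R (cr D.nroots (D.chainEntry r s) (k + 1))) := by
  unfold chainVec
  generalize D.chainEntry r s = L at hlen
  match L, hlen with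
  | [], _ => simp [cm, cr, Finset.sum_range_succ]
  | [a], _ => simp [cm, cr, Finset.sum_range_succ, List.zipIdx, smul_smul, mul_comm]
  | [a, b], _ => simp [cm, cr, Finset.sum_range_succ, List.zipIdx, smul_smul, mul_comm]
  | [a, b, c], _ => simp [cm, cr, Finset.sum_range_succ, List.zipIdx, smul_smul, mul_comm, add_assoc]
  | _ :: _ :: _ :: _ :: _, h => exact absurd h (by simp)


/-! ### Consequences of level 1 validity -/

theorem cm_of_length_lt {L : List (ℕ × ℤ)} {k : ℕ} (h : L.length < k) : cm L k = 0 := by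
  unfold cm
  rw [List.getElem?_eq_none (by omega)]
  rfl

/-- uniform form of the consistency of the chains along a string -/
def TailOK (D : ChevalleyDatum) (r : ℕ) (L : List (ℕ × ℤ)) : Prop :=
  ∀ k j, 1 ≤ k → 1 ≤ j → ∀ u M, L[k - 1]? = some (u, M) →
    M * cm (D.chainEntry r u) j = ((j + k).choose k : ℤ) * cm L (j + k) ∧
    (j + k ≤ L.length → cr D.nroots (D.chainEntry r u) j = cr D.nroots L (j + k))

theorem tailOK_of_shape {r : ℕ} {L : List (ℕ × ℤ)} (h : Shape D r L) : TailOK D r L := by
  intro k j hk hj u M hu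
  match L, h with
  | [(u1, M1)], h =>
    have hk1 : k = 1 := by
      by_contra hne
      have : (k - 1) ≥ 1 := by omega
      rw [List.getElem?_eq_none (by simp; omega)] at hu
      exact absurd hu (by simp)
    subst hk1
    simp only [Nat.sub_self, List.getElem?_cons_zero, Option.some.injEq, Prod.mk.injEq] at hu
    obtain ⟨rfl, rfl⟩ := hu
    simp only [Shape] at h
    rw [h]
    refine ⟨?_, fun hl => absurd hl (by simp; omega)⟩
    rw [cm_of_length_lt (by simp; omega), cm_of_length_lt (by simp; omega)]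
    ring
  | [(u1, M1), (u2, M2)], h =>
    simp only [Shape] at h
    obtain ⟨⟨N, h1, hN⟩, h2⟩ := h
    have hk2 : k = 1 ∨ k = 2 := by
      by_contra hne
      rw [List.getElem?_eq_none (by simp; omega)] at hu
      exact absurd hu (by simp)
    rcases hk2 with rfl | rfl
    · simp only [Nat.sub_self, List.getElem?_cons_zero, Option.some.injEq, Prod.mk.injEq] at hu
      obtain ⟨rfl, rfl⟩ := hu
      rw [h1]
      by_cases hj1 : j = 1
      · subst hj1
        refine ⟨?_, fun _ => by simp [cr]⟩
        simp [cm, Nat.choose]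
        linarith
      · refine ⟨?_, fun hl => absurd hl (by simp; omega)⟩
        rw [cm_of_length_lt (by simp; omega), cm_of_length_lt (by simp; omega)]
        ring
    · simp only [show 2 - 1 = 1 from rfl, List.getElem?_cons_succ, List.getElem?_cons_zero,
        Option.some.injEq, Prod.mk.injEq] at hu
      obtain ⟨rfl, rfl⟩ := hu
      rw [h2]
      refine ⟨?_, fun hl => absurd hl (by simp; omega)⟩
      rw [cm_of_length_lt (by simp; omega), cm_of_length_lt (by simp; omega)]
      ring
  | [(u1, M1), (u2, M2), (u3, M3)], h =>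
    simp only [Shape] at h
    obtain ⟨⟨N2, N3, h1, hN2, hN3⟩, ⟨N, h2, hN⟩, h3⟩ := h
    have hk3 : k = 1 ∨ k = 2 ∨ k = 3 := by
      by_contra hne
      rw [List.getElem?_eq_none (by simp; omega)] at hu
      exact absurd hu (by simp)
    rcases hk3 with rfl | rfl | rfl
    · simp only [Nat.sub_self, List.getElem?_cons_zero, Option.some.injEq, Prod.mk.injEq] at hu
      obtain ⟨rfl, rfl⟩ := hu
      rw [h1]
      by_cases hj1 : j = 1
      · subst hj1
        refine ⟨?_, fun _ => by simp [cr]⟩
        simp [cm, Nat.choose]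
        linarith
      · by_cases hj2 : j = 2
        · subst hj2
          refine ⟨?_, fun _ => by simp [cr]⟩
          simp [cm, Nat.choose]
          linarith
        · refine ⟨?_, fun hl => absurd hl (by simp; omega)⟩
          rw [cm_of_length_lt (by simp; omega), cm_of_length_lt (by simp; omega)]
          ring
    · simp only [show 2 - 1 = 1 from rfl, List.getElem?_cons_succ, List.getElem?_cons_zero,
        Option.some.injEq, Prod.mk.injEq] at hu
      obtain ⟨rfl, rfl⟩ := hu
      rw [h2]
      by_cases hj1 : j = 1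
      · subst hj1
        refine ⟨?_, fun _ => by simp [cr]⟩
        simp [cm, Nat.choose]
        linarith
      · refine ⟨?_, fun hl => absurd hl (by simp; omega)⟩
        rw [cm_of_length_lt (by simp; omega), cm_of_length_lt (by simp; omega)]
        ring
    · simp only [show 3 - 1 = 2 from rfl, List.getElem?_cons_succ, List.getElem?_cons_zero,
        Option.some.injEq, Prod.mk.injEq] at hu
      obtain ⟨rfl, rfl⟩ := hu
      rw [h3]
      refine ⟨?_, fun hl => absurd hl (by simp; omega)⟩
      rw [cm_of_length_lt (by simp; omega), cm_of_length_lt (by simp; omega)]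
      ring

theorem length_le_of_shape {r : ℕ} {L : List (ℕ × ℤ)} (h : Shape D r L) : L.length ≤ 3 := by
  match L, h with
  | [_], _ => simp
  | [_, _], _ => simp
  | [_, _, _], _ => simp

theorem shape_chainEntry (V : Valid0 D) (V1 : Valid1 D) {r : ℕ} (hr : r < D.nroots) (s : ℕ) :
    D.chainEntry r s = [] ∨ Shape D r (D.chainEntry r s) := by
  by_cases h : D.chainEntry r s = []
  · exact Or.inl h
  · right
    obtain ⟨e, he, _, he2⟩ := chainEntry_mem D h
    rw [← he2]
    exact V1.shape r hr e he

theorem chainEntry_length_le (V : Valid0 D) (V1 : Valid1 D) {r : ℕ} (hr : r < D.nroots) (s : ℕ) :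
    (D.chainEntry r s).length ≤ 3 := by
  rcases shape_chainEntry V V1 hr s with h | h
  · rw [h]; simp
  · exact length_le_of_shape h

theorem tailOK_chainEntry (V : Valid0 D) (V1 : Valid1 D) {r : ℕ} (hr : r < D.nroots) (s : ℕ) :
    TailOK D r (D.chainEntry r s) := by
  rcases shape_chainEntry V V1 hr s with h | h
  · rw [h]; intro k j _ _ u M hu; simp at hu
  · exact tailOK_of_shape h

/-- members of a chain are roots different from `±r` -/
theorem chainEntry_tgt (V : Valid0 D) {r : ℕ} (hr : r < D.nroots) {s k u : ℕ} {M : ℤ}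
    (h : (D.chainEntry r s)[k]? = some (u, M)) : u < D.nroots ∧ u ≠ r ∧ u ≠ D.neg r := by
  have hne : D.chainEntry r s ≠ [] := by
    intro h0; rw [h0] at h; simp at h
  obtain ⟨e, he, _, he2⟩ := chainEntry_mem D hne
  rw [← he2] at h
  have hq : (u, M) ∈ e.2.toList := List.mem_of_getElem? h
  exact ⟨V.tgt_lt r hr e he _ hq, V.tgt_ne r hr e he _ hq, V.tgt_ne_neg r hr e he _ hq⟩

end Cfsg.Agent.Lib.Helper8.Chev
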