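import Cfsg.Agent.Lib.Helper8.ChevU5

set_option autoImplicit false

namespace Cfsg.Agent.Lib.Helper8.Chev

open Cfsg.Lie Matrix

/-! ### Graph automorphisms as signed permutation matrices -/

/-- columns of the signed permutation matrix of a graph automorphism -/
def gaCol (D : ChevalleyDatum) (R : Type*) [CommRing R] (ρ π : ℕ → ℕ) (ε : ℕ → ℤ) :
    D.Idx → (D.Idx → R)
  | Sum.inl i => Hb D R (ρ i.val)
  | Sum.inr s => ((ε s.val : ℤ) : R) • E D R (π s.val)

/-- the signed permutation matrix `h_i ↦ h_{ρ i}`, `e_r ↦ ε_r e_{π r}` -/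
def gaM (D : ChevalleyDatum) (R : Type*) [CommRing R] (ρ π : ℕ → ℕ) (ε : ℕ → ℤ) :
    Matrix D.Idx D.Idx R :=
  Matrix.of fun row col => gaCol D R ρ π ε col row

/-- the conditions on the data of a graph automorphism -/
structure GAOk (D : ChevalleyDatum) (ρ ρ' π π' : ℕ → ℕ) (ε : ℕ → ℤ) : Prop where
  hρ : ∀ i < D.rank, ρ i < D.rank ∧ ρ' (ρ i) = i
  hρ' : ∀ i < D.rank, ρ' i < D.rank ∧ ρ (ρ' i) = i
  hπ : ∀ r < D.nroots, π r < D.nroots ∧ π' (π r) = r
  hπ' : ∀ r < D.nroots, π' r < D.nroots ∧ π (π' r) = r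
  hε : ∀ r < D.nroots, ε r = 1 ∨ ε r = -1
  hcart : ∀ i < D.rank, ∀ r < D.nroots, D.cartan (ρ i) (π r) = D.cartan i r
  hcor : ∀ i < D.rank, ∀ r < D.nroots, cor D (π r) (ρ i) = cor D r i
  hneg : ∀ r < D.nroots, π (D.neg r) = D.neg (π r) ∧ ε (D.neg r) = ε r
  hchain : ∀ r < D.nroots, ∀ s < D.nroots, ∀ k < 3,
    cm (D.chainEntry (π r) (π s)) (k + 1) =
      cm (D.chainEntry r s) (k + 1) * ε (cr D.nroots (D.chainEntry r s) (k + 1)) * ε s *
        ε r ^ (k + 1) ∧
    (cm (D.chainEntry r s) (k + 1) ≠ 0 →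
      cr D.nroots (D.chainEntry (π r) (π s)) (k + 1) =
        π (cr D.nroots (D.chainEntry r s) (k + 1)))
  hsimple : ∀ i < D.rank, π (D.simple i) = D.simple (ρ i) ∧ ε (D.simple i) = 1

section

variable {D : ChevalleyDatum} (R : Type*) [CommRing R] (ρ ρ' π π' : ℕ → ℕ) (ε : ℕ → ℤ)

theorem gaM_mulVec_Hb {i : ℕ} (hi : i < D.rank) :
    gaM D R ρ π ε *ᵥ Hb D R i = Hb D R (ρ i) := by
  funext idx
  rw [mulVec_Hb _ hi]
  rfl

theorem gaM_mulVec_E {s : ℕ} (hs : s < D.nroots) :
    gaM D R ρ π ε *ᵥ E D R s = ((ε s : ℤ) : R) • E D R (π s) := by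
  funext idx
  rw [mulVec_E _ hs]
  rfl

variable {ρ ρ' π π' ε}

theorem eps_sq (h : GAOk D ρ ρ' π π' ε) {r : ℕ} (hr : r < D.nroots) :
    ((ε r : ℤ) : R) * ((ε r : ℤ) : R) = 1 := by
  rcases h.hε r hr with h1 | h1 <;> rw [h1] <;> simp

theorem gaM_mulVec_Hr (h : GAOk D ρ ρ' π π' ε) {r : ℕ} (hr : r < D.nroots) :
    gaM D R ρ π ε *ᵥ Hr D R r = Hr D R (π r) := by
  rw [Hr_eq_sum, Hr_eq_sum, Matrix.mulVec_sum]
  symm
  apply Finset.sum_nbij' ρ' ρ
  · intro j hj
    rw [Finset.mem_range] at hj ⊢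
    exact (h.hρ' j hj).1
  · intro i hi
    rw [Finset.mem_range] at hi ⊢
    exact (h.hρ i hi).1
  · intro j hj
    rw [Finset.mem_range] at hj
    exact (h.hρ' j hj).2
  · intro i hi
    rw [Finset.mem_range] at hi
    exact (h.hρ i hi).2
  · intro j hj
    rw [Finset.mem_range] at hj
    have h1 := h.hρ' j hj
    rw [Matrix.mulVec_smul, gaM_mulVec_Hb R ρ π ε h1.1, h1.2]
    have h2 := h.hcor (ρ' j) h1.1 r hr
    rw [h1.2] at h2
    rw [h2]

theorem pi_inj (h : GAOk D ρ ρ' π π' ε) {r s : ℕ} (hr : r < D.nroots) (hs : s < D.nroots)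
    (he : π r = π s) : r = s := by
  rw [← (h.hπ r hr).2, ← (h.hπ s hs).2, he]

/-- the fundamental intertwining relation -/
theorem gaM_mul_xN (V : Valid0 D) (V1 : Valid1 D) (h : GAOk D ρ ρ' π π' ε) {r : ℕ}
    (hr : r < D.nroots) (t : R) :
    gaM D R ρ π ε * xN D R r t = xN D R (π r) (((ε r : ℤ) : R) * t) * gaM D R ρ π ε := by
  have hπr := (h.hπ r hr).1
  apply ext_mulVec
  · intro i hi
    rw [← Matrix.mulVec_mulVec, ← Matrix.mulVec_mulVec, xN_mulVec_Hb R hr t hi,
      gaM_mulVec_Hb R ρ π ε hi, xN_mulVec_Hb R hπr _ (h.hρ i hi).1, Matrix.mulVec_sub,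
      Matrix.mulVec_smul, gaM_mulVec_Hb R ρ π ε hi, gaM_mulVec_E R ρ π ε hr, h.hcart i hi r hr,
      smul_smul]
    congr 2
    ring
  · intro s hs
    rw [← Matrix.mulVec_mulVec, ← Matrix.mulVec_mulVec, gaM_mulVec_E R ρ π ε hs,
      Matrix.mulVec_smul]
    by_cases h1 : s = r
    · subst h1
      rw [xN_mulVec_E_self R hr, xN_mulVec_E_self R hπr, gaM_mulVec_E R ρ π ε hs]
    by_cases h2 : s = D.neg r
    · subst h2
      have hn := h.hneg r hr
      rw [xN_mulVec_E_neg V R hr, hn.1, xN_mulVec_E_neg V R hπr, Matrix.mulVec_sub,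
        Matrix.mulVec_add, Matrix.mulVec_smul, Matrix.mulVec_smul,
        gaM_mulVec_E R ρ π ε (V.neg_lt hr), gaM_mulVec_E R ρ π ε hr, gaM_mulVec_Hr R h hr,
        hn.1, hn.2]
      have e := eps_sq R h hr
      generalize ((ε r : ℤ) : R) = c at e ⊢
      rw [smul_sub, smul_add, smul_smul, smul_smul, smul_smul]
      have e1 : c * (c * t) = t := by rw [← mul_assoc, e, one_mul]
      have e2 : c * (c * t) ^ 2 = t ^ 2 * c := by
        have : c * (c * t) ^ 2 = (c * c) * c * t ^ 2 := by ring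
        rw [this, e, one_mul, mul_comm]
      rw [e1, e2]
    · have hπs := (h.hπ s hs).1
      have h1' : π s ≠ π r := fun he => h1 (pi_inj h hs hr he)
      have h2' : π s ≠ D.neg (π r) := by
        intro he
        rw [← (h.hneg r hr).1] at he
        exact h2 (pi_inj h hs (V.neg_lt hr) he)
      rw [xN_mulVec_E V R hr t hs h1 h2, xN_mulVec_E V R hπr _ hπs h1' h2', Matrix.mulVec_add,
        gaM_mulVec_E R ρ π ε hs, smul_add]
      congr 1
      rw [chainVec_eq_sum R r s t (chainEntry_length_le V V1 hr s),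
        chainVec_eq_sum R (π r) (π s) _ (chainEntry_length_le V V1 hπr (π s)),
        Matrix.mulVec_sum, Finset.smul_sum]
      apply Finset.sum_congr rfl
      intro k hk
      rw [Finset.mem_range] at hk
      obtain ⟨hc1, hc2⟩ := h.hchain r hr s hs k hk
      rw [Matrix.mulVec_smul, Matrix.mulVec_smul]
      by_cases h0 : cm (D.chainEntry r s) (k + 1) = 0
      · rw [hc1, h0]
        simp
      · rw [hc2 h0, hc1]
        -- the target root
        have hlt : cr D.nroots (D.chainEntry r s) (k + 1) < D.nroots := by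
          unfold cm at h0
          unfold cr
          rw [Nat.add_sub_cancel] at h0 ⊢
          cases hq : (D.chainEntry r s)[k]? with
          | none => rw [hq] at h0; exact absurd rfl h0
          | some q =>
            have := (chainEntry_tgt V hr (s := s) (k := k) (u := q.1) (M := q.2) hq).1
            simpa using this
        rw [gaM_mulVec_E R ρ π ε hlt]
        have e := eps_sq R h hr
        have es := eps_sq R h hs
        generalize cr D.nroots (D.chainEntry r s) (k + 1) = u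
        generalize cm (D.chainEntry r s) (k + 1) = M
        push_cast
        generalize ((ε r : ℤ) : R) = c at e ⊢
        generalize ((ε s : ℤ) : R) = d at es ⊢
        simp only [smul_smul]
        congr 1
        have e3 : (c * t) ^ (k + 1) * c ^ (k + 1) = t ^ (k + 1) := by
          rw [mul_pow, mul_comm (c ^ (k + 1)), mul_assoc, ← mul_pow, e, one_pow, mul_one]
        symm
        calc d * ((c * t) ^ (k + 1) * ((M : R) * ((ε u : ℤ) : R) * d * c ^ (k + 1)))
            = (d * d) * ((c * t) ^ (k + 1) * c ^ (k + 1)) * ((M : R) * ((ε u : ℤ) : R)) := by ring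
          _ = t ^ (k + 1) * ((M : R) * ((ε u : ℤ) : R)) := by rw [es, e3]; ring

end

end Cfsg.Agent.Lib.Helper8.Chev
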