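import Cfsg.Agent.Lib.Helper8.ChevGA1
import Cfsg.Agent.Lib.Helper8.ChevW2

set_option autoImplicit false

namespace Cfsg.Agent.Lib.Helper8.Chev

open Cfsg.Lie Matrix

section

variable {D : ChevalleyDatum} (R : Type*) [CommRing R] {ρ ρ' π π' : ℕ → ℕ} {ε : ℕ → ℤ}

theorem gaM_mul_inv (h : GAOk D ρ ρ' π π' ε) :
    gaM D R ρ π ε * gaM D R ρ' π' (fun r => ε (π' r)) = 1 := by
  apply ext_mulVec
  · intro i hi
    have h1 := h.hρ' i hi
    rw [← Matrix.mulVec_mulVec, gaM_mulVec_Hb R ρ' π' _ hi, gaM_mulVec_Hb R ρ π ε h1.1, h1.2,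
      Matrix.one_mulVec]
  · intro s hs
    have h1 := h.hπ' s hs
    rw [← Matrix.mulVec_mulVec, gaM_mulVec_E R ρ' π' _ hs, Matrix.mulVec_smul,
      gaM_mulVec_E R ρ π ε h1.1, h1.2, smul_smul, eps_sq R h h1.1, one_smul, Matrix.one_mulVec]

theorem gaM_inv_mul (h : GAOk D ρ ρ' π π' ε) :
    gaM D R ρ' π' (fun r => ε (π' r)) * gaM D R ρ π ε = 1 := by
  apply ext_mulVec
  · intro i hi
    have h1 := h.hρ i hi
    rw [← Matrix.mulVec_mulVec, gaM_mulVec_Hb R ρ π ε hi, gaM_mulVec_Hb R ρ' π' _ h1.1, h1.2,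
      Matrix.one_mulVec]
  · intro s hs
    have h1 := h.hπ s hs
    rw [← Matrix.mulVec_mulVec, gaM_mulVec_E R ρ π ε hs, Matrix.mulVec_smul,
      gaM_mulVec_E R ρ' π' _ h1.1, h1.2, smul_smul, eps_sq R h hs, one_smul, Matrix.one_mulVec]

end

section

variable {D : ChevalleyDatum} {F : Type*} [Field F] {ρ ρ' π π' : ℕ → ℕ} {ε : ℕ → ℤ}

/-- the signed permutation matrix as an invertible matrix -/
def gaU (F : Type*) [Field F] (h : GAOk D ρ ρ' π π' ε) : GL D.Idx F :=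
  ⟨gaM D F ρ π ε, gaM D F ρ' π' (fun r => ε (π' r)), gaM_mul_inv F h, gaM_inv_mul F h⟩

theorem coe_gaU (h : GAOk D ρ ρ' π π' ε) :
    ((gaU F h : GL D.Idx F) : Matrix D.Idx D.Idx F) = gaM D F ρ π ε := rfl

theorem coe_gaU_inv (h : GAOk D ρ ρ' π π' ε) :
    (((gaU F h)⁻¹ : GL D.Idx F) : Matrix D.Idx D.Idx F) = gaM D F ρ' π' (fun r => ε (π' r)) := rfl

theorem gaU_conj_x (V : Valid0 D) (V1 : Valid1 D) (h : GAOk D ρ ρ' π π' ε) {r : ℕ}
    (hr : r < D.nroots) (t : F) (g : GL D.Idx F)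
    (hg : (g : Matrix D.Idx D.Idx F) = D.x F r t) :
    ((gaU F h * g * (gaU F h)⁻¹ : GL D.Idx F) : Matrix D.Idx D.Idx F) =
      D.x F (π r) (((ε r : ℤ) : F) * t) := by
  rw [Units.val_mul, Units.val_mul, coe_gaU, coe_gaU_inv, hg, x_eq_xN, x_eq_xN,
    gaM_mul_xN F V V1 h hr, Matrix.mul_assoc, gaM_mul_inv F h, Matrix.mul_one]

theorem gaU_inv_conj_x (V : Valid0 D) (V1 : Valid1 D) (h : GAOk D ρ ρ' π π' ε) {r : ℕ}
    (hr : r < D.nroots) (t : F) (g : GL D.Idx F)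
    (hg : (g : Matrix D.Idx D.Idx F) = D.x F r t) :
    (((gaU F h)⁻¹ * g * gaU F h : GL D.Idx F) : Matrix D.Idx D.Idx F) =
      D.x F (π' r) (((ε (π' r) : ℤ) : F) * t) := by
  have h1 := h.hπ' r hr
  have key := gaM_mul_xN F V V1 h h1.1 (((ε (π' r) : ℤ) : F) * t)
  rw [h1.2, ← mul_assoc, eps_sq F h h1.1, one_mul] at key
  rw [Units.val_mul, Units.val_mul, coe_gaU, coe_gaU_inv, hg, x_eq_xN, x_eq_xN,
    Matrix.mul_assoc, ← key, ← Matrix.mul_assoc, gaM_inv_mul F h, Matrix.one_mul]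

theorem gaU_conj_mem (V : Valid0 D) (V1 : Valid1 D) (h : GAOk D ρ ρ' π π' ε) {g : GL D.Idx F}
    (hg : g ∈ D.group F) : gaU F h * g * (gaU F h)⁻¹ ∈ D.group F := by
  have hle : D.group F ≤ (D.group F).comap (MulAut.conj (gaU F h)).toMonoidHom := by
    unfold ChevalleyDatum.group
    rw [Subgroup.closure_le]
    rintro g ⟨r, t, hg⟩
    have hg' : (g : Matrix D.Idx D.Idx F) = D.x F r.val t := by
      rw [hg]; unfold ChevalleyDatum.x; rw [dif_pos r.isLt]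
    show gaU F h * g * (gaU F h)⁻¹ ∈ Subgroup.closure _
    exact x_mem_group (h.hπ r.val r.isLt).1 _ _ (gaU_conj_x V V1 h r.isLt t g hg')
  exact hle hg

theorem gaU_inv_conj_mem (V : Valid0 D) (V1 : Valid1 D) (h : GAOk D ρ ρ' π π' ε)
    {g : GL D.Idx F} (hg : g ∈ D.group F) : (gaU F h)⁻¹ * g * gaU F h ∈ D.group F := by
  have hle : D.group F ≤ (D.group F).comap (MulAut.conj (gaU F h)⁻¹).toMonoidHom := by
    unfold ChevalleyDatum.group
    rw [Subgroup.closure_le]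
    rintro g ⟨r, t, hg⟩
    have hg' : (g : Matrix D.Idx D.Idx F) = D.x F r.val t := by
      rw [hg]; unfold ChevalleyDatum.x; rw [dif_pos r.isLt]
    show (gaU F h)⁻¹ * g * ((gaU F h)⁻¹)⁻¹ ∈ Subgroup.closure _
    rw [inv_inv]
    exact x_mem_group (h.hπ' r.val r.isLt).1 _ _ (gaU_inv_conj_x V V1 h r.isLt t g hg')
  have := hle hg
  simpa using this

/-- the graph automorphism of the Chevalley group -/
def gaEquiv (V : Valid0 D) (V1 : Valid1 D) (h : GAOk D ρ ρ' π π' ε) :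
    ↥(D.group F) ≃* ↥(D.group F) where
  toFun g := ⟨gaU F h * (g : GL D.Idx F) * (gaU F h)⁻¹, gaU_conj_mem V V1 h g.2⟩
  invFun g := ⟨(gaU F h)⁻¹ * (g : GL D.Idx F) * gaU F h, gaU_inv_conj_mem V V1 h g.2⟩
  left_inv g := by
    apply Subtype.ext
    show (gaU F h)⁻¹ * (gaU F h * (g : GL D.Idx F) * (gaU F h)⁻¹) * gaU F h = g
    group
  right_inv g := by
    apply Subtype.ext
    show gaU F h * ((gaU F h)⁻¹ * (g : GL D.Idx F) * gaU F h) * (gaU F h)⁻¹ = g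
    group
  map_mul' a b := by
    apply Subtype.ext
    show gaU F h * ((a : GL D.Idx F) * (b : GL D.Idx F)) * (gaU F h)⁻¹ =
      gaU F h * (a : GL D.Idx F) * (gaU F h)⁻¹ * (gaU F h * (b : GL D.Idx F) * (gaU F h)⁻¹)
    group

theorem coe_gaEquiv (V : Valid0 D) (V1 : Valid1 D) (h : GAOk D ρ ρ' π π' ε)
    (g : ↥(D.group F)) :
    ((gaEquiv V V1 h g : ↥(D.group F)) : GL D.Idx F) =
      gaU F h * (g : GL D.Idx F) * (gaU F h)⁻¹ := rfl

/-- the graph automorphism maps fundamental root elements as prescribed -/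
theorem gaEquiv_simple (J : ValidJ D) (V1 : Valid1 D) (h : GAOk D ρ ρ' π π' ε)
    (g : ↥(D.group F)) {i : ℕ} (hi : i < D.rank) (t : F) :
    (((g : GL D.Idx F) : Matrix D.Idx D.Idx F) = D.x F (D.simple i) t →
      ((gaEquiv J.V V1 h g : GL D.Idx F) : Matrix D.Idx D.Idx F) = D.x F (D.simple (ρ i)) t) ∧
    (((g : GL D.Idx F) : Matrix D.Idx D.Idx F) = D.x F (D.neg (D.simple i)) t →
      ((gaEquiv J.V V1 h g : GL D.Idx F) : Matrix D.Idx D.Idx F) =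
        D.x F (D.neg (D.simple (ρ i))) t) := by
  have hs := (J.S i hi).1
  have h1 := h.hsimple i hi
  constructor
  · intro hg
    rw [coe_gaEquiv, gaU_conj_x J.V V1 h hs t _ hg, h1.1, h1.2]
    simp
  · intro hg
    have hn := h.hneg _ hs
    rw [coe_gaEquiv, gaU_conj_x J.V V1 h (J.V.neg_lt hs) t _ hg, hn.1, hn.2, h1.1, h1.2]
    simp

end

end Cfsg.Agent.Lib.Helper8.Chev
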