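import Cfsg.Agent.Lib.Helper8.ChevCz7

set_option autoImplicit false

namespace Cfsg.Agent.Lib.Helper8.Chev

open Cfsg.Lie Matrix

/-! ### The root elements of `G₂` as invertible matrices, and the relations of `U` in
characteristic two -/

section

variable {F : Type*} [Field F]

theorem hG2' : chevG2 ∈ [chevG2, chevB2, chevD4, chevF4, chevE6, chevE7, chevE8] := by simp

/-- the root element `x_k(t)` of `G₂` as an invertible matrix -/
noncomputable def X2 (F : Type*) [Field F] (k : ℕ) (t : F) : GL chevG2.Idx F :=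
  wG chevG2 F [(k, t)]

theorem coe_X2 {k : ℕ} (hk : k < 12) (t : F) :
    ((X2 F k t : GL chevG2.Idx F) : Matrix chevG2.Idx chevG2.Idx F) = chevG2.x F k t := by
  unfold X2
  rw [coe_wG (valid0_of_mem hG2') (valid1_of_mem hG2') _ (by
    intro p hp
    rw [List.mem_singleton] at hp
    subst hp
    exact hk), wN_cons, wN_nil, Matrix.mul_one, x_eq_xN]

theorem X2_mem_group {k : ℕ} (hk : k < 12) (t : F) : X2 F k t ∈ chevG2.group F :=
  x_mem_group (D := chevG2) hk t (X2 F k t) (coe_X2 hk t)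

theorem X2_add {k : ℕ} (hk : k < 12) (t s : F) : X2 F k t * X2 F k s = X2 F k (t + s) := by
  apply Units.ext
  rw [Units.val_mul, coe_X2 hk, coe_X2 hk, coe_X2 hk, x_eq_xN, x_eq_xN, x_eq_xN,
    xN_mul_xN F (valid0_of_mem hG2') (valid1_of_mem hG2') hk]

theorem X2_zero {k : ℕ} (hk : k < 12) : X2 F k (0 : F) = 1 := by
  apply Units.ext
  rw [coe_X2 hk, x_eq_xN, xN_zero (valid0_of_mem hG2')]
  rfl

theorem X2_inv {k : ℕ} (hk : k < 12) (t : F) : (X2 F k t)⁻¹ = X2 F k (-t) := by
  rw [inv_eq_iff_mul_eq_one, X2_add hk, add_neg_cancel, X2_zero hk]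

theorem X2_comm_of_nil {r s : ℕ} (hr : r < 12) (hs : s < 12) (h1 : s ≠ r) (h2 : s ≠ chevG2.neg r)
    (h : chevG2.commTerms r s = []) (t u : F) : X2 F s u * X2 F r t = X2 F r t * X2 F s u := by
  apply Units.ext
  rw [Units.val_mul, Units.val_mul, coe_X2 hr, coe_X2 hs]
  exact x_commute_of_nil hG2' hr hs h1 h2 h t u

end

end Cfsg.Agent.Lib.Helper8.Chev
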