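import Cfsg.Agent.Lib.Helper8.ChevGi1

set_option autoImplicit false
set_option linter.unusedSimpArgs false

namespace Cfsg.Agent.Lib.Helper8.Chev

open Cfsg.Lie Matrix

section

variable {F : Type*} [Field F]

theorem g2_ct67 : chevG2.commTerms 6 7 = [(8, 1, 1, 1), (9, 1, 1, 2), (10, -1, 1, 3), (11, -2, 2, 3)] := by
  decide +kernel
theorem g2_ct610 : chevG2.commTerms 6 10 = [(11, 1, 1, 1)] := by decide +kernel
theorem g2_ct78 : chevG2.commTerms 7 8 = [(9, -2, 1, 1), (10, -3, 2, 1), (11, 3, 1, 2)] := by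
  decide +kernel
theorem g2_ct79 : chevG2.commTerms 7 9 = [(10, 3, 1, 1)] := by decide +kernel
theorem g2_ct89 : chevG2.commTerms 8 9 = [(11, 3, 1, 1)] := by decide +kernel

theorem g2_nroots : chevG2.nroots = 12 := by decide

theorem X2_rel_word {r s : ℕ} (hr : r < 12) (hs : s < 12) (h1 : s ≠ r) (h2 : s ≠ chevG2.neg r)
    (t u : F) (w : List (ℕ × F)) (hw : chevG2.commWord F r s t u = w)
    (hlt : ∀ p ∈ w, p.1 < 12) :
    X2 F s u * X2 F r t = X2 F r t * (X2 F s u * wG chevG2 F w) := by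
  apply Units.ext
  rw [Units.val_mul, Units.val_mul, Units.val_mul, coe_X2 hr, coe_X2 hs,
    coe_wG (valid0_of_mem hG2') (valid1_of_mem hG2') _ hlt, ← hw, ← wordMat_eq_wN,
    ← Matrix.mul_assoc]
  exact comm_formula hG2' hr hs h1 h2 t u

theorem wG_cons {k : ℕ} (hk : k < 12) (t : F) (w : List (ℕ × F)) (hlt : ∀ p ∈ w, p.1 < 12) :
    wG chevG2 F ((k, t) :: w) = X2 F k t * wG chevG2 F w := by
  apply Units.ext
  rw [Units.val_mul, coe_X2 hk, coe_wG (valid0_of_mem hG2') (valid1_of_mem hG2') _ hlt,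
    coe_wG (valid0_of_mem hG2') (valid1_of_mem hG2'), wN_cons, x_eq_xN]
  intro p hp
  rw [List.mem_cons] at hp
  rcases hp with rfl | hp
  · exact hk
  · exact hlt p hp

theorem wG_nil : wG chevG2 F ([] : List (ℕ × F)) = 1 := by
  apply Units.ext
  rw [coe_wG (valid0_of_mem hG2') (valid1_of_mem hG2') _ (by simp), wN_nil]
  rfl

theorem g2_nil6_8 : chevG2.commTerms 6 8 = [] := by decide +kernel
theorem rel6_8 (t u : F) : X2 F 8 u * X2 F 6 t = X2 F 6 t * X2 F 8 u :=
  X2_comm_of_nil (by decide) (by decide) (by decide) (by decide) g2_nil6_8 t u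

theorem g2_nil6_9 : chevG2.commTerms 6 9 = [] := by decide +kernel
theorem rel6_9 (t u : F) : X2 F 9 u * X2 F 6 t = X2 F 6 t * X2 F 9 u :=
  X2_comm_of_nil (by decide) (by decide) (by decide) (by decide) g2_nil6_9 t u

theorem g2_nil6_11 : chevG2.commTerms 6 11 = [] := by decide +kernel
theorem rel6_11 (t u : F) : X2 F 11 u * X2 F 6 t = X2 F 6 t * X2 F 11 u :=
  X2_comm_of_nil (by decide) (by decide) (by decide) (by decide) g2_nil6_11 t u

theorem g2_nil7_10 : chevG2.commTerms 7 10 = [] := by decide +kernel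
theorem rel7_10 (t u : F) : X2 F 10 u * X2 F 7 t = X2 F 7 t * X2 F 10 u :=
  X2_comm_of_nil (by decide) (by decide) (by decide) (by decide) g2_nil7_10 t u

theorem g2_nil7_11 : chevG2.commTerms 7 11 = [] := by decide +kernel
theorem rel7_11 (t u : F) : X2 F 11 u * X2 F 7 t = X2 F 7 t * X2 F 11 u :=
  X2_comm_of_nil (by decide) (by decide) (by decide) (by decide) g2_nil7_11 t u

theorem g2_nil8_10 : chevG2.commTerms 8 10 = [] := by decide +kernel
theorem rel8_10 (t u : F) : X2 F 10 u * X2 F 8 t = X2 F 8 t * X2 F 10 u :=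
  X2_comm_of_nil (by decide) (by decide) (by decide) (by decide) g2_nil8_10 t u

theorem g2_nil8_11 : chevG2.commTerms 8 11 = [] := by decide +kernel
theorem rel8_11 (t u : F) : X2 F 11 u * X2 F 8 t = X2 F 8 t * X2 F 11 u :=
  X2_comm_of_nil (by decide) (by decide) (by decide) (by decide) g2_nil8_11 t u

theorem g2_nil9_10 : chevG2.commTerms 9 10 = [] := by decide +kernel
theorem rel9_10 (t u : F) : X2 F 10 u * X2 F 9 t = X2 F 9 t * X2 F 10 u :=
  X2_comm_of_nil (by decide) (by decide) (by decide) (by decide) g2_nil9_10 t u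

theorem g2_nil9_11 : chevG2.commTerms 9 11 = [] := by decide +kernel
theorem rel9_11 (t u : F) : X2 F 11 u * X2 F 9 t = X2 F 9 t * X2 F 11 u :=
  X2_comm_of_nil (by decide) (by decide) (by decide) (by decide) g2_nil9_11 t u

theorem g2_nil10_11 : chevG2.commTerms 10 11 = [] := by decide +kernel
theorem rel10_11 (t u : F) : X2 F 11 u * X2 F 10 t = X2 F 10 t * X2 F 11 u :=
  X2_comm_of_nil (by decide) (by decide) (by decide) (by decide) g2_nil10_11 t u

variable [CharP F 2]

theorem c2_two : (2 : F) = 0 := CharTwo.two_eq_zero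
theorem c2_three : (3 : F) = 1 := by
  have : (3 : F) = 2 + 1 := by norm_num
  rw [this, c2_two, zero_add]

theorem rel67 (t u : F) : X2 F 7 u * X2 F 6 t =
    X2 F 6 t * (X2 F 7 u * (X2 F 8 (t * u) * (X2 F 9 (t * u ^ 2) * X2 F 10 (t * u ^ 3)))) := by
  rw [X2_rel_word (by decide) (by decide) (by decide) (by decide) t u
    [(8, t * u), (9, t * u ^ 2), (10, t * u ^ 3), (11, 0)] ?_ (by simp)]
  · rw [wG_cons (by decide) _ _ (by simp), wG_cons (by decide) _ _ (by simp),
      wG_cons (by decide) _ _ (by simp), wG_cons (by decide) _ _ (by simp), wG_nil, mul_one,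
      X2_zero (by decide), mul_one]
  · unfold ChevalleyDatum.commWord
    rw [g2_ct67]
    simp only [List.map_cons, List.map_nil, CharTwo.neg_eq, Int.cast_one, Int.cast_neg, Int.cast_ofNat,
      c2_two, c2_three, one_mul, pow_one, zero_mul]

theorem rel610 (t u : F) : X2 F 10 u * X2 F 6 t = X2 F 6 t * (X2 F 10 u * X2 F 11 (t * u)) := by
  rw [X2_rel_word (by decide) (by decide) (by decide) (by decide) t u
    [(11, t * u)] ?_ (by simp)]
  · rw [wG_cons (by decide) _ _ (by simp), wG_nil, mul_one]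
  · unfold ChevalleyDatum.commWord
    rw [g2_ct610]
    simp only [List.map_cons, List.map_nil, CharTwo.neg_eq, Int.cast_one, Int.cast_neg, Int.cast_ofNat,
      c2_two, c2_three, one_mul, pow_one, zero_mul]

theorem rel78 (t u : F) : X2 F 8 u * X2 F 7 t =
    X2 F 7 t * (X2 F 8 u * (X2 F 10 (t ^ 2 * u) * X2 F 11 (t * u ^ 2))) := by
  rw [X2_rel_word (by decide) (by decide) (by decide) (by decide) t u
    [(9, 0), (10, t ^ 2 * u), (11, t * u ^ 2)] ?_ (by simp)]
  · rw [wG_cons (by decide) _ _ (by simp), wG_cons (by decide) _ _ (by simp),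
      wG_cons (by decide) _ _ (by simp), wG_nil, mul_one,
      X2_zero (by decide), one_mul]
  · unfold ChevalleyDatum.commWord
    rw [g2_ct78]
    simp only [List.map_cons, List.map_nil, CharTwo.neg_eq, Int.cast_one, Int.cast_neg, Int.cast_ofNat,
      c2_two, c2_three, one_mul, pow_one, zero_mul]

theorem rel79 (t u : F) : X2 F 9 u * X2 F 7 t = X2 F 7 t * (X2 F 9 u * X2 F 10 (t * u)) := by
  rw [X2_rel_word (by decide) (by decide) (by decide) (by decide) t u
    [(10, t * u)] ?_ (by simp)]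
  · rw [wG_cons (by decide) _ _ (by simp), wG_nil, mul_one]
  · unfold ChevalleyDatum.commWord
    rw [g2_ct79]
    simp only [List.map_cons, List.map_nil, CharTwo.neg_eq, Int.cast_one, Int.cast_neg, Int.cast_ofNat,
      c2_two, c2_three, one_mul, pow_one, zero_mul]

theorem rel89 (t u : F) : X2 F 9 u * X2 F 8 t = X2 F 8 t * (X2 F 9 u * X2 F 11 (t * u)) := by
  rw [X2_rel_word (by decide) (by decide) (by decide) (by decide) t u
    [(11, t * u)] ?_ (by simp)]
  · rw [wG_cons (by decide) _ _ (by simp), wG_nil, mul_one]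
  · unfold ChevalleyDatum.commWord
    rw [g2_ct89]
    simp only [List.map_cons, List.map_nil, CharTwo.neg_eq, Int.cast_one, Int.cast_neg, Int.cast_ofNat,
      c2_two, c2_three, one_mul, pow_one, zero_mul]

end

end Cfsg.Agent.Lib.Helper8.Chev
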