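import Cfsg.Agent.Lib.Helper8.ChevGi2

set_option autoImplicit false
set_option linter.unusedSimpArgs false
set_option linter.unusedSectionVars false

namespace Cfsg.Agent.Lib.Helper8.Chev

open Cfsg.Lie Matrix

section

variable {F : Type*} [Field F] [CharP F 2]

theorem tl6_8 (t u : F) (r : GL chevG2.Idx F) :
    X2 F 8 u * (X2 F 6 t * r) = X2 F 6 t * (X2 F 8 u * r) := by
  rw [← mul_assoc, rel6_8, mul_assoc]

theorem tl6_9 (t u : F) (r : GL chevG2.Idx F) :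
    X2 F 9 u * (X2 F 6 t * r) = X2 F 6 t * (X2 F 9 u * r) := by
  rw [← mul_assoc, rel6_9, mul_assoc]

theorem tl6_11 (t u : F) (r : GL chevG2.Idx F) :
    X2 F 11 u * (X2 F 6 t * r) = X2 F 6 t * (X2 F 11 u * r) := by
  rw [← mul_assoc, rel6_11, mul_assoc]

theorem tl7_10 (t u : F) (r : GL chevG2.Idx F) :
    X2 F 10 u * (X2 F 7 t * r) = X2 F 7 t * (X2 F 10 u * r) := by
  rw [← mul_assoc, rel7_10, mul_assoc]

theorem tl7_11 (t u : F) (r : GL chevG2.Idx F) :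
    X2 F 11 u * (X2 F 7 t * r) = X2 F 7 t * (X2 F 11 u * r) := by
  rw [← mul_assoc, rel7_11, mul_assoc]

theorem tl8_10 (t u : F) (r : GL chevG2.Idx F) :
    X2 F 10 u * (X2 F 8 t * r) = X2 F 8 t * (X2 F 10 u * r) := by
  rw [← mul_assoc, rel8_10, mul_assoc]

theorem tl8_11 (t u : F) (r : GL chevG2.Idx F) :
    X2 F 11 u * (X2 F 8 t * r) = X2 F 8 t * (X2 F 11 u * r) := by
  rw [← mul_assoc, rel8_11, mul_assoc]

theorem tl9_10 (t u : F) (r : GL chevG2.Idx F) :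
    X2 F 10 u * (X2 F 9 t * r) = X2 F 9 t * (X2 F 10 u * r) := by
  rw [← mul_assoc, rel9_10, mul_assoc]

theorem tl9_11 (t u : F) (r : GL chevG2.Idx F) :
    X2 F 11 u * (X2 F 9 t * r) = X2 F 9 t * (X2 F 11 u * r) := by
  rw [← mul_assoc, rel9_11, mul_assoc]

theorem tl10_11 (t u : F) (r : GL chevG2.Idx F) :
    X2 F 11 u * (X2 F 10 t * r) = X2 F 10 t * (X2 F 11 u * r) := by
  rw [← mul_assoc, rel10_11, mul_assoc]

theorem tl67 (t u : F) (r : GL chevG2.Idx F) :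
    X2 F 7 u * (X2 F 6 t * r) = X2 F 6 t * (X2 F 7 u * ((X2 F 8 (t * u) * (X2 F 9 (t * u ^ 2) * X2 F 10 (t * u ^ 3))) * r)) := by
  rw [← mul_assoc, rel67, mul_assoc, mul_assoc]

theorem tl610 (t u : F) (r : GL chevG2.Idx F) :
    X2 F 10 u * (X2 F 6 t * r) = X2 F 6 t * (X2 F 10 u * ((X2 F 11 (t * u)) * r)) := by
  rw [← mul_assoc, rel610, mul_assoc, mul_assoc]

theorem tl78 (t u : F) (r : GL chevG2.Idx F) :
    X2 F 8 u * (X2 F 7 t * r) = X2 F 7 t * (X2 F 8 u * ((X2 F 10 (t ^ 2 * u) * X2 F 11 (t * u ^ 2)) * r)) := by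
  rw [← mul_assoc, rel78, mul_assoc, mul_assoc]

theorem tl79 (t u : F) (r : GL chevG2.Idx F) :
    X2 F 9 u * (X2 F 7 t * r) = X2 F 7 t * (X2 F 9 u * ((X2 F 10 (t * u)) * r)) := by
  rw [← mul_assoc, rel79, mul_assoc, mul_assoc]

theorem tl89 (t u : F) (r : GL chevG2.Idx F) :
    X2 F 9 u * (X2 F 8 t * r) = X2 F 8 t * (X2 F 9 u * ((X2 F 11 (t * u)) * r)) := by
  rw [← mul_assoc, rel89, mul_assoc, mul_assoc]

theorem ad6 (t s : F) : X2 F 6 t * X2 F 6 s = X2 F 6 (t + s) := X2_add (by decide) t s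
theorem adt6 (t s : F) (r : GL chevG2.Idx F) : X2 F 6 t * (X2 F 6 s * r) = X2 F 6 (t + s) * r := by
  rw [← mul_assoc, ad6]

theorem ad7 (t s : F) : X2 F 7 t * X2 F 7 s = X2 F 7 (t + s) := X2_add (by decide) t s
theorem adt7 (t s : F) (r : GL chevG2.Idx F) : X2 F 7 t * (X2 F 7 s * r) = X2 F 7 (t + s) * r := by
  rw [← mul_assoc, ad7]

theorem ad8 (t s : F) : X2 F 8 t * X2 F 8 s = X2 F 8 (t + s) := X2_add (by decide) t s
theorem adt8 (t s : F) (r : GL chevG2.Idx F) : X2 F 8 t * (X2 F 8 s * r) = X2 F 8 (t + s) * r := by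
  rw [← mul_assoc, ad8]

theorem ad9 (t s : F) : X2 F 9 t * X2 F 9 s = X2 F 9 (t + s) := X2_add (by decide) t s
theorem adt9 (t s : F) (r : GL chevG2.Idx F) : X2 F 9 t * (X2 F 9 s * r) = X2 F 9 (t + s) * r := by
  rw [← mul_assoc, ad9]

theorem ad10 (t s : F) : X2 F 10 t * X2 F 10 s = X2 F 10 (t + s) := X2_add (by decide) t s
theorem adt10 (t s : F) (r : GL chevG2.Idx F) : X2 F 10 t * (X2 F 10 s * r) = X2 F 10 (t + s) * r := by
  rw [← mul_assoc, ad10]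

theorem ad11 (t s : F) : X2 F 11 t * X2 F 11 s = X2 F 11 (t + s) := X2_add (by decide) t s
theorem adt11 (t s : F) (r : GL chevG2.Idx F) : X2 F 11 t * (X2 F 11 s * r) = X2 F 11 (t + s) * r := by
  rw [← mul_assoc, ad11]

/-- the ordered product over the positive roots of `G₂` -/
noncomputable def cw (a b c d e f : F) : GL chevG2.Idx F :=
  X2 F 6 a * (X2 F 7 b * (X2 F 8 c * (X2 F 9 d * (X2 F 10 e * X2 F 11 f))))

theorem cw_mul (a b c d e f a' b' c' d' e' f' : F) :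
    cw a b c d e f * cw a' b' c' d' e' f' =
      cw (a + a') (b + b') (c + c' + a' * b) (d + d' + a' * b ^ 2)
        (e + e' + a' * b ^ 3 + b' ^ 2 * (a' * b + c) + b' * (a' * b ^ 2 + d))
        (f + f' + a' * b ^ 2 * c + a' * e + b' * ((a' * b) ^ 2 + c ^ 2) + c' * (a' * b ^ 2 + d)) := by
  unfold cw
  simp only [mul_assoc, tl6_8, rel6_8, tl6_9, rel6_9, tl6_11, rel6_11, tl7_10, rel7_10, tl7_11, rel7_11, tl8_10, rel8_10, tl8_11, rel8_11, tl9_10, rel9_10, tl9_11, rel9_11, tl10_11, rel10_11, tl67, rel67, tl610, rel610, tl78, rel78, tl79, rel79, tl89, rel89, ad6, adt6, ad7, adt7, ad8, adt8, ad9, adt9, ad10, adt10, ad11, adt11]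
  ring_nf

end

end Cfsg.Agent.Lib.Helper8.Chev
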