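import Cfsg.Agent.Lib.Helper8.ChevGi3

set_option autoImplicit false
set_option linter.unusedSimpArgs false
set_option linter.unusedSectionVars false

namespace Cfsg.Agent.Lib.Helper8.Chev

open Cfsg.Lie Matrix

section

variable {F : Type*} [Field F] [CharP F 2]

/-- the parameters of an ordered product, as a function on root indices -/
def tf2 (a b c d e f : F) : ℕ → F := fun k =>
  if k = 6 then a else if k = 7 then b else if k = 8 then c else if k = 9 then d else
    if k = 10 then e else if k = 11 then f else 0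

theorem segW_g2 (t : ℕ → F) :
    segW chevG2 6 t = [(6, t 6), (7, t 7), (8, t 8), (9, t 9), (10, t 10), (11, t 11)] := by
  rfl

theorem coe_cw (a b c d e f : F) :
    ((cw a b c d e f : GL chevG2.Idx F) : Matrix chevG2.Idx chevG2.Idx F) =
      wN chevG2 F (segW chevG2 6 (tf2 a b c d e f)) := by
  rw [segW_g2]
  unfold cw
  simp only [Units.val_mul, coe_X2 (show 6 < 12 by decide), coe_X2 (show 7 < 12 by decide),
    coe_X2 (show 8 < 12 by decide), coe_X2 (show 9 < 12 by decide),
    coe_X2 (show 10 < 12 by decide), coe_X2 (show 11 < 12 by decide), wN_cons, wN_nil,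
    Matrix.mul_one, x_eq_xN]
  rfl

theorem cw_of_mem_pos {g : GL chevG2.Idx F} (hg : g ∈ chevG2.posUnipotent F) :
    ∃ a b c d e f : F, g = cw a b c d e f := by
  obtain ⟨t, ht⟩ := posUnipotent_exists hG2' hg
  refine ⟨t 6, t 7, t 8, t 9, t 10, t 11, ?_⟩
  apply Units.ext
  rw [ht, coe_cw]
  have : chevG2.nroots / 2 = 6 := by decide
  rw [this, segW_g2, segW_g2]
  rfl

theorem X2_mem_pos {k : ℕ} (hk : k < 12) (hk6 : 6 ≤ k) (t : F) : X2 F k t ∈ chevG2.posUnipotent F := by
  have P := posP_of_mem hG2'
  exact Subgroup.subset_closure ⟨k, t, (P k hk).1.mpr (by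
    have : chevG2.nroots / 2 = 6 := by decide
    omega), coe_X2 hk t⟩

theorem cw_mem_pos (a b c d e f : F) : cw a b c d e f ∈ chevG2.posUnipotent F := by
  unfold cw
  exact mul_mem (X2_mem_pos (by decide) (by decide) _) (mul_mem (X2_mem_pos (by decide) (by decide) _)
    (mul_mem (X2_mem_pos (by decide) (by decide) _) (mul_mem (X2_mem_pos (by decide) (by decide) _)
    (mul_mem (X2_mem_pos (by decide) (by decide) _) (X2_mem_pos (by decide) (by decide) _)))))

theorem cw_inj {a b c d e f a' b' c' d' e' f' : F}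
    (h : cw a b c d e f = cw a' b' c' d' e' f') :
    a = a' ∧ b = b' ∧ c = c' ∧ d = d' ∧ e = e' ∧ f = f' := by
  have V := valid0_of_mem hG2'
  have V1 := valid1_of_mem hG2'
  have Tr := triP_of_mem hG2'
  have S := sepP_of_mem hG2'
  have C := copP_of_mem hG2'
  have hm := congrArg (fun g : GL chevG2.Idx F => (g : Matrix chevG2.Idx chevG2.Idx F)) h
  simp only [coe_cw] at hm
  have key := seg_unique (F := F) V V1 Tr S C 6 6 (by decide) (by decide) _ _ hm
  exact ⟨key 6 (by decide) (by decide), key 7 (by decide) (by decide),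
    key 8 (by decide) (by decide), key 9 (by decide) (by decide),
    key 10 (by decide) (by decide), key 11 (by decide) (by decide)⟩

theorem cw_zero : cw (0 : F) 0 0 0 0 0 = 1 := by
  unfold cw
  simp only [X2_zero (show 6 < 12 by decide), X2_zero (show 7 < 12 by decide),
    X2_zero (show 8 < 12 by decide), X2_zero (show 9 < 12 by decide),
    X2_zero (show 10 < 12 by decide), X2_zero (show 11 < 12 by decide), mul_one]

theorem cw_congr {a b c d e f a' b' c' d' e' f' : F} (h1 : a = a') (h2 : b = b') (h3 : c = c')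
    (h4 : d = d') (h5 : e = e') (h6 : f = f') : cw a b c d e f = cw a' b' c' d' e' f' := by
  rw [h1, h2, h3, h4, h5, h6]

theorem X2_6_eq (t : F) : X2 F 6 t = cw t 0 0 0 0 0 := by
  unfold cw
  simp only [X2_zero (show 7 < 12 by decide),
    X2_zero (show 8 < 12 by decide), X2_zero (show 9 < 12 by decide),
    X2_zero (show 10 < 12 by decide), X2_zero (show 11 < 12 by decide), mul_one]

theorem X2_7_eq (t : F) : X2 F 7 t = cw 0 t 0 0 0 0 := by
  unfold cw
  simp only [X2_zero (show 6 < 12 by decide),
    X2_zero (show 8 < 12 by decide), X2_zero (show 9 < 12 by decide),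
    X2_zero (show 10 < 12 by decide), X2_zero (show 11 < 12 by decide), mul_one, one_mul]

theorem X2_8_eq (t : F) : X2 F 8 t = cw 0 0 t 0 0 0 := by
  unfold cw
  simp only [X2_zero (show 6 < 12 by decide), X2_zero (show 7 < 12 by decide),
    X2_zero (show 9 < 12 by decide),
    X2_zero (show 10 < 12 by decide), X2_zero (show 11 < 12 by decide), mul_one, one_mul]

theorem X2_9_eq (t : F) : X2 F 9 t = cw 0 0 0 t 0 0 := by
  unfold cw
  simp only [X2_zero (show 6 < 12 by decide), X2_zero (show 7 < 12 by decide),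
    X2_zero (show 8 < 12 by decide),
    X2_zero (show 10 < 12 by decide), X2_zero (show 11 < 12 by decide), mul_one, one_mul]

theorem X2_10_eq (t : F) : X2 F 10 t = cw 0 0 0 0 t 0 := by
  unfold cw
  simp only [X2_zero (show 6 < 12 by decide), X2_zero (show 7 < 12 by decide),
    X2_zero (show 8 < 12 by decide), X2_zero (show 9 < 12 by decide),
    X2_zero (show 11 < 12 by decide), mul_one, one_mul]

theorem X2_11_eq (t : F) : X2 F 11 t = cw 0 0 0 0 0 t := by
  unfold cw
  simp only [X2_zero (show 6 < 12 by decide), X2_zero (show 7 < 12 by decide),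
    X2_zero (show 8 < 12 by decide), X2_zero (show 9 < 12 by decide),
    X2_zero (show 10 < 12 by decide), mul_one, one_mul]

theorem c2_add_self (x : F) : x + x = 0 := CharTwo.add_self_eq_zero x

/-- the conditions for an element of `U` to square to the identity -/
theorem cw_sq_eq_one {a b c d e f : F} (h : cw a b c d e f * cw a b c d e f = 1) :
    a * b = 0 ∧ b * (b * c + d) = 0 ∧ a * e + b * c ^ 2 + c * d = 0 := by
  rw [cw_mul, ← cw_zero] at h
  obtain ⟨_, _, h3, h4, h5, h6⟩ := cw_inj h
  have h2 : (2 : F) = 0 := c2_two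
  have hab : a * b = 0 := by linear_combination h3 - c * h2
  refine ⟨hab, ?_, ?_⟩
  · linear_combination h5 - e * h2 - 3 * b ^ 2 * hab
  · linear_combination h6 - (f + a * b ^ 2 * c) * h2 - a * b ^ 2 * hab

end

end Cfsg.Agent.Lib.Helper8.Chev
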