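import Cfsg.Agent.Lib.Helper8.ChevGi4

set_option autoImplicit false
set_option linter.unusedSimpArgs false
set_option linter.unusedSectionVars false
set_option linter.unnecessarySeqFocus false

namespace Cfsg.Agent.Lib.Helper8.Chev

open Cfsg.Lie Matrix

section

variable {F : Type*} [Field F] [CharP F 2]

theorem c2_four : (4 : F) = 0 := by
  have : (4 : F) = 2 * 2 := by norm_num
  rw [this, c2_two, mul_zero]

theorem c2_six : (6 : F) = 0 := by
  have : (6 : F) = 2 * 3 := by norm_num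
  rw [this, c2_two, zero_mul]

theorem X2_inv2 {k : ℕ} (hk : k < 12) (t : F) : (X2 F k t)⁻¹ = X2 F k t := by
  rw [X2_inv hk, CharTwo.neg_eq]

/-! ### Conjugation by root elements -/

theorem mv7 (a c d e f s : F) : X2 F 7 s * cw a 0 c d e f * X2 F 7 s =
    cw a 0 (c + s * a) (d + s ^ 2 * a) (e + s ^ 3 * a + s ^ 2 * c + s * d)
      (f + a * c * s ^ 2 + s * c ^ 2 + a ^ 2 * s ^ 3) := by
  rw [X2_7_eq, cw_mul, cw_mul]
  apply cw_congr <;> rw [← sub_eq_zero] <;> ring_nf <;>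
    simp only [c2_two, c2_four, c2_six, mul_zero, neg_zero, add_zero, zero_add, sub_self]

theorem mv6 (b c d e f s : F) : X2 F 6 s * cw 0 b c d e f * X2 F 6 s =
    cw 0 b (c + s * b) (d + s * b ^ 2) (e + s * b ^ 3) (f + s * b ^ 2 * c + s * e) := by
  rw [X2_6_eq, cw_mul, cw_mul]
  apply cw_congr <;> rw [← sub_eq_zero] <;> ring_nf <;>
    simp only [c2_two, c2_four, c2_six, mul_zero, neg_zero, add_zero, zero_add, sub_self]

theorem mv8 (c d e f s : F) : X2 F 8 s * cw 0 0 c d e f * X2 F 8 s =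
    cw 0 0 c d e (f + s * d) := by
  rw [X2_8_eq, cw_mul, cw_mul]
  apply cw_congr <;> rw [← sub_eq_zero] <;> ring_nf <;>
    simp only [c2_two, c2_four, c2_six, mul_zero, neg_zero, add_zero, zero_add, sub_self]

theorem mv9 (c d e f s : F) : X2 F 9 s * cw 0 0 c d e f * X2 F 9 s =
    cw 0 0 c d e (f + c * s) := by
  rw [X2_9_eq, cw_mul, cw_mul]
  apply cw_congr <;> rw [← sub_eq_zero] <;> ring_nf <;>
    simp only [c2_two, c2_four, c2_six, mul_zero, neg_zero, add_zero, zero_add, sub_self]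

/-! ### Conjugation by the `n_i` -/

theorem nG_X2 {i : ℕ} (hi : i < 2) {s : ℕ} (hs : s < 12) (t : F) :
    nG chevG2 F i * X2 F s t = X2 F (chevG2.reflectRoot i s) t * nG chevG2 F i := by
  have J := validJ_of_mem hG2'
  have V1 := valid1_of_mem hG2'
  have H := validH_of_mem hG2'
  have hs' := ((nS_props J H.nS hi).2.2 s hs).1
  apply Units.ext
  rw [Units.val_mul, Units.val_mul, coe_nG J V1 hi, coe_X2 hs, coe_X2 hs', nMat_one_eq, x_eq_xN,
    x_eq_xN, nS_conj J V1 H.nS hi hs (R := F) t]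
  congr 2
  rcases ((nS_props J H.nS hi).2.2 s hs).2.1 with h | h <;> rw [h] <;> simp [CharTwo.neg_eq]


theorem nG_X2_tl {i : ℕ} (hi : i < 2) {s : ℕ} (hs : s < 12) (t : F) (r : GL chevG2.Idx F) :
    nG chevG2 F i * (X2 F s t * r) = X2 F (chevG2.reflectRoot i s) t * (nG chevG2 F i * r) := by
  rw [← mul_assoc, nG_X2 hi hs, mul_assoc]

theorem g2_refl0 : chevG2.reflectRoot 0 6 = 10 ∧ chevG2.reflectRoot 0 8 = 9 ∧
    chevG2.reflectRoot 0 9 = 8 ∧ chevG2.reflectRoot 0 10 = 6 ∧ chevG2.reflectRoot 0 11 = 11 := by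
  decide +kernel

theorem g2_refl1 : chevG2.reflectRoot 1 7 = 8 ∧ chevG2.reflectRoot 1 8 = 7 ∧
    chevG2.reflectRoot 1 9 = 9 ∧ chevG2.reflectRoot 1 10 = 11 ∧ chevG2.reflectRoot 1 11 = 10 := by
  decide +kernel

theorem mvn0 (a c d e f : F) : nG chevG2 F 0 * cw a 0 c d e f * (nG chevG2 F 0)⁻¹ =
    cw e 0 d c a (f + c * d + a * e) := by
  rw [mul_inv_eq_iff_eq_mul]
  unfold cw
  rw [X2_zero (show 7 < 12 by decide), one_mul,
    nG_X2_tl (by decide) (by decide), nG_X2_tl (by decide) (by decide),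
    nG_X2_tl (by decide) (by decide), nG_X2_tl (by decide) (by decide),
    nG_X2 (by decide) (by decide), g2_refl0.1, g2_refl0.2.1, g2_refl0.2.2.1, g2_refl0.2.2.2.1,
    g2_refl0.2.2.2.2]
  simp only [← mul_assoc]
  congr 1
  simp only [mul_assoc, tl6_8, rel6_8, tl6_9, rel6_9, tl6_11, rel6_11, tl7_10, rel7_10, tl7_11, rel7_11, tl8_10, rel8_10, tl8_11, rel8_11, tl9_10, rel9_10, tl9_11, rel9_11, tl10_11, rel10_11, tl67, rel67, tl610, rel610, tl78, rel78, tl79, rel79, tl89, rel89, ad6, adt6, ad7, adt7, ad8, adt8, ad9, adt9, ad10, adt10, ad11, adt11]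
  simp only [X2_zero (show 7 < 12 by decide), one_mul]
  ring_nf

theorem mvn1 (b c d e f : F) : nG chevG2 F 1 * cw 0 b c d e f * (nG chevG2 F 1)⁻¹ =
    cw 0 c b d (f + c ^ 2 * b) (e + c * b ^ 2) := by
  rw [mul_inv_eq_iff_eq_mul]
  unfold cw
  rw [X2_zero (show 6 < 12 by decide), one_mul,
    nG_X2_tl (by decide) (by decide), nG_X2_tl (by decide) (by decide),
    nG_X2_tl (by decide) (by decide), nG_X2_tl (by decide) (by decide),
    nG_X2 (by decide) (by decide), g2_refl1.1, g2_refl1.2.1, g2_refl1.2.2.1, g2_refl1.2.2.2.1,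
    g2_refl1.2.2.2.2]
  simp only [← mul_assoc]
  congr 1
  simp only [mul_assoc, tl6_8, rel6_8, tl6_9, rel6_9, tl6_11, rel6_11, tl7_10, rel7_10, tl7_11, rel7_11, tl8_10, rel8_10, tl8_11, rel8_11, tl9_10, rel9_10, tl9_11, rel9_11, tl10_11, rel10_11, tl67, rel67, tl610, rel610, tl78, rel78, tl79, rel79, tl89, rel89, ad6, adt6, ad7, adt7, ad8, adt8, ad9, adt9, ad10, adt10, ad11, adt11]
  simp only [X2_zero (show 6 < 12 by decide), one_mul]
  ring_nf


/-! ### Conjugation by torus elements -/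

theorem g2_aco_6_11 : aco chevG2 6 11 = 1 := by decide +kernel
theorem g2_aco_7_9 : aco chevG2 7 9 = 1 := by decide +kernel

theorem tor_move {p k : ℕ} (hp : p < 12) (hk : k < 12) (h1 : aco chevG2 p k = 1) {t : F}
    (ht : t ≠ 0) : ∃ h ∈ chevG2.group F, h * X2 F k t * h⁻¹ = X2 F k 1 := by
  have V := valid0_of_mem hG2'
  have V1 := valid1_of_mem hG2'
  have hval : ((wG chevG2 F (chevG2.hWord p t⁻¹) : GL chevG2.Idx F) :
      Matrix chevG2.Idx chevG2.Idx F) = chevG2.hMat F p t⁻¹ := by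
    rw [coe_wG V V1 _ (hWord_lt V hp _), hMat_eq_wN]
  refine ⟨wG chevG2 F (chevG2.hWord p t⁻¹), ?_, ?_⟩
  · exact hMat_mem_of hG2' hp (chevG2.group F) (fun c y hy => x_mem_group hp c y hy)
      (fun c y hy => x_mem_group (V.neg_lt hp) c y hy) (inv_ne_zero ht) _ hval
  · rw [mul_inv_eq_iff_eq_mul]
    apply Units.ext
    rw [Units.val_mul, Units.val_mul, hval, coe_X2 hk, coe_X2 hk,
      hMat_conj_x hG2' hp hk (inv_ne_zero ht) t, h1, zpow_one, inv_mul_cancel₀ ht]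

end

end Cfsg.Agent.Lib.Helper8.Chev
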