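import Cfsg.Agent.Lib.Helper8.ChevGi5

set_option autoImplicit false
set_option linter.unusedSimpArgs false
set_option linter.unusedSectionVars false
set_option linter.unnecessarySeqFocus false

namespace Cfsg.Agent.Lib.Helper8.Chev

open Cfsg.Lie Matrix

section

variable {F : Type*} [Field F] [CharP F 2]

/-- conjugacy in `G₂(F)` -/
def CJ2 (F : Type*) [Field F] (g g' : GL chevG2.Idx F) : Prop :=
  ∃ h ∈ chevG2.group F, h * g * h⁻¹ = g'

theorem CJ2.refl (g : GL chevG2.Idx F) : CJ2 F g g := ⟨1, one_mem _, by simp⟩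

theorem CJ2.trans {g g' g'' : GL chevG2.Idx F} (h1 : CJ2 F g g') (h2 : CJ2 F g' g'') :
    CJ2 F g g'' := by
  obtain ⟨h, hh, e⟩ := h1
  obtain ⟨k, hk, e'⟩ := h2
  refine ⟨k * h, mul_mem hk hh, ?_⟩
  rw [← e', ← e]
  group

theorem CJ2.ne_one {g g' : GL chevG2.Idx F} (h : CJ2 F g g') (hg : g ≠ 1) : g' ≠ 1 := by
  obtain ⟨k, _, e⟩ := h
  intro h1
  apply hg
  rw [h1, mul_inv_eq_one] at e
  have := mul_left_cancel (a := k) (b := g) (c := 1) (by rw [e, mul_one])
  exact this

theorem CJ2.sq {g g' : GL chevG2.Idx F} (h : CJ2 F g g') (hg : g * g = 1) : g' * g' = 1 := by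
  obtain ⟨k, _, e⟩ := h
  rw [← e]
  calc k * g * k⁻¹ * (k * g * k⁻¹) = k * (g * g) * k⁻¹ := by group
    _ = 1 := by rw [hg]; group

theorem CJ2.of_X {k : ℕ} (hk : k < 12) (s : F) (g : GL chevG2.Idx F) :
    CJ2 F g (X2 F k s * g * X2 F k s) :=
  ⟨X2 F k s, X2_mem_group hk s, by rw [X2_inv2 hk]⟩

theorem CJ2.of_n {i : ℕ} (hi : i < 2) (g : GL chevG2.Idx F) :
    CJ2 F g (nG chevG2 F i * g * (nG chevG2 F i)⁻¹) :=
  ⟨nG chevG2 F i, nG_mem_group hG2' hi, rfl⟩

theorem CJ2.tor {p k : ℕ} (hp : p < 12) (hk : k < 12) (h1 : aco chevG2 p k = 1) {t : F}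
    (ht : t ≠ 0) : CJ2 F (X2 F k t) (X2 F k 1) := tor_move hp hk h1 ht

theorem CJ2.congr_right {g g' g'' : GL chevG2.Idx F} (h : CJ2 F g g') (e : g' = g'') :
    CJ2 F g g'' := e ▸ h

theorem step7 (a c d e f s : F) : ∃ f' : F, CJ2 F (cw a 0 c d e f)
    (cw a 0 (c + s * a) (d + s ^ 2 * a) (e + s ^ 3 * a + s ^ 2 * c + s * d) f') :=
  ⟨_, (CJ2.of_X (show 7 < 12 by decide) s _).congr_right (mv7 a c d e f s)⟩

theorem step6 (b c d e f s : F) : ∃ e' f' : F, CJ2 F (cw 0 b c d e f)
    (cw 0 b (c + s * b) (d + s * b ^ 2) e' f') :=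
  ⟨_, _, (CJ2.of_X (show 6 < 12 by decide) s _).congr_right (mv6 b c d e f s)⟩

theorem step6' (e f s : F) : CJ2 F (cw 0 0 0 0 e f) (cw 0 0 0 0 e (f + s * e)) :=
  (CJ2.of_X (show 6 < 12 by decide) s _).congr_right
    ((mv6 0 0 0 e f s).trans (cw_congr rfl rfl (by ring) (by ring) (by ring) (by ring)))

theorem step8 (c d e f s : F) : CJ2 F (cw 0 0 c d e f) (cw 0 0 c d e (f + s * d)) :=
  (CJ2.of_X (show 8 < 12 by decide) s _).congr_right (mv8 c d e f s)

theorem step9 (c d e f s : F) : CJ2 F (cw 0 0 c d e f) (cw 0 0 c d e (f + c * s)) :=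
  (CJ2.of_X (show 9 < 12 by decide) s _).congr_right (mv9 c d e f s)

theorem stepn0 (a c d e f : F) : CJ2 F (cw a 0 c d e f) (cw e 0 d c a (f + c * d + a * e)) :=
  (CJ2.of_n (show 0 < 2 by decide) _).congr_right (mvn0 a c d e f)

theorem stepn1 (b c d e f : F) :
    CJ2 F (cw 0 b c d e f) (cw 0 c b d (f + c ^ 2 * b) (e + c * b ^ 2)) :=
  (CJ2.of_n (show 1 < 2 by decide) _).congr_right (mvn1 b c d e f)

theorem c2_add_div_mul (x : F) {y : F} (hy : y ≠ 0) : x + x / y * y = 0 := by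
  rw [div_mul_cancel₀ _ hy, c2_add_self]

/-- involutions in `X_{a+b} X_{2a+b} X_{3a+b} X_{3a+2b}` -/
theorem inv_class_00 (hsqrt : ∀ x : F, ∃ y : F, y ^ 2 = x) {c d e f : F}
    (hne : cw 0 0 c d e f ≠ 1) (hsq : cw 0 0 c d e f * cw 0 0 c d e f = 1) :
    CJ2 F (cw 0 0 c d e f) (X2 F 11 1) ∨ CJ2 F (cw 0 0 c d e f) (X2 F 9 1) := by
  obtain ⟨_, _, h3⟩ := cw_sq_eq_one hsq
  have hcd : c * d = 0 := by linear_combination h3
  by_cases hc : c = 0
  · subst hc
    by_cases hd : d = 0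
    · subst hd
      left
      by_cases he : e = 0
      · subst he
        have hf : f ≠ 0 := by
          rintro rfl
          exact hne cw_zero
        rw [← X2_11_eq]
        exact CJ2.tor (by decide) (by decide) g2_aco_6_11 hf
      · have h1 := (step6' e f (f / e)).congr_right
          (cw_congr rfl rfl rfl rfl rfl (c2_add_div_mul f he))
        have h2 := (stepn1 (F := F) 0 0 0 e 0).congr_right
          (cw_congr rfl rfl rfl rfl (show (0 : F) + 0 ^ 2 * 0 = 0 by ring)
            (show e + 0 * 0 ^ 2 = e by ring))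
        rw [← X2_11_eq] at h2
        exact (h1.trans h2).trans (CJ2.tor (by decide) (by decide) g2_aco_6_11 he)
    · right
      obtain ⟨f1, h1⟩ := step7 0 0 d e f (e / d)
      have h1' := h1.congr_right (cw_congr rfl rfl (show (0 : F) + e / d * 0 = 0 by ring)
        (show d + (e / d) ^ 2 * 0 = d by ring)
        (show e + (e / d) ^ 3 * 0 + (e / d) ^ 2 * 0 + e / d * d = 0 by
          rw [mul_zero, mul_zero, add_zero, add_zero]; exact c2_add_div_mul e hd) rfl)
      have h2 := (step8 0 d 0 f1 (f1 / d)).congr_right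
        (cw_congr rfl rfl rfl rfl rfl (c2_add_div_mul f1 hd))
      rw [← X2_9_eq] at h2
      exact (h1'.trans h2).trans (CJ2.tor (by decide) (by decide) g2_aco_7_9 hd)
  · right
    have hd : d = 0 := by
      rcases mul_eq_zero.mp hcd with h | h
      · exact absurd h hc
      · exact h
    subst hd
    obtain ⟨s, hs⟩ := hsqrt (e / c)
    obtain ⟨f1, h1⟩ := step7 0 c 0 e f s
    have h1' := h1.congr_right (cw_congr rfl rfl (show c + s * 0 = c by ring)
      (show (0 : F) + s ^ 2 * 0 = 0 by ring)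
      (show e + s ^ 3 * 0 + s ^ 2 * c + s * 0 = 0 by
        rw [hs, mul_zero, mul_zero, add_zero, add_zero]; exact c2_add_div_mul e hc) rfl)
    have h2 := (step9 c 0 0 f1 (f1 / c)).congr_right
      (cw_congr rfl rfl rfl rfl rfl (show f1 + c * (f1 / c) = 0 by
        rw [mul_comm]; exact c2_add_div_mul f1 hc))
    have h3 := (stepn0 (F := F) 0 c 0 0 0).congr_right
      (cw_congr rfl rfl rfl rfl rfl (show (0 : F) + c * 0 + 0 * 0 = 0 by ring))
    rw [← X2_9_eq] at h3
    exact ((h1'.trans h2).trans h3).trans (CJ2.tor (by decide) (by decide) g2_aco_7_9 hc)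

/-- involutions in the unipotent radical of the parabolic subgroup `P_a` -/
theorem inv_class_b0 (hsqrt : ∀ x : F, ∃ y : F, y ^ 2 = x) {a c d e f : F}
    (hne : cw a 0 c d e f ≠ 1) (hsq : cw a 0 c d e f * cw a 0 c d e f = 1) :
    CJ2 F (cw a 0 c d e f) (X2 F 11 1) ∨ CJ2 F (cw a 0 c d e f) (X2 F 9 1) := by
  by_cases ha : a = 0
  · subst ha
    exact inv_class_00 hsqrt hne hsq
  · obtain ⟨f1, h1⟩ := step7 a c d e f (c / a)
    have h1' := h1.congr_right (cw_congr rfl rfl (c2_add_div_mul c ha) rfl rfl rfl)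
    obtain ⟨_, _, h3⟩ := cw_sq_eq_one (h1'.sq hsq)
    have he : e + (c / a) ^ 3 * a + (c / a) ^ 2 * c + c / a * d = 0 := by
      have : a * (e + (c / a) ^ 3 * a + (c / a) ^ 2 * c + c / a * d) = 0 := by
        linear_combination h3
      rcases mul_eq_zero.mp this with h | h
      · exact absurd h ha
      · exact h
    have h1'' := h1'.congr_right (cw_congr rfl rfl rfl rfl he rfl)
    have h2 := (stepn0 a 0 (d + (c / a) ^ 2 * a) 0 f1)
    have h12 := h1''.trans h2
    rcases inv_class_00 hsqrt (h12.ne_one hne) (h12.sq hsq) with h | h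
    · exact Or.inl (h12.trans h)
    · exact Or.inr (h12.trans h)

/-- involutions in `U` -/
theorem inv_class (hsqrt : ∀ x : F, ∃ y : F, y ^ 2 = x) {a b c d e f : F}
    (hne : cw a b c d e f ≠ 1) (hsq : cw a b c d e f * cw a b c d e f = 1) :
    CJ2 F (cw a b c d e f) (X2 F 11 1) ∨ CJ2 F (cw a b c d e f) (X2 F 9 1) := by
  by_cases hb : b = 0
  · subst hb
    exact inv_class_b0 hsqrt hne hsq
  · obtain ⟨h1, h2, _⟩ := cw_sq_eq_one hsq
    have ha : a = 0 := by
      rcases mul_eq_zero.mp h1 with h | h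
      · exact h
      · exact absurd h hb
    subst ha
    have hd : d = b * c := by
      rcases mul_eq_zero.mp h2 with h | h
      · exact absurd h hb
      · have h2' : (2 : F) = 0 := c2_two
        linear_combination h - b * c * h2'
    subst hd
    obtain ⟨e1, f1, h3⟩ := step6 b c (b * c) e f (c / b)
    have h3' := h3.congr_right (cw_congr rfl rfl (c2_add_div_mul c hb)
      (show b * c + c / b * b ^ 2 = 0 by
        have : c / b * b ^ 2 = b * c := by field_simp
        rw [this, c2_add_self]) rfl rfl)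
    have h4 := stepn1 b 0 0 e1 f1
    have h34 := h3'.trans h4
    rcases inv_class_00 hsqrt (h34.ne_one hne) (h34.sq hsq) with h | h
    · exact Or.inl (h34.trans h)
    · exact Or.inr (h34.trans h)

end

end Cfsg.Agent.Lib.Helper8.Chev
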