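import Cfsg.Agent.Lib.Helper8.ChevGi6

set_option autoImplicit false
set_option linter.unusedSimpArgs false
set_option linter.unusedSectionVars false
set_option linter.unnecessarySeqFocus false

namespace Cfsg.Agent.Lib.Helper8.Chev

open Cfsg.Lie Matrix

section

variable {F : Type*} [Field F] [CharP F 2]

theorem nP_X2 {l : List ℕ} (hl : ∀ i ∈ l, i < 2) {s : ℕ} (hs : s < 12) (t : F) :
    reflWord chevG2 l s < 12 ∧
      nP chevG2 F l * X2 F s t = X2 F (reflWord chevG2 l s) t * nP chevG2 F l := by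
  have J := validJ_of_mem hG2'
  have H := validH_of_mem hG2'
  induction l with
  | nil =>
    refine ⟨hs, ?_⟩
    rw [nP_nil, one_mul, mul_one]
    rfl
  | cons i l ih =>
    obtain ⟨h1, h2⟩ := ih (fun j hj => hl j (List.mem_cons_of_mem _ hj))
    have hi : i < 2 := hl i List.mem_cons_self
    refine ⟨((nS_props J H.nS hi).2.2 _ h1).1, ?_⟩
    rw [nP_cons, mul_assoc, h2, ← mul_assoc, nG_X2 hi h1, reflWord_cons, mul_assoc]

set_option maxRecDepth 100000 in
theorem g2_long_refl : ∀ s ∈ [0, 1, 5, 6, 10, 11], ∀ i < 2,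
    chevG2.reflectRoot i s ∈ [0, 1, 5, 6, 10, 11] := by decide +kernel

theorem g2_long_word {l : List ℕ} (hl : ∀ i ∈ l, i < 2) :
    reflWord chevG2 l 11 ∈ [0, 1, 5, 6, 10, 11] := by
  induction l with
  | nil => decide
  | cons i l ih =>
    rw [reflWord_cons]
    exact g2_long_refl _ (ih (fun j hj => hl j (List.mem_cons_of_mem _ hj))) i (hl i List.mem_cons_self)

theorem X2_ne_one {k : ℕ} (hk : k < 12) {t : F} (ht : t ≠ 0) : X2 F k t ≠ 1 := by
  intro h
  apply ht
  have := congrArg (fun g : GL chevG2.Idx F => (g : Matrix chevG2.Idx chevG2.Idx F)) h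
  simp only [coe_X2 hk, x_eq_xN, Units.val_one] at this
  exact xN_eq_one (valid0_of_mem hG2') (copP_of_mem hG2') hk this

/-- a long root element is not conjugate to a short root element -/
theorem long_not_conj_short : ¬ CJ2 F (X2 F 11 1) (X2 F 9 1) := by
  have V := valid0_of_mem hG2'
  have V1 := valid1_of_mem hG2'
  have J := validJ_of_mem hG2'
  have H := validH_of_mem hG2'
  have P := posP_of_mem hG2'
  have Tr := triP_of_mem hG2'
  rintro ⟨h, hh, e⟩
  obtain ⟨b, hb, l, hl, u, hu, rfl⟩ := bruhat_exists_word hG2' hh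
  have hl2 : ∀ i ∈ l, i < 2 := hl
  have huU : u ∈ chevG2.posUnipotent F := unegS_le_pos _ (unegW_le_unegS hG2' hl hu)
  have hcomm : u * X2 F 11 1 = X2 F 11 1 * u :=
    pos_centralizes_hi hG2' huU (coe_X2 (show 11 < 12 by decide) 1)
  obtain ⟨hk, hn⟩ := nP_X2 (F := F) hl2 (show 11 < 12 by decide) 1
  set k := reflWord chevG2 l 11 with hkdef
  have e1 : b * X2 F k 1 * b⁻¹ = X2 F 9 1 := by
    rw [← e]
    have : b * nP chevG2 F l * u * X2 F 11 1 * (b * nP chevG2 F l * u)⁻¹ =
        b * (nP chevG2 F l * (u * X2 F 11 1 * u⁻¹) * (nP chevG2 F l)⁻¹) * b⁻¹ := by group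
    rw [this, hcomm, mul_inv_cancel_right, hn, mul_inv_cancel_right]
  have hlong := g2_long_word hl2
  rw [← hkdef] at hlong
  by_cases hk6 : k < 6
  · -- a negative root element in `B`
    have hB : X2 F k 1 ∈ chevG2.borelSubgroup F := by
      have : X2 F k 1 = b⁻¹ * X2 F 9 1 * b := by rw [← e1]; group
      rw [this]
      exact mul_mem (mul_mem (inv_mem hb) (Subgroup.mem_sup_left
        (X2_mem_pos (by decide) (by decide) 1))) hb
    have hV : X2 F k 1 ∈ chevG2.negUnipotent F := by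
      apply Subgroup.subset_closure
      refine ⟨k, 1, (P k hk).2.mpr ?_, coe_X2 hk 1⟩
      have h6 : chevG2.nroots / 2 = 6 := by decide
      omega
    have h1 : X2 F k 1 ∈ chevG2.borelSubgroup F ⊓ chevG2.negUnipotent F := ⟨hB, hV⟩
    rw [borel_inf_neg J V1 H Tr P, Subgroup.mem_bot] at h1
    exact X2_ne_one hk one_ne_zero h1
  · obtain ⟨u', hu', h', hh', rfl⟩ := borel_decomp J V1 H hb
    obtain ⟨c, hc⟩ := torus_conj_x V (torusLike_of_mem J V1 H hh') hk
    have e2 : h' * X2 F k 1 * h'⁻¹ = X2 F k c := by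
      apply Units.ext
      rw [hc 1 _ (coe_X2 hk 1), coe_X2 hk, mul_one]
    have e3 : u' * X2 F k c = X2 F 9 1 * u' := by
      rw [← e1, ← e2]
      group
    obtain ⟨a1, a2, a3, a4, a5, a6, rfl⟩ := cw_of_mem_pos hu'
    have hc0 : (c : F) ≠ 0 := c.ne_zero
    simp only [List.mem_cons, List.not_mem_nil, or_false] at hlong
    have hk3 : k = 6 ∨ k = 10 ∨ k = 11 := by omega
    rcases hk3 with h | h | h
    · rw [h, X2_6_eq, X2_9_eq, cw_mul, cw_mul] at e3
      obtain ⟨h1, _⟩ := cw_inj e3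
      apply hc0
      linear_combination h1
    · rw [h, X2_10_eq, X2_9_eq, cw_mul, cw_mul] at e3
      obtain ⟨_, _, _, h4, _⟩ := cw_inj e3
      apply one_ne_zero (α := F)
      linear_combination -h4
    · rw [h, X2_11_eq, X2_9_eq, cw_mul, cw_mul] at e3
      obtain ⟨_, _, _, h4, _⟩ := cw_inj e3
      apply one_ne_zero (α := F)
      linear_combination -h4

end

end Cfsg.Agent.Lib.Helper8.Chev
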