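import Cfsg.Agent.Lib.Helper8.ChevG

set_option autoImplicit false

namespace Cfsg.Agent.Lib.Helper8.Chev

open Cfsg.Lie Matrix

variable {D : ChevalleyDatum} (R : Type*) [CommRing R]

theorem dp_eq_zero (V : Valid0 D) (V1 : Valid1 D) {r : ℕ} (hr : r < D.nroots) {k : ℕ} (hk : 4 ≤ k) :
    dp D R r k = 0 := by
  have hk0 : k ≠ 0 := by omega
  have hk1 : k ≠ 1 := by omega
  have hk2 : k ≠ 2 := by omega
  apply ext_mulVec
  · intro i hi
    rw [dp_mulVec_Hb R r k hi, if_neg hk0, if_neg hk1, Matrix.zero_mulVec]
  · intro u hu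
    rw [Matrix.zero_mulVec]
    by_cases h1 : u = r
    · subst h1; rw [dp_mulVec_E_self R u k hr, if_neg hk0]
    · by_cases h2 : u = D.neg r
      · subst h2; rw [dp_mulVec_E_neg R V r k hr, if_neg hk0, if_neg hk1, if_neg hk2]
      · rw [dp_mulVec_E R r k hu h1 h2, if_neg hk0,
          cm_of_length_lt (lt_of_le_of_lt (chainEntry_length_le V V1 hr u) (by omega))]
        simp

/-- `x_r(t) = Σ_k t^k ad(e_r)^k/k!` -/
theorem xN_eq_sum_dp (V : Valid0 D) (V1 : Valid1 D) {r : ℕ} (hr : r < D.nroots) (t : R) :
    xN D R r t = ∑ k ∈ Finset.range 4, t ^ k • dp D R r k := by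
  apply ext_mulVec
  · intro i hi
    rw [xN_mulVec_Hb R hr t hi, Matrix.sum_mulVec]
    simp only [Matrix.smul_mulVec, dp_mulVec_Hb R r _ hi, Finset.sum_range_succ, Finset.sum_range_zero]
    simp
    module
  · intro u hu
    rw [Matrix.sum_mulVec]
    by_cases h1 : u = r
    · subst h1
      rw [xN_mulVec_E_self R hr t]
      simp only [Matrix.smul_mulVec, dp_mulVec_E_self R u _ hr, Finset.sum_range_succ,
        Finset.sum_range_zero]
      simp
    · by_cases h2 : u = D.neg r
      · subst h2
        rw [xN_mulVec_E_neg V R hr t]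
        simp only [Matrix.smul_mulVec, dp_mulVec_E_neg R V r _ hr, Finset.sum_range_succ,
          Finset.sum_range_zero]
        simp
        module
      · rw [xN_mulVec_E V R hr t hu h1 h2, chainVec_eq_sum R r u t (chainEntry_length_le V V1 hr u)]
        simp only [Matrix.smul_mulVec, dp_mulVec_E R r _ hu h1 h2, Finset.sum_range_succ,
          Finset.sum_range_zero]
        simp
        module

/-- action of the divided powers on the coroot vector -/
theorem dp_mulVec_Hr (V1 : Valid1 D) {r : ℕ} (hr : r < D.nroots) (k : ℕ) :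
    dp D R r k *ᵥ Hr D R r = if k = 0 then Hr D R r else if k = 1 then (-2 : R) • E D R r else 0 := by
  rw [Hr_eq_sum, Matrix.mulVec_sum]
  have : ∀ i ∈ Finset.range D.rank, dp D R r k *ᵥ ((cor D r i : R) • Hb D R i) =
      (cor D r i : R) • (if k = 0 then Hb D R i else if k = 1 then (-(D.cartan i r : R)) • E D R r else 0) := by
    intro i hi
    rw [Matrix.mulVec_smul, dp_mulVec_Hb R r k (Finset.mem_range.mp hi)]
  rw [Finset.sum_congr rfl this]
  by_cases hk0 : k = 0
  · simp [hk0]
  · by_cases hk1 : k = 1
    · simp only [hk1, if_neg one_ne_zero, if_true]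
      have h2 := V1.cor_cartan r hr
      unfold corCartan at h2
      have h3 : ((∑ i ∈ Finset.range D.rank, cor D r i * D.cartan i r : ℤ) : R) = 2 := by
        rw [h2]; norm_num
      rw [← h3]
      push_cast
      rw [neg_smul, Finset.sum_smul, ← Finset.sum_neg_distrib]
      apply Finset.sum_congr rfl
      intro i _
      module
    · simp [hk0, hk1]

theorem dp_mul_dp (V : Valid0 D) (V1 : Valid1 D) {r : ℕ} (hr : r < D.nroots) (j k : ℕ) :
    dp D R r j * dp D R r k = ((j + k).choose k : R) • dp D R r (j + k) := by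
  by_cases hj : j = 0
  · subst hj; rw [dp_zero R V r hr, one_mul, zero_add, Nat.choose_self]; simp
  by_cases hk : k = 0
  · subst hk; rw [dp_zero R V r hr, mul_one, add_zero, Nat.choose_zero_right]; simp
  have hjk0 : j + k ≠ 0 := by omega
  have hjk1 : j + k ≠ 1 := by omega
  apply ext_mulVec
  · intro i hi
    rw [← Matrix.mulVec_mulVec, dp_mulVec_Hb R r k hi, Matrix.smul_mulVec, dp_mulVec_Hb R r _ hi,
      if_neg hk, if_neg hjk0, if_neg hjk1]
    by_cases hk1 : k = 1
    · rw [if_pos hk1, Matrix.mulVec_smul, dp_mulVec_E_self R r j hr, if_neg hj]; simp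
    · rw [if_neg hk1]; simp
  · intro u hu
    rw [← Matrix.mulVec_mulVec, Matrix.smul_mulVec]
    by_cases h1 : u = r
    · subst h1
      rw [dp_mulVec_E_self R u k hr, dp_mulVec_E_self R u _ hr, if_neg hk, if_neg hjk0]; simp
    · by_cases h2 : u = D.neg r
      · subst h2
        rw [dp_mulVec_E_neg R V r k hr, dp_mulVec_E_neg R V r _ hr, if_neg hk, if_neg hjk0,
          if_neg hjk1]
        by_cases hk1 : k = 1
        · subst hk1
          rw [if_pos rfl, dp_mulVec_Hr R V1 hr j, if_neg hj]
          by_cases hj1 : j = 1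
          · subst hj1; simp [Nat.choose]
          · rw [if_neg hj1, if_neg (by omega)]; simp
        · rw [if_neg hk1]
          by_cases hk2 : k = 2
          · subst hk2
            rw [if_pos rfl, Matrix.mulVec_neg, dp_mulVec_E_self R r j hr, if_neg hj, if_neg (by omega)]
            simp
          · rw [if_neg hk2, if_neg (by omega)]; simp
      · rw [dp_mulVec_E R r k hu h1 h2, dp_mulVec_E R r _ hu h1 h2, if_neg hk, if_neg hjk0]
        have hT := tailOK_chainEntry V V1 hr u
        cases hL : (D.chainEntry r u)[k - 1]? with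
        | none =>
          have hlen : (D.chainEntry r u).length ≤ k - 1 := by
            rwa [List.getElem?_eq_none_iff] at hL
          rw [cm_of_length_lt (by omega), cm_of_length_lt (by omega)]
          simp
        | some q =>
          obtain ⟨v, M⟩ := q
          have hq := hT k j (by omega) (by omega) v M hL
          have hv := chainEntry_tgt V hr hL
          have hcm : cm (D.chainEntry r u) k = M := by unfold cm; rw [hL]; rfl
          have hcr : cr D.nroots (D.chainEntry r u) k = v := by unfold cr; rw [hL]; rfl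
          rw [hcm, hcr, Matrix.mulVec_smul, dp_mulVec_E R r j hv.1 hv.2.1 hv.2.2, if_neg hj]
          by_cases hlen : j + k ≤ (D.chainEntry r u).length
          · rw [hq.2 hlen, smul_smul, smul_smul]
            congr 1
            have := congrArg (fun z : ℤ => (z : R)) hq.1
            simp only [Int.cast_mul, Int.cast_natCast] at this
            rw [this]
          · have h0 : cm (D.chainEntry r u) (j + k) = 0 := cm_of_length_lt (by omega)
            have h1' : M * cm (D.chainEntry r v) j = 0 := by rw [hq.1, h0, mul_zero]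
            rw [smul_smul, h0]
            have := congrArg (fun z : ℤ => (z : R)) h1'
            simp only [Int.cast_mul, Int.cast_zero] at this
            rw [this]
            simp


/-- `x_r(t₁) x_r(t₂) = x_r(t₁ + t₂)` -/
theorem xN_mul_xN (V : Valid0 D) (V1 : Valid1 D) {r : ℕ} (hr : r < D.nroots) (t₁ t₂ : R) :
    xN D R r t₁ * xN D R r t₂ = xN D R r (t₁ + t₂) := by
  rw [xN_eq_sum_dp R V V1 hr, xN_eq_sum_dp R V V1 hr, xN_eq_sum_dp R V V1 hr]
  have h4 : dp D R r 4 = 0 := dp_eq_zero R V V1 hr (by omega)
  have h5 : dp D R r 5 = 0 := dp_eq_zero R V V1 hr (by omega)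
  have h6 : dp D R r 6 = 0 := dp_eq_zero R V V1 hr (by omega)
  simp only [Finset.sum_range_succ, Finset.sum_range_zero, zero_add, add_mul, mul_add,
    smul_mul_smul_comm, dp_mul_dp R V V1 hr, Nat.reduceAdd, h4, h5, h6, Nat.choose, smul_zero,
    add_zero]
  module

end Cfsg.Agent.Lib.Helper8.Chev
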