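import Cfsg.Agent.Lib.Helper8.ChevX7

set_option autoImplicit false

namespace Cfsg.Agent.Lib.Helper8.Chev

open Cfsg.Lie Matrix

/-! ### Checking that one of the two orientations applies to every pair of roots -/

def isNilL {α : Type*} : List α → Bool
  | [] => true
  | _ :: _ => false

/-- `a + b` is neither a root nor zero -/
noncomputable def pairOK (PN n a b : ℕ) : Bool := isNilL (lkF PN a b) && !(Nat.beq (a + b + 1) n)

/-- the row of the chain table at index `s` -/
noncomputable def rowAt (D : ChevalleyDatum) (s : ℕ) : List (ℕ × Array (ℕ × ℤ)) :=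
  (nthF #[] D.chain.toList s).toList

theorem rowAt_eq (D : ChevalleyDatum) (s : ℕ) : rowAt D s = row D s := by
  unfold rowAt row
  rw [nthF_eq_getD]
  congr 1
  by_cases h : s < D.chain.size
  · have := toList_getElem?_of_lt D.chain s #[] h
    rw [List.getD_eq_getElem?_getD, this]; rfl
  · rw [List.getD_eq_getElem?_getD, List.getElem?_eq_none (by rw [Array.length_toList]; omega)]
    simp [Array.getD, h]

noncomputable def checkCaseB (D : ChevalleyDatum) (PN r s v1 : ℕ) (M1 : ℤ) : Bool :=
  match lookF (rowAt D s) r with
  | [(w1, N1), (w2, _)] => Nat.beq w1 v1 && decide (N1 = -M1) && pairOK PN D.nroots r v1 &&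
      pairOK PN D.nroots r w2 && pairOK PN D.nroots v1 w2 && !(Nat.beq w2 v1)
  | _ => false

noncomputable def checkCommEntry (D : ChevalleyDatum) (PN r s : ℕ) (L1 : List (ℕ × ℤ)) : Bool :=
  match L1 with
  | [(v1, M1)] => pairOK PN D.nroots s v1 || checkCaseB D PN r s v1 M1
  | [(v1, _), (v2, _)] => pairOK PN D.nroots s v1 && pairOK PN D.nroots s v2 && pairOK PN D.nroots v1 v2
  | _ => false

noncomputable def checkComm (D : ChevalleyDatum) : Bool :=
  allIdxF (fun r (rowArr : Array (ℕ × Array (ℕ × ℤ))) =>
    allF (fun e => checkCommEntry D (packN D) r e.1 e.2.toList) rowArr.toList) D.chain.toList 0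

section

variable {D : ChevalleyDatum}

theorem headV_eq_nil {L : List (ℕ × ℤ)} : headV L = [] ↔ L = [] := by
  cases L <;> simp [headV]

theorem isNilL_eq_true {α : Type*} {L : List α} : isNilL L = true ↔ L = [] := by
  cases L <;> simp [isNilL]

theorem pairOK_iff (V : Valid0 D) (hsz : D.chain.size = D.nroots) (hN : checkN D = true) {a b : ℕ}
    (ha : a < D.nroots) :
    pairOK (packN D) D.nroots a b = true ↔ D.chainEntry a b = [] ∧ b ≠ D.neg a := by
  unfold pairOK
  rw [Bool.and_eq_true, isNilL_eq_true, lkF_packN V hsz hN ha, headV_eq_nil, Bool.not_eq_true',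
    nat_beq_eq_false, V.neg_eq a ha]
  constructor
  · rintro ⟨h1, h2⟩; exact ⟨h1, by omega⟩
  · rintro ⟨h1, h2⟩; exact ⟨h1, by omega⟩

/-- the chain of `s` through `r` has length at most one when `s + (r + s)` is not a root -/
theorem length_le_one_of_nil (V : Valid0 D) (V1 : Valid1 D) (A : ValidAnti D) {r s v1 : ℕ} {M1 : ℤ}
    {L : List (ℕ × ℤ)} (hr : r < D.nroots) (hs : s < D.nroots) (hL1 : D.chainEntry r s = (v1, M1) :: L)
    (hnil : D.chainEntry s v1 = []) : (D.chainEntry s r).length ≤ 1 := by
  by_contra hlen
  have hanti := A.head_anti r hr s hs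
  rw [hL1] at hanti
  match hL2 : D.chainEntry s r with
  | [] => rw [hL2] at hlen; simp at hlen
  | [x] => rw [hL2] at hlen; simp at hlen
  | x :: y :: L' =>
    rw [hL2] at hanti
    simp only [headV, negv, List.map_cons, List.map_nil, List.cons.injEq, and_true] at hanti
    have hT := tailOK_chainEntry V V1 hs r
    rw [hL2] at hT
    have h2 := (hT 1 1 (le_refl 1) (le_refl 1) x.1 x.2 (by simp)).2 (by simp)
    rw [hanti] at h2
    simp only at h2
    rw [hnil] at h2
    simp only [cr, List.getElem?_nil, Option.map_none, Option.getD_none, Nat.add_one_sub_one,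
      List.getElem?_cons_succ, List.getElem?_cons_zero, Option.map_some, Option.getD_some] at h2
    have := (chainEntry_tgt V hs (s := r) (k := 1) (u := y.1) (M := y.2) (by rw [hL2]; rfl)).1
    omega

theorem case_of_check (V : Valid0 D) (V1 : Valid1 D) (A : ValidAnti D) (hsz : D.chain.size = D.nroots)
    (hN : checkN D = true) (h : checkComm D = true) {r s : ℕ} (hr : r < D.nroots) (hs : s < D.nroots) :
    CaseA D r s ∨ CaseB D r s := by
  simp only [checkComm, allIdxF_eq_true, allF_eq_true, zero_add] at h
  by_cases hne : D.chainEntry r s = []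
  · -- no sum: orientation A trivially
    left
    refine ⟨?_, ?_, ?_⟩
    · unfold CommChain; rw [hne]; simp
    · rw [hne]; simp
    · have := A.head_anti r hr s hs
      rw [hne] at this
      have : D.chainEntry s r = [] := headV_eq_nil.mp (by rw [this]; rfl)
      rw [this]; simp
  · obtain ⟨e, he, hes, hL⟩ := chainEntry_mem D hne
    have hrow := toList_getElem?_of_lt D.chain r #[] (by omega)
    have hchk := h r _ hrow e he
    rw [hes, hL] at hchk
    match hL1 : D.chainEntry r s with
    | [] => exact absurd hL1 hne
    | [(v1, M1)] =>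
      rw [hL1] at hchk
      have hchk' : (pairOK (packN D) D.nroots s v1 || checkCaseB D (packN D) r s v1 M1) = true := hchk
      simp only [Bool.or_eq_true] at hchk'
      rcases hchk' with hA | hB
      · left
        rw [pairOK_iff V hsz hN hs] at hA
        refine ⟨?_, by rw [hL1]; simp, length_le_one_of_nil V V1 A hr hs hL1 hA.1⟩
        unfold CommChain
        rw [hL1]
        simp only [List.map_cons, List.map_nil, List.pairwise_cons, List.mem_cons, List.not_mem_nil,
          or_false, forall_eq, IsEmpty.forall_iff, implies_true, List.Pairwise.nil, and_true]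
        exact hA
      · right
        unfold checkCaseB at hB
        rw [rowAt_eq, lookF_eq] at hB
        match hL2 : D.chainEntry s r with
        | [(w1, N1), (w2, N2)] =>
          rw [hL2] at hB
          simp only [Bool.and_eq_true, Nat.beq_eq, decide_eq_true_eq, Bool.not_eq_true',
            nat_beq_eq_false] at hB
          obtain ⟨⟨⟨⟨⟨hw1, hN1⟩, h1⟩, h2⟩, h3⟩, h4⟩ := hB
          have hv1 : v1 < D.nroots :=
            (chainEntry_tgt V hr (s := s) (k := 0) (u := v1) (M := M1) (by rw [hL1]; rfl)).1
          rw [pairOK_iff V hsz hN hr] at h1 h2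
          rw [pairOK_iff V hsz hN hv1] at h3
          rw [hw1, hN1] at hL2
          refine ⟨?_, v1, M1, w2, N2, hL1, hL2, h3.1, h4, h3.2⟩
          unfold CommChain
          rw [hL2]
          simp only [List.map_cons, List.map_nil, List.pairwise_cons, List.mem_cons, List.not_mem_nil,
            or_false, forall_eq_or_imp, forall_eq, IsEmpty.forall_iff, implies_true,
            List.Pairwise.nil, and_true]
          exact ⟨⟨h1, h2⟩, h3⟩
        | [] => rw [hL2] at hB; simp at hB
        | [x] => rw [hL2] at hB; simp at hB
        | x :: y :: z :: L' => rw [hL2] at hB; simp at hB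
    | [(v1, M1), (v2, M2)] =>
      rw [hL1] at hchk
      have hchk' : (pairOK (packN D) D.nroots s v1 && pairOK (packN D) D.nroots s v2 &&
        pairOK (packN D) D.nroots v1 v2) = true := hchk
      simp only [Bool.and_eq_true] at hchk'
      obtain ⟨⟨h1, h2⟩, h3⟩ := hchk'
      have hv1 : v1 < D.nroots :=
        (chainEntry_tgt V hr (s := s) (k := 0) (u := v1) (M := M1) (by rw [hL1]; rfl)).1
      rw [pairOK_iff V hsz hN hs] at h1 h2
      rw [pairOK_iff V hsz hN hv1] at h3
      left
      refine ⟨?_, by rw [hL1]; simp, length_le_one_of_nil V V1 A hr hs hL1 h1.1⟩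
      unfold CommChain
      rw [hL1]
      simp only [List.map_cons, List.map_nil, List.pairwise_cons, List.mem_cons, List.not_mem_nil,
        or_false, forall_eq_or_imp, forall_eq, IsEmpty.forall_iff, implies_true,
        List.Pairwise.nil, and_true]
      exact ⟨⟨h1, h2⟩, h3⟩
    | x :: y :: z :: L' =>
      rw [hL1] at hchk
      exact absurd hchk (by simp [checkCommEntry])

end

end Cfsg.Agent.Lib.Helper8.Chev
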