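import Cfsg.Agent.Lib.Helper8.ChevH1
import Cfsg.Agent.Lib.Helper8.ChevX8

set_option autoImplicit false

namespace Cfsg.Agent.Lib.Helper8.Chev

open Cfsg.Lie Matrix

/-! ### The words `h_p(T)` and `n_p(1)` -/

/-- the word `h_p(T) = n_p(T) n_p(-1)` -/
def hW (p np : ℕ) : List (ℕ × Mono) :=
  [(p, (1, 0, 1)), (np, (-1, 0, -1)), (p, (1, 0, 1)), (p, (0, 0, -1)), (np, (0, 0, 1)),
    (p, (0, 0, -1))]

/-- the word `n_p(1)` with integer arguments -/
def nWZ (p np : ℕ) : List (ℕ × ℤ) := [(p, 1), (np, -1), (p, 1)]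

/-- the word `n_p(1)` -/
def nW (p np : ℕ) : List (ℕ × Mono) := [(p, (0, 0, 1)), (np, (0, 0, -1)), (p, (0, 0, 1))]

theorem nW_eq (p np : ℕ) : nW p np = constW (nWZ p np) := rfl

theorem evalWd_hW {R : Type*} [CommRing R] (T U : Rˣ) (p np : ℕ) :
    evalWd T U (hW p np) =
      [(p, (T : R)), (np, -((T⁻¹ : Rˣ) : R)), (p, (T : R)), (p, -1), (np, 1), (p, -1)] := by
  simp [evalWd, hW, evalM, chi]

theorem castW_nWZ (R : Type*) [CommRing R] (p np : ℕ) :
    castW R (nWZ p np) = [(p, (1 : R)), (np, -1), (p, 1)] := by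
  simp [castW, nWZ]

/-! ### Kernel-friendly reflection in a fundamental root -/

theorem cond_beq {α : Type*} (a b : ℕ) (x y : α) :
    cond (Nat.beq a b) x y = if a = b then x else y := by
  by_cases h : a = b
  · have : Nat.beq a b = true := by rw [Nat.beq_eq]; exact h
    rw [this, if_pos h]; rfl
  · have : Nat.beq a b = false := by rw [nat_beq_eq_false]; exact h
    rw [this, if_neg h]; rfl

theorem cond_decide' {α : Type*} (p : Prop) [Decidable p] (x y : α) :
    cond (decide p) x y = if p then x else y := by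
  by_cases h : p
  · rw [decide_eq_true h, if_pos h]; rfl
  · rw [decide_eq_false h, if_neg h]; rfl

noncomputable def fstAt (l : List (ℕ × ℤ)) (k d : ℕ) : ℕ := (nthF ((d, 0) : ℕ × ℤ) l k).1

theorem fstAt_eq (l : List (ℕ × ℤ)) (k d : ℕ) :
    fstAt l k d = ((l[k]?).map Prod.fst).getD d := by
  unfold fstAt
  rw [nthF_eq_getD, List.getD_eq_getElem?_getD]
  cases l[k]? <;> rfl

/-- the reflection of the root `s` in the root `p` with `A = A_{p,s}` -/
noncomputable def reflP (D : ChevalleyDatum) (p : ℕ) (A : ℤ) (s : ℕ) : ℕ :=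
  cond (Nat.beq s p) (D.nroots - 1 - p)
    (cond (Nat.beq s (D.nroots - 1 - p)) p
      (cond (decide (0 < A)) (fstAt (lookF (rowAt D (D.nroots - 1 - p)) s) (A.toNat - 1) s)
        (cond (decide (A < 0)) (fstAt (lookF (rowAt D p) s) ((-A).toNat - 1) s) s)))

theorem reflP_eq {D : ChevalleyDatum} (V : Valid0 D) (T : ValidT D) {i : ℕ} (hi : i < D.rank)
    (hp : D.simple i < D.nroots) {s : ℕ} (hs : s < D.nroots) :
    reflP D (D.simple i) (getZ 4 8 (packA D) i s) s = D.reflectRoot i s := by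
  unfold reflP ChevalleyDatum.reflectRoot
  simp only [cond_beq, cond_decide', fstAt_eq, rowAt_eq, lookF_eq, T.cartan_eq i hi s hs,
    V.neg_eq _ hp, ChevalleyDatum.chainRoot]

/-! ### The checks -/

/-- additivity of the `i`-th row of Cartan integers along one chain entry -/
noncomputable def checkWtEntry (PA : List ℕ) (i r c : ℕ) (l : List (ℕ × ℤ)) : Bool :=
  allIdxF (fun k (q : ℕ × ℤ) =>
    decide (getZ 4 8 PA i q.1 = getZ 4 8 PA i c + ((k : ℤ) + 1) * getZ 4 8 PA i r)) l 0

noncomputable def checkWt (D : ChevalleyDatum) : Bool :=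
  forallLtF (fun i =>
    forallLtF (fun r =>
      decide (getZ 4 8 (packA D) i (D.nroots - 1 - r) = - getZ 4 8 (packA D) i r)) D.nroots &&
    allIdxF (fun r (rowArr : Array (ℕ × Array (ℕ × ℤ))) =>
      allF (fun e => checkWtEntry (packA D) i r e.1 e.2.toList) rowArr.toList) D.chain.toList 0)
    D.rank

/-- the Cartan integer `A_{p_i, c}` of a code -/
noncomputable def cartF (D : ChevalleyDatum) (i c : ℕ) : ℤ :=
  cond (Nat.blt c D.nroots) (getZ 4 8 (packA D) i c) 0

noncomputable def checkHS (D : ChevalleyDatum) : Bool :=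
  forallLtF (fun i => withNat (D.simple i) fun p =>
    forallLtF (fun c => checkWordVec (colsF D) D.nroots (hW p (D.nroots - 1 - p)) c
      [((c, cartF D i c, 0, 1) : Term)]) (D.nroots + D.rank)) D.rank

noncomputable def headCoef (v : List Term) : ℤ :=
  @List.rec Term (fun _ => ℤ) 0 (fun e _ _ => e.2.2.2) v

/-- the sign `η` with `n_p(1) e_s = η e_{w_p(s)}` -/
noncomputable def etaP (D : ChevalleyDatum) (p s : ℕ) : ℤ :=
  headCoef (applyWN (colsF D) (nW p (D.nroots - 1 - p)) [((s, 0, 0, 1) : Term)])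

noncomputable def etaF (D : ChevalleyDatum) (i s : ℕ) : ℤ := etaP D (D.simple i) s

noncomputable def checkNroot (D : ChevalleyDatum) (i p s : ℕ) : Bool :=
  withInt (getZ 4 8 (packA D) i s) fun A => withNat (reflP D p A s) fun s' =>
  withInt (etaP D p s) fun η =>
    Nat.blt s' D.nroots &&
    checkWordVec (colsF D) D.nroots (nW p (D.nroots - 1 - p)) s [((s', 0, 0, η) : Term)] &&
    (decide (η = 1) || decide (η = -1)) &&
    decide (η * etaP D p s' = (-1) ^ A.natAbs) &&
    decide (η * etaP D p (D.nroots - 1 - s) = 1) &&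
    Nat.beq (reflP D p (getZ 4 8 (packA D) i (D.nroots - 1 - s)) (D.nroots - 1 - s))
      (D.nroots - 1 - s')

noncomputable def checkNcar (D : ChevalleyDatum) (i p j : ℕ) : Bool :=
  checkWordVec (colsF D) D.nroots (nW p (D.nroots - 1 - p)) (D.nroots + j)
    [((D.nroots + j, 0, 0, 1) : Term), ((D.nroots + i, 0, 0, - getZ 4 8 (packA D) j p) : Term)]

noncomputable def checkNS (D : ChevalleyDatum) : Bool :=
  forallLtF (fun i => withNat (D.simple i) fun p =>
    decide (etaP D p p = -1) && decide (etaP D p (D.nroots - 1 - p) = -1) &&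
    forallLtF (fun s => checkNroot D i p s) D.nroots &&
    forallLtF (fun j => checkNcar D i p j) D.rank) D.rank

noncomputable def sumLtF (f : ℕ → ℤ) (n : ℕ) : ℤ :=
  @Nat.rec (fun _ => ℤ) 0 (fun k ih => ih + f k) n

theorem sumLtF_eq (f : ℕ → ℤ) (n : ℕ) : sumLtF f n = ∑ i ∈ Finset.range n, f i := by
  induction n with
  | zero => rfl
  | succ n ih => rw [Finset.sum_range_succ, ← ih]; rfl

noncomputable def acoF (D : ChevalleyDatum) (r g : ℕ) : ℤ :=
  sumLtF (fun i => getZ 5 16 (packC D) r i * getZ 4 8 (packA D) i g) D.rank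

/-- the integer `⟨s, r^∨⟩` -/
def aco (D : ChevalleyDatum) (r s : ℕ) : ℤ :=
  ∑ i ∈ Finset.range D.rank, cor D r i * D.cartan i s

noncomputable def checkHG (D : ChevalleyDatum) : Bool :=
  forallLtF (fun r => allF (fun g => withNat g fun g' =>
    checkWordVec (colsF D) D.nroots (hW r (D.nroots - 1 - r)) g'
      [((g', acoF D r g', 0, 1) : Term)]) (genCodes D)) D.nroots

/-! ### Soundness -/

section Sound

variable {D : ChevalleyDatum}

theorem isWt_of_check (V : Valid0 D) (T : ValidT D) (hsz : D.chain.size = D.nroots)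
    (h : checkWt D = true) {i : ℕ} (hi : i < D.rank) : IsWt D (fun s => D.cartan i s) := by
  simp only [checkWt, forallLtF_eq_true, Bool.and_eq_true, decide_eq_true_eq, allIdxF_eq_true,
    allF_eq_true, zero_add] at h
  obtain ⟨hneg, hrows⟩ := h i hi
  refine ⟨fun r hr => ?_, fun r hr c hc q hq => ?_⟩
  · have := hneg r hr
    rw [T.cartan_eq i hi r hr, ← V.neg_eq r hr, T.cartan_eq i hi _ (V.neg_lt hr)] at this
    exact this
  · have hne : D.chainEntry r c ≠ [] := by
      intro h0; rw [h0] at hq; simp at hq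
    obtain ⟨e, he, hec, hL⟩ := chainEntry_mem D hne
    have hrow := toList_getElem?_of_lt D.chain r #[] (by omega)
    have hchk := hrows r _ hrow e he
    unfold checkWtEntry at hchk
    rw [allIdxF_eq_true] at hchk
    have hmem := List.mem_zipIdx hq
    simp only [Nat.sub_zero] at hmem
    have hget : (D.chainEntry r c)[q.2]? = some q.1 := by
      rw [List.getElem?_eq_getElem (by omega), hmem.2.2]
    have hget' : (D.chainEntry r c)[q.2]? = some (q.1.1, q.1.2) := hget
    have htgt := (chainEntry_tgt V hr hget').1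
    rw [← hL] at hget
    have := hchk q.2 q.1 hget
    simp only [decide_eq_true_eq, zero_add] at this
    rw [T.cartan_eq i hi _ htgt, hec, T.cartan_eq i hi c hc, T.cartan_eq i hi r hr] at this
    exact this

theorem isWt_aco (V : Valid0 D) (T : ValidT D) (hsz : D.chain.size = D.nroots)
    (h : checkWt D = true) (r : ℕ) : IsWt D (fun s => aco D r s) := by
  unfold aco
  exact isWt_sum (fun i => cor D r i) D.rank (fun i hi => isWt_of_check V T hsz h hi)

/-- the simple torus elements are diagonal -/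
theorem hS_eq (J : ValidJ D) (h : checkHS D = true) {i : ℕ} (hi : i < D.rank)
    {R : Type*} [CommRing R] (T : Rˣ) :
    wN D R (evalWd T 1 (hW (D.simple i) (D.neg (D.simple i)))) =
      diagC D (fun s => ((T ^ D.cartan i s : Rˣ) : R)) := by
  have V := J.V
  have hp := (J.S i hi).1
  simp only [checkHS, forallLtF_eq_true, withNat_eq] at h
  apply ext_Bv
  intro c hc
  have hchk := h i hi c hc
  rw [← V.neg_eq _ hp] at hchk
  rw [wordVec_of_check V (colsF_ok J.T) hchk T 1, diagC_mulVec_Bv, svT_cons, svT_nil, add_zero]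
  simp only [Int.cast_one, one_mul]
  congr 1
  unfold chi cartF extC
  by_cases hcn : c < D.nroots
  · have : Nat.blt c D.nroots = true := by rw [Nat.blt_eq]; exact hcn
    rw [this, cond_true, if_pos hcn, J.T.cartan_eq i hi c hcn]
    simp
  · have : Nat.blt c D.nroots = false := by rw [← Bool.not_eq_true, Nat.blt_eq]; exact hcn
    rw [this, cond_false, if_neg hcn]
    simp

/-- the properties of the signs `η` -/
theorem nS_props (J : ValidJ D) (h : checkNS D = true) {i : ℕ} (hi : i < D.rank) :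
    etaF D i (D.simple i) = -1 ∧ etaF D i (D.neg (D.simple i)) = -1 ∧
    ∀ s < D.nroots, D.reflectRoot i s < D.nroots ∧ (etaF D i s = 1 ∨ etaF D i s = -1) ∧
      etaF D i s * etaF D i (D.reflectRoot i s) = (-1) ^ (D.cartan i s).natAbs ∧
      etaF D i s * etaF D i (D.neg s) = 1 ∧
      D.reflectRoot i (D.neg s) = D.neg (D.reflectRoot i s) := by
  have V := J.V
  have hp := (J.S i hi).1
  simp only [checkNS, forallLtF_eq_true, withNat_eq, Bool.and_eq_true, decide_eq_true_eq] at h
  obtain ⟨⟨⟨hep, henp⟩, hroot⟩, _⟩ := h i hi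
  refine ⟨hep, ?_, ?_⟩
  · rw [V.neg_eq _ hp]; exact henp
  · intro s hs
    have := hroot s hs
    unfold checkNroot at this
    simp only [withInt_eq, withNat_eq, Bool.and_eq_true, Bool.or_eq_true, decide_eq_true_eq,
      Nat.blt_eq, Nat.beq_eq] at this
    obtain ⟨⟨⟨⟨⟨hlt, _⟩, hpm⟩, hrel1⟩, hrel2⟩, hneg⟩ := this
    rw [reflP_eq V J.T hi hp hs] at hlt hrel1 hneg
    rw [J.T.cartan_eq i hi s hs] at hrel1
    rw [← V.neg_eq s hs] at hrel2 hneg
    rw [reflP_eq V J.T hi hp (V.neg_lt hs), ← V.neg_eq _ hlt] at hneg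
    exact ⟨hlt, hpm, hrel1, hrel2, hneg⟩

/-- the action of `n_{p_i}(1)` on the root vectors -/
theorem nS_mulVec_E (J : ValidJ D) (h : checkNS D = true) {i : ℕ} (hi : i < D.rank) {s : ℕ}
    (hs : s < D.nroots) {R : Type*} [CommRing R] :
    wN D R (castW R (nWZ (D.simple i) (D.neg (D.simple i)))) *ᵥ E D R s =
      ((etaF D i s : ℤ) : R) • E D R (D.reflectRoot i s) := by
  have V := J.V
  have hp := (J.S i hi).1
  simp only [checkNS, forallLtF_eq_true, withNat_eq, Bool.and_eq_true, decide_eq_true_eq] at h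
  obtain ⟨⟨_, hroot⟩, _⟩ := h i hi
  have := hroot s hs
  unfold checkNroot at this
  simp only [withInt_eq, withNat_eq, Bool.and_eq_true, Bool.or_eq_true, decide_eq_true_eq,
    Nat.blt_eq] at this
  obtain ⟨⟨⟨⟨⟨hlt, hvec⟩, _⟩, _⟩, _⟩, _⟩ := this
  rw [reflP_eq V J.T hi hp hs] at hlt hvec
  rw [← V.neg_eq _ hp] at hvec
  have key := wordVec_of_check V (colsF_ok J.T) hvec (R := R) 1 1
  rw [nW_eq, evalWd_constW, Bv_of_lt hs, svT_cons, svT_nil, add_zero, chi_zero, mul_one,
    Bv_of_lt hlt] at key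
  exact key

/-- the action of `n_{p_i}(1)` on the Cartan part -/
theorem nS_mulVec_Hb (J : ValidJ D) (h : checkNS D = true) {i : ℕ} (hi : i < D.rank) {j : ℕ}
    (hj : j < D.rank) {R : Type*} [CommRing R] :
    wN D R (castW R (nWZ (D.simple i) (D.neg (D.simple i)))) *ᵥ Hb D R j =
      Hb D R j - ((D.cartan j (D.simple i) : ℤ) : R) • Hb D R i := by
  have V := J.V
  have hp := (J.S i hi).1
  simp only [checkNS, forallLtF_eq_true, withNat_eq, Bool.and_eq_true, decide_eq_true_eq] at h
  obtain ⟨_, hcar⟩ := h i hi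
  have hvec := hcar j hj
  unfold checkNcar at hvec
  rw [← V.neg_eq _ hp] at hvec
  have key := wordVec_of_check V (colsF_ok J.T) hvec (R := R) 1 1
  rw [nW_eq, evalWd_constW, Bv_add, svT_cons, svT_cons, svT_nil, add_zero, chi_zero, mul_one,
    mul_one, Bv_add, Bv_add, J.T.cartan_eq j hj _ hp] at key
  rw [key]
  simp only [Int.cast_one, one_smul, Int.cast_neg, neg_smul]
  rw [sub_eq_add_neg]

end Sound

end Cfsg.Agent.Lib.Helper8.Chev
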