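import Cfsg.Agent.Lib.Helper8.ChevH2

set_option autoImplicit false

namespace Cfsg.Agent.Lib.Helper8.Chev

open Cfsg.Lie Matrix

variable {D : ChevalleyDatum}

/-! ### Products of the simple torus elements -/

/-- the word `∏_{i<k} h_{p_i}(T^{m_i})` -/
def hAllW {R : Type*} [CommRing R] (D : ChevalleyDatum) (m : ℕ → ℤ) (T : Rˣ) (k : ℕ) :
    List (ℕ × R) :=
  (List.range k).flatMap fun i => evalWd (T ^ m i) 1 (hW (D.simple i) (D.neg (D.simple i)))

theorem wN_hAllW (J : ValidJ D) (hS : checkHS D = true) (m : ℕ → ℤ) {R : Type*} [CommRing R]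
    (T : Rˣ) (k : ℕ) (hk : k ≤ D.rank) :
    wN D R (hAllW D m T k) =
      diagC D (fun s => ((T ^ (∑ i ∈ Finset.range k, m i * D.cartan i s) : Rˣ) : R)) := by
  induction k with
  | zero =>
    simp only [hAllW, List.range_zero, List.flatMap_nil, wN_nil, Finset.range_zero,
      Finset.sum_empty, zpow_zero, Units.val_one]
    exact diagC_one.symm
  | succ k ih =>
    have h1 := ih (by omega)
    unfold hAllW at h1 ⊢
    rw [List.range_succ, List.flatMap_append, wN_append, h1]
    simp only [List.flatMap_cons, List.flatMap_nil, List.append_nil]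
    rw [hS_eq J hS (by omega : k < D.rank), diagC_mul_diagC]
    apply diagC_congr
    intro s _
    rw [Finset.sum_range_succ, ← Units.val_mul, _root_.zpow_add, _root_.zpow_mul]

/-! ### The torus elements of arbitrary roots -/

theorem acoF_eq (T : ValidT D) {r g : ℕ} (hr : r < D.nroots) (hg : g < D.nroots) :
    acoF D r g = aco D r g := by
  unfold acoF aco
  rw [sumLtF_eq]
  apply Finset.sum_congr rfl
  intro i hi
  rw [Finset.mem_range] at hi
  rw [T.cor_eq r hr i hi, T.cartan_eq i hi g hg]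

theorem hG_char0 (J : ValidJ D) (V1 : Valid1 D) (hS : checkHS D = true) (hG : checkHG D = true)
    {r : ℕ} (hr : r < D.nroots) {K : Type*} [Field K] [CharZero K] (T : Kˣ) :
    wN D K (evalWd T 1 (hW r (D.neg r))) = wN D K (hAllW D (fun i => cor D r i) T D.rank) := by
  have V := J.V
  have hall := wN_hAllW J hS (fun i => cor D r i) T D.rank (le_refl _)
  simp only [checkHG, forallLtF_eq_true, allF_eq_true, withNat_eq] at hG
  have hon : ∀ g ∈ genCodes D, g < D.nroots →
      wN D K (evalWd T 1 (hW r (D.neg r))) *ᵥ Bv D K g =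
        wN D K (hAllW D (fun i => cor D r i) T D.rank) *ᵥ Bv D K g := by
    intro g hg hgn
    have hchk := hG r hr g hg
    rw [← V.neg_eq r hr] at hchk
    rw [wordVec_of_check V (colsF_ok J.T) hchk T 1, hall, diagC_mulVec_Bv, svT_cons, svT_nil,
      add_zero]
    simp only [Int.cast_one, one_mul]
    congr 1
    unfold extC chi
    rw [if_pos hgn, acoF_eq J.T hr hgn]
    unfold aco
    simp
  apply eq_of_agree_gen J (presBr_wN J V1 _) (presBr_wN J V1 _)
  · exact hon 0 (by unfold genCodes; exact List.mem_cons_self) (by omega)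
  · intro i hi
    apply hon _ _ (J.S i hi).1
    unfold genCodes
    rw [mapF_eq_map, rangeF_eq]
    exact List.mem_cons_of_mem _ (List.mem_map.mpr ⟨i, List.mem_range.mpr hi, rfl⟩)

theorem mapW_flatMap_lauW {R : Type*} [CommRing R] (c : Rˣ) (m : ℕ → ℤ) (w : ℕ → List (ℕ × Mono))
    (k : ℕ) :
    mapW (LaurentPolynomial.eval₂ (Int.castRingHom R) c)
      ((List.range k).flatMap fun i => lauW (m i) (w i)) =
      (List.range k).flatMap fun i => evalWd (c ^ m i) 1 (w i) := by
  unfold mapW
  rw [List.map_flatMap]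
  congr 1
  funext i
  exact mapW_lauW c (m i) (w i)

/-- every torus element is the product of simple torus elements -/
theorem hG_word (J : ValidJ D) (V1 : Valid1 D) (hS : checkHS D = true) (hG : checkHG D = true)
    {r : ℕ} (hr : r < D.nroots) {R : Type*} [CommRing R] (T : Rˣ) :
    wN D R (evalWd T 1 (hW r (D.neg r))) = wN D R (hAllW D (fun i => cor D r i) T D.rank) := by
  have key := wN_transfer_laurent (D := D) (lauW 1 (hW r (D.neg r)))
    ((List.range D.rank).flatMap fun i => lauW (cor D r i) (hW (D.simple i) (D.neg (D.simple i))))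
    (by
      intro K _ _ c
      rw [mapW_lauW, zpow_one, mapW_flatMap_lauW]
      exact hG_char0 J V1 hS hG hr c) T
  rw [mapW_lauW, zpow_one, mapW_flatMap_lauW] at key
  exact key

/-- every torus element is diagonal -/
theorem hG_eq (J : ValidJ D) (V1 : Valid1 D) (hS : checkHS D = true) (hG : checkHG D = true)
    {r : ℕ} (hr : r < D.nroots) {R : Type*} [CommRing R] (T : Rˣ) :
    wN D R (evalWd T 1 (hW r (D.neg r))) = diagC D (fun s => ((T ^ aco D r s : Rˣ) : R)) := by
  rw [hG_word J V1 hS hG hr T, wN_hAllW J hS _ T D.rank (le_refl _)]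
  rfl

/-! ### Conjugation by `n_{p_i}(1)` -/

theorem nWZ_lt (V : Valid0 D) {p : ℕ} (hp : p < D.nroots) :
    ∀ q ∈ nWZ p (D.neg p), q.1 < D.nroots := by
  intro q hq
  simp only [nWZ, List.mem_cons, List.not_mem_nil, or_false] at hq
  rcases hq with rfl | rfl | rfl
  · exact hp
  · exact V.neg_lt hp
  · exact hp

theorem nS_conj (J : ValidJ D) (V1 : Valid1 D) (hN : checkNS D = true) {i : ℕ} (hi : i < D.rank)
    {s : ℕ} (hs : s < D.nroots) {R : Type*} [CommRing R] (t : R) :
    wN D R (castW R (nWZ (D.simple i) (D.neg (D.simple i)))) * xN D R s t =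
      xN D R (D.reflectRoot i s) (((etaF D i s : ℤ) : R) * t) *
        wN D R (castW R (nWZ (D.simple i) (D.neg (D.simple i)))) :=
  word_conj_xN J V1 _ (nWZ_lt J.V (J.S i hi).1) hs ((nS_props J hN hi).2.2 s hs).1 (etaF D i s)
    (fun K _ _ => nS_mulVec_E J hN hi hs) t

/-! ### Field versions -/

section Field

variable {F : Type*} [Field F]

theorem hWord_eq (r : ℕ) {c : F} (hc : c ≠ 0) :
    D.hWord r c = evalWd (Units.mk0 c hc) 1 (hW r (D.neg r)) := by
  rw [evalWd_hW]
  simp [ChevalleyDatum.hWord, ChevalleyDatum.nWord]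

theorem nWord_one_eq (r : ℕ) : D.nWord r (1 : F) = castW F (nWZ r (D.neg r)) := by
  rw [castW_nWZ]
  simp [ChevalleyDatum.nWord]

theorem hMat_eq (r : ℕ) {c : F} (hc : c ≠ 0) :
    D.hMat F r c = wN D F (evalWd (Units.mk0 c hc) 1 (hW r (D.neg r))) := by
  unfold ChevalleyDatum.hMat
  rw [wordMat_eq_wN, hWord_eq r hc]

theorem nMat_one_eq (r : ℕ) : D.nMat F r 1 = wN D F (castW F (nWZ r (D.neg r))) := by
  unfold ChevalleyDatum.nMat
  rw [wordMat_eq_wN, nWord_one_eq]

theorem diagC_zpow (c : F) (hc : c ≠ 0) (a : ℕ → ℤ) :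
    diagC D (fun s => ((Units.mk0 c hc ^ a s : Fˣ) : F)) = diagC D (fun s => c ^ a s) := by
  apply diagC_congr
  intro s _
  rw [Units.val_zpow_eq_zpow_val, Units.val_mk0]

end Field

end Cfsg.Agent.Lib.Helper8.Chev
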