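import Cfsg.Agent.Lib.Helper8.ChevH2

set_option autoImplicit false

namespace Cfsg.Agent.Lib.Helper8.Chev

open Cfsg.Lie

theorem checkWt_D4 : checkWt chevD4 = true := by decide +kernel
theorem checkHS_D4 : checkHS chevD4 = true := by decide +kernel
theorem checkNS_D4 : checkNS chevD4 = true := by decide +kernel
theorem checkHG_D4 : checkHG chevD4 = true := by decide +kernel

end Cfsg.Agent.Lib.Helper8.Chev
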