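import Cfsg.Agent.Lib.Helper8.ChevH2

set_option autoImplicit false

namespace Cfsg.Agent.Lib.Helper8.Chev

open Cfsg.Lie

theorem checkHS_E8 : checkHS chevE8 = true := by decide +kernel

end Cfsg.Agent.Lib.Helper8.Chev
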