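import Cfsg.Agent.Lib.Helper8.ChevH3
import Cfsg.Agent.Lib.Helper8.ChevX9
import Cfsg.Agent.Lib.Helper8.ChevH_G2
import Cfsg.Agent.Lib.Helper8.ChevH_B2
import Cfsg.Agent.Lib.Helper8.ChevH_D4
import Cfsg.Agent.Lib.Helper8.ChevH_F4
import Cfsg.Agent.Lib.Helper8.ChevH_E6_Wt
import Cfsg.Agent.Lib.Helper8.ChevH_E6_HS
import Cfsg.Agent.Lib.Helper8.ChevH_E6_NS
import Cfsg.Agent.Lib.Helper8.ChevH_E6_HG
import Cfsg.Agent.Lib.Helper8.ChevH_E7_Wt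
import Cfsg.Agent.Lib.Helper8.ChevH_E7_HS
import Cfsg.Agent.Lib.Helper8.ChevH_E7_NS
import Cfsg.Agent.Lib.Helper8.ChevH_E7_HG
import Cfsg.Agent.Lib.Helper8.ChevH_E8_Wt
import Cfsg.Agent.Lib.Helper8.ChevH_E8_HS
import Cfsg.Agent.Lib.Helper8.ChevH_E8_NS
import Cfsg.Agent.Lib.Helper8.ChevH_E8_HG

set_option autoImplicit false

namespace Cfsg.Agent.Lib.Helper8.Chev

open Cfsg.Lie Matrix

/-- the rank-one checks of a datum -/
structure ValidH (D : ChevalleyDatum) : Prop where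
  hsz : D.chain.size = D.nroots
  wt : checkWt D = true
  hS : checkHS D = true
  nS : checkNS D = true
  hG : checkHG D = true

theorem validH_of_mem {D : ChevalleyDatum}
    (hD : D ∈ [chevG2, chevB2, chevD4, chevF4, chevE6, chevE7, chevE8]) : ValidH D :=
  forall_seven (P := ValidH)
    ⟨rfl, checkWt_G2, checkHS_G2, checkNS_G2, checkHG_G2⟩
    ⟨rfl, checkWt_B2, checkHS_B2, checkNS_B2, checkHG_B2⟩
    ⟨rfl, checkWt_D4, checkHS_D4, checkNS_D4, checkHG_D4⟩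
    ⟨rfl, checkWt_F4, checkHS_F4, checkNS_F4, checkHG_F4⟩
    ⟨rfl, checkWt_E6, checkHS_E6, checkNS_E6, checkHG_E6⟩
    ⟨rfl, checkWt_E7, checkHS_E7, checkNS_E7, checkHG_E7⟩
    ⟨rfl, checkWt_E8, checkHS_E8, checkNS_E8, checkHG_E8⟩ hD

end Cfsg.Agent.Lib.Helper8.Chev
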