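import Cfsg.Agent.Lib.Helper8.ChevH4

set_option autoImplicit false

namespace Cfsg.Agent.Lib.Helper8.Chev

open Cfsg.Lie Matrix

variable {D : ChevalleyDatum}

/-- conjugating a word letter by letter -/
theorem conj_word {R : Type*} [CommRing R] {M : Matrix D.Idx D.Idx R} (φ : ℕ × R → ℕ × R)
    (w : List (ℕ × R))
    (h : ∀ p ∈ w, M * xN D R p.1 p.2 = xN D R (φ p).1 (φ p).2 * M) :
    M * wN D R w = wN D R (w.map φ) * M := by
  induction w with
  | nil => simp
  | cons p w ih =>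
    rw [List.map_cons, wN_cons, wN_cons, ← Matrix.mul_assoc, h p List.mem_cons_self,
      Matrix.mul_assoc, ih (fun q hq => h q (List.mem_cons_of_mem _ hq)), Matrix.mul_assoc]

section Field

variable {F : Type*} [Field F]

theorem nMat_eq_wN (r : ℕ) (c : F) : D.nMat F r c = wN D F (D.nWord r c) := by
  unfold ChevalleyDatum.nMat
  rw [wordMat_eq_wN]

theorem nWord_neg (r : ℕ) (c : F) : D.nWord r (-c) = invW (D.nWord r c) := by
  simp [ChevalleyDatum.nWord, invW, inv_neg]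

theorem nWord_lt (V : Valid0 D) {r : ℕ} (hr : r < D.nroots) (c : F) :
    ∀ p ∈ D.nWord r c, p.1 < D.nroots := by
  intro q hq
  simp only [ChevalleyDatum.nWord, List.mem_cons, List.not_mem_nil, or_false] at hq
  rcases hq with rfl | rfl | rfl
  · exact hr
  · exact V.neg_lt hr
  · exact hr

theorem nMat_mul_neg (V : Valid0 D) (V1 : Valid1 D) {r : ℕ} (hr : r < D.nroots) (c : F) :
    D.nMat F r c * D.nMat F r (-c) = 1 := by
  rw [nMat_eq_wN, nMat_eq_wN, nWord_neg]
  exact wN_mul_invW V V1 _ (nWord_lt V hr c)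

theorem nMat_neg_mul (V : Valid0 D) (V1 : Valid1 D) {r : ℕ} (hr : r < D.nroots) (c : F) :
    D.nMat F r (-c) * D.nMat F r c = 1 := by
  rw [nMat_eq_wN, nMat_eq_wN, nWord_neg]
  exact wN_invW_mul V V1 _ (nWord_lt V hr c)

theorem hMat_eq_nMat_mul (r : ℕ) (c : F) : D.hMat F r c = D.nMat F r c * D.nMat F r (-1) := by
  unfold ChevalleyDatum.hMat ChevalleyDatum.nMat ChevalleyDatum.hWord
  rw [wordMat_eq_wN, wordMat_eq_wN, wordMat_eq_wN, wN_append]

theorem nMat_eq_hMat_mul (V : Valid0 D) (V1 : Valid1 D) {r : ℕ} (hr : r < D.nroots) (c : F) :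
    D.nMat F r c = D.hMat F r c * D.nMat F r 1 := by
  have h := nMat_mul_neg V V1 hr (-1 : F)
  rw [neg_neg] at h
  rw [hMat_eq_nMat_mul, Matrix.mul_assoc, h, Matrix.mul_one]

/-- every torus element is diagonal -/
theorem hMat_diag (J : ValidJ D) (V1 : Valid1 D) (H : ValidH D) {r : ℕ} (hr : r < D.nroots)
    {c : F} (hc : c ≠ 0) : D.hMat F r c = diagC D (fun s => c ^ aco D r s) := by
  rw [hMat_eq r hc, hG_eq J V1 H.hS H.hG hr, diagC_zpow]

theorem hMat_mul_hMat (J : ValidJ D) (V1 : Valid1 D) (H : ValidH D) {r : ℕ} (hr : r < D.nroots)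
    {c d : F} (hc : c ≠ 0) (hd : d ≠ 0) : D.hMat F r c * D.hMat F r d = D.hMat F r (c * d) := by
  rw [hMat_diag J V1 H hr hc, hMat_diag J V1 H hr hd, hMat_diag J V1 H hr (mul_ne_zero hc hd),
    diagC_mul_diagC]
  apply diagC_congr
  intro s _
  rw [mul_zpow]

theorem hMat_one (J : ValidJ D) (V1 : Valid1 D) (H : ValidH D) {r : ℕ} (hr : r < D.nroots) :
    D.hMat F r 1 = 1 := by
  rw [hMat_diag J V1 H hr one_ne_zero, ← diagC_one]
  apply diagC_congr
  intro s _
  rw [_root_.one_zpow]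

theorem nMat_one_sq (J : ValidJ D) (V1 : Valid1 D) (H : ValidH D) {r : ℕ} (hr : r < D.nroots) :
    D.nMat F r 1 * D.nMat F r 1 = D.hMat F r (-1) := by
  have hm1 : (-1 : F) ≠ 0 := neg_ne_zero.mpr one_ne_zero
  have h1 : D.hMat F r (-1) * D.hMat F r (-1) = 1 := by
    rw [hMat_mul_hMat J V1 H hr hm1 hm1, neg_mul_neg, mul_one, hMat_one J V1 H hr]
  have h2 : D.nMat F r 1 * D.nMat F r (-1) = 1 := nMat_mul_neg J.V V1 hr 1
  calc D.nMat F r 1 * D.nMat F r 1
      = D.nMat F r 1 * D.nMat F r 1 * (D.hMat F r (-1) * D.hMat F r (-1)) := by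
        rw [h1, Matrix.mul_one]
    _ = D.nMat F r 1 * (D.nMat F r 1 * D.nMat F r (-1)) * D.nMat F r (-1) * D.hMat F r (-1) := by
        rw [hMat_eq_nMat_mul r (-1 : F)]
        simp only [Matrix.mul_assoc]
    _ = D.hMat F r (-1) := by
        rw [h2, Matrix.mul_one, h2, Matrix.one_mul]

theorem nMat_neg_mul_one (J : ValidJ D) (V1 : Valid1 D) (H : ValidH D) {r : ℕ}
    (hr : r < D.nroots) {t : F} (ht : t ≠ 0) :
    D.nMat F r (-t) * D.nMat F r 1 = D.hMat F r t := by
  have hm1 : (-1 : F) ≠ 0 := neg_ne_zero.mpr one_ne_zero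
  rw [nMat_eq_hMat_mul J.V V1 hr (-t), Matrix.mul_assoc, nMat_one_sq J V1 H hr,
    hMat_mul_hMat J V1 H hr (neg_ne_zero.mpr ht) hm1, neg_mul_neg, mul_one]

/-- `n_{p_i}(1) h_{p_j}(t) = h_{w_i(p_j)}(t) n_{p_i}(1)` -/
theorem nS_hMat (J : ValidJ D) (V1 : Valid1 D) (H : ValidH D) {i : ℕ} (hi : i < D.rank) {r : ℕ}
    (hr : r < D.nroots) {t : F} (ht : t ≠ 0) :
    D.nMat F (D.simple i) 1 * D.hMat F r t =
      D.hMat F (D.reflectRoot i r) t * D.nMat F (D.simple i) 1 := by
  have V := J.V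
  obtain ⟨_, _, h3⟩ := nS_props J H.nS hi
  obtain ⟨hr', hpm, _, hrel, hneg⟩ := h3 r hr
  have hnr := V.neg_lt hr
  obtain ⟨_, hpm', _, _, _⟩ := h3 _ hnr
  have heta : etaF D i (D.neg r) = etaF D i r := by
    rcases hpm with h | h <;> rcases hpm' with h' | h' <;> rw [h, h'] at hrel ⊢ <;> omega
  have hne : D.neg r ≠ r := by
    rw [V.neg_eq r hr]
    have := V.even
    omega
  set r' := D.reflectRoot i r with hr'def
  set η : F := ((etaF D i r : ℤ) : F) with hη
  let φ : ℕ × F → ℕ × F := fun p => if p.1 = r then (r', η * p.2) else (D.neg r', η * p.2)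
  have hconj : ∀ p ∈ D.hWord r t,
      D.nMat F (D.simple i) 1 * xN D F p.1 p.2 = xN D F (φ p).1 (φ p).2 * D.nMat F (D.simple i) 1 := by
    intro p hp
    have hp1 : p.1 = r ∨ p.1 = D.neg r := by
      simp only [ChevalleyDatum.hWord, ChevalleyDatum.nWord, List.cons_append, List.nil_append,
        List.mem_cons, List.not_mem_nil, or_false] at hp
      rcases hp with rfl | rfl | rfl | rfl | rfl | rfl <;> simp
    rcases hp1 with h | h
    · have := nS_conj J V1 H.nS hi hr (R := F) p.2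
      rw [nMat_one_eq, h]
      simp only [φ, h, if_true]
      exact this
    · have := nS_conj J V1 H.nS hi hnr (R := F) p.2
      rw [nMat_one_eq, h]
      simp only [φ, h, if_neg hne]
      rw [hneg, heta] at this
      exact this
  have key := conj_word φ (D.hWord r t) hconj
  have hL : D.hMat F r t = wN D F (D.hWord r t) := by
    unfold ChevalleyDatum.hMat; rw [wordMat_eq_wN]
  rw [hL, key]
  congr 1
  have hmap : (D.hWord r t).map φ =
      [(r', η * t), (D.neg r', η * (-t⁻¹)), (r', η * t), (r', η * (-1)), (D.neg r', η * (- (-1 : F)⁻¹)),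
        (r', η * (-1))] := by
    simp [ChevalleyDatum.hWord, ChevalleyDatum.nWord, φ, hne]
  rw [hmap]
  rcases hpm with h | h
  · have hη1 : η = 1 := by rw [hη, h]; simp
    rw [hη1]
    unfold ChevalleyDatum.hMat
    rw [wordMat_eq_wN]
    congr 1
    simp [ChevalleyDatum.hWord, ChevalleyDatum.nWord]
  · have hη1 : η = -1 := by rw [hη, h]; simp
    rw [hη1, ← nMat_neg_mul_one J V1 H hr' ht, nMat_eq_wN, nMat_eq_wN, ← wN_append]
    congr 1
    simp [ChevalleyDatum.nWord, inv_neg]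

end Field

end Cfsg.Agent.Lib.Helper8.Chev
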