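import Cfsg.Agent.Lib.Helper8.ChevHi1

set_option autoImplicit false

/-! # Subgroups of a Chevalley group containing `B` are the standard parabolic subgroups -/

namespace Cfsg.Agent.Lib.Helper8.Chev

open Cfsg.Lie Matrix Cfsg.Agent.Lib.Helper3

variable {D : ChevalleyDatum} {F : Type*} [Field F]

theorem parabolic_mono {J K : Set ℕ} (h : J ⊆ K) :
    D.parabolicSubgroup F J ≤ D.parabolicSubgroup F K := by
  unfold ChevalleyDatum.parabolicSubgroup
  apply sup_le_sup_left
  apply Subgroup.closure_mono
  rintro g ⟨j, hj, hjr, hg⟩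
  exact ⟨j, h hj, hjr, hg⟩

/-- every subgroup between `B` and `G` is a standard parabolic subgroup -/
theorem overgroup_eq_parabolic (hD : D ∈ [chevG2, chevB2, chevD4, chevF4, chevE6, chevE7, chevE8])
    (M : Subgroup (GL D.Idx F)) (hB : D.borelSubgroup F ≤ M) (hM : M ≤ D.group F) :
    M = D.parabolicSubgroup F {i | nG D F i ∈ M} := by
  have J := validJ_of_mem hD
  have V1 := valid1_of_mem hD
  apply le_antisymm
  · intro g hg
    set P := chevBN hD F with hP
    set M' : Subgroup ↥(D.group F) := M.subgroupOf (D.group F) with hM'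
    have hBM' : P.B ≤ M' := by
      intro x hx
      rw [mem_chevBN_B] at hx
      exact Subgroup.mem_subgroupOf.mpr (hB hx)
    have hg' : (⟨g, hM hg⟩ : ↥(D.group F)) ∈ M' := Subgroup.mem_subgroupOf.mpr hg
    rw [BN.eq_parabolic_gens P M' hBM'] at hg'
    have hmap := Subgroup.mem_map_of_mem (D.group F).subtype hg'
    have hle : (P.parabolic (BN.gens P M')).map (D.group F).subtype ≤
        D.parabolicSubgroup F {i | nG D F i ∈ M} := by
      unfold BNPair.parabolic ChevalleyDatum.parabolicSubgroup
      rw [Subgroup.map_sup, MonoidHom.map_closure]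
      apply sup_le_sup
      · rintro _ ⟨x, hx, rfl⟩
        exact (mem_chevBN_B hD).mp hx
      · apply Subgroup.closure_mono
        rintro _ ⟨s, ⟨hsS, hsM⟩, rfl⟩
        rw [hP, chevBN_S] at hsS
        obtain ⟨i, hi, hs⟩ := hsS
        have hsi : ((D.group F).subtype s : GL D.Idx F) = nG D F i := by
          apply Units.ext
          rw [coe_nG J V1 hi]
          exact hs
        refine ⟨i, ?_, hi, hs⟩
        show nG D F i ∈ M
        rw [← hsi]
        exact Subgroup.mem_subgroupOf.mp hsM
    exact hle hmap
  · unfold ChevalleyDatum.parabolicSubgroup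
    refine sup_le hB ?_
    rw [Subgroup.closure_le]
    rintro g ⟨j, hj, hjr, hg⟩
    have : g = nG D F j := by
      apply Units.ext
      rw [coe_nG J V1 hjr]
      exact hg
    rw [SetLike.mem_coe, this]
    exact hj

end Cfsg.Agent.Lib.Helper8.Chev
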