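import Cfsg.Agent.Lib.Helper8.ChevHi2

set_option autoImplicit false

/-! # Normalisers of root subgroups among the monomial elements -/

namespace Cfsg.Agent.Lib.Helper8.Chev

open Cfsg.Lie Matrix

variable {D : ChevalleyDatum} {F : Type*} [Field F]

/-- a product of fundamental `n_i` normalises `X_s` iff the Weyl group element fixes `s` -/
theorem nP_mem_normalizer_iff (hD : D ∈ [chevG2, chevB2, chevD4, chevF4, chevE6, chevE7, chevE8])
    {l : List ℕ} (hl : ∀ i ∈ l, i < D.rank) {s : ℕ} (hs : s < D.nroots) :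
    nP D F l ∈ Subgroup.normalizer (D.rootSubgroup F s : Set (GL D.Idx F)) ↔
      reflWord D l s = s := by
  have V := valid0_of_mem hD
  have V1 := valid1_of_mem hD
  have J := validJ_of_mem hD
  have H := validH_of_mem hD
  have C := copP_of_mem hD
  have hP := (rootPermN_nP (F := F) J V1 H.nS l hl).rootPerm
  constructor
  · intro hn
    obtain ⟨x, hx⟩ := exists_unit_x (F := F) V V1 hs 1
    have h1 := (Subgroup.mem_normalizer_iff.mp hn x).mp (x_mem_rootSubgroup _ _ hx)
    obtain ⟨c, hc⟩ := rootSubgroup_form V V1 hs h1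
    obtain ⟨ε, hε⟩ := rootPerm_conj hP hs 1 x hx
    rw [hc, x_eq_xN, x_eq_xN] at hε
    have hne : ((ε : Fˣ) : F) * 1 ≠ 0 := by
      rw [mul_one]; exact Units.ne_zero ε
    exact xN_inj_root V C (hP s hs).1 hs hne hε.symm
  · intro hw
    rw [Subgroup.mem_normalizer_iff]
    intro x
    constructor
    · intro hx
      obtain ⟨t, ht⟩ := rootSubgroup_form V V1 hs hx
      obtain ⟨ε, hε⟩ := rootPerm_conj hP hs t x ht
      rw [hw] at hε
      exact x_mem_rootSubgroup _ _ hε
    · intro hx
      obtain ⟨t', ht'⟩ := rootSubgroup_form V V1 hs hx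
      obtain ⟨_, ε, e⟩ := hP s hs
      obtain ⟨y, hy⟩ := exists_unit_x (F := F) V V1 hs (((ε⁻¹ : Fˣ) : F) * t')
      have h2 : nP D F l * y * (nP D F l)⁻¹ = nP D F l * x * (nP D F l)⁻¹ := by
        apply Units.ext
        rw [ht', Units.val_mul, Units.val_mul, hy, x_eq_xN, e, hw, Matrix.mul_assoc,
          ← Units.val_mul, mul_inv_cancel, Units.val_one, Matrix.mul_one, ← mul_assoc,
          ← Units.val_mul, mul_inv_cancel, Units.val_one, one_mul, x_eq_xN]
      have h3 : y = x := by
        have := congrArg (fun z => (nP D F l)⁻¹ * z * nP D F l) h2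
        simpa [mul_assoc] using this
      rw [← h3]
      exact x_mem_rootSubgroup _ _ hy

/-- the subgroup `N_G(X_r)` for the highest root `r` is the parabolic subgroup of the
fundamental reflections fixing `r` -/
theorem normalizer_hi_eq (hD : D ∈ [chevG2, chevB2, chevD4, chevF4, chevE6, chevE7, chevE8]) :
    Subgroup.normalizer (D.rootSubgroup F (D.nroots - 1) : Set (GL D.Idx F)) ⊓ D.group F =
      D.parabolicSubgroup F {i | i < D.rank ∧ D.reflectRoot i (D.nroots - 1) = D.nroots - 1} := by
  have V := valid0_of_mem hD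
  have V1 := valid1_of_mem hD
  have hr := hi_lt hD
  have h1 := overgroup_eq_parabolic hD
    (Subgroup.normalizer (D.rootSubgroup F (D.nroots - 1) : Set (GL D.Idx F)) ⊓ D.group F)
    (le_inf (borel_le_normalizer_hi hD) (borel_le_group V V1)) inf_le_right
  rw [h1]
  apply le_antisymm
  · unfold ChevalleyDatum.parabolicSubgroup
    apply sup_le_sup_left
    apply Subgroup.closure_mono
    rintro g ⟨j, hj, hjr, hg⟩
    refine ⟨j, ⟨hjr, ?_⟩, hjr, hg⟩
    have hj' : nP D F [j] ∈
        Subgroup.normalizer (D.rootSubgroup F (D.nroots - 1) : Set (GL D.Idx F)) := by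
      have : nP D F [j] = nG D F j := by rw [nP_cons, nP_nil, mul_one]
      rw [this]
      exact hj.1
    have := (nP_mem_normalizer_iff hD (l := [j]) (by simpa using hjr) hr).mp hj'
    simpa [reflWord] using this
  · apply parabolic_mono
    rintro j ⟨hjr, hj⟩
    show nG D F j ∈ Subgroup.normalizer (D.rootSubgroup F (D.nroots - 1) : Set (GL D.Idx F)) ⊓
      D.group F
    refine ⟨?_, nG_mem_group hD hjr⟩
    have : nG D F j = nP D F [j] := by rw [nP_cons, nP_nil, mul_one]
    rw [this]
    apply (nP_mem_normalizer_iff hD (l := [j]) (by simpa using hjr) hr).mpr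
    simpa [reflWord] using hj

end Cfsg.Agent.Lib.Helper8.Chev
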