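import Cfsg.Agent.Lib.Helper8.ChevHi3

set_option autoImplicit false

/-! # The centraliser of a highest root element lies in the normaliser of the root subgroup -/

namespace Cfsg.Agent.Lib.Helper8.Chev

open Cfsg.Lie Matrix

variable {D : ChevalleyDatum} {F : Type*} [Field F]

/-- Bruhat form of an element commuting with `x_r(c)`, `c ≠ 0`, `r` the highest root -/
theorem centralizer_hi_word (hD : D ∈ [chevG2, chevB2, chevD4, chevF4, chevE6, chevE7, chevE8])
    {t : GL D.Idx F} {c : F} (hc : c ≠ 0)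
    (ht : (t : Matrix D.Idx D.Idx F) = D.x F (D.nroots - 1) c) {g : GL D.Idx F}
    (hgG : g ∈ D.group F) (hgC : g * t = t * g) :
    ∃ b ∈ D.borelSubgroup F, ∃ l : List ℕ, (∀ i ∈ l, i < D.rank) ∧ ∃ u ∈ D.posUnipotent F,
      g = b * nP D F l * u ∧ reflWord D l (D.nroots - 1) = D.nroots - 1 := by
  have V := valid0_of_mem hD
  have V1 := valid1_of_mem hD
  have J := validJ_of_mem hD
  have H := validH_of_mem hD
  have C := copP_of_mem hD
  have hr := hi_lt hD
  obtain ⟨b, hb, l, hl, u, hu, e⟩ := bruhat_exists_word hD hgG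
  have huU : u ∈ D.posUnipotent F := unegS_le_pos _ (unegW_le_unegS hD hl hu)
  refine ⟨b, hb, l, hl, u, huU, e, ?_⟩
  have hP := (rootPermN_nP (F := F) J V1 H.nS l hl).rootPerm
  have hut : u * t = t * u := pos_centralizes_hi hD huU ht
  -- `n t n⁻¹ = b⁻¹ t b`
  have h1 : nP D F l * t * (nP D F l)⁻¹ = b⁻¹ * t * b⁻¹⁻¹ := by
    have e1 : nP D F l = b⁻¹ * g * u⁻¹ := by rw [e]; group
    have e2 : u⁻¹ * t = t * u⁻¹ := by
      have := congrArg (fun z => u⁻¹ * z * u⁻¹) hut
      simpa [mul_assoc] using this.symm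
    rw [inv_inv]
    calc nP D F l * t * (nP D F l)⁻¹
        = b⁻¹ * g * (u⁻¹ * t) * u * g⁻¹ * b := by rw [e1]; group
      _ = b⁻¹ * (g * t) * g⁻¹ * b := by rw [e2]; group
      _ = b⁻¹ * t * b := by rw [hgC]; group
  obtain ⟨ε, hε⟩ := rootPerm_conj hP hr c t ht
  obtain ⟨c', hc'⟩ := borel_conj_hi hD (inv_mem hb)
  have h2 := hc' c t ht
  rw [← h1, hε, x_eq_xN, x_eq_xN] at h2
  have hne : ((ε : Fˣ) : F) * c ≠ 0 := mul_ne_zero (Units.ne_zero ε) hc
  exact xN_inj_root V C (hP _ hr).1 hr hne h2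

/-- the centraliser in `G` of a highest root element normalises its root subgroup -/
theorem centralizer_hi_le (hD : D ∈ [chevG2, chevB2, chevD4, chevF4, chevE6, chevE7, chevE8])
    {t : GL D.Idx F} {c : F} (hc : c ≠ 0)
    (ht : (t : Matrix D.Idx D.Idx F) = D.x F (D.nroots - 1) c) {g : GL D.Idx F}
    (hgG : g ∈ D.group F) (hgC : g * t = t * g) :
    g ∈ D.parabolicSubgroup F
      {i | i < D.rank ∧ D.reflectRoot i (D.nroots - 1) = D.nroots - 1} := by
  have V := valid0_of_mem hD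
  have V1 := valid1_of_mem hD
  obtain ⟨b, hb, l, hl, u, hu, e, hw⟩ := centralizer_hi_word hD hc ht hgG hgC
  rw [← normalizer_hi_eq hD, e]
  have hBle := le_inf (borel_le_normalizer_hi (F := F) hD) (borel_le_group V V1)
  refine mul_mem (mul_mem (hBle hb) ⟨?_, ?_⟩) (hBle (pos_le_borel hu))
  · exact (nP_mem_normalizer_iff hD hl (hi_lt hD)).mpr hw
  · exact monomial_le_group V V1 (nP_mem_monomial hD hl)

end Cfsg.Agent.Lib.Helper8.Chev
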