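import Cfsg.Agent.Lib.Helper8.ChevHi4

set_option autoImplicit false

/-! # The centraliser of a long root involution in types `E₆`, `E₇`, `E₈`: the data -/

namespace Cfsg.Agent.Lib.Helper8.Chev

open Cfsg.Lie Matrix

/-- the fundamental root not orthogonal to the highest root (types `E₆`, `E₇`, `E₈`) -/
def hiNode (D : ChevalleyDatum) : ℕ :=
  if D.nroots = 72 then 1 else if D.nroots = 126 then 0 else 7

noncomputable def checkHiE (D : ChevalleyDatum) (L : List ℕ) : Bool :=
  Nat.blt (hiNode D) D.rank &&
  forallLtF (fun j => Nat.beq j (hiNode D) || decide (D.neg (D.simple j) ∈ L)) D.rank &&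
  !(Nat.beq (D.reflectRoot (hiNode D) (D.nroots - 1)) (D.nroots - 1)) &&
  decide (acoF D (D.simple (hiNode D)) (D.nroots - 1) = 1) &&
  allF (fun s => Nat.blt s (D.nroots - 1) && !(Nat.beq s (D.neg (D.nroots - 1))) &&
    decide (D.commTerms (D.nroots - 1) s = [])) L

set_option maxRecDepth 100000 in
theorem checkHiE_E6 : checkHiE chevE6 [15, 29, 32, 34, 35] = true := by decide +kernel
set_option maxRecDepth 100000 in
theorem checkHiE_E7 : checkHiE chevE7 [47, 52, 56, 59, 61, 62] = true := by decide +kernel
set_option maxRecDepth 100000 in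
theorem checkHiE_E8 : checkHiE chevE8 [77, 98, 104, 109, 113, 116, 118] = true := by
  decide +kernel

end Cfsg.Agent.Lib.Helper8.Chev
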