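import Cfsg.Agent.Lib.Helper8.ChevHi6

set_option autoImplicit false

/-! # The centraliser of a long root involution in types `E₆`, `E₇`, `E₈`: the theorem -/

namespace Cfsg.Agent.Lib.Helper8.Chev

open Cfsg.Lie Matrix

variable {D : ChevalleyDatum} {F : Type*} [Field F]

/-- the root elements of the roots of a list -/
def listGens (D : ChevalleyDatum) (F : Type*) [Field F] (L : List ℕ) : Set (GL D.Idx F) :=
  {g | ∃ s ∈ L, ∃ c : F, (g : Matrix D.Idx D.Idx F) = D.x F s c}

theorem centralizer_hi_eq (hD : D ∈ [chevG2, chevB2, chevD4, chevF4, chevE6, chevE7, chevE8])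
    {L : List ℕ} (hL : checkHiE D L = true) {t : GL D.Idx F}
    (ht : (t : Matrix D.Idx D.Idx F) = D.x F (D.nroots - 1) 1) :
    D.group F ⊓ Subgroup.centralizer {t} =
      D.posUnipotent F ⊔ Subgroup.closure (listGens D F L) := by
  have V := valid0_of_mem hD
  have V1 := valid1_of_mem hD
  have J := validJ_of_mem hD
  have H := validH_of_mem hD
  have hr := hi_lt hD
  simp only [checkHiE, Bool.and_eq_true, forallLtF_eq_true, Bool.or_eq_true, decide_eq_true_eq,
    Nat.blt_eq, Nat.beq_eq, allF_eq_true, Bool.not_eq_true', nat_beq_eq_false] at hL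
  obtain ⟨⟨⟨⟨h0, hJL⟩, hrefl⟩, haco⟩, hLc⟩ := hL
  set C0 : Subgroup (GL D.Idx F) := D.posUnipotent F ⊔ Subgroup.closure (listGens D F L) with hC0
  have hLx : ∀ s ∈ L, ∀ (c : F) (y : GL D.Idx F), (y : Matrix D.Idx D.Idx F) = D.x F s c →
      y ∈ C0 := fun s hs c y hy =>
    Subgroup.mem_sup_right (Subgroup.subset_closure ⟨s, hs, c, hy⟩)
  have hPx : ∀ s, D.IsPosRoot s → ∀ (c : F) (y : GL D.Idx F),
      (y : Matrix D.Idx D.Idx F) = D.x F s c → y ∈ C0 := fun s hs c y hy =>
    Subgroup.mem_sup_left (Subgroup.subset_closure ⟨s, c, hs, hy⟩)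
  -- (A), (B)
  have hAB : C0 ≤ D.group F ⊓ Subgroup.centralizer {t} := by
    refine sup_le (le_inf pos_le_group ?_) ?_
    · intro g hg
      rw [Subgroup.mem_centralizer_iff]
      rintro _ rfl
      exact (pos_centralizes_hi hD hg ht).symm
    · rw [Subgroup.closure_le]
      rintro y ⟨s, hs, c, hy⟩
      obtain ⟨⟨hs1, hs2⟩, hs3⟩ := hLc s hs
      have hsl : s < D.nroots := by omega
      refine Subgroup.mem_inf.mpr ⟨x_mem_group hsl c y hy, ?_⟩
      rw [Subgroup.mem_centralizer_iff]
      rintro _ rfl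
      apply Units.ext
      rw [Units.val_mul, Units.val_mul, ht, hy]
      exact (x_commute_of_nil hD hr hsl (by omega) hs2 hs3 1 c).symm
  -- (C)
  have hHN : D.diagonalSubgroup F ≤ Subgroup.normalizer (C0 : Set (GL D.Idx F)) := by
    intro h hh
    have hC0' : C0 = Subgroup.closure ((D.posUnipotent F : Set (GL D.Idx F)) ∪ listGens D F L) := by
      rw [Subgroup.closure_union, Subgroup.closure_eq]
    have key : ∀ h ∈ D.diagonalSubgroup F, ∀ g ∈ (D.posUnipotent F : Set (GL D.Idx F)) ∪
        listGens D F L, h * g * h⁻¹ ∈ Subgroup.closure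
          ((D.posUnipotent F : Set (GL D.Idx F)) ∪ listGens D F L) := by
      intro h hh g hg
      rcases hg with hg | ⟨s, hs, c, hg⟩
      · apply Subgroup.subset_closure
        left
        exact (Subgroup.mem_normalizer_iff.mp (diagonal_le_normalizer_pos J V1 H hh) g).mp hg
      · obtain ⟨⟨hs1, _⟩, _⟩ := hLc s hs
        obtain ⟨a, ha⟩ := torus_conj_x V (torusLike_of_mem J V1 H hh) (by omega : s < D.nroots)
        apply Subgroup.subset_closure
        right
        exact ⟨s, hs, a * c, ha c g hg⟩
    rw [hC0']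
    apply mem_normalizer_closure_of
    · exact key h hh
    · intro g hg
      have := key h⁻¹ (inv_mem hh) g hg
      rwa [inv_inv] at this
  -- (D)
  have hPK : D.parabolicSubgroup F
      {i | i < D.rank ∧ D.reflectRoot i (D.nroots - 1) = D.nroots - 1} ≤
        C0 ⊔ D.diagonalSubgroup F := by
    unfold ChevalleyDatum.parabolicSubgroup ChevalleyDatum.borelSubgroup
    refine sup_le (sup_le (le_trans le_sup_left le_sup_left) le_sup_right) ?_
    rw [Subgroup.closure_le]
    rintro g ⟨j, ⟨hjr, hj⟩, _, hg⟩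
    apply Subgroup.mem_sup_left
    have hne : j ≠ hiNode D := by
      rintro rfl
      exact hrefl hj
    have hjL : D.neg (D.simple j) ∈ L := by
      rcases hJL j hjr with h | h
      · exact absurd h hne
      · exact h
    exact nMat_mem_of hD (J.S j hjr).1 C0 (hPx _ (isPosRoot_simple hD hjr)) (hLx _ hjL) 1 g hg
  -- (E)
  have hHC : ∀ h ∈ D.diagonalSubgroup F, h * t = t * h → h ∈ C0 := by
    intro h hh hht
    rw [diagonal_eq_range J V1 H] at hh
    obtain ⟨cc, rfl⟩ := hh
    set i0 : Fin D.rank := ⟨hiNode D, h0⟩ with hi0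
    have hsingle : ∀ i : Fin D.rank, i ≠ i0 → ∀ τ : Fˣ, torMap D F (Pi.mulSingle i τ) ∈ C0 := by
      intro i hi τ
      have hjL : D.neg (D.simple i.val) ∈ L := by
        rcases hJL i.val i.isLt with h | h
        · exact absurd (Fin.ext h) hi
        · exact h
      exact hMat_mem_of hD (J.S i.val i.isLt).1 C0 (hPx _ (isPosRoot_simple hD i.isLt))
        (hLx _ hjL) (Units.ne_zero τ) _ (torMap_mulSingle J H i τ)
    set cc' : Fin D.rank → Fˣ := cc * Pi.mulSingle i0 (cc i0)⁻¹ with hcc'
    have hcc : cc = cc' * Pi.mulSingle i0 (cc i0) := by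
      rw [hcc', mul_assoc, ← Pi.mulSingle_mul, inv_mul_cancel, Pi.mulSingle_one, mul_one]
    have hmem' : torMap D F cc' ∈ C0 := by
      have hc : cc' = ∏ i, Pi.mulSingle i (cc' i) := (Finset.univ_prod_mulSingle cc').symm
      have hmem : cc' ∈ C0.comap (torMap D F) := by
        rw [hc]
        apply Subgroup.prod_mem
        intro i _
        rw [Subgroup.mem_comap]
        by_cases hi : i = i0
        · have : cc' i = 1 := by
            rw [hi, hcc', Pi.mul_apply, Pi.mulSingle_eq_same, mul_inv_cancel]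
          rw [this, Pi.mulSingle_one, map_one]
          exact one_mem _
        · exact hsingle i hi _
      exact hmem
    -- the factor at `i0` centralises `t`
    have hc1 := (Subgroup.mem_inf.mp (hAB hmem')).2
    rw [Subgroup.mem_centralizer_iff] at hc1
    have hc1' := hc1 t rfl
    have hmul : torMap D F cc = torMap D F cc' * torMap D F (Pi.mulSingle i0 (cc i0)) := by
      rw [← map_mul, ← hcc]
    have hfac : torMap D F (Pi.mulSingle i0 (cc i0)) * t = t * torMap D F (Pi.mulSingle i0 (cc i0)) := by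
      have e : torMap D F (Pi.mulSingle i0 (cc i0)) = (torMap D F cc')⁻¹ * torMap D F cc := by
        rw [hmul, inv_mul_cancel_left]
      rw [e]
      calc (torMap D F cc')⁻¹ * torMap D F cc * t
          = (torMap D F cc')⁻¹ * (t * torMap D F cc) := by rw [mul_assoc, hht]
        _ = (torMap D F cc')⁻¹ * (t * torMap D F cc') * (torMap D F cc')⁻¹ * torMap D F cc := by
            group
        _ = t * ((torMap D F cc')⁻¹ * torMap D F cc) := by rw [hc1']; group
    -- hence `cc i0 = 1`
    have hone : cc i0 = 1 := by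
      have h1 := congrArg (fun z : GL D.Idx F => (z : Matrix D.Idx D.Idx F)) hfac
      simp only [Units.val_mul] at h1
      rw [torMap_mulSingle J H i0 (cc i0), ht,
        hMat_conj_x hD (J.S _ h0).1 hr (Units.ne_zero (cc i0))] at h1
      have h2 : D.x F (D.nroots - 1) (((cc i0 : Fˣ) : F) ^ aco D (D.simple (hiNode D)) (D.nroots - 1) * 1) =
          D.x F (D.nroots - 1) 1 := by
        have hu : IsUnit (D.hMat F (D.simple (hiNode D)) ((cc i0 : Fˣ) : F)) := by
          rw [← torMap_mulSingle J H i0 (cc i0)]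
          exact ⟨_, rfl⟩
        obtain ⟨w, hw⟩ := hu
        rw [← hw] at h1
        have := congrArg (fun z => z * ((w⁻¹ : GL D.Idx F) : Matrix D.Idx D.Idx F)) h1
        simpa [Matrix.mul_assoc] using this
      have h3 := xN_inj_param hD hr h2
      rw [← acoF_eq J.T (J.S _ h0).1 hr, haco, zpow_one, mul_one] at h3
      exact Units.ext h3
    have : torMap D F cc = torMap D F cc' := by
      rw [hmul, hone, Pi.mulSingle_one, map_one, mul_one]
    rw [this]
    exact hmem'
  apply le_antisymm
  · intro g hg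
    obtain ⟨hgG, hgC⟩ := Subgroup.mem_inf.mp hg
    rw [Subgroup.mem_centralizer_iff] at hgC
    have hgt : g * t = t * g := (hgC t rfl).symm
    have h1 := hPK (centralizer_hi_le hD one_ne_zero ht hgG hgt)
    have hset := Subgroup.coe_mul_of_right_le_normalizer_left C0 (D.diagonalSubgroup F) hHN
    have h1' : g ∈ ((C0 ⊔ D.diagonalSubgroup F : Subgroup (GL D.Idx F)) : Set (GL D.Idx F)) := h1
    rw [hset, Set.mem_mul] at h1'
    obtain ⟨c, hc, h, hh, rfl⟩ := h1'
    have hct := (Subgroup.mem_inf.mp (hAB hc)).2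
    rw [Subgroup.mem_centralizer_iff] at hct
    have hct' := hct t rfl
    have hht : h * t = t * h := by
      calc h * t = c⁻¹ * (c * h * t) := by group
        _ = c⁻¹ * (t * (c * h)) := by rw [hgt]
        _ = c⁻¹ * (t * c) * h := by group
        _ = t * h := by rw [hct']; group
    exact mul_mem hc (hHC h hh hht)
  · exact hAB

end Cfsg.Agent.Lib.Helper8.Chev
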