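import Cfsg.Agent.Lib.Helper8.ChevL

set_option autoImplicit false

namespace Cfsg.Agent.Lib.Helper8.Chev

open Cfsg.Lie Matrix

variable (D : ChevalleyDatum) (R : Type*) [CommRing R]

/-! ### Codes of basis vectors and sparse vectors -/

/-- code of a basis index: the roots first, then the fundamental coroots -/
def code : D.Idx → ℕ
  | Sum.inl i => D.nroots + i.val
  | Sum.inr s => s.val

/-- basis vector of a code (zero when out of range) -/
def Bv (c : ℕ) : D.Idx → R := if c < D.nroots then E D R c else Hb D R (c - D.nroots)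

/-- value of a sparse vector -/
def sv (v : List (ℕ × ℤ)) : D.Idx → R := (v.map fun e => ((e.2 : ℤ) : R) • Bv D R e.1).sum

variable {D R}

theorem code_lt (a : D.Idx) : code D a < D.nroots + D.rank := by
  rcases a with i | s
  · simp [code]
  · simp [code]; omega

theorem Bv_code (a : D.Idx) : Bv D R (code D a) = Pi.single a 1 := by
  rcases a with i | s
  · have h1 : code D (Sum.inl i) = D.nroots + i.val := rfl
    unfold Bv
    rw [h1, if_neg (by omega)]
    simp only [Nat.add_sub_cancel_left]
    rw [Hb_of_lt R i.isLt]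
  · have h1 : code D (Sum.inr s) = s.val := rfl
    unfold Bv
    rw [h1, if_pos s.isLt, E_of_lt R s.isLt]

theorem code_injective : Function.Injective (code D) := by
  intro a b h
  rcases a with i | s <;> rcases b with j | t
  · simp only [code] at h; congr 1; exact Fin.ext (by omega)
  · simp only [code] at h; have := t.isLt; omega
  · simp only [code] at h; have := s.isLt; omega
  · simp only [code] at h; congr 1; exact Fin.ext h

theorem exists_code {c : ℕ} (hc : c < D.nroots + D.rank) : ∃ a : D.Idx, code D a = c := by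
  by_cases h : c < D.nroots
  · exact ⟨Sum.inr ⟨c, h⟩, rfl⟩
  · exact ⟨Sum.inl ⟨c - D.nroots, by omega⟩, by simp [code]; omega⟩

@[simp] theorem sv_nil : sv D R [] = 0 := rfl

theorem sv_cons (e : ℕ × ℤ) (v : List (ℕ × ℤ)) :
    sv D R (e :: v) = ((e.2 : ℤ) : R) • Bv D R e.1 + sv D R v := by
  simp [sv]

theorem sv_append (v w : List (ℕ × ℤ)) : sv D R (v ++ w) = sv D R v + sv D R w := by
  simp [sv]

/-- negation of a sparse vector -/
def negv (v : List (ℕ × ℤ)) : List (ℕ × ℤ) := v.map fun e => (e.1, -e.2)

theorem sv_negv (v : List (ℕ × ℤ)) : sv D R (negv v) = - sv D R v := by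
  induction v with
  | nil => simp [negv]
  | cons e v ih =>
    have : negv (e :: v) = (e.1, -e.2) :: negv v := rfl
    rw [this, sv_cons, sv_cons, ih]
    simp only [Int.cast_neg, neg_smul, neg_add_rev]
    abel

/-- scaling of a sparse vector -/
def smulv (z : ℤ) (v : List (ℕ × ℤ)) : List (ℕ × ℤ) := v.map fun e => (e.1, z * e.2)

theorem sv_smulv (z : ℤ) (v : List (ℕ × ℤ)) : sv D R (smulv z v) = (z : R) • sv D R v := by
  induction v with
  | nil => simp [smulv]
  | cons e v ih =>
    have : smulv z (e :: v) = (e.1, z * e.2) :: smulv z v := rfl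
    rw [this, sv_cons, sv_cons, ih, smul_add, smul_smul]
    simp

/-- total coefficient of a code in a sparse vector -/
def coeffv (v : List (ℕ × ℤ)) (c : ℕ) : ℤ := ((v.filter fun e => decide (e.1 = c)).map Prod.snd).sum

theorem sv_apply (v : List (ℕ × ℤ)) (hv : ∀ e ∈ v, e.1 < D.nroots + D.rank) (a : D.Idx) :
    sv D R v a = ((coeffv v (code D a) : ℤ) : R) := by
  classical
  induction v with
  | nil => simp [coeffv]
  | cons e v ih =>
    have hv' : ∀ e' ∈ v, e'.1 < D.nroots + D.rank := fun e' he' => hv e' (List.mem_cons_of_mem _ he')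
    rw [sv_cons, Pi.add_apply, ih hv']
    obtain ⟨a', ha'⟩ := exists_code (hv e List.mem_cons_self)
    rw [← ha', Bv_code]
    by_cases h : a' = a
    · subst h
      have : coeffv (e :: v) (code D a') = e.2 + coeffv v (code D a') := by
        unfold coeffv
        rw [List.filter_cons_of_pos (by simpa using ha'.symm)]
        simp
      rw [this]
      simp
    · have hne : e.1 ≠ code D a := by
        rw [← ha']; intro h'; exact h (code_injective h')
      have : coeffv (e :: v) (code D a) = coeffv v (code D a) := by
        unfold coeffv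
        rw [List.filter_cons_of_neg (by simpa using hne)]
      rw [this]
      simp [Pi.single_apply, Ne.symm h]

theorem coeffv_eq_zero_of_not_mem (v : List (ℕ × ℤ)) (c : ℕ) (h : c ∉ v.map Prod.fst) :
    coeffv v c = 0 := by
  unfold coeffv
  have : v.filter (fun e => decide (e.1 = c)) = [] := by
    rw [List.filter_eq_nil_iff]
    intro e he
    simp only [decide_eq_true_eq]
    intro hec
    exact h (List.mem_map.mpr ⟨e, he, hec⟩)
  rw [this]; rfl

/-- a sparse vector all of whose coefficients cancel is zero -/
theorem sv_eq_zero (v : List (ℕ × ℤ)) (hv : ∀ e ∈ v, e.1 < D.nroots + D.rank)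
    (h : ∀ e ∈ v, coeffv v e.1 = 0) : sv D R v = 0 := by
  funext a
  rw [sv_apply v hv a]
  by_cases hc : code D a ∈ v.map Prod.fst
  · obtain ⟨e, he, hec⟩ := List.mem_map.mp hc
    rw [← hec, h e he]; simp
  · rw [coeffv_eq_zero_of_not_mem v _ hc]; simp

end Cfsg.Agent.Lib.Helper8.Chev
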