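import Cfsg.Agent.Lib.Helper8.ChevJ9
import Cfsg.Agent.Lib.Helper8.ChevT1

set_option autoImplicit false

namespace Cfsg.Agent.Lib.Helper8.Chev

open Cfsg.Lie Matrix

/-! ### Assembling the checks -/

/-- the fast bracket of a datum -/
noncomputable def bcF (D : ChevalleyDatum) : ℕ → ℕ → List (ℕ × ℤ) :=
  brCF D.nroots D.rank (packN D) (packA D) (packC D)

/-- the Lie algebra facts obtained from the table checks -/
structure ValidJ (D : ChevalleyDatum) : Prop where
  V : Valid0 D
  T : ValidT D
  A : ValidAnti D
  G : GenP D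
  S : SimpleCorP D
  der : ∀ c < D.nroots + D.rank, IsDer D ℤ (Bv D ℤ c)

theorem validJ_of_checks {D : ChevalleyDatum} (V : Valid0 D) (T : ValidT D)
    (hsz : D.chain.size = D.nroots) (hpos : 0 < D.nroots) (hN : checkN D = true)
    (hA : checkAnti D (packN D) (packC D) = true) (hG : checkGen D = true)
    (h0 : checkDerF D (bcF D) 0 = true)
    (hs : ∀ p ∈ D.simpleIdx.toList, checkDerF D (bcF D) p = true) : ValidJ D := by
  have A := validAnti_of_check V T hsz hN hA
  obtain ⟨G, S⟩ := gen_of_check V hG
  have hbc : bcF D = brC D := brCF_eq V T hsz hN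
  rw [hbc] at h0 hs
  have hanti : ∀ x y : D.Idx → ℤ, br D ℤ x y = - br D ℤ y x := br_antisymm V A
  refine ⟨V, T, A, G, S, ?_⟩
  apply isDer_all_int V G S
  · exact isDer_of_checkDerF V hsz hanti hpos h0
  · intro i hi
    have hp := (S i hi).1
    apply isDer_of_checkDerF V hsz hanti hp
    apply hs
    have hsize : D.simpleIdx.size = D.rank := by
      simp only [checkGen, Bool.and_eq_true, Nat.beq_eq] at hG
      exact hG.1.1
    have := toList_getElem?_of_lt D.simpleIdx i 0 (by omega)
    exact List.mem_of_getElem? this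

/-- the Jacobi identity over every commutative ring -/
theorem ValidJ.isDer {D : ChevalleyDatum} (J : ValidJ D) {R : Type*} [CommRing R] (x : D.Idx → R) :
    IsDer D R x := isDer_of_int J.V J.der x

theorem ValidJ.antisymm {D : ChevalleyDatum} (J : ValidJ D) {R : Type*} [CommRing R]
    (x y : D.Idx → R) : br D R x y = - br D R y x := br_antisymm J.V J.A x y

end Cfsg.Agent.Lib.Helper8.Chev
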