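import Cfsg.Agent.Lib.Helper8.ChevJ

set_option autoImplicit false

namespace Cfsg.Agent.Lib.Helper8.Chev

open Cfsg.Lie Matrix

variable (D : ChevalleyDatum) (R : Type*) [CommRing R]

/-! ### The bracket on codes -/

/-- the coroot `h_a` as a sparse vector -/
def corV (a : ℕ) : List (ℕ × ℤ) := (List.range D.rank).map fun i => (D.nroots + i, cor D a i)

/-- head of a chain entry as a sparse vector -/
def headV : List (ℕ × ℤ) → List (ℕ × ℤ)
  | [] => []
  | q :: _ => [q]

/-- bracket of two basis vectors given by codes, as a sparse vector -/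
def brC0 (a b : ℕ) : List (ℕ × ℤ) :=
  if a < D.nroots then
    if b < D.nroots then
      if b = D.neg a then corV D a else headV (D.chainEntry a b)
    else [(a, - D.cartan (b - D.nroots) a)]
  else
    if b < D.nroots then [(b, D.cartan (a - D.nroots) b)] else []

/-- bracket of two basis vectors given by codes (empty when a code is out of range) -/
def brC (a b : ℕ) : List (ℕ × ℤ) :=
  if a < D.nroots + D.rank then (if b < D.nroots + D.rank then brC0 D a b else []) else []

variable {D R}

theorem sv_corV (a : ℕ) : sv D R (corV D a) = Hr D R a := by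
  rw [Hr_eq_sum]
  unfold corV sv
  rw [List.map_map]
  have : ∀ (n : ℕ), ((List.range n).map ((fun e : ℕ × ℤ => ((e.2 : ℤ) : R) • Bv D R e.1) ∘
      fun i => (D.nroots + i, cor D a i))).sum = ∑ i ∈ Finset.range n, ((cor D a i : ℤ) : R) • Hb D R i := by
    intro n
    induction n with
    | zero => simp
    | succ n ih =>
      rw [List.range_succ, List.map_append, List.sum_append, ih, Finset.sum_range_succ]
      simp [Bv]
  exact this D.rank

theorem sv_headV_chainEntry (V : Valid0 D) {r : ℕ} (hr : r < D.nroots) (s : ℕ) :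
    sv D R (headV (D.chainEntry r s)) = ((Nrs D r s : ℤ) : R) • E D R (sumIdx D r s) := by
  unfold Nrs sumIdx
  cases hL : D.chainEntry r s with
  | nil => simp [headV, cm]
  | cons q L =>
    obtain ⟨w, N⟩ := q
    have hw := (chainEntry_tgt V hr (s := s) (k := 0) (u := w) (M := N) (by rw [hL]; rfl)).1
    simp [headV, cm, cr, sv, Bv, hw]

theorem brC_eq_brC0 {a b : ℕ} (ha : a < D.nroots + D.rank) (hb : b < D.nroots + D.rank) :
    brC D a b = brC0 D a b := by
  unfold brC; rw [if_pos ha, if_pos hb]

theorem brC_code (V : Valid0 D) (a b : D.Idx) : sv D R (brC D (code D a) (code D b)) = brB D R a b := by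
  rw [brC_eq_brC0 (code_lt a) (code_lt b)]
  rcases a with i | r <;> rcases b with j | s
  · have h1 : code D (Sum.inl i : D.Idx) = D.nroots + i.val := rfl
    have h2 : code D (Sum.inl j : D.Idx) = D.nroots + j.val := rfl
    unfold brC0
    rw [h1, h2, if_neg (by omega), if_neg (by omega)]
    rfl
  · have h1 : code D (Sum.inl i : D.Idx) = D.nroots + i.val := rfl
    have h2 : code D (Sum.inr s : D.Idx) = s.val := rfl
    unfold brC0
    rw [h1, h2, if_neg (by omega), if_pos s.isLt]
    simp [sv, Bv, brB, s.isLt]
  · have h1 : code D (Sum.inr r : D.Idx) = r.val := rfl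
    have h2 : code D (Sum.inl j : D.Idx) = D.nroots + j.val := rfl
    unfold brC0
    rw [h1, h2, if_pos r.isLt, if_neg (by omega)]
    simp [sv, Bv, brB, r.isLt]
  · have h1 : code D (Sum.inr r : D.Idx) = r.val := rfl
    have h2 : code D (Sum.inr s : D.Idx) = s.val := rfl
    unfold brC0
    rw [h1, h2, if_pos r.isLt, if_pos s.isLt]
    by_cases hs : s.val = D.neg r.val
    · rw [if_pos hs, sv_corV]
      simp [brB, hs]
    · rw [if_neg hs, sv_headV_chainEntry V r.isLt]
      simp [brB, hs]

/-- all codes occurring in `brC a b` are valid -/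
theorem brC_valid (V : Valid0 D) {a b : ℕ} (ha : a < D.nroots + D.rank) (hb : b < D.nroots + D.rank) :
    ∀ e ∈ brC D a b, e.1 < D.nroots + D.rank := by
  intro e he
  rw [brC_eq_brC0 ha hb] at he
  unfold brC0 at he
  split_ifs at he with h1 h2 h3 h4
  · unfold corV at he
    rw [List.mem_map] at he
    obtain ⟨i, hi, rfl⟩ := he
    simp only [List.mem_range] at hi
    simp; omega
  · cases hL : D.chainEntry a b with
    | nil => rw [hL] at he; simp [headV] at he
    | cons q L =>
      rw [hL] at he
      simp only [headV, List.mem_singleton] at he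
      subst he
      have := (chainEntry_tgt V h1 (s := b) (k := 0) (u := e.1) (M := e.2) (by rw [hL]; rfl)).1
      omega
  · simp only [List.mem_singleton] at he; subst he; simp; omega
  · simp only [List.mem_singleton] at he; subst he; simp; omega
  · simp at he

/-- bilinear extension of the bracket to sparse vectors -/
def brS (v w : List (ℕ × ℤ)) : List (ℕ × ℤ) :=
  v.flatMap fun e => w.flatMap fun f => smulv (e.2 * f.2) (brC D e.1 f.1)

theorem sv_flatMap {α : Type*} (l : List α) (f : α → List (ℕ × ℤ)) :
    sv D R (l.flatMap f) = (l.map fun a => sv D R (f a)).sum := by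
  induction l with
  | nil => simp
  | cons a l ih => rw [List.flatMap_cons, sv_append, ih]; simp

theorem Bv_eq_single_of_lt {c : ℕ} (hc : c < D.nroots + D.rank) :
    ∃ a : D.Idx, code D a = c ∧ Bv D R c = Pi.single a 1 := by
  obtain ⟨a, ha⟩ := exists_code hc
  exact ⟨a, ha, by rw [← ha, Bv_code]⟩

theorem br_Bv (V : Valid0 D) {a b : ℕ} (ha : a < D.nroots + D.rank) (hb : b < D.nroots + D.rank) :
    br D R (Bv D R a) (Bv D R b) = sv D R (brC D a b) := by
  obtain ⟨a', ha', hBa⟩ := Bv_eq_single_of_lt (R := R) ha
  obtain ⟨b', hb', hBb⟩ := Bv_eq_single_of_lt (R := R) hb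
  rw [hBa, hBb, br_single, ← ha', ← hb', brC_code V]

theorem sv_brS (V : Valid0 D) (v w : List (ℕ × ℤ)) (hv : ∀ e ∈ v, e.1 < D.nroots + D.rank)
    (hw : ∀ e ∈ w, e.1 < D.nroots + D.rank) :
    sv D R (brS (D := D) v w) = br D R (sv D R v) (sv D R w) := by
  induction v with
  | nil => simp [brS, br_zero_left]
  | cons e v ih =>
    have hv' : ∀ e' ∈ v, e'.1 < D.nroots + D.rank := fun e' he' => hv e' (List.mem_cons_of_mem _ he')
    have he := hv e List.mem_cons_self
    have : brS (D := D) (e :: v) w = (w.flatMap fun f => smulv (e.2 * f.2) (brC D e.1 f.1)) ++ brS (D := D) v w := by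
      simp [brS]
    rw [this, sv_append, ih hv', sv_cons, br_add_left, br_smul_left]
    congr 1
    clear this ih
    induction w with
    | nil => simp [br_zero_right]
    | cons f w ihw =>
      have hw' : ∀ e' ∈ w, e'.1 < D.nroots + D.rank := fun e' he' => hw e' (List.mem_cons_of_mem _ he')
      have hf := hw f List.mem_cons_self
      rw [List.flatMap_cons, sv_append, ihw hw', sv_cons, br_add_right, smul_add, br_smul_right,
        sv_smulv, br_Bv V he hf]
      congr 1
      rw [smul_smul]
      simp

theorem brS_valid (V : Valid0 D) (v w : List (ℕ × ℤ)) (hv : ∀ e ∈ v, e.1 < D.nroots + D.rank)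
    (hw : ∀ e ∈ w, e.1 < D.nroots + D.rank) :
    ∀ e ∈ brS (D := D) v w, e.1 < D.nroots + D.rank := by
  intro e he
  unfold brS at he
  rw [List.mem_flatMap] at he
  obtain ⟨e1, he1, he⟩ := he
  rw [List.mem_flatMap] at he
  obtain ⟨f1, hf1, he⟩ := he
  unfold smulv at he
  rw [List.mem_map] at he
  obtain ⟨g, hg, rfl⟩ := he
  exact brC_valid V (hv e1 he1) (hw f1 hf1) g hg

end Cfsg.Agent.Lib.Helper8.Chev
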