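import Cfsg.Agent.Lib.Helper8.ChevJ2

set_option autoImplicit false

namespace Cfsg.Agent.Lib.Helper8.Chev

open Cfsg.Lie Matrix

variable (D : ChevalleyDatum) (R : Type*) [CommRing R]

/-- `x` acts as a derivation of the bracket (the Jacobi identity with first argument `x`) -/
def IsDer (x : D.Idx → R) : Prop :=
  ∀ y z, br D R x (br D R y z) = br D R (br D R x y) z + br D R y (br D R x z)

variable {D R}

theorem isDer_of_basis (x : D.Idx → R)
    (h : ∀ a b : D.Idx, br D R x (br D R (Pi.single a 1) (Pi.single b 1)) =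
      br D R (br D R x (Pi.single a 1)) (Pi.single b 1) +
        br D R (Pi.single a 1) (br D R x (Pi.single b 1))) : IsDer D R x := by
  intro y z
  have hz : ∀ a : D.Idx, br D R x (br D R (Pi.single a 1) z) =
      br D R (br D R x (Pi.single a 1)) z + br D R (Pi.single a 1) (br D R x z) := by
    intro a
    conv_lhs => rw [vec_eq_sum z]
    conv_rhs => rw [vec_eq_sum z]
    simp only [br_sum_right, br_smul_right]
    rw [← Finset.sum_add_distrib]
    apply Finset.sum_congr rfl; intro b _
    rw [h a b, smul_add]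
  conv_lhs => rw [vec_eq_sum y]
  conv_rhs => rw [vec_eq_sum y]
  simp only [br_sum_left, br_sum_right, br_smul_left, br_smul_right]
  rw [← Finset.sum_add_distrib]
  apply Finset.sum_congr rfl; intro a _
  rw [hz a, smul_add]

theorem IsDer.zero : IsDer D R (0 : D.Idx → R) := by
  intro y z; simp [br_zero_left, br_zero_right]

theorem IsDer.add {x x' : D.Idx → R} (h : IsDer D R x) (h' : IsDer D R x') : IsDer D R (x + x') := by
  intro y z
  simp only [br_add_left, br_add_right, h y z, h' y z]
  abel

theorem IsDer.smul {x : D.Idx → R} (c : R) (h : IsDer D R x) : IsDer D R (c • x) := by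
  intro y z
  simp only [br_smul_left, br_smul_right, h y z, smul_add]

theorem IsDer.bracket {x x' : D.Idx → R} (h : IsDer D R x) (h' : IsDer D R x') :
    IsDer D R (br D R x x') := by
  intro y z
  -- D_{[x,x']} = D_x D_x' - D_x' D_x
  have e1 : ∀ w, br D R (br D R x x') w = br D R x (br D R x' w) - br D R x' (br D R x w) := by
    intro w; rw [h x' w]; abel
  rw [e1, e1, e1, h' y z, h y z, br_add_right, br_add_right, h (br D R x' y) z, h y (br D R x' z),
    h' (br D R x y) z, h' y (br D R x z), br_sub_left', br_sub_right']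
  abel
where
  br_sub_left' : ∀ (u v w : D.Idx → R), br D R (u - v) w = br D R u w - br D R v w := by
    intro u v w; rw [sub_eq_add_neg, br_add_left, br_neg_left, ← sub_eq_add_neg]
  br_sub_right' : ∀ (u v w : D.Idx → R), br D R u (v - w) = br D R u v - br D R u w := by
    intro u v w; rw [sub_eq_add_neg, br_add_right, br_neg_right, ← sub_eq_add_neg]

/-- the Jacobi expression `[p,[a,b]] - [[p,a],b] - [a,[p,b]]` on codes -/
def jacV (D : ChevalleyDatum) (p a b : ℕ) : List (ℕ × ℤ) :=
  brS (D := D) [(p, 1)] (brC D a b) ++ negv (brS (D := D) (brC D p a) [(b, 1)]) ++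
    negv (brS (D := D) [(a, 1)] (brC D p b))

/-- all coefficients of the sparse vector cancel -/
def eqzP (v : List (ℕ × ℤ)) : Prop := ∀ e ∈ v, coeffv v e.1 = 0

theorem sv_single (c : ℕ) : sv D R [(c, 1)] = Bv D R c := by
  simp [sv]

theorem jac_of_eqzP (V : Valid0 D) {p a b : ℕ} (hp : p < D.nroots + D.rank)
    (ha : a < D.nroots + D.rank) (hb : b < D.nroots + D.rank) (h : eqzP (jacV D p a b)) :
    br D R (Bv D R p) (br D R (Bv D R a) (Bv D R b)) =
      br D R (br D R (Bv D R p) (Bv D R a)) (Bv D R b) +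
        br D R (Bv D R a) (br D R (Bv D R p) (Bv D R b)) := by
  have hs : ∀ c, c < D.nroots + D.rank → ∀ e ∈ [((c, 1) : ℕ × ℤ)], e.1 < D.nroots + D.rank := by
    intro c hc e he; simp only [List.mem_singleton] at he; subst he; exact hc
  have hvalid : ∀ e ∈ jacV D p a b, e.1 < D.nroots + D.rank := by
    intro e he
    unfold jacV at he
    simp only [List.mem_append, negv, List.mem_map] at he
    rcases he with (he | ⟨e', he', rfl⟩) | ⟨e', he', rfl⟩
    · exact brS_valid V _ _ (hs p hp) (brC_valid V ha hb) e he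
    · exact brS_valid V _ _ (brC_valid V hp ha) (hs b hb) e' he'
    · exact brS_valid V _ _ (hs a ha) (brC_valid V hp hb) e' he'
  have h0 := sv_eq_zero (R := R) (jacV D p a b) hvalid h
  unfold jacV at h0
  rw [sv_append, sv_append, sv_negv, sv_negv, sv_brS V _ _ (hs p hp) (brC_valid V ha hb),
    sv_brS V _ _ (brC_valid V hp ha) (hs b hb), sv_brS V _ _ (hs a ha) (brC_valid V hp hb),
    sv_single, sv_single, sv_single, ← br_Bv V ha hb, ← br_Bv V hp ha, ← br_Bv V hp hb] at h0
  have := eq_of_sub_eq_zero (a := br D R (Bv D R p) (br D R (Bv D R a) (Bv D R b)))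
    (b := br D R (br D R (Bv D R p) (Bv D R a)) (Bv D R b) +
        br D R (Bv D R a) (br D R (Bv D R p) (Bv D R b))) (by rw [← h0]; abel)
  exact this

theorem isDer_Bv_of (V : Valid0 D) {p : ℕ} (hp : p < D.nroots + D.rank)
    (h : ∀ a < D.nroots + D.rank, ∀ b < D.nroots + D.rank, eqzP (jacV D p a b)) :
    IsDer D R (Bv D R p) := by
  apply isDer_of_basis
  intro a b
  rw [← Bv_code a, ← Bv_code b]
  exact jac_of_eqzP V hp (code_lt a) (code_lt b) (h _ (code_lt a) _ (code_lt b))

end Cfsg.Agent.Lib.Helper8.Chev
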