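import Cfsg.Agent.Lib.Helper8.ChevJ3

set_option autoImplicit false

namespace Cfsg.Agent.Lib.Helper8.Chev

open Cfsg.Lie Matrix

variable {D : ChevalleyDatum} {R : Type*} [CommRing R]

/-- the codes `c` for which `[e_p, c]` can be non-zero: the keys of the row of `p`, `-p`, and the coroots -/
def Wl (D : ChevalleyDatum) (p : ℕ) : List ℕ :=
  (row D p).map Prod.fst ++ D.neg p :: (List.range D.rank).map fun i => D.nroots + i

theorem brC_eq_nil_of_not_mem_Wl {p c : ℕ} (hp : p < D.nroots) (hc : c ∉ Wl D p) : brC D p c = [] := by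
  unfold brC
  split_ifs with h1 h2
  · unfold brC0
    rw [if_pos hp]
    by_cases hcn : c < D.nroots
    · rw [if_pos hcn]
      have h3 : c ≠ D.neg p := by
        intro h; apply hc; unfold Wl; rw [h]; simp
      rw [if_neg h3, chainEntry_eq_nil_of_not_mem D p c]
      · rfl
      · intro h; apply hc; unfold Wl; simp only [List.mem_append]; exact Or.inl h
    · exfalso
      apply hc
      unfold Wl
      simp only [List.mem_append, List.mem_cons, List.mem_map, List.mem_range]
      right; right
      exact ⟨c - D.nroots, by omega, by omega⟩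
  · rfl
  · rfl

/-- reduction of the derivation property of `e_p` to an enumeration -/
theorem isDer_Bv_of_enum (V : Valid0 D) (hanti : ∀ x y : D.Idx → R, br D R x y = - br D R y x)
    {p : ℕ} (hp : p < D.nroots)
    (h1 : ∀ a ∈ Wl D p, a < D.nroots + D.rank → ∀ b < D.nroots + D.rank, eqzP (jacV D p a b))
    (h2 : ∀ a < D.nroots, ∀ b < D.nroots, a ∉ Wl D p → b ∉ Wl D p → b ≠ D.neg a →
      ∀ e ∈ headV (D.chainEntry a b), e.1 ∉ Wl D p)
    (h3 : ∀ a < D.nroots, eqzP (jacV D p a (D.neg a))) : IsDer D R (Bv D R p) := by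
  have hpN : p < D.nroots + D.rank := by omega
  apply isDer_of_basis
  intro a' b'
  rw [← Bv_code a', ← Bv_code b']
  have ha := code_lt a'
  have hb := code_lt b'
  generalize code D a' = a at ha
  generalize code D b' = b at hb
  by_cases haW : a ∈ Wl D p
  · exact jac_of_eqzP V hpN ha hb (h1 a haW ha b hb)
  by_cases hbW : b ∈ Wl D p
  · have := jac_of_eqzP (R := R) V hpN hb ha (h1 b hbW hb a ha)
    rw [hanti (Bv D R a) (Bv D R b), br_neg_right, this,
      hanti (br D R (Bv D R p) (Bv D R b)) (Bv D R a), hanti (Bv D R b) (br D R (Bv D R p) (Bv D R a))]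
    abel
  have hroot : ∀ c, c < D.nroots + D.rank → c ∉ Wl D p → c < D.nroots := by
    intro c hc hcW
    by_contra hcn
    apply hcW
    unfold Wl
    simp only [List.mem_append, List.mem_cons, List.mem_map, List.mem_range]
    right; right
    exact ⟨c - D.nroots, by omega, by omega⟩
  have han := hroot a ha haW
  have hbn := hroot b hb hbW
  by_cases hneg : b = D.neg a
  · subst hneg
    exact jac_of_eqzP V hpN ha hb (h3 a han)
  · apply jac_of_eqzP V hpN ha hb
    have e1 : brC D p a = [] := brC_eq_nil_of_not_mem_Wl hp haW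
    have e2 : brC D p b = [] := brC_eq_nil_of_not_mem_Wl hp hbW
    have e3 : brS (D := D) [(p, 1)] (brC D a b) = [] := by
      rw [brC_eq_brC0 ha hb]
      unfold brC0
      rw [if_pos han, if_pos hbn, if_neg hneg]
      unfold brS
      simp only [List.flatMap_cons, List.flatMap_nil, List.append_nil]
      rw [List.flatMap_eq_nil_iff]
      intro e he
      rw [brC_eq_nil_of_not_mem_Wl hp (h2 a han b hbn haW hbW hneg e he)]
      rfl
    unfold jacV
    rw [e1, e2, e3]
    intro e he
    simp [brS, negv] at he

end Cfsg.Agent.Lib.Helper8.Chev
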