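import Cfsg.Agent.Lib.Helper8.ChevPack

set_option autoImplicit false

namespace Cfsg.Agent.Lib.Helper8.Chev

/-- fast digit extraction (with `&&&` instead of `%`) -/
def getPF (w P k : ℕ) : ℕ := (P >>> (w * k)) &&& (2 ^ w - 1)

theorem getPF_eq_getP (w P k : ℕ) : getPF w P k = getP w P k :=
  Nat.and_two_pow_sub_one_eq_mod _ _

theorem getP_or (w a b k : ℕ) : getP w (a ||| b) k = getP w a k ||| getP w b k := by
  apply Nat.eq_of_testBit_eq
  intro i
  simp only [getP, Nat.testBit_mod_two_pow, Nat.testBit_shiftRight, Nat.testBit_or]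
  cases decide (i < w) <;> simp

theorem getP_shiftLeft (w c k' k : ℕ) (hc : c < 2 ^ w) :
    getP w (c <<< (w * k')) k = if k = k' then c else 0 := by
  apply Nat.eq_of_testBit_eq
  intro i
  simp only [getP, Nat.testBit_mod_two_pow, Nat.testBit_shiftRight, Nat.testBit_shiftLeft]
  by_cases hk : k = k'
  · subst hk
    rw [if_pos rfl]
    by_cases hi : i < w
    · simp [hi]
    · have : c.testBit i = false := Nat.testBit_lt_two_pow (lt_of_lt_of_le hc (Nat.pow_le_pow_right (by norm_num) (by omega)))
      simp [hi, this]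
  · rw [if_neg hk]
    simp only [Nat.zero_testBit, Bool.and_eq_false_imp, decide_eq_true_eq, ge_iff_le]
    intro hi hge
    rcases Nat.lt_or_gt_of_ne hk with h | h
    · exfalso
      have : w * k + w ≤ w * k' := by
        calc w * k + w = w * (k + 1) := by ring
          _ ≤ w * k' := Nat.mul_le_mul_left w h
      omega
    · apply Nat.testBit_lt_two_pow
      refine lt_of_lt_of_le hc (Nat.pow_le_pow_right (by norm_num) ?_)
      have : w * k' + w ≤ w * k := by
        calc w * k' + w = w * (k' + 1) := by ring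
          _ ≤ w * k := Nat.mul_le_mul_left w h
      omega

/-- sparse packing: `Σ v <<< (w k)` over the `(k, v)` of the list -/
noncomputable def sparseP (w : ℕ) (l : List (ℕ × ℕ)) : ℕ :=
  @List.rec (ℕ × ℕ) (fun _ => ℕ) 0 (fun e _ ih => (e.2 <<< (w * e.1)) ||| ih) l

theorem getP_sparseP (w : ℕ) : ∀ (l : List (ℕ × ℕ)), (∀ e ∈ l, e.2 < 2 ^ w) → (l.map Prod.fst).Nodup →
    ∀ k, getP w (sparseP w l) k = ((l.find? (fun e => decide (e.1 = k))).map Prod.snd).getD 0
  | [], _, _, k => by simp [sparseP, getP]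
  | e :: l, hb, hnd, k => by
    show getP w ((e.2 <<< (w * e.1)) ||| sparseP w l) k = _
    rw [getP_or, getP_shiftLeft w e.2 e.1 k (hb e List.mem_cons_self)]
    rw [List.map_cons, List.nodup_cons] at hnd
    have ih := getP_sparseP w l (fun e' he' => hb e' (List.mem_cons_of_mem _ he')) hnd.2 k
    by_cases hk : e.1 = k
    · rw [List.find?_cons_of_pos (by simpa using hk), if_pos hk.symm, ih]
      have : l.find? (fun e' => decide (e'.1 = k)) = none := by
        rw [List.find?_eq_none]
        intro e' he'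
        simp only [decide_eq_true_eq]
        intro h
        exact hnd.1 (List.mem_map.mpr ⟨e', he', by rw [h, hk]⟩)
      rw [this]
      simp
    · rw [List.find?_cons_of_neg (by simpa using hk), if_neg (fun h => hk h.symm), ih]
      simp

theorem sparseP_lt (w m : ℕ) : ∀ (l : List (ℕ × ℕ)), (∀ e ∈ l, e.2 < 2 ^ w ∧ e.1 < m) →
    sparseP w l < 2 ^ (w * m)
  | [], _ => by simp [sparseP]
  | e :: l, hb => by
    show (e.2 <<< (w * e.1)) ||| sparseP w l < _
    apply Nat.or_lt_two_pow
    · have h1 := hb e List.mem_cons_self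
      rw [Nat.shiftLeft_eq]
      calc e.2 * 2 ^ (w * e.1) < 2 ^ w * 2 ^ (w * e.1) :=
            Nat.mul_lt_mul_of_pos_right h1.1 (Nat.two_pow_pos _)
        _ = 2 ^ (w * (e.1 + 1)) := by rw [← Nat.pow_add]; ring_nf
        _ ≤ 2 ^ (w * m) := Nat.pow_le_pow_right (by norm_num) (Nat.mul_le_mul_left w h1.2)
    · exact sparseP_lt w m l (fun e' he' => hb e' (List.mem_cons_of_mem _ he'))

end Cfsg.Agent.Lib.Helper8.Chev
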