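import Cfsg.Agent.Lib.Helper8.ChevJ4
import Cfsg.Agent.Lib.Helper8.ChevPack2

set_option autoImplicit false

namespace Cfsg.Agent.Lib.Helper8.Chev

open Cfsg.Lie Matrix

/-! ### Kernel-friendly versions of the list functions used by the Jacobi check -/

universe u v

noncomputable def appendF {α : Type u} (l₁ l₂ : List α) : List α :=
  @List.rec α (fun _ => List α) l₂ (fun a _ ih => a :: ih) l₁

theorem appendF_eq {α : Type u} (l₁ l₂ : List α) : appendF l₁ l₂ = l₁ ++ l₂ := by
  induction l₁ with
  | nil => rfl
  | cons a l ih => show a :: appendF l l₂ = _; rw [ih]; rfl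

noncomputable def flatMapF {α : Type u} {β : Type v} (f : α → List β) (l : List α) : List β :=
  @List.rec α (fun _ => List β) [] (fun a _ ih => appendF (f a) ih) l

theorem flatMapF_eq {α : Type u} {β : Type v} (f : α → List β) (l : List α) :
    flatMapF f l = l.flatMap f := by
  induction l with
  | nil => rfl
  | cons a l ih => show appendF (f a) (flatMapF f l) = _; rw [ih, appendF_eq]; rfl

noncomputable def rangeF (n : ℕ) : List ℕ :=
  @Nat.rec (fun _ => List ℕ → List ℕ) (fun acc => acc) (fun k ih acc => ih (k :: acc)) n []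

theorem rangeF_eq (n : ℕ) : rangeF n = List.range n := by
  have : ∀ (n : ℕ) (acc : List ℕ),
      @Nat.rec (fun _ => List ℕ → List ℕ) (fun acc => acc) (fun k ih acc => ih (k :: acc)) n acc =
        List.range.loop n acc := by
    intro n
    induction n with
    | zero => intro acc; rfl
    | succ k ih => intro acc; exact ih (k :: acc)
  exact this n []

noncomputable def coeffvF (v : List (ℕ × ℤ)) (c : ℕ) : ℤ :=
  @List.rec (ℕ × ℤ) (fun _ => ℤ) 0 (fun e _ ih => cond (Nat.beq e.1 c) (e.2 + ih) ih) v

theorem coeffvF_eq (v : List (ℕ × ℤ)) (c : ℕ) : coeffvF v c = coeffv v c := by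
  induction v with
  | nil => rfl
  | cons e v ih =>
    show cond (Nat.beq e.1 c) (e.2 + coeffvF v c) (coeffvF v c) = _
    rw [ih]
    unfold coeffv
    by_cases h : e.1 = c
    · rw [List.filter_cons_of_pos (by simpa using h)]
      have : Nat.beq e.1 c = true := by rw [Nat.beq_eq]; exact h
      rw [this]; simp
    · rw [List.filter_cons_of_neg (by simpa using h)]
      have : Nat.beq e.1 c = false := by rw [nat_beq_eq_false]; exact h
      rw [this]; rfl

noncomputable def eqzF (v : List (ℕ × ℤ)) : Bool := allF (fun e => decide (coeffvF v e.1 = 0)) v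

theorem eqzF_eq_true {v : List (ℕ × ℤ)} : eqzF v = true ↔ eqzP v := by
  unfold eqzF eqzP
  rw [allF_eq_true]
  simp only [decide_eq_true_eq, coeffvF_eq]

noncomputable def negvF (v : List (ℕ × ℤ)) : List (ℕ × ℤ) := mapF (fun e => (e.1, -e.2)) v

theorem negvF_eq (v : List (ℕ × ℤ)) : negvF v = negv v := mapF_eq_map _ _

noncomputable def smulvF (z : ℤ) (v : List (ℕ × ℤ)) : List (ℕ × ℤ) := mapF (fun e => (e.1, z * e.2)) v

theorem smulvF_eq (z : ℤ) (v : List (ℕ × ℤ)) : smulvF z v = smulv z v := mapF_eq_map _ _

/-- sparse bilinear extension of a bracket on codes -/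
noncomputable def brSF (bc : ℕ → ℕ → List (ℕ × ℤ)) (v w : List (ℕ × ℤ)) : List (ℕ × ℤ) :=
  flatMapF (fun e => flatMapF (fun f => smulvF (e.2 * f.2) (bc e.1 f.1)) w) v

theorem brSF_eq (D : ChevalleyDatum) (v w : List (ℕ × ℤ)) : brSF (brC D) v w = brS (D := D) v w := by
  unfold brSF brS
  rw [flatMapF_eq]
  congr 1
  funext e
  rw [flatMapF_eq]
  congr 1
  funext f
  rw [smulvF_eq]

noncomputable def jacVF (bc : ℕ → ℕ → List (ℕ × ℤ)) (p a b : ℕ) : List (ℕ × ℤ) :=
  appendF (appendF (brSF bc [(p, 1)] (bc a b)) (negvF (brSF bc (bc p a) [(b, 1)])))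
    (negvF (brSF bc [(a, 1)] (bc p b)))

theorem jacVF_eq (D : ChevalleyDatum) (p a b : ℕ) : jacVF (brC D) p a b = jacV D p a b := by
  unfold jacVF jacV
  rw [appendF_eq, appendF_eq, negvF_eq, negvF_eq, brSF_eq, brSF_eq, brSF_eq]

/-! ### The check of the derivation property of `e_p` -/

noncomputable def WlF (D : ChevalleyDatum) (p : ℕ) : List ℕ :=
  appendF (mapF Prod.fst (row D p)) (D.neg p :: mapF (fun i => D.nroots + i) (rangeF D.rank))

theorem WlF_eq (D : ChevalleyDatum) (p : ℕ) : WlF D p = Wl D p := by
  unfold WlF Wl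
  rw [appendF_eq, mapF_eq_map, mapF_eq_map, rangeF_eq]

def headTgtOK (M : ℕ) : List (ℕ × ℤ) → Bool
  | [] => true
  | q :: _ => !(M.testBit q.1)

noncomputable def checkDerF (D : ChevalleyDatum) (bc : ℕ → ℕ → List (ℕ × ℤ)) (p : ℕ) : Bool :=
  allF (fun a => cond (Nat.blt a (D.nroots + D.rank))
    (forallLtF (fun b => eqzF (jacVF bc p a b)) (D.nroots + D.rank)) true) (WlF D p) &&
  allIdxF (fun a (rowArr : Array (ℕ × Array (ℕ × ℤ))) => (maskF (WlF D p)).testBit a ||
    allF (fun e => (maskF (WlF D p)).testBit e.1 || headTgtOK (maskF (WlF D p)) e.2.toList) rowArr.toList)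
    D.chain.toList 0 &&
  forallLtF (fun a => eqzF (jacVF bc p a (D.nroots - 1 - a))) D.nroots

theorem isDer_of_checkDerF {D : ChevalleyDatum} {R : Type*} [CommRing R] (V : Valid0 D)
    (hsz : D.chain.size = D.nroots)
    (hanti : ∀ x y : D.Idx → R, br D R x y = - br D R y x) {p : ℕ} (hp : p < D.nroots)
    (h : checkDerF D (brC D) p = true) : IsDer D R (Bv D R p) := by
  simp only [checkDerF, Bool.and_eq_true, allF_eq_true, allIdxF_eq_true, forallLtF_eq_true,
    zero_add, Bool.or_eq_true, eqzF_eq_true, jacVF_eq, WlF_eq, testBit_maskF] at h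
  obtain ⟨⟨h1, h2⟩, h3⟩ := h
  apply isDer_Bv_of_enum V hanti hp
  · intro a haW ha b hb
    have := h1 a haW
    have hlt : Nat.blt a (D.nroots + D.rank) = true := by rw [Nat.blt_eq]; exact ha
    rw [hlt] at this
    simp only [cond_true, forallLtF_eq_true, eqzF_eq_true, jacVF_eq] at this
    exact this b hb
  · intro a ha b hb haW hbW hneg e he
    have hne : D.chainEntry a b ≠ [] := by
      intro h0; rw [h0] at he; simp [headV] at he
    obtain ⟨e', he', hb', hL⟩ := chainEntry_mem D hne
    have ha' := toList_getElem?_of_lt D.chain a #[] (by omega)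
    have := h2 a _ ha'
    rcases this with this | this
    · exact absurd this haW
    · have := this e' he'
      rw [hb'] at this
      rcases this with this | this
      · exact absurd this hbW
      · rw [hL] at this
        cases hLL : D.chainEntry a b with
        | nil => exact absurd hLL hne
        | cons q L =>
          rw [hLL] at this he
          simp only [headV, List.mem_singleton] at he
          subst he
          simp only [headTgtOK, Bool.not_eq_true', Bool.not_eq_true] at this
          intro hmem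
          rw [← testBit_maskF] at hmem
          rw [hmem] at this
          exact absurd this (by simp)
  · intro a ha
    rw [V.neg_eq a ha]
    exact h3 a ha

end Cfsg.Agent.Lib.Helper8.Chev
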