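import Cfsg.Agent.Lib.Helper8.ChevJ5

set_option autoImplicit false

namespace Cfsg.Agent.Lib.Helper8.Chev

open Cfsg.Lie Matrix

/-! ### The packed table of structure constants -/

/-- code of the head of a chain: `0` when empty, else `(w + 1) + 512 (N + 4)` -/
def headCode : List (ℕ × ℤ) → ℕ
  | [] => 0
  | q :: _ => (q.1 + 1) + 512 * encZ 4 q.2

def decodeN (c : ℕ) : List (ℕ × ℤ) :=
  if c = 0 then [] else [(c % 512 - 1, decZ 4 (c / 512))]

def headOK : List (ℕ × ℤ) → Bool
  | [] => true
  | q :: _ => Nat.blt (q.1 + 1) 512 && decide (-4 ≤ q.2) && decide (q.2 < 4)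

theorem decodeN_headCode {L : List (ℕ × ℤ)} (h : headOK L = true) : decodeN (headCode L) = headV L := by
  cases L with
  | nil => rfl
  | cons q L =>
    simp only [headOK, Bool.and_eq_true, Nat.blt_eq, decide_eq_true_eq] at h
    obtain ⟨⟨h1, h2⟩, h3⟩ := h
    have henc : encZ 4 q.2 = (q.2 + 4).toNat := rfl
    have hlt : encZ 4 q.2 < 8 := by rw [henc]; omega
    have hc : headCode (q :: L) = q.1 + 1 + 512 * encZ 4 q.2 := rfl
    have e1 : (q.1 + 1 + 512 * encZ 4 q.2) % 512 = q.1 + 1 := by
      rw [Nat.add_mul_mod_self_left, Nat.mod_eq_of_lt h1]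
    have e2 : (q.1 + 1 + 512 * encZ 4 q.2) / 512 = encZ 4 q.2 := by
      rw [Nat.add_mul_div_left _ _ (by norm_num), Nat.div_eq_of_lt h1, zero_add]
    unfold decodeN
    rw [if_neg (by rw [hc]; omega), hc, e1, e2, decZ_encZ (by exact_mod_cast h2)]
    simp [headV]

theorem headCode_lt {L : List (ℕ × ℤ)} (h : headOK L = true) : headCode L < 2 ^ 12 := by
  cases L with
  | nil => simp [headCode]
  | cons q L =>
    simp only [headOK, Bool.and_eq_true, Nat.blt_eq, decide_eq_true_eq] at h
    obtain ⟨⟨h1, h2⟩, h3⟩ := h
    have henc : encZ 4 q.2 = (q.2 + 4).toNat := rfl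
    have hlt : encZ 4 q.2 < 8 := by rw [henc]; omega
    simp only [headCode]
    omega

noncomputable def rowNum (l : List (ℕ × Array (ℕ × ℤ))) : ℕ :=
  sparseP 12 (mapF (fun e => (e.1, headCode e.2.toList)) l)

/-- the packed table of the `N_{r,s}` and the indices of `r + s` -/
noncomputable def packN (D : ChevalleyDatum) : ℕ :=
  packL 3072 (mapF (fun rowArr : Array (ℕ × Array (ℕ × ℤ)) => rowNum rowArr.toList) D.chain.toList)

/-- lookup in the packed table -/
def lkF (PN r s : ℕ) : List (ℕ × ℤ) := decodeN (getPF 12 (getPF 3072 PN r) s)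

noncomputable def checkN (D : ChevalleyDatum) : Bool :=
  allF (fun rowArr : Array (ℕ × Array (ℕ × ℤ)) =>
    allF (fun e => Nat.blt e.1 256 && headOK e.2.toList) rowArr.toList) D.chain.toList

theorem lkF_packN {D : ChevalleyDatum} (V : Valid0 D) (hsz : D.chain.size = D.nroots)
    (h : checkN D = true) {r : ℕ} (hr : r < D.nroots) (s : ℕ) :
    lkF (packN D) r s = headV (D.chainEntry r s) := by
  simp only [checkN, allF_eq_true, Bool.and_eq_true, Nat.blt_eq] at h
  unfold lkF packN
  rw [getPF_eq_getP, getPF_eq_getP, getP_packL]
  · rw [mapF_eq_map, List.getD_eq_getElem?_getD, List.getElem?_map,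
      toList_getElem?_of_lt D.chain r #[] (by omega)]
    simp only [Option.map_some, Option.getD_some]
    have hrow : (D.chain.getD r #[]).toList = row D r := rfl
    rw [hrow]
    unfold rowNum
    have hmem : ∀ e ∈ row D r, e.1 < 256 ∧ headOK e.2.toList = true := by
      intro e he
      have h1 := toList_getElem?_of_lt D.chain r #[] (by omega)
      exact h _ (List.mem_of_getElem? h1) e he
    rw [getP_sparseP, mapF_eq_map]
    · rw [chainEntry_eq, List.find?_map]
      cases hf : (row D r).find? ((fun e => decide (e.1 = s)) ∘ fun e => (e.1, headCode e.2.toList)) with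
      | none =>
        have hf' : (row D r).find? (fun e => decide (e.1 = s)) = none := by
          rw [List.find?_eq_none] at hf ⊢
          intro e he; simpa using hf e he
        rw [hf']
        rfl
      | some e =>
        have hf' : (row D r).find? (fun e => decide (e.1 = s)) = some e := by
          rw [← hf]; rfl
        rw [hf']
        simp only [Option.map_some, Option.getD_some]
        exact decodeN_headCode (hmem e (List.mem_of_find?_eq_some hf')).2
    · intro e he
      rw [mapF_eq_map, List.mem_map] at he
      obtain ⟨e', he', rfl⟩ := he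
      exact headCode_lt (hmem e' he').2
    · rw [mapF_eq_map, List.map_map]
      exact V.keys_nodup r hr
  · intro a ha
    rw [mapF_eq_map, List.mem_map] at ha
    obtain ⟨rowArr, hrowArr, rfl⟩ := ha
    unfold rowNum
    have := sparseP_lt 12 256 (mapF (fun e : ℕ × Array (ℕ × ℤ) => (e.1, headCode e.2.toList)) rowArr.toList) ?_
    · exact this
    · intro e he
      rw [mapF_eq_map, List.mem_map] at he
      obtain ⟨e', he', rfl⟩ := he
      have := h rowArr hrowArr e' he'
      exact ⟨headCode_lt this.2, this.1⟩

/-! ### The fast bracket on codes -/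

noncomputable def corVF (n rk : ℕ) (PC : List ℕ) (a : ℕ) : List (ℕ × ℤ) :=
  mapF (fun i => (n + i, getZ 5 16 PC a i)) (rangeF rk)

noncomputable def brCF (n rk PN : ℕ) (PA PC : List ℕ) (a b : ℕ) : List (ℕ × ℤ) :=
  cond (Nat.blt a (n + rk))
    (cond (Nat.blt b (n + rk))
      (cond (Nat.blt a n)
        (cond (Nat.blt b n)
          (cond (Nat.beq (a + b + 1) n) (corVF n rk PC a) (lkF PN a b))
          [(a, - getZ 4 8 PA (b - n) a)])
        (cond (Nat.blt b n) [(b, getZ 4 8 PA (a - n) b)] []))
      [])
    []

theorem brCF_eq {D : ChevalleyDatum} (V : Valid0 D) (T : ValidT D) (hsz : D.chain.size = D.nroots)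
    (h : checkN D = true) :
    brCF D.nroots D.rank (packN D) (packA D) (packC D) = brC D := by
  funext a b
  unfold brCF brC
  by_cases ha : a < D.nroots + D.rank
  · have ha' : Nat.blt a (D.nroots + D.rank) = true := by rw [Nat.blt_eq]; exact ha
    rw [ha', if_pos ha, cond_true]
    by_cases hb : b < D.nroots + D.rank
    · have hb' : Nat.blt b (D.nroots + D.rank) = true := by rw [Nat.blt_eq]; exact hb
      rw [hb', if_pos hb, cond_true]
      unfold brC0
      by_cases han : a < D.nroots
      · have han' : Nat.blt a D.nroots = true := by rw [Nat.blt_eq]; exact han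
        rw [han', if_pos han, cond_true]
        by_cases hbn : b < D.nroots
        · have hbn' : Nat.blt b D.nroots = true := by rw [Nat.blt_eq]; exact hbn
          rw [hbn', if_pos hbn, cond_true]
          by_cases hneg : b = D.neg a
          · have : Nat.beq (a + b + 1) D.nroots = true := by
              rw [Nat.beq_eq, hneg, V.neg_eq a han]; omega
            rw [this, if_pos hneg, cond_true]
            unfold corVF corV
            rw [mapF_eq_map, rangeF_eq]
            apply List.map_congr_left
            intro i hi
            rw [List.mem_range] at hi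
            rw [T.cor_eq a han i hi]
          · have : Nat.beq (a + b + 1) D.nroots = false := by
              rw [nat_beq_eq_false]; intro h'; apply hneg; rw [V.neg_eq a han]; omega
            rw [this, if_neg hneg, cond_false]
            exact lkF_packN V hsz h han b
        · have hbn' : Nat.blt b D.nroots = false := by
            rw [← Bool.not_eq_true, Nat.blt_eq]; exact hbn
          rw [hbn', if_neg hbn, cond_false, T.cartan_eq (b - D.nroots) (by omega) a han]
      · have han' : Nat.blt a D.nroots = false := by
          rw [← Bool.not_eq_true, Nat.blt_eq]; exact han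
        rw [han', if_neg han, cond_false]
        by_cases hbn : b < D.nroots
        · have hbn' : Nat.blt b D.nroots = true := by rw [Nat.blt_eq]; exact hbn
          rw [hbn', if_pos hbn, cond_true, T.cartan_eq (a - D.nroots) (by omega) b hbn]
        · have hbn' : Nat.blt b D.nroots = false := by
            rw [← Bool.not_eq_true, Nat.blt_eq]; exact hbn
          rw [hbn', if_neg hbn, cond_false]
    · have hb' : Nat.blt b (D.nroots + D.rank) = false := by
        rw [← Bool.not_eq_true, Nat.blt_eq]; exact hb
      rw [hb', if_neg hb, cond_false]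
  · have ha' : Nat.blt a (D.nroots + D.rank) = false := by
      rw [← Bool.not_eq_true, Nat.blt_eq]; exact ha
    rw [ha', if_neg ha, cond_false]

end Cfsg.Agent.Lib.Helper8.Chev
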