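import Cfsg.Agent.Lib.Helper8.ChevJ6

set_option autoImplicit false

namespace Cfsg.Agent.Lib.Helper8.Chev

open Cfsg.Lie Matrix

/-! ### Antisymmetry of the bracket -/

/-- table conditions for the antisymmetry of the bracket -/
structure ValidAnti (D : ChevalleyDatum) : Prop where
  head_anti : ∀ r < D.nroots, ∀ s < D.nroots, headV (D.chainEntry s r) = negv (headV (D.chainEntry r s))
  cor_neg : ∀ r < D.nroots, ∀ i < D.rank, cor D (D.neg r) i = - cor D r i

def negHead : List (ℕ × ℤ) → List (ℕ × ℤ)
  | [] => []
  | q :: _ => [(q.1, -q.2)]

theorem negHead_eq (L : List (ℕ × ℤ)) : negHead L = negv (headV L) := by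
  cases L <;> rfl

noncomputable def checkAnti (D : ChevalleyDatum) (PN : ℕ) (PC : List ℕ) : Bool :=
  allIdxF (fun r (rowArr : Array (ℕ × Array (ℕ × ℤ))) =>
    allF (fun e => decide (lkF PN e.1 r = negHead e.2.toList)) rowArr.toList) D.chain.toList 0 &&
  forallLtF (fun r => forallLtF (fun i =>
    decide (getZ 5 16 PC (D.nroots - 1 - r) i = - getZ 5 16 PC r i)) D.rank) D.nroots

theorem validAnti_of_check {D : ChevalleyDatum} (V : Valid0 D) (T : ValidT D)
    (hsz : D.chain.size = D.nroots) (hN : checkN D = true)
    (h : checkAnti D (packN D) (packC D) = true) : ValidAnti D := by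
  simp only [checkAnti, Bool.and_eq_true, allIdxF_eq_true, allF_eq_true, forallLtF_eq_true,
    decide_eq_true_eq, zero_add] at h
  have hmain : ∀ r < D.nroots, ∀ s, D.chainEntry r s ≠ [] →
      headV (D.chainEntry s r) = negv (headV (D.chainEntry r s)) := by
    intro r hr s hne
    obtain ⟨e, he, hes, hL⟩ := chainEntry_mem D hne
    have hr' := toList_getElem?_of_lt D.chain r #[] (by omega)
    have h1 := h.1 r _ hr' e he
    have hs : s < D.nroots := by rw [← hes]; exact V.key_lt r hr e he
    rw [hes, lkF_packN V hsz hN hs, hL, negHead_eq] at h1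
    exact h1
  refine ⟨?_, ?_⟩
  · intro r hr s hs
    by_cases h1 : D.chainEntry r s = []
    · by_cases h2 : D.chainEntry s r = []
      · rw [h1, h2]; rfl
      · have := hmain s hs r h2
        rw [h1] at this
        rw [h1]
        cases hL : D.chainEntry s r with
        | nil => rfl
        | cons q L => rw [hL] at this; simp [headV, negv] at this
    · exact hmain r hr s h1
  · intro r hr i hi
    have := h.2 r hr i hi
    rw [← V.neg_eq r hr, T.cor_eq _ (V.neg_lt hr) i hi, T.cor_eq r hr i hi] at this
    exact this

variable {D : ChevalleyDatum} {R : Type*} [CommRing R]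

theorem Hr_neg (V : Valid0 D) (A : ValidAnti D) {r : ℕ} (hr : r < D.nroots) :
    Hr D R (D.neg r) = - Hr D R r := by
  funext idx
  rcases idx with i | u
  · simp only [Hr_apply_inl, Pi.neg_apply]
    rw [A.cor_neg r hr i.val i.isLt]
    simp
  · simp

theorem brB_antisymm (V : Valid0 D) (A : ValidAnti D) (a b : D.Idx) :
    brB D R a b = - brB D R b a := by
  rcases a with i | r <;> rcases b with j | s
  · simp [brB]
  · simp [brB]
  · simp [brB]
  · simp only [brB]
    by_cases h1 : s.val = D.neg r.val
    · have h2 : r.val = D.neg s.val := by rw [h1, V.neg_neg r.isLt]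
      rw [if_pos h1, if_pos h2, h1, Hr_neg V A r.isLt, neg_neg]
    · have h2 : ¬ r.val = D.neg s.val := by
        intro h; apply h1; rw [h, V.neg_neg s.isLt]
      rw [if_neg h1, if_neg h2]
      have := A.head_anti r.val r.isLt s.val s.isLt
      unfold Nrs sumIdx
      cases hL : D.chainEntry r.val s.val with
      | nil =>
        rw [hL] at this
        cases hL' : D.chainEntry s.val r.val with
        | nil => simp [cm]
        | cons q L => rw [hL'] at this; simp [headV, negv] at this
      | cons q L =>
        rw [hL] at this
        cases hL' : D.chainEntry s.val r.val with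
        | nil => rw [hL'] at this; simp [headV, negv] at this
        | cons q' L' =>
          rw [hL'] at this
          simp only [headV, negv, List.map_cons, List.map_nil, List.cons.injEq, and_true] at this
          rw [this]
          simp [cm, cr]

theorem br_antisymm (V : Valid0 D) (A : ValidAnti D) (x y : D.Idx → R) :
    br D R x y = - br D R y x := by
  unfold br
  rw [Finset.sum_comm, ← Finset.sum_neg_distrib]
  apply Finset.sum_congr rfl; intro b _
  rw [← Finset.sum_neg_distrib]
  apply Finset.sum_congr rfl; intro a _
  rw [brB_antisymm V A a b, smul_neg, mul_comm]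

end Cfsg.Agent.Lib.Helper8.Chev
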