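import Cfsg.Agent.Lib.Helper8.ChevJ7

set_option autoImplicit false

namespace Cfsg.Agent.Lib.Helper8.Chev

open Cfsg.Lie Matrix

variable {D : ChevalleyDatum} {R : Type*} [CommRing R]

/-! ### From the generators to all basis vectors, and from `ℤ` to all rings -/

theorem jacV_valid (V : Valid0 D) {p a b : ℕ} (hp : p < D.nroots + D.rank)
    (ha : a < D.nroots + D.rank) (hb : b < D.nroots + D.rank) :
    ∀ e ∈ jacV D p a b, e.1 < D.nroots + D.rank := by
  have hs : ∀ c, c < D.nroots + D.rank → ∀ e ∈ [((c, 1) : ℕ × ℤ)], e.1 < D.nroots + D.rank := by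
    intro c hc e he; simp only [List.mem_singleton] at he; subst he; exact hc
  intro e he
  unfold jacV at he
  simp only [List.mem_append, negv, List.mem_map] at he
  rcases he with (he | ⟨e', he', rfl⟩) | ⟨e', he', rfl⟩
  · exact brS_valid V _ _ (hs p hp) (brC_valid V ha hb) e he
  · exact brS_valid V _ _ (brC_valid V hp ha) (hs b hb) e' he'
  · exact brS_valid V _ _ (hs a ha) (brC_valid V hp hb) e' he'

theorem sv_jacV (V : Valid0 D) {p a b : ℕ} (hp : p < D.nroots + D.rank)
    (ha : a < D.nroots + D.rank) (hb : b < D.nroots + D.rank) :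
    sv D R (jacV D p a b) = br D R (Bv D R p) (br D R (Bv D R a) (Bv D R b)) -
      br D R (br D R (Bv D R p) (Bv D R a)) (Bv D R b) -
        br D R (Bv D R a) (br D R (Bv D R p) (Bv D R b)) := by
  have hs : ∀ c, c < D.nroots + D.rank → ∀ e ∈ [((c, 1) : ℕ × ℤ)], e.1 < D.nroots + D.rank := by
    intro c hc e he; simp only [List.mem_singleton] at he; subst he; exact hc
  unfold jacV
  rw [sv_append, sv_append, sv_negv, sv_negv, sv_brS V _ _ (hs p hp) (brC_valid V ha hb),
    sv_brS V _ _ (brC_valid V hp ha) (hs b hb), sv_brS V _ _ (hs a ha) (brC_valid V hp hb),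
    sv_single, sv_single, sv_single, ← br_Bv V ha hb, ← br_Bv V hp ha, ← br_Bv V hp hb]
  abel

/-- over `ℤ` a sparse vector is zero only if all its coefficients cancel -/
theorem eqzP_of_sv_eq_zero (v : List (ℕ × ℤ)) (hv : ∀ e ∈ v, e.1 < D.nroots + D.rank)
    (h : sv D ℤ v = 0) : eqzP v := by
  intro e he
  obtain ⟨a, ha⟩ := exists_code (hv e he)
  have := congrFun h a
  rw [sv_apply v hv a, ha] at this
  simpa using this

theorem eqzP_of_isDer_int (V : Valid0 D) {p : ℕ} (hp : p < D.nroots + D.rank)
    (h : IsDer D ℤ (Bv D ℤ p)) {a b : ℕ} (ha : a < D.nroots + D.rank) (hb : b < D.nroots + D.rank) :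
    eqzP (jacV D p a b) := by
  apply eqzP_of_sv_eq_zero (D := D) _ (jacV_valid V hp ha hb)
  rw [sv_jacV V hp ha hb, h (Bv D ℤ a) (Bv D ℤ b)]
  abel

theorem IsDer.of_smul_int {x : D.Idx → ℤ} {N : ℤ} (hN : N ≠ 0) (h : IsDer D ℤ (N • x)) :
    IsDer D ℤ x := by
  intro y z
  have := h y z
  rw [br_smul_left, br_smul_left, br_smul_left, br_smul_left, br_smul_right, ← smul_add] at this
  funext i
  have h2 := congrFun this i
  simp only [Pi.smul_apply, smul_eq_mul] at h2
  exact mul_left_cancel₀ hN h2

/-- all basis vectors are derivations over every ring once they are over `ℤ` -/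
theorem isDer_of_int (V : Valid0 D) (hall : ∀ c < D.nroots + D.rank, IsDer D ℤ (Bv D ℤ c))
    (x : D.Idx → R) : IsDer D R x := by
  classical
  have hB : ∀ a : D.Idx, IsDer D R (Pi.single a 1) := by
    intro a
    rw [← Bv_code a]
    apply isDer_Bv_of V (code_lt a)
    intro a' ha' b' hb'
    exact eqzP_of_isDer_int V (code_lt a) (hall _ (code_lt a)) ha' hb'
  rw [vec_eq_sum x]
  have : ∀ s : Finset D.Idx, IsDer D R (∑ a ∈ s, x a • (Pi.single a 1 : D.Idx → R)) := by
    intro s
    induction s using Finset.induction_on with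
    | empty => simpa using IsDer.zero
    | insert a s ha ih =>
      rw [Finset.sum_insert ha]
      exact IsDer.add (IsDer.smul _ (hB a)) ih
  exact this _

/-! ### Generation of the Lie algebra by `e_0` and the fundamental root vectors -/

/-- every root other than the root of index `0` and the fundamental roots is the sum of a fundamental
root and a root of smaller index, with non-zero structure constant -/
def GenP (D : ChevalleyDatum) : Prop :=
  ∀ r < D.nroots, r = 0 ∨ (∃ i < D.rank, r = D.simple i) ∨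
    ∃ i < D.rank, ∃ s < r, ∃ N : ℤ, N ≠ 0 ∧ ∃ L, D.chainEntry (D.simple i) s = (r, N) :: L

/-- the fundamental roots are roots and their coroots are the fundamental coroots -/
def SimpleCorP (D : ChevalleyDatum) : Prop :=
  ∀ i < D.rank, D.simple i < D.nroots ∧ ∀ j < D.rank, cor D (D.simple i) j = if j = i then 1 else 0

theorem br_E_E {r s : ℕ} (hr : r < D.nroots) (hs : s < D.nroots) (hne : s ≠ D.neg r) :
    br D R (E D R r) (E D R s) = ((Nrs D r s : ℤ) : R) • E D R (sumIdx D r s) := by
  rw [E_of_lt R hr, E_of_lt R hs, br_single]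
  simp [brB, hne]

theorem br_E_neg (V : Valid0 D) {r : ℕ} (hr : r < D.nroots) :
    br D R (E D R r) (E D R (D.neg r)) = Hr D R r := by
  rw [E_of_lt R hr, E_of_lt R (V.neg_lt hr), br_single]
  simp [brB]

theorem Bv_of_lt {c : ℕ} (hc : c < D.nroots) : Bv D R c = E D R c := by
  unfold Bv; rw [if_pos hc]

theorem Bv_add (i : ℕ) : Bv D R (D.nroots + i) = Hb D R i := by
  unfold Bv; rw [if_neg (by omega)]; simp

theorem isDer_all_int (V : Valid0 D) (G : GenP D) (S : SimpleCorP D)
    (h0 : IsDer D ℤ (Bv D ℤ 0)) (hs : ∀ i < D.rank, IsDer D ℤ (Bv D ℤ (D.simple i))) :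
    ∀ c < D.nroots + D.rank, IsDer D ℤ (Bv D ℤ c) := by
  have hroots : ∀ r < D.nroots, IsDer D ℤ (Bv D ℤ r) := by
    intro r
    induction r using Nat.strong_induction_on with
    | _ r ih =>
      intro hr
      rcases G r hr with h | ⟨i, hi, h⟩ | ⟨i, hi, s, hsr, N, hN, L, hL⟩
      · rw [h]; exact h0
      · rw [h]; exact hs i hi
      · have hp := (S i hi).1
        have hs' : s < D.nroots := by omega
        have hne : s ≠ D.neg (D.simple i) := by
          intro h
          have := chainEntry_mem D (r := D.simple i) (s := s) (by rw [hL]; simp)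
          obtain ⟨e, he, hes, _⟩ := this
          exact V.key_ne_neg _ hp e he (by rw [hes, h])
        have h1 := IsDer.bracket (hs i hi) (ih s hsr hs')
        rw [Bv_of_lt hp, Bv_of_lt hs', br_E_E hp hs' hne] at h1
        have hN' : Nrs D (D.simple i) s = N := by unfold Nrs; rw [hL]; simp [cm]
        have hS' : sumIdx D (D.simple i) s = r := by unfold sumIdx; rw [hL]; simp [cr]
        rw [hN', hS'] at h1
        rw [Bv_of_lt hr]
        apply IsDer.of_smul_int hN
        simpa using h1
  intro c hc
  by_cases hcn : c < D.nroots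
  · exact hroots c hcn
  · obtain ⟨i, rfl⟩ : ∃ i, c = D.nroots + i := ⟨c - D.nroots, by omega⟩
    have hi : i < D.rank := by omega
    have hp := (S i hi).1
    have h1 := IsDer.bracket (hroots _ hp) (hroots _ (V.neg_lt hp))
    rw [Bv_of_lt hp, Bv_of_lt (V.neg_lt hp), br_E_neg V hp] at h1
    rw [Bv_add]
    have : Hr D ℤ (D.simple i) = Hb D ℤ i := by
      rw [Hr_eq_sum]
      rw [Finset.sum_eq_single_of_mem i (Finset.mem_range.mpr hi)]
      · rw [(S i hi).2 i hi]; simp
      · intro j hj hji
        rw [(S i hi).2 j (Finset.mem_range.mp hj), if_neg hji]; simp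
    rw [← this]; exact h1

end Cfsg.Agent.Lib.Helper8.Chev
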