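import Cfsg.Agent.Lib.Helper8.ChevJ8

set_option autoImplicit false

namespace Cfsg.Agent.Lib.Helper8.Chev

open Cfsg.Lie Matrix

/-! ### Checking the generation conditions -/

def headGen (s : ℕ) : List (ℕ × ℤ) → List ℕ
  | [] => []
  | q :: _ => cond (Nat.blt s q.1 && !(decide (q.2 = 0))) [q.1] []

noncomputable def genTargets (D : ChevalleyDatum) : List ℕ :=
  flatMapF (fun p => flatMapF (fun e : ℕ × Array (ℕ × ℤ) => headGen e.1 e.2.toList) (row D p))
    D.simpleIdx.toList

noncomputable def checkGen (D : ChevalleyDatum) : Bool :=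
  Nat.beq D.simpleIdx.size D.rank &&
  forallLtF (fun r => (maskF (0 :: appendF D.simpleIdx.toList (genTargets D))).testBit r) D.nroots &&
  allIdxF (fun i p => Nat.blt p D.nroots &&
    forallLtF (fun j => decide (cor D p j = if j = i then 1 else 0)) D.rank) D.simpleIdx.toList 0

theorem mem_simpleIdx {D : ChevalleyDatum} (hsz : D.simpleIdx.size = D.rank) {p : ℕ}
    (hp : p ∈ D.simpleIdx.toList) : ∃ i < D.rank, p = D.simple i := by
  obtain ⟨i, hi, rfl⟩ := List.getElem_of_mem hp
  rw [Array.length_toList, hsz] at hi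
  refine ⟨i, hi, ?_⟩
  unfold ChevalleyDatum.simple
  have := toList_getElem?_of_lt D.simpleIdx i 0 (by omega)
  rw [List.getElem?_eq_getElem (by rw [Array.length_toList]; omega)] at this
  exact Option.some.inj this

theorem gen_of_check {D : ChevalleyDatum} (V : Valid0 D) (h : checkGen D = true) :
    GenP D ∧ SimpleCorP D := by
  simp only [checkGen, Bool.and_eq_true, Nat.beq_eq, forallLtF_eq_true, allIdxF_eq_true,
    testBit_maskF, Nat.blt_eq, decide_eq_true_eq, zero_add] at h
  obtain ⟨⟨hsz, h1⟩, h2⟩ := h
  have hS : SimpleCorP D := by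
    intro i hi
    have := h2 i _ (toList_getElem?_of_lt D.simpleIdx i 0 (by omega))
    exact this
  refine ⟨?_, hS⟩
  intro r hr
  have := h1 r hr
  rw [List.mem_cons, appendF_eq, List.mem_append] at this
  rcases this with h | h | h
  · exact Or.inl h
  · exact Or.inr (Or.inl (mem_simpleIdx hsz h))
  · right; right
    unfold genTargets at h
    rw [flatMapF_eq, List.mem_flatMap] at h
    obtain ⟨p, hp, h⟩ := h
    rw [flatMapF_eq, List.mem_flatMap] at h
    obtain ⟨e, he, h⟩ := h
    obtain ⟨i, hi, rfl⟩ := mem_simpleIdx hsz hp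
    have hpn := (hS i hi).1
    have hL := chainEntry_of_mem V hpn he
    cases hq : e.2.toList with
    | nil => rw [hq] at h; simp [headGen] at h
    | cons q L =>
      rw [hq] at h hL
      have hh : headGen e.1 (q :: L) = cond (Nat.blt e.1 q.1 && !(decide (q.2 = 0))) [q.1] [] := rfl
      rw [hh] at h
      cases hc : (Nat.blt e.1 q.1 && !(decide (q.2 = 0))) with
      | false => rw [hc] at h; simp at h
      | true =>
        rw [hc] at h
        simp only [cond_true, List.mem_singleton] at h
        simp only [Bool.and_eq_true, Nat.blt_eq, Bool.not_eq_true', decide_eq_false_iff_not] at hc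
        refine ⟨i, hi, e.1, by rw [h]; exact hc.1, q.2, hc.2, L, ?_⟩
        rw [hL, h]

end Cfsg.Agent.Lib.Helper8.Chev
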