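import Cfsg.Agent.Lib.Helper8.ChevJ10

set_option autoImplicit false

namespace Cfsg.Agent.Lib.Helper8.Chev

open Cfsg.Lie

theorem checkN_E6 : checkN chevE6 = true := by decide +kernel
theorem checkAnti_E6 : checkAnti chevE6 (packN chevE6) (packC chevE6) = true := by decide +kernel
theorem checkGen_E6 : checkGen chevE6 = true := by decide +kernel

end Cfsg.Agent.Lib.Helper8.Chev
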