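import Cfsg.Agent.Lib.Helper8.ChevJ10

set_option autoImplicit false

namespace Cfsg.Agent.Lib.Helper8.Chev

open Cfsg.Lie

theorem checkN_E7 : checkN chevE7 = true := by decide +kernel
theorem checkAnti_E7 : checkAnti chevE7 (packN chevE7) (packC chevE7) = true := by decide +kernel
theorem checkGen_E7 : checkGen chevE7 = true := by decide +kernel

end Cfsg.Agent.Lib.Helper8.Chev
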