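import Cfsg.Agent.Lib.Helper8.ChevH

set_option autoImplicit false

namespace Cfsg.Agent.Lib.Helper8.Chev

open Cfsg.Lie Matrix

variable (D : ChevalleyDatum) (R : Type*) [CommRing R]

/-! ### The Lie bracket on the coordinate module -/

/-- structure constant `N_{r,s}` (zero when `r + s` is not a root) -/
def Nrs (r s : ℕ) : ℤ := cm (D.chainEntry r s) 1

/-- index of `r + s` (`nroots` when `r + s` is not a root) -/
def sumIdx (r s : ℕ) : ℕ := cr D.nroots (D.chainEntry r s) 1

/-- bracket of two basis vectors -/
def brB : D.Idx → D.Idx → (D.Idx → R)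
  | Sum.inl _, Sum.inl _ => 0
  | Sum.inl i, Sum.inr s => (D.cartan i.val s.val : R) • E D R s.val
  | Sum.inr s, Sum.inl i => (-(D.cartan i.val s.val : R)) • E D R s.val
  | Sum.inr r, Sum.inr s =>
      if s.val = D.neg r.val then Hr D R r.val else (Nrs D r.val s.val : R) • E D R (sumIdx D r.val s.val)

/-- the bracket, extended bilinearly -/
def br (x y : D.Idx → R) : D.Idx → R := ∑ a, ∑ b, (x a * y b) • brB D R a b

variable {D R}

theorem br_add_left (x x' y : D.Idx → R) : br D R (x + x') y = br D R x y + br D R x' y := by
  unfold br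
  rw [← Finset.sum_add_distrib]
  apply Finset.sum_congr rfl; intro a _
  rw [← Finset.sum_add_distrib]
  apply Finset.sum_congr rfl; intro b _
  rw [Pi.add_apply, add_mul, add_smul]

theorem br_add_right (x y y' : D.Idx → R) : br D R x (y + y') = br D R x y + br D R x y' := by
  unfold br
  rw [← Finset.sum_add_distrib]
  apply Finset.sum_congr rfl; intro a _
  rw [← Finset.sum_add_distrib]
  apply Finset.sum_congr rfl; intro b _
  rw [Pi.add_apply, mul_add, add_smul]

theorem br_smul_left (c : R) (x y : D.Idx → R) : br D R (c • x) y = c • br D R x y := by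
  unfold br
  rw [Finset.smul_sum]
  apply Finset.sum_congr rfl; intro a _
  rw [Finset.smul_sum]
  apply Finset.sum_congr rfl; intro b _
  rw [Pi.smul_apply, smul_eq_mul, smul_smul, mul_assoc]

theorem br_smul_right (c : R) (x y : D.Idx → R) : br D R x (c • y) = c • br D R x y := by
  unfold br
  rw [Finset.smul_sum]
  apply Finset.sum_congr rfl; intro a _
  rw [Finset.smul_sum]
  apply Finset.sum_congr rfl; intro b _
  rw [Pi.smul_apply, smul_eq_mul, smul_smul]
  congr 1; ring

theorem br_zero_left (y : D.Idx → R) : br D R 0 y = 0 := by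
  unfold br; simp

theorem br_zero_right (x : D.Idx → R) : br D R x 0 = 0 := by
  unfold br; simp

theorem br_neg_left (x y : D.Idx → R) : br D R (-x) y = - br D R x y := by
  have := br_smul_left (-1 : R) x y
  simpa using this

theorem br_neg_right (x y : D.Idx → R) : br D R x (-y) = - br D R x y := by
  have := br_smul_right (-1 : R) x y
  simpa using this

theorem br_sum_left {ι : Type*} (s : Finset ι) (f : ι → D.Idx → R) (y : D.Idx → R) :
    br D R (∑ i ∈ s, f i) y = ∑ i ∈ s, br D R (f i) y := by
  classical
  induction s using Finset.induction_on with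
  | empty => simp [br_zero_left]
  | insert i s hi ih => rw [Finset.sum_insert hi, Finset.sum_insert hi, br_add_left, ih]

theorem br_sum_right {ι : Type*} (s : Finset ι) (x : D.Idx → R) (f : ι → D.Idx → R) :
    br D R x (∑ i ∈ s, f i) = ∑ i ∈ s, br D R x (f i) := by
  classical
  induction s using Finset.induction_on with
  | empty => simp [br_zero_right]
  | insert i s hi ih => rw [Finset.sum_insert hi, Finset.sum_insert hi, br_add_right, ih]

/-- bracket of basis vectors -/
theorem br_single (a b : D.Idx) :
    br D R (Pi.single a 1) (Pi.single b 1) = brB D R a b := by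
  classical
  unfold br
  rw [Finset.sum_eq_single a]
  · rw [Finset.sum_eq_single b]
    · simp
    · intro b' _ hb'; simp [Pi.single_apply, hb']
    · intro h; exact absurd (Finset.mem_univ b) h
  · intro a' _ ha'
    apply Finset.sum_eq_zero
    intro b' _
    simp [Pi.single_apply, ha']
  · intro h; exact absurd (Finset.mem_univ a) h

/-- every vector is the combination of the basis vectors -/
theorem vec_eq_sum (x : D.Idx → R) : x = ∑ a, x a • (Pi.single a 1 : D.Idx → R) := by
  classical
  funext i
  rw [Finset.sum_apply, Finset.sum_eq_single i]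
  · simp
  · intro b _ hb; simp [Pi.single_apply, hb.symm]
  · intro h; exact absurd (Finset.mem_univ i) h

/-- the matrix of `ad x` -/
def adM (x : D.Idx → R) : Matrix D.Idx D.Idx R :=
  Matrix.of fun row col => br D R x (Pi.single col 1) row

theorem adM_mulVec (x y : D.Idx → R) : adM x *ᵥ y = br D R x y := by
  classical
  conv_rhs => rw [vec_eq_sum y]
  rw [br_sum_right]
  funext i
  rw [Finset.sum_apply]
  simp only [Matrix.mulVec, dotProduct, adM, Matrix.of_apply]
  apply Finset.sum_congr rfl
  intro b _
  rw [br_smul_right, Pi.smul_apply, smul_eq_mul, mul_comm]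

theorem adM_add (x y : D.Idx → R) : adM (x + y) = adM x + adM y := by
  ext i j; simp [adM, br_add_left]

theorem adM_smul (c : R) (x : D.Idx → R) : adM (c • x) = c • adM x := by
  ext i j; simp [adM, br_smul_left]

theorem adM_zero : adM (0 : D.Idx → R) = 0 := by
  ext i j; simp [adM, br_zero_left]

end Cfsg.Agent.Lib.Helper8.Chev
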