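import Cfsg.Agent.Lib.Helper8.ChevN1

set_option autoImplicit false

namespace Cfsg.Agent.Lib.Helper8.Chev

open Cfsg.Lie Matrix

section

variable {D : ChevalleyDatum} {F : Type*} [Field F]

/-- every `n_r(1)` lies in the subgroup generated by the `n_{p_i}(1)` -/
theorem nMat_mem_N0 (hD : D ∈ [chevG2, chevB2, chevD4, chevF4, chevE6, chevE7, chevE8]) {r : ℕ}
    (hr : r < D.nroots) (g : GL D.Idx F) (hg : (g : Matrix D.Idx D.Idx F) = D.nMat F r 1) :
    g ∈ N0 D F := by
  have V := valid0_of_mem hD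
  have V1 := valid1_of_mem hD
  have J := validJ_of_mem hD
  have H := validH_of_mem hD
  obtain ⟨l, j, hl, hj, hlj⟩ := reach_of_mem hD hr
  have hP := rootPermN_nP (F := F) J V1 H.nS l hl
  obtain ⟨ε, hε, hc⟩ := hP.conj_nMat V (J.S j hj).1
  rw [hlj] at hc
  rcases hε with rfl | rfl
  · have e : g = nP D F l * nG D F j * (nP D F l)⁻¹ := by
      apply Units.ext
      rw [Units.val_mul, Units.val_mul, coe_nG J V1 hj, hc 1, one_mul, ← hg, Matrix.mul_assoc,
        ← Units.val_mul, mul_inv_cancel, Units.val_one, Matrix.mul_one]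
    rw [e]
    exact mul_mem (mul_mem (nP_mem_N0 hl) (nG_mem_N0 hj)) (inv_mem (nP_mem_N0 hl))
  · have e1 : (-1 : F) * -1 = 1 := by ring
    have e : g = nP D F l * (nG D F j)⁻¹ * (nP D F l)⁻¹ := by
      apply Units.ext
      rw [Units.val_mul, Units.val_mul, coe_nG_inv J V1 hj, hc (-1), e1, ← hg, Matrix.mul_assoc,
        ← Units.val_mul, mul_inv_cancel, Units.val_one, Matrix.mul_one]
    rw [e]
    exact mul_mem (mul_mem (nP_mem_N0 hl) (inv_mem (nG_mem_N0 hj))) (inv_mem (nP_mem_N0 hl))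

theorem monomial_eq (hD : D ∈ [chevG2, chevB2, chevD4, chevF4, chevE6, chevE7, chevE8]) :
    D.monomialSubgroup F = D.diagonalSubgroup F ⊔ N0 D F := by
  have V1 := valid1_of_mem hD
  have J := validJ_of_mem hD
  unfold ChevalleyDatum.monomialSubgroup
  apply le_antisymm
  · apply sup_le le_sup_left
    rw [Subgroup.closure_le]
    rintro g ⟨r, hr, hg⟩
    exact Subgroup.mem_sup_right (nMat_mem_N0 hD hr g hg)
  · apply sup_le le_sup_left
    unfold N0
    rw [Subgroup.closure_le]
    rintro g ⟨i, hi, rfl⟩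
    apply Subgroup.mem_sup_right
    exact Subgroup.subset_closure ⟨D.simple i, (J.S i hi).1, coe_nG J V1 hi⟩

theorem monomial_le_normalizer (hD : D ∈ [chevG2, chevB2, chevD4, chevF4, chevE6, chevE7, chevE8]) :
    D.monomialSubgroup F ≤ Subgroup.normalizer (D.diagonalSubgroup F : Set (GL D.Idx F)) := by
  have V1 := valid1_of_mem hD
  have J := validJ_of_mem hD
  have H := validH_of_mem hD
  have hI := checkInv_of_mem hD
  rw [monomial_eq hD]
  exact sup_le Subgroup.le_normalizer (N0_le_normalizer J V1 H hI)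

/-- every element of `N` is a torus element times a product of the `n_{p_i}(1)` -/
theorem monomial_form (hD : D ∈ [chevG2, chevB2, chevD4, chevF4, chevE6, chevE7, chevE8])
    {n : GL D.Idx F} (hn : n ∈ D.monomialSubgroup F) :
    ∃ h ∈ D.diagonalSubgroup F, ∃ l : List ℕ, (∀ i ∈ l, i < D.rank) ∧ n = h * nP D F l := by
  have V1 := valid1_of_mem hD
  have J := validJ_of_mem hD
  have H := validH_of_mem hD
  have hI := checkInv_of_mem hD
  rw [monomial_eq hD] at hn
  have hset := Subgroup.coe_mul_of_right_le_normalizer_left (D.diagonalSubgroup F) (N0 D F)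
    (N0_le_normalizer J V1 H hI)
  have hn' : n ∈ ((D.diagonalSubgroup F ⊔ N0 D F : Subgroup (GL D.Idx F)) : Set (GL D.Idx F)) := hn
  rw [hset, Set.mem_mul] at hn'
  obtain ⟨h, hh, m, hm, rfl⟩ := hn'
  obtain ⟨h', hh', l, hl, rfl⟩ := N0_form J V1 H hI hm
  exact ⟨h * h', mul_mem hh hh', l, hl, by rw [mul_assoc]⟩

theorem diagonal_le_monomial : D.diagonalSubgroup F ≤ D.monomialSubgroup F := by
  unfold ChevalleyDatum.monomialSubgroup
  exact le_sup_left

theorem nP_mem_monomial (hD : D ∈ [chevG2, chevB2, chevD4, chevF4, chevE6, chevE7, chevE8])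
    {l : List ℕ} (hl : ∀ i ∈ l, i < D.rank) : nP D F l ∈ D.monomialSubgroup F := by
  rw [monomial_eq hD]
  exact Subgroup.mem_sup_right (nP_mem_N0 hl)

end

end Cfsg.Agent.Lib.Helper8.Chev
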