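import Cfsg.Agent.Lib.Helper8.ChevN3

set_option autoImplicit false

namespace Cfsg.Agent.Lib.Helper8.Chev

open Cfsg.Lie Matrix

section

variable {D : ChevalleyDatum} {F : Type*} [Field F]

theorem pos_le_borel : D.posUnipotent F ≤ D.borelSubgroup F := by
  unfold ChevalleyDatum.borelSubgroup
  exact le_sup_left

theorem diagonal_le_borel : D.diagonalSubgroup F ≤ D.borelSubgroup F := by
  unfold ChevalleyDatum.borelSubgroup
  exact le_sup_right

theorem borel_le_normalizer_pos (J : ValidJ D) (V1 : Valid1 D) (H : ValidH D) :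
    D.borelSubgroup F ≤ Subgroup.normalizer (D.posUnipotent F : Set (GL D.Idx F)) := by
  unfold ChevalleyDatum.borelSubgroup
  exact sup_le Subgroup.le_normalizer (diagonal_le_normalizer_pos J V1 H)

/-- a product of the `n_{p_i}(1)` lying in `B` preserves the set of positive roots -/
theorem nP_pos_of_mem_borel (hD : D ∈ [chevG2, chevB2, chevD4, chevF4, chevE6, chevE7, chevE8])
    {l : List ℕ} (hl : ∀ i ∈ l, i < D.rank) (hm : nP D F l ∈ D.borelSubgroup F) :
    ∀ s, D.nroots / 2 ≤ s → s < D.nroots → D.nroots / 2 ≤ reflWord D l s := by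
  have V := valid0_of_mem hD
  have V1 := valid1_of_mem hD
  have J := validJ_of_mem hD
  have H := validH_of_mem hD
  have C := copP_of_mem hD
  have P := posP_of_mem hD
  have Tr := triP_of_mem hD
  intro s hs1 hs2
  by_contra hq
  rw [not_le] at hq
  have hP := (rootPermN_nP (F := F) J V1 H.nS l hl).rootPerm
  obtain ⟨g, hg⟩ := exists_unit_x V V1 hs2 (1 : F)
  obtain ⟨ε, he⟩ := rootPerm_conj hP hs2 1 g hg
  have hlt := (hP s hs2).1
  have hgU : g ∈ D.posUnipotent F := Subgroup.subset_closure ⟨s, 1, (P s hs2).1.mpr hs1, hg⟩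
  have hcU : nP D F l * g * (nP D F l)⁻¹ ∈ D.posUnipotent F :=
    (Subgroup.mem_normalizer_iff.mp (borel_le_normalizer_pos J V1 H hm) g).mp hgU
  have hcV : nP D F l * g * (nP D F l)⁻¹ ∈ D.negUnipotent F :=
    Subgroup.subset_closure ⟨reflWord D l s, ε * 1, (P _ hlt).2.mpr hq, he⟩
  have hmem : nP D F l * g * (nP D F l)⁻¹ ∈ D.borelSubgroup F ⊓ D.negUnipotent F :=
    ⟨pos_le_borel hcU, hcV⟩
  rw [borel_inf_neg J V1 H Tr P, Subgroup.mem_bot] at hmem
  rw [hmem, Units.val_one, x_eq_xN] at he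
  have h0 := xN_eq_one V C hlt he.symm
  rw [mul_one] at h0
  exact Units.ne_zero ε h0

/-- `B ∩ N = H` -/
theorem borel_inf_monomial (hD : D ∈ [chevG2, chevB2, chevD4, chevF4, chevE6, chevE7, chevE8]) :
    D.borelSubgroup F ⊓ D.monomialSubgroup F = D.diagonalSubgroup F := by
  apply le_antisymm
  · rintro n ⟨hnB, hnN⟩
    obtain ⟨h, hh, l, hl, rfl⟩ := monomial_form hD hnN
    have hm : nP D F l ∈ D.borelSubgroup F := by
      have e : nP D F l = h⁻¹ * (h * nP D F l) := by group
      rw [e]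
      exact mul_mem (inv_mem (diagonal_le_borel hh)) hnB
    have := nP_mem_diagonal_of_pos (F := F) hD l.length l le_rfl hl
      (nP_pos_of_mem_borel hD hl hm)
    exact mul_mem hh this
  · exact le_inf diagonal_le_borel diagonal_le_monomial

/-- `U ∩ N = 1` -/
theorem pos_inf_monomial (hD : D ∈ [chevG2, chevB2, chevD4, chevF4, chevE6, chevE7, chevE8]) :
    D.posUnipotent F ⊓ D.monomialSubgroup F = ⊥ := by
  have V1 := valid1_of_mem hD
  have J := validJ_of_mem hD
  have H := validH_of_mem hD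
  have P := posP_of_mem hD
  have Tr := triP_of_mem hD
  rw [eq_bot_iff]
  rintro x ⟨hxU, hxN⟩
  have hxH : x ∈ D.diagonalSubgroup F := by
    rw [← borel_inf_monomial hD]
    exact ⟨pos_le_borel hxU, hxN⟩
  have hx : x ∈ D.posUnipotent F ⊓ D.diagonalSubgroup F := ⟨hxU, hxH⟩
  rwa [pos_inf_diagonal J V1 H Tr P] at hx

end

end Cfsg.Agent.Lib.Helper8.Chev
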