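import Cfsg.Agent.Lib.Helper8.ChevBr3

set_option autoImplicit false

/-! The order of the subgroups `U_w⁻` over a finite field. -/

namespace Cfsg.Agent.Lib.Helper8.Chev

open Cfsg.Lie Matrix

theorem sum_range_ite_le (n h : ℕ) :
    ∑ k ∈ Finset.range n, (if h ≤ k then 1 else 0) = n - h := by
  induction n with
  | zero => simp
  | succ n ih =>
    rw [Finset.sum_range_succ, ih]
    split_ifs <;> omega

theorem card_filter_ge (n h : ℕ) :
    (Finset.univ.filter fun r : Fin n => h ≤ r.val).card = n - h := by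
  rw [Finset.card_filter, Fin.sum_univ_eq_sum_range (fun k => if h ≤ k then 1 else 0) n,
    sum_range_ite_le]

section

variable {D : ChevalleyDatum} {F : Type*} [Field F]

/-- the subgroup generated by the positive root subgroups with the root in a given set -/
def UQ (D : ChevalleyDatum) (F : Type*) [Field F] (Q : ℕ → Prop) : Subgroup (GL D.Idx F) :=
  Subgroup.closure {x | ∃ (r : ℕ) (t : F), D.nroots / 2 ≤ r ∧ r < D.nroots ∧ Q r ∧
    (x : Matrix D.Idx D.Idx F) = D.x F r t}

theorem unegW_eq_UQ (l : List ℕ) :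
    UnegW D F l = UQ D F (fun r => reflWord D l r < D.nroots / 2) := rfl

theorem UQ_le_pos (hD : D ∈ [chevG2, chevB2, chevD4, chevF4, chevE6, chevE7, chevE8])
    (Q : ℕ → Prop) : UQ D F Q ≤ D.posUnipotent F := by
  have P := posP_of_mem hD
  unfold UQ ChevalleyDatum.posUnipotent
  apply Subgroup.closure_mono
  rintro x ⟨r, t, h1, h2, _, hx⟩
  exact ⟨r, t, (P r h2).1.mpr h1, hx⟩

/-- words with letters in `Q` (or trivial letters) give elements of `UQ` -/
theorem UQ_word (hD : D ∈ [chevG2, chevB2, chevD4, chevF4, chevE6, chevE7, chevE8])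
    (Q : ℕ → Prop) (w : List (ℕ × F))
    (hw : ∀ p ∈ w, D.nroots / 2 ≤ p.1 ∧ p.1 < D.nroots ∧ (Q p.1 ∨ p.2 = 0)) :
    ∃ g ∈ UQ D F Q, (g : Matrix D.Idx D.Idx F) = wN D F w := by
  have V := valid0_of_mem hD
  have V1 := valid1_of_mem hD
  induction w with
  | nil => exact ⟨1, one_mem _, rfl⟩
  | cons p w ih =>
    obtain ⟨g', hg', hm'⟩ := ih (fun q hq => hw q (List.mem_cons_of_mem _ hq))
    obtain ⟨h1, h2, h3⟩ := hw p List.mem_cons_self
    obtain ⟨gx, hgx⟩ := exists_unit_x V V1 h2 p.2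
    refine ⟨gx * g', mul_mem ?_ hg', ?_⟩
    · rcases h3 with h3 | h3
      · exact Subgroup.subset_closure ⟨p.1, p.2, h1, h2, h3, hgx⟩
      · have : gx = 1 := by
          apply Units.ext
          rw [hgx, h3, x_eq_xN, xN_zero V, Units.val_one]
        rw [this]
        exact one_mem _
    · rw [Units.val_mul, hgx, hm', wN_cons, x_eq_xN]

/-- lower bound for the order -/
theorem card_UQ_ge [Fintype F] (hD : D ∈ [chevG2, chevB2, chevD4, chevF4, chevE6, chevE7, chevE8])
    (Q : ℕ → Prop) [DecidablePred Q] :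
    Fintype.card F ^ (Finset.univ.filter fun r : Fin D.nroots =>
      D.nroots / 2 ≤ r.val ∧ Q r.val).card ≤ Nat.card (UQ D F Q) := by
  classical
  have V := valid0_of_mem hD
  have V1 := valid1_of_mem hD
  have Tr := triP_of_mem hD
  have S := sepP_of_mem hD
  have C := copP_of_mem hD
  let ext : ({r : Fin D.nroots // D.nroots / 2 ≤ r.val ∧ Q r.val} → F) → ℕ → F := fun t r =>
    if h : r < D.nroots ∧ D.nroots / 2 ≤ r ∧ Q r then t ⟨⟨r, h.1⟩, h.2⟩ else 0
  have hword : ∀ t : {r : Fin D.nroots // D.nroots / 2 ≤ r.val ∧ Q r.val} → F,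
      ∃ g ∈ UQ D F Q, (g : Matrix D.Idx D.Idx F) = wN D F (segW D (D.nroots / 2) (ext t)) := by
    intro t
    apply UQ_word hD Q
    intro p hp
    have hp1 := segW_mem hp
    refine ⟨hp1.1, hp1.2, ?_⟩
    have hp2 : p.2 = ext t p.1 := by
      unfold segW at hp
      rw [List.mem_map] at hp
      obtain ⟨r, _, rfl⟩ := hp
      rfl
    by_cases hQ : Q p.1
    · left
      exact hQ
    · right
      rw [hp2]
      show (if h : p.1 < D.nroots ∧ D.nroots / 2 ≤ p.1 ∧ Q p.1 then _ else 0) = 0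
      rw [dif_neg]
      tauto
  choose gf hgf using hword
  let f : ({r : Fin D.nroots // D.nroots / 2 ≤ r.val ∧ Q r.val} → F) → UQ D F Q :=
    fun t => ⟨gf t, (hgf t).1⟩
  have hinj : Function.Injective f := by
    intro t t' htt
    have h0 : gf t = gf t' := congrArg Subtype.val htt
    have h1 : wN D F (segW D (D.nroots / 2) (ext t)) = wN D F (segW D (D.nroots / 2) (ext t')) := by
      rw [← (hgf t).2, ← (hgf t').2, h0]
    have heven := V.even
    have h2 := seg_unique V V1 Tr S C (D.nroots - D.nroots / 2) (D.nroots / 2) le_rfl (by omega)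
      _ _ h1
    funext ⟨r, hr⟩
    have h3 := h2 r.val hr.1 r.isLt
    have e1 : ∀ t'' : {r : Fin D.nroots // D.nroots / 2 ≤ r.val ∧ Q r.val} → F,
        ext t'' r.val = t'' ⟨r, hr⟩ := by
      intro t''
      show (if h : r.val < D.nroots ∧ D.nroots / 2 ≤ r.val ∧ Q r.val then _ else 0) = _
      rw [dif_pos ⟨r.isLt, hr⟩]
    rw [e1, e1] at h3
    exact h3
  calc Fintype.card F ^ (Finset.univ.filter fun r : Fin D.nroots =>
        D.nroots / 2 ≤ r.val ∧ Q r.val).card
      = Nat.card ({r : Fin D.nroots // D.nroots / 2 ≤ r.val ∧ Q r.val} → F) := by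
        rw [Nat.card_fun, Nat.card_eq_fintype_card, Nat.card_eq_fintype_card,
          Fintype.card_subtype]
    _ ≤ Nat.card (UQ D F Q) := Nat.card_le_card_of_injective f hinj

/-- the order of `U_w⁻` -/
theorem card_unegW [Fintype F] (hD : D ∈ [chevG2, chevB2, chevD4, chevF4, chevE6, chevE7, chevE8])
    {l : List ℕ} (hl : ∀ i ∈ l, i < D.rank) :
    Nat.card (UnegW D F l) = Fintype.card F ^ (Finset.univ.filter fun r : Fin D.nroots =>
      D.nroots / 2 ≤ r.val ∧ reflWord D l r.val < D.nroots / 2).card := by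
  classical
  have V := valid0_of_mem hD
  have V1 := valid1_of_mem hD
  have J := validJ_of_mem hD
  have H := validH_of_mem hD
  have P := posP_of_mem hD
  have Tr := triP_of_mem hD
  have hP := (rootPermN_nP (F := F) J V1 H.nS l hl).rootPerm
  have ha := card_UQ_ge (F := F) hD (fun r => reflWord D l r < D.nroots / 2)
  have hb := card_UQ_ge (F := F) hD (fun r => ¬ reflWord D l r < D.nroots / 2)
  rw [← unegW_eq_UQ] at ha
  set a := (Finset.univ.filter fun r : Fin D.nroots =>
      D.nroots / 2 ≤ r.val ∧ reflWord D l r.val < D.nroots / 2).card with hadef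
  set b := (Finset.univ.filter fun r : Fin D.nroots =>
      D.nroots / 2 ≤ r.val ∧ ¬ reflWord D l r.val < D.nroots / 2).card with hbdef
  have hab : a + b = D.nroots / 2 := by
    have h1 := Finset.card_filter_add_card_filter_not
      (s := Finset.univ.filter (fun r : Fin D.nroots => D.nroots / 2 ≤ r.val))
      (fun r => reflWord D l r.val < D.nroots / 2)
    rw [Finset.filter_filter, Finset.filter_filter, card_filter_ge] at h1
    have heven := V.even
    rw [hadef, hbdef, h1]
    omega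
  have hU := card_posUnipotent (F := F) hD
  -- conjugation by `n_w`
  have hm : (UnegW D F l).map (MulAut.conj (nP D F l)).toMonoidHom ≤ D.negUnipotent F := by
    unfold UnegW
    rw [MonoidHom.map_closure, Subgroup.closure_le]
    rintro _ ⟨y, ⟨r, t, h1, h2, h3, hy⟩, rfl⟩
    obtain ⟨ε, he⟩ := rootPerm_conj hP h2 t y hy
    exact Subgroup.subset_closure ⟨_, _, (P _ (hP r h2).1).2.mpr h3, he⟩
  have hp : (UQ D F (fun r => ¬ reflWord D l r < D.nroots / 2)).map
      (MulAut.conj (nP D F l)).toMonoidHom ≤ D.posUnipotent F := by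
    unfold UQ
    rw [MonoidHom.map_closure, Subgroup.closure_le]
    rintro _ ⟨y, ⟨r, t, h1, h2, h3, hy⟩, rfl⟩
    obtain ⟨ε, he⟩ := rootPerm_conj hP h2 t y hy
    exact Subgroup.subset_closure ⟨_, _, (P _ (hP r h2).1).1.mpr (not_lt.mp h3), he⟩
  have hinter : ∀ x : GL D.Idx F, x ∈ UnegW D F l →
      x ∈ UQ D F (fun r => ¬ reflWord D l r < D.nroots / 2) → x = 1 := by
    intro x hx1 hx2
    have h1 : nP D F l * x * (nP D F l)⁻¹ ∈ D.negUnipotent F := hm ⟨x, hx1, rfl⟩
    have h2 : nP D F l * x * (nP D F l)⁻¹ ∈ D.posUnipotent F := hp ⟨x, hx2, rfl⟩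
    have h3 : nP D F l * x * (nP D F l)⁻¹ ∈ D.borelSubgroup F ⊓ D.negUnipotent F :=
      ⟨pos_le_borel h2, h1⟩
    rw [borel_inf_neg J V1 H Tr P, Subgroup.mem_bot] at h3
    have : x = (nP D F l)⁻¹ * (nP D F l * x * (nP D F l)⁻¹) * nP D F l := by group
    rw [this, h3]
    group
  have hprod : Nat.card (UnegW D F l) *
      Nat.card (UQ D F (fun r => ¬ reflWord D l r < D.nroots / 2)) ≤
      Nat.card (D.posUnipotent F) := by
    rw [← Nat.card_prod]
    let φ : (UnegW D F l) × (UQ D F (fun r => ¬ reflWord D l r < D.nroots / 2)) →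
        D.posUnipotent F := fun ab =>
      ⟨ab.1.1 * ab.2.1, mul_mem ((unegW_eq_UQ (F := F) l ▸ UQ_le_pos hD _) ab.1.2)
        (UQ_le_pos hD _ ab.2.2)⟩
    apply Nat.card_le_card_of_injective φ
    rintro ⟨⟨a1, ha1⟩, ⟨b1, hb1⟩⟩ ⟨⟨a2, ha2⟩, ⟨b2, hb2⟩⟩ hφ
    have e : a1 * b1 = a2 * b2 := congrArg Subtype.val hφ
    have e2 : a2⁻¹ * a1 = b2 * b1⁻¹ := by
      have : a2⁻¹ * a1 = a2⁻¹ * (a1 * b1) * b1⁻¹ := by group
      rw [this, e]
      group
    have h1 := hinter (a2⁻¹ * a1) (mul_mem (inv_mem ha2) ha1)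
      (e2 ▸ mul_mem hb2 (inv_mem hb1))
    have h2 : a1 = a2 := by
      have : a1 = a2 * (a2⁻¹ * a1) := by group
      rw [this, h1, mul_one]
    subst h2
    have h3 : b1 = b2 := mul_left_cancel e
    subst h3
    rfl
  rw [hU] at hprod
  have hq : 0 < Fintype.card F := Fintype.card_pos
  apply le_antisymm _ ha
  by_contra hlt
  rw [not_le] at hlt
  have hbpos : 0 < Nat.card (UQ D F (fun r => ¬ reflWord D l r < D.nroots / 2)) :=
    lt_of_lt_of_le (Nat.pow_pos hq) hb
  have h4 : Fintype.card F ^ a * Fintype.card F ^ b <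
      Nat.card (UnegW D F l) * Nat.card (UQ D F (fun r => ¬ reflWord D l r < D.nroots / 2)) :=
    Nat.mul_lt_mul_of_lt_of_le hlt hb hbpos
  rw [← pow_add, hab] at h4
  omega

end

end Cfsg.Agent.Lib.Helper8.Chev
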