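import Mathlib

set_option autoImplicit false

/-! The endomorphisms of a power of a commutative group given by integer matrices, and the order
of their kernels through a diagonalisation. -/

namespace Cfsg.Agent.Lib.Helper8.Chev

section Tor

variable {l : ℕ} {G : Type*} [CommGroup G]

theorem prod_zpow_sum' {ι : Type*} (s : Finset ι) (x : G) (f : ι → ℤ) :
    ∏ i ∈ s, x ^ f i = x ^ ∑ i ∈ s, f i := by
  classical
  induction s using Finset.induction_on with
  | empty => simp
  | insert a s ha ih => rw [Finset.prod_insert ha, Finset.sum_insert ha, ih, zpow_add]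

/-- the endomorphism of `G^l` given by an integer matrix acting on the exponents -/
def torHom (M : Matrix (Fin l) (Fin l) ℤ) : (Fin l → G) →* (Fin l → G) where
  toFun c := fun j => ∏ i, c i ^ M i j
  map_one' := by
    funext j
    simp
  map_mul' c c' := by
    funext j
    simp only [Pi.mul_apply, mul_zpow, Finset.prod_mul_distrib]

theorem torHom_apply (M : Matrix (Fin l) (Fin l) ℤ) (c : Fin l → G) (j : Fin l) :
    torHom M c j = ∏ i, c i ^ M i j := rfl

theorem torHom_comp (M N : Matrix (Fin l) (Fin l) ℤ) (c : Fin l → G) :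
    torHom N (torHom M c) = torHom (M * N) c := by
  funext k
  simp only [torHom_apply]
  calc ∏ j, (∏ i, c i ^ M i j) ^ N j k
      = ∏ j, ∏ i, c i ^ (M i j * N j k) := by
        apply Finset.prod_congr rfl
        intro j _
        rw [← Finset.prod_zpow]
        apply Finset.prod_congr rfl
        intro i _
        rw [zpow_mul]
    _ = ∏ i, ∏ j, c i ^ (M i j * N j k) := Finset.prod_comm
    _ = ∏ i, c i ^ (M * N) i k := by
        apply Finset.prod_congr rfl
        intro i _
        rw [prod_zpow_sum', Matrix.mul_apply]

theorem torHom_one (c : Fin l → G) : torHom (1 : Matrix (Fin l) (Fin l) ℤ) c = c := by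
  funext j
  rw [torHom_apply, Finset.prod_eq_single j]
  · simp
  · intro i _ hij
    rw [Matrix.one_apply_ne hij, zpow_zero]
  · intro h
    exact absurd (Finset.mem_univ j) h

theorem torHom_diagonal (d : Fin l → ℤ) (c : Fin l → G) (j : Fin l) :
    torHom (Matrix.diagonal d) c j = c j ^ d j := by
  rw [torHom_apply, Finset.prod_eq_single j]
  · rw [Matrix.diagonal_apply_eq]
  · intro i _ hij
    rw [Matrix.diagonal_apply_ne _ hij, zpow_zero]
  · intro h
    exact absurd (Finset.mem_univ j) h

theorem torHom_injective {M M' : Matrix (Fin l) (Fin l) ℤ} (h : M * M' = 1) :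
    Function.Injective (torHom (G := G) M) := by
  intro c c' hcc
  have := congrArg (torHom M') hcc
  rwa [torHom_comp, torHom_comp, h, torHom_one, torHom_one] at this

/-- equivalent matrices have kernels of the same order -/
theorem card_ker_torHom_eq {A P P' Q Q' S : Matrix (Fin l) (Fin l) ℤ} (hPP' : P * P' = 1)
    (hP'P : P' * P = 1) (hQQ' : Q * Q' = 1) (hS : P * A * Q = S) :
    Nat.card (torHom (G := G) A).ker = Nat.card (torHom (G := G) S).ker := by
  have hSc : ∀ c : Fin l → G, torHom S c = torHom Q (torHom A (torHom P c)) := by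
    intro c
    rw [torHom_comp, torHom_comp, ← Matrix.mul_assoc, hS]
  symm
  refine Nat.card_congr
    { toFun := fun c => ⟨torHom P c.1, ?_⟩
      invFun := fun c => ⟨torHom P' c.1, ?_⟩
      left_inv := ?_
      right_inv := ?_ }
  · have hc := c.2
    rw [MonoidHom.mem_ker, hSc] at hc
    rw [MonoidHom.mem_ker]
    apply torHom_injective (G := G) hQQ'
    rw [hc, map_one]
  · have hc := c.2
    rw [MonoidHom.mem_ker] at hc
    rw [MonoidHom.mem_ker, hSc, torHom_comp P' P, hP'P, torHom_one, hc, map_one]
  · intro c
    apply Subtype.ext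
    show torHom P' (torHom P c.1) = c.1
    rw [torHom_comp, hPP', torHom_one]
  · intro c
    apply Subtype.ext
    show torHom P (torHom P' c.1) = c.1
    rw [torHom_comp, hP'P, torHom_one]

/-- the kernel of a diagonal matrix on a power of a finite cyclic group -/
theorem card_ker_torHom_diagonal [Finite G] [IsCyclic G] (d : Fin l → ℕ) :
    Nat.card (torHom (G := G) (Matrix.diagonal fun j => (d j : ℤ))).ker =
      ∏ j, (Nat.card G).gcd (d j) := by
  have e1 : (torHom (G := G) (Matrix.diagonal fun j => (d j : ℤ))).ker ≃
      {c : Fin l → G // ∀ j, c j ∈ (powMonoidHom (d j) : G →* G).ker} := by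
    apply Equiv.subtypeEquivRight
    intro c
    rw [MonoidHom.mem_ker, funext_iff]
    apply forall_congr'
    intro j
    rw [torHom_diagonal, MonoidHom.mem_ker, powMonoidHom_apply, zpow_natCast, Pi.one_apply]
  have e2 : {c : Fin l → G // ∀ j, c j ∈ (powMonoidHom (d j) : G →* G).ker} ≃
      ∀ j, (powMonoidHom (d j) : G →* G).ker :=
    Equiv.subtypePiEquivPi
  rw [Nat.card_congr (e1.trans e2), Nat.card_pi]
  apply Finset.prod_congr rfl
  intro j _
  exact IsCyclic.card_powMonoidHom_ker G (d j)

end Tor

end Cfsg.Agent.Lib.Helper8.Chev
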