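import Cfsg.Agent.Lib.Helper8.ChevU2
import Cfsg.Agent.Lib.Helper8.ChevH1

set_option autoImplicit false

/-! Gradings of the adjoint module by an additive weight on the roots: the root elements of
weight zero preserve the grading, those of positive weight are unitriangular for it. -/

namespace Cfsg.Agent.Lib.Helper8.Chev

open Cfsg.Lie Matrix

section

variable {D : ChevalleyDatum} {R : Type*} [CommRing R]

/-- the weight of a basis vector -/
def wtI (D : ChevalleyDatum) (a : ℕ → ℤ) : D.Idx → ℤ :=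
  Sum.elim (fun _ => 0) (fun s => a s.val)

/-- additivity along a chain -/
theorem isWt_chain {a : ℕ → ℤ} (ha : IsWt D a) {r s : ℕ} (hr : r < D.nroots) (hs : s < D.nroots)
    {q : ℕ × ℤ} (hq : q ∈ D.chainEntry r s) : ∃ k : ℕ, 1 ≤ k ∧ a q.1 = a s + (k : ℤ) * a r := by
  obtain ⟨n, hn, e⟩ := List.mem_iff_getElem.mp hq
  have hz : (q, n) ∈ (D.chainEntry r s).zipIdx := by
    rw [List.mem_zipIdx_iff_getElem?]
    rw [List.getElem?_eq_getElem hn, e]
  have := ha.2 r hr s hs (q, n) hz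
  refine ⟨n + 1, by omega, ?_⟩
  rw [this]
  push_cast
  ring

/-- the entries of `x_r(t) - 1` raise the weight by a positive multiple of the weight of `r` -/
theorem xN_sub_one_wt (V : Valid0 D) {a : ℕ → ℤ} (ha : IsWt D a) {r : ℕ} (hr : r < D.nroots)
    (t : R) (i j : D.Idx) (hne : (xN D R r t - 1) i j ≠ 0) :
    ∃ k : ℕ, 1 ≤ k ∧ wtI D a i = wtI D a j + (k : ℤ) * a r := by
  have hne' : ((xN D R r t - 1) *ᵥ Pi.single j 1) i ≠ 0 := by
    rw [Matrix.mulVec_single_one]
    exact hne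
  rw [Matrix.sub_mulVec, Matrix.one_mulVec] at hne'
  rcases j with j | s
  · rw [← Hb_of_lt R j.isLt, xN_mulVec_Hb R hr t j.isLt] at hne'
    simp only [Pi.sub_apply, sub_sub_cancel_left, Pi.smul_apply,
      smul_eq_mul, ne_eq, neg_eq_zero] at hne'
    obtain ⟨_, rfl⟩ := E_ne_zero_imp (right_ne_zero_of_mul hne')
    refine ⟨1, le_refl _, ?_⟩
    simp [wtI]
  · rw [← E_of_lt R s.isLt] at hne'
    by_cases h1 : s.val = r
    · rw [h1, xN_mulVec_E_self R hr t] at hne'
      simp at hne'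
    by_cases h2 : s.val = D.neg r
    · rw [h2, xN_mulVec_E_neg V R hr t] at hne'
      have hws : wtI D a (Sum.inr s) = - a r := by
        simp only [wtI, Sum.elim_inr]
        rw [h2, ha.1 r hr]
      rcases i with i | u
      · refine ⟨1, le_refl _, ?_⟩
        rw [hws]
        simp [wtI]
      · have hne2 : t ^ 2 * E D R r (Sum.inr u) ≠ 0 := by
          intro h0
          apply hne'
          simp [h0]
        obtain ⟨_, hu⟩ := E_ne_zero_imp (right_ne_zero_of_mul hne2)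
        refine ⟨2, by omega, ?_⟩
        rw [hws, hu]
        simp only [wtI, Sum.elim_inr]
        push_cast
        ring
    · rw [xN_mulVec_E V R hr t s.isLt h1 h2] at hne'
      simp only [add_sub_cancel_left] at hne'
      obtain ⟨q, hq, hu, rfl⟩ := chainVec_ne_zero_imp hne'
      obtain ⟨k, hk, e⟩ := isWt_chain ha hr s.isLt hq
      exact ⟨k, hk, e⟩

/-- matrices preserving the grading -/
def Lev (D : ChevalleyDatum) (R : Type*) [CommRing R] (a : ℕ → ℤ) : Set (Matrix D.Idx D.Idx R) :=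
  {M | ∀ i j, M i j ≠ 0 → wtI D a i = wtI D a j}

/-- matrices strictly raising the grading -/
def Rais (D : ChevalleyDatum) (R : Type*) [CommRing R] (a : ℕ → ℤ) : Set (Matrix D.Idx D.Idx R) :=
  {M | ∀ i j, M i j ≠ 0 → wtI D a j < wtI D a i}

theorem one_mem_Lev (a : ℕ → ℤ) : (1 : Matrix D.Idx D.Idx R) ∈ Lev D R a := by
  intro i j h
  by_cases hij : i = j
  · rw [hij]
  · rw [Matrix.one_apply_ne hij] at h
    exact absurd rfl h

theorem Lev_mul {a : ℕ → ℤ} {M N : Matrix D.Idx D.Idx R} (hM : M ∈ Lev D R a)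
    (hN : N ∈ Lev D R a) : M * N ∈ Lev D R a := by
  intro i j h
  rw [Matrix.mul_apply] at h
  obtain ⟨k, _, hk⟩ := Finset.exists_ne_zero_of_sum_ne_zero h
  rw [hM i k (left_ne_zero_of_mul hk), hN k j (right_ne_zero_of_mul hk)]

theorem Rais_add {a : ℕ → ℤ} {M N : Matrix D.Idx D.Idx R} (hM : M ∈ Rais D R a)
    (hN : N ∈ Rais D R a) : M + N ∈ Rais D R a := by
  intro i j h
  rw [Matrix.add_apply] at h
  by_cases h1 : M i j = 0
  · rw [h1, zero_add] at h
    exact hN i j h
  · exact hM i j h1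

theorem Rais_mul {a : ℕ → ℤ} {M N : Matrix D.Idx D.Idx R} (hM : M ∈ Rais D R a)
    (hN : N ∈ Rais D R a) : M * N ∈ Rais D R a := by
  intro i j h
  rw [Matrix.mul_apply] at h
  obtain ⟨k, _, hk⟩ := Finset.exists_ne_zero_of_sum_ne_zero h
  exact lt_trans (hN k j (right_ne_zero_of_mul hk)) (hM i k (left_ne_zero_of_mul hk))

/-- unitriangular matrices for the grading -/
def Rad (D : ChevalleyDatum) (R : Type*) [CommRing R] (a : ℕ → ℤ) : Set (Matrix D.Idx D.Idx R) :=
  {M | M - 1 ∈ Rais D R a}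

theorem one_mem_Rad (a : ℕ → ℤ) : (1 : Matrix D.Idx D.Idx R) ∈ Rad D R a := by
  intro i j h
  rw [sub_self] at h
  exact absurd rfl h

theorem Rad_mul {a : ℕ → ℤ} {M N : Matrix D.Idx D.Idx R} (hM : M ∈ Rad D R a)
    (hN : N ∈ Rad D R a) : M * N ∈ Rad D R a := by
  have e : M * N - 1 = (M - 1) * (N - 1) + ((M - 1) + (N - 1)) := by
    noncomm_ring
  show M * N - 1 ∈ Rais D R a
  rw [e]
  exact Rais_add (Rais_mul hM hN) (Rais_add hM hN)

theorem eq_one_of_Lev_Rad {a : ℕ → ℤ} {M : Matrix D.Idx D.Idx R} (hL : M ∈ Lev D R a)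
    (hR : M ∈ Rad D R a) : M = 1 := by
  rw [← sub_eq_zero]
  ext i j
  by_contra h
  have h1 := hR i j h
  have h2 : M i j ≠ 0 ∨ (1 : Matrix D.Idx D.Idx R) i j ≠ 0 := by
    by_contra hn
    push_neg at hn
    apply h
    rw [Matrix.sub_apply, hn.1, hn.2, sub_zero]
    rfl
  rcases h2 with h2 | h2
  · rw [hL i j h2] at h1
    exact lt_irrefl _ h1
  · rw [one_mem_Lev (R := R) a i j h2] at h1
    exact lt_irrefl _ h1

theorem xN_mem_Lev (V : Valid0 D) {a : ℕ → ℤ} (ha : IsWt D a) {r : ℕ} (hr : r < D.nroots)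
    (h0 : a r = 0) (t : R) : xN D R r t ∈ Lev D R a := by
  intro i j h
  by_cases hij : i = j
  · rw [hij]
  · have h' : (xN D R r t - 1) i j ≠ 0 := by
      rw [Matrix.sub_apply, Matrix.one_apply_ne hij, sub_zero]
      exact h
    obtain ⟨k, _, e⟩ := xN_sub_one_wt V ha hr t i j h'
    rw [e, h0, mul_zero, add_zero]

theorem xN_mem_Rad (V : Valid0 D) {a : ℕ → ℤ} (ha : IsWt D a) {r : ℕ} (hr : r < D.nroots)
    (h0 : 0 < a r) (t : R) : xN D R r t ∈ Rad D R a := by
  intro i j h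
  obtain ⟨k, hk, e⟩ := xN_sub_one_wt V ha hr t i j h
  rw [e]
  have : (0 : ℤ) < (k : ℤ) * a r := by positivity
  linarith

theorem diagC_mem_Lev (a : ℕ → ℤ) (f : ℕ → R) : diagC D f ∈ Lev D R a := by
  intro i j h
  by_cases hij : i = j
  · rw [hij]
  · unfold diagC at h
    rw [Matrix.diagonal_apply_ne _ hij] at h
    exact absurd rfl h

end

end Cfsg.Agent.Lib.Helper8.Chev
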