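import Cfsg.Agent.Lib.Helper8.Weyl5

set_option autoImplicit false

/-! The roots of a parabolic subsystem are the images of its fundamental roots under the
parabolic subgroup of the reflection group. -/

namespace Cfsg.Agent.Lib.Helper8.Weyl

open Finset

namespace WData

variable {X : WData}

section

variable (hX : X.Ok)
include hX

/-- the roots made negative by an element of `W_J` are images of fundamental roots of `J` -/
theorem inv_WJ_form {J : Set (Fin X.l)} {v : Equiv.Perm (Fin X.n)} (hv : v ∈ X.WJ J) :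
    ∀ r ∈ X.inv v, ∃ v' ∈ X.WJ J, ∃ j ∈ J, r = v' (X.p j) := by
  refine WJ_induction_right hX
    (P := fun v => ∀ r ∈ X.inv v, ∃ v' ∈ X.WJ J, ∃ j ∈ J, r = v' (X.p j)) ?_ ?_ hv
  · intro r hr
    rw [mem_inv] at hr
    exact absurd hr.1 hr.2
  · intro i hi y hy ih r hr
    by_cases hri : r = X.p i
    · exact ⟨1, one_mem _, i, hi, by rw [hri]; rfl⟩
    · have hmem : r ∈ (X.inv (y * X.s i)).erase (X.p i) := mem_erase.mpr ⟨hri, hr⟩
      rw [erase_inv_mul_s hX, mem_image] at hmem
      obtain ⟨r', hr', rfl⟩ := hmem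
      obtain ⟨v', hv', j, hj, e⟩ := ih r' (mem_of_mem_erase hr')
      exact ⟨X.s i * v', mul_mem (s_mem hi) hv', j, hj, by rw [e]; rfl⟩

/-- the longest element of a parabolic subgroup -/
theorem exists_longest (J : Set (Fin X.l)) :
    ∃ v ∈ X.WJ J, ∀ r, X.pos r → X.inJ J r → ¬ X.pos (v r) := by
  classical
  obtain ⟨v, hv, hmax⟩ := Finset.exists_max_image (univ.filter fun w => w ∈ X.WJ J) X.len
    ⟨1, by simp [one_mem]⟩
  rw [mem_filter] at hv
  have hvJ := hv.2
  have hwn := w_ng hX hvJ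
  have hlin := lin_of_mem hX hvJ
  have hneg : ∀ j ∈ J, ¬ X.pos (v (X.p j)) := by
    intro j hj hp
    have h1 := (len_mul_s hX v hwn j).1 hp
    have h2 := hmax (v * X.s j) (by simp [mul_mem hvJ (s_mem hj)])
    omega
  refine ⟨v, hvJ, ?_⟩
  intro r hr hJ hp
  have h0 : ∀ k, X.c (v r) k = 0 := by
    intro k
    apply le_antisymm
    · rw [hlin r k]
      apply Finset.sum_nonpos
      intro j _
      by_cases hj : j ∈ J
      · have hng : X.pos (X.ng (v (X.p j))) := (hX.pos_ng _).mpr (hneg j hj)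
        have h1 := hX.c_pos _ k hng
        rw [hX.c_ng] at h1
        exact mul_nonpos_of_nonneg_of_nonpos (hX.c_pos r j hr) (by linarith)
      · rw [hJ j hj, zero_mul]
    · exact hX.c_pos _ k hp
  have heq : X.ng (v r) = v r := by
    apply hX.c_inj
    funext k
    rw [hX.c_ng, h0 k, neg_zero]
  exact ng_ne hX _ heq

/-- the roots of the subsystem are the images of its fundamental roots -/
theorem inJ_form {J : Set (Fin X.l)} {r : Fin X.n} (hJ : X.inJ J r) :
    ∃ v ∈ X.WJ J, ∃ j ∈ J, r = v (X.p j) := by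
  obtain ⟨v0, hv0, hlong⟩ := exists_longest hX J
  by_cases hp : X.pos r
  · exact inv_WJ_form hX hv0 r (mem_inv.mpr ⟨hp, hlong r hp hJ⟩)
  · have hp' : X.pos (X.ng r) := (hX.pos_ng r).mpr hp
    have hJ' : X.inJ J (X.ng r) := by
      intro k hk
      rw [hX.c_ng, hJ k hk, neg_zero]
    obtain ⟨v', hv', j, hj, e⟩ :=
      inv_WJ_form hX hv0 (X.ng r) (mem_inv.mpr ⟨hp', hlong _ hp' hJ'⟩)
    refine ⟨v' * X.s j, mul_mem hv' (s_mem hj), j, hj, ?_⟩
    rw [Equiv.Perm.mul_apply, hX.s_p, w_ng hX hv', ← e, ng_ng hX]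

end

end WData

end Cfsg.Agent.Lib.Helper8.Weyl
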