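import Cfsg.Agent.Lib.Helper8.ChevPar2
import Cfsg.Agent.Lib.Helper8.ChevCox3
import Cfsg.Agent.Lib.Helper8.Weyl6
import Cfsg.Agent.Lib.Helper8.ChevBor3
import Cfsg.Agent.Lib.Helper8.ChevN4

set_option autoImplicit false

/-! Parabolic subsystems of the root system of a Chevalley datum: every root of `Φ_J` is conjugate
to a fundamental root of `J` under the parabolic subgroup of the Weyl group, and the root elements
of `Φ_J` lie in the parabolic subgroup `P_J`. -/

namespace Cfsg.Agent.Lib.Helper8.Chev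

open Cfsg.Lie Matrix Cfsg.Agent.Lib.Helper8.Weyl

section

variable {D : ChevalleyDatum}

/-- the combinatorial data of the seven types satisfy the axioms -/
theorem chevWD_ok_mem (hD : D ∈ [chevG2, chevB2, chevD4, chevF4, chevE6, chevE7, chevE8]) :
    (chevWD D (validJ_of_mem hD) (validH_of_mem hD) (checkInv_of_mem hD)).Ok := by
  have hD' := hD
  simp only [List.mem_cons, List.not_mem_nil, or_false] at hD'
  rcases hD' with rfl | rfl | rfl | rfl | rfl | rfl | rfl
  · exact chevWD_ok hD checkSS_G2 checkCS_G2 checkCI_G2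
  · exact chevWD_ok hD checkSS_B2 checkCS_B2 checkCI_B2
  · exact chevWD_ok hD checkSS_D4 checkCS_D4 checkCI_D4
  · exact chevWD_ok hD checkSS_F4 checkCS_F4 checkCI_F4
  · exact chevWD_ok hD checkSS_E6 checkCS_E6 checkCI_E6
  · exact chevWD_ok hD checkSS_E7 checkCS_E7 checkCI_E7
  · exact chevWD_ok hD checkSS_E8 checkCS_E8 checkCI_E8

/-- a set of indices as a set of nodes -/
def JF (D : ChevalleyDatum) (J : Set ℕ) : Set (Fin D.rank) := {i | i.val ∈ J}

theorem inRootSub_iff (hD : D ∈ [chevG2, chevB2, chevD4, chevF4, chevE6, chevE7, chevE8])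
    (J : Set ℕ) (r : Fin D.nroots) :
    D.InRootSub J r.val ↔
      (chevWD D (validJ_of_mem hD) (validH_of_mem hD) (checkInv_of_mem hD)).inJ (JF D J) r := by
  constructor
  · intro h k hk
    exact_mod_cast h.2 k.val k.isLt hk
  · intro h
    refine ⟨r.isLt, fun i hi hiJ => ?_⟩
    exact h ⟨i, hi⟩ hiJ

/-- elements of the parabolic subgroup of the Weyl group are words in `J` -/
theorem exists_word_of_mem_WJ (hD : D ∈ [chevG2, chevB2, chevD4, chevF4, chevE6, chevE7, chevE8])
    (J : Set ℕ) {w : Equiv.Perm (Fin D.nroots)}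
    (hw : w ∈ (chevWD D (validJ_of_mem hD) (validH_of_mem hD) (checkInv_of_mem hD)).WJ (JF D J)) :
    ∃ l : List ℕ, (∀ i ∈ l, i < D.rank ∧ i ∈ J) ∧
      ∀ r : Fin D.nroots, (w r).val = reflWord D l r.val := by
  have hX := chevWD_ok_mem hD
  refine WData.WJ_induction_left hX (P := fun w => ∃ l : List ℕ, (∀ i ∈ l, i < D.rank ∧ i ∈ J) ∧
      ∀ r : Fin D.nroots, (w r).val = reflWord D l r.val) ?_ ?_ hw
  · exact ⟨[], fun i hi => by simp at hi, fun r => rfl⟩
  · intro i hi y _ ih
    obtain ⟨l, hl, e⟩ := ih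
    refine ⟨i.val :: l, ?_, fun r => ?_⟩
    · intro j hj
      rw [List.mem_cons] at hj
      rcases hj with rfl | hj
      · exact ⟨i.isLt, hi⟩
      · exact hl j hj
    · change D.reflectRoot i.val (y r).val = reflWord D (i.val :: l) r.val
      rw [reflWord_cons, ← e r]

/-- every root of `Φ_J` is the image of a fundamental root of `J` under a word in `J` -/
theorem inRootSub_form (hD : D ∈ [chevG2, chevB2, chevD4, chevF4, chevE6, chevE7, chevE8])
    (J : Set ℕ) {r : ℕ} (hr : D.InRootSub J r) :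
    ∃ l : List ℕ, (∀ i ∈ l, i < D.rank ∧ i ∈ J) ∧ ∃ j, j < D.rank ∧ j ∈ J ∧
      reflWord D l (D.simple j) = r := by
  have hX := chevWD_ok_mem hD
  have h1 := (inRootSub_iff hD J ⟨r, hr.1⟩).mp hr
  obtain ⟨v, hv, j, hj, e⟩ := WData.inJ_form hX h1
  obtain ⟨l, hl, el⟩ := exists_word_of_mem_WJ hD J hv
  refine ⟨l, hl, j.val, j.isLt, hj, ?_⟩
  have := el ⟨D.simple j.val, ((validJ_of_mem hD).S j.val j.isLt).1⟩
  rw [← this]
  exact (congrArg Fin.val e).symm

variable {F : Type*} [Field F]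

/-- the generators `n_{p_j}`, `j ∈ J` -/
def nGens (D : ChevalleyDatum) (F : Type*) [Field F] (J : Set ℕ) : Set (GL D.Idx F) :=
  {g | ∃ j ∈ J, j < D.rank ∧ (g : Matrix D.Idx D.Idx F) = D.nMat F (D.simple j) 1}

theorem nP_mem_nGens (hD : D ∈ [chevG2, chevB2, chevD4, chevF4, chevE6, chevE7, chevE8])
    (J : Set ℕ) {l : List ℕ} (hl : ∀ i ∈ l, i < D.rank ∧ i ∈ J) :
    nP D F l ∈ Subgroup.closure (nGens D F J) := by
  have J' := validJ_of_mem hD
  have V1 := valid1_of_mem hD
  induction l with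
  | nil => rw [nP_nil]; exact one_mem _
  | cons i l ih =>
    rw [nP_cons]
    have hi := hl i List.mem_cons_self
    exact mul_mem (Subgroup.subset_closure ⟨i, hi.2, hi.1, coe_nG J' V1 hi.1⟩)
      (ih (fun j hj => hl j (List.mem_cons_of_mem _ hj)))

theorem borel_le_parabolic (J : Set ℕ) : D.borelSubgroup F ≤ D.parabolicSubgroup F J := le_sup_left

theorem nGens_le_parabolic (J : Set ℕ) :
    Subgroup.closure (nGens D F J) ≤ D.parabolicSubgroup F J := le_sup_right

/-- the root elements of `Φ_J` lie in `P_J` -/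
theorem x_mem_parabolic (hD : D ∈ [chevG2, chevB2, chevD4, chevF4, chevE6, chevE7, chevE8])
    (J : Set ℕ) {r : ℕ} (hr : D.InRootSub J r) (t : F) (g : GL D.Idx F)
    (hg : (g : Matrix D.Idx D.Idx F) = D.x F r t) : g ∈ D.parabolicSubgroup F J := by
  have V := valid0_of_mem hD
  have V1 := valid1_of_mem hD
  have J' := validJ_of_mem hD
  have H := validH_of_mem hD
  have P := posP_of_mem hD
  obtain ⟨l, hl, j, hj, hjJ, e⟩ := inRootSub_form hD J hr
  have hl' : ∀ i ∈ l, i < D.rank := fun i hi => (hl i hi).1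
  have hP := (rootPermN_nP (F := F) J' V1 H.nS l hl').rootPerm
  have hpj := (J'.S j hj).1
  obtain ⟨_, ε, hε⟩ := hP (D.simple j) hpj
  obtain ⟨g', hg'⟩ := exists_unit_x (F := F) V V1 hpj (((ε⁻¹ : Fˣ) : F) * t)
  have hg'mem : g' ∈ D.parabolicSubgroup F J := by
    apply borel_le_parabolic J
    apply pos_le_borel
    refine Subgroup.subset_closure ⟨D.simple j, _, ?_, hg'⟩
    have hX := chevWD_ok_mem hD
    have hpos : D.nroots / 2 ≤ D.simple j := hX.p_pos ⟨j, hj⟩
    exact (P _ hpj).1.mpr hpos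
  have hn := nGens_le_parabolic (F := F) J (nP_mem_nGens hD J hl)
  have key : g = nP D F l * g' * (nP D F l)⁻¹ := by
    apply Units.ext
    rw [Units.val_mul, Units.val_mul, hg', x_eq_xN, hε, e, Matrix.mul_assoc, ← Units.val_mul,
      mul_inv_cancel, Units.val_one, Matrix.mul_one, hg, x_eq_xN]
    congr 1
    rw [← mul_assoc, ← Units.val_mul, mul_inv_cancel, Units.val_one, one_mul]
  rw [key]
  exact mul_mem (mul_mem hn hg'mem) (inv_mem hn)

end

end Cfsg.Agent.Lib.Helper8.Chev
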