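import Cfsg.Agent.Lib.Helper8.ChevPar3

set_option autoImplicit false

/-! The standard parabolic subgroup `P_J` is generated by `H` and the root subgroups of the
positive roots and of the roots of `Φ_J`; `P_J = U_J L_J`. -/

namespace Cfsg.Agent.Lib.Helper8.Chev

open Cfsg.Lie Matrix Cfsg.Agent.Lib.Helper8.Weyl

section

variable {D : ChevalleyDatum} {F : Type*} [Field F]

/-- the root elements of the positive roots and of the roots of `Φ_J` -/
def parGens (D : ChevalleyDatum) (F : Type*) [Field F] (J : Set ℕ) : Set (GL D.Idx F) :=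
  {g | ∃ (r : ℕ) (t : F), (D.IsPosRoot r ∨ D.InRootSub J r) ∧
    (g : Matrix D.Idx D.Idx F) = D.x F r t}

theorem cor_neg_eq (hD : D ∈ [chevG2, chevB2, chevD4, chevF4, chevE6, chevE7, chevE8])
    {r : ℕ} (hr : r < D.nroots) {k : ℕ} (hk : k < D.rank) :
    cor D (D.neg r) k = - cor D r k :=
  (chevWD_ok_mem hD).c_ng ⟨r, hr⟩ ⟨k, hk⟩

theorem inRootSub_neg (hD : D ∈ [chevG2, chevB2, chevD4, chevF4, chevE6, chevE7, chevE8])
    (J : Set ℕ) {r : ℕ} (hr : D.InRootSub J r) : D.InRootSub J (D.neg r) := by
  refine ⟨(valid0_of_mem hD).neg_lt hr.1, fun i hi hiJ => ?_⟩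
  have := cor_neg_eq hD hr.1 hi
  unfold cor at this
  rw [this, hr.2 i hi hiJ, neg_zero]

theorem inRootSub_simple (hD : D ∈ [chevG2, chevB2, chevD4, chevF4, chevE6, chevE7, chevE8])
    (J : Set ℕ) {j : ℕ} (hj : j < D.rank) (hjJ : j ∈ J) : D.InRootSub J (D.simple j) := by
  have J' := validJ_of_mem hD
  refine ⟨(J'.S j hj).1, fun i hi hiJ => ?_⟩
  have := (J'.S j hj).2 i hi
  unfold cor at this
  rw [this, if_neg]
  intro h
  exact hiJ (h ▸ hjJ)

theorem isPosRoot_simple (hD : D ∈ [chevG2, chevB2, chevD4, chevF4, chevE6, chevE7, chevE8])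
    {j : ℕ} (hj : j < D.rank) : D.IsPosRoot (D.simple j) := by
  have J' := validJ_of_mem hD
  have P := posP_of_mem hD
  have hX := chevWD_ok_mem hD
  have hpos : D.nroots / 2 ≤ D.simple j := hX.p_pos ⟨j, hj⟩
  exact (P _ (J'.S j hj).1).1.mpr hpos

/-- `P_J = ⟨H, X_r : r ∈ Φ⁺ ∪ Φ_J⟩` -/
theorem parabolic_eq (hD : D ∈ [chevG2, chevB2, chevD4, chevF4, chevE6, chevE7, chevE8])
    (J : Set ℕ) :
    D.parabolicSubgroup F J = D.diagonalSubgroup F ⊔ Subgroup.closure (parGens D F J) := by
  have V := valid0_of_mem hD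
  have V1 := valid1_of_mem hD
  apply le_antisymm
  · unfold ChevalleyDatum.parabolicSubgroup ChevalleyDatum.borelSubgroup
    refine sup_le (sup_le ?_ le_sup_left) ?_
    · refine le_trans ?_ le_sup_right
      unfold ChevalleyDatum.posUnipotent
      apply Subgroup.closure_mono
      rintro g ⟨r, t, hr, hg⟩
      exact ⟨r, t, Or.inl hr, hg⟩
    · refine le_trans ?_ le_sup_right
      rw [Subgroup.closure_le]
      rintro g ⟨j, hjJ, hj, hg⟩
      rw [nMat_eq_wN] at hg
      obtain ⟨g', hg', hm⟩ := word_mem_closure (F := F) V V1 (S := parGens D F J)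
        (Q := fun s => D.IsPosRoot s ∨ D.InRootSub J s)
        (fun s hs => hs.elim (fun h => h.1) (fun h => h.1))
        (fun s t g hs hg => ⟨s, t, hs, hg⟩) (D.nWord (D.simple j) 1) (by
          intro p hp
          simp only [ChevalleyDatum.nWord, List.mem_cons, List.not_mem_nil, or_false] at hp
          rcases hp with rfl | rfl | rfl
          · exact Or.inl (isPosRoot_simple hD hj)
          · exact Or.inr (inRootSub_neg hD J (inRootSub_simple hD J hj hjJ))
          · exact Or.inl (isPosRoot_simple hD hj))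
      have : g = g' := Units.ext (hg.trans hm.symm)
      rw [SetLike.mem_coe, this]
      exact hg'
  · refine sup_le (le_trans diagonal_le_borel (borel_le_parabolic J)) ?_
    rw [Subgroup.closure_le]
    rintro g ⟨r, t, hr, hg⟩
    rcases hr with hr | hr
    · apply borel_le_parabolic J
      apply pos_le_borel
      exact Subgroup.subset_closure ⟨r, t, hr, hg⟩
    · exact x_mem_parabolic hD J hr t g hg

/-- `U_J L_J = P_J` -/
theorem radical_sup_levi (hD : D ∈ [chevG2, chevB2, chevD4, chevF4, chevE6, chevE7, chevE8])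
    (J : Set ℕ) :
    D.unipotentRadical F J ⊔ D.leviSubgroup F J = D.parabolicSubgroup F J := by
  classical
  apply le_antisymm
  · refine sup_le ?_ ?_
    · refine le_trans ?_ (le_trans pos_le_borel (borel_le_parabolic J))
      unfold ChevalleyDatum.unipotentRadical ChevalleyDatum.posUnipotent
      apply Subgroup.closure_mono
      rintro g ⟨r, t, hr, _, hg⟩
      exact ⟨r, t, hr, hg⟩
    · unfold ChevalleyDatum.leviSubgroup
      refine sup_le (le_trans diagonal_le_borel (borel_le_parabolic J)) ?_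
      rw [Subgroup.closure_le]
      rintro g ⟨r, t, hr, hg⟩
      exact x_mem_parabolic hD J hr t g hg
  · rw [parabolic_eq hD J]
    refine sup_le ?_ ?_
    · refine le_trans ?_ le_sup_right
      unfold ChevalleyDatum.leviSubgroup
      exact le_sup_left
    · rw [Subgroup.closure_le]
      rintro g ⟨r, t, hr, hg⟩
      by_cases hJ : D.InRootSub J r
      · apply Subgroup.mem_sup_right
        unfold ChevalleyDatum.leviSubgroup
        exact Subgroup.mem_sup_right (Subgroup.subset_closure ⟨r, t, hJ, hg⟩)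
      · apply Subgroup.mem_sup_left
        rcases hr with hr | hr
        · exact Subgroup.subset_closure ⟨r, t, hr, hJ, hg⟩
        · exact absurd hr hJ

end

end Cfsg.Agent.Lib.Helper8.Chev
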