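import Cfsg.Agent.Lib.Helper8.ChevPar4

set_option autoImplicit false

/-! The Levi decomposition of the standard parabolic subgroups: `U_J ∩ L_J = 1` and `U_J ⊴ P_J`. -/

namespace Cfsg.Agent.Lib.Helper8.Chev

open Cfsg.Lie Matrix Cfsg.Agent.Lib.Helper8.Weyl

section

variable {D : ChevalleyDatum} {F : Type*} [Field F]

/-- invertible matrices preserving the grading, with their inverses -/
def LevG (D : ChevalleyDatum) (F : Type*) [Field F] (a : ℕ → ℤ) : Subgroup (GL D.Idx F) where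
  carrier := {g | (g : Matrix D.Idx D.Idx F) ∈ Lev D F a ∧
    ((g⁻¹ : GL D.Idx F) : Matrix D.Idx D.Idx F) ∈ Lev D F a}
  mul_mem' := by
    rintro g g' ⟨h1, h2⟩ ⟨h1', h2'⟩
    refine ⟨?_, ?_⟩
    · rw [Units.val_mul]; exact Lev_mul h1 h1'
    · rw [_root_.mul_inv_rev, Units.val_mul]; exact Lev_mul h2' h2
  one_mem' := by
    refine ⟨?_, ?_⟩
    · rw [Units.val_one]; exact one_mem_Lev a
    · rw [inv_one, Units.val_one]; exact one_mem_Lev a
  inv_mem' := by
    rintro g ⟨h1, h2⟩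
    exact ⟨h2, by rw [inv_inv]; exact h1⟩

/-- invertible matrices unitriangular for the grading, with their inverses -/
def RadG (D : ChevalleyDatum) (F : Type*) [Field F] (a : ℕ → ℤ) : Subgroup (GL D.Idx F) where
  carrier := {g | (g : Matrix D.Idx D.Idx F) ∈ Rad D F a ∧
    ((g⁻¹ : GL D.Idx F) : Matrix D.Idx D.Idx F) ∈ Rad D F a}
  mul_mem' := by
    rintro g g' ⟨h1, h2⟩ ⟨h1', h2'⟩
    refine ⟨?_, ?_⟩
    · rw [Units.val_mul]; exact Rad_mul h1 h1'
    · rw [_root_.mul_inv_rev, Units.val_mul]; exact Rad_mul h2' h2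
  one_mem' := by
    refine ⟨?_, ?_⟩
    · rw [Units.val_one]; exact one_mem_Rad a
    · rw [inv_one, Units.val_one]; exact one_mem_Rad a
  inv_mem' := by
    rintro g ⟨h1, h2⟩
    exact ⟨h2, by rw [inv_inv]; exact h1⟩

theorem levG_inf_radG (a : ℕ → ℤ) : LevG D F a ⊓ RadG D F a = ⊥ := by
  rw [Subgroup.eq_bot_iff_forall]
  rintro g ⟨hL, hR⟩
  exact Units.ext (eq_one_of_Lev_Rad hL.1 hR.1)

open Classical in
/-- the height outside `J` -/
noncomputable def htJ (D : ChevalleyDatum) (J : Set ℕ) (s : ℕ) : ℤ :=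
  ∑ t ∈ Finset.range D.rank, (if t ∈ J then 0 else 1) * rc D s t

theorem htJ_isWt (hD : D ∈ [chevG2, chevB2, chevD4, chevF4, chevE6, chevE7, chevE8])
    (J : Set ℕ) : IsWt D (htJ D J) := by
  classical
  unfold htJ
  exact isWt_sum (a := fun t s => rc D s t) (fun t => if t ∈ J then 0 else 1) D.rank
    (fun t ht => rc_isWt hD ht)

theorem htJ_eq_zero (hD : D ∈ [chevG2, chevB2, chevD4, chevF4, chevE6, chevE7, chevE8])
    (J : Set ℕ) {r : ℕ} (hr : D.InRootSub J r) : htJ D J r = 0 := by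
  classical
  unfold htJ
  apply Finset.sum_eq_zero
  intro t ht
  rw [Finset.mem_range] at ht
  by_cases htJ : t ∈ J
  · rw [if_pos htJ, zero_mul]
  · rw [if_neg htJ, one_mul, rc_eq_zero_iff hD hr.1 ht]
    exact hr.2 t ht htJ

theorem rc_nonneg (hD : D ∈ [chevG2, chevB2, chevD4, chevF4, chevE6, chevE7, chevE8])
    {r : ℕ} (hr : D.IsPosRoot r) {t : ℕ} (ht : t < D.rank) : 0 ≤ rc D r t := by
  have J' := validJ_of_mem hD
  have P := posP_of_mem hD
  have hpos := (P r hr.1).1.mp hr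
  have h1 := cor_nonneg J' P hr.1 hpos ht
  by_contra hn
  rw [not_le] at hn
  have := (rc_sign hD hr.1 ht).2.mp hn
  omega

theorem htJ_pos (hD : D ∈ [chevG2, chevB2, chevD4, chevF4, chevE6, chevE7, chevE8])
    (J : Set ℕ) {r : ℕ} (hr : D.IsPosRoot r) (hJ : ¬ D.InRootSub J r) : 0 < htJ D J r := by
  classical
  unfold ChevalleyDatum.InRootSub at hJ
  push_neg at hJ
  obtain ⟨t0, ht0, ht0J, hne⟩ := hJ hr.1
  have hne' : cor D r t0 ≠ 0 := hne
  unfold htJ
  apply Finset.sum_pos'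
  · intro t ht
    rw [Finset.mem_range] at ht
    by_cases htJ : t ∈ J
    · rw [if_pos htJ, zero_mul]
    · rw [if_neg htJ, one_mul]
      exact rc_nonneg hD hr ht
  · refine ⟨t0, Finset.mem_range.mpr ht0, ?_⟩
    rw [if_neg ht0J, one_mul]
    have h1 := rc_nonneg hD hr ht0
    have h2 : rc D r t0 ≠ 0 := fun h => hne' ((rc_eq_zero_iff hD hr.1 ht0).mp h)
    omega

theorem radical_le_radG (hD : D ∈ [chevG2, chevB2, chevD4, chevF4, chevE6, chevE7, chevE8])
    (J : Set ℕ) : D.unipotentRadical F J ≤ RadG D F (htJ D J) := by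
  have V := valid0_of_mem hD
  have V1 := valid1_of_mem hD
  unfold ChevalleyDatum.unipotentRadical
  rw [Subgroup.closure_le]
  rintro g ⟨r, t, hr, hJ, hg⟩
  have ha := htJ_isWt hD J
  have hp := htJ_pos hD J hr hJ
  refine ⟨?_, ?_⟩
  · rw [hg, x_eq_xN]
    exact xN_mem_Rad V ha hr.1 hp t
  · rw [x_inv V V1 hr.1 t g hg, x_eq_xN]
    exact xN_mem_Rad V ha hr.1 hp (-t)

theorem levi_le_levG (hD : D ∈ [chevG2, chevB2, chevD4, chevF4, chevE6, chevE7, chevE8])
    (J : Set ℕ) : D.leviSubgroup F J ≤ LevG D F (htJ D J) := by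
  have V := valid0_of_mem hD
  have V1 := valid1_of_mem hD
  have J' := validJ_of_mem hD
  have H := validH_of_mem hD
  unfold ChevalleyDatum.leviSubgroup
  refine sup_le ?_ ?_
  · intro g hg
    obtain ⟨f, _, hm⟩ := torusLike_of_mem J' V1 H hg
    obtain ⟨f', _, hm'⟩ := torusLike_of_mem J' V1 H (inv_mem hg)
    refine ⟨?_, ?_⟩
    · show (g : Matrix D.Idx D.Idx F) ∈ Lev D F (htJ D J)
      rw [hm]; exact diagC_mem_Lev _ _
    · show ((g⁻¹ : GL D.Idx F) : Matrix D.Idx D.Idx F) ∈ Lev D F (htJ D J)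
      rw [hm']; exact diagC_mem_Lev _ _
  · rw [Subgroup.closure_le]
    rintro g ⟨r, t, hr, hg⟩
    have ha := htJ_isWt hD J
    have h0 := htJ_eq_zero hD J hr
    refine ⟨?_, ?_⟩
    · show (g : Matrix D.Idx D.Idx F) ∈ Lev D F (htJ D J)
      rw [hg, x_eq_xN]
      exact xN_mem_Lev V ha hr.1 h0 t
    · show ((g⁻¹ : GL D.Idx F) : Matrix D.Idx D.Idx F) ∈ Lev D F (htJ D J)
      rw [x_inv V V1 hr.1 t g hg, x_eq_xN]
      exact xN_mem_Lev V ha hr.1 h0 (-t)

/-- `U_J ∩ L_J = 1` -/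
theorem radical_inf_levi (hD : D ∈ [chevG2, chevB2, chevD4, chevF4, chevE6, chevE7, chevE8])
    (J : Set ℕ) : D.unipotentRadical F J ⊓ D.leviSubgroup F J = ⊥ := by
  rw [eq_bot_iff, ← levG_inf_radG (D := D) (F := F) (htJ D J)]
  exact le_inf (inf_le_right.trans (levi_le_levG hD J)) (inf_le_left.trans (radical_le_radG hD J))

end

end Cfsg.Agent.Lib.Helper8.Chev
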