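import Cfsg.Agent.Lib.Helper8.ChevU3
import Cfsg.Agent.Lib.Helper8.ChevX9

set_option autoImplicit false

namespace Cfsg.Agent.Lib.Helper8.Chev

open Cfsg.Lie Matrix

/-! ### The roots of the commutator formula -/

section Roots

variable {D : ChevalleyDatum}

theorem chainRoot_spec {a b i q : ℕ} (h : D.chainRoot a b i = some q) :
    ∃ M, (D.chainEntry a b)[i - 1]? = some (q, M) := by
  unfold ChevalleyDatum.chainRoot at h
  cases hL : (D.chainEntry a b)[i - 1]? with
  | none => rw [hL] at h; simp at h
  | some e =>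
    rw [hL] at h
    simp only [Option.map_some, Option.some.injEq] at h
    exact ⟨e.2, by rw [← h]⟩

/-- for a positive root `a` the chain of `b` under `a` goes upwards -/
theorem chainRoot_gt (V : Valid0 D) (Tr : TriP D) {a b i q : ℕ} (ha : a < D.nroots)
    (hpos : D.nroots / 2 ≤ a) (h : D.chainRoot a b i = some q) : b < q ∧ q < D.nroots := by
  obtain ⟨M, hM⟩ := chainRoot_spec h
  have hne : D.chainEntry a b ≠ [] := by
    intro h0; rw [h0] at hM; simp at hM
  obtain ⟨e, he, heb, hL⟩ := chainEntry_mem D hne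
  rw [← hL] at hM
  have hq : (q, M) ∈ e.2.toList := List.mem_of_getElem? hM
  have := (Tr a ha e he (q, M) hq).1 hpos
  rw [heb] at this
  exact ⟨this, V.tgt_lt a ha e he (q, M) hq⟩

theorem commTerms_root {r s : ℕ} {c : ℕ × ℤ × ℕ × ℕ} (hc : c ∈ D.commTerms r s) :
    (∃ i, D.chainRoot r s i = some c.1) ∨ (∃ i, D.chainRoot s r i = some c.1) ∨
    (∃ k, D.chainRoot r s 3 = some k ∧ D.chainRoot k s 1 = some c.1) ∨
    (∃ k, D.chainRoot s r 3 = some k ∧ D.chainRoot k r 1 = some c.1) := by
  unfold ChevalleyDatum.commTerms at hc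
  simp only [List.mem_filterMap, List.mem_cons, List.not_mem_nil, or_false] at hc
  obtain ⟨cand, hcand, hmap⟩ := hc
  have h1 : cand.1 = some c.1 := by
    cases h : cand.1 with
    | none => rw [h] at hmap; simp at hmap
    | some k =>
      rw [h] at hmap
      simp only [Option.map_some, Option.some.injEq] at hmap
      rw [← hmap]
  rcases hcand with rfl | rfl | rfl | rfl | rfl | rfl | rfl
  · left; exact ⟨1, h1⟩
  · left; exact ⟨2, h1⟩
  · right; left; exact ⟨2, h1⟩
  · left; exact ⟨3, h1⟩
  · right; left; exact ⟨3, h1⟩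
  · right; right; left
    simp only at h1
    cases hk : D.chainRoot r s 3 with
    | none => rw [hk] at h1; simp at h1
    | some k =>
      rw [hk] at h1
      exact ⟨k, rfl, by simpa using h1⟩
  · right; right; right
    simp only at h1
    cases hk : D.chainRoot s r 3 with
    | none => rw [hk] at h1; simp at h1
    | some k =>
      rw [hk] at h1
      exact ⟨k, rfl, by simpa using h1⟩

/-- the roots on the right-hand side of the commutator formula of two positive roots `k < r`
all have index greater than `k` -/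
theorem commWord_letters (V : Valid0 D) (Tr : TriP D) {F : Type*} [Field F] {k r : ℕ}
    (hk : D.nroots / 2 ≤ k) (hkr : k < r) (hr : r < D.nroots) (a u : F) :
    ∀ p ∈ D.commWord F k r a u, k + 1 ≤ p.1 ∧ p.1 < D.nroots := by
  intro p hp
  unfold ChevalleyDatum.commWord at hp
  rw [List.mem_map] at hp
  obtain ⟨c, hc, rfl⟩ := hp
  have hk' : k < D.nroots := by omega
  have hrpos : D.nroots / 2 ≤ r := by omega
  rcases commTerms_root hc with ⟨i, h⟩ | ⟨i, h⟩ | ⟨k', h1, h2⟩ | ⟨k', h1, h2⟩
  · have := chainRoot_gt V Tr hk' hk h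
    exact ⟨by simp only; omega, this.2⟩
  · have := chainRoot_gt V Tr hr hrpos h
    exact ⟨by simp only; omega, this.2⟩
  · have h3 := chainRoot_gt V Tr hk' hk h1
    have := chainRoot_gt V Tr h3.2 (by omega) h2
    exact ⟨by simp only; omega, this.2⟩
  · have h3 := chainRoot_gt V Tr hr hrpos h1
    have := chainRoot_gt V Tr h3.2 (by omega) h2
    exact ⟨by simp only; omega, this.2⟩

end Roots

/-! ### Segments of the product over the positive roots -/

section Seg

variable {D : ChevalleyDatum} {F : Type*} [Field F]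

/-- the word `∏_{k ≤ r < n} x_r(t_r)`, in increasing order of the roots -/
def segW (D : ChevalleyDatum) {F : Type*} (k : ℕ) (t : ℕ → F) : List (ℕ × F) :=
  (List.range' k (D.nroots - k)).map fun r => (r, t r)

theorem segW_succ {k : ℕ} (hk : k < D.nroots) (t : ℕ → F) :
    segW D k t = (k, t k) :: segW D (k + 1) t := by
  unfold segW
  have : D.nroots - k = (D.nroots - (k + 1)) + 1 := by omega
  rw [this, List.range'_succ]
  rfl

theorem segW_congr {k : ℕ} {t t' : ℕ → F} (h : ∀ r, k ≤ r → r < D.nroots → t r = t' r) :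
    segW D k t = segW D k t' := by
  unfold segW
  apply List.map_congr_left
  intro r hr
  rw [List.mem_range'_1] at hr
  rw [h r hr.1 (by omega)]

theorem segW_top (t : ℕ → F) : segW D D.nroots t = [] := by
  simp [segW]

theorem segW_mem {k : ℕ} {t : ℕ → F} {p : ℕ × F} (hp : p ∈ segW D k t) :
    k ≤ p.1 ∧ p.1 < D.nroots := by
  unfold segW at hp
  rw [List.mem_map] at hp
  obtain ⟨r, hr, rfl⟩ := hp
  rw [List.mem_range'_1] at hr
  exact ⟨hr.1, by have := hr.2; omega⟩

theorem wN_segW_zero (V : Valid0 D) (k : ℕ) : wN D F (segW D k (fun _ => (0 : F))) = 1 := by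
  unfold segW
  induction (List.range' k (D.nroots - k)) with
  | nil => simp
  | cons a l ih => rw [List.map_cons, wN_cons, ih, xN_zero V]; simp

/-- collecting a word into the ordered product -/
theorem collect (hD : D ∈ [chevG2, chevB2, chevD4, chevF4, chevE6, chevE7, chevE8]) :
    ∀ d k, D.nroots / 2 ≤ k → k + d = D.nroots → ∀ (w : List (ℕ × F)),
      (∀ p ∈ w, k ≤ p.1 ∧ p.1 < D.nroots) → ∀ t : ℕ → F,
      ∃ t' : ℕ → F, wN D F w * wN D F (segW D k t) = wN D F (segW D k t') := by
  have V := valid0_of_mem hD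
  have V1 := valid1_of_mem hD
  have Tr := triP_of_mem hD
  intro d
  induction d with
  | zero =>
    intro k _ hkd w hw t
    cases w with
    | nil => exact ⟨t, by simp⟩
    | cons p w => have := hw p List.mem_cons_self; omega
  | succ d ih =>
    intro k hk hkd
    have hkn : k < D.nroots := by omega
    have IH := ih (k + 1) (by omega) (by omega)
    -- one letter
    have one : ∀ (r : ℕ) (u : F), k ≤ r → r < D.nroots → ∀ t : ℕ → F,
        ∃ t' : ℕ → F, xN D F r u * wN D F (segW D k t) = wN D F (segW D k t') := by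
      intro r u hkr hr t
      rw [segW_succ hkn, wN_cons]
      by_cases hrk : r = k
      · subst hrk
        refine ⟨Function.update t r (u + t r), ?_⟩
        rw [segW_succ hkn, wN_cons, ← Matrix.mul_assoc, xN_mul_xN F V V1 hr]
        simp only [Function.update_self]
        congr 2
        apply segW_congr
        intro r' h1 _
        rw [Function.update_of_ne (by omega)]
      · have hlt : k < r := by omega
        have hcf := comm_formula hD (F := F) hkn hr hrk
          (by rw [V.neg_eq k hkn]; omega) (t k) u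
        rw [x_eq_xN, x_eq_xN, wordMat_eq_wN] at hcf
        obtain ⟨t'', ht''⟩ := IH ((r, u) :: D.commWord F k r (t k) u) (by
          intro p hp
          rw [List.mem_cons] at hp
          rcases hp with rfl | hp
          · exact ⟨by simp only; omega, hr⟩
          · exact commWord_letters V Tr hk hlt hr (t k) u p hp) t
        refine ⟨Function.update t'' k (t k), ?_⟩
        rw [segW_succ hkn, wN_cons]
        simp only [Function.update_self]
        have e1 : segW D (k + 1) (Function.update t'' k (t k)) = segW D (k + 1) t'' := by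
          apply segW_congr
          intro r' h1 _
          rw [Function.update_of_ne (by omega)]
        rw [e1, ← ht'', wN_cons, ← Matrix.mul_assoc, hcf]
        simp only [Matrix.mul_assoc]
    intro w hw t
    induction w with
    | nil => exact ⟨t, by simp⟩
    | cons p w ihw =>
      obtain ⟨t1, ht1⟩ := ihw (fun q hq => hw q (List.mem_cons_of_mem _ hq))
      obtain ⟨t2, ht2⟩ := one p.1 p.2 (hw p List.mem_cons_self).1 (hw p List.mem_cons_self).2 t1
      exact ⟨t2, by rw [wN_cons, Matrix.mul_assoc, ht1, ht2]⟩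

end Seg

/-! ### Uniqueness of the ordered product -/

section Unique

variable {D : ChevalleyDatum} {F : Type*} [Field F]

/-- vectors supported at positions at least `c` -/
def AboveK (D : ChevalleyDatum) (F : Type*) [Field F] (c : ℕ) : Set (D.Idx → F) :=
  {v | ∀ idx, v idx ≠ 0 → c ≤ ord D idx}

theorem mulVec_mem_AboveK {M : Matrix D.Idx D.Idx F} (hM : M ∈ LowK D F 0) {c : ℕ}
    {v : D.Idx → F} (hv : v ∈ AboveK D F c) : M *ᵥ v ∈ AboveK D F c := by
  intro i hi
  unfold Matrix.mulVec dotProduct at hi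
  obtain ⟨j, _, hj⟩ := Finset.exists_ne_zero_of_sum_ne_zero hi
  have h1 := hM i j (left_ne_zero_of_mul hj)
  have h2 := hv j (right_ne_zero_of_mul hj)
  omega

theorem add_mem_AboveK {c : ℕ} {v w : D.Idx → F} (hv : v ∈ AboveK D F c) (hw : w ∈ AboveK D F c) :
    v + w ∈ AboveK D F c := by
  intro i hi
  by_cases h : v i = 0
  · apply hw i
    intro h0
    apply hi
    rw [Pi.add_apply, h, h0, add_zero]
  · exact hv i h

theorem xN_mem_LowK_zero (V : Valid0 D) (Tr : TriP D) {r : ℕ} (hr : r < D.nroots)
    (hpos : D.nroots / 2 ≤ r) (u : F) : xN D F r u ∈ LowK D F 0 := by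
  have h := xN_sub_one_mem (R := F) V Tr hr hpos u
  have : xN D F r u = (xN D F r u - 1) + 1 := by abel
  rw [this]
  exact LowK_add (LowK_mono (by omega) h) one_mem_LowK

/-- the chains of the negatives of smaller positive roots under larger ones consist of positive
roots -/
def SepP (D : ChevalleyDatum) : Prop :=
  ∀ r < D.nroots, ∀ k < r, D.nroots / 2 ≤ k →
    ∀ q ∈ D.chainEntry r (D.nroots - 1 - k), D.nroots / 2 ≤ q.1

noncomputable def checkSep (D : ChevalleyDatum) : Bool :=
  forallLtF (fun r => forallLtF (fun k => !(Nat.ble (D.nroots / 2) k) ||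
    allF (fun q : ℕ × ℤ => Nat.ble (D.nroots / 2) q.1)
      (lookF (rowAt D r) (D.nroots - 1 - k))) r) D.nroots

theorem sepP_of_check (h : checkSep D = true) : SepP D := by
  simp only [checkSep, forallLtF_eq_true, Bool.or_eq_true, Bool.not_eq_true', allF_eq_true,
    Nat.ble_eq, rowAt_eq, lookF_eq] at h
  intro r hr k hk hpos q hq
  rcases h r hr k hk with h1 | h1
  · rw [← Bool.not_eq_true, Nat.ble_eq] at h1
    omega
  · exact h1 q hq

noncomputable def existsLtF (p : ℕ → Bool) (n : ℕ) : Bool :=
  @Nat.rec (fun _ => Bool) false (fun k ih => or (p k) ih) n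

theorem existsLtF_eq_true {p : ℕ → Bool} {n : ℕ} :
    existsLtF p n = true ↔ ∃ k < n, p k = true := by
  induction n with
  | zero => simp [existsLtF]
  | succ n ih =>
    have : existsLtF p (n + 1) = (p n || existsLtF p n) := rfl
    rw [this, Bool.or_eq_true, ih]
    constructor
    · rintro (h | ⟨k, hk, h⟩)
      · exact ⟨n, by omega, h⟩
      · exact ⟨k, by omega, h⟩
    · rintro ⟨k, hk, h⟩
      rcases Nat.lt_succ_iff_lt_or_eq.mp hk with h' | rfl
      · exact Or.inr ⟨k, h', h⟩
      · exact Or.inl h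

/-- every coroot has two coprime coordinates -/
def CopP (D : ChevalleyDatum) : Prop :=
  ∀ r < D.nroots, ∃ i < D.rank, ∃ j < D.rank, Int.gcd (cor D r i) (cor D r j) = 1

noncomputable def checkCop (D : ChevalleyDatum) : Bool :=
  forallLtF (fun r => existsLtF (fun i => existsLtF (fun j =>
    Nat.beq (Int.gcd (getZ 5 16 (packC D) r i) (getZ 5 16 (packC D) r j)) 1) D.rank) D.rank)
    D.nroots

theorem copP_of_check (T : ValidT D) (h : checkCop D = true) : CopP D := by
  simp only [checkCop, forallLtF_eq_true, existsLtF_eq_true, Nat.beq_eq] at h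
  intro r hr
  obtain ⟨i, hi, j, hj, hg⟩ := h r hr
  rw [T.cor_eq r hr i hi, T.cor_eq r hr j hj] at hg
  exact ⟨i, hi, j, hj, hg⟩

theorem eq_zero_of_cop (C : CopP D) {r : ℕ} (hr : r < D.nroots) {a : F}
    (h : ∀ i < D.rank, a * ((cor D r i : ℤ) : F) = 0) : a = 0 := by
  obtain ⟨i, hi, j, hj, hg⟩ := C r hr
  have hb := Int.gcd_eq_gcd_ab (cor D r i) (cor D r j)
  rw [hg] at hb
  have hb' : (1 : F) = ((cor D r i : ℤ) : F) * ((Int.gcdA (cor D r i) (cor D r j) : ℤ) : F) +
      ((cor D r j : ℤ) : F) * ((Int.gcdB (cor D r i) (cor D r j) : ℤ) : F) := by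
    have := congrArg (Int.cast (R := F)) hb
    push_cast at this
    exact this
  calc a = a * 1 := (mul_one a).symm
    _ = (a * ((cor D r i : ℤ) : F)) * ((Int.gcdA (cor D r i) (cor D r j) : ℤ) : F) +
        (a * ((cor D r j : ℤ) : F)) * ((Int.gcdB (cor D r i) (cor D r j) : ℤ) : F) := by
      rw [hb']; ring
    _ = 0 := by rw [h i hi, h j hj]; ring

/-- a word in root elements of positive roots larger than `k` moves `e_{-k}` by a combination of
positive root vectors -/
theorem word_sep (V : Valid0 D) (Tr : TriP D) (S : SepP D) {k : ℕ} (hk : D.nroots / 2 ≤ k)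
    (hkn : k < D.nroots) (w : List (ℕ × F)) (hw : ∀ p ∈ w, k + 1 ≤ p.1 ∧ p.1 < D.nroots) :
    wN D F w *ᵥ E D F (D.neg k) - E D F (D.neg k) ∈ AboveK D F (D.nroots / 2 + D.rank) := by
  induction w with
  | nil =>
    intro idx hidx
    simp at hidx
  | cons p w ih =>
    have hp := hw p List.mem_cons_self
    have hpr : p.1 < D.nroots := hp.2
    have hppos : D.nroots / 2 ≤ p.1 := by omega
    have h1 := ih (fun q hq => hw q (List.mem_cons_of_mem _ hq))
    have hnk : D.neg k = D.nroots - 1 - k := V.neg_eq k hkn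
    have hx : xN D F p.1 p.2 *ᵥ E D F (D.neg k) = E D F (D.neg k) + chainVec D F p.1 (D.neg k) p.2 :=
      xN_mulVec_E V F hpr p.2 (V.neg_lt hkn) (by rw [hnk]; omega)
        (by rw [hnk, V.neg_eq p.1 hpr]; omega)
    have e : wN D F (p :: w) *ᵥ E D F (D.neg k) - E D F (D.neg k) =
        xN D F p.1 p.2 *ᵥ (wN D F w *ᵥ E D F (D.neg k) - E D F (D.neg k)) +
          chainVec D F p.1 (D.neg k) p.2 := by
      rw [wN_cons, ← Matrix.mulVec_mulVec, Matrix.mulVec_sub, hx]
      abel
    rw [e]
    apply add_mem_AboveK (mulVec_mem_AboveK (xN_mem_LowK_zero V Tr hpr hppos p.2) h1)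
    intro idx hidx
    obtain ⟨q, hq, hu, rfl⟩ := chainVec_ne_zero_imp hidx
    rw [hnk] at hq
    have := S p.1 hpr k (by omega) hk q hq
    simp only [ord]
    rw [if_neg (by omega)]
    omega

/-- cancelling the first letter -/
theorem seg_cancel (V : Valid0 D) (Tr : TriP D) (S : SepP D) (C : CopP D) {k : ℕ}
    (hk : D.nroots / 2 ≤ k) (hkn : k < D.nroots) (a b : F) (w w' : List (ℕ × F))
    (hw : ∀ p ∈ w, k + 1 ≤ p.1 ∧ p.1 < D.nroots) (hw' : ∀ p ∈ w', k + 1 ≤ p.1 ∧ p.1 < D.nroots)
    (h : xN D F k a * wN D F w = xN D F k b * wN D F w') : a = b := by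
  have key : ∀ (c : F) (v : List (ℕ × F)), (∀ p ∈ v, k + 1 ≤ p.1 ∧ p.1 < D.nroots) →
      ∀ i (hi : i < D.rank), ((xN D F k c * wN D F v) *ᵥ E D F (D.neg k)) (Sum.inl ⟨i, hi⟩) =
        c * ((cor D k i : ℤ) : F) := by
    intro c v hv i hi
    have h1 := word_sep V Tr S hk hkn v hv
    have h2 := mulVec_mem_AboveK (xN_mem_LowK_zero V Tr hkn hk c) h1
    have h3 : (xN D F k c *ᵥ (wN D F v *ᵥ E D F (D.neg k) - E D F (D.neg k))) (Sum.inl ⟨i, hi⟩) = 0 := by
      by_contra hne
      have := h2 _ hne
      simp only [ord] at this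
      omega
    have e : (xN D F k c * wN D F v) *ᵥ E D F (D.neg k) =
        xN D F k c *ᵥ (wN D F v *ᵥ E D F (D.neg k) - E D F (D.neg k)) +
          xN D F k c *ᵥ E D F (D.neg k) := by
      rw [← Matrix.mulVec_mulVec, ← Matrix.mulVec_add]
      congr 1
      abel
    rw [e, Pi.add_apply, h3, zero_add, xN_mulVec_E_neg V F hkn c]
    simp
  have hab : ∀ i < D.rank, (a - b) * ((cor D k i : ℤ) : F) = 0 := by
    intro i hi
    have h1 := key a w hw i hi
    have h2 := key b w' hw' i hi
    rw [h] at h1
    rw [sub_mul, ← h1, ← h2, sub_self]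
  exact sub_eq_zero.mp (eq_zero_of_cop C hkn hab)

theorem seg_unique (V : Valid0 D) (V1 : Valid1 D) (Tr : TriP D) (S : SepP D) (C : CopP D) :
    ∀ d k, D.nroots / 2 ≤ k → k + d = D.nroots → ∀ t t' : ℕ → F,
      wN D F (segW D k t) = wN D F (segW D k t') → ∀ r, k ≤ r → r < D.nroots → t r = t' r := by
  intro d
  induction d with
  | zero => intro k _ hkd t t' _ r h1 h2; omega
  | succ d ih =>
    intro k hk hkd t t' h r h1 h2
    have hkn : k < D.nroots := by omega
    rw [segW_succ hkn, segW_succ hkn, wN_cons, wN_cons] at h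
    simp only at h
    have hab := seg_cancel V Tr S C hk hkn (t k) (t' k) _ _
      (fun p hp => segW_mem hp) (fun p hp => segW_mem hp) h
    by_cases hrk : r = k
    · rw [hrk]; exact hab
    · have h' : wN D F (segW D (k + 1) t) = wN D F (segW D (k + 1) t') := by
        rw [hab] at h
        have := congrArg (fun M => xN D F k (-(t' k)) * M) h
        simp only [← Matrix.mul_assoc, xN_neg_mul V V1 hkn, Matrix.one_mul] at this
        exact this
      exact ih (k + 1) (by omega) (by omega) t t' h' r (by omega) h2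

end Unique

end Cfsg.Agent.Lib.Helper8.Chev
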