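import Cfsg.Agent.Lib.Helper8.ChevPar5
import Cfsg.Agent.Lib.Helper8.ChevU4
import Cfsg.Agent.Lib.Helper8.ChevX9

set_option autoImplicit false

/-! The unipotent radical `U_J` is normalised by the parabolic subgroup `P_J`. -/

namespace Cfsg.Agent.Lib.Helper8.Chev

open Cfsg.Lie Matrix Cfsg.Agent.Lib.Helper8.Weyl

section

variable {D : ChevalleyDatum}

theorem chainRoot_wt (V : Valid0 D) {a : ℕ → ℤ} (ha : IsWt D a) {r s i q : ℕ}
    (hr : r < D.nroots) (hs : s < D.nroots) (h : D.chainRoot r s i = some q) :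
    q < D.nroots ∧ ∃ k : ℕ, 1 ≤ k ∧ a q = a s + (k : ℤ) * a r := by
  obtain ⟨M, hM⟩ := chainRoot_spec h
  exact ⟨(chainEntry_tgt V hr hM).1, isWt_chain ha hr hs (List.mem_of_getElem? hM)⟩

/-- the coefficients outside `J` are non-negative -/
def OutNonneg (D : ChevalleyDatum) (J : Set ℕ) (x : ℕ) : Prop :=
  ∀ t < D.rank, t ∉ J → 0 ≤ rc D x t

/-- some coefficient outside `J` is positive -/
def OutPos (D : ChevalleyDatum) (J : Set ℕ) (x : ℕ) : Prop :=
  ∃ t < D.rank, t ∉ J ∧ 0 < rc D x t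

theorem out_chain (hD : D ∈ [chevG2, chevB2, chevD4, chevF4, chevE6, chevE7, chevE8])
    (J : Set ℕ) {r s i q : ℕ} (hr : r < D.nroots) (hs : s < D.nroots)
    (h : D.chainRoot r s i = some q) (hr0 : OutNonneg D J r) (hs0 : OutNonneg D J s)
    (hp : OutPos D J r ∨ OutPos D J s) : q < D.nroots ∧ OutNonneg D J q ∧ OutPos D J q := by
  have V := valid0_of_mem hD
  have hq := (chainRoot_wt V (rc_isWt hD (t := 0) (by
    have hD' := hD
    simp only [List.mem_cons, List.not_mem_nil, or_false] at hD'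
    rcases hD' with rfl | rfl | rfl | rfl | rfl | rfl | rfl <;> decide)) hr hs h).1
  refine ⟨hq, ?_, ?_⟩
  · intro t ht htJ
    obtain ⟨_, k, hk, e⟩ := chainRoot_wt V (rc_isWt hD ht) hr hs h
    rw [e]
    have h1 := hr0 t ht htJ
    have h2 := hs0 t ht htJ
    have : (0 : ℤ) ≤ (k : ℤ) * rc D r t := by positivity
    linarith
  · rcases hp with ⟨t, ht, htJ, hpos⟩ | ⟨t, ht, htJ, hpos⟩
    · refine ⟨t, ht, htJ, ?_⟩
      obtain ⟨_, k, hk, e⟩ := chainRoot_wt V (rc_isWt hD ht) hr hs h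
      rw [e]
      have h2 := hs0 t ht htJ
      have hk' : (1 : ℤ) ≤ (k : ℤ) := by exact_mod_cast hk
      nlinarith
    · refine ⟨t, ht, htJ, ?_⟩
      obtain ⟨_, k, hk, e⟩ := chainRoot_wt V (rc_isWt hD ht) hr hs h
      rw [e]
      have h1 := hr0 t ht htJ
      have : (0 : ℤ) ≤ (k : ℤ) * rc D r t := by positivity
      linarith

theorem cor_nonpos (J : ValidJ D) (P : PosP D) {r : ℕ} (hr : r < D.nroots)
    (hneg : r < D.nroots / 2) {k : ℕ} (hk : k < D.rank) : cor D r k ≤ 0 := by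
  have h1 := ((P r hr).2.mpr hneg).2
  have hsz := J.T.cor_size r hr
  have h2 : (D.coroot.getD r #[]).toList[k]? = some ((D.coroot.getD r #[]).getD k 0) :=
    toList_getElem?_of_lt' _ k 0 (by rw [hsz]; exact hk)
  exact h1 _ (List.mem_of_getElem? h2)

theorem outPos_imp (hD : D ∈ [chevG2, chevB2, chevD4, chevF4, chevE6, chevE7, chevE8])
    (J : Set ℕ) {q : ℕ} (hq : q < D.nroots) (hp : OutPos D J q) :
    D.IsPosRoot q ∧ ¬ D.InRootSub J q := by
  have J' := validJ_of_mem hD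
  have P := posP_of_mem hD
  obtain ⟨t, ht, htJ, hpos⟩ := hp
  have hc : 0 < cor D q t := (rc_sign hD hq ht).1.mp hpos
  refine ⟨?_, ?_⟩
  · apply (P q hq).1.mpr
    by_contra hn
    rw [not_le] at hn
    have := cor_nonpos J' P hq hn ht
    omega
  · intro h
    have := h.2 t ht htJ
    unfold cor at hc
    omega

theorem outNonneg_of_pos (hD : D ∈ [chevG2, chevB2, chevD4, chevF4, chevE6, chevE7, chevE8])
    (J : Set ℕ) {r : ℕ} (hr : D.IsPosRoot r) : OutNonneg D J r :=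
  fun _ ht _ => rc_nonneg hD hr ht

theorem outNonneg_of_sub (hD : D ∈ [chevG2, chevB2, chevD4, chevF4, chevE6, chevE7, chevE8])
    (J : Set ℕ) {r : ℕ} (hr : D.InRootSub J r) : OutNonneg D J r := by
  intro t ht htJ
  rw [(rc_eq_zero_iff hD hr.1 ht).mpr (hr.2 t ht htJ)]

theorem outPos_of (hD : D ∈ [chevG2, chevB2, chevD4, chevF4, chevE6, chevE7, chevE8])
    (J : Set ℕ) {r : ℕ} (hr : D.IsPosRoot r) (hJ : ¬ D.InRootSub J r) : OutPos D J r := by
  unfold ChevalleyDatum.InRootSub at hJ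
  push_neg at hJ
  obtain ⟨t0, ht0, ht0J, hne⟩ := hJ hr.1
  have hne' : cor D r t0 ≠ 0 := hne
  refine ⟨t0, ht0, ht0J, ?_⟩
  have h1 := rc_nonneg hD hr ht0
  have h2 : rc D r t0 ≠ 0 := fun h => hne' ((rc_eq_zero_iff hD hr.1 ht0).mp h)
  omega

/-- the roots of the commutator formula of a root of `Φ⁺ ∪ Φ_J` and a root of `Φ⁺ ∖ Φ_J` are
in `Φ⁺ ∖ Φ_J` -/
theorem commTerms_out (hD : D ∈ [chevG2, chevB2, chevD4, chevF4, chevE6, chevE7, chevE8])
    (J : Set ℕ) {s r : ℕ} (hs : s < D.nroots) (hr : r < D.nroots) (hs0 : OutNonneg D J s)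
    (hr0 : OutNonneg D J r) (hrp : OutPos D J r) {c : ℕ × ℤ × ℕ × ℕ}
    (hc : c ∈ D.commTerms s r) : D.IsPosRoot c.1 ∧ ¬ D.InRootSub J c.1 := by
  rcases commTerms_root hc with ⟨i, h⟩ | ⟨i, h⟩ | ⟨k, h1, h2⟩ | ⟨k, h1, h2⟩
  · obtain ⟨hq, _, hp⟩ := out_chain hD J hs hr h hs0 hr0 (Or.inr hrp)
    exact outPos_imp hD J hq hp
  · obtain ⟨hq, _, hp⟩ := out_chain hD J hr hs h hr0 hs0 (Or.inl hrp)
    exact outPos_imp hD J hq hp
  · obtain ⟨hk, hk0, hkp⟩ := out_chain hD J hs hr h1 hs0 hr0 (Or.inr hrp)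
    obtain ⟨hq, _, hp⟩ := out_chain hD J hk hr h2 hk0 hr0 (Or.inr hrp)
    exact outPos_imp hD J hq hp
  · obtain ⟨hk, hk0, hkp⟩ := out_chain hD J hr hs h1 hr0 hs0 (Or.inl hrp)
    obtain ⟨hq, _, hp⟩ := out_chain hD J hk hs h2 hk0 hs0 (Or.inl hkp)
    exact outPos_imp hD J hq hp

variable {F : Type*} [Field F]

/-- the generators of `U_J` -/
def radGens (D : ChevalleyDatum) (F : Type*) [Field F] (J : Set ℕ) : Set (GL D.Idx F) :=
  {g | ∃ (r : ℕ) (t : F), D.IsPosRoot r ∧ ¬ D.InRootSub J r ∧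
    (g : Matrix D.Idx D.Idx F) = D.x F r t}

theorem radical_eq_closure (J : Set ℕ) :
    D.unipotentRadical F J = Subgroup.closure (radGens D F J) := rfl

/-- a root element of `Φ⁺ ∪ Φ_J` conjugates the generators of `U_J` into `U_J` -/
theorem conj_mem_radical (hD : D ∈ [chevG2, chevB2, chevD4, chevF4, chevE6, chevE7, chevE8])
    (J : Set ℕ) {s : ℕ} (hs : D.IsPosRoot s ∨ D.InRootSub J s) (u : F) (gs : GL D.Idx F)
    (hgs : (gs : Matrix D.Idx D.Idx F) = D.x F s u) {g : GL D.Idx F} (hg : g ∈ radGens D F J) :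
    gs * g * gs⁻¹ ∈ Subgroup.closure (radGens D F J) := by
  have V := valid0_of_mem hD
  have V1 := valid1_of_mem hD
  have P := posP_of_mem hD
  obtain ⟨r, t, hr, hrJ, hgm⟩ := hg
  have hsl : s < D.nroots := hs.elim (fun h => h.1) (fun h => h.1)
  have hgsi := x_inv V V1 hsl u gs hgs
  by_cases h1 : r = s
  · -- the same root: they commute
    subst h1
    have : gs * g * gs⁻¹ = g := by
      apply Units.ext
      rw [Units.val_mul, Units.val_mul, hgs, hgm, hgsi, x_eq_xN, x_eq_xN, x_eq_xN,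
        xN_mul_xN F V V1 hsl, xN_mul_xN F V V1 hsl]
      congr 1
      ring
    rw [this]
    exact Subgroup.subset_closure ⟨r, t, hr, hrJ, hgm⟩
  by_cases h2 : r = D.neg s
  · exfalso
    rcases hs with hs | hs
    · have hp1 := (P s hs.1).1.mp hs
      have hp2 := (P r hr.1).1.mp hr
      rw [h2, V.neg_eq s hs.1] at hp2
      have := V.even
      omega
    · apply hrJ
      rw [h2]
      exact inRootSub_neg hD J hs
  · have hcf := comm_formula hD hsl hr.1 h1 h2 (-u) t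
    have hs0 : OutNonneg D J s :=
      hs.elim (fun h => outNonneg_of_pos hD J h) (fun h => outNonneg_of_sub hD J h)
    have hr0 := outNonneg_of_pos hD J hr
    have hrp := outPos_of hD J hr hrJ
    obtain ⟨gW, hgW, hmW⟩ := word_mem_closure (F := F) V V1 (S := radGens D F J)
      (Q := fun q => D.IsPosRoot q ∧ ¬ D.InRootSub J q)
      (fun q hq => hq.1.1) (fun q t' g' hq hg' => ⟨q, t', hq.1, hq.2, hg'⟩)
      (D.commWord F s r (-u) t) (by
        intro p hp
        unfold ChevalleyDatum.commWord at hp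
        rw [List.mem_map] at hp
        obtain ⟨c, hc, rfl⟩ := hp
        exact commTerms_out hD J hsl hr.1 hs0 hr0 hrp hc)
    have key : gs * g * gs⁻¹ = g * gW := by
      apply Units.ext
      rw [Units.val_mul, Units.val_mul, Units.val_mul, hgs, hgm, hgsi, hmW, Matrix.mul_assoc,
        hcf, wordMat_eq_wN, ← Matrix.mul_assoc, ← Matrix.mul_assoc, x_eq_xN D F s u,
        x_eq_xN D F s (-u), xN_mul_xN F V V1 hsl, add_neg_cancel, xN_zero V, Matrix.one_mul]
    rw [key]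
    exact mul_mem (Subgroup.subset_closure ⟨r, t, hr, hrJ, hgm⟩) hgW

/-- `P_J` normalises `U_J` -/
theorem parabolic_le_normalizer
    (hD : D ∈ [chevG2, chevB2, chevD4, chevF4, chevE6, chevE7, chevE8]) (J : Set ℕ) :
    D.parabolicSubgroup F J ≤
      Subgroup.normalizer (D.unipotentRadical F J : Set (GL D.Idx F)) := by
  have V := valid0_of_mem hD
  have V1 := valid1_of_mem hD
  have J' := validJ_of_mem hD
  have H := validH_of_mem hD
  rw [parabolic_eq hD J, radical_eq_closure]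
  refine sup_le ?_ ?_
  · intro h hh
    have key : ∀ h ∈ D.diagonalSubgroup F, ∀ g ∈ radGens D F J,
        h * g * h⁻¹ ∈ Subgroup.closure (radGens D F J) := by
      rintro h hh g ⟨r, t, hr, hrJ, hgm⟩
      obtain ⟨c, hc⟩ := torus_conj_x V (torusLike_of_mem J' V1 H hh) hr.1
      exact Subgroup.subset_closure ⟨r, _, hr, hrJ, hc t g hgm⟩
    apply mem_normalizer_closure_of (key h hh)
    intro g hg
    have := key h⁻¹ (inv_mem hh) g hg
    rwa [inv_inv] at this
  · rw [Subgroup.closure_le]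
    rintro gs ⟨s, u, hs, hgs⟩
    apply mem_normalizer_closure_of
    · intro g hg
      exact conj_mem_radical hD J hs u gs hgs hg
    · intro g hg
      have hsl : s < D.nroots := hs.elim (fun h => h.1) (fun h => h.1)
      have := conj_mem_radical hD J hs (-u) gs⁻¹ (x_inv V V1 hsl u gs hgs) hg
      rwa [inv_inv] at this

end

end Cfsg.Agent.Lib.Helper8.Chev
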