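import Cfsg.Agent.Lib.Helper8.ChevCz7

set_option autoImplicit false

namespace Cfsg.Agent.Lib.Helper8.Chev

open Cfsg.Lie Matrix

/-! ### The leading term of a conjugate of a root element under `U` -/

section Ring

variable {D : ChevalleyDatum} {R : Type*} [CommRing R]

/-- the Cartan part of `w e_s`, for a word `w` of root elements of weight at least `m`, when
`-s` has weight less than `2m` -/
theorem cartan_part_word' (V : Valid0 D) {f : ℕ → ℤ} (hf : IsWt D f) {m : ℤ} (hm : 0 < m)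
    (w : List (ℕ × R)) (hw : ∀ p ∈ w, p.1 < D.nroots ∧ m ≤ f p.1) {s : ℕ} (hs : s < D.nroots)
    (hlt : f (D.neg s) < 2 * m) (i : Fin D.rank) :
    (wN D R w *ᵥ E D R s) (Sum.inl i) =
      sumAt (D.neg s) w * ((cor D (D.neg s) i.val : ℤ) : R) := by
  induction w with
  | nil => simp [sumAt_nil]
  | cons p w ih =>
    have hp := hw p List.mem_cons_self
    have hw' : ∀ q ∈ w, q.1 < D.nroots ∧ m ≤ f q.1 := fun q hq => hw q (List.mem_cons_of_mem _ hq)
    have ih' := ih hw'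
    have h1 := xN_sub_one_mem_RaisK (R := R) V hf hm hp.1 hp.2 p.2
    have h2 := wN_sub_one_mem_RaisK (R := R) V hf hm w hw'
    have h3 := RaisK_mul h1 h2
    have hz : ((xN D R p.1 p.2 - 1) * (wN D R w - 1)) (Sum.inl i) (Sum.inr ⟨s, hs⟩) = 0 := by
      by_contra hne
      have := h3 _ _ hne
      simp only [wtI, Sum.elim_inl, Sum.elim_inr] at this
      rw [hf.1 s hs] at hlt
      linarith
    have e : wN D R (p :: w) = (xN D R p.1 p.2 - 1) * (wN D R w - 1) + xN D R p.1 p.2 +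
        wN D R w - 1 := by
      rw [wN_cons]
      noncomm_ring
    rw [e, Matrix.sub_mulVec, Matrix.add_mulVec, Matrix.add_mulVec, Matrix.one_mulVec]
    simp only [Pi.add_apply, Pi.sub_apply, E_apply_inl, sub_zero]
    rw [mulVec_E _ hs, hz, zero_add, ih', xN_mulVec_E_inl V hp.1 p.2 hs i, sumAt_cons]
    by_cases h5 : s = D.neg p.1
    · have h6 : p.1 = D.neg s := by rw [h5, V.neg_neg hp.1]
      rw [if_pos h5, if_pos h6, ← h6]
      ring
    · have h6 : ¬ p.1 = D.neg s := by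
        intro h
        apply h5
        rw [h, V.neg_neg hs]
      rw [if_neg h5, if_neg h6]
      ring

end Ring

section Field

variable {D : ChevalleyDatum} {F : Type*} [Field F]

theorem not_inRootSub_empty (hD : D ∈ [chevG2, chevB2, chevD4, chevF4, chevE6, chevE7, chevE8])
    {r : ℕ} (hr : r < D.nroots) : ¬ D.InRootSub ∅ r := by
  have C := copP_of_mem hD
  intro h
  obtain ⟨i, hi, j, hj, hg⟩ := C r hr
  have h1 : cor D r i = 0 := h.2 i hi (by simp)
  have h2 : cor D r j = 0 := h.2 j hj (by simp)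
  rw [h1, h2] at hg
  simp at hg

/-- the height of a root -/
noncomputable def htR (D : ChevalleyDatum) (s : ℕ) : ℤ := htJ D ∅ s

theorem htR_isWt (hD : D ∈ [chevG2, chevB2, chevD4, chevF4, chevE6, chevE7, chevE8]) :
    IsWt D (htR D) := htJ_isWt hD ∅

theorem htR_pos (hD : D ∈ [chevG2, chevB2, chevD4, chevF4, chevE6, chevE7, chevE8]) {r : ℕ}
    (hr : D.IsPosRoot r) : 0 < htR D r := htJ_pos hD ∅ hr (not_inRootSub_empty hD hr.1)

/-- the positive roots of height at least `m` -/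
noncomputable def RlOf (D : ChevalleyDatum) (m : ℤ) : List ℕ :=
  (List.range D.nroots).filter fun p => decide (D.IsPosRoot p ∧ m ≤ htR D p)

theorem mem_RlOf {m : ℤ} {p : ℕ} : p ∈ RlOf D m ↔ D.IsPosRoot p ∧ m ≤ htR D p := by
  unfold RlOf
  rw [List.mem_filter, List.mem_range, decide_eq_true_eq]
  exact ⟨fun h => h.2, fun h => ⟨h.1.1, h⟩⟩

/-- the weight of a term of the commutator formula of two positive roots exceeds both -/
theorem commTerms_htR (hD : D ∈ [chevG2, chevB2, chevD4, chevF4, chevE6, chevE7, chevE8])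
    {q p : ℕ} (hq : D.IsPosRoot q) (hp : D.IsPosRoot p) {c : ℕ × ℤ × ℕ × ℕ}
    (hc : c ∈ D.commTerms q p) : D.IsPosRoot c.1 ∧ htR D p < htR D c.1 := by
  have V := valid0_of_mem hD
  have hf := htR_isWt hD
  have hq0 := htR_pos hD hq
  have hp0 := htR_pos hD hp
  have hP := posP_of_mem hD
  have J := validJ_of_mem hD
  have hpos : ∀ x, D.IsPosRoot x → OutNonneg D ∅ x ∧ OutPos D ∅ x := by
    intro x hx
    refine ⟨fun t ht _ => rc_nonneg hD hx ht, ?_⟩
    have hne := not_inRootSub_empty hD hx.1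
    unfold ChevalleyDatum.InRootSub at hne
    push Not at hne
    obtain ⟨t0, ht0, _, hne⟩ := hne hx.1
    refine ⟨t0, ht0, by simp, ?_⟩
    have h1 := rc_nonneg hD hx ht0
    have h2 : rc D x t0 ≠ 0 := fun h => hne ((rc_eq_zero_iff hD hx.1 ht0).mp h)
    omega
  refine ⟨(commTerms_out hD ∅ hq.1 hp.1 (hpos q hq).1 (hpos p hp).1 (hpos p hp).2 hc).1, ?_⟩
  rcases commTerms_root hc with ⟨i, h⟩ | ⟨i, h⟩ | ⟨k, h1, h2⟩ | ⟨k, h1, h2⟩
  · obtain ⟨_, k, hk, e⟩ := chainRoot_wt V hf hq.1 hp.1 h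
    rw [e]
    have : (1 : ℤ) ≤ (k : ℤ) := by exact_mod_cast hk
    nlinarith
  · obtain ⟨_, k, hk, e⟩ := chainRoot_wt V hf hp.1 hq.1 h
    rw [e]
    have : (1 : ℤ) ≤ (k : ℤ) := by exact_mod_cast hk
    nlinarith
  · obtain ⟨hk', k1, hk1, e1⟩ := chainRoot_wt V hf hq.1 hp.1 h1
    obtain ⟨_, k2, hk2, e2⟩ := chainRoot_wt V hf hk' hp.1 h2
    have a1 : (1 : ℤ) ≤ (k1 : ℤ) := by exact_mod_cast hk1
    have a2 : (1 : ℤ) ≤ (k2 : ℤ) := by exact_mod_cast hk2
    have b1 : 0 < (k1 : ℤ) * htR D q := mul_pos (by linarith) hq0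
    have hk0 : 0 < htR D k := by rw [e1]; linarith
    have b2 : 0 < (k2 : ℤ) * htR D k := mul_pos (by linarith) hk0
    rw [e2]
    linarith
  · obtain ⟨hk', k1, hk1, e1⟩ := chainRoot_wt V hf hp.1 hq.1 h1
    obtain ⟨_, k2, hk2, e2⟩ := chainRoot_wt V hf hk' hq.1 h2
    have a1 : (1 : ℤ) ≤ (k1 : ℤ) := by exact_mod_cast hk1
    have a2 : (1 : ℤ) ≤ (k2 : ℤ) := by exact_mod_cast hk2
    have b1 : htR D p ≤ (k1 : ℤ) * htR D p := by nlinarith
    have hk0 : htR D p < htR D k := by rw [e1]; linarith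
    have b2 : htR D k ≤ (k2 : ℤ) * htR D k := by nlinarith
    rw [e2]
    linarith

theorem stabR_htR (hD : D ∈ [chevG2, chevB2, chevD4, chevF4, chevE6, chevE7, chevE8]) {r : ℕ} :
    StabR D F (fun _ => True) (RlOf D (htR D r)) [r] := by
  intro q _ hq p hp _ c hc
  rw [mem_RlOf] at hp
  obtain ⟨h1, h2⟩ := commTerms_htR hD hq hp.1 hc
  refine Or.inr ⟨mem_RlOf.mpr ⟨h1, by linarith [hp.2]⟩, ?_⟩
  rw [List.mem_singleton]
  intro h
  rw [h] at h2
  linarith [hp.2]

/-- the leading term: the Cartan part of `(u⁻¹ x_r(t) u) e_{-r}` is `t` times the coroot of `r` -/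
theorem conj_pos_cartan_part (hD : D ∈ [chevG2, chevB2, chevD4, chevF4, chevE6, chevE7, chevE8])
    {u : GL D.Idx F} (hu : u ∈ D.posUnipotent F) {r : ℕ} (hr : D.IsPosRoot r) (t : F)
    {y : GL D.Idx F} (hy : (u : Matrix D.Idx D.Idx F) * (y : Matrix D.Idx D.Idx F) =
      D.x F r t * (u : Matrix D.Idx D.Idx F)) (i : Fin D.rank) :
    ((y : Matrix D.Idx D.Idx F) *ᵥ E D F (D.neg r)) (Sum.inl i) =
      t * ((cor D r i.val : ℤ) : F) := by
  have V := valid0_of_mem hD
  have hf := htR_isWt hD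
  have hm := htR_pos hD hr
  have hR : ∀ p ∈ RlOf D (htR D r), D.IsPosRoot p := fun p hp => (mem_RlOf.mp hp).1
  obtain ⟨w', hw', e, hs⟩ := pos_conj_word hD hR (stabR_htR (F := F) hD (r := r)) hu [(r, t)] (by
    intro p hp
    rw [List.mem_singleton] at hp
    subst hp
    exact mem_RlOf.mpr ⟨hr, le_refl _⟩)
  have hyw : (y : Matrix D.Idx D.Idx F) = wN D F w' := by
    have h1 : (u : Matrix D.Idx D.Idx F) * (y : Matrix D.Idx D.Idx F) =
        (u : Matrix D.Idx D.Idx F) * wN D F w' := by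
      rw [hy, ← e, wN_cons, wN_nil, Matrix.mul_one, x_eq_xN]
    have h2 := congrArg (fun M => ((u⁻¹ : GL D.Idx F) : Matrix D.Idx D.Idx F) * M) h1
    simp only [← Matrix.mul_assoc] at h2
    rw [← Units.val_mul, inv_mul_cancel, Units.val_one, Matrix.one_mul, Matrix.one_mul] at h2
    exact h2
  rw [hyw, cartan_part_word' V hf hm w'
    (fun p hp => ⟨(hR p.1 (hw' p hp)).1, (mem_RlOf.mp (hw' p hp)).2⟩)
    (V.neg_lt hr.1) (by rw [V.neg_neg hr.1]; linarith) i, V.neg_neg hr.1, hs r (by simp)]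
  simp [sumAt_cons, sumAt_nil]

end Field

end Cfsg.Agent.Lib.Helper8.Chev
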