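import Cfsg.Agent.Lib.Helper8.ChevPc1

set_option autoImplicit false

namespace Cfsg.Agent.Lib.Helper8.Chev

open Cfsg.Lie Matrix

/-! ### Elements of `G` centralising root elements of `U_J` -/

section Field

variable {D : ChevalleyDatum} {F : Type*} [Field F]

theorem neg_inj_of (V : Valid0 D) {r s : ℕ} (hr : r < D.nroots) (hs : s < D.nroots)
    (h : D.neg r = D.neg s) : r = s := by
  rw [← V.neg_neg hr, h, V.neg_neg hs]

/-- no element `n_i b`, `b ∈ B`, centralises a positive root element `x_r(1)` with `w_i r ≠ r` -/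
theorem not_comm_nG_mul (hD : D ∈ [chevG2, chevB2, chevD4, chevF4, chevE6, chevE7, chevE8])
    {i : ℕ} (hi : i < D.rank) {b : GL D.Idx F} (hb : b ∈ D.borelSubgroup F) {r : ℕ}
    (hr : D.IsPosRoot r) (hir : D.reflectRoot i r ≠ r) {X : GL D.Idx F}
    (hX : (X : Matrix D.Idx D.Idx F) = D.x F r 1)
    (hc : nG D F i * b * X = X * (nG D F i * b)) : False := by
  have V := valid0_of_mem hD
  have V1 := valid1_of_mem hD
  have J := validJ_of_mem hD
  have H := validH_of_mem hD
  have C := copP_of_mem hD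
  have hI := checkInv_of_mem hD
  obtain ⟨u, hu, h, hh, rfl⟩ := borel_decomp J V1 H hb
  obtain ⟨χ, hχ⟩ := torus_conj_x V (torusLike_of_mem J V1 H hh) hr.1
  set y : GL D.Idx F := u * h * X * (u * h)⁻¹ with hy
  have hy1 : ((u⁻¹ : GL D.Idx F) : Matrix D.Idx D.Idx F) * (y : Matrix D.Idx D.Idx F) =
      D.x F r (χ * 1) * ((u⁻¹ : GL D.Idx F) : Matrix D.Idx D.Idx F) := by
    rw [← hχ 1 X hX, ← Units.val_mul, ← Units.val_mul, hy]
    congr 1
    group
  have hLT := conj_pos_cartan_part hD (inv_mem hu) hr (χ * 1) hy1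
  -- the other expression for `y`
  have hy2 : nG D F i * y = X * nG D F i := by
    rw [hy]
    calc nG D F i * (u * h * X * (u * h)⁻¹) = (nG D F i * (u * h) * X) * (u * h)⁻¹ := by group
      _ = X * (nG D F i * (u * h)) * (u * h)⁻¹ := by rw [hc]
      _ = X * nG D F i := by group
  set s := D.reflectRoot i r with hs
  have hsl : s < D.nroots := ((nS_props J H.nS hi).2.2 r hr.1).1
  have hinv : D.reflectRoot i s = r := refl_invol J hI hi hr.1
  have hη := ((nS_props J H.nS hi).2.2 s hsl).2.1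
  have hconj := nS_conj J V1 H.nS hi hsl (R := F) ((etaF D i s : ℤ) : F)
  rw [hinv] at hconj
  have hηη : ((etaF D i s : ℤ) : F) * ((etaF D i s : ℤ) : F) = 1 := by
    rcases hη with h | h <;> rw [h] <;> simp
  rw [hηη, ← nMat_one_eq, ← coe_nG J V1 hi, ← x_eq_xN D F r 1, ← hX, ← Units.val_mul] at hconj
  have hym : (y : Matrix D.Idx D.Idx F) = xN D F s ((etaF D i s : ℤ) : F) := by
    have h1 : ((nG D F i : GL D.Idx F) : Matrix D.Idx D.Idx F) * (y : Matrix D.Idx D.Idx F) =
        ((nG D F i : GL D.Idx F) : Matrix D.Idx D.Idx F) * xN D F s ((etaF D i s : ℤ) : F) := by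
      rw [hconj, ← Units.val_mul, hy2]
    have h2 := congrArg (fun M => (((nG D F i)⁻¹ : GL D.Idx F) : Matrix D.Idx D.Idx F) * M) h1
    simp only [← Matrix.mul_assoc] at h2
    rw [← Units.val_mul, inv_mul_cancel, Units.val_one, Matrix.one_mul, Matrix.one_mul] at h2
    exact h2
  have hzero : ∀ i' < D.rank, (χ : F) * ((cor D r i' : ℤ) : F) = 0 := by
    intro i' hi'
    have h1 := hLT ⟨i', hi'⟩
    rw [hym, xN_mulVec_E_inl V hsl _ (V.neg_lt hr.1), if_neg (fun h =>
      hir (neg_inj_of V hr.1 hsl h).symm), mul_one] at h1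
    exact h1.symm
  exact χ.ne_zero (eq_zero_of_cop C hr.1 hzero)

/-- if `u h` centralises the positive root element `x_r(1)` then so does `h` -/
theorem torus_comm_of_comm (hD : D ∈ [chevG2, chevB2, chevD4, chevF4, chevE6, chevE7, chevE8])
    {u h : GL D.Idx F} (hu : u ∈ D.posUnipotent F) (hh : h ∈ D.diagonalSubgroup F) {r : ℕ}
    (hr : D.IsPosRoot r) {X : GL D.Idx F} (hX : (X : Matrix D.Idx D.Idx F) = D.x F r 1)
    (hc : u * h * X = X * (u * h)) : h * X = X * h := by
  have V := valid0_of_mem hD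
  have V1 := valid1_of_mem hD
  have J := validJ_of_mem hD
  have H := validH_of_mem hD
  have C := copP_of_mem hD
  obtain ⟨χ, hχ⟩ := torus_conj_x V (torusLike_of_mem J V1 H hh) hr.1
  have hy1 : ((u⁻¹ : GL D.Idx F) : Matrix D.Idx D.Idx F) * (X : Matrix D.Idx D.Idx F) =
      D.x F r (χ * 1) * ((u⁻¹ : GL D.Idx F) : Matrix D.Idx D.Idx F) := by
    rw [← hχ 1 X hX, ← Units.val_mul, ← Units.val_mul]
    congr 1
    calc u⁻¹ * X = u⁻¹ * (X * (u * h)) * (u * h)⁻¹ := by group
      _ = u⁻¹ * (u * h * X) * (u * h)⁻¹ := by rw [hc]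
      _ = h * X * h⁻¹ * u⁻¹ := by group
  have hLT := conj_pos_cartan_part hD (inv_mem hu) hr (χ * 1) hy1
  have hone : (χ : F) - 1 = 0 := by
    apply eq_zero_of_cop C hr.1
    intro i' hi'
    have h1 := hLT ⟨i', hi'⟩
    rw [hX, x_eq_xN, xN_mulVec_E_inl V hr.1 _ (V.neg_lt hr.1), if_pos rfl, mul_one] at h1
    rw [sub_mul, ← h1]
    ring
  have hχ1 : (χ : F) = 1 := sub_eq_zero.mp hone
  rw [← mul_inv_eq_iff_eq_mul]
  apply Units.ext
  rw [hχ 1 X hX, hχ1, mul_one, hX]

end Field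

end Cfsg.Agent.Lib.Helper8.Chev
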