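import Cfsg.Agent.Lib.Helper8.ChevPc2

set_option autoImplicit false

namespace Cfsg.Agent.Lib.Helper8.Chev

open Cfsg.Lie Matrix

/-! ### The centraliser of `U_J` in `P_J` lies in `U` -/

section Witness

set_option maxRecDepth 1000000 in
/-- for every fundamental reflection there is a positive root of full support that it moves -/
theorem wit_refl {D : ChevalleyDatum}
    (hD : D ∈ [chevG2, chevB2, chevD4, chevF4, chevE6, chevE7, chevE8]) :
    ∀ i < D.rank, ∃ r < D.nroots, D.nroots / 2 ≤ r ∧ (∀ t < D.rank, cor D r t ≠ 0) ∧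
      D.reflectRoot i r ≠ r := by
  simp only [List.mem_cons, List.not_mem_nil, or_false] at hD
  rcases hD with rfl | rfl | rfl | rfl | rfl | rfl | rfl <;> decide +kernel

set_option maxRecDepth 1000000 in
/-- for fundamental roots `p_{i0} ≠ p_j` there is a positive root `r` involving `p_{i0}` with
`r + p_j` a root -/
theorem wit_chain {D : ChevalleyDatum}
    (hD : D ∈ [chevG2, chevB2, chevD4, chevF4, chevE6, chevE7, chevE8]) :
    ∀ i0 < D.rank, ∀ j < D.rank, i0 ≠ j → ∃ r < D.nroots, D.nroots / 2 ≤ r ∧ cor D r i0 ≠ 0 ∧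
      (D.chainRoot (D.simple j) r 1).isSome = true := by
  simp only [List.mem_cons, List.not_mem_nil, or_false] at hD
  rcases hD with rfl | rfl | rfl | rfl | rfl | rfl | rfl <;> decide +kernel

end Witness

section Torus

variable {D : ChevalleyDatum} {F : Type*} [Field F]

theorem chainRoot_one_wt {a : ℕ → ℤ} (ha : IsWt D a) {r s q : ℕ} (hr : r < D.nroots)
    (hs : s < D.nroots) (h : D.chainRoot r s 1 = some q) : a q = a s + a r := by
  obtain ⟨M, hM⟩ := chainRoot_spec h
  have hz : ((q, M), 0) ∈ (D.chainEntry r s).zipIdx := by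
    rw [List.mem_zipIdx_iff_getElem?]
    exact hM
  have := ha.2 r hr s hs ((q, M), 0) hz
  simpa using this

theorem chiT_add_of (c : Fin D.rank → Fˣ) {q s r : ℕ}
    (h : ∀ i < D.rank, D.cartan i q = D.cartan i s + D.cartan i r) :
    chiT D c q = chiT D c s * chiT D c r := by
  unfold chiT
  rw [← Finset.prod_mul_distrib]
  apply Finset.prod_congr rfl
  intro i _
  rw [h i.val i.isLt, _root_.zpow_add]

/-- a torus element `h(χ)` centralising `x_r(1)` has `χ(r) = 1` -/
theorem chiT_eq_one_of_comm (hD : D ∈ [chevG2, chevB2, chevD4, chevF4, chevE6, chevE7, chevE8])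
    (c : Fin D.rank → Fˣ) {r : ℕ} (hr : r < D.nroots) {X : GL D.Idx F}
    (hX : (X : Matrix D.Idx D.Idx F) = D.x F r 1)
    (hc : torMap D F c * X = X * torMap D F c) : chiT D c r = 1 := by
  have V := valid0_of_mem hD
  have J := validJ_of_mem hD
  have H := validH_of_mem hD
  have h1 := congrArg (fun g : GL D.Idx F => (g : Matrix D.Idx D.Idx F)) hc
  simp only [Units.val_mul] at h1
  rw [torMap_apply, coe_diagU, hX, x_eq_xN, diagC_mul_xN V (isChar_chiT' J H c) hr, mul_one,
    ← coe_diagU] at h1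
  have h2 := congrArg (fun M => M * (((diagU D (chiT D c))⁻¹ : GL D.Idx F) :
    Matrix D.Idx D.Idx F)) h1
  simp only [Matrix.mul_assoc] at h2
  rw [← Units.val_mul, mul_inv_cancel, Units.val_one, Matrix.mul_one, Matrix.mul_one,
    ← x_eq_xN, ← x_eq_xN] at h2
  exact Units.ext (xN_inj_param hD hr h2)

/-- a torus element centralising the root elements `x_r(1)`, `r ∈ Φ⁺ ∖ Φ_J`, `J` proper, is
trivial -/
theorem torus_eq_one_of_comm (hD : D ∈ [chevG2, chevB2, chevD4, chevF4, chevE6, chevE7, chevE8])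
    (J : Set ℕ) (hJ : ∃ i, i < D.rank ∧ i ∉ J) {h : GL D.Idx F}
    (hh : h ∈ D.diagonalSubgroup F)
    (hc : ∀ r, D.IsPosRoot r → ¬ D.InRootSub J r → ∀ X : GL D.Idx F,
      (X : Matrix D.Idx D.Idx F) = D.x F r 1 → h * X = X * h) : h = 1 := by
  have V := valid0_of_mem hD
  have V1 := valid1_of_mem hD
  have J' := validJ_of_mem hD
  have H := validH_of_mem hD
  have P := posP_of_mem hD
  rw [diagonal_eq_range J' V1 H] at hh
  obtain ⟨c, rfl⟩ := hh
  obtain ⟨i0, hi0, hi0J⟩ := hJ
  -- the character is trivial on `Φ⁺ ∖ Φ_J`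
  have key : ∀ r, D.IsPosRoot r → ¬ D.InRootSub J r → chiT D c r = 1 := by
    intro r hr hrJ
    obtain ⟨X, hX⟩ := exists_unit_x (F := F) V V1 hr.1 1
    exact chiT_eq_one_of_comm hD c hr.1 hX (hc r hr hrJ X hX)
  -- hence on the fundamental roots
  have hs : ∀ j : Fin D.rank, chiT D c (D.simple j.val) = 1 := by
    intro j
    by_cases hjJ : j.val ∈ J
    · have hne : i0 ≠ j.val := fun h => hi0J (h ▸ hjJ)
      obtain ⟨r, hr, hpos, hcor, hsome⟩ := wit_chain hD i0 hi0 j.val j.isLt hne
      obtain ⟨q, hq⟩ := Option.isSome_iff_exists.mp hsome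
      have hrP : D.IsPosRoot r := (P r hr).1.mpr hpos
      have hrJ : ¬ D.InRootSub J r := fun h => hcor (h.2 i0 hi0 hi0J)
      have hsl : D.simple j.val < D.nroots := (J'.S j.val j.isLt).1
      have hsP : D.IsPosRoot (D.simple j.val) := isPosRoot_simple hD j.isLt
      obtain ⟨hql, _, hqp⟩ := out_chain hD J hsl hr hq (outNonneg_of_pos hD J hsP)
        (outNonneg_of_pos hD J hrP) (Or.inr (outPos_of hD J hrP hrJ))
      obtain ⟨hqP, hqJ⟩ := outPos_imp hD J hql hqp
      have hadd := chiT_add_of c (q := q) (s := r) (r := D.simple j.val) (fun i hi =>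
        chainRoot_one_wt (isWt_of_check J'.V J'.T H.hsz H.wt hi) hsl hr hq)
      rw [key q hqP hqJ, key r hrP hrJ, one_mul] at hadd
      exact hadd.symm
    · apply key _ (isPosRoot_simple hD j.isLt)
      intro h
      have := h.2 j.val j.isLt hjJ
      have h2 := (J'.S j.val j.isLt).2 j.val j.isLt
      unfold cor at h2
      rw [h2, if_pos rfl] at this
      exact one_ne_zero this
  have hker : c ∈ (torMap D F).ker := by
    rw [ker_torMap_eq J' (rootCoord_of_mem hD), MonoidHom.mem_ker]
    funext j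
    rw [torHom_apply, Pi.one_apply]
    exact hs j
  exact MonoidHom.mem_ker.mp hker

end Torus

end Cfsg.Agent.Lib.Helper8.Chev
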