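import Cfsg.Agent.Lib.Helper8.ChevPc3

set_option autoImplicit false

namespace Cfsg.Agent.Lib.Helper8.Chev

open Cfsg.Lie Matrix

/-! ### `C_{P_J}(U_J) ≤ U` for a proper parabolic subgroup `P_J` -/

section Field

variable {D : ChevalleyDatum} {F : Type*} [Field F]

theorem parabolic_le_group (hD : D ∈ [chevG2, chevB2, chevD4, chevF4, chevE6, chevE7, chevE8])
    (J : Set ℕ) : D.parabolicSubgroup F J ≤ D.group F := by
  rw [← normalizer_inf_group hD J]
  exact inf_le_right

/-- conjugation by `P_J` preserves `C_{P_J}(U_J)` -/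
theorem conj_mem_cent_radical (hD : D ∈ [chevG2, chevB2, chevD4, chevF4, chevE6, chevE7, chevE8])
    (J : Set ℕ) {g c : GL D.Idx F} (hg : g ∈ D.parabolicSubgroup F J)
    (hc : c ∈ D.parabolicSubgroup F J ⊓
      Subgroup.centralizer (D.unipotentRadical F J : Set (GL D.Idx F))) :
    g * c * g⁻¹ ∈ D.parabolicSubgroup F J ⊓
      Subgroup.centralizer (D.unipotentRadical F J : Set (GL D.Idx F)) := by
  obtain ⟨hc1, hc2⟩ := Subgroup.mem_inf.mp hc
  refine Subgroup.mem_inf.mpr ⟨mul_mem (mul_mem hg hc1) (inv_mem hg), ?_⟩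
  rw [Subgroup.mem_centralizer_iff]
  intro x hx
  have hgi : g⁻¹ ∈ Subgroup.normalizer (D.unipotentRadical F J : Set (GL D.Idx F)) :=
    parabolic_le_normalizer hD J (inv_mem hg)
  have hx' : g⁻¹ * x * g⁻¹⁻¹ ∈ D.unipotentRadical F J :=
    (Subgroup.mem_normalizer_iff.mp hgi x).mp hx
  have h1 := (Subgroup.mem_centralizer_iff.mp hc2) _ hx'
  calc x * (g * c * g⁻¹) = g * ((g⁻¹ * x * g⁻¹⁻¹) * c) * g⁻¹ := by group
    _ = g * (c * (g⁻¹ * x * g⁻¹⁻¹)) * g⁻¹ := by rw [h1]
    _ = g * c * g⁻¹ * x := by group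

/-- the centraliser of `U_J` in a proper parabolic subgroup `P_J` lies in `U` -/
theorem cent_radical_le_pos (hD : D ∈ [chevG2, chevB2, chevD4, chevF4, chevE6, chevE7, chevE8])
    (J : Set ℕ) (hJ : ∃ i, i < D.rank ∧ i ∉ J) :
    D.parabolicSubgroup F J ⊓
      Subgroup.centralizer (D.unipotentRadical F J : Set (GL D.Idx F)) ≤ D.posUnipotent F := by
  have V := valid0_of_mem hD
  have V1 := valid1_of_mem hD
  have J' := validJ_of_mem hD
  have H := validH_of_mem hD
  have P := posP_of_mem hD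
  set C : Subgroup (GL D.Idx F) := D.parabolicSubgroup F J ⊓
      Subgroup.centralizer (D.unipotentRadical F J : Set (GL D.Idx F)) with hC
  -- `B` normalises `C`
  have hN : D.borelSubgroup F ≤ Subgroup.normalizer (C : Set (GL D.Idx F)) := by
    intro g hg
    have hgP : g ∈ D.parabolicSubgroup F J := borel_le_parabolic J hg
    rw [Subgroup.mem_normalizer_iff]
    intro c
    constructor
    · intro hc
      exact conj_mem_cent_radical hD J hgP hc
    · intro hc
      have := conj_mem_cent_radical hD J (inv_mem hgP) hc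
      have e : g⁻¹ * (g * c * g⁻¹) * g⁻¹⁻¹ = c := by group
      rw [e] at this
      exact this
  have hset := Subgroup.coe_mul_of_right_le_normalizer_left C (D.borelSubgroup F) hN
  set M : Subgroup (GL D.Idx F) := C ⊔ D.borelSubgroup F with hMdef
  have hB : D.borelSubgroup F ≤ M := le_sup_right
  have hM : M ≤ D.group F :=
    sup_le (le_trans (inf_le_left : C ≤ _) (parabolic_le_group hD J)) (borel_le_group V V1)
  -- no fundamental reflection lies in `M`
  have hno : ∀ i < D.rank, nG D F i ∉ M := by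
    intro i hi hmem
    have hmem' : nG D F i ∈ ((C ⊔ D.borelSubgroup F : Subgroup (GL D.Idx F)) :
        Set (GL D.Idx F)) := hmem
    rw [hset, Set.mem_mul] at hmem'
    obtain ⟨c, hc, b, hb, e⟩ := hmem'
    obtain ⟨r, hr, hpos, hfull, hrefl⟩ := wit_refl hD i hi
    obtain ⟨i0, hi0, hi0J⟩ := hJ
    have hrP : D.IsPosRoot r := (P r hr).1.mpr hpos
    have hrJ : ¬ D.InRootSub J r := fun h => hfull i0 hi0 (h.2 i0 hi0 hi0J)
    obtain ⟨X, hX⟩ := exists_unit_x (F := F) V V1 hr 1
    have hXU : X ∈ D.unipotentRadical F J := Subgroup.subset_closure ⟨r, 1, hrP, hrJ, hX⟩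
    have hc' : c ∈ C := hc
    have hcX := (Subgroup.mem_centralizer_iff.mp (Subgroup.mem_inf.mp hc').2) X hXU
    have hce : c = nG D F i * b⁻¹ := by rw [← e]; group
    rw [hce] at hcX
    exact not_comm_nG_mul hD hi (inv_mem hb) hrP hrefl hX hcX.symm
  have hMB : M ≤ D.borelSubgroup F := by
    have e := overgroup_eq_parabolic hD M hB hM
    refine le_trans e.le ?_
    unfold ChevalleyDatum.parabolicSubgroup
    refine sup_le le_rfl ?_
    rw [Subgroup.closure_le]
    rintro g ⟨j, hjM, hj, _⟩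
    exact absurd hjM (hno j hj)
  intro c hc
  have hcB : c ∈ D.borelSubgroup F := hMB ((le_sup_left : C ≤ M) hc)
  obtain ⟨u, hu, h, hh, rfl⟩ := borel_decomp J' V1 H hcB
  have hh1 : h = 1 := torus_eq_one_of_comm hD J hJ hh (fun r hr hrJ X hX => by
    have hXU : X ∈ D.unipotentRadical F J := Subgroup.subset_closure ⟨r, 1, hr, hrJ, hX⟩
    have := (Subgroup.mem_centralizer_iff.mp (Subgroup.mem_inf.mp hc).2) X hXU
    exact torus_comm_of_comm hD hu hh hr hX this.symm)
  rw [hh1, mul_one]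
  exact hu

end Field

end Cfsg.Agent.Lib.Helper8.Chev
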