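import Cfsg.Agent.Lib.Helper8.ChevBN5
import Mathlib.GroupTheory.Commutator.Basic

set_option autoImplicit false

namespace Cfsg.Agent.Lib.Helper8.Chev

open Cfsg.Lie Matrix
open scoped commutatorElement

section

variable {D : ChevalleyDatum} {F : Type*} [Field F]

theorem word_mem_subgroup (V : Valid0 D) (V1 : Valid1 D) (K : Subgroup (GL D.Idx F))
    (w : List (ℕ × F))
    (hw : ∀ p ∈ w, p.1 < D.nroots ∧ ∀ (v : F) (g : GL D.Idx F),
      (g : Matrix D.Idx D.Idx F) = D.x F p.1 v → g ∈ K) :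
    ∃ g ∈ K, (g : Matrix D.Idx D.Idx F) = wN D F w := by
  induction w with
  | nil => exact ⟨1, one_mem _, rfl⟩
  | cons p w ih =>
    obtain ⟨g', hg', hm'⟩ := ih (fun q hq => hw q (List.mem_cons_of_mem _ hq))
    obtain ⟨hp, hK⟩ := hw p List.mem_cons_self
    obtain ⟨gx, hgx⟩ := exists_unit_x V V1 hp p.2
    refine ⟨gx * g', mul_mem (hK p.2 gx hgx) hg', ?_⟩
    rw [Units.val_mul, hgx, hm', wN_cons, x_eq_xN]

/-- a root subgroup on which a torus element acts by `λ^{±1}` lies in the derived subgroup -/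
theorem x_mem_comm_of_torus (hD : D ∈ [chevG2, chevB2, chevD4, chevF4, chevE6, chevE7, chevE8])
    {a q : ℕ} (ha : a < D.nroots) (hq : q < D.nroots) (haq : aco D a q = 1 ∨ aco D a q = -1)
    {c : F} (h0 : c ≠ 0) (h1 : c ≠ 1) (v : F) (g : GL D.Idx F)
    (hg : (g : Matrix D.Idx D.Idx F) = D.x F q v) : g ∈ ⁅D.group F, D.group F⁆ := by
  have V := valid0_of_mem hD
  have V1 := valid1_of_mem hD
  have J := validJ_of_mem hD
  have H := validH_of_mem hD
  have hf : IsChar D (fun s => ((Units.mk0 c h0 ^ aco D a s : Fˣ) : F)) :=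
    isChar_of_isWt J.V (isWt_aco J.V J.T H.hsz H.wt a) (Units.mk0 c h0)
  obtain ⟨k, hk⟩ := exists_unit_wN V V1 (D.hWord a c) (hWord_lt V ha c)
  rw [← hMat_eq_wN] at hk
  have hkG : k ∈ D.group F := diagonal_le_group V V1 (hMat_mem_diagonal ha h0 k hk)
  have hkm : (k : Matrix D.Idx D.Idx F) =
      diagC D (fun s => ((Units.mk0 c h0 ^ aco D a s : Fˣ) : F)) := by
    rw [hk, hMat_eq a h0, hG_eq J V1 H.hS H.hG ha]
  have hχ : ((Units.mk0 c h0 ^ aco D a q : Fˣ) : F) ≠ 1 := by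
    rcases haq with h | h
    · rw [h, zpow_one]; exact h1
    · rw [h, _root_.zpow_neg_one, Units.val_inv_eq_inv_val, Units.val_mk0]
      intro hc
      apply h1
      rw [inv_eq_one] at hc
      exact hc
  set χ : F := ((Units.mk0 c h0 ^ aco D a q : Fˣ) : F) with hχdef
  have hχ1 : χ - 1 ≠ 0 := sub_ne_zero.mpr hχ
  obtain ⟨b, hb⟩ := exists_unit_x V V1 hq (v / (χ - 1))
  have hbG := x_mem_group hq _ b hb
  have e : g = ⁅k, b⁆ := by
    apply Units.ext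
    have h2 := diagC_mul_xN V hf hq (v / (χ - 1))
    rw [commutatorElement_def, Units.val_mul, Units.val_mul, Units.val_mul,
      x_inv V V1 hq _ b hb, hb, hg, x_eq_xN, x_eq_xN, x_eq_xN, hkm, h2, ← hkm,
      Matrix.mul_assoc (xN D F q _), ← Units.val_mul, mul_inv_cancel, Units.val_one,
      Matrix.mul_one, xN_mul_xN F V V1 hq]
    congr 1
    field_simp
    ring
  rw [e]
  exact Subgroup.commutator_mem_commutator hkG hbG

/-- the last term of a commutator formula lies in the derived subgroup if the other terms do -/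
theorem x_mem_comm_of_comm (hD : D ∈ [chevG2, chevB2, chevD4, chevF4, chevE6, chevE7, chevE8])
    {a b q : ℕ} (ha : a < D.nroots) (hb : b < D.nroots) (h1 : b ≠ a) (h2 : b ≠ D.neg a)
    (pre : List (ℕ × ℤ × ℕ × ℕ)) (c : ℤ) (i j : ℕ)
    (hL : D.commTerms a b = pre ++ [(q, c, i, j)]) (hc : c = 1 ∨ c = -1) (hij : i = 1 ∨ j = 1)
    (hpre : ∀ x ∈ pre, x.1 < D.nroots ∧ ∀ (v : F) (g : GL D.Idx F),
      (g : Matrix D.Idx D.Idx F) = D.x F x.1 v → g ∈ ⁅D.group F, D.group F⁆)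
    (hq : q < D.nroots) (v : F) (g : GL D.Idx F)
    (hg : (g : Matrix D.Idx D.Idx F) = D.x F q v) : g ∈ ⁅D.group F, D.group F⁆ := by
  have V := valid0_of_mem hD
  have V1 := valid1_of_mem hD
  -- the parameters
  obtain ⟨t, u, htu⟩ : ∃ t u : F, ((c : ℤ) : F) * (-t) ^ i * u ^ j = v := by
    have hcc : ((c : ℤ) : F) * ((c : ℤ) : F) = 1 := by
      rcases hc with rfl | rfl <;> simp
    rcases hij with rfl | rfl
    · refine ⟨-(((c : ℤ) : F) * v), 1, ?_⟩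
      rw [neg_neg, pow_one, one_pow, mul_one, ← mul_assoc, hcc, one_mul]
    · refine ⟨-1, ((c : ℤ) : F) * v, ?_⟩
      rw [neg_neg, one_pow, mul_one, pow_one, ← mul_assoc, hcc, one_mul]
  obtain ⟨ga, hga⟩ := exists_unit_x V V1 ha t
  obtain ⟨gb, hgb⟩ := exists_unit_x V V1 hb u
  have hgaG := x_mem_group ha t ga hga
  have hgbG := x_mem_group hb u gb hgb
  have hcf := comm_formula hD (F := F) ha hb h1 h2 t u
  -- the commutator
  have hW : (((ga * gb)⁻¹ * (gb * ga) : GL D.Idx F) : Matrix D.Idx D.Idx F) =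
      D.wordMat F (D.commWord F a b t u) := by
    rw [Units.val_mul, Units.val_mul gb ga, hgb, hga, hcf, ← hga, ← hgb, ← Units.val_mul,
      ← Matrix.mul_assoc, ← Units.val_mul, inv_mul_cancel, Units.val_one, Matrix.one_mul]
  have hWK : (ga * gb)⁻¹ * (gb * ga) ∈ ⁅D.group F, D.group F⁆ := by
    have e : (ga * gb)⁻¹ * (gb * ga) = ⁅gb⁻¹, ga⁻¹⁆ := by
      rw [commutatorElement_def]; group
    rw [e]
    exact Subgroup.commutator_mem_commutator (inv_mem hgbG) (inv_mem hgaG)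
  -- the other terms
  let φ : ℕ × ℤ × ℕ × ℕ → ℕ × F := fun x => (x.1, ((x.2.1 : ℤ) : F) * (-t) ^ x.2.2.1 * u ^ x.2.2.2)
  obtain ⟨wp, hwpK, hwp⟩ := word_mem_subgroup V V1 ⁅D.group F, D.group F⁆ (pre.map φ) (by
    intro p hp
    rw [List.mem_map] at hp
    obtain ⟨x, hx, rfl⟩ := hp
    exact hpre x hx)
  have hword : D.wordMat F (D.commWord F a b t u) = (wp : Matrix D.Idx D.Idx F) * D.x F q v := by
    rw [wordMat_eq_wN]
    unfold ChevalleyDatum.commWord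
    rw [hL, List.map_append, wN_append, ← hwp]
    congr 1
    rw [List.map_cons, List.map_nil, wN_cons, wN_nil, Matrix.mul_one, x_eq_xN]
    congr 1
  have e : g = wp⁻¹ * ((ga * gb)⁻¹ * (gb * ga)) := by
    apply Units.ext
    rw [Units.val_mul, hW, hword, ← Matrix.mul_assoc, ← Units.val_mul, inv_mul_cancel,
      Units.val_one, Matrix.one_mul, hg]
  rw [e]
  exact mul_mem (inv_mem hwpK) hWK

end

/-! ### The certificates -/

def termOK (q : ℕ) (x : ℕ × ℤ × ℕ × ℕ) : Bool :=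
  Nat.beq x.1 q && (decide (x.2.1 = 1) || decide (x.2.1 = -1)) &&
    (Nat.beq x.2.2.1 1 || Nat.beq x.2.2.2 1)

def lastOK (k0 : ℕ → Bool) (q : ℕ) : List (ℕ × ℤ × ℕ × ℕ) → Bool
  | [] => false
  | [x] => termOK q x
  | x :: y :: rest => k0 x.1 && lastOK k0 q (y :: rest)

theorem lastOK_spec (k0 : ℕ → Bool) (q : ℕ) : ∀ L : List (ℕ × ℤ × ℕ × ℕ), lastOK k0 q L = true →
    ∃ (pre : List (ℕ × ℤ × ℕ × ℕ)) (c : ℤ) (i j : ℕ), L = pre ++ [(q, c, i, j)] ∧
      (c = 1 ∨ c = -1) ∧ (i = 1 ∨ j = 1) ∧ ∀ x ∈ pre, k0 x.1 = true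
  | [], h => by simp [lastOK] at h
  | [x], h => by
    simp only [lastOK, termOK, Bool.and_eq_true, Nat.beq_eq, Bool.or_eq_true,
      decide_eq_true_eq] at h
    obtain ⟨⟨h1, h2⟩, h3⟩ := h
    refine ⟨[], x.2.1, x.2.2.1, x.2.2.2, ?_, h2, h3, by simp⟩
    rw [← h1]
    rfl
  | x :: y :: rest, h => by
    simp only [lastOK, Bool.and_eq_true] at h
    obtain ⟨pre, c, i, j, e, hc, hij, hpre⟩ := lastOK_spec k0 q (y :: rest) h.2
    refine ⟨x :: pre, c, i, j, by rw [e]; rfl, hc, hij, ?_⟩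
    intro z hz
    rw [List.mem_cons] at hz
    rcases hz with rfl | hz
    · exact h.1
    · exact hpre z hz

open Cfsg.Lie

/-- for every root a certificate that its root subgroup lies in the derived subgroup:
`(0, a, _)`: the torus element `h_a(λ)` acts on it by `λ^{±1}`; `(1, a, b)`: it is the last term of the
commutator formula for `(a, b)` -/
def perfC (D : ChevalleyDatum) : List (ℕ × ℕ × ℕ) :=
  if D.nroots = 12 then [(1, 1, 5), (1, 0, 6), (0, 0, 0), (0, 0, 0), (0, 1, 0), (1, 0, 10), (1, 1, 11), (0, 1, 0), (0, 0, 0), (0, 0, 0), (1, 5, 11), (1, 6, 10)]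
  else if D.nroots = 8 then [(1, 1, 4), (0, 0, 0), (0, 0, 0), (1, 0, 5), (1, 0, 6), (0, 0, 0), (0, 0, 0), (1, 3, 6)]
  else if D.nroots = 24 then [(1, 1, 9), (1, 0, 14), (1, 0, 15), (1, 0, 16), (1, 0, 17), (1, 1, 17), (1, 0, 19), (1, 0, 20), (1, 0, 21), (1, 0, 22), (1, 1, 20), (1, 1, 21), (1, 2, 22), (1, 3, 22), (1, 1, 23), (1, 2, 23), (1, 3, 23), (1, 4, 23), (1, 6, 22), (1, 6, 23), (1, 7, 23), (1, 8, 23), (1, 9, 23), (1, 14, 22)]
  else if D.nroots = 48 then [(1, 1, 23), (1, 0, 24), (1, 0, 26), (1, 7, 14), (1, 0, 31), (1, 0, 32), (1, 1, 32), (1, 3, 33), (1, 3, 34), (1, 3, 35), (1, 3, 36), (1, 3, 37), (1, 3, 38), (1, 3, 39), (1, 3, 40), (1, 0, 42), (1, 0, 43), (1, 1, 43), (1, 7, 37), (1, 7, 38), (1, 7, 39), (1, 0, 45), (1, 1, 45), (1, 0, 46), (1, 1, 47), (1, 2, 46), (1, 2, 47), (1, 8, 40), (1, 9, 40), (1, 10, 40), (1, 4, 46), (1, 4, 47), (1, 5, 47), (1, 7, 44), (1, 8, 44), (1, 9, 44), (1, 10, 44), (1,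 11, 44), (1, 12, 44), (1, 13, 44), (1, 14, 44), (1, 15, 46), (1, 15, 47), (1, 16, 47), (1, 33, 40), (1, 21, 47), (1, 23, 47), (1, 24, 46)]
  else if D.nroots = 72 then [(1, 1, 25), (1, 0, 46), (1, 0, 47), (1, 0, 48), (1, 0, 49), (1, 0, 50), (1, 0, 51), (1, 0, 52), (1, 0, 53), (1, 0, 54), (1, 0, 55), (1, 1, 53), (1, 1, 54), (1, 1, 55), (1, 2, 55), (1, 5, 55), (1, 0, 61), (1, 0, 62), (1, 0, 63), (1, 0, 64), (1, 0, 65), (1, 0, 66), (1, 0, 67), (1, 0, 68), (1, 0, 69), (1, 0, 70), (1, 1, 64), (1, 1, 65), (1, 1, 66), (1, 2, 66), (1, 1, 67), (1, 1, 68), (1, 1, 69), (1, 2, 67), (1, 2, 68), (1, 3, 67), (1, 4, 68), (1, 3, 69), (1, 4, 69), (1, 2, 70), (1, 3, 70), (1, 4, 70), (1, 5, 69), (1, 5, 70), (1, 6, 70), (1, 7, 70), (1, 1, 71), (1, 2, 71), (1, 3, 71), (1, 4, 71), (1, 5, 71), (1, 6, 71), (1, 7, 71), (1, 8, 71), (1, 9, 71), (1, 10, 71), (1, 16, 66), (1, 16, 69), (1, 16, 70), (1, 17, 70), (1, 18, 70), (1, 16,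 71), (1, 17, 71), (1, 18, 71), (1, 19, 71), (1, 20, 71), (1, 21, 71), (1, 22, 71), (1, 23, 71), (1, 24, 71), (1, 25, 71), (1, 46, 70)]
  else if D.nroots = 126 then [(1, 1, 32), (1, 0, 93), (1, 0, 94), (1, 0, 95), (1, 0, 96), (1, 0, 97), (1, 0, 98), (1, 0, 99), (1, 0, 100), (1, 0, 101), (1, 0, 102), (1, 0, 103), (1, 0, 104), (1, 0, 105), (1, 0, 106), (1, 0, 107), (1, 0, 108), (1, 0, 109), (1, 0, 110), (1, 0, 111), (1, 0, 112), (1, 0, 113), (1, 0, 114), (1, 0, 115), (1, 0, 116), (1, 0, 117), (1, 0, 118), (1, 0, 119), (1, 0, 120), (1, 0, 121), (1, 0, 122), (1, 0, 123), (1, 0, 124), (1, 1, 109), (1, 1, 110), (1, 1, 111), (1, 1, 112), (1, 1, 113), (1, 1, 114), (1, 1, 115), (1, 1, 116), (1, 1, 117), (1, 1, 118), (1, 2, 115), (1, 2, 116), (1, 2, 117), (1, 2, 118), (1, 3, 118), (1, 1, 119), (1, 1, 120), (1, 1, 121), (1, 1, 122), (1, 1, 123), (1, 2, 119), (1, 2, 120), (1, 2, 121), (1, 2, 122), (1, 3, 119),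 (1, 3, 120), (1, 3, 121), (1, 4, 119), (1, 4, 120), (1, 5, 119), (1, 6, 120), (1, 5, 121), (1, 6, 121), (1, 4, 122), (1, 5, 122), (1, 6, 122), (1, 3, 123), (1, 4, 123), (1, 5, 123), (1, 6, 123), (1, 2, 124), (1, 3, 124), (1, 4, 124), (1, 5, 124), (1, 6, 124), (1, 7, 122), (1, 7, 123), (1, 8, 123), (1, 9, 123), (1, 10, 123), (1, 7, 124), (1, 8, 124), (1, 9, 124), (1, 10, 124), (1, 11, 124), (1, 12, 124), (1, 13, 124), (1, 14, 124), (1, 15, 124), (1, 16, 124), (1, 1, 125), (1, 2, 125), (1, 3, 125), (1, 4, 125), (1, 5, 125), (1, 6, 125), (1, 7, 125), (1, 8, 125), (1, 9, 125), (1, 10, 125), (1, 11, 125), (1, 12, 125), (1, 13, 125), (1, 14, 125), (1, 15, 125), (1, 16, 125), (1, 17, 125), (1, 18, 125), (1, 19, 125), (1, 20, 125), (1, 21, 125), (1, 22, 125), (1, 23, 125), (1, 24, 125), (1, 25, 125), (1, 26, 125), (1, 27, 125), (1, 28, 125), (1, 29, 125), (1, 30, 125), (1, 31, 125), (1, 32, 125), (1, 93, 124)]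
  else if D.nroots = 240 then [(1, 1, 119), (1, 0, 120), (1, 0, 122), (1, 0, 125), (1, 0, 129), (1, 0, 134), (1, 0, 140), (1, 0, 146), (1, 0, 151), (1, 0, 155), (1, 0, 158), (1, 0, 160), (1, 0, 161), (1, 1, 161), (1, 0, 168), (1, 0, 173), (1, 0, 177), (1, 0, 180), (1, 0, 182), (1, 0, 183), (1, 1, 183), (1, 0, 187), (1, 0, 190), (1, 0, 192), (1, 0, 193), (1, 1, 193), (1, 0, 196), (1, 0, 198), (1, 0, 199), (1, 1, 199), (1, 0, 201), (1, 0, 202), (1, 1, 202), (1, 0, 203), (1, 1, 203), (1, 2, 203), (1, 0, 206), (1, 0, 208), (1, 0, 209), (1, 1, 209), (1, 0, 211), (1, 0, 212), (1, 1, 212), (1, 0, 213), (1, 1, 213), (1, 2, 213), (1, 0, 215), (1, 0, 216), (1, 1, 216), (1, 0, 217), (1, 1, 217), (1, 2, 217), (1, 0, 218), (1, 1, 218), (1, 2, 218), (1, 3, 218), (1, 0, 220), (1, 0, 221), (1, 1, 221), (1, 0, 222), (1, 1, 222), (1, 2, 222), (1, 0, 223), (1, 1, 223), (1, 2, 223), (1, 3, 223), (1, 0, 224), (1, 1, 224),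 (1, 2, 224), (1, 3, 224), (1, 4, 224), (1, 0, 225), (1, 1, 225), (1, 2, 225), (1, 3, 225), (1, 4, 225), (1, 5, 225), (1, 6, 225), (1, 0, 227), (1, 0, 228), (1, 1, 228), (1, 0, 229), (1, 1, 229), (1, 2, 229), (1, 0, 230), (1, 1, 230), (1, 2, 230), (1, 3, 230), (1, 0, 231), (1, 1, 231), (1, 2, 231), (1, 3, 231), (1, 4, 231), (1, 0, 232), (1, 1, 232), (1, 2, 232), (1, 3, 232), (1, 4, 232), (1, 5, 232), (1, 0, 233), (1, 1, 233), (1, 2, 233), (1, 3, 233), (1, 4, 233), (1, 5, 233), (1, 0, 234), (1, 1, 234), (1, 2, 234), (1, 3, 234), (1, 4, 234), (1, 0, 235), (1, 1, 235), (1, 2, 235), (1, 3, 235), (1, 0, 236), (1, 1, 236), (1, 2, 236), (1, 0, 237), (1, 1, 237), (1, 0, 238), (1, 1, 239), (1, 2, 238), (1, 2, 239), (1, 3, 237), (1, 3, 238), (1, 3, 239), (1, 4, 236), (1, 4, 237), (1, 4, 238), (1, 4, 239), (1, 5, 235), (1, 5, 236), (1, 5, 237), (1, 5, 238), (1, 5, 239), (1, 6, 234), (1, 6, 235), (1, 6, 236), (1,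 6, 237), (1, 6, 238), (1, 6, 239), (1, 7, 234), (1, 7, 235), (1, 7, 236), (1, 7, 237), (1, 7, 238), (1, 7, 239), (1, 8, 235), (1, 8, 236), (1, 8, 237), (1, 8, 238), (1, 8, 239), (1, 9, 236), (1, 9, 237), (1, 9, 238), (1, 9, 239), (1, 10, 237), (1, 10, 238), (1, 10, 239), (1, 11, 238), (1, 11, 239), (1, 12, 239), (1, 14, 233), (1, 14, 234), (1, 14, 235), (1, 14, 236), (1, 14, 237), (1, 14, 238), (1, 14, 239), (1, 15, 235), (1, 15, 236), (1, 15, 237), (1, 15, 238), (1, 15, 239), (1, 16, 236), (1, 16, 237), (1, 16, 238), (1, 16, 239), (1, 17, 237), (1, 17, 238), (1, 17, 239), (1, 18, 238), (1, 18, 239), (1, 19, 239), (1, 21, 236), (1, 21, 237), (1, 21, 238), (1, 21, 239), (1, 22, 237), (1, 22, 238), (1, 22, 239), (1, 23, 238), (1, 23, 239), (1, 24, 239), (1, 26, 237), (1, 26, 238), (1, 26, 239), (1, 27, 238), (1, 27, 239), (1, 28, 239), (1, 30, 238), (1, 30, 239), (1, 31, 239), (1, 33, 239), (1, 36, 237),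 (1, 36, 238), (1, 36, 239), (1, 37, 238), (1, 37, 239), (1, 38, 239), (1, 40, 238), (1, 40, 239), (1, 41, 239), (1, 43, 239), (1, 46, 238), (1, 46, 239), (1, 47, 239), (1, 49, 239), (1, 52, 239), (1, 56, 238), (1, 56, 239), (1, 57, 239), (1, 59, 239), (1, 62, 239), (1, 66, 239), (1, 71, 239), (1, 78, 238), (1, 78, 239), (1, 79, 239), (1, 81, 239), (1, 84, 239), (1, 88, 239), (1, 93, 239), (1, 99, 239), (1, 105, 239), (1, 110, 239), (1, 114, 239), (1, 117, 239), (1, 119, 239), (1, 120, 238)]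
  else []


noncomputable def torusOK (D : ChevalleyDatum) (cert : List (ℕ × ℕ × ℕ)) (q : ℕ) : Bool :=
  Nat.blt q D.nroots && withNat (nthF ((0, 0, 0) : ℕ × ℕ × ℕ) cert q).2.1 fun a =>
    Nat.blt a D.nroots && (decide (acoF D a q = 1) || decide (acoF D a q = -1))

noncomputable def checkPerf (D : ChevalleyDatum) (cert : List (ℕ × ℕ × ℕ)) (useT : Bool) : Bool :=
  forallLtF (fun q => (fun e : ℕ × ℕ × ℕ =>
    cond (Nat.beq e.1 0) (useT && torusOK D cert q)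
      (Nat.blt e.2.1 D.nroots && Nat.blt e.2.2 D.nroots && !(Nat.beq e.2.2 e.2.1) &&
        !(Nat.beq e.2.2 (D.nroots - 1 - e.2.1)) &&
        lastOK (fun q' => useT && torusOK D cert q') q (D.commTerms e.2.1 e.2.2)))
    (nthF ((0, 0, 0) : ℕ × ℕ × ℕ) cert q)) D.nroots

theorem checkPerf_G2 : checkPerf chevG2 (perfC chevG2) true = true := by decide +kernel
theorem checkPerf_B2 : checkPerf chevB2 (perfC chevB2) true = true := by decide +kernel
theorem checkPerf_D4 : checkPerf chevD4 (perfC chevD4) false = true := by decide +kernel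
theorem checkPerf_F4 : checkPerf chevF4 (perfC chevF4) false = true := by decide +kernel
theorem checkPerf_E6 : checkPerf chevE6 (perfC chevE6) false = true := by decide +kernel
theorem checkPerf_E7 : checkPerf chevE7 (perfC chevE7) false = true := by decide +kernel

end Cfsg.Agent.Lib.Helper8.Chev
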