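import Cfsg.Agent.Lib.Helper8.ChevPf1_E8

set_option autoImplicit false

namespace Cfsg.Agent.Lib.Helper8.Chev

open Cfsg.Lie Matrix
open scoped commutatorElement

section

variable {D : ChevalleyDatum} {F : Type*} [Field F]

theorem perfect_of_check (hD : D ∈ [chevG2, chevB2, chevD4, chevF4, chevE6, chevE7, chevE8])
    {cert : List (ℕ × ℕ × ℕ)} {useT : Bool} (hc : checkPerf D cert useT = true)
    (hl : useT = true → ∃ c : F, c ≠ 0 ∧ c ≠ 1) :
    ∀ q < D.nroots, ∀ (v : F) (g : GL D.Idx F), (g : Matrix D.Idx D.Idx F) = D.x F q v →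
      g ∈ ⁅D.group F, D.group F⁆ := by
  have V := valid0_of_mem hD
  have J := validJ_of_mem hD
  have hT : ∀ q, (useT && torusOK D cert q) = true → q < D.nroots ∧
      ∀ (v : F) (g : GL D.Idx F), (g : Matrix D.Idx D.Idx F) = D.x F q v →
        g ∈ ⁅D.group F, D.group F⁆ := by
    intro q hq
    simp only [torusOK, withNat_eq, Bool.and_eq_true, Nat.blt_eq, Bool.or_eq_true,
      decide_eq_true_eq] at hq
    obtain ⟨hu, hqn, han, haq⟩ := hq
    obtain ⟨c, h0, h1⟩ := hl hu
    rw [acoF_eq J.T han hqn] at haq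
    exact ⟨hqn, fun v g hg => x_mem_comm_of_torus hD han hqn haq h0 h1 v g hg⟩
  simp only [checkPerf, forallLtF_eq_true] at hc
  intro q hq v g hg
  have h := hc q hq
  by_cases h0 : Nat.beq (nthF ((0, 0, 0) : ℕ × ℕ × ℕ) cert q).1 0 = true
  · rw [h0, cond_true] at h
    exact (hT q h).2 v g hg
  · rw [Bool.not_eq_true] at h0
    rw [h0, cond_false] at h
    simp only [Bool.and_eq_true, Nat.blt_eq, Bool.not_eq_true', nat_beq_eq_false] at h
    obtain ⟨⟨⟨⟨ha, hb⟩, h1⟩, h2⟩, hlast⟩ := h
    obtain ⟨pre, c, i, j, hL, hcc, hij, hpre⟩ := lastOK_spec _ _ _ hlast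
    rw [← V.neg_eq _ ha] at h2
    exact x_mem_comm_of_comm hD ha hb h1 h2 pre c i j hL hcc hij
      (fun x hx => hT x.1 (hpre x hx)) hq v g hg

theorem group_le_commutator
    (h : ∀ q < D.nroots, ∀ (v : F) (g : GL D.Idx F), (g : Matrix D.Idx D.Idx F) = D.x F q v →
      g ∈ ⁅D.group F, D.group F⁆) : D.group F ≤ ⁅D.group F, D.group F⁆ := by
  conv_lhs => unfold ChevalleyDatum.group
  rw [Subgroup.closure_le]
  rintro g ⟨r, t, hg⟩
  apply h r.val r.isLt t g
  rw [hg]; unfold ChevalleyDatum.x; rw [dif_pos r.isLt]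

theorem commutator_eq_top_of_le {Γ : Type*} [Group Γ] (G : Subgroup Γ) (h : G ≤ ⁅G, G⁆) :
    commutator ↥G = ⊤ := by
  have h1 := Subgroup.map_subtype_commutator G
  have h2 : (commutator ↥G).map G.subtype = G :=
    h1.trans (le_antisymm (Subgroup.commutator_le_self G) h)
  apply Subgroup.map_injective G.subtype_injective
  rw [h2, ← MonoidHom.range_eq_map, Subgroup.range_subtype]

/-- the Chevalley groups are perfect, except `G₂(2)` and `B₂(2)` -/
theorem chev_perfect (hD : D ∈ [chevG2, chevB2, chevD4, chevF4, chevE6, chevE7, chevE8])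
    (h2 : D = chevG2 ∨ D = chevB2 → ∃ a : F, a ≠ 0 ∧ a ≠ 1) :
    commutator ↥(D.group F) = ⊤ := by
  apply commutator_eq_top_of_le
  apply group_le_commutator
  have hD' := hD
  simp only [List.mem_cons, List.not_mem_nil, or_false] at hD'
  rcases hD' with rfl | rfl | rfl | rfl | rfl | rfl | rfl
  · exact perfect_of_check hD checkPerf_G2 (fun _ => h2 (Or.inl rfl))
  · exact perfect_of_check hD checkPerf_B2 (fun _ => h2 (Or.inr rfl))
  · exact perfect_of_check hD checkPerf_D4 (fun h => absurd h (by decide))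
  · exact perfect_of_check hD checkPerf_F4 (fun h => absurd h (by decide))
  · exact perfect_of_check hD checkPerf_E6 (fun h => absurd h (by decide))
  · exact perfect_of_check hD checkPerf_E7 (fun h => absurd h (by decide))
  · exact perfect_of_check hD checkPerf_E8 (fun h => absurd h (by decide))

end

end Cfsg.Agent.Lib.Helper8.Chev
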