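import Cfsg.Agent.Lib.Helper8.ChevXT5
import Cfsg.Agent.Lib.Helper8.ChevEx7
import Cfsg.Agent.Lib.Helper8.ChevEx3G
import Cfsg.Agent.Lib.Helper8.ChevFld1

set_option autoImplicit false

/-! The twisting endomorphism of `F₄(K)`, `|K| = 2^(2m+1)`. -/

namespace Cfsg.Agent.Lib.Helper8.Chev

open Cfsg.Lie Matrix

theorem hDF4 : chevF4 ∈ [chevG2, chevB2, chevD4, chevF4, chevE6, chevE7, chevE8] := by simp

theorem charP_two_of_card {K : Type*} [Field K] [Fintype K] {n : ℕ}
    (hK : Fintype.card K = 2 ^ n) : CharP K 2 := by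
  have hchar : CharP K (ringChar K) := ringChar.charP K
  obtain ⟨k, hr, hcard⟩ := FiniteField.card K (ringChar K)
  have hdvd : ringChar K ∣ 2 := by
    have h1 : ringChar K ∣ 2 ^ n := by
      rw [← hK, hcard]
      exact dvd_pow_self _ k.ne_zero
    exact hr.dvd_of_dvd_pow h1
  have heq : ringChar K = 2 := (Nat.prime_dvd_prime_iff_eq hr Nat.prime_two).mp hdvd
  exact heq ▸ hchar

/-- `r ↦ r̄` for `F₄` -/
def barF4 (r : ℕ) : ℕ := exDataF4.bar.getD r 0

/-- the symmetry of the Dynkin diagram of `F₄` -/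
def rhoF4 (i : ℕ) : ℕ := 3 - i

/-- the exponent `λ(r) θ`: `λ = 1` on long roots, `2` on short roots, `θ = 2^m` -/
def expF4 (m : ℕ) (r : ℕ) : ℕ := lamN exDataF4 r * 2 ^ m

theorem barF4_lt : ∀ r < 48, barF4 r < 48 := by decide

theorem barF4_pos : ∀ r < 48, (24 ≤ barF4 r ↔ 24 ≤ r) := by decide

theorem barF4_neg : ∀ r < 48, barF4 (chevF4.neg r) = chevF4.neg (barF4 r) := by decide

theorem lamF4_neg : ∀ r < 48, lamN exDataF4 (chevF4.neg r) = lamN exDataF4 r := by decide

theorem barF4_simple : ∀ i < 4, barF4 (chevF4.simple i) = chevF4.simple (rhoF4 i) := by decide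

theorem refl_barF4 : ∀ i < 4, ∀ s < 48,
    chevF4.reflectRoot (rhoF4 i) (barF4 s) = barF4 (chevF4.reflectRoot i s) := by decide

theorem exists_xEnd_F4 {K : Type*} [Field K] [Fintype K] {n : ℕ} (hK : Fintype.card K = 2 ^ n)
    (m : ℕ) : ∃ σ : GL chevF4.Idx K → GL chevF4.Idx K, XEnd chevF4 K σ barF4 rhoF4 (expF4 m) := by
  classical
  have hc := charP_two_of_card hK
  have hc' : CharP K exDataF4.p := hc
  have : Fact (Nat.Prime 2) := ⟨Nat.prime_two⟩
  have hperf : ∀ x : K, ∃ y : K, y ^ exDataF4.p = x := by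
    intro x
    obtain ⟨y, hy⟩ := (frobeniusEquiv K 2).surjective x
    exact ⟨y, by rw [← hy]; rfl⟩
  obtain ⟨α, hα⟩ := exists_exAut (K := K) hDF4 exDataF4
    (powOK_of_check (valid0_of_mem hDF4) checkPow_F4) (swapOK_of_check checkSwap_F4)
    checkEx_F4 (Or.inl rfl) hperf
    27 (by decide) (by decide) (by decide) 24 (by decide) (by decide) (by decide)
  let φ : K →+* K := iterateFrobenius K 2 m
  let Fr : ↥(chevF4.group K) →* ↥(chevF4.group K) :=
    MonoidHom.codRestrict ((bc chevF4 φ).comp (chevF4.group K).subtype) (chevF4.group K)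
      (fun g => bc_mem_group φ g.2)
  let τ : ↥(chevF4.group K) →* ↥(chevF4.group K) := α.toMonoidHom.comp Fr
  refine ⟨fun g => if h : g ∈ chevF4.group K then ((τ ⟨g, h⟩ : ↥(chevF4.group K)) :
    GL chevF4.Idx K) else 1, ?_⟩
  have hτx : ∀ (g : ↥(chevF4.group K)) (r : ℕ) (t : K), r < 48 → gmat g = chevF4.x K r t →
      gmat (τ g) = chevF4.x K (barF4 r) (t ^ expF4 m r) := by
    intro g r t hr hg
    have h1 : gmat (Fr g) = chevF4.x K r (t ^ 2 ^ m) := by
      have := bc_x (D := chevF4) φ (g := (g : GL chevF4.Idx K)) hg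
      exact this.trans rfl
    have h2 := hα (Fr g) r (t ^ 2 ^ m) hr h1
    show gmat (α (Fr g)) = _
    rw [h2, ← pow_mul, mul_comm (2 ^ m)]
    rfl
  have h2 : (2 : K) = 0 := by
    have := CharP.cast_eq_zero K 2
    exact_mod_cast this
  have hm1 : (-1 : K) = 1 := by linear_combination (-1 : K) * h2
  exact
    { hD := hDF4
      mul := by
        intro g h hg hh
        simp only [dif_pos hg, dif_pos hh, dif_pos (mul_mem hg hh)]
        have : (⟨g * h, mul_mem hg hh⟩ : ↥(chevF4.group K)) = ⟨g, hg⟩ * ⟨h, hh⟩ := rfl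
        rw [this, map_mul]
        rfl
      mem := by
        intro g hg
        simp only [dif_pos hg]
        exact (τ ⟨g, hg⟩).2
      map_x := by
        intro g r t hr hg
        have hgG : g ∈ chevF4.group K := x_mem_group hr t g hg
        simp only [dif_pos hgG]
        exact hτx ⟨g, hgG⟩ r t hr hg
      bar_lt := barF4_lt
      bar_pos := barF4_pos
      bar_neg := barF4_neg
      E_neg := by
        intro r hr
        unfold expF4
        rw [lamF4_neg r hr]
      neg_pow := by
        intro r _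
        rw [hm1, one_pow]
      rho_lt := by
        intro i _
        unfold rhoF4
        show 3 - i < 4
        omega
      bar_simple := barF4_simple
      refl_bar := refl_barF4 }

end Cfsg.Agent.Lib.Helper8.Chev
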