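import Cfsg.Agent.Lib.Helper8.ChevTw20
import Cfsg.Agent.Lib.Helper8.ChevOrdH3
import Cfsg.Agent.Lib.Helper8.ChevDiag1

set_option autoImplicit false

/-! The normal core of `B¹` in a twisted group is trivial. -/

namespace Cfsg.Agent.Lib.Helper8.Chev

open Cfsg.Lie Matrix

section

variable {D : ChevalleyDatum} {F : Type*} [Field F]

/-- the torus acts on words through its character -/
theorem diagC_mul_wN (V : Valid0 D) {f : ℕ → F} (hf : IsChar D f) :
    ∀ (w : List (ℕ × F)), (∀ p ∈ w, p.1 < D.nroots) →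
      diagC D f * wN D F w = wN D F (w.map fun p => (p.1, f p.1 * p.2)) * diagC D f := by
  intro w
  induction w with
  | nil => intro _; simp [wN_nil]
  | cons p w ih =>
    intro hw
    rw [List.map_cons, wN_cons, wN_cons, ← Matrix.mul_assoc,
      diagC_mul_xN V hf (hw p List.mem_cons_self), Matrix.mul_assoc,
      ih (fun q hq => hw q (List.mem_cons_of_mem _ hq)), Matrix.mul_assoc]

theorem clsWS_one (f : ℕ → ℕ) (φ : F →+* F) :
    ∀ J : List ℕ, clsWS f φ J (1 : F) = xwS f J (fun _ => (1 : F)) := by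
  intro J
  induction J with
  | nil => rfl
  | cons j J ih =>
    show (f j, (1 : F)) :: clsWS f φ J (φ 1) = (f j, (1 : F)) :: xwS f J _
    rw [map_one, ih]

theorem diagC_inj {f g : ℕ → F} (h : diagC D f = diagC D g) {s : ℕ} (hs : s < D.nroots) :
    f s = g s := by
  have h2 := congrFun (congrFun h (Sum.inr ⟨s, hs⟩)) (Sum.inr ⟨s, hs⟩)
  unfold diagC at h2
  rw [Matrix.diagonal_apply_eq, Matrix.diagonal_apply_eq] at h2
  simpa using h2

end

namespace TwGrp

variable {D : ChevalleyDatum} {F : Type*} [Field F] {ρ ρ' π π' : ℕ → ℕ} {ε : ℕ → ℤ}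
  {T : TwOk D ρ ρ' π π' ε} {φ : F →+* F} {cls : List (List ℕ)} {G1 : Subgroup (GL D.Idx F)}

/-- a torus element commuting with the positive class elements is trivial -/
theorem torus_center (X : TwGrp T φ cls G1) {x : GL D.Idx F} (hx : x ∈ D.diagonalSubgroup F)
    (hc : ∀ J ∈ cls, x * wG D F (clsWS D.simple φ J 1) = wG D F (clsWS D.simple φ J 1) * x) :
    x = 1 := by
  have hD := X.hD
  have V := valid0_of_mem hD
  have V1 := valid1_of_mem hD
  have VJ := validJ_of_mem hD
  have H := validH_of_mem hD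
  obtain ⟨f, hf, hm⟩ := torusLike_of_mem VJ V1 H hx
  have hx' := hx
  rw [diagonal_eq_range VJ V1 H] at hx'
  obtain ⟨c, rfl⟩ := hx'
  have hfc : ∀ s < D.nroots, ((f s : Fˣ) : F) = ((chiT D c s : Fˣ) : F) := by
    intro s hs
    have : diagC D (fun s => ((f s : Fˣ) : F)) = diagC D (fun s => ((chiT D c s : Fˣ) : F)) := by
      rw [← hm, torMap_apply, coe_diagU]
    exact diagC_inj this hs
  -- the character is trivial on the fundamental roots
  have h1 : ∀ j < D.rank, chiT D c (D.simple j) = 1 := by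
    intro j hj
    obtain ⟨J, hJ, hjJ⟩ := X.cd.cover j hj
    have hJok := X.cd.ok J hJ
    have hlt := clsWS_lt V VJ (sgnF_simple D) φ hJok.lt (1 : F)
    have hcw := coe_wG (F := F) V V1 _ hlt
    have h2 := congrArg (fun u : GL D.Idx F => (u : Matrix D.Idx D.Idx F)) (hc J hJ)
    simp only [Units.val_mul, hcw, hm] at h2
    rw [diagC_mul_wN V hf _ hlt] at h2
    have h3 : wN D F ((clsWS D.simple φ J 1).map fun p => (p.1, ((f p.1 : Fˣ) : F) * p.2)) =
        wN D F (clsWS D.simple φ J 1) := by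
      have := congrArg (fun M => M * (((torMap D F c)⁻¹ : GL D.Idx F) : Matrix D.Idx D.Idx F)) h2
      simp only [Matrix.mul_assoc, ← hm, ← Units.val_mul, mul_inv_cancel, Units.val_one,
        Matrix.mul_one] at this
      exact this
    rw [clsWS_one] at h3
    have h4 : (xwS D.simple J (fun _ => (1 : F))).map
        (fun p => (p.1, ((f p.1 : Fˣ) : F) * p.2)) =
        xwS D.simple J (fun j => ((f (D.simple j) : Fˣ) : F) * 1) := by
      unfold xwS
      rw [List.map_map]
      rfl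
    rw [h4] at h3
    have h5 := xwS_inj hD hJok.orthL h3 j hjJ
    rw [mul_one, hfc _ (VJ.S j hj).1] at h5
    exact Units.ext h5
  have hker : c ∈ (torMap D F).ker := by
    rw [ker_torMap_eq VJ (rootCoord_of_mem hD), MonoidHom.mem_ker]
    funext j
    rw [torHom_apply, Pi.one_apply]
    exact h1 j.val j.isLt
  exact hker

/-- the normal core of `B¹` is trivial -/
theorem core_eq_bot (X : TwGrp T φ cls G1) :
    ((D.borelSubgroup F ⊓ G1).subgroupOf G1).normalCore = ⊥ := by
  have hD := X.hD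
  have V := valid0_of_mem hD
  have V1 := valid1_of_mem hD
  have VJ := validJ_of_mem hD
  have H := validH_of_mem hD
  have P := posP_of_mem hD
  have Tr := triP_of_mem hD
  obtain ⟨Js, hJs, hgood, hfull⟩ := X.w0
  have hls := sym_lt (X.clsOk hJs)
  have hn₀ := X.nP_mem hJs
  -- elements of the core lie in `H`
  have hcore : ∀ x : ↥G1, x ∈ ((D.borelSubgroup F ⊓ G1).subgroupOf G1).normalCore →
      (x : GL D.Idx F) ∈ D.diagonalSubgroup F := by
    intro x hx
    have h1 : (x : GL D.Idx F) ∈ D.borelSubgroup F ⊓ G1 :=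
      Subgroup.mem_subgroupOf.mp (Subgroup.normalCore_le _ hx)
    have h2 : (nP D F Js.flatten)⁻¹ * (x : GL D.Idx F) * nP D F Js.flatten ∈
        D.borelSubgroup F ⊓ G1 := by
      have := (show ∀ b : ↥G1, b * x * b⁻¹ ∈ (D.borelSubgroup F ⊓ G1).subgroupOf G1 from hx)
        (⟨nP D F Js.flatten, hn₀⟩ : ↥G1)⁻¹
      have := Subgroup.mem_subgroupOf.mp this
      simpa using this
    obtain ⟨u, hu, h, hh, e⟩ := X.borel_decomp h2
    have hu' : u ∈ UnegW D F Js.flatten := by
      rw [unegW_eq_pos F P hfull]; exact (Subgroup.mem_inf.mp hu).1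
    have hV : nP D F Js.flatten * u * (nP D F Js.flatten)⁻¹ ∈ D.negUnipotent F :=
      conj_unegS_le_neg _ ⟨u, unegW_le_unegS hD hls hu', rfl⟩
    have hH : nP D F Js.flatten * h * (nP D F Js.flatten)⁻¹ ∈ D.diagonalSubgroup F :=
      (Subgroup.mem_normalizer_iff.mp (monomial_le_normalizer hD (nP_mem_monomial hD hls)) _).mp
        (Subgroup.mem_inf.mp hh).1
    have e2 : (x : GL D.Idx F) = (nP D F Js.flatten * u * (nP D F Js.flatten)⁻¹) *
        (nP D F Js.flatten * h * (nP D F Js.flatten)⁻¹) := by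
      have : (x : GL D.Idx F) = nP D F Js.flatten *
          ((nP D F Js.flatten)⁻¹ * (x : GL D.Idx F) * nP D F Js.flatten) *
          (nP D F Js.flatten)⁻¹ := by group
      rw [this, e]; group
    rw [← borel_inf_neg_sup_diagonal VJ V1 H Tr P]
    refine Subgroup.mem_inf.mpr ⟨(Subgroup.mem_inf.mp h1).1, ?_⟩
    rw [e2]
    exact mul_mem (Subgroup.mem_sup_left hV) (Subgroup.mem_sup_right hH)
  rw [Subgroup.eq_bot_iff_forall]
  intro x hx
  apply Subtype.ext
  rw [Subgroup.coe_one]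
  apply X.torus_center (hcore x hx)
  intro J hJ
  -- the commutator with an element of `U¹` lies in `H ∩ U`
  have hJok := X.cd.ok J hJ
  have hc := coe_wG (F := F) V V1 _ (clsWS_lt V VJ (sgnF_simple D) φ hJok.lt (1 : F))
  obtain ⟨τ, hτ⟩ := clsWS_eq_xwS D.simple φ hJok.nodup (1 : F)
  have hbU : wG D F (clsWS D.simple φ J 1) ∈ D.posUnipotent F := by
    have := cls_mem_unegW (l := []) hD hJok.orthL (by simpa using hJok.orthL.good hD) τ _
      (by rw [hc, hτ])
    rw [List.nil_append] at this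
    exact unegW_le_pos hD hJok.orthL.lt this
  have hbG : wG D F (clsWS D.simple φ J 1) ∈ G1 :=
    X.cls_mem J hJ _ (by simp) 1 (Function.iterate_fixed (map_one φ) _) _ hc
  set u : GL D.Idx F := wG D F (clsWS D.simple φ J 1) with hu
  have hN := Subgroup.normalCore_normal ((D.borelSubgroup F ⊓ G1).subgroupOf G1)
  have h1 : x * ((⟨u, hbG⟩ : ↥G1) * x⁻¹ * (⟨u, hbG⟩ : ↥G1)⁻¹) ∈
      ((D.borelSubgroup F ⊓ G1).subgroupOf G1).normalCore :=
    mul_mem hx (hN.conj_mem _ (inv_mem hx) _)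
  have h2 := hcore _ h1
  have h3 : (x : GL D.Idx F) * u * (x : GL D.Idx F)⁻¹ ∈ D.posUnipotent F :=
    torusLike_conj_pos V (torusLike_of_mem VJ V1 H (hcore x hx)) u hbU
  have h4 : (x : GL D.Idx F) * u * (x : GL D.Idx F)⁻¹ * u⁻¹ ∈
      D.posUnipotent F ⊓ D.diagonalSubgroup F := by
    refine Subgroup.mem_inf.mpr ⟨mul_mem h3 (inv_mem hbU), ?_⟩
    have e : (x : GL D.Idx F) * u * (x : GL D.Idx F)⁻¹ * u⁻¹ =
        ((x * ((⟨u, hbG⟩ : ↥G1) * x⁻¹ * (⟨u, hbG⟩ : ↥G1)⁻¹) : ↥G1) : GL D.Idx F) := by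
      simp [mul_assoc]
    rw [e]
    exact h2
  rw [pos_inf_diagonal VJ V1 H Tr P, Subgroup.mem_bot] at h4
  calc (x : GL D.Idx F) * u = ((x : GL D.Idx F) * u * (x : GL D.Idx F)⁻¹ * u⁻¹) * u * x := by group
    _ = u * x := by rw [h4, one_mul]

end TwGrp

end Cfsg.Agent.Lib.Helper8.Chev
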