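import Cfsg.Agent.Lib.Helper8.ChevRF9
import Cfsg.Agent.Lib.Helper8.ChevTw21
import Cfsg.Agent.Lib.Helper8.ChevHi6

set_option autoImplicit false

/-! The action of fixed torus elements on the generators of `²F₄(K)`. -/

namespace Cfsg.Agent.Lib.Helper8.Chev

open Cfsg.Lie Matrix

section

variable {D : ChevalleyDatum} {F : Type*} [Field F]

/-- `H` normalizes `U_w⁻` -/
theorem torus_conj_unegW (hD : D ∈ [chevG2, chevB2, chevD4, chevF4, chevE6, chevE7, chevE8])
    (l : List ℕ) {k : GL D.Idx F} (hk : k ∈ D.diagonalSubgroup F) {u : GL D.Idx F}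
    (hu : u ∈ UnegW D F l) : k * u * k⁻¹ ∈ UnegW D F l := by
  have V := valid0_of_mem hD
  have V1 := valid1_of_mem hD
  have J := validJ_of_mem hD
  have H := validH_of_mem hD
  revert u
  unfold UnegW
  apply conj_closure_le
  rintro x ⟨r, t, h1, h2, h3, hx⟩
  obtain ⟨c, hc⟩ := torus_conj_x V (torusLike_of_mem J V1 H hk) h2
  exact Subgroup.subset_closure ⟨r, c * t, h1, h2, h3, hc t x hx⟩

/-- conjugating a word by a torus element -/
theorem torus_conj_word (V : Valid0 D) {h : GL D.Idx F} {f : ℕ → Fˣ}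
    (hf : IsChar D (fun s => ((f s : Fˣ) : F)))
    (hm : (h : Matrix D.Idx D.Idx F) = diagC D (fun s => ((f s : Fˣ) : F)))
    (w : List (ℕ × F)) (hw : ∀ p ∈ w, p.1 < D.nroots) (g : GL D.Idx F)
    (hg : (g : Matrix D.Idx D.Idx F) = wN D F w) :
    ((h * g * h⁻¹ : GL D.Idx F) : Matrix D.Idx D.Idx F) =
      wN D F (w.map fun p => (p.1, ((f p.1 : Fˣ) : F) * p.2)) := by
  rw [Units.val_mul, Units.val_mul, hg, hm, diagC_mul_wN V hf w hw, ← hm, Matrix.mul_assoc,
    ← Units.val_mul, mul_inv_cancel, Units.val_one, Matrix.mul_one]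

/-- `n_w h_r(t) = h_{w(r)}(t) n_w` -/
theorem nP_mul_hMat (J : ValidJ D) (V1 : Valid1 D) (H : ValidH D) :
    ∀ (l : List ℕ), (∀ i ∈ l, i < D.rank) → ∀ {r : ℕ}, r < D.nroots → ∀ {t : F}, t ≠ 0 →
      ((nP D F l : GL D.Idx F) : Matrix D.Idx D.Idx F) * D.hMat F r t =
        D.hMat F (reflWord D l r) t * ((nP D F l : GL D.Idx F) : Matrix D.Idx D.Idx F) := by
  intro l
  induction l with
  | nil =>
    intro _ r _ t _
    rw [nP_nil, Units.val_one, Matrix.one_mul, Matrix.mul_one]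
    rfl
  | cons i l ih =>
    intro hl r hr t ht
    have hi := hl i List.mem_cons_self
    have hl' : ∀ j ∈ l, j < D.rank := fun j hj => hl j (List.mem_cons_of_mem _ hj)
    rw [nP_cons, Units.val_mul, Matrix.mul_assoc, ih hl' hr ht, ← Matrix.mul_assoc, coe_nG J V1 hi,
      nS_hMat J V1 H hi (reflWord_lt J H.nS hl' hr) ht, Matrix.mul_assoc, reflWord_cons]

end

namespace XEnd

variable {D : ChevalleyDatum} {F : Type*} [Field F] {σ : GL D.Idx F → GL D.Idx F}
  {bar ρ E : ℕ → ℕ}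

/-- the character of a fixed torus element is compatible with the twist -/
theorem char_fixed (X : XEnd D F σ bar ρ E) {h : GL D.Idx F} (hh : h ∈ D.diagonalSubgroup F)
    (hfix : σ h = h) {f : ℕ → Fˣ} (hf : IsChar D (fun s => ((f s : Fˣ) : F)))
    (hm : (h : Matrix D.Idx D.Idx F) = diagC D (fun s => ((f s : Fˣ) : F)))
    {r : ℕ} (hr : r < D.nroots) : ((f (bar r) : Fˣ) : F) = ((f r : Fˣ) : F) ^ E r := by
  have hD := X.hD
  have V := valid0_of_mem hD
  have V1 := valid1_of_mem hD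
  obtain ⟨g, hg⟩ := exists_unit_x V V1 (F := F) hr (1 : F)
  have hgG : g ∈ D.group F := x_mem_group hr 1 g hg
  have hhG : h ∈ D.group F := diagonal_le_group V V1 hh
  have hbr := X.bar_lt r hr
  have h1 : ((h * g * h⁻¹ : GL D.Idx F) : Matrix D.Idx D.Idx F) =
      D.x F r (((f r : Fˣ) : F) * 1) := by
    have := torus_conj_word V hf hm [(r, (1 : F))] (by simpa using hr) g (by
      rw [hg, wN_cons, wN_nil, Matrix.mul_one, x_eq_xN])
    rw [this]
    simp only [List.map_cons, List.map_nil, wN_cons, wN_nil, Matrix.mul_one, x_eq_xN]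
  have h2 := X.map_x _ r _ hr h1
  rw [X.mul _ _ (mul_mem hhG hgG) (inv_mem hhG), X.mul _ _ hhG hgG, X.map_inv hhG, hfix] at h2
  have h3 := X.map_x g r 1 hr hg
  have h4 : ((h * σ g * h⁻¹ : GL D.Idx F) : Matrix D.Idx D.Idx F) =
      D.x F (bar r) (((f (bar r) : Fˣ) : F) * 1 ^ E r) := by
    have := torus_conj_word V hf hm [(bar r, (1 : F) ^ E r)] (by simpa using hbr) (σ g) (by
      rw [h3, wN_cons, wN_nil, Matrix.mul_one, x_eq_xN])
    rw [this]
    simp only [List.map_cons, List.map_nil, wN_cons, wN_nil, Matrix.mul_one, x_eq_xN]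
  rw [h4] at h2
  have := xN_inj_param hD hbr h2
  rw [one_pow, mul_one, mul_one] at this
  exact this

end XEnd

end Cfsg.Agent.Lib.Helper8.Chev
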