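import Cfsg.Agent.Lib.Helper8.ChevRF10

set_option autoImplicit false
set_option maxRecDepth 100000

/-! The torus of `²F₄(K)`. -/

namespace Cfsg.Agent.Lib.Helper8.Chev

open Cfsg.Lie Matrix

theorem aco_neg_F4 : ∀ r < 48, ∀ s < 48, aco chevF4 (chevF4.neg r) s = - aco chevF4 r s := by
  decide +kernel

theorem reflA_simple : reflWord chevF4 [0, 3] 33 = chevF4.neg 33 ∧
    reflWord chevF4 [0, 3] 24 = chevF4.neg 24 := by decide

theorem reflB_simple : reflWord chevF4 [1, 2, 1, 2] 27 = chevF4.neg 27 ∧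
    reflWord chevF4 [1, 2, 1, 2] 25 = chevF4.neg 25 := by decide

section

variable {K : Type*} [Field K]

theorem hMat_neg_F4 {r : ℕ} (hr : r < 48) {t : K} (ht : t ≠ 0) :
    chevF4.hMat K (chevF4.neg r) t = chevF4.hMat K r t⁻¹ := by
  have J := validJ_of_mem hDF4
  have V1 := valid1_of_mem hDF4
  have H := validH_of_mem hDF4
  rw [hMat_diag J V1 H (J.V.neg_lt hr) ht, hMat_diag J V1 H hr (inv_ne_zero ht)]
  apply diagC_congr
  intro s hs
  rw [aco_neg_F4 r hr s hs, _root_.zpow_neg, _root_.inv_zpow]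

/-- the torus element `h_{p₁}(a^θ) h_{p₄}(a)` -/
noncomputable def hA (m : ℕ) (a : Kˣ) : GL chevF4.Idx K :=
  torMap chevF4 K (tup4 (a ^ 2 ^ m) 1 1 a)

/-- the torus element `h_{p₂}(b^θ) h_{p₃}(b)` -/
noncomputable def hB (m : ℕ) (b : Kˣ) : GL chevF4.Idx K :=
  torMap chevF4 K (tup4 1 (b ^ 2 ^ m) b 1)

theorem hA_mul (m : ℕ) (a a' : Kˣ) : hA m (a * a') = hA m a * hA m a' := by
  unfold hA
  rw [← map_mul, tup4_mul, mul_pow, mul_one]

theorem hB_mul (m : ℕ) (b b' : Kˣ) : hB m (b * b') = hB m b * hB m b' := by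
  unfold hB
  rw [← map_mul, tup4_mul, mul_pow, mul_one]

theorem hA_one (m : ℕ) : hA m (1 : Kˣ) = 1 := by
  unfold hA
  rw [one_pow]
  have : tup4 (1 : Kˣ) 1 1 1 = 1 := funext_F4 rfl rfl rfl rfl
  rw [this, map_one]

theorem hB_one (m : ℕ) : hB m (1 : Kˣ) = 1 := by
  unfold hB
  rw [one_pow]
  have : tup4 (1 : Kˣ) 1 1 1 = 1 := funext_F4 rfl rfl rfl rfl
  rw [this, map_one]

theorem hA_inv (m : ℕ) (a : Kˣ) : hA m a⁻¹ = (hA m a)⁻¹ := by
  apply eq_inv_of_mul_eq_one_left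
  rw [← hA_mul, inv_mul_cancel, hA_one]

theorem hB_inv (m : ℕ) (b : Kˣ) : hB m b⁻¹ = (hB m b)⁻¹ := by
  apply eq_inv_of_mul_eq_one_left
  rw [← hB_mul, inv_mul_cancel, hB_one]

theorem torMap_tupF4 (m : ℕ) (a b : Kˣ) :
    torMap chevF4 K (tup4 (a ^ 2 ^ m) (b ^ 2 ^ m) b a) = hA m a * hB m b := by
  unfold hA hB
  rw [← map_mul, tup4_mul, mul_one, one_mul, one_mul, mul_one]

theorem coe_hA (m : ℕ) (a : Kˣ) :
    ((hA m a : GL chevF4.Idx K) : Matrix chevF4.Idx chevF4.Idx K) =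
      chevF4.hMat K 33 ((a : K) ^ 2 ^ m) * chevF4.hMat K 24 (a : K) := by
  have J := validJ_of_mem hDF4
  have H := validH_of_mem hDF4
  unfold hA
  rw [tup4_single, Pi.mulSingle_one, Pi.mulSingle_one, mul_one, mul_one, map_mul, Units.val_mul,
    torMap_mulSingle J H, torMap_mulSingle J H, Units.val_pow_eq_pow_val]
  rfl

theorem coe_hB (m : ℕ) (b : Kˣ) :
    ((hB m b : GL chevF4.Idx K) : Matrix chevF4.Idx chevF4.Idx K) =
      chevF4.hMat K 27 ((b : K) ^ 2 ^ m) * chevF4.hMat K 25 (b : K) := by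
  have J := validJ_of_mem hDF4
  have H := validH_of_mem hDF4
  unfold hB
  rw [tup4_single, Pi.mulSingle_one, Pi.mulSingle_one, mul_one, one_mul, map_mul, Units.val_mul,
    torMap_mulSingle J H, torMap_mulSingle J H, Units.val_pow_eq_pow_val]
  rfl

/-- `n_A` inverts `h_A(a)` -/
theorem nP_A_hA (m : ℕ) (a : Kˣ) :
    nP chevF4 K [0, 3] * hA m a = (hA m a)⁻¹ * nP chevF4 K [0, 3] := by
  have J := validJ_of_mem hDF4
  have V1 := valid1_of_mem hDF4
  have H := validH_of_mem hDF4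
  have ha : (a : K) ≠ 0 := Units.ne_zero a
  have ha' : (a : K) ^ 2 ^ m ≠ 0 := pow_ne_zero _ ha
  apply Units.ext
  rw [Units.val_mul, Units.val_mul, ← hA_inv, coe_hA, coe_hA, ← Matrix.mul_assoc,
    nP_mul_hMat J V1 H [0, 3] (by decide) (by decide) ha', Matrix.mul_assoc,
    nP_mul_hMat J V1 H [0, 3] (by decide) (by decide) ha, ← Matrix.mul_assoc,
    reflA_simple.1, reflA_simple.2, hMat_neg_F4 (by decide) ha', hMat_neg_F4 (by decide) ha,
    Units.val_inv_eq_inv_val, inv_pow]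

/-- `n_B` inverts `h_B(b)` -/
theorem nP_B_hB (m : ℕ) (b : Kˣ) :
    nP chevF4 K [1, 2, 1, 2] * hB m b = (hB m b)⁻¹ * nP chevF4 K [1, 2, 1, 2] := by
  have J := validJ_of_mem hDF4
  have V1 := valid1_of_mem hDF4
  have H := validH_of_mem hDF4
  have hb : (b : K) ≠ 0 := Units.ne_zero b
  have hb' : (b : K) ^ 2 ^ m ≠ 0 := pow_ne_zero _ hb
  apply Units.ext
  rw [Units.val_mul, Units.val_mul, ← hB_inv, coe_hB, coe_hB, ← Matrix.mul_assoc,
    nP_mul_hMat J V1 H [1, 2, 1, 2] (by decide) (by decide) hb', Matrix.mul_assoc,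
    nP_mul_hMat J V1 H [1, 2, 1, 2] (by decide) (by decide) hb, ← Matrix.mul_assoc,
    reflB_simple.1, reflB_simple.2, hMat_neg_F4 (by decide) hb', hMat_neg_F4 (by decide) hb,
    Units.val_inv_eq_inv_val, inv_pow]

end

end Cfsg.Agent.Lib.Helper8.Chev
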