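import Cfsg.Agent.Lib.Helper8.ChevRF11

set_option autoImplicit false

/-! The torus of `²F₄(K)`: `H ∩ ²F₄(K)` consists of the fixed points of the twisting
endomorphism in `H`. -/

namespace Cfsg.Agent.Lib.Helper8.Chev

open Cfsg.Lie Matrix

section

variable {K : Type*} [Field K] [Fintype K] {m : ℕ} {σ : GL chevF4.Idx K → GL chevF4.Idx K}

omit [Fintype K] in
theorem hA_mem_diagonal (a : Kˣ) : hA m a ∈ chevF4.diagonalSubgroup K :=
  torMap_mem (validJ_of_mem hDF4) (validH_of_mem hDF4) _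

omit [Fintype K] in
theorem hB_mem_diagonal (b : Kˣ) : hB m b ∈ chevF4.diagonalSubgroup K :=
  torMap_mem (validJ_of_mem hDF4) (validH_of_mem hDF4) _

theorem unit_pow_theta (hK : Fintype.card K = 2 ^ (2 * m + 1)) (a : Kˣ) :
    (a ^ 2 ^ m) ^ (2 * 2 ^ m) = a := by
  apply Units.ext
  rw [Units.val_pow_eq_pow_val, Units.val_pow_eq_pow_val, pow_theta hK]

/-- the fixed points in `H` -/
theorem diag_fix_form (X : XEnd chevF4 K σ barF4 rhoF4 (expF4 m)) {h : GL chevF4.Idx K}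
    (hh : h ∈ chevF4.diagonalSubgroup K) (hfix : σ h = h) :
    ∃ a b : Kˣ, h = hA m a * hB m b := by
  rw [diagonal_eq_range (validJ_of_mem hDF4) (valid1_of_mem hDF4) (validH_of_mem hDF4)] at hh
  obtain ⟨c, rfl⟩ := hh
  rw [tup4_eq c, map_torMap_F4 X] at hfix
  obtain ⟨e0, e1, -, -⟩ := tup4_inj (torMap_F4_injective hfix)
  refine ⟨c ⟨3, by decide⟩, c ⟨2, by decide⟩, ?_⟩
  rw [← torMap_tupF4, e0, e1, ← tup4_eq]

theorem hA_fix (hK : Fintype.card K = 2 ^ (2 * m + 1))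
    (X : XEnd chevF4 K σ barF4 rhoF4 (expF4 m)) (a : Kˣ) : σ (hA m a) = hA m a := by
  unfold hA
  rw [map_torMap_F4 X, one_pow, one_pow, unit_pow_theta hK]

theorem hB_fix (hK : Fintype.card K = 2 ^ (2 * m + 1))
    (X : XEnd chevF4 K σ barF4 rhoF4 (expF4 m)) (b : Kˣ) : σ (hB m b) = hB m b := by
  unfold hB
  rw [map_torMap_F4 X, one_pow, one_pow, unit_pow_theta hK]

variable [CharP K 2]

omit [Fintype K] in
/-- `n_A = x_A(1) x_{-A}(1) x_A(1)` -/
theorem nP_A_decomp (m : ℕ) : ∃ g1 ∈ UnegW chevF4 K [0, 3], ∃ g2 : GL chevF4.Idx K,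
    g1 ∈ twistedF4 K (2 ^ m) ∧
    (g2 : Matrix chevF4.Idx chevF4.Idx K) = wN chevF4 K [(14, (1 : K)), (23, 1)] ∧
    nP chevF4 K [0, 3] = g1 * g2 * g1 := by
  have V := valid0_of_mem hDF4
  have V1 := valid1_of_mem hDF4
  obtain ⟨g1, hg1U, hg1⟩ := word_mem_unegW (K := K) [0, 3] [(33, (1 : K)), (24, 1)] (by
    intro p hp
    simp only [List.mem_cons, List.not_mem_nil, or_false] at hp
    rcases hp with rfl | rfl
    · exact ⟨by norm_num, by norm_num, reflA_gen.2⟩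
    · exact ⟨by norm_num, by norm_num, reflA_gen.1⟩)
  obtain ⟨g2, hg2⟩ := exists_unit_wN V V1 [(14, (1 : K)), (23, 1)] (by
    intro p hp
    simp only [List.mem_cons, List.not_mem_nil, or_false] at hp
    rcases hp with rfl | rfl <;> (dsimp only; decide))
  have h1 : g1 ∈ twistedF4 K (2 ^ m) := by
    apply clsA_mem_twisted _ 1 g1
    rw [hg1]
    unfold f4PairWord
    rw [one_pow]
  refine ⟨g1, hg1U, g2, h1, hg2, ?_⟩
  apply Units.ext
  rw [nP_A_mat, ← f4_nA_mat two_eq_zero', Units.val_mul, Units.val_mul, hg1, hg2, wordMat_eq_wN,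
    ← wN_append, ← wN_append]
  rfl

omit [Fintype K] in
/-- `n_B = x_B(1,1)⁻¹ x_{-B}(0,1) x_B(1,1)` -/
theorem nP_B_decomp (m : ℕ) : ∃ g1 ∈ UnegW chevF4 K [1, 2, 1, 2], ∃ g2 : GL chevF4.Idx K,
    g1 ∈ twistedF4 K (2 ^ m) ∧
    (g2 : Matrix chevF4.Idx chevF4.Idx K) = wN chevF4 K [(19, (1 : K)), (17, 1)] ∧
    nP chevF4 K [1, 2, 1, 2] = g1⁻¹ * g2 * g1 := by
  have V := valid0_of_mem hDF4
  have V1 := valid1_of_mem hDF4
  obtain ⟨g1, hg1U, hg1⟩ := word_mem_unegW (K := K) [1, 2, 1, 2]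
    [(27, (1 : K)), (25, 1), (30, 1)] (by
    intro p hp
    simp only [List.mem_cons, List.not_mem_nil, or_false] at hp
    rcases hp with rfl | rfl | rfl
    · exact ⟨by norm_num, by norm_num, reflB_gen.2.1⟩
    · exact ⟨by norm_num, by norm_num, reflB_gen.1⟩
    · exact ⟨by norm_num, by norm_num, reflB_gen.2.2.2⟩)
  rw [wordMat_eq_wN] at hg1
  obtain ⟨g1', hg1'⟩ := exists_unit_wN V V1 [(30, (1 : K)), (25, 1), (27, 1)] (by
    intro p hp
    simp only [List.mem_cons, List.not_mem_nil, or_false] at hp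
    rcases hp with rfl | rfl | rfl <;> (dsimp only; decide))
  obtain ⟨g2, hg2⟩ := exists_unit_wN V V1 [(19, (1 : K)), (17, 1)] (by
    intro p hp
    simp only [List.mem_cons, List.not_mem_nil, or_false] at hp
    rcases hp with rfl | rfl <;> (dsimp only; decide))
  have h1 : g1 ∈ twistedF4 K (2 ^ m) := by
    apply clsB_mem_twisted _ 1 1 g1
    rw [hg1, clsWordB_mat, one_pow, one_pow, one_pow, add_self']
    show _ = chevF4.x K 27 1 * (chevF4.x K 25 1 * (chevF4.x K 28 0 * chevF4.x K 30 1))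
    rw [xF_zero, one_mul]
    simp only [wNF_cons, wN_nil, mul_one]
  have hinv : g1' = g1⁻¹ := by
    apply eq_inv_of_mul_eq_one_left
    apply Units.ext
    rw [Units.val_mul, hg1', hg1, Units.val_one]
    simp only [wNF_cons, wN_nil, mul_one]
    have hB := b2Rel_pos (K := K)
    have a0 := hB.add 0 1 1
    have a1 := hB.add 1 1 1
    have a3 := hB.add 3 1 1
    rw [add_self', hB.zero] at a0 a1 a3
    have a0' : chevF4.x K 25 1 * chevF4.x K 25 1 = 1 := a0
    have a1' : chevF4.x K 27 1 * chevF4.x K 27 1 = 1 := a1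
    have a3' : chevF4.x K 30 1 * chevF4.x K 30 1 = 1 := a3
    calc chevF4.x K 30 1 * (chevF4.x K 25 1 * chevF4.x K 27 1) *
          (chevF4.x K 27 1 * (chevF4.x K 25 1 * chevF4.x K 30 1))
        = chevF4.x K 30 1 * (chevF4.x K 25 1 * (chevF4.x K 27 1 * chevF4.x K 27 1) *
          chevF4.x K 25 1) * chevF4.x K 30 1 := by simp only [Matrix.mul_assoc]
      _ = 1 := by rw [a1', mul_one, a0', mul_one, a3']
  refine ⟨g1, hg1U, g2, h1, hg2, ?_⟩
  rw [← hinv]
  apply Units.ext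
  rw [nP_B_mat, ← f4_nB_mat two_eq_zero', Units.val_mul, Units.val_mul, hg1, hg2, hg1',
    ← wN_append, ← wN_append]
  rfl

/-- conjugating `n_A` by a fixed torus element stays in `²F₄` -/
theorem conj_nA_mem (hK : Fintype.card K = 2 ^ (2 * m + 1))
    (X : XEnd chevF4 K σ barF4 rhoF4 (expF4 m)) {h : GL chevF4.Idx K}
    (hh : h ∈ chevF4.diagonalSubgroup K) (hfix : σ h = h) :
    h * nP chevF4 K [0, 3] * h⁻¹ ∈ twistedF4 K (2 ^ m) := by
  have V := valid0_of_mem hDF4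
  have V1 := valid1_of_mem hDF4
  have J := validJ_of_mem hDF4
  have H := validH_of_mem hDF4
  obtain ⟨f, hf, hm⟩ := torusLike_of_mem J V1 H hh
  obtain ⟨g1, hg1U, g2, h1, hg2, e⟩ := nP_A_decomp (K := K) m
  have hfixS : h ∈ X.fix := ⟨diagonal_le_group V V1 hh, hfix⟩
  have c1 : h * g1 * h⁻¹ ∈ twistedF4 K (2 ^ m) :=
    clsA_fix_le X (Subgroup.mem_inf.mpr ⟨torus_conj_unegW hDF4 [0, 3] hh hg1U,
      mul_mem (mul_mem hfixS (twistedF4_le_fix hK X h1)) (inv_mem hfixS)⟩)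
  have c2 : h * g2 * h⁻¹ ∈ twistedF4 K (2 ^ m) := by
    apply clsAm_mem_twisted _ ((f 23 : Kˣ) : K)
    rw [torus_conj_word V hf hm _ (by
      intro p hp
      simp only [List.mem_cons, List.not_mem_nil, or_false] at hp
      rcases hp with rfl | rfl <;> (dsimp only; decide)) g2 hg2, wordMat_eq_wN]
    have hc := X.char_fixed hh hfix hf hm (r := 23) (by decide)
    obtain ⟨-, -, -, -, -, -, -, -, -, -, b23, -⟩ := barF4_vals
    obtain ⟨-, -, -, -, -, -, -, -, -, -, l23, -⟩ := lamF4_vals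
    unfold expF4 at hc
    rw [b23, l23, one_mul] at hc
    unfold f4PairWord
    simp only [List.map_cons, List.map_nil, mul_one]
    rw [hc]
  have e2 : h * nP chevF4 K [0, 3] * h⁻¹ = (h * g1 * h⁻¹) * (h * g2 * h⁻¹) * (h * g1 * h⁻¹) := by
    rw [e]; group
  rw [e2]
  exact mul_mem (mul_mem c1 c2) c1

/-- conjugating `n_B` by a fixed torus element stays in `²F₄` -/
theorem conj_nB_mem (hK : Fintype.card K = 2 ^ (2 * m + 1))
    (X : XEnd chevF4 K σ barF4 rhoF4 (expF4 m)) {h : GL chevF4.Idx K}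
    (hh : h ∈ chevF4.diagonalSubgroup K) (hfix : σ h = h) :
    h * nP chevF4 K [1, 2, 1, 2] * h⁻¹ ∈ twistedF4 K (2 ^ m) := by
  have V := valid0_of_mem hDF4
  have V1 := valid1_of_mem hDF4
  have J := validJ_of_mem hDF4
  have H := validH_of_mem hDF4
  obtain ⟨f, hf, hm⟩ := torusLike_of_mem J V1 H hh
  obtain ⟨g1, hg1U, g2, h1, hg2, e⟩ := nP_B_decomp (K := K) m
  have hfixS : h ∈ X.fix := ⟨diagonal_le_group V V1 hh, hfix⟩
  have c1 : h * g1 * h⁻¹ ∈ twistedF4 K (2 ^ m) :=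
    clsB_fix_le X (Subgroup.mem_inf.mpr ⟨torus_conj_unegW hDF4 [1, 2, 1, 2] hh hg1U,
      mul_mem (mul_mem hfixS (twistedF4_le_fix hK X h1)) (inv_mem hfixS)⟩)
  have h2m : (2 : ℕ) ^ m ≠ 0 := pow_ne_zero _ (by norm_num)
  have c2 : h * g2 * h⁻¹ ∈ twistedF4 K (2 ^ m) := by
    apply clsBm_mem_twisted _ 0 ((f 19 : Kˣ) : K)
    rw [torus_conj_word V hf hm _ (by
      intro p hp
      simp only [List.mem_cons, List.not_mem_nil, or_false] at hp
      rcases hp with rfl | rfl <;> (dsimp only; decide)) g2 hg2, clsWordBm_mat,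
      zero_pow h2m, zero_pow (Nat.succ_ne_zero _), zero_add]
    have hc := X.char_fixed hh hfix hf hm (r := 19) (by decide)
    obtain ⟨-, -, -, -, -, -, -, -, b19, -⟩ := barF4_vals
    obtain ⟨-, -, -, -, -, -, -, -, l19, -⟩ := lamF4_vals
    unfold expF4 at hc
    rw [b19, l19] at hc
    show _ = chevF4.x K 20 0 * (chevF4.x K 22 0 * (chevF4.x K 19 _ * chevF4.x K 17 _))
    rw [xF_zero, xF_zero, one_mul, one_mul, ← hc]
    simp only [List.map_cons, List.map_nil, mul_one, wNF_cons, wN_nil]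
  have e2 : h * nP chevF4 K [1, 2, 1, 2] * h⁻¹ =
      (h * g1 * h⁻¹)⁻¹ * (h * g2 * h⁻¹) * (h * g1 * h⁻¹) := by
    rw [e]; group
  rw [e2]
  exact mul_mem (mul_mem (inv_mem c1) c2) c1

end

end Cfsg.Agent.Lib.Helper8.Chev
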