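import Cfsg.Agent.Lib.Helper8.ChevRF12

set_option autoImplicit false

/-! The order of the torus of `²F₄(K)`. -/

namespace Cfsg.Agent.Lib.Helper8.Chev

open Cfsg.Lie Matrix

section

variable {K : Type*} [Field K] [Fintype K] {m : ℕ} {σ : GL chevF4.Idx K → GL chevF4.Idx K}

theorem unit_sq_surj (hK : Fintype.card K = 2 ^ (2 * m + 1)) (a : Kˣ) : ∃ a' : Kˣ, a' ^ 2 = a := by
  refine ⟨a ^ 2 ^ (2 * m), ?_⟩
  apply Units.ext
  rw [Units.val_pow_eq_pow_val, Units.val_pow_eq_pow_val, ← pow_mul]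
  have : 2 ^ (2 * m) * 2 = Fintype.card K := by rw [hK]; ring
  rw [this, FiniteField.pow_card]

theorem inv_conj_of_comm {G : Type*} [Group G] {n h : G} (e : n * h = h⁻¹ * n) :
    h * h = (h * n * h⁻¹) * n⁻¹ := by
  have e1 : n * h⁻¹ * n⁻¹ = h := by
    have := congrArg (·⁻¹) e
    simp only [_root_.mul_inv_rev, inv_inv] at this
    rw [mul_assoc, this, mul_inv_cancel_left]
  calc h * h = h * (n * h⁻¹ * n⁻¹) := by rw [e1]
    _ = _ := by group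

variable [CharP K 2]

theorem hA_mem (hK : Fintype.card K = 2 ^ (2 * m + 1))
    (X : XEnd chevF4 K σ barF4 rhoF4 (expF4 m)) (a : Kˣ) : hA m a ∈ twistedF4 K (2 ^ m) := by
  obtain ⟨a', rfl⟩ := unit_sq_surj hK a
  rw [sq, hA_mul, inv_conj_of_comm (nP_A_hA m a')]
  exact mul_mem (conj_nA_mem hK X (hA_mem_diagonal a') (hA_fix hK X a')) (inv_mem (nP_A_mem m))

theorem hB_mem (hK : Fintype.card K = 2 ^ (2 * m + 1))
    (X : XEnd chevF4 K σ barF4 rhoF4 (expF4 m)) (b : Kˣ) : hB m b ∈ twistedF4 K (2 ^ m) := by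
  obtain ⟨b', rfl⟩ := unit_sq_surj hK b
  rw [sq, hB_mul, inv_conj_of_comm (nP_B_hB m b')]
  exact mul_mem (conj_nB_mem hK X (hB_mem_diagonal b') (hB_fix hK X b')) (inv_mem (nP_B_mem m))

/-- `H ∩ ²F₄(K)` consists of the fixed points in `H` -/
theorem diag_inf_twistedF4 (hK : Fintype.card K = 2 ^ (2 * m + 1))
    (X : XEnd chevF4 K σ barF4 rhoF4 (expF4 m)) :
    chevF4.diagonalSubgroup K ⊓ twistedF4 K (2 ^ m) = chevF4.diagonalSubgroup K ⊓ X.fix := by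
  apply le_antisymm
  · exact inf_le_inf_left _ (twistedF4_le_fix hK X)
  · intro h hh
    obtain ⟨h1, h2⟩ := Subgroup.mem_inf.mp hh
    obtain ⟨a, b, rfl⟩ := diag_fix_form X h1 h2.2
    exact Subgroup.mem_inf.mpr ⟨h1, mul_mem (hA_mem hK X a) (hB_mem hK X b)⟩

theorem mem_diag_inf_twistedF4 (hK : Fintype.card K = 2 ^ (2 * m + 1))
    (X : XEnd chevF4 K σ barF4 rhoF4 (expF4 m)) (h : GL chevF4.Idx K) :
    h ∈ chevF4.diagonalSubgroup K ⊓ twistedF4 K (2 ^ m) ↔ ∃ a b : Kˣ, h = hA m a * hB m b := by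
  constructor
  · intro hh
    rw [diag_inf_twistedF4 hK X] at hh
    obtain ⟨h1, h2⟩ := Subgroup.mem_inf.mp hh
    exact diag_fix_form X h1 h2.2
  · rintro ⟨a, b, rfl⟩
    exact Subgroup.mem_inf.mpr ⟨mul_mem (hA_mem_diagonal a) (hB_mem_diagonal b),
      mul_mem (hA_mem hK X a) (hB_mem hK X b)⟩

omit [CharP K 2] in
theorem hAB_inj {a b a' b' : Kˣ} (h : hA m a * hB m b = hA m a' * hB m b') : a = a' ∧ b = b' := by
  rw [← torMap_tupF4, ← torMap_tupF4] at h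
  obtain ⟨-, -, e2, e3⟩ := tup4_inj (torMap_F4_injective h)
  exact ⟨e3, e2⟩

/-- `|H ∩ ²F₄(q)| = (q - 1)²` -/
theorem card_diag_F4 (hK : Fintype.card K = 2 ^ (2 * m + 1))
    (X : XEnd chevF4 K σ barF4 rhoF4 (expF4 m)) :
    Nat.card ↥(chevF4.diagonalSubgroup K ⊓ twistedF4 K (2 ^ m)) = (2 ^ (2 * m + 1) - 1) ^ 2 := by
  rw [card_of_param (α := Kˣ × Kˣ) (G := GL chevF4.Idx K) _
    (fun p (g : GL chevF4.Idx K) => g = hA m p.1 * hB m p.2), Nat.card_prod, Nat.card_units,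
    Nat.card_eq_fintype_card, hK, sq]
  · rintro ⟨a, b⟩
    exact ⟨_, (mem_diag_inf_twistedF4 hK X _).mpr ⟨a, b, rfl⟩, rfl⟩
  · rintro ⟨a, b⟩ ⟨a', b'⟩ g h1 h2
    rw [h1] at h2
    obtain ⟨e1, e2⟩ := hAB_inj h2
    exact Prod.ext e1 e2
  · intro g hg
    obtain ⟨a, b, e⟩ := (mem_diag_inf_twistedF4 hK X g).mp hg
    exact ⟨(a, b), e⟩
  · intro p g g' h1 h2
    rw [h1, h2]

end

end Cfsg.Agent.Lib.Helper8.Chev
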