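import Cfsg.Agent.Lib.Helper8.ChevTw22

set_option autoImplicit false

/-! The Weyl group of a twisted group as a Coxeter group. -/

namespace Cfsg.Agent.Lib.Helper8.Chev

open Cfsg.Lie Matrix Cfsg.Agent.Lib.Helper8.BNCox

/-- `l` repeated `k` times -/
def repL (k : ℕ) (l : List ℕ) : List ℕ := (List.replicate k l).flatten

/-- the product of the reflections of `l` has order `m` -/
def OrdW (D : ChevalleyDatum) (l : List ℕ) (m : ℕ) : Prop :=
  0 < m ∧ (∀ r < D.nroots, reflWord D (repL m l) r = r) ∧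
    ∀ k < m, 0 < k → ¬ ∀ r < D.nroots, reflWord D (repL k l) r = r

instance (D : ChevalleyDatum) (l : List ℕ) (m : ℕ) : Decidable (OrdW D l m) := by
  unfold OrdW; infer_instance

section

variable {D : ChevalleyDatum} {F : Type*} [Field F]

theorem nP_repL (k : ℕ) (l : List ℕ) : nP D F (repL k l) = nP D F l ^ k := by
  induction k with
  | zero => simp [repL, nP_nil]
  | succ k ih =>
    have : repL (k + 1) l = l ++ repL k l := by
      simp [repL, List.replicate_succ]
    rw [this, nP_append, ih, pow_succ']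

theorem repL_lt {k : ℕ} {l : List ℕ} (hl : ∀ i ∈ l, i < D.rank) : ∀ i ∈ repL k l, i < D.rank := by
  intro i hi
  unfold repL at hi
  rw [List.mem_flatten] at hi
  obtain ⟨l', hl', hi⟩ := hi
  rw [List.eq_of_mem_replicate hl'] at hi
  exact hl i hi

theorem nP_mem_diagonal_iff (hD : D ∈ [chevG2, chevB2, chevD4, chevF4, chevE6, chevE7, chevE8])
    {l : List ℕ} (hl : ∀ i ∈ l, i < D.rank) :
    nP D F l ∈ D.diagonalSubgroup F ↔ ∀ r < D.nroots, reflWord D l r = r := by
  constructor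
  · intro h r hr
    have := reflWord_eq_of_mem_diagonal (F := F) hD (l := []) (l' := l) (by simp) hl
      (by rw [nP_nil, inv_one, one_mul]; exact h) r hr
    exact this.symm
  · intro h
    have := nP_mul_inv_mem_diagonal (F := F) hD hl (l' := []) (by simp) (fun r hr => h r hr)
    rwa [nP_nil, inv_one, mul_one] at this

end

namespace TwGrp

variable {D : ChevalleyDatum} {F : Type*} [Field F] {ρ ρ' π π' : ℕ → ℕ} {ε : ℕ → ℤ}
  {T : TwOk D ρ ρ' π π' ε} {φ : F →+* F} {cls : List (List ℕ)} {G1 : Subgroup (GL D.Idx F)}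

/-- `N¹ / H¹` is the Coxeter group with the given orders -/
theorem exists_hom_cox (X : TwGrp T φ cls G1) {n : ℕ} (M : CoxeterMatrix (Fin n))
    (hn : cls.length = n)
    (hM : ∀ i j : Fin n, OrdW D (cls.getD i [] ++ cls.getD j []) (M i j)) :
    ∃ ψ : ↥(D.monomialSubgroup F ⊓ G1) →* M.Group, Function.Surjective ψ ∧
      ψ.ker = (D.diagonalSubgroup F ⊓ G1).subgroupOf (D.monomialSubgroup F ⊓ G1) := by
  have hD := X.hD
  obtain ⟨P, hB, hNN, hS⟩ := X.bnpair
  have := T_normal P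
  have hmem : ∀ i : Fin n, cls.getD i [] ∈ cls := by
    intro i
    have hi : i.val < cls.length := by rw [hn]; exact i.isLt
    rw [List.getD_eq_getElem _ _ hi]
    exact List.getElem_mem hi
  let idx : Fin n → P.S := fun i =>
    ⟨⟨nP D F (cls.getD i []), X.nP_cls_mem' (hmem i)⟩, by
      rw [hS]; exact ⟨_, hmem i, rfl⟩⟩
  have hsurj : Function.Surjective idx := by
    rintro ⟨s, hs⟩
    have hs' := hs
    rw [hS] at hs'
    obtain ⟨J, hJ, e⟩ := hs'
    obtain ⟨k, hk, rfl⟩ := List.getElem_of_mem hJ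
    refine ⟨⟨k, by rw [← hn]; exact hk⟩, ?_⟩
    apply Subtype.ext
    apply Subtype.ext
    show nP D F (cls.getD k []) = (s : GL D.Idx F)
    rw [e, List.getD_eq_getElem _ _ hk]
  -- the orders of the products of two generators
  have hpow : ∀ (i j : Fin n) (k : ℕ), (BNCox.sW P (idx i) * BNCox.sW P (idx j)) ^ k = 1 ↔
      ∀ r < D.nroots, reflWord D (repL k (cls.getD i [] ++ cls.getD j [])) r = r := by
    intro i j k
    have hlt : ∀ a ∈ cls.getD i [] ++ cls.getD j [], a < D.rank := by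
      intro a ha
      rw [List.mem_append] at ha
      rcases ha with ha | ha
      · exact (X.cd.ok _ (hmem i)).lt a ha
      · exact (X.cd.ok _ (hmem j)).lt a ha
    rw [← nP_mem_diagonal_iff (F := F) hD (repL_lt hlt), nP_repL, nP_append]
    unfold BNCox.sW
    rw [← QuotientGroup.mk_mul, ← QuotientGroup.mk_pow, QuotientGroup.eq_one_iff, mem_T_iff, hB,
      Subgroup.mem_subgroupOf]
    have hG : (nP D F (cls.getD i []) * nP D F (cls.getD j [])) ^ k ∈ G1 :=
      pow_mem (mul_mem (X.nP_cls_mem' (hmem i)) (X.nP_cls_mem' (hmem j))) k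
    have hNm : (nP D F (cls.getD i []) * nP D F (cls.getD j [])) ^ k ∈ D.monomialSubgroup F :=
      pow_mem (mul_mem (nP_mem_monomial hD (X.cd.ok _ (hmem i)).lt)
        (nP_mem_monomial hD (X.cd.ok _ (hmem j)).lt)) k
    show (nP D F (cls.getD i []) * nP D F (cls.getD j [])) ^ k ∈ D.borelSubgroup F ⊓ G1 ↔ _
    constructor
    · intro h
      rw [← borel_inf_monomial hD]
      exact Subgroup.mem_inf.mpr ⟨(Subgroup.mem_inf.mp h).1, hNm⟩
    · intro h
      exact Subgroup.mem_inf.mpr ⟨diagonal_le_borel h, hG⟩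
  have hM' : ∀ i j, M i j = orderOf (BNCox.sW P (idx i) * BNCox.sW P (idx j)) := by
    intro i j
    obtain ⟨h0, h1, h2⟩ := hM i j
    symm
    rw [orderOf_eq_iff h0]
    refine ⟨(hpow i j _).mpr h1, fun k hk hk0 hcon => h2 k hk hk0 ((hpow i j k).mp hcon)⟩
  obtain ⟨ψ₀, hsur₀, hker₀⟩ := exists_hom_of_bn P M idx hsurj hM'
  -- transport to the subgroup of `GL`
  let f : ↥(D.monomialSubgroup F ⊓ G1) →* ↥P.N :=
    { toFun := fun x => ⟨⟨x.1, (Subgroup.mem_inf.mp x.2).2⟩, by
        rw [hNN, Subgroup.mem_subgroupOf]; exact x.2⟩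
      map_one' := rfl
      map_mul' := fun _ _ => rfl }
  have hf : Function.Surjective f := by
    rintro ⟨⟨y, hy1⟩, hy2⟩
    have hy3 : y ∈ D.monomialSubgroup F ⊓ G1 := by
      have := hy2
      rw [hNN, Subgroup.mem_subgroupOf] at this
      exact this
    exact ⟨⟨y, hy3⟩, rfl⟩
  refine ⟨ψ₀.comp f, hsur₀.comp hf, ?_⟩
  ext x
  rw [MonoidHom.mem_ker, MonoidHom.comp_apply, ← MonoidHom.mem_ker, hker₀, mem_T_iff, hB,
    Subgroup.mem_subgroupOf, Subgroup.mem_subgroupOf]
  show (x : GL D.Idx F) ∈ D.borelSubgroup F ⊓ G1 ↔ (x : GL D.Idx F) ∈ D.diagonalSubgroup F ⊓ G1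
  obtain ⟨hx1, hx2⟩ := Subgroup.mem_inf.mp x.2
  constructor
  · intro h
    refine Subgroup.mem_inf.mpr ⟨?_, hx2⟩
    rw [← borel_inf_monomial hD]
    exact Subgroup.mem_inf.mpr ⟨(Subgroup.mem_inf.mp h).1, hx1⟩
  · intro h
    exact Subgroup.mem_inf.mpr ⟨diagonal_le_borel (Subgroup.mem_inf.mp h).1, hx2⟩

end TwGrp

end Cfsg.Agent.Lib.Helper8.Chev
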