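import Cfsg.Agent.Lib.Helper8.ChevXT5
import Cfsg.Agent.Lib.Helper8.ChevTw23

set_option autoImplicit false

/-! The `(B, N)`-pair of an abstract twisted group. -/

namespace Cfsg.Agent.Lib.Helper8.Chev

open Cfsg.Lie Matrix

/-- extra data for the `(B, N)`-pair of an abstract twisted group -/
structure XBN {D : ChevalleyDatum} {F : Type*} [Field F] {σ : GL D.Idx F → GL D.Idx F}
    {bar ρ E : ℕ → ℕ} (X : XEnd D F σ bar ρ E) (cls : List (List ℕ))
    (G1 : Subgroup (GL D.Idx F)) : Prop extends XGrp X cls G1 where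
  inj : ∀ c ∈ cls, ∀ c' ∈ cls, (∀ r < D.nroots, reflWord D c r = reflWord D c' r) → c = c'
  sub : ∀ c ∈ cls, ∀ I ∈ c.sublists,
    (∀ r < D.nroots, bar (reflWord D I r) = reflWord D I (bar r)) →
      (∀ r < D.nroots, reflWord D I r = r) ∨ (∀ r < D.nroots, reflWord D I r = reflWord D c r)
  nontriv : ∀ c ∈ cls, ∃ u ∈ UnegW D F c ⊓ G1, u ≠ 1

namespace XBN

variable {D : ChevalleyDatum} {F : Type*} [Field F] {σ : GL D.Idx F → GL D.Idx F}
  {bar ρ E : ℕ → ℕ} {X : XEnd D F σ bar ρ E} {cls : List (List ℕ)}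
  {G1 : Subgroup (GL D.Idx F)}

/-- a sublist of a class whose reflection links two symmetric elements is trivial or everything -/
theorem sub_cases (Y : XBN X cls G1) {c : List ℕ} (hc : c ∈ cls) {I : List ℕ}
    (hI : I.Sublist c) {n : GL D.Idx F} (hn : n ∈ D.monomialSubgroup F ⊓ G1)
    {Cs : List (List ℕ)} (hCs : ∀ c ∈ Cs, c ∈ cls)
    (h : (nP D F I * n)⁻¹ * nP D F Cs.flatten ∈ D.diagonalSubgroup F) :
    (∀ r < D.nroots, reflWord D I r = r) ∨ (∀ r < D.nroots, reflWord D I r = reflWord D c r) := by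
  have hD := X.hD
  have V1 := valid1_of_mem hD
  have VJ := validJ_of_mem hD
  have H := validH_of_mem hD
  have hI' := checkInv_of_mem hD
  obtain ⟨hn1, hn2⟩ := Subgroup.mem_inf.mp hn
  obtain ⟨h₀, hh₀, l, hl, e, hsym⟩ := X.mono_fix_sym hn1 (Y.le_fix hn2).2
  have hcok := Y.cls_ok c hc
  have hIlt : ∀ i ∈ I, i < D.rank := fun i hi => hcok.lt i (hI.subset hi)
  have hIl : ∀ i ∈ I ++ l, i < D.rank := by
    intro i hi
    rw [List.mem_append] at hi
    rcases hi with hi | hi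
    · exact hIlt i hi
    · exact hl i hi
  have hls := Y.toXGrp.flatten_lt hCs
  have hCs' := Y.toXGrp.clsOk hCs
  have hnI := nP_mem_monomial (F := F) hD hIl
  have h2 : (nP D F (I ++ l))⁻¹ * nP D F Cs.flatten ∈ D.diagonalSubgroup F := by
    have hc' : (nP D F (I ++ l))⁻¹ * (nP D F I * h₀ * (nP D F I)⁻¹) * (nP D F (I ++ l))⁻¹⁻¹ ∈
        D.diagonalSubgroup F :=
      (Subgroup.mem_normalizer_iff.mp (monomial_le_normalizer hD (inv_mem hnI)) _).mp
        ((Subgroup.mem_normalizer_iff.mp (monomial_le_normalizer hD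
          (nP_mem_monomial hD hIlt)) _).mp hh₀)
    have e2 : (nP D F (I ++ l))⁻¹ * nP D F Cs.flatten =
        ((nP D F (I ++ l))⁻¹ * (nP D F I * h₀ * (nP D F I)⁻¹) * (nP D F (I ++ l))⁻¹⁻¹) *
          ((nP D F I * n)⁻¹ * nP D F Cs.flatten) := by
      rw [e, nP_append]; group
    rw [e2]
    exact mul_mem hc' h
  have heq := reflWord_eq_of_mem_diagonal hD hIl hls h2
  apply Y.sub c hc I (List.mem_sublists.mpr hI)
  intro r hr
  have hlr : ∀ i ∈ l.reverse, i < D.rank := fun i hi => hl i (List.mem_reverse.mp hi)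
  have hr₀ := reflWord_lt VJ H.nS hlr hr
  have hcc := reflWord_reverse_cancel VJ H.nS hI' hl hr
  have hb₀ := X.bar_lt _ hr₀
  have h3 : reflWord D I r = reflWord D Cs.flatten (reflWord D l.reverse r) := by
    rw [← heq _ hr₀, reflWord_append, hcc]
  rw [h3, ← X.reflWord_bar hls hr₀, X.reflWord_flatten_sym hCs' _ hb₀, ← heq _ hb₀,
    reflWord_append, ← hsym _ hr₀, hcc]

/-- `n_c² ∈ H` -/
theorem nP_cls_sq (Y : XBN X cls G1) {c : List ℕ} (hc : c ∈ cls) :
    nP D F c * nP D F c ∈ D.diagonalSubgroup F := by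
  have hcok := Y.cls_ok c hc
  have hlt : ∀ i ∈ c ++ c, i < D.rank := by
    intro i hi
    rw [List.mem_append] at hi
    rcases hi with hi | hi <;> exact hcok.lt i hi
  rw [← nP_append, nP_mem_diagonal_iff X.hD hlt]
  intro r hr
  rw [reflWord_append, hcok.invol r hr]

/-- the `(B, N)`-pair of an abstract twisted group -/
theorem bnpair (Y : XBN X cls G1) :
    ∃ P : Cfsg.BNPair ↥G1, P.B = (D.borelSubgroup F ⊓ G1).subgroupOf G1 ∧
      P.N = (D.monomialSubgroup F ⊓ G1).subgroupOf G1 ∧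
      P.S = {n : ↥G1 | (n : GL D.Idx F) ∈ {x | ∃ c ∈ cls, x = nP D F c}} := by
  have hD := X.hD
  have V := valid0_of_mem hD
  have V1 := valid1_of_mem hD
  have VJ := validJ_of_mem hD
  have H := validH_of_mem hD
  have P := posP_of_mem hD
  have Tr := triP_of_mem hD
  have Y' := Y.toXGrp
  have hSmem : ∀ c ∈ cls, nP D F c ∈ D.monomialSubgroup F ⊓ G1 := fun c hc =>
    Subgroup.mem_inf.mpr ⟨nP_mem_monomial hD (Y.cls_ok c hc).lt, Y.cls_n c hc⟩
  have hHB : ∀ {x : GL D.Idx F}, x ∈ D.diagonalSubgroup F → x ∈ G1 → x ∈ D.borelSubgroup F ⊓ G1 :=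
    fun hx hx' => Subgroup.mem_inf.mpr ⟨diagonal_le_borel hx, hx'⟩
  have hUB : ∀ {x : GL D.Idx F}, x ∈ D.posUnipotent F → x ∈ G1 → x ∈ D.borelSubgroup F ⊓ G1 :=
    fun hx hx' => Subgroup.mem_inf.mpr ⟨pos_le_borel hx, hx'⟩
  apply bnpair_of_ambient G1 (D.borelSubgroup F ⊓ G1) (D.monomialSubgroup F ⊓ G1)
    {x | ∃ c ∈ cls, x = nP D F c} inf_le_right inf_le_right
  · -- `B¹ N¹ = G¹`
    apply le_antisymm (sup_le inf_le_right inf_le_right)
    intro g hg
    obtain ⟨Cs, hCs, hgood, u₁, hu₁, h₁, hh₁, u, hu, e⟩ := Y'.bruhat hg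
    obtain ⟨hu₁a, hu₁b⟩ := Subgroup.mem_inf.mp hu₁
    obtain ⟨hh₁a, hh₁b⟩ := Subgroup.mem_inf.mp hh₁
    obtain ⟨hua, hub⟩ := Subgroup.mem_inf.mp hu
    rw [e]
    refine mul_mem (mul_mem (mul_mem ?_ ?_) ?_) ?_
    · exact Subgroup.mem_sup_left (hUB hu₁a hu₁b)
    · exact Subgroup.mem_sup_left (hHB hh₁a hh₁b)
    · exact Subgroup.mem_sup_right (Subgroup.mem_inf.mpr
        ⟨nP_mem_monomial hD (Y'.flatten_lt hCs), Y'.nP_mem hCs⟩)
    · exact Subgroup.mem_sup_left (hUB (unegW_le_pos hD (Y'.flatten_lt hCs) hua) hub)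
  · -- `N¹` normalizes `H¹`
    intro n hn t ht
    obtain ⟨hn1, hn2⟩ := Subgroup.mem_inf.mp hn
    obtain ⟨ht1, ht2⟩ := Subgroup.mem_inf.mp ht
    have htH : t ∈ D.diagonalSubgroup F := by
      rw [← borel_inf_monomial hD]
      exact Subgroup.mem_inf.mpr ⟨(Subgroup.mem_inf.mp ht1).1, (Subgroup.mem_inf.mp ht2).1⟩
    exact hHB ((Subgroup.mem_normalizer_iff.mp (monomial_le_normalizer hD hn1) _).mp htH)
      (mul_mem (mul_mem hn2 (Subgroup.mem_inf.mp ht1).2) (inv_mem hn2))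
  · rintro s ⟨c, hc, rfl⟩
    exact hSmem c hc
  · rintro s ⟨c, hc, rfl⟩
    exact hHB (Y.nP_cls_sq hc) (mul_mem (Y.cls_n c hc) (Y.cls_n c hc))
  · rintro s ⟨c, hc, rfl⟩ s' ⟨c', hc', rfl⟩ h
    have hH : (nP D F c)⁻¹ * nP D F c' ∈ D.diagonalSubgroup F := by
      rw [← borel_inf_monomial hD]
      exact Subgroup.mem_inf.mpr ⟨(Subgroup.mem_inf.mp h).1,
        mul_mem (inv_mem (hSmem c hc).1) (hSmem c' hc').1⟩
    have := Y.inj c hc c' hc'
      (reflWord_eq_of_mem_diagonal hD (Y.cls_ok c hc).lt (Y.cls_ok c' hc').lt hH)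
    rw [this]
  · -- `N¹ = ⟨S⟩ H¹`
    apply le_antisymm
    · apply sup_le _ inf_le_right
      rw [Subgroup.closure_le]
      rintro s ⟨c, hc, rfl⟩
      exact hSmem c hc
    · intro n hn
      obtain ⟨hn1, hn2⟩ := Subgroup.mem_inf.mp hn
      obtain ⟨Cs, hCs, hgood, u₁, hu₁, h₁, hh₁, u, hu, e⟩ := Y'.bruhat hn2
      obtain ⟨hu₁a, hu₁b⟩ := Subgroup.mem_inf.mp hu₁
      obtain ⟨hh₁a, hh₁b⟩ := Subgroup.mem_inf.mp hh₁
      obtain ⟨hua, hub⟩ := Subgroup.mem_inf.mp hu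
      have hls := Y'.flatten_lt hCs
      have hnls := nP_mem_monomial (F := F) hD hls
      have hdc := dc_disjoint (x := n) hD hnls hn1
        ⟨u₁ * h₁, mul_mem (pos_le_borel hu₁a) (diagonal_le_borel hh₁a), u,
          pos_le_borel (unegW_le_pos hD hls hua), e⟩
        ⟨1, one_mem _, 1, one_mem _, by group⟩
      have e2 : n = nP D F Cs.flatten * ((nP D F Cs.flatten)⁻¹ * n) := by group
      rw [e2]
      refine mul_mem (Subgroup.mem_sup_left
        (nP_flatten_mem_closure (S := {x | ∃ c ∈ cls, x = nP D F c})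
          (fun c hc => ⟨c, hc, rfl⟩) hCs)) (Subgroup.mem_sup_right ?_)
      have hG : (nP D F Cs.flatten)⁻¹ * n ∈ G1 := mul_mem (inv_mem (Y'.nP_mem hCs)) hn2
      exact Subgroup.mem_inf.mpr ⟨hHB hdc hG, Subgroup.mem_inf.mpr
        ⟨mul_mem (inv_mem hnls) hn1, hG⟩⟩
  · -- the double coset condition
    rintro s ⟨c, hc, rfl⟩ n hn b hb
    obtain ⟨hn1, hn2⟩ := Subgroup.mem_inf.mp hn
    obtain ⟨hb1, hb2⟩ := Subgroup.mem_inf.mp hb
    have hsG := Y.cls_n c hc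
    have hclt := (Y.cls_ok c hc).lt
    have hgG : nP D F c * b * n ∈ G1 := mul_mem (mul_mem hsG hb2) hn2
    obtain ⟨Cs, hCs, hgood, u₁, hu₁, h₁, hh₁, u, hu, e⟩ := Y'.bruhat hgG
    obtain ⟨hu₁a, hu₁b⟩ := Subgroup.mem_inf.mp hu₁
    obtain ⟨hh₁a, hh₁b⟩ := Subgroup.mem_inf.mp hh₁
    obtain ⟨hua, hub⟩ := Subgroup.mem_inf.mp hu
    have hls := Y'.flatten_lt hCs
    have hnls := nP_mem_monomial (F := F) hD hls
    have hnlsG := Y'.nP_mem hCs
    obtain ⟨I, hI, hdc⟩ := iter_bn_mul hD c hclt hn1 hb1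
    have hIlt : ∀ i ∈ I, i < D.rank := fun i hi => hclt i (hI.subset hi)
    have hH := dc_disjoint hD (mul_mem (nP_mem_monomial hD hIlt) hn1) hnls hdc
      ⟨u₁ * h₁, mul_mem (pos_le_borel hu₁a) (diagonal_le_borel hh₁a), u,
        pos_le_borel (unegW_le_pos hD hls hua), e⟩
    have hB1 : u₁ * h₁ ∈ D.borelSubgroup F ⊓ G1 :=
      mul_mem (hUB hu₁a hu₁b) (hHB hh₁a hh₁b)
    have hB2 : u ∈ D.borelSubgroup F ⊓ G1 := hUB (unegW_le_pos hD hls hua) hub
    have hnN : ∀ {x : GL D.Idx F}, x ∈ D.diagonalSubgroup F → n⁻¹ * x * n ∈ D.diagonalSubgroup F := by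
      intro x hx
      have := (Subgroup.mem_normalizer_iff.mp (monomial_le_normalizer hD (inv_mem hn1)) _).mp hx
      rwa [inv_inv] at this
    rcases Y.sub_cases hc hI hn hCs hH with hcase | hcase
    · right
      -- `n_I ∈ H`
      have hIH : nP D F I ∈ D.diagonalSubgroup F := (nP_mem_diagonal_iff hD hIlt).mpr hcase
      have hH' : n⁻¹ * nP D F Cs.flatten ∈ D.diagonalSubgroup F := by
        have e3 : n⁻¹ * nP D F Cs.flatten =
            (n⁻¹ * nP D F I * n) * ((nP D F I * n)⁻¹ * nP D F Cs.flatten) := by group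
        rw [e3]
        exact mul_mem (hnN hIH) hH
      have hG : n⁻¹ * nP D F Cs.flatten ∈ G1 := mul_mem (inv_mem hn2) hnlsG
      refine ⟨u₁ * h₁, hB1, (n⁻¹ * nP D F Cs.flatten) * u, mul_mem (hHB hH' hG) hB2, ?_⟩
      rw [e]; group
    · left
      have hIc : (nP D F I)⁻¹ * nP D F c ∈ D.diagonalSubgroup F := by
        have := nP_mul_inv_mem_diagonal (F := F) hD hclt hIlt (fun r hr => (hcase r hr).symm)
        have h5 := (Subgroup.mem_normalizer_iff.mp (monomial_le_normalizer hD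
          (inv_mem (nP_mem_monomial (F := F) hD hIlt))) _).mp this
        have e5 : (nP D F I)⁻¹ * (nP D F c * (nP D F I)⁻¹) * (nP D F I)⁻¹⁻¹ =
            (nP D F I)⁻¹ * nP D F c := by group
        rwa [e5] at h5
      have hH' : (nP D F c * n)⁻¹ * nP D F Cs.flatten ∈ D.diagonalSubgroup F := by
        have e3 : (nP D F c * n)⁻¹ * nP D F Cs.flatten =
            (n⁻¹ * ((nP D F I)⁻¹ * nP D F c)⁻¹ * n) *
              ((nP D F I * n)⁻¹ * nP D F Cs.flatten) := by group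
        rw [e3]
        exact mul_mem (hnN (inv_mem hIc)) hH
      have hG : (nP D F c * n)⁻¹ * nP D F Cs.flatten ∈ G1 :=
        mul_mem (inv_mem (mul_mem hsG hn2)) hnlsG
      refine ⟨u₁ * h₁, hB1, ((nP D F c * n)⁻¹ * nP D F Cs.flatten) * u,
        mul_mem (hHB hH' hG) hB2, ?_⟩
      rw [e]; group
  · -- `s B¹ s ≠ B¹`
    rintro s ⟨c, hc, rfl⟩
    have hcok := Y.cls_ok c hc
    obtain ⟨u, hu, hu1⟩ := Y.nontriv c hc
    obtain ⟨huU, huG⟩ := Subgroup.mem_inf.mp hu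
    refine ⟨u, hUB (unegW_le_pos hD hcok.lt huU) huG, fun hcon => ?_⟩
    have hV := conj_unegW_neg hD hcok.lt huU
    have hsq := Y.nP_cls_sq hc
    have hB : nP D F c * u * (nP D F c)⁻¹ ∈ D.borelSubgroup F := by
      have e : nP D F c * u * (nP D F c)⁻¹ =
          (nP D F c * u * nP D F c) * (nP D F c * nP D F c)⁻¹ := by group
      rw [e]
      exact mul_mem (Subgroup.mem_inf.mp hcon).1 (inv_mem (diagonal_le_borel hsq))
    have h1 : nP D F c * u * (nP D F c)⁻¹ ∈ D.borelSubgroup F ⊓ D.negUnipotent F :=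
      Subgroup.mem_inf.mpr ⟨hB, hV⟩
    rw [borel_inf_neg VJ V1 H Tr P, Subgroup.mem_bot] at h1
    apply hu1
    have : u = (nP D F c)⁻¹ * (nP D F c * u * (nP D F c)⁻¹) * nP D F c := by group
    rw [this, h1]; group

end XBN

end Cfsg.Agent.Lib.Helper8.Chev
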