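import Cfsg.Agent.Lib.Helper8.ChevRF13
import Cfsg.Agent.Lib.Helper8.ChevXT6

set_option autoImplicit false
set_option maxRecDepth 100000

/-! The `(B, N)`-pair of `²F₄(K)`. -/

namespace Cfsg.Agent.Lib.Helper8.Chev

open Cfsg.Lie Matrix

theorem clsF4_inj : ∀ c ∈ clsF4, ∀ c' ∈ clsF4,
    (∀ r < chevF4.nroots, reflWord chevF4 c r = reflWord chevF4 c' r) → c = c' := by
  decide +kernel

theorem clsF4_sub : ∀ c ∈ clsF4, ∀ I ∈ c.sublists,
    (∀ r < chevF4.nroots, barF4 (reflWord chevF4 I r) = reflWord chevF4 I (barF4 r)) →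
      (∀ r < chevF4.nroots, reflWord chevF4 I r = r) ∨
        (∀ r < chevF4.nroots, reflWord chevF4 I r = reflWord chevF4 c r) := by
  decide +kernel

section

variable {K : Type*} [Field K] [Fintype K] [CharP K 2] {m : ℕ}
  {σ : GL chevF4.Idx K → GL chevF4.Idx K}

omit [Fintype K] [CharP K 2] in
theorem clsA_nontriv (m : ℕ) : ∃ u ∈ UnegW chevF4 K [0, 3] ⊓ twistedF4 K (2 ^ m), u ≠ 1 := by
  obtain ⟨g, hg, e⟩ := word_mem_unegW (K := K) [0, 3] (f4PairWord (2 ^ m) 33 24 1) (by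
    intro p hp
    unfold f4PairWord at hp
    simp only [List.mem_cons, List.not_mem_nil, or_false] at hp
    rcases hp with rfl | rfl
    · exact ⟨by norm_num, by norm_num, reflA_gen.2⟩
    · exact ⟨by norm_num, by norm_num, reflA_gen.1⟩)
  refine ⟨g, Subgroup.mem_inf.mpr ⟨hg, clsA_mem_twisted _ 1 g e⟩, ?_⟩
  rintro rfl
  rw [Units.val_one, pairWord_mat, one_pow, xA_comm] at e
  have h0 : (1 : Matrix chevF4.Idx chevF4.Idx K) = chevF4.x K 24 0 * chevF4.x K 33 0 := by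
    rw [xF_zero, xF_zero, mul_one]
  rw [h0] at e
  exact zero_ne_one (N2A_inj e).1

omit [Fintype K] in
theorem clsB_nontriv (m : ℕ) :
    ∃ u ∈ UnegW chevF4 K [1, 2, 1, 2] ⊓ twistedF4 K (2 ^ m), u ≠ 1 := by
  have hB := b2Rel_pos (K := K)
  obtain ⟨g, hg, e⟩ := word_mem_unegW (K := K) [1, 2, 1, 2]
    (b2ClassWord (2 ^ m) 27 25 28 30 1 0) (by
    intro p hp
    unfold b2ClassWord at hp
    simp only [List.mem_cons, List.not_mem_nil, or_false] at hp
    rcases hp with rfl | rfl | rfl | rfl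
    · exact ⟨by norm_num, by norm_num, reflB_gen.2.1⟩
    · exact ⟨by norm_num, by norm_num, reflB_gen.1⟩
    · exact ⟨by norm_num, by norm_num, reflB_gen.2.2.1⟩
    · exact ⟨by norm_num, by norm_num, reflB_gen.2.2.2⟩)
  refine ⟨g, Subgroup.mem_inf.mpr ⟨hg, clsB_mem_twisted _ 1 0 g e⟩, ?_⟩
  rintro rfl
  rw [Units.val_one, clsWordB_mat, hB.word_eq_N4, ← hB.N4_zero] at e
  exact zero_ne_one (N4B_inj e).1

/-- `²F₄(K)` has the data of a `(B, N)`-pair -/
theorem xBN_F4 (hK : Fintype.card K = 2 ^ (2 * m + 1))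
    (X : XEnd chevF4 K σ barF4 rhoF4 (expF4 m)) : XBN X clsF4 (twistedF4 K (2 ^ m)) where
  toXGrp := xGrp_F4 hK X
  inj := clsF4_inj
  sub := clsF4_sub
  nontriv := by
    intro c hc
    simp only [clsF4, List.mem_cons, List.not_mem_nil, or_false] at hc
    rcases hc with rfl | rfl
    · exact clsA_nontriv m
    · exact clsB_nontriv m

end

end Cfsg.Agent.Lib.Helper8.Chev
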