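import Cfsg.Agent.Lib.Helper8.ChevXT7
import Cfsg.Agent.Lib.Helper8.ChevTw21

set_option autoImplicit false

/-! Abstract twisted groups: the normal core of `B¹` is trivial. -/

namespace Cfsg.Agent.Lib.Helper8.Chev

open Cfsg.Lie Matrix

section

variable {D : ChevalleyDatum} {F : Type*} [Field F]

/-- a torus element whose character is trivial on the fundamental roots is trivial -/
theorem torus_eq_one_of_simple (hD : D ∈ [chevG2, chevB2, chevD4, chevF4, chevE6, chevE7, chevE8])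
    {x : GL D.Idx F} (hx : x ∈ D.diagonalSubgroup F) {f : ℕ → Fˣ}
    (hm : (x : Matrix D.Idx D.Idx F) = diagC D (fun s => ((f s : Fˣ) : F)))
    (h1 : ∀ j < D.rank, ((f (D.simple j) : Fˣ) : F) = 1) : x = 1 := by
  have VJ := validJ_of_mem hD
  have V1 := valid1_of_mem hD
  have H := validH_of_mem hD
  have hx' := hx
  rw [diagonal_eq_range VJ V1 H] at hx'
  obtain ⟨c, rfl⟩ := hx'
  have hfc : ∀ s < D.nroots, ((f s : Fˣ) : F) = ((chiT D c s : Fˣ) : F) := by
    intro s hs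
    have : diagC D (fun s => ((f s : Fˣ) : F)) = diagC D (fun s => ((chiT D c s : Fˣ) : F)) := by
      rw [← hm, torMap_apply, coe_diagU]
    exact diagC_inj this hs
  have hker : c ∈ (torMap D F).ker := by
    rw [ker_torMap_eq VJ (rootCoord_of_mem hD), MonoidHom.mem_ker]
    funext j
    rw [torHom_apply, Pi.one_apply]
    apply Units.ext
    have := h1 j.val j.isLt
    rw [hfc _ (VJ.S j.val j.isLt).1] at this
    exact this
  exact hker

end

namespace XGrp

variable {D : ChevalleyDatum} {F : Type*} [Field F] {σ : GL D.Idx F → GL D.Idx F}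
  {bar ρ E : ℕ → ℕ} {X : XEnd D F σ bar ρ E} {cls : List (List ℕ)}
  {G1 : Subgroup (GL D.Idx F)}

/-- the normal core of `B¹` is trivial -/
theorem core_eq_bot (Y : XGrp X cls G1)
    (hcen : ∀ x ∈ D.diagonalSubgroup F,
      (∀ u ∈ D.posUnipotent F ⊓ G1, x * u = u * x) → x = 1) :
    ((D.borelSubgroup F ⊓ G1).subgroupOf G1).normalCore = ⊥ := by
  have hD := X.hD
  have V := valid0_of_mem hD
  have V1 := valid1_of_mem hD
  have VJ := validJ_of_mem hD
  have H := validH_of_mem hD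
  have P := posP_of_mem hD
  have Tr := triP_of_mem hD
  obtain ⟨Cs, hCs, hgood, hfull⟩ := Y.w0
  have hls := Y.flatten_lt hCs
  have hn₀ := Y.nP_mem hCs
  -- elements of the core lie in `H`
  have hcore : ∀ x : ↥G1, x ∈ ((D.borelSubgroup F ⊓ G1).subgroupOf G1).normalCore →
      (x : GL D.Idx F) ∈ D.diagonalSubgroup F := by
    intro x hx
    have h1 : (x : GL D.Idx F) ∈ D.borelSubgroup F ⊓ G1 :=
      Subgroup.mem_subgroupOf.mp (Subgroup.normalCore_le _ hx)
    have h2 : (nP D F Cs.flatten)⁻¹ * (x : GL D.Idx F) * nP D F Cs.flatten ∈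
        D.borelSubgroup F ⊓ G1 := by
      have := (show ∀ b : ↥G1, b * x * b⁻¹ ∈ (D.borelSubgroup F ⊓ G1).subgroupOf G1 from hx)
        (⟨nP D F Cs.flatten, hn₀⟩ : ↥G1)⁻¹
      have := Subgroup.mem_subgroupOf.mp this
      simpa using this
    obtain ⟨u, hu, h, hh, e⟩ := Y.borel_decomp h2
    have hu' : u ∈ UnegW D F Cs.flatten := by
      rw [unegW_eq_pos F P hfull]; exact (Subgroup.mem_inf.mp hu).1
    have hV : nP D F Cs.flatten * u * (nP D F Cs.flatten)⁻¹ ∈ D.negUnipotent F :=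
      conj_unegS_le_neg _ ⟨u, unegW_le_unegS hD hls hu', rfl⟩
    have hH : nP D F Cs.flatten * h * (nP D F Cs.flatten)⁻¹ ∈ D.diagonalSubgroup F :=
      (Subgroup.mem_normalizer_iff.mp (monomial_le_normalizer hD (nP_mem_monomial hD hls)) _).mp
        (Subgroup.mem_inf.mp hh).1
    have e2 : (x : GL D.Idx F) = (nP D F Cs.flatten * u * (nP D F Cs.flatten)⁻¹) *
        (nP D F Cs.flatten * h * (nP D F Cs.flatten)⁻¹) := by
      have : (x : GL D.Idx F) = nP D F Cs.flatten *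
          ((nP D F Cs.flatten)⁻¹ * (x : GL D.Idx F) * nP D F Cs.flatten) *
          (nP D F Cs.flatten)⁻¹ := by group
      rw [this, e]; group
    rw [← borel_inf_neg_sup_diagonal VJ V1 H Tr P]
    refine Subgroup.mem_inf.mpr ⟨(Subgroup.mem_inf.mp h1).1, ?_⟩
    rw [e2]
    exact mul_mem (Subgroup.mem_sup_left hV) (Subgroup.mem_sup_right hH)
  rw [Subgroup.eq_bot_iff_forall]
  intro x hx
  apply Subtype.ext
  rw [Subgroup.coe_one]
  apply hcen _ (hcore x hx)
  intro u hu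
  obtain ⟨hbU, hbG⟩ := Subgroup.mem_inf.mp hu
  have hN := Subgroup.normalCore_normal ((D.borelSubgroup F ⊓ G1).subgroupOf G1)
  have h1 : x * ((⟨u, hbG⟩ : ↥G1) * x⁻¹ * (⟨u, hbG⟩ : ↥G1)⁻¹) ∈
      ((D.borelSubgroup F ⊓ G1).subgroupOf G1).normalCore :=
    mul_mem hx (hN.conj_mem _ (inv_mem hx) _)
  have h2 := hcore _ h1
  have h3 : (x : GL D.Idx F) * u * (x : GL D.Idx F)⁻¹ ∈ D.posUnipotent F :=
    torusLike_conj_pos V (torusLike_of_mem VJ V1 H (hcore x hx)) u hbU
  have h4 : (x : GL D.Idx F) * u * (x : GL D.Idx F)⁻¹ * u⁻¹ ∈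
      D.posUnipotent F ⊓ D.diagonalSubgroup F := by
    refine Subgroup.mem_inf.mpr ⟨mul_mem h3 (inv_mem hbU), ?_⟩
    have e : (x : GL D.Idx F) * u * (x : GL D.Idx F)⁻¹ * u⁻¹ =
        ((x * ((⟨u, hbG⟩ : ↥G1) * x⁻¹ * (⟨u, hbG⟩ : ↥G1)⁻¹) : ↥G1) : GL D.Idx F) := by
      simp [mul_assoc]
    rw [e]
    exact h2
  rw [pos_inf_diagonal VJ V1 H Tr P, Subgroup.mem_bot] at h4
  calc (x : GL D.Idx F) * u = ((x : GL D.Idx F) * u * (x : GL D.Idx F)⁻¹ * u⁻¹) * u * x := by group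
    _ = u * x := by rw [h4, one_mul]

end XGrp

end Cfsg.Agent.Lib.Helper8.Chev
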