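import Cfsg.Agent.Lib.Helper8.ChevRF15
import Cfsg.Agent.Lib.Helper8.ChevXT8

set_option autoImplicit false

/-! The normal core of `B¹` in `²F₄(K)` is trivial. -/

namespace Cfsg.Agent.Lib.Helper8.Chev

open Cfsg.Lie Matrix

section

variable {K : Type*} [Field K] [CharP K 2] {m : ℕ}

/-- a torus element centralizing `U¹` is trivial -/
theorem cen_F4 (m : ℕ) : ∀ x ∈ chevF4.diagonalSubgroup K,
    (∀ u ∈ chevF4.posUnipotent K ⊓ twistedF4 K (2 ^ m), x * u = u * x) → x = 1 := by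
  intro x hx hc
  have V := valid0_of_mem hDF4
  have V1 := valid1_of_mem hDF4
  have J := validJ_of_mem hDF4
  have H := validH_of_mem hDF4
  have hB := b2Rel_pos (K := K)
  obtain ⟨f, hf, hm⟩ := torusLike_of_mem J V1 H hx
  -- the class of type `A₁ × A₁`
  obtain ⟨gA, hgA, eA⟩ := word_mem_unegW (K := K) [0, 3] (f4PairWord (2 ^ m) 33 24 1) (by
    intro p hp
    unfold f4PairWord at hp
    simp only [List.mem_cons, List.not_mem_nil, or_false] at hp
    rcases hp with rfl | rfl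
    · exact ⟨by norm_num, by norm_num, reflA_gen.2⟩
    · exact ⟨by norm_num, by norm_num, reflA_gen.1⟩)
  have hA1 : gA ∈ chevF4.posUnipotent K ⊓ twistedF4 K (2 ^ m) :=
    Subgroup.mem_inf.mpr ⟨unegW_le_pos hDF4 (by decide) hgA, clsA_mem_twisted _ 1 gA eA⟩
  have hA2 : x * gA * x⁻¹ = gA := mul_inv_eq_of_eq_mul (hc gA hA1)
  have hA3 := torus_conj_word V hf hm (f4PairWord (2 ^ m) 33 24 1) (by
    intro p hp
    unfold f4PairWord at hp
    simp only [List.mem_cons, List.not_mem_nil, or_false] at hp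
    rcases hp with rfl | rfl <;> (dsimp only; decide)) gA (by rw [eA, wordMat_eq_wN])
  rw [hA2, eA, pairWord_mat] at hA3
  unfold f4PairWord at hA3
  simp only [List.map_cons, List.map_nil, wNF_cons, wN_nil, mul_one, one_pow] at hA3
  rw [xA_comm, xA_comm] at hA3
  obtain ⟨a24, a33⟩ := N2A_inj hA3
  -- the class of type `B₂`
  obtain ⟨gB, hgB, eB⟩ := word_mem_unegW (K := K) [1, 2, 1, 2]
    (b2ClassWord (2 ^ m) 27 25 28 30 1 0) (by
    intro p hp
    unfold b2ClassWord at hp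
    simp only [List.mem_cons, List.not_mem_nil, or_false] at hp
    rcases hp with rfl | rfl | rfl | rfl
    · exact ⟨by norm_num, by norm_num, reflB_gen.2.1⟩
    · exact ⟨by norm_num, by norm_num, reflB_gen.1⟩
    · exact ⟨by norm_num, by norm_num, reflB_gen.2.2.1⟩
    · exact ⟨by norm_num, by norm_num, reflB_gen.2.2.2⟩)
  have hB1 : gB ∈ chevF4.posUnipotent K ⊓ twistedF4 K (2 ^ m) :=
    Subgroup.mem_inf.mpr ⟨unegW_le_pos hDF4 (by decide) hgB, clsB_mem_twisted _ 1 0 gB eB⟩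
  have hB2 : x * gB * x⁻¹ = gB := mul_inv_eq_of_eq_mul (hc gB hB1)
  have hB3 := torus_conj_word V hf hm (b2ClassWord (2 ^ m) 27 25 28 30 1 0) (by
    intro p hp
    unfold b2ClassWord at hp
    simp only [List.mem_cons, List.not_mem_nil, or_false] at hp
    rcases hp with rfl | rfl | rfl | rfl <;> (dsimp only; decide)) gB (by rw [eB, wordMat_eq_wN])
  rw [hB2, eB, clsWordB_mat] at hB3
  unfold b2ClassWord at hB3
  simp only [List.map_cons, List.map_nil, wNF_cons, wN_nil, mul_one, one_pow] at hB3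
  have hB4 : yB K 1 1 * (yB K 0 1 * (yB K 2 (1 + 0) * yB K 3 (0 ^ (2 * 2 ^ m)))) =
      yB K 1 ((f 27 : Kˣ) : K) * (yB K 0 ((f 25 : Kˣ) : K) *
        (yB K 2 (((f 28 : Kˣ) : K) * (1 + 0)) *
          yB K 3 (((f 30 : Kˣ) : K) * 0 ^ (2 * 2 ^ m)))) := hB3
  rw [hB.word_eq_N4, hB.word_eq_N4] at hB4
  obtain ⟨b25, b27, -, -⟩ := N4B_inj hB4
  apply torus_eq_one_of_simple hDF4 hx hm
  intro j hj
  have hj' : j < 4 := hj
  obtain ⟨s0, s1, s2, s3⟩ := simpleF4_vals
  interval_cases j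
  · rw [s0]; exact a33.symm
  · rw [s1]; exact b27.symm
  · rw [s2]; exact b25.symm
  · rw [s3]; exact a24.symm

variable [Fintype K] {σ : GL chevF4.Idx K → GL chevF4.Idx K}

/-- the normal core of `B¹` in `²F₄(K)` is trivial -/
theorem core_twistedF4 (hK : Fintype.card K = 2 ^ (2 * m + 1))
    (X : XEnd chevF4 K σ barF4 rhoF4 (expF4 m)) :
    ((chevF4.borelSubgroup K ⊓ twistedF4 K (2 ^ m)).subgroupOf
      (twistedF4 K (2 ^ m))).normalCore = ⊥ :=
  (xGrp_F4 hK X).core_eq_bot (cen_F4 m)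

end

end Cfsg.Agent.Lib.Helper8.Chev
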