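import Cfsg.Agent.Lib.Helper8.ChevXT8
import Cfsg.Agent.Lib.Helper10.DihedralRecog

set_option autoImplicit false

/-! Abstract twisted groups with two classes: the Weyl group is dihedral. -/

namespace Cfsg.Agent.Lib.Helper8.Chev

open Cfsg.Lie Matrix

namespace XGrp

variable {D : ChevalleyDatum} {F : Type*} [Field F] {σ : GL D.Idx F → GL D.Idx F}
  {bar ρ E : ℕ → ℕ} {X : XEnd D F σ bar ρ E} {cls : List (List ℕ)}
  {G1 : Subgroup (GL D.Idx F)}

/-- every element of `N¹` is a class word times an element of `H¹` -/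
theorem mono_form (Y : XGrp X cls G1) {n : GL D.Idx F} (hn : n ∈ D.monomialSubgroup F ⊓ G1) :
    ∃ Cs : List (List ℕ), (∀ c ∈ Cs, c ∈ cls) ∧
      (nP D F Cs.flatten)⁻¹ * n ∈ D.diagonalSubgroup F ⊓ G1 := by
  have hD := X.hD
  obtain ⟨hn1, hn2⟩ := Subgroup.mem_inf.mp hn
  obtain ⟨Cs, hCs, hgood, u₁, hu₁, h₁, hh₁, u, hu, e⟩ := Y.bruhat hn2
  obtain ⟨hu₁a, hu₁b⟩ := Subgroup.mem_inf.mp hu₁
  obtain ⟨hh₁a, hh₁b⟩ := Subgroup.mem_inf.mp hh₁
  obtain ⟨hua, hub⟩ := Subgroup.mem_inf.mp hu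
  have hls := Y.flatten_lt hCs
  have hnls := nP_mem_monomial (F := F) hD hls
  have hdc := dc_disjoint (x := n) hD hnls hn1
    ⟨u₁ * h₁, mul_mem (pos_le_borel hu₁a) (diagonal_le_borel hh₁a), u,
      pos_le_borel (unegW_le_pos hD hls hua), e⟩
    ⟨1, one_mem _, 1, one_mem _, by group⟩
  exact ⟨Cs, hCs, Subgroup.mem_inf.mpr ⟨hdc, mul_mem (inv_mem (Y.nP_mem hCs)) hn2⟩⟩

/-- `H¹` is normal in `N¹` -/
theorem torus_normal (_ : XGrp X cls G1) :
    ((D.diagonalSubgroup F ⊓ G1).subgroupOf (D.monomialSubgroup F ⊓ G1)).Normal := by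
  have hD := X.hD
  constructor
  intro t ht n
  rw [Subgroup.mem_subgroupOf] at ht ⊢
  obtain ⟨ht1, ht2⟩ := Subgroup.mem_inf.mp ht
  obtain ⟨hn1, hn2⟩ := Subgroup.mem_inf.mp n.2
  refine Subgroup.mem_inf.mpr ⟨?_, ?_⟩
  · exact (Subgroup.mem_normalizer_iff.mp (monomial_le_normalizer hD hn1) _).mp ht1
  · exact mul_mem (mul_mem hn2 ht2) (inv_mem hn2)

/-- the Weyl group of an abstract twisted group with two classes is dihedral -/
theorem exists_hom_dihedral (Y : XGrp X cls G1) {A B : List ℕ} (hcls : cls = [A, B])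
    (m : ℕ) [NeZero m] (hord : OrdW D (A ++ B) m)
    (hnot : ∀ k < m, ¬ ∀ r < D.nroots, reflWord D (A ++ repL k (A ++ B)) r = r) :
    ∃ φ : ↥(D.monomialSubgroup F ⊓ G1) →* DihedralGroup m, Function.Surjective φ ∧
      φ.ker = (D.diagonalSubgroup F ⊓ G1).subgroupOf (D.monomialSubgroup F ⊓ G1) := by
  classical
  have hD := X.hD
  have hA : A ∈ cls := by rw [hcls]; simp
  have hB : B ∈ cls := by rw [hcls]; simp
  have hAlt := (Y.cls_ok A hA).lt
  have hBlt := (Y.cls_ok B hB).lt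
  have := Y.torus_normal
  -- words in `A` and `B`
  have hwlt : ∀ l : List ℕ, (∀ i ∈ l, i ∈ A ∨ i ∈ B) → ∀ i ∈ l, i < D.rank := by
    intro l hl i hi
    rcases hl i hi with h | h
    · exact hAlt i h
    · exact hBlt i h
  set T := (D.diagonalSubgroup F ⊓ G1).subgroupOf (D.monomialSubgroup F ⊓ G1) with hT
  -- the class of a word
  have hmk : ∀ (l : List ℕ) (hl : ∀ i ∈ l, i < D.rank) (hG : nP D F l ∈ G1),
      ((QuotientGroup.mk' T) ⟨nP D F l, Subgroup.mem_inf.mpr ⟨nP_mem_monomial hD hl, hG⟩⟩ = 1 ↔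
        ∀ r < D.nroots, reflWord D l r = r) := by
    intro l hl hG
    rw [QuotientGroup.mk'_apply, QuotientGroup.eq_one_iff, hT, Subgroup.mem_subgroupOf,
      ← nP_mem_diagonal_iff (F := F) hD hl]
    constructor
    · intro h; exact (Subgroup.mem_inf.mp h).1
    · intro h; exact Subgroup.mem_inf.mpr ⟨h, hG⟩
  have hAG := Y.cls_n A hA
  have hBG := Y.cls_n B hB
  let nA : ↥(D.monomialSubgroup F ⊓ G1) :=
    ⟨nP D F A, Subgroup.mem_inf.mpr ⟨nP_mem_monomial hD hAlt, hAG⟩⟩
  let nB : ↥(D.monomialSubgroup F ⊓ G1) :=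
    ⟨nP D F B, Subgroup.mem_inf.mpr ⟨nP_mem_monomial hD hBlt, hBG⟩⟩
  set a := (QuotientGroup.mk' T) nA with ha
  set b := (QuotientGroup.mk' T) nB with hb
  have hAAlt : ∀ i ∈ A ++ A, i < D.rank := by
    intro i hi; rw [List.mem_append] at hi; rcases hi with h | h <;> exact hAlt i h
  have hBBlt : ∀ i ∈ B ++ B, i < D.rank := by
    intro i hi; rw [List.mem_append] at hi; rcases hi with h | h <;> exact hBlt i h
  have hABlt : ∀ i ∈ A ++ B, i < D.rank := by
    intro i hi; rw [List.mem_append] at hi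
    rcases hi with h | h
    · exact hAlt i h
    · exact hBlt i h
  have hAAG : nP D F (A ++ A) ∈ G1 := by rw [nP_append]; exact mul_mem hAG hAG
  have hBBG : nP D F (B ++ B) ∈ G1 := by rw [nP_append]; exact mul_mem hBG hBG
  have haa : a * a = 1 := by
    have h1 : a * a = (QuotientGroup.mk' T) ⟨nP D F (A ++ A),
        Subgroup.mem_inf.mpr ⟨nP_mem_monomial hD hAAlt, hAAG⟩⟩ := by
      rw [ha, ← map_mul]
      congr 1
      apply Subtype.ext
      show nP D F A * nP D F A = nP D F (A ++ A)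
      rw [nP_append]
    rw [h1, hmk _ hAAlt hAAG]
    intro r hr
    rw [reflWord_append, (Y.cls_ok A hA).invol r hr]
  have hbb : b * b = 1 := by
    have h1 : b * b = (QuotientGroup.mk' T) ⟨nP D F (B ++ B),
        Subgroup.mem_inf.mpr ⟨nP_mem_monomial hD hBBlt, hBBG⟩⟩ := by
      rw [hb, ← map_mul]
      congr 1
      apply Subtype.ext
      show nP D F B * nP D F B = nP D F (B ++ B)
      rw [nP_append]
    rw [h1, hmk _ hBBlt hBBG]
    intro r hr
    rw [reflWord_append, (Y.cls_ok B hB).invol r hr]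
  have hainv : a⁻¹ = a := inv_eq_of_mul_eq_one_left haa
  have hbinv : b⁻¹ = b := inv_eq_of_mul_eq_one_left hbb
  set x := a * b with hx
  -- powers of `x`
  have hxk : ∀ k : ℕ, ∃ hG : nP D F (repL k (A ++ B)) ∈ G1,
      x ^ k = (QuotientGroup.mk' T) ⟨nP D F (repL k (A ++ B)),
        Subgroup.mem_inf.mpr ⟨nP_mem_monomial hD (repL_lt hABlt), hG⟩⟩ := by
    intro k
    have hG : nP D F (repL k (A ++ B)) ∈ G1 := by
      rw [nP_repL, nP_append]; exact pow_mem (mul_mem hAG hBG) k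
    refine ⟨hG, ?_⟩
    rw [hx, ha, hb, ← map_mul, ← map_pow]
    congr 1
    apply Subtype.ext
    show (nP D F A * nP D F B) ^ k = nP D F (repL k (A ++ B))
    rw [nP_repL, nP_append]
  have hpow : ∀ k : ℕ, x ^ k = 1 ↔ ∀ r < D.nroots, reflWord D (repL k (A ++ B)) r = r := by
    intro k
    obtain ⟨hG, e⟩ := hxk k
    rw [e, hmk _ (repL_lt hABlt) hG]
  obtain ⟨h0, h1, h2⟩ := hord
  have hordx : orderOf x = m := by
    rw [orderOf_eq_iff h0]
    exact ⟨(hpow m).mpr h1, fun k hk hk0 hcon => h2 k hk hk0 ((hpow k).mp hcon)⟩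
  have hconj : a * x * a⁻¹ = x⁻¹ := by
    rw [hx, _root_.mul_inv_rev, hainv, hbinv, ← mul_assoc, haa, one_mul]
  have hnotmem : a ∉ Subgroup.zpowers x := by
    intro hmem
    obtain ⟨j, hj⟩ := Subgroup.mem_zpowers_iff.mp hmem
    have hj' : x ^ (j % (m : ℤ)) = a := by
      rw [← hordx, zpow_mod_orderOf]; exact hj
    have hm0 : (m : ℤ) ≠ 0 := by exact_mod_cast (NeZero.ne m)
    have hnn := Int.emod_nonneg j hm0
    have hlt := Int.emod_lt_of_pos j (by exact_mod_cast h0 : (0 : ℤ) < m)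
    obtain ⟨k, hk⟩ := Int.eq_ofNat_of_zero_le hnn
    rw [hk, zpow_natCast] at hj'
    have hkm : k < m := by rw [hk] at hlt; exact_mod_cast hlt
    apply hnot k hkm
    have hlt' : ∀ i ∈ A ++ repL k (A ++ B), i < D.rank := by
      intro i hi; rw [List.mem_append] at hi
      rcases hi with h | h
      · exact hAlt i h
      · exact repL_lt hABlt i h
    obtain ⟨hG, e⟩ := hxk k
    have hG' : nP D F (A ++ repL k (A ++ B)) ∈ G1 := by
      rw [nP_append]; exact mul_mem hAG hG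
    rw [← hmk _ hlt' hG']
    have : (QuotientGroup.mk' T) ⟨nP D F (A ++ repL k (A ++ B)),
        Subgroup.mem_inf.mpr ⟨nP_mem_monomial hD hlt', hG'⟩⟩ = a * x ^ k := by
      rw [e, ha, ← map_mul]
      congr 1
      apply Subtype.ext
      show nP D F (A ++ repL k (A ++ B)) = nP D F A * nP D F (repL k (A ++ B))
      rw [nP_append]
    rw [this, hj', haa]
  obtain ⟨e⟩ := Cfsg.Agent.Lib.Helper10.nonempty_mulEquiv_dihedralGroup m a x hordx haa hconj
    hnotmem
  -- generation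
  have htop : Subgroup.zpowers a ⊔ Subgroup.zpowers x = ⊤ := by
    rw [eq_top_iff]
    intro y _
    obtain ⟨n, rfl⟩ := QuotientGroup.mk'_surjective T y
    have ha' : a ∈ Subgroup.zpowers a ⊔ Subgroup.zpowers x :=
      Subgroup.mem_sup_left (Subgroup.mem_zpowers a)
    have hb' : b ∈ Subgroup.zpowers a ⊔ Subgroup.zpowers x := by
      have : b = a⁻¹ * x := by rw [hx, inv_mul_cancel_left]
      rw [this]
      exact mul_mem (inv_mem ha') (Subgroup.mem_sup_right (Subgroup.mem_zpowers x))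
    obtain ⟨Cs, hCs, hh⟩ := Y.mono_form n.2
    -- the class words lie in the subgroup
    have hword : ∀ Cs : List (List ℕ), (∀ c ∈ Cs, c ∈ cls) →
        ∀ (hm : nP D F Cs.flatten ∈ D.monomialSubgroup F ⊓ G1),
          (QuotientGroup.mk' T) ⟨nP D F Cs.flatten, hm⟩ ∈
            Subgroup.zpowers a ⊔ Subgroup.zpowers x := by
      intro Cs
      induction Cs with
      | nil =>
        intro _ hm
        have : (⟨nP D F ([] : List (List ℕ)).flatten, hm⟩ : ↥(D.monomialSubgroup F ⊓ G1)) = 1 := by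
          apply Subtype.ext
          show nP D F ([] : List (List ℕ)).flatten = 1
          rw [List.flatten_nil, nP_nil]
        rw [this, map_one]
        exact one_mem _
      | cons c Cs ih =>
        intro hCs hm
        have hc := hCs c List.mem_cons_self
        have hCs' : ∀ c' ∈ Cs, c' ∈ cls := fun c' hc' => hCs c' (List.mem_cons_of_mem _ hc')
        have hm' : nP D F Cs.flatten ∈ D.monomialSubgroup F ⊓ G1 :=
          Subgroup.mem_inf.mpr ⟨nP_mem_monomial hD (Y.flatten_lt hCs'), Y.nP_mem hCs'⟩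
        have hmc : nP D F c ∈ D.monomialSubgroup F ⊓ G1 :=
          Subgroup.mem_inf.mpr ⟨nP_mem_monomial hD (Y.cls_ok c hc).lt, Y.cls_n c hc⟩
        have e1 : (⟨nP D F (c :: Cs).flatten, hm⟩ : ↥(D.monomialSubgroup F ⊓ G1)) =
            ⟨nP D F c, hmc⟩ * ⟨nP D F Cs.flatten, hm'⟩ := by
          apply Subtype.ext
          show nP D F (c :: Cs).flatten = nP D F c * nP D F Cs.flatten
          rw [List.flatten_cons, nP_append]
        rw [e1, map_mul]
        refine mul_mem ?_ (ih hCs' hm')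
        rw [hcls] at hc
        simp only [List.mem_cons, List.not_mem_nil, or_false] at hc
        rcases hc with rfl | rfl
        · exact ha'
        · exact hb'
    have hmCs : nP D F Cs.flatten ∈ D.monomialSubgroup F ⊓ G1 :=
      Subgroup.mem_inf.mpr ⟨nP_mem_monomial hD (Y.flatten_lt hCs), Y.nP_mem hCs⟩
    have e2 : (QuotientGroup.mk' T) n = (QuotientGroup.mk' T) ⟨nP D F Cs.flatten, hmCs⟩ := by
      rw [QuotientGroup.mk'_apply, QuotientGroup.mk'_apply, eq_comm, QuotientGroup.eq, hT,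
        Subgroup.mem_subgroupOf]
      exact hh
    rw [e2]
    exact hword Cs hCs hmCs
  let e' : (↥(D.monomialSubgroup F ⊓ G1) ⧸ T) ≃* DihedralGroup m :=
    (Subgroup.topEquiv.symm.trans (MulEquiv.subgroupCongr htop.symm)).trans e
  refine ⟨e'.toMonoidHom.comp (QuotientGroup.mk' T), ?_, ?_⟩
  · exact e'.surjective.comp (QuotientGroup.mk'_surjective _)
  · ext n
    rw [MonoidHom.mem_ker, MonoidHom.comp_apply]
    show e' (QuotientGroup.mk' T n) = 1 ↔ _
    rw [MulEquiv.map_eq_one_iff, QuotientGroup.mk'_apply, QuotientGroup.eq_one_iff]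

end XGrp

end Cfsg.Agent.Lib.Helper8.Chev
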