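import Cfsg.Agent.Lib.Helper8.ChevRF16
import Cfsg.Agent.Lib.Helper8.ChevXT9

set_option autoImplicit false
set_option maxRecDepth 100000

/-! The Weyl group of `²F₄(K)` is dihedral of order 16. -/

namespace Cfsg.Agent.Lib.Helper8.Chev

open Cfsg.Lie Matrix

theorem ordW_F4 : OrdW chevF4 ([0, 3] ++ [1, 2, 1, 2]) 8 := by decide +kernel

theorem notW_F4 : ∀ k < 8, ¬ ∀ r < chevF4.nroots,
    reflWord chevF4 ([0, 3] ++ repL k ([0, 3] ++ [1, 2, 1, 2])) r = r := by decide +kernel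

section

variable {K : Type*} [Field K] [Fintype K] [CharP K 2] {m : ℕ}
  {σ : GL chevF4.Idx K → GL chevF4.Idx K}

/-- `N¹ / H¹` is dihedral of order 16 -/
theorem weyl_twistedF4 (hK : Fintype.card K = 2 ^ (2 * m + 1))
    (X : XEnd chevF4 K σ barF4 rhoF4 (expF4 m)) :
    ∃ φ : ↥(chevF4.monomialSubgroup K ⊓ twistedF4 K (2 ^ m)) →* DihedralGroup 8,
      Function.Surjective φ ∧
      φ.ker = (chevF4.diagonalSubgroup K ⊓ twistedF4 K (2 ^ m)).subgroupOf
        (chevF4.monomialSubgroup K ⊓ twistedF4 K (2 ^ m)) :=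
  (xGrp_F4 hK X).exists_hom_dihedral (A := [0, 3]) (B := [1, 2, 1, 2]) rfl 8 ordW_F4 notW_F4

end

end Cfsg.Agent.Lib.Helper8.Chev
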