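import Cfsg.Agent.Lib.Helper8.ChevTw33

set_option autoImplicit false

/-! Twisted groups: fixed torus elements, their characters, and conjugation by `n_J`. -/

namespace Cfsg.Agent.Lib.Helper8.Chev

open Cfsg.Lie Matrix

section

variable {D : ChevalleyDatum} {F : Type*} [Field F] {ρ ρ' π π' : ℕ → ℕ} {ε : ℕ → ℤ}

/-- the character of a point of the torus is multiplicative along the columns -/
theorem isChar_chiT (VJ : ValidJ D) (H : ValidH D) (c : Fin D.rank → Fˣ) :
    IsChar D (fun s => ((chiT D c s : Fˣ) : F)) := by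
  classical
  unfold chiT
  have key : ∀ S : Finset (Fin D.rank),
      IsChar D (fun s => ((∏ i ∈ S, c i ^ D.cartan i.val s : Fˣ) : F)) := by
    intro S
    induction S using Finset.induction_on with
    | empty =>
      simp only [Finset.prod_empty, Units.val_one]
      exact isChar_one
    | insert i S hi ih =>
      have h1 := isChar_of_isWt VJ.V (isWt_of_check VJ.V VJ.T H.hsz H.wt i.isLt) (c i) (R := F)
      have := h1.mul ih
      have e : (fun s => ((c i ^ D.cartan i.val s : Fˣ) : F) *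
          ((∏ j ∈ S, c j ^ D.cartan j.val s : Fˣ) : F)) =
          fun s => ((∏ j ∈ insert i S, c j ^ D.cartan j.val s : Fˣ) : F) := by
        funext s
        rw [Finset.prod_insert hi, Units.val_mul]
      rw [e] at this
      exact this
  exact key Finset.univ

theorem chiT_neg (VJ : ValidJ D) (H : ValidH D) (c : Fin D.rank → Fˣ) {r : ℕ} (hr : r < D.nroots) :
    chiT D c (D.neg r) = (chiT D c r)⁻¹ := by
  unfold chiT
  rw [← Finset.prod_inv_distrib]
  apply Finset.prod_congr rfl
  intro i _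
  have h1 : D.cartan i.val (D.neg r) = - D.cartan i.val r :=
    (isWt_of_check VJ.V VJ.T H.hsz H.wt i.isLt).1 r hr
  rw [h1, _root_.zpow_neg]

/-- the character of a fixed torus element is equivariant -/
theorem chiT_fixed (h : GAOk D ρ ρ' π π' ε) (φ : F →+* F) {c : Fin D.rank → Fˣ}
    (hfix : sg h φ (torMap D F c) = torMap D F c) {r : ℕ} (hr : r < D.nroots) :
    chiT D c (π r) = Units.map (φ : F →* F) (chiT D c r) := by
  rw [sg_torMap] at hfix
  have h1 : diagC D (fun s => ((chiT D (fun i => Units.map (φ : F →* F) (c (rhoF h i))) s : Fˣ) : F))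
      = diagC D (fun s => ((chiT D c s : Fˣ) : F)) := by
    have := congrArg (fun g : GL D.Idx F => (g : Matrix D.Idx D.Idx F)) hfix
    simpa only [torMap_apply, coe_diagU] using this
  have h2 := diagC_inj h1 (h.hπ r hr).1
  have h3 : chiT D (fun i => Units.map (φ : F →* F) (c (rhoF h i))) (π r) = chiT D c (π r) :=
    Units.ext h2
  rw [← h3, chiT_map φ (fun i => c (rhoF h i)), ← chiT_comp h c (h.hπ r hr).1, (h.hπ r hr).2]

/-- a fixed torus element acts on the class elements of a class through one parameter -/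
theorem char_map_clsWS (φ : F →+* F) (χ : ℕ → Fˣ) (g : ℕ → ℕ) : ∀ (J' : List ℕ) (a b : ℕ),
    (a :: J').map ρ = J' ++ [b] →
    (∀ j ∈ a :: J', χ (g (ρ j)) = Units.map (φ : F →* F) (χ (g j))) → ∀ s : F,
      (clsWS g φ (a :: J') s).map (fun p => (p.1, ((χ p.1 : Fˣ) : F) * p.2)) =
          clsWS g φ (a :: J') (((χ (g a) : Fˣ) : F) * s) ∧
        ((χ (g b) : Fˣ) : F) = φ^[J'.length + 1] ((χ (g a) : Fˣ) : F) := by
  intro J'
  induction J' with
  | nil =>
    intro a b hmap hχ s
    simp only [List.map_cons, List.map_nil, List.nil_append, List.cons.injEq, and_true] at hmap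
    refine ⟨rfl, ?_⟩
    rw [← hmap, hχ a List.mem_cons_self]
    rfl
  | cons c J'' ih =>
    intro a b hmap hχ s
    simp only [List.map_cons, List.cons_append, List.cons.injEq] at hmap
    obtain ⟨hc, hmap'⟩ := hmap
    have hmap'' : (c :: J'').map ρ = J'' ++ [b] := by
      simp only [List.map_cons]
      exact hmap'
    obtain ⟨h1, h2⟩ := ih c b hmap'' (fun j hj => hχ j (List.mem_cons_of_mem _ hj)) (φ s)
    have hχc : ((χ (g c) : Fˣ) : F) = φ ((χ (g a) : Fˣ) : F) := by
      rw [← hc, hχ a List.mem_cons_self]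
      rfl
    constructor
    · show (g a, ((χ (g a) : Fˣ) : F) * s) ::
        (clsWS g φ (c :: J'') (φ s)).map (fun p => (p.1, ((χ p.1 : Fˣ) : F) * p.2)) =
        (g a, ((χ (g a) : Fˣ) : F) * s) :: clsWS g φ (c :: J'') (φ (((χ (g a) : Fˣ) : F) * s))
      rw [h1, hχc, map_mul]
    · rw [h2, hχc, ← Function.iterate_succ_apply]
      rfl

end

namespace TwGrp

variable {D : ChevalleyDatum} {F : Type*} [Field F] {ρ ρ' π π' : ℕ → ℕ} {ε : ℕ → ℤ}
  {T : TwOk D ρ ρ' π π' ε} {φ : F →+* F} {cls : List (List ℕ)} {G1 : Subgroup (GL D.Idx F)}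

/-- a fixed torus element conjugates class elements to class elements -/
theorem torus_conj_cls (X : TwGrp T φ cls G1) {c : Fin D.rank → Fˣ}
    (hfix : sg T.ga φ (torMap D F c) = torMap D F c) {J : List ℕ} (hJ : J ∈ cls) :
    ∃ a : Fˣ, φ^[J.length] (a : F) = a ∧
      (∀ s : F, ((torMap D F c : GL D.Idx F) : Matrix D.Idx D.Idx F) *
          wN D F (clsWS D.simple φ J s) =
        wN D F (clsWS D.simple φ J ((a : F) * s)) *
          ((torMap D F c : GL D.Idx F) : Matrix D.Idx D.Idx F)) ∧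
      (∀ s : F, ((torMap D F c : GL D.Idx F) : Matrix D.Idx D.Idx F) *
          wN D F (clsWS (fun j => D.neg (D.simple j)) φ J s) =
        wN D F (clsWS (fun j => D.neg (D.simple j)) φ J (((a⁻¹ : Fˣ) : F) * s)) *
          ((torMap D F c : GL D.Idx F) : Matrix D.Idx D.Idx F)) := by
  have hD := X.hD
  have V := valid0_of_mem hD
  have VJ := validJ_of_mem hD
  have H := validH_of_mem hD
  have hJok := X.cd.ok J hJ
  obtain ⟨j₀, J', e, hmap⟩ := hJok.rot
  subst e
  have hχ := isChar_chiT (F := F) VJ H c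
  have hj₀ := hJok.lt j₀ List.mem_cons_self
  -- equivariance on the fundamental roots
  have h1 : ∀ j ∈ j₀ :: J', chiT D c (D.simple (ρ j)) =
      Units.map (φ : F →* F) (chiT D c (D.simple j)) := by
    intro j hj
    have hjr := hJok.lt j hj
    rw [← (hf_simple T.ga j hjr).1]
    exact chiT_fixed T.ga φ hfix (VJ.S j hjr).1
  have h2 : ∀ j ∈ j₀ :: J', chiT D c (D.neg (D.simple (ρ j))) =
      Units.map (φ : F →* F) (chiT D c (D.neg (D.simple j))) := by
    intro j hj
    have hjr := hJok.lt j hj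
    rw [← (hf_neg VJ T.ga j hjr).1]
    exact chiT_fixed T.ga φ hfix (V.neg_lt (VJ.S j hjr).1)
  refine ⟨chiT D c (D.simple j₀), ?_, fun s => ?_, fun s => ?_⟩
  · have := (char_map_clsWS (ρ := ρ) φ (chiT D c) D.simple J' j₀ j₀ hmap h1 0).2
    exact this.symm
  · rw [torMap_apply, coe_diagU, diagC_mul_wN V hχ _
      (clsWS_lt V VJ (sgnF_simple D) φ hJok.lt s),
      (char_map_clsWS (ρ := ρ) φ (chiT D c) D.simple J' j₀ j₀ hmap h1 s).1]
  · rw [torMap_apply, coe_diagU, diagC_mul_wN V hχ _
      (clsWS_lt V VJ (sgnF_neg D) φ hJok.lt s),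
      (char_map_clsWS (ρ := ρ) φ (chiT D c) (fun j => D.neg (D.simple j)) J' j₀ j₀ hmap h2 s).1,
      chiT_neg VJ H c (VJ.S j₀ hj₀).1]

end TwGrp

end Cfsg.Agent.Lib.Helper8.Chev
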