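import Cfsg.Agent.Lib.Helper8.ChevRF17
import Cfsg.Agent.Lib.Helper8.ChevTw34

set_option autoImplicit false

/-! Tools for the perfectness of `²F₄(K)`. -/

namespace Cfsg.Agent.Lib.Helper8.Chev

open Cfsg.Lie Matrix

section

variable {D : ChevalleyDatum} {F : Type*} [Field F]

/-- conjugating a word by `n_w` in characteristic 2 -/
theorem nP_conj_word2 (hD : D ∈ [chevG2, chevB2, chevD4, chevF4, chevE6, chevE7, chevE8])
    (h2 : (2 : F) = 0) {l : List ℕ} (hl : ∀ i ∈ l, i < D.rank) :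
    ∀ (w : List (ℕ × F)), (∀ p ∈ w, p.1 < D.nroots) →
      ((nP D F l : GL D.Idx F) : Matrix D.Idx D.Idx F) * wN D F w =
        wN D F (w.map fun p => (reflWord D l p.1, p.2)) *
          ((nP D F l : GL D.Idx F) : Matrix D.Idx D.Idx F) := by
  have VJ := validJ_of_mem hD
  have V1 := valid1_of_mem hD
  have H := validH_of_mem hD
  have hneg : ∀ t : F, -t = t := fun t => by linear_combination (-t) * h2
  intro w
  induction w with
  | nil => intro _; simp [wN_nil]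
  | cons p w ih =>
    intro hw
    obtain ⟨-, -, ε, hε, e1, -⟩ := rootPermN_nP (F := F) VJ V1 H.nS l hl p.1
      (hw p List.mem_cons_self)
    have hεt : ε * p.2 = p.2 := by
      rcases hε with rfl | rfl
      · rw [one_mul]
      · rw [neg_one_mul, hneg]
    rw [List.map_cons, wN_cons, wN_cons, ← Matrix.mul_assoc, e1 p.2, hεt, Matrix.mul_assoc,
      ih (fun q hq => hw q (List.mem_cons_of_mem _ hq)), Matrix.mul_assoc]

theorem nP_conj_word2' (hD : D ∈ [chevG2, chevB2, chevD4, chevF4, chevE6, chevE7, chevE8])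
    (h2 : (2 : F) = 0) {l : List ℕ} (hl : ∀ i ∈ l, i < D.rank)
    (w : List (ℕ × F)) (hw : ∀ p ∈ w, p.1 < D.nroots) (g : GL D.Idx F)
    (hg : (g : Matrix D.Idx D.Idx F) = wN D F w) :
    ((nP D F l * g * (nP D F l)⁻¹ : GL D.Idx F) : Matrix D.Idx D.Idx F) =
      wN D F (w.map fun p => (reflWord D l p.1, p.2)) := by
  rw [Units.val_mul, Units.val_mul, hg, nP_conj_word2 hD h2 hl w hw, Matrix.mul_assoc,
    ← Units.val_mul, mul_inv_cancel, Units.val_one, Matrix.mul_one]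

end

section

variable {K : Type*} [Field K]

theorem chiT_tup4 (a b c d : Kˣ) (r : ℕ) :
    chiT chevF4 (tup4 a b c d) r = a ^ chevF4.cartan 0 r * b ^ chevF4.cartan 1 r *
      c ^ chevF4.cartan 2 r * d ^ chevF4.cartan 3 r := by
  unfold chiT
  exact Fin.prod_univ_four (fun i : Fin 4 => tup4 a b c d i ^ chevF4.cartan i.val r)

theorem cartanF4_vals : chevF4.cartan 0 24 = 0 ∧ chevF4.cartan 3 24 = 2 ∧
    chevF4.cartan 0 25 = 0 ∧ chevF4.cartan 3 25 = -1 ∧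
    chevF4.cartan 1 28 = 0 ∧ chevF4.cartan 2 28 = 1 := by decide

/-- the character of `h_A(a)` at `p₄` -/
theorem chi_hA_24 (m : ℕ) (a : Kˣ) : chiT chevF4 (tup4 (a ^ 2 ^ m) 1 1 a) 24 = a ^ 2 := by
  obtain ⟨c1, c2, -⟩ := cartanF4_vals
  rw [chiT_tup4, c1, c2]
  simp

/-- the character of `h_A(a)` at `p₃` -/
theorem chi_hA_25 (m : ℕ) (a : Kˣ) : chiT chevF4 (tup4 (a ^ 2 ^ m) 1 1 a) 25 = a⁻¹ := by
  obtain ⟨-, -, c1, c2, -⟩ := cartanF4_vals
  rw [chiT_tup4, c1, c2]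
  simp

/-- the character of `h_B(b)` at `p₂ + p₃` -/
theorem chi_hB_28 (m : ℕ) (b : Kˣ) : chiT chevF4 (tup4 1 (b ^ 2 ^ m) b 1) 28 = b := by
  obtain ⟨-, -, -, -, c1, c2⟩ := cartanF4_vals
  rw [chiT_tup4, c1, c2]
  simp

/-- the torus element `h_A(a)` as a diagonal matrix -/
theorem hA_diag (m : ℕ) (a : Kˣ) :
    IsChar chevF4 (fun s => ((chiT chevF4 (tup4 (a ^ 2 ^ m) 1 1 a) s : Kˣ) : K)) ∧
    ((hA m a : GL chevF4.Idx K) : Matrix chevF4.Idx chevF4.Idx K) =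
      diagC chevF4 (fun s => ((chiT chevF4 (tup4 (a ^ 2 ^ m) 1 1 a) s : Kˣ) : K)) :=
  ⟨isChar_chiT (validJ_of_mem hDF4) (validH_of_mem hDF4) _, rfl⟩

theorem hB_diag (m : ℕ) (b : Kˣ) :
    IsChar chevF4 (fun s => ((chiT chevF4 (tup4 1 (b ^ 2 ^ m) b 1) s : Kˣ) : K)) ∧
    ((hB m b : GL chevF4.Idx K) : Matrix chevF4.Idx chevF4.Idx K) =
      diagC chevF4 (fun s => ((chiT chevF4 (tup4 1 (b ^ 2 ^ m) b 1) s : Kˣ) : K)) :=
  ⟨isChar_chiT (validJ_of_mem hDF4) (validH_of_mem hDF4) _, rfl⟩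

end

end Cfsg.Agent.Lib.Helper8.Chev
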