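import Cfsg.Agent.Lib.Helper8.ChevRF18

set_option autoImplicit false

/-! `²F₄(K)` is perfect for `|K| > 2`: the positive generators. -/

namespace Cfsg.Agent.Lib.Helper8.Chev

open Cfsg.Lie Matrix

open scoped commutatorElement

section

variable {K : Type*} [Field K] {m : ℕ} {σ : GL chevF4.Idx K → GL chevF4.Idx K}

/-- conjugating a normal form of the class of type `B₂` by a torus element -/
theorem torus_conj_N4 {h : GL chevF4.Idx K} {f : ℕ → Kˣ}
    (hf : IsChar chevF4 (fun s => ((f s : Kˣ) : K)))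
    (hm : (h : Matrix chevF4.Idx chevF4.Idx K) = diagC chevF4 (fun s => ((f s : Kˣ) : K)))
    (t s p r : K) (g : GL chevF4.Idx K)
    (hg : (g : Matrix chevF4.Idx chevF4.Idx K) = B2Rel.N4 (yB K) t s p r) :
    ((h * g * h⁻¹ : GL chevF4.Idx K) : Matrix chevF4.Idx chevF4.Idx K) =
      B2Rel.N4 (yB K) ((f 25 : K) * t) ((f 27 : K) * s) ((f 28 : K) * p) ((f 30 : K) * r) := by
  have V := valid0_of_mem hDF4
  rw [torus_conj_word V hf hm [(25, t), (27, s), (28, p), (30, r)] (by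
    intro q hq
    simp only [List.mem_cons, List.not_mem_nil, or_false] at hq
    rcases hq with rfl | rfl | rfl | rfl <;> (dsimp only; decide)) g (by
    rw [hg]; simp only [wNF_cons, wN_nil, mul_one]; rfl)]
  simp only [List.map_cons, List.map_nil, wNF_cons, wN_nil, mul_one]
  rfl

/-- conjugating a normal form of the class of type `A₁ × A₁` by a torus element -/
theorem torus_conj_N2 {h : GL chevF4.Idx K} {f : ℕ → Kˣ}
    (hf : IsChar chevF4 (fun s => ((f s : Kˣ) : K)))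
    (hm : (h : Matrix chevF4.Idx chevF4.Idx K) = diagC chevF4 (fun s => ((f s : Kˣ) : K)))
    (t s : K) (g : GL chevF4.Idx K)
    (hg : (g : Matrix chevF4.Idx chevF4.Idx K) = chevF4.x K 24 t * chevF4.x K 33 s) :
    ((h * g * h⁻¹ : GL chevF4.Idx K) : Matrix chevF4.Idx chevF4.Idx K) =
      chevF4.x K 24 ((f 24 : K) * t) * chevF4.x K 33 ((f 33 : K) * s) := by
  have V := valid0_of_mem hDF4
  rw [torus_conj_word V hf hm [(24, t), (33, s)] (by
    intro q hq
    simp only [List.mem_cons, List.not_mem_nil, or_false] at hq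
    rcases hq with rfl | rfl <;> (dsimp only; decide)) g (by
    rw [hg]; simp only [wNF_cons, wN_nil, mul_one])]
  simp only [List.map_cons, List.map_nil, wNF_cons, wN_nil, mul_one]

variable [CharP K 2]

/-- the elements of `U_B ∩ fix` in normal form -/
theorem SB_form (X : XEnd chevF4 K σ barF4 rhoF4 (expF4 m)) {g : GL chevF4.Idx K}
    (hg : g ∈ UnegW chevF4 K [1, 2, 1, 2] ⊓ X.fix) :
    ∃ t u : K, (g : Matrix chevF4.Idx chevF4.Idx K) =
        chevF4.wordMat K (b2ClassWord (2 ^ m) 27 25 28 30 t u) ∧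
      (g : Matrix chevF4.Idx chevF4.Idx K) =
        B2Rel.N4 (yB K) t (t ^ 2 ^ m) u (t * (t ^ 2 ^ m) ^ 2 + u ^ (2 * 2 ^ m)) := by
  have hB := b2Rel_pos (K := K)
  obtain ⟨hg1, hg2⟩ := Subgroup.mem_inf.mp hg
  obtain ⟨t, u, e⟩ := clsB_fix_form X hg1 hg2.2
  refine ⟨t, u, e, ?_⟩
  rw [e, clsWordB_mat, hB.word_eq_N4]
  have e5 : t * t ^ 2 ^ m + (t ^ (2 ^ m + 1) + u) = u := by
    rw [pow_succ, mul_comm t, ← add_assoc, add_self', zero_add]
  rw [e5]

/-- the elements of `U_A ∩ fix` in normal form -/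
theorem SA_form (X : XEnd chevF4 K σ barF4 rhoF4 (expF4 m)) {g : GL chevF4.Idx K}
    (hg : g ∈ UnegW chevF4 K [0, 3] ⊓ X.fix) :
    ∃ t : K, (g : Matrix chevF4.Idx chevF4.Idx K) =
        chevF4.wordMat K (f4PairWord (2 ^ m) 33 24 t) ∧
      (g : Matrix chevF4.Idx chevF4.Idx K) = chevF4.x K 24 t * chevF4.x K 33 (t ^ 2 ^ m) := by
  obtain ⟨hg1, hg2⟩ := Subgroup.mem_inf.mp hg
  obtain ⟨t, e⟩ := clsA_fix_form X hg1 hg2.2
  refine ⟨t, e, ?_⟩
  rw [e, pairWord_mat, xA_comm]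

theorem add_one_ne_zero' {c : K} (hc : c ≠ 1) : c + 1 ≠ 0 := by
  intro h
  apply hc
  have : c = c + (1 + 1) := by rw [add_self', add_zero]
  rw [this, ← add_assoc, h, zero_add]

theorem eq_of_add_eq_mul {c t t₀ x : K} (hc : c + 1 ≠ 0) (ht : t = t₀ / (c + 1))
    (h : x + t = c * t) : x = t₀ := by
  have h1 : x = c * t + t := by
    rw [← h, add_assoc, add_self', add_zero]
  rw [h1, ht]
  field_simp

variable [Fintype K]

/-- the positive pair words lie in the derived subgroup -/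
theorem pairA_mem_comm (hK : Fintype.card K = 2 ^ (2 * m + 1))
    (X : XEnd chevF4 K σ barF4 rhoF4 (expF4 m)) {a : Kˣ} (ha : a ≠ 1) (t₀ : K)
    (g : GL chevF4.Idx K)
    (hg : (g : Matrix chevF4.Idx chevF4.Idx K) = chevF4.wordMat K (f4PairWord (2 ^ m) 33 24 t₀)) :
    g ∈ ⁅twistedF4 K (2 ^ m), twistedF4 K (2 ^ m)⁆ := by
  have V := valid0_of_mem hDF4
  have V1 := valid1_of_mem hDF4
  obtain ⟨hf, hm⟩ := hA_diag (K := K) m a
  have hhG := hA_mem hK X a
  have hhH := hA_mem_diagonal (m := m) a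
  have hhF : hA m a ∈ X.fix := ⟨diagonal_le_group V V1 hhH, hA_fix hK X a⟩
  set c : K := ((chiT chevF4 (tup4 (a ^ 2 ^ m) 1 1 a) 24 : Kˣ) : K) with hc
  have hc1 : c ≠ 1 := by
    rw [hc, chi_hA_24]
    intro h
    apply ha
    apply Units.ext
    have h1 : ((a : Kˣ) : K) ^ 2 = 1 := by
      have := h
      rw [Units.val_pow_eq_pow_val] at this
      exact this
    have h2 : ((a : K) + 1) ^ 2 = 0 := by
      have : ((a : K) + 1) ^ 2 = (a : K) ^ 2 + 1 + ((a : K) + (a : K)) := by ring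
      rw [this, h1, add_self', add_self', add_zero]
    have h3 : (a : K) + 1 = 0 := by
      have := pow_eq_zero_iff (n := 2) (by norm_num) |>.mp h2
      exact this
    have : (a : K) = (a : K) + (1 + 1) := by rw [add_self', add_zero]
    rw [this, ← add_assoc, h3, zero_add, Units.val_one]
  have hc0 := add_one_ne_zero' hc1
  -- the element `g₁`
  have hwA : ∀ s : K, ∀ p ∈ f4PairWord (2 ^ m) 33 24 s,
      24 ≤ p.1 ∧ p.1 < 48 ∧ reflWord chevF4 [0, 3] p.1 < 24 := by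
    intro s p hp
    unfold f4PairWord at hp
    simp only [List.mem_cons, List.not_mem_nil, or_false] at hp
    rcases hp with rfl | rfl
    · exact ⟨by norm_num, by norm_num, reflA_gen.2⟩
    · exact ⟨by norm_num, by norm_num, reflA_gen.1⟩
  obtain ⟨g₁, hg₁U, e₁⟩ := word_mem_unegW (K := K) [0, 3]
    (f4PairWord (2 ^ m) 33 24 (t₀ / (c + 1))) (hwA _)
  have hg₁G : g₁ ∈ twistedF4 K (2 ^ m) := clsA_mem_twisted _ _ g₁ e₁
  have hg₁S : g₁ ∈ UnegW chevF4 K [0, 3] ⊓ X.fix :=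
    Subgroup.mem_inf.mpr ⟨hg₁U, twistedF4_le_fix hK X hg₁G⟩
  -- `g` itself
  obtain ⟨g', hg'U, e'⟩ := word_mem_unegW (K := K) [0, 3] (f4PairWord (2 ^ m) 33 24 t₀) (hwA _)
  have hgg' : g = g' := Units.ext (hg.trans e'.symm)
  have hgG : g ∈ twistedF4 K (2 ^ m) := clsA_mem_twisted _ _ g hg
  have hgS : g ∈ UnegW chevF4 K [0, 3] ⊓ X.fix :=
    Subgroup.mem_inf.mpr ⟨hgg' ▸ hg'U, twistedF4_le_fix hK X hgG⟩
  -- the conjugate
  have hcS : hA m a * g₁ * (hA m a)⁻¹ ∈ UnegW chevF4 K [0, 3] ⊓ X.fix :=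
    Subgroup.mem_inf.mpr ⟨torus_conj_unegW hDF4 [0, 3] hhH hg₁U,
      mul_mem (mul_mem hhF hg₁S.2) (inv_mem hhF)⟩
  obtain ⟨t₂, -, e₂⟩ := SA_form X hcS
  obtain ⟨t₁, -, e₁'⟩ := SA_form X hg₁S
  have ht₁ : t₁ = t₀ / (c + 1) := by
    have := e₁'.symm.trans e₁
    rw [pairWord_mat, xA_comm] at this
    exact (N2A_inj this).1
  have e₂' := torus_conj_N2 hf hm _ _ g₁ e₁'
  rw [e₂] at e₂'
  have ht₂ : t₂ = c * t₁ := (N2A_inj e₂').1
  -- the product `g g₁`
  obtain ⟨t₃, -, e₃⟩ := SA_form X (mul_mem hgS hg₁S)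
  obtain ⟨t₄, -, e₄⟩ := SA_form X hgS
  have ht₄ : t₄ = t₀ := by
    have := e₄.symm.trans hg
    rw [pairWord_mat, xA_comm] at this
    exact (N2A_inj this).1
  have e₃' : ((g * g₁ : GL chevF4.Idx K) : Matrix chevF4.Idx chevF4.Idx K) =
      chevF4.x K 24 (t₄ + t₁) * chevF4.x K 33 (t₄ ^ 2 ^ m + t₁ ^ 2 ^ m) := by
    rw [Units.val_mul, e₄, e₁', mul_assoc, ← mul_assoc (chevF4.x K 33 _), xA_comm, mul_assoc,
      xF_add, ← mul_assoc, xF_add]
  rw [e₃] at e₃'
  have ht₃ : t₃ = t₄ + t₁ := (N2A_inj e₃').1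
  have hfin : g * g₁ = hA m a * g₁ * (hA m a)⁻¹ := by
    apply Units.ext
    rw [e₃, e₂]
    have : t₃ = t₂ := by
      rw [ht₃, ht₂, ht₄]
      have h1 : c * t₁ + t₁ = t₀ := by
        rw [ht₁]; field_simp
      rw [← h1, add_assoc, add_self', add_zero]
    rw [this]
  have : g = ⁅hA m a, g₁⁆ := by
    rw [commutatorElement_def, ← hfin, mul_inv_cancel_right]
  rw [this]
  exact Subgroup.commutator_mem_commutator hhG hg₁G

end

end Cfsg.Agent.Lib.Helper8.Chev
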