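import Cfsg.Agent.Lib.Helper8.ChevRee11

set_option autoImplicit false

/-! A word identity modulo 3: the involution `h_a(-1) h_b(-1)` lies in the Ree group. -/

namespace Cfsg.Agent.Lib.Helper8.Chev

open Cfsg.Lie Matrix

section

variable {D : ChevalleyDatum} {R : Type*} [CommRing R] {T U : Rˣ}

theorem svT_eq_zero_of_three (h3 : (3 : R) = 0) (v : List Term)
    (hv : ∀ e ∈ v, e.2.2.2 % 3 = 0) : svT D T U v = 0 := by
  induction v with
  | nil => rfl
  | cons e v ih =>
    rw [svT_cons, ih (fun e' he' => hv e' (List.mem_cons_of_mem _ he'))]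
    have h := hv e List.mem_cons_self
    obtain ⟨k, hk⟩ := Int.dvd_of_emod_eq_zero h
    have : ((e.2.2.2 : ℤ) : R) = 0 := by
      rw [hk]; push_cast; rw [h3, zero_mul]
    rw [this, zero_mul, zero_smul, add_zero]

end

/-- check that two constant words are equal modulo 3 -/
noncomputable def checkWordEq3 (cols : ℕ → ℕ → List (ℕ × ℤ × ℕ)) (n rk : ℕ)
    (w1 w2 : List (ℕ × Mono)) : Bool :=
  allF (fun l : ℕ × Mono => Nat.blt l.1 n) w1 && allF (fun l : ℕ × Mono => Nat.blt l.1 n) w2 &&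
  allF (fun c => allF (fun e : Term => decide (e.2.2.2 % 3 = 0))
    (normT (appendF (applyWN cols w1 [((c, 0, 0, 1) : Term)])
      (negTF (applyWN cols w2 [((c, 0, 0, 1) : Term)]))))) (rangeF (n + rk))

theorem wordEq3_of_check {D : ChevalleyDatum} (V : Valid0 D) {cols : ℕ → ℕ → List (ℕ × ℤ × ℕ)}
    (hcols : ColsOK D cols) {w1 w2 : List (ℕ × Mono)}
    (h : checkWordEq3 cols D.nroots D.rank w1 w2 = true) {R : Type*} [CommRing R]
    (h3 : (3 : R) = 0) (T U : Rˣ) :
    wN D R (evalWd T U w1) = wN D R (evalWd T U w2) := by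
  simp only [checkWordEq3, Bool.and_eq_true, allF_eq_true, Nat.blt_eq, decide_eq_true_eq,
    rangeF_eq, List.mem_range] at h
  obtain ⟨⟨hw1, hw2⟩, h⟩ := h
  have key : ∀ c < D.nroots + D.rank,
      wN D R (evalWd T U w1) *ᵥ Bv D R c = wN D R (evalWd T U w2) *ᵥ Bv D R c := by
    intro c hc
    have h0 := svT_eq_zero_of_three (D := D) (T := T) (U := U) h3 _ (h c hc)
    rw [svT_normT, appendF_eq, svT_append, svT_negTF, svT_applyWN V hcols w1 hw1,
      svT_applyWN V hcols w2 hw2] at h0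
    have hB : svT D T U [((c, 0, 0, 1) : Term)] = Bv D R c := by
      simp [svT, chi_zero]
    rw [hB] at h0
    exact eq_of_sub_eq_zero (by rw [← h0]; abel)
  apply ext_mulVec
  · intro i hi
    have := key (D.nroots + i) (by omega)
    rwa [Bv_add] at this
  · intro u hu
    have := key u (by omega)
    rwa [Bv_of_lt hu] at this

/-- the positive Ree word over the prime field -/
def reeUZ (t u v : ℤ) : List (ℕ × Mono) :=
  [(7, (0, 0, t)), (6, (0, 0, t)), (8, (0, 0, t * t + u)), (9, (0, 0, t * t * t + v)),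
    (10, (0, 0, u)), (11, (0, 0, v))]

/-- the negative Ree word over the prime field -/
def reeVZ (t u v : ℤ) : List (ℕ × Mono) :=
  [(4, (0, 0, -t)), (5, (0, 0, -t)), (3, (0, 0, -(t * t + u))), (2, (0, 0, -(t * t * t + v))),
    (1, (0, 0, -u)), (0, (0, 0, -v))]

/-- `U(0,0,1) V(0,0,1) U(1,1,1) V(-1,1,-1)` over the prime field -/
def reeJW1 : List (ℕ × Mono) :=
  reeUZ 0 0 1 ++ (reeVZ 0 0 1 ++ (reeUZ 1 1 1 ++ reeVZ (-1) 1 (-1)))

/-- `h_a(-1) h_b(-1)` -/
def reeJW2 : List (ℕ × Mono) :=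
  [(7, (0, 0, -1)), (4, (0, 0, 1)), (7, (0, 0, -1)), (7, (0, 0, -1)), (4, (0, 0, 1)),
    (7, (0, 0, -1)), (6, (0, 0, -1)), (5, (0, 0, 1)), (6, (0, 0, -1)), (6, (0, 0, -1)),
    (5, (0, 0, 1)), (6, (0, 0, -1))]

set_option maxRecDepth 100000 in
theorem check_reeJ : checkWordEq3 (colsF chevG2) 12 2 reeJW1 reeJW2 = true := by decide +kernel

section

variable {K : Type*} [Field K] {m : ℕ} {φ ψ : K →+* K}

theorem chi_one_zero (c : K) : c * ((1 ^ (0 : ℤ) * 1 ^ (0 : ℤ) : Kˣ) : K) = c := by simp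

theorem wN_reeUZ (hF : ReeField K m φ ψ) (t u v : ℤ) :
    wN chevG2 K (evalWd 1 1 (reeUZ t u v)) =
      chevG2.wordMat K (reeWordU (3 ^ m) (t : K) (u : K) (v : K)) := by
  rw [wordMat_reeU hF]
  simp only [evalWd, reeUZ, evalM, chi, List.map_cons, List.map_nil, wN_cons, wN_nil, xp,
    ← x_eq_xN, map_intCast, mul_one, chi_one_zero]
  have e : (t : K) * (t : K) ^ 2 = t * t * t := by ring
  rw [e]
  push_cast
  rfl

theorem wN_reeVZ (hF : ReeField K m φ ψ) (t u v : ℤ) :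
    wN chevG2 K (evalWd 1 1 (reeVZ t u v)) =
      chevG2.wordMat K (reeWordV (3 ^ m) (t : K) (u : K) (v : K)) := by
  rw [wordMat_reeV hF]
  simp only [evalWd, reeVZ, evalM, chi, List.map_cons, List.map_nil, wN_cons, wN_nil, xm,
    ← x_eq_xN, map_intCast, mul_one, chi_one_zero]
  have e : (t : K) * (t : K) ^ 2 = t * t * t := by ring
  rw [e]
  push_cast
  rfl

end

end Cfsg.Agent.Lib.Helper8.Chev
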