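import Cfsg.Agent.Lib.Helper8.ChevRF1
import Cfsg.Agent.Lib.Helper8.ChevRee12

set_option autoImplicit false

/-! Word identities modulo 2 in `F₄`: the elements `n_A`, `n_B` of the group `²F₄`. -/

namespace Cfsg.Agent.Lib.Helper8.Chev

open Cfsg.Lie Matrix

section

variable {D : ChevalleyDatum} {R : Type*} [CommRing R] {T U : Rˣ}

theorem svT_eq_zero_of_two (h2 : (2 : R) = 0) (v : List Term)
    (hv : ∀ e ∈ v, e.2.2.2 % 2 = 0) : svT D T U v = 0 := by
  induction v with
  | nil => rfl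
  | cons e v ih =>
    rw [svT_cons, ih (fun e' he' => hv e' (List.mem_cons_of_mem _ he'))]
    have h := hv e List.mem_cons_self
    obtain ⟨k, hk⟩ := Int.dvd_of_emod_eq_zero h
    have : ((e.2.2.2 : ℤ) : R) = 0 := by
      rw [hk]; push_cast; rw [h2, zero_mul]
    rw [this, zero_mul, zero_smul, add_zero]

end

/-- check that two constant words are equal modulo 2 -/
noncomputable def checkWordEq2 (cols : ℕ → ℕ → List (ℕ × ℤ × ℕ)) (n rk : ℕ)
    (w1 w2 : List (ℕ × Mono)) : Bool :=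
  allF (fun l : ℕ × Mono => Nat.blt l.1 n) w1 && allF (fun l : ℕ × Mono => Nat.blt l.1 n) w2 &&
  allF (fun c => allF (fun e : Term => decide (e.2.2.2 % 2 = 0))
    (normT (appendF (applyWN cols w1 [((c, 0, 0, 1) : Term)])
      (negTF (applyWN cols w2 [((c, 0, 0, 1) : Term)]))))) (rangeF (n + rk))

theorem wordEq2_of_check {D : ChevalleyDatum} (V : Valid0 D) {cols : ℕ → ℕ → List (ℕ × ℤ × ℕ)}
    (hcols : ColsOK D cols) {w1 w2 : List (ℕ × Mono)}
    (h : checkWordEq2 cols D.nroots D.rank w1 w2 = true) {R : Type*} [CommRing R]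
    (h2 : (2 : R) = 0) (T U : Rˣ) :
    wN D R (evalWd T U w1) = wN D R (evalWd T U w2) := by
  simp only [checkWordEq2, Bool.and_eq_true, allF_eq_true, Nat.blt_eq, decide_eq_true_eq,
    rangeF_eq, List.mem_range] at h
  obtain ⟨⟨hw1, hw2⟩, h⟩ := h
  have key : ∀ c < D.nroots + D.rank,
      wN D R (evalWd T U w1) *ᵥ Bv D R c = wN D R (evalWd T U w2) *ᵥ Bv D R c := by
    intro c hc
    have h0 := svT_eq_zero_of_two (D := D) (T := T) (U := U) h2 _ (h c hc)
    rw [svT_normT, appendF_eq, svT_append, svT_negTF, svT_applyWN V hcols w1 hw1,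
      svT_applyWN V hcols w2 hw2] at h0
    have hB : svT D T U [((c, 0, 0, 1) : Term)] = Bv D R c := by
      simp [svT, chi_zero]
    rw [hB] at h0
    exact eq_of_sub_eq_zero (by rw [← h0]; abel)
  apply ext_mulVec
  · intro i hi
    have := key (D.nroots + i) (by omega)
    rwa [Bv_add] at this
  · intro u hu
    have := key u (by omega)
    rwa [Bv_of_lt hu] at this

/-- a constant word -/
def cW (w : List (ℕ × ℤ)) : List (ℕ × Mono) := w.map fun p => (p.1, ((0, 0, p.2) : Mono))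

theorem evalWd_cW {K : Type*} [Field K] (w : List (ℕ × ℤ)) :
    evalWd (1 : Kˣ) 1 (cW w) = w.map fun p => (p.1, ((p.2 : ℤ) : K)) := by
  unfold evalWd cW
  rw [List.map_map]
  apply List.map_congr_left
  intro p _
  simp [evalM, chi]

/-- the word of `n_r(1)` -/
def nZ (r : ℕ) : List (ℕ × ℤ) := [(r, 1), (47 - r, -1), (r, 1)]

def f4A1 : List (ℕ × ℤ) := [(33, 1), (24, 1), (14, 1), (23, 1), (33, 1), (24, 1)]
def f4A2 : List (ℕ × ℤ) := nZ 33 ++ nZ 24
def f4A3 : List (ℕ × ℤ) := nZ 24 ++ nZ 33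
def f4B1 : List (ℕ × ℤ) :=
  [(30, 1), (25, 1), (27, 1), (19, 1), (17, 1), (27, 1), (25, 1), (30, 1)]
def f4B2 : List (ℕ × ℤ) := nZ 27 ++ nZ 25 ++ nZ 27 ++ nZ 25
def f4B3 : List (ℕ × ℤ) := nZ 25 ++ nZ 27 ++ nZ 25 ++ nZ 27

set_option maxRecDepth 1000000 in
theorem check_f4A : checkWordEq2 (colsF chevF4) 48 4 (cW f4A1) (cW f4A2) = true := by
  decide +kernel

set_option maxRecDepth 1000000 in
theorem check_f4A' : checkWordEq2 (colsF chevF4) 48 4 (cW f4A3) (cW f4A2) = true := by
  decide +kernel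

set_option maxRecDepth 1000000 in
theorem check_f4B : checkWordEq2 (colsF chevF4) 48 4 (cW f4B1) (cW f4B2) = true := by
  decide +kernel

set_option maxRecDepth 1000000 in
theorem check_f4B' : checkWordEq2 (colsF chevF4) 48 4 (cW f4B3) (cW f4B2) = true := by
  decide +kernel

section

variable {K : Type*} [Field K]

theorem wN_nZ {r : ℕ} (hr : r < 48) :
    wN chevF4 K ((nZ r).map fun p => (p.1, ((p.2 : ℤ) : K))) = chevF4.nMat K r 1 := by
  have V := valid0_of_mem hDF4
  rw [nMat_eq_wN]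
  unfold nZ ChevalleyDatum.nWord
  have : chevF4.neg r = 47 - r := V.neg_eq r hr
  rw [this]
  simp

theorem wN_cW_eq (h2 : (2 : K) = 0) {w1 w2 : List (ℕ × ℤ)}
    (h : checkWordEq2 (colsF chevF4) 48 4 (cW w1) (cW w2) = true) :
    wN chevF4 K (w1.map fun p => (p.1, ((p.2 : ℤ) : K))) =
      wN chevF4 K (w2.map fun p => (p.1, ((p.2 : ℤ) : K))) := by
  have J := validJ_of_mem hDF4
  have key := wordEq2_of_check J.V (colsF_ok J.T) (D := chevF4) h (R := K) h2 1 1
  rwa [evalWd_cW, evalWd_cW] at key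

/-- `n_A = x_A(1) x_{-A}(1) x_A(1)` -/
theorem f4_nA_mat (h2 : (2 : K) = 0) :
    wN chevF4 K [(33, (1 : K)), (24, 1), (14, 1), (23, 1), (33, 1), (24, 1)] =
      chevF4.nMat K 33 1 * chevF4.nMat K 24 1 := by
  have key := wN_cW_eq h2 check_f4A
  unfold f4A2 at key
  rw [List.map_append, wN_append, wN_nZ (by decide), wN_nZ (by decide)] at key
  rw [← key]
  unfold f4A1
  simp

theorem f4_nA_comm (h2 : (2 : K) = 0) :
    chevF4.nMat K 24 1 * chevF4.nMat K 33 1 = chevF4.nMat K 33 1 * chevF4.nMat K 24 1 := by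
  have key := wN_cW_eq h2 check_f4A'
  unfold f4A2 f4A3 at key
  rw [List.map_append, List.map_append, wN_append, wN_append, wN_nZ (by decide),
    wN_nZ (by decide)] at key
  exact key

/-- `n_B = x_B(1,1)⁻¹ x_{-B}(0,1) x_B(1,1)` -/
theorem f4_nB_mat (h2 : (2 : K) = 0) :
    wN chevF4 K [(30, (1 : K)), (25, 1), (27, 1), (19, 1), (17, 1), (27, 1), (25, 1), (30, 1)] =
      chevF4.nMat K 27 1 * chevF4.nMat K 25 1 * (chevF4.nMat K 27 1 * chevF4.nMat K 25 1) := by
  have key := wN_cW_eq h2 check_f4B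
  unfold f4B2 at key
  rw [List.map_append, List.map_append, List.map_append, wN_append, wN_append, wN_append,
    wN_nZ (by decide), wN_nZ (by decide)] at key
  have e : wN chevF4 K [(30, (1 : K)), (25, 1), (27, 1), (19, 1), (17, 1), (27, 1), (25, 1),
      (30, 1)] = wN chevF4 K (f4B1.map fun p => (p.1, ((p.2 : ℤ) : K))) := by
    unfold f4B1
    simp
  rw [e, key]
  simp only [Matrix.mul_assoc]

theorem f4_nB_comm (h2 : (2 : K) = 0) :
    chevF4.nMat K 25 1 * chevF4.nMat K 27 1 * (chevF4.nMat K 25 1 * chevF4.nMat K 27 1) =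
      chevF4.nMat K 27 1 * chevF4.nMat K 25 1 * (chevF4.nMat K 27 1 * chevF4.nMat K 25 1) := by
  have key := wN_cW_eq h2 check_f4B'
  unfold f4B2 f4B3 at key
  rw [List.map_append, List.map_append, List.map_append, List.map_append, List.map_append,
    List.map_append, wN_append, wN_append, wN_append, wN_append, wN_append, wN_append,
    wN_nZ (by decide), wN_nZ (by decide)] at key
  simp only [Matrix.mul_assoc] at key ⊢
  exact key

end

end Cfsg.Agent.Lib.Helper8.Chev
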