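import Cfsg.Agent.Lib.Helper8.ChevRF19

set_option autoImplicit false

/-! `²F₄(K)` is perfect for `|K| > 2`: the class of type `B₂`. -/

namespace Cfsg.Agent.Lib.Helper8.Chev

open Cfsg.Lie Matrix

open scoped commutatorElement

section

variable {K : Type*} [Field K] [CharP K 2] {m : ℕ} {σ : GL chevF4.Idx K → GL chevF4.Idx K}

/-- the class words in normal form -/
theorem clsWordB_N4 (m : ℕ) (t u : K) :
    chevF4.wordMat K (b2ClassWord (2 ^ m) 27 25 28 30 t u) =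
      B2Rel.N4 (yB K) t (t ^ 2 ^ m) u (t * (t ^ 2 ^ m) ^ 2 + u ^ (2 * 2 ^ m)) := by
  have hR := b2Rel_pos (K := K)
  rw [clsWordB_mat, hR.word_eq_N4]
  have e5 : t * t ^ 2 ^ m + (t ^ (2 ^ m + 1) + u) = u := by
    rw [pow_succ, mul_comm t, ← add_assoc, add_self', zero_add]
  rw [e5]

variable [Fintype K]

/-- the class words as elements of `U_B ∩ fix` -/
theorem SB_mem_of_word (hK : Fintype.card K = 2 ^ (2 * m + 1))
    (X : XEnd chevF4 K σ barF4 rhoF4 (expF4 m)) (t u : K) :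
    ∃ g ∈ UnegW chevF4 K [1, 2, 1, 2] ⊓ X.fix, g ∈ twistedF4 K (2 ^ m) ∧
      (g : Matrix chevF4.Idx chevF4.Idx K) =
        chevF4.wordMat K (b2ClassWord (2 ^ m) 27 25 28 30 t u) := by
  obtain ⟨g, hg, e⟩ := word_mem_unegW (K := K) [1, 2, 1, 2]
    (b2ClassWord (2 ^ m) 27 25 28 30 t u) (by
    intro p hp
    unfold b2ClassWord at hp
    simp only [List.mem_cons, List.not_mem_nil, or_false] at hp
    rcases hp with rfl | rfl | rfl | rfl
    · exact ⟨by norm_num, by norm_num, reflB_gen.2.1⟩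
    · exact ⟨by norm_num, by norm_num, reflB_gen.1⟩
    · exact ⟨by norm_num, by norm_num, reflB_gen.2.2.1⟩
    · exact ⟨by norm_num, by norm_num, reflB_gen.2.2.2⟩)
  have hG := clsB_mem_twisted _ t u g e
  exact ⟨g, Subgroup.mem_inf.mpr ⟨hg, twistedF4_le_fix hK X hG⟩, hG, e⟩

/-- an element of the derived subgroup with a given first coordinate -/
theorem SB_first_comm (hK : Fintype.card K = 2 ^ (2 * m + 1))
    (X : XEnd chevF4 K σ barF4 rhoF4 (expF4 m)) {a : Kˣ} (ha : a ≠ 1) (t₀ : K) :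
    ∃ k ∈ ⁅twistedF4 K (2 ^ m), twistedF4 K (2 ^ m)⁆, k ∈ UnegW chevF4 K [1, 2, 1, 2] ⊓ X.fix ∧
      ∃ u₁ : K, (k : Matrix chevF4.Idx chevF4.Idx K) =
        chevF4.wordMat K (b2ClassWord (2 ^ m) 27 25 28 30 t₀ u₁) := by
  have V := valid0_of_mem hDF4
  have V1 := valid1_of_mem hDF4
  have hR := b2Rel_pos (K := K)
  obtain ⟨hf, hm⟩ := hA_diag (K := K) m a
  have hhG := hA_mem hK X a
  have hhH := hA_mem_diagonal (m := m) a
  have hhF : hA m a ∈ X.fix := ⟨diagonal_le_group V V1 hhH, hA_fix hK X a⟩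
  set c : K := ((chiT chevF4 (tup4 (a ^ 2 ^ m) 1 1 a) 25 : Kˣ) : K) with hc
  have hc1 : c ≠ 1 := by
    rw [hc, chi_hA_25]
    intro h
    apply ha
    have : a⁻¹ = 1 := Units.ext (by rw [h, Units.val_one])
    exact inv_eq_one.mp this
  have hc0 := add_one_ne_zero' hc1
  obtain ⟨g₁, hg₁S, hg₁G, e₁⟩ := SB_mem_of_word hK X (t₀ / (c + 1)) 0
  have hcS : hA m a * g₁ * (hA m a)⁻¹ ∈ UnegW chevF4 K [1, 2, 1, 2] ⊓ X.fix :=
    Subgroup.mem_inf.mpr ⟨torus_conj_unegW hDF4 [1, 2, 1, 2] hhH hg₁S.1,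
      mul_mem (mul_mem hhF hg₁S.2) (inv_mem hhF)⟩
  have hkS : ⁅hA m a, g₁⁆ ∈ UnegW chevF4 K [1, 2, 1, 2] ⊓ X.fix := by
    rw [commutatorElement_def]
    exact mul_mem hcS (inv_mem hg₁S)
  refine ⟨⁅hA m a, g₁⁆, Subgroup.commutator_mem_commutator hhG hg₁G, hkS, ?_⟩
  obtain ⟨t_k, u_k, ek, ek'⟩ := SB_form X hkS
  refine ⟨u_k, ?_⟩
  rw [clsWordB_N4] at e₁
  have e₂ := torus_conj_N4 hf hm _ _ _ _ g₁ e₁
  have e₃ : ⁅hA m a, g₁⁆ * g₁ = hA m a * g₁ * (hA m a)⁻¹ := by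
    rw [commutatorElement_def, inv_mul_cancel_right]
  have e₄ := congrArg (fun x : GL chevF4.Idx K => (x : Matrix chevF4.Idx chevF4.Idx K)) e₃
  rw [e₂, Units.val_mul, ek', e₁, hR.N4_mul] at e₄
  obtain ⟨e5, -, -, -⟩ := N4B_inj e₄
  have : t_k = t₀ := eq_of_add_eq_mul hc0 rfl e5
  rw [ek, this]

/-- the central class words lie in the derived subgroup -/
theorem SB_center_comm (hK : Fintype.card K = 2 ^ (2 * m + 1))
    (X : XEnd chevF4 K σ barF4 rhoF4 (expF4 m)) {b : Kˣ} (hb : b ≠ 1) (u₀ : K)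
    (z : GL chevF4.Idx K) (hz : (z : Matrix chevF4.Idx chevF4.Idx K) =
      chevF4.wordMat K (b2ClassWord (2 ^ m) 27 25 28 30 0 u₀)) :
    z ∈ ⁅twistedF4 K (2 ^ m), twistedF4 K (2 ^ m)⁆ := by
  have V := valid0_of_mem hDF4
  have V1 := valid1_of_mem hDF4
  have hR := b2Rel_pos (K := K)
  obtain ⟨hf, hm⟩ := hB_diag (K := K) m b
  have hhG := hB_mem hK X b
  have hhH := hB_mem_diagonal (m := m) b
  have hhF : hB m b ∈ X.fix := ⟨diagonal_le_group V V1 hhH, hB_fix hK X b⟩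
  set c : K := ((chiT chevF4 (tup4 1 (b ^ 2 ^ m) b 1) 28 : Kˣ) : K) with hc
  have hc1 : c ≠ 1 := by
    rw [hc, chi_hB_28]
    intro h
    apply hb
    exact Units.ext (by rw [h, Units.val_one])
  have hc0 := add_one_ne_zero' hc1
  obtain ⟨z₁, hz₁S, hz₁G, e₁⟩ := SB_mem_of_word hK X 0 (u₀ / (c + 1))
  have hcS : hB m b * z₁ * (hB m b)⁻¹ ∈ UnegW chevF4 K [1, 2, 1, 2] ⊓ X.fix :=
    Subgroup.mem_inf.mpr ⟨torus_conj_unegW hDF4 [1, 2, 1, 2] hhH hz₁S.1,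
      mul_mem (mul_mem hhF hz₁S.2) (inv_mem hhF)⟩
  have hkS : ⁅hB m b, z₁⁆ ∈ UnegW chevF4 K [1, 2, 1, 2] ⊓ X.fix := by
    rw [commutatorElement_def]
    exact mul_mem hcS (inv_mem hz₁S)
  obtain ⟨t_k, u_k, ek, ek'⟩ := SB_form X hkS
  rw [clsWordB_N4] at e₁
  have e₂ := torus_conj_N4 hf hm _ _ _ _ z₁ e₁
  have e₃ : ⁅hB m b, z₁⁆ * z₁ = hB m b * z₁ * (hB m b)⁻¹ := by
    rw [commutatorElement_def, inv_mul_cancel_right]
  have e₄ := congrArg (fun x : GL chevF4.Idx K => (x : Matrix chevF4.Idx chevF4.Idx K)) e₃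
  rw [e₂, Units.val_mul, ek', e₁, hR.N4_mul] at e₄
  obtain ⟨e5, -, e6, -⟩ := N4B_inj e₄
  have ht : t_k = 0 := by
    rw [add_zero, mul_zero] at e5
    exact e5
  have hu : u_k = u₀ := by
    rw [zero_mul, add_zero] at e6
    exact eq_of_add_eq_mul hc0 rfl e6
  have : z = ⁅hB m b, z₁⁆ := by
    apply Units.ext
    rw [hz, ek, ht, hu]
  rw [this]
  exact Subgroup.commutator_mem_commutator hhG hz₁G

/-- the positive class words lie in the derived subgroup -/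
theorem clsB_mem_comm (hK : Fintype.card K = 2 ^ (2 * m + 1))
    (X : XEnd chevF4 K σ barF4 rhoF4 (expF4 m)) {a : Kˣ} (ha : a ≠ 1) (t₀ u₀ : K)
    (g : GL chevF4.Idx K) (hg : (g : Matrix chevF4.Idx chevF4.Idx K) =
      chevF4.wordMat K (b2ClassWord (2 ^ m) 27 25 28 30 t₀ u₀)) :
    g ∈ ⁅twistedF4 K (2 ^ m), twistedF4 K (2 ^ m)⁆ := by
  have hR := b2Rel_pos (K := K)
  obtain ⟨g', hg'S, -, e'⟩ := SB_mem_of_word hK X t₀ u₀
  have hgg' : g = g' := Units.ext (hg.trans e'.symm)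
  have hgS : g ∈ UnegW chevF4 K [1, 2, 1, 2] ⊓ X.fix := hgg' ▸ hg'S
  obtain ⟨k, hkC, hkS, u₁, ek⟩ := SB_first_comm hK X ha t₀
  have hzS : g * k⁻¹ ∈ UnegW chevF4 K [1, 2, 1, 2] ⊓ X.fix := mul_mem hgS (inv_mem hkS)
  obtain ⟨t_z, u_z, ez, ez'⟩ := SB_form X hzS
  have e₃ : g * k⁻¹ * k = g := inv_mul_cancel_right g k
  have e₄ := congrArg (fun x : GL chevF4.Idx K => (x : Matrix chevF4.Idx chevF4.Idx K)) e₃
  rw [Units.val_mul, ez', ek, hg, clsWordB_N4, clsWordB_N4, hR.N4_mul] at e₄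
  obtain ⟨e5, -, -, -⟩ := N4B_inj e₄
  have ht : t_z = 0 := by
    have : t_z + t₀ + t₀ = t₀ + t₀ := by rw [e5]
    rw [add_assoc, add_self', add_zero] at this
    exact this
  rw [ht] at ez
  have hzC := SB_center_comm hK X ha u_z _ ez
  rw [← e₃]
  exact mul_mem hzC hkC

end

end Cfsg.Agent.Lib.Helper8.Chev
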