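import Cfsg.Agent.Lib.Helper8.ChevRF20

set_option autoImplicit false

/-! `²F₄(K)` is perfect for `|K| > 2`. -/

namespace Cfsg.Agent.Lib.Helper8.Chev

open Cfsg.Lie Matrix

open scoped commutatorElement

theorem reflA_negs : reflWord chevF4 [0, 3] 14 = 33 ∧ reflWord chevF4 [0, 3] 23 = 24 := by decide

theorem reflB_negs : reflWord chevF4 [1, 2, 1, 2] 20 = 27 ∧ reflWord chevF4 [1, 2, 1, 2] 22 = 25 ∧
    reflWord chevF4 [1, 2, 1, 2] 19 = 28 ∧ reflWord chevF4 [1, 2, 1, 2] 17 = 30 := by decide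

section

variable {K : Type*} [Field K] [CharP K 2] [Fintype K] {m : ℕ}
  {σ : GL chevF4.Idx K → GL chevF4.Idx K}

/-- the negative pair words lie in the derived subgroup -/
theorem pairAm_mem_comm (hK : Fintype.card K = 2 ^ (2 * m + 1))
    (X : XEnd chevF4 K σ barF4 rhoF4 (expF4 m)) {a : Kˣ} (ha : a ≠ 1) (t₀ : K)
    (g : GL chevF4.Idx K)
    (hg : (g : Matrix chevF4.Idx chevF4.Idx K) = chevF4.wordMat K (f4PairWord (2 ^ m) 14 23 t₀)) :
    g ∈ ⁅twistedF4 K (2 ^ m), twistedF4 K (2 ^ m)⁆ := by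
  have hn := nP_A_mem (K := K) m
  have h1 := nP_conj_word2' hDF4 (two_eq_zero' (K := K)) (l := [0, 3]) (by decide)
    (f4PairWord (2 ^ m) 14 23 t₀) (by
      intro p hp
      unfold f4PairWord at hp
      simp only [List.mem_cons, List.not_mem_nil, or_false] at hp
      rcases hp with rfl | rfl <;> (dsimp only; decide)) g (by rw [hg, wordMat_eq_wN])
  have h2 : ((nP chevF4 K [0, 3] * g * (nP chevF4 K [0, 3])⁻¹ : GL chevF4.Idx K) :
      Matrix chevF4.Idx chevF4.Idx K) = chevF4.wordMat K (f4PairWord (2 ^ m) 33 24 t₀) := by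
    rw [h1, wordMat_eq_wN]
    unfold f4PairWord
    simp only [List.map_cons, List.map_nil]
    rw [reflA_negs.1, reflA_negs.2]
  have h3 := pairA_mem_comm hK X ha t₀ _ h2
  have h4 := conj_mem_commutator (twistedF4 K (2 ^ m)) (inv_mem hn) h3
  have e : (nP chevF4 K [0, 3])⁻¹ * (nP chevF4 K [0, 3] * g * (nP chevF4 K [0, 3])⁻¹) *
      (nP chevF4 K [0, 3])⁻¹⁻¹ = g := by group
  rwa [e] at h4

/-- the negative class words lie in the derived subgroup -/
theorem clsBm_mem_comm (hK : Fintype.card K = 2 ^ (2 * m + 1))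
    (X : XEnd chevF4 K σ barF4 rhoF4 (expF4 m)) {a : Kˣ} (ha : a ≠ 1) (t₀ u₀ : K)
    (g : GL chevF4.Idx K) (hg : (g : Matrix chevF4.Idx chevF4.Idx K) =
      chevF4.wordMat K (b2ClassWord (2 ^ m) 20 22 19 17 t₀ u₀)) :
    g ∈ ⁅twistedF4 K (2 ^ m), twistedF4 K (2 ^ m)⁆ := by
  have hn := nP_B_mem (K := K) m
  have h1 := nP_conj_word2' hDF4 (two_eq_zero' (K := K)) (l := [1, 2, 1, 2]) (by decide)
    (b2ClassWord (2 ^ m) 20 22 19 17 t₀ u₀) (by
      intro p hp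
      unfold b2ClassWord at hp
      simp only [List.mem_cons, List.not_mem_nil, or_false] at hp
      rcases hp with rfl | rfl | rfl | rfl <;> (dsimp only; decide)) g
    (by rw [hg, wordMat_eq_wN])
  have h2 : ((nP chevF4 K [1, 2, 1, 2] * g * (nP chevF4 K [1, 2, 1, 2])⁻¹ : GL chevF4.Idx K) :
      Matrix chevF4.Idx chevF4.Idx K) =
      chevF4.wordMat K (b2ClassWord (2 ^ m) 27 25 28 30 t₀ u₀) := by
    rw [h1, wordMat_eq_wN]
    unfold b2ClassWord
    simp only [List.map_cons, List.map_nil]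
    rw [reflB_negs.1, reflB_negs.2.1, reflB_negs.2.2.1, reflB_negs.2.2.2]
  have h3 := clsB_mem_comm hK X ha t₀ u₀ _ h2
  have h4 := conj_mem_commutator (twistedF4 K (2 ^ m)) (inv_mem hn) h3
  have e : (nP chevF4 K [1, 2, 1, 2])⁻¹ *
      (nP chevF4 K [1, 2, 1, 2] * g * (nP chevF4 K [1, 2, 1, 2])⁻¹) *
      (nP chevF4 K [1, 2, 1, 2])⁻¹⁻¹ = g := by group
  rwa [e] at h4

/-- `²F₄(q)` is perfect for `q > 2` -/
theorem twistedF4_perfect (hK : Fintype.card K = 2 ^ (2 * m + 1)) (hm : 1 ≤ m)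
    (X : XEnd chevF4 K σ barF4 rhoF4 (expF4 m)) :
    twistedF4 K (2 ^ m) ≤ ⁅twistedF4 K (2 ^ m), twistedF4 K (2 ^ m)⁆ := by
  -- a unit different from `1`
  classical
  have hcard : 1 < Fintype.card Kˣ := by
    rw [Fintype.card_units, hK]
    have : 2 ^ 3 ≤ 2 ^ (2 * m + 1) := Nat.pow_le_pow_right (by norm_num) (by omega)
    omega
  obtain ⟨a, ha⟩ := Fintype.exists_ne_of_one_lt_card hcard (1 : Kˣ)
  conv_lhs => unfold twistedF4 ChevalleyDatum.genSubgroup
  rw [Subgroup.closure_le]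
  rintro g ⟨w, hw, hg⟩
  rcases hw with ⟨t, rfl | rfl⟩ | ⟨t, u, rfl | rfl⟩
  · exact pairA_mem_comm hK X ha t g hg
  · exact pairAm_mem_comm hK X ha t g hg
  · exact clsB_mem_comm hK X ha t u g hg
  · exact clsBm_mem_comm hK X ha t u g hg

end

end Cfsg.Agent.Lib.Helper8.Chev
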