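import Cfsg.Agent.Lib.Helper8.ChevXT9

set_option autoImplicit false
set_option maxRecDepth 100000

/-! Abstract twisted groups: simplicity. -/

namespace Cfsg.Agent.Lib.Helper8.Chev

open Cfsg.Lie Matrix Cfsg.Agent.Lib.Helper3
open scoped commutatorElement

namespace XBN

variable {D : ChevalleyDatum} {F : Type*} [Field F] {σ : GL D.Idx F → GL D.Idx F}
  {bar ρ E : ℕ → ℕ} {X : XEnd D F σ bar ρ E} {cls : List (List ℕ)}
  {G1 : Subgroup (GL D.Idx F)}

theorem nontrivial_grp (Y : XBN X cls G1) : Nontrivial ↥G1 := by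
  have hD := X.hD
  have hdyn := checkDyn_of_mem hD
  simp only [checkDyn, Bool.and_eq_true, Nat.blt_eq] at hdyn
  obtain ⟨c, hc, _⟩ := Y.cover 0 hdyn.1
  obtain ⟨u, hu, hne⟩ := Y.nontriv c hc
  refine ⟨⟨⟨u, hu.2⟩, 1, fun h => hne ?_⟩⟩
  exact congrArg Subtype.val h

/-- simplicity of a perfect abstract twisted group whose classes form a chain -/
theorem simple (Y : XBN X cls G1) (hperf : G1 ≤ ⁅G1, G1⁆)
    (hcen : ∀ x ∈ D.diagonalSubgroup F,
      (∀ u ∈ D.posUnipotent F ⊓ G1, x * u = u * x) → x = 1)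
    (L : List (List ℕ))
    (hL : ∀ J, J ∈ L ↔ J ∈ cls)
    (hadj : ∀ i (h : i + 1 < L.length), ∃ s < D.nroots,
      reflWord D L[i] (reflWord D L[i + 1] (reflWord D L[i].reverse
        (reflWord D L[i + 1].reverse s))) ≠ s) :
    IsSimpleGroup ↥G1 ∧ ¬ IsMulCommutative ↥G1 := by
  have hD := X.hD
  have V := valid0_of_mem hD
  have V1 := valid1_of_mem hD
  have VJ := validJ_of_mem hD
  have H := validH_of_mem hD
  have := Y.nontrivial_grp
  have hperf' := commutator_eq_top_of_le G1 hperf
  obtain ⟨P, hB, hN, hS⟩ := Y.bnpair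
  have hLc : ∀ J ∈ L, J ∈ cls := fun J hJ => (hL J).mp hJ
  refine ⟨?_, ?_⟩
  · apply BN.isSimpleGroup P ?_ ?_ hperf' ?_
    · -- irreducible
      have hmem : ∀ J ∈ L, nP D F J ∈ G1 := fun J hJ => Y.cls_n J (hLc J hJ)
      let L' : List ↥G1 := L.attach.map fun J => ⟨nP D F J.1, hmem J.1 J.2⟩
      have hlen : L'.length = L.length := by simp [L']
      have hget : ∀ i (h : i < L'.length), ((L'[i] : ↥G1) : GL D.Idx F) =
          nP D F (L[i]'(by omega)) := by
        intro i h
        simp [L']
      apply irr_of_chain P L'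
      · intro s
        rw [hS]
        constructor
        · rintro ⟨J, hJ, e⟩
          have hJL := (hL J).mpr hJ
          rw [List.mem_map]
          exact ⟨⟨J, hJL⟩, List.mem_attach _ _, Subtype.ext e.symm⟩
        · intro hs
          rw [List.mem_map] at hs
          obtain ⟨⟨J, hJL⟩, _, rfl⟩ := hs
          exact ⟨J, hLc J hJL, rfl⟩
      · intro i hi
        have hi' : i + 1 < L.length := by omega
        obtain ⟨s, hs, hne⟩ := hadj i hi'
        rw [hB, Subgroup.mem_subgroupOf]
        intro hcon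
        have h1 := (Subgroup.mem_inf.mp hcon).1
        simp only [Subgroup.coe_mul, Subgroup.coe_inv, hget] at h1
        exact comm_nP_not_mem_borel hD (Y.cls_ok _ (hLc _ (List.getElem_mem _))).lt
          (Y.cls_ok _ (hLc _ (List.getElem_mem _))).lt hs hne h1
    · -- `B¹` is solvable
      rw [hB]
      have : Group.IsNilpotent ↥(D.posUnipotent F) := Cfsg.Agent.S1029.result D hD
      have hsol : Group.IsSolvable ↥(D.borelSubgroup F) := borel_isSolvable VJ V1 H
      let f1 : ↥((D.borelSubgroup F ⊓ G1).subgroupOf G1) →* ↥(D.borelSubgroup F ⊓ G1) :=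
        (Subgroup.subgroupOfEquivOfLe (inf_le_right : D.borelSubgroup F ⊓ G1 ≤ G1)).toMonoidHom
      let f2 : ↥(D.borelSubgroup F ⊓ G1) →* ↥(D.borelSubgroup F) :=
        Subgroup.inclusion inf_le_left
      have hf2 : Function.Injective f2 := Subgroup.inclusion_injective inf_le_left
      have hf1 : Function.Injective f1 :=
        (Subgroup.subgroupOfEquivOfLe (inf_le_right : D.borelSubgroup F ⊓ G1 ≤ G1)).injective
      exact Group.isSolvable_of_isSolvable_injective (f := f2.comp f1) (hf2.comp hf1)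
    · rw [hB]
      exact Y.toXGrp.core_eq_bot hcen
  · intro hc
    have := commutator_eq_bot_of_comm (G := ↥G1) (fun a b => hc.is_comm.comm a b)
    rw [hperf'] at this
    exact top_ne_bot this

end XBN

end Cfsg.Agent.Lib.Helper8.Chev
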