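import Cfsg.Agent.Lib.Helper8.ChevRF21
import Cfsg.Agent.Lib.Helper8.ChevRF17
import Cfsg.Agent.Lib.Helper8.ChevXT10

set_option autoImplicit false
set_option maxRecDepth 100000

/-! `²F₄(q)` is simple for `q > 2`. -/

namespace Cfsg.Agent.Lib.Helper8.Chev

open Cfsg.Lie Matrix
open scoped commutatorElement

theorem adj_F4 : ∃ s < chevF4.nroots,
    reflWord chevF4 [0, 3] (reflWord chevF4 [1, 2, 1, 2] (reflWord chevF4 [0, 3].reverse
      (reflWord chevF4 [1, 2, 1, 2].reverse s))) ≠ s := by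
  refine ⟨0, by decide +kernel, by decide +kernel⟩

section

variable {K : Type*} [Field K] [Fintype K] [CharP K 2] {m : ℕ}
  {σ : GL chevF4.Idx K → GL chevF4.Idx K}

theorem simple_twistedF4 (hK : Fintype.card K = 2 ^ (2 * m + 1)) (hm : 1 ≤ m)
    (X : XEnd chevF4 K σ barF4 rhoF4 (expF4 m)) :
    IsSimpleGroup ↥(twistedF4 K (2 ^ m)) ∧ ¬ IsMulCommutative ↥(twistedF4 K (2 ^ m)) := by
  apply (xBN_F4 hK X).simple (twistedF4_perfect hK hm X) (cen_F4 m) clsF4 (fun J => Iff.rfl)
  intro i hi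
  have hi0 : i = 0 := by
    simp only [clsF4, List.length_cons, List.length_nil] at hi
    omega
  subst hi0
  exact adj_F4

end

end Cfsg.Agent.Lib.Helper8.Chev
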