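import Cfsg.Agent.Lib.Helper8.ChevRF2
import Cfsg.Agent.Lib.Helper8.ChevX9

set_option autoImplicit false

/-! The relations in the class subgroups of `F₄` in characteristic 2. -/

namespace Cfsg.Agent.Lib.Helper8.Chev

open Cfsg.Lie Matrix

/-- the relations of the unipotent subgroup of type `B₂` in characteristic 2; the index `i`
stands for `b, a, a+b, 2a+b` (`i = 0, …, 3`; `a` short, `b` long). -/
structure B2Rel {M : Type*} [Monoid M] {K : Type*} [Field K] (y : ℕ → K → M) : Prop where
  add : ∀ i s t, y i s * y i t = y i (s + t)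
  zero : ∀ i, y i 0 = 1
  c1 : ∀ t u, y 1 u * y 0 t = y 0 t * y 1 u * (y 2 (t * u) * y 3 (t * u ^ 2))
  c02 : ∀ s t, y 2 s * y 0 t = y 0 t * y 2 s
  c03 : ∀ s t, y 3 s * y 0 t = y 0 t * y 3 s
  c12 : ∀ s t, y 2 s * y 1 t = y 1 t * y 2 s
  c13 : ∀ s t, y 3 s * y 1 t = y 1 t * y 3 s
  c23 : ∀ s t, y 3 s * y 2 t = y 2 t * y 3 s

section

variable {K : Type*} [Field K]

theorem xF_add (r : ℕ) (s t : K) :
    chevF4.x K r s * chevF4.x K r t = chevF4.x K r (s + t) := by
  by_cases hr : r < 48
  · rw [x_eq_xN, x_eq_xN, x_eq_xN]
    exact xN_mul_xN (R := K) (valid0_of_mem hDF4) (valid1_of_mem hDF4) hr s t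
  · have hr' : ¬ r < chevF4.nroots := hr
    simp only [ChevalleyDatum.x]
    rw [dif_neg hr', dif_neg hr', dif_neg hr', mul_one]

theorem xF_zero (r : ℕ) : chevF4.x K r 0 = 1 := by
  rw [x_eq_xN]; exact xN_zero (valid0_of_mem hDF4) K r

/-- the commutator formula with the terms evaluated -/
theorem comm_evalF {r s : ℕ} (hr : r < 48) (hs : s < 48) (h1 : s ≠ r) (h2 : s ≠ chevF4.neg r)
    {L : List (ℕ × ℤ × ℕ × ℕ)} (hL : chevF4.commTerms r s = L) (t u : K) :
    chevF4.x K s u * chevF4.x K r t = chevF4.x K r t * chevF4.x K s u *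
      chevF4.wordMat K (L.map fun c => (c.1, (c.2.1 : K) * (-t) ^ c.2.2.1 * u ^ c.2.2.2)) := by
  rw [comm_formula hDF4 hr hs h1 h2 t u]
  unfold ChevalleyDatum.commWord
  rw [hL]

/-- root elements commute when all the structure constants vanish in `K` -/
theorem comm_of_terms {r s : ℕ} (hr : r < 48) (hs : s < 48) (h1 : s ≠ r)
    (h2 : s ≠ chevF4.neg r) {L : List (ℕ × ℤ × ℕ × ℕ)} (hL : chevF4.commTerms r s = L)
    (hz : ∀ c ∈ L, ((c.2.1 : ℤ) : K) = 0) (t u : K) :
    chevF4.x K s u * chevF4.x K r t = chevF4.x K r t * chevF4.x K s u := by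
  rw [comm_evalF hr hs h1 h2 hL t u]
  have hw : chevF4.wordMat K (L.map fun c => (c.1, (c.2.1 : K) * (-t) ^ c.2.2.1 * u ^ c.2.2.2))
      = 1 := by
    unfold ChevalleyDatum.wordMat
    rw [List.map_map]
    apply List.prod_eq_one
    intro x hx
    rw [List.mem_map] at hx
    obtain ⟨c, hc, rfl⟩ := hx
    simp only [Function.comp_apply]
    rw [hz c hc, zero_mul, zero_mul, xF_zero]
  rw [hw, mul_one]

/-- the positive roots of the class of type `B₂` -/
def yB (K : Type*) [Field K] (i : ℕ) (c : K) : Matrix chevF4.Idx chevF4.Idx K :=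
  chevF4.x K ([25, 27, 28, 30].getD i 0) c

/-- the negative roots of the class of type `B₂` -/
def yBm (K : Type*) [Field K] (i : ℕ) (c : K) : Matrix chevF4.Idx chevF4.Idx K :=
  chevF4.x K ([22, 20, 19, 17].getD i 0) c

variable [CharP K 2]

theorem two_eq_zero' : (2 : K) = 0 := by
  have := CharP.cast_eq_zero K 2
  exact_mod_cast this

theorem neg_eq_self' (t : K) : -t = t := by
  have h2 := two_eq_zero' (K := K)
  linear_combination (-t) * h2

theorem b2Rel_pos : B2Rel (yB K) := by
  have h2 := two_eq_zero' (K := K)
  have hzc : ((2 : ℤ) : K) = 0 := by exact_mod_cast h2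
  constructor
  · intro i s t; exact xF_add _ s t
  · intro i; exact xF_zero _
  · intro t u
    have := comm_evalF (K := K) (r := 25) (s := 27) (by decide) (by decide) (by decide)
      (by decide) (L := [(28, 1, 1, 1), (30, -1, 1, 2)]) (by decide) t u
    simp only [ChevalleyDatum.wordMat, List.map_cons, List.map_nil, List.prod_cons,
      List.prod_nil, mul_one, Int.cast_one, one_mul, Int.cast_neg, pow_one] at this
    show chevF4.x K 27 u * chevF4.x K 25 t = chevF4.x K 25 t * chevF4.x K 27 u *
      (chevF4.x K 28 (t * u) * chevF4.x K 30 (t * u ^ 2))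
    rw [this]
    simp only [neg_eq_self', one_mul]
  · intro s t
    exact comm_of_terms (r := 25) (s := 28) (by decide) (by decide) (by decide) (by decide)
      (L := []) (by decide) (by simp) t s
  · intro s t
    exact comm_of_terms (r := 25) (s := 30) (by decide) (by decide) (by decide) (by decide)
      (L := []) (by decide) (by simp) t s
  · intro s t
    exact comm_of_terms (r := 27) (s := 28) (by decide) (by decide) (by decide) (by decide)
      (L := [(30, 2, 1, 1)]) (by decide) (by simpa using hzc) t s
  · intro s t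
    exact comm_of_terms (r := 27) (s := 30) (by decide) (by decide) (by decide) (by decide)
      (L := []) (by decide) (by simp) t s
  · intro s t
    exact comm_of_terms (r := 28) (s := 30) (by decide) (by decide) (by decide) (by decide)
      (L := []) (by decide) (by simp) t s

theorem b2Rel_neg : B2Rel (yBm K) := by
  have h2 := two_eq_zero' (K := K)
  have hzc : ((-2 : ℤ) : K) = 0 := by
    rw [Int.cast_neg]; simp [h2]
  constructor
  · intro i s t; exact xF_add _ s t
  · intro i; exact xF_zero _
  · intro t u
    have := comm_evalF (K := K) (r := 22) (s := 20) (by decide) (by decide) (by decide)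
      (by decide) (L := [(19, -1, 1, 1), (17, -1, 1, 2)]) (by decide) t u
    simp only [ChevalleyDatum.wordMat, List.map_cons, List.map_nil, List.prod_cons,
      List.prod_nil, mul_one, Int.cast_one, one_mul, Int.cast_neg, pow_one] at this
    show chevF4.x K 20 u * chevF4.x K 22 t = chevF4.x K 22 t * chevF4.x K 20 u *
      (chevF4.x K 19 (t * u) * chevF4.x K 17 (t * u ^ 2))
    rw [this]
    simp only [neg_eq_self', one_mul]
  · intro s t
    exact comm_of_terms (r := 22) (s := 19) (by decide) (by decide) (by decide) (by decide)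
      (L := []) (by decide) (by simp) t s
  · intro s t
    exact comm_of_terms (r := 22) (s := 17) (by decide) (by decide) (by decide) (by decide)
      (L := []) (by decide) (by simp) t s
  · intro s t
    exact comm_of_terms (r := 20) (s := 19) (by decide) (by decide) (by decide) (by decide)
      (L := [(17, -2, 1, 1)]) (by decide) (by simpa using hzc) t s
  · intro s t
    exact comm_of_terms (r := 20) (s := 17) (by decide) (by decide) (by decide) (by decide)
      (L := []) (by decide) (by simp) t s
  · intro s t
    exact comm_of_terms (r := 19) (s := 17) (by decide) (by decide) (by decide) (by decide)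
      (L := []) (by decide) (by simp) t s

omit [CharP K 2] in
/-- the root subgroups of the class of type `A₁ × A₁` commute -/
theorem xA_comm (s t : K) :
    chevF4.x K 33 s * chevF4.x K 24 t = chevF4.x K 24 t * chevF4.x K 33 s :=
  comm_of_terms (r := 24) (s := 33) (by decide) (by decide) (by decide) (by decide)
    (L := []) (by decide) (by simp) t s

omit [CharP K 2] in
theorem xAm_comm (s t : K) :
    chevF4.x K 14 s * chevF4.x K 23 t = chevF4.x K 23 t * chevF4.x K 14 s :=
  comm_of_terms (r := 23) (s := 14) (by decide) (by decide) (by decide) (by decide)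
    (L := []) (by decide) (by simp) t s

end

end Cfsg.Agent.Lib.Helper8.Chev
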