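import Cfsg.Agent.Lib.Helper8.ChevRF3

set_option autoImplicit false

/-! Normal forms in the unipotent group of type `B₂` in characteristic 2. -/

namespace Cfsg.Agent.Lib.Helper8.Chev

open Cfsg.Lie Matrix

namespace B2Rel

variable {M : Type*} [Monoid M] {K : Type*} [Field K] {y : ℕ → K → M}

/-- the normal form `x_b(t) x_a(s) x_{a+b}(p) x_{2a+b}(r)` -/
def N4 (y : ℕ → K → M) (t s p r : K) : M := y 0 t * (y 1 s * (y 2 p * y 3 r))

section

variable (h : B2Rel y)
include h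

theorem add' (i : ℕ) (a b : K) (X : M) : y i a * (y i b * X) = y i (a + b) * X := by
  rw [← mul_assoc, h.add]

theorem lc02 (a b : K) (X : M) : y 2 a * (y 0 b * X) = y 0 b * (y 2 a * X) := by
  rw [← mul_assoc, h.c02, mul_assoc]

theorem lc03 (a b : K) (X : M) : y 3 a * (y 0 b * X) = y 0 b * (y 3 a * X) := by
  rw [← mul_assoc, h.c03, mul_assoc]

theorem lc12 (a b : K) (X : M) : y 2 a * (y 1 b * X) = y 1 b * (y 2 a * X) := by
  rw [← mul_assoc, h.c12, mul_assoc]

theorem lc13 (a b : K) (X : M) : y 3 a * (y 1 b * X) = y 1 b * (y 3 a * X) := by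
  rw [← mul_assoc, h.c13, mul_assoc]

theorem lc23 (a b : K) (X : M) : y 3 a * (y 2 b * X) = y 2 b * (y 3 a * X) := by
  rw [← mul_assoc, h.c23, mul_assoc]

theorem lc1 (u t : K) (X : M) :
    y 1 u * (y 0 t * X) = y 0 t * (y 1 u * (y 2 (t * u) * (y 3 (t * u ^ 2) * X))) := by
  rw [← mul_assoc, h.c1]
  simp only [mul_assoc]

theorem N4_mul (t s p r t' s' p' r' : K) :
    N4 y t s p r * N4 y t' s' p' r' =
      N4 y (t + t') (s + s') (p + p' + t' * s) (r + r' + t' * s ^ 2) := by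
  unfold N4
  simp only [mul_assoc]
  rw [h.lc03 r t', h.lc02 p t', h.lc1 s t', h.add' 0 t t']
  rw [h.lc13 r s', h.lc12 p s', h.lc13 (t' * s ^ 2) s', h.lc12 (t' * s) s', h.add' 1 s s']
  rw [h.lc23 (t' * s ^ 2) p, h.add' 2, h.add' 3, h.lc23 _ p', h.add' 2, h.add 3]
  have e1 : t' * s + p + p' = p + p' + t' * s := by ring
  have e2 : t' * s ^ 2 + r + r' = r + r' + t' * s ^ 2 := by ring
  rw [e1, e2]

theorem N4_zero : N4 y 0 0 0 0 = 1 := by
  unfold N4
  rw [h.zero, h.zero, h.zero, h.zero, mul_one, mul_one, mul_one]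

theorem N4_gen0 (t : K) : y 0 t = N4 y t 0 0 0 := by
  unfold N4
  rw [h.zero, h.zero, h.zero, mul_one, mul_one, mul_one]

theorem N4_gen1 (t : K) : y 1 t = N4 y 0 t 0 0 := by
  unfold N4
  rw [h.zero, h.zero, h.zero, mul_one, mul_one, one_mul]

theorem N4_gen2 (t : K) : y 2 t = N4 y 0 0 t 0 := by
  unfold N4
  rw [h.zero, h.zero, h.zero, mul_one, one_mul, one_mul]

theorem N4_gen3 (t : K) : y 3 t = N4 y 0 0 0 t := by
  unfold N4
  rw [h.zero, h.zero, h.zero, one_mul, one_mul, one_mul]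

/-- the inverse of a normal form, in characteristic 2 -/
theorem N4_mul_inv (h2 : ∀ a : K, a + a = 0) (t s p r : K) :
    N4 y t s p r * N4 y t s (p + t * s) (r + t * s ^ 2) = 1 := by
  rw [h.N4_mul, h2 t, h2 s]
  have e1 : p + (p + t * s) + t * s = 0 := by
    have := h2 (p + t * s)
    rw [← this]; ring
  have e2 : r + (r + t * s ^ 2) + t * s ^ 2 = 0 := by
    have := h2 (r + t * s ^ 2)
    rw [← this]; ring
  rw [e1, e2, h.N4_zero]

/-- the normal form of a class word -/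
theorem word_eq_N4 (a b c d : K) :
    y 1 a * (y 0 b * (y 2 c * y 3 d)) = N4 y b a (b * a + c) (b * a ^ 2 + d) := by
  unfold N4
  rw [h.lc1 a b, h.lc23 _ c, h.add' 2, h.add 3]

/-- the normal form of the image of a normal form under the twisting endomorphism -/
theorem twist_eq_N4 (a b c d : K) :
    y 1 a * (y 0 b * (y 3 c * y 2 d)) = N4 y b a (b * a + d) (b * a ^ 2 + c) := by
  unfold N4
  rw [h.lc1 a b, h.add' 3, h.c23, h.add' 2]

end

end B2Rel

end Cfsg.Agent.Lib.Helper8.Chev
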