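import Cfsg.Agent.Lib.Helper8.ChevRF4

set_option autoImplicit false

/-! The fixed points of the twisting endomorphism in the class subgroups of `F₄`. -/

namespace Cfsg.Agent.Lib.Helper8.Chev

open Cfsg.Lie Matrix

section

variable {K : Type*} [Field K]

theorem wordMatF_nil : chevF4.wordMat K [] = 1 := rfl

theorem wordMatF_cons (p : ℕ × K) (w : List (ℕ × K)) :
    chevF4.wordMat K (p :: w) = chevF4.x K p.1 p.2 * chevF4.wordMat K w := by
  simp [ChevalleyDatum.wordMat]

/-- only the roots with nonzero coordinate contribute to a word -/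
theorem wordMat_map_filter (S : List ℕ) (c : ℕ → K) (hc : ∀ r, r ∉ S → c r = 0) (l : List ℕ) :
    chevF4.wordMat K (l.map fun r => (r, c r)) =
      chevF4.wordMat K ((l.filter (· ∈ S)).map fun r => (r, c r)) := by
  induction l with
  | nil => rfl
  | cons r l ih =>
    rw [List.map_cons, wordMatF_cons, ih]
    by_cases hr : r ∈ S
    · rw [List.filter_cons_of_pos (by simpa using hr), List.map_cons, wordMatF_cons]
    · rw [List.filter_cons_of_neg (by simpa using hr)]
      show chevF4.x K r (c r) * _ = _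
      rw [hc r hr, xF_zero, one_mul]

theorem posRoots_F4_filterB : chevF4.posRoots.filter (· ∈ [25, 27, 28, 30]) = [25, 27, 28, 30] := by
  decide

theorem posRoots_F4_filterA : chevF4.posRoots.filter (· ∈ [24, 33]) = [24, 33] := by
  decide

/-- the coordinate function of a normal form of the class of type `B₂` -/
def coordB (t s p r : K) : ℕ → K := fun k =>
  if k = 25 then t else if k = 27 then s else if k = 28 then p else if k = 30 then r else 0

theorem coordB_zero (t s p r : K) (k : ℕ) (hk : k ∉ [25, 27, 28, 30]) : coordB t s p r k = 0 := by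
  unfold coordB
  simp only [List.mem_cons, List.not_mem_nil, or_false, not_or] at hk
  rw [if_neg hk.1, if_neg hk.2.1, if_neg hk.2.2.1, if_neg hk.2.2.2]

theorem coordB_npos (t s p r : K) (k : ℕ) (hk : ¬ chevF4.IsPosRoot k) : coordB t s p r k = 0 := by
  apply coordB_zero
  intro hmem
  apply hk
  simp only [List.mem_cons, List.not_mem_nil, or_false] at hmem
  rcases hmem with rfl | rfl | rfl | rfl <;> decide

theorem N4B_eq_wordMat (t s p r : K) :
    B2Rel.N4 (yB K) t s p r =
      chevF4.wordMat K (chevF4.posRoots.map fun k => (k, coordB t s p r k)) := by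
  rw [wordMat_map_filter [25, 27, 28, 30] _ (coordB_zero t s p r), posRoots_F4_filterB]
  simp only [List.map_cons, List.map_nil, wordMatF_cons, wordMatF_nil, mul_one]
  rfl

theorem N4B_inj {t s p r t' s' p' r' : K}
    (h : B2Rel.N4 (yB K) t s p r = B2Rel.N4 (yB K) t' s' p' r') :
    t = t' ∧ s = s' ∧ p = p' ∧ r = r' := by
  obtain ⟨hex, hall⟩ := posUnipotent_unique_word (F := K) hDF4
  obtain ⟨g, hg, hm⟩ := hall (coordB t s p r)
  obtain ⟨c, -, huniq⟩ := hex g hg
  have h1 := huniq (coordB t s p r) ⟨coordB_npos _ _ _ _, hm⟩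
  have h2 := huniq (coordB t' s' p' r') ⟨coordB_npos _ _ _ _, by
    rw [hm, ← N4B_eq_wordMat, ← N4B_eq_wordMat, h]⟩
  have e : coordB t s p r = coordB t' s' p' r' := h1.trans h2.symm
  exact ⟨congrFun e 25, congrFun e 27, congrFun e 28, congrFun e 30⟩

/-- the coordinate function of a normal form of the class of type `A₁ × A₁` -/
def coordA (t s : K) : ℕ → K := fun k => if k = 24 then t else if k = 33 then s else 0

theorem coordA_zero (t s : K) (k : ℕ) (hk : k ∉ [24, 33]) : coordA t s k = 0 := by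
  unfold coordA
  simp only [List.mem_cons, List.not_mem_nil, or_false, not_or] at hk
  rw [if_neg hk.1, if_neg hk.2]

theorem coordA_npos (t s : K) (k : ℕ) (hk : ¬ chevF4.IsPosRoot k) : coordA t s k = 0 := by
  apply coordA_zero
  intro hmem
  apply hk
  simp only [List.mem_cons, List.not_mem_nil, or_false] at hmem
  rcases hmem with rfl | rfl <;> decide

theorem N2A_eq_wordMat (t s : K) :
    chevF4.x K 24 t * chevF4.x K 33 s =
      chevF4.wordMat K (chevF4.posRoots.map fun k => (k, coordA t s k)) := by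
  rw [wordMat_map_filter [24, 33] _ (coordA_zero t s), posRoots_F4_filterA]
  simp only [List.map_cons, List.map_nil, wordMatF_cons, wordMatF_nil, mul_one]
  rfl

theorem N2A_inj {t s t' s' : K}
    (h : chevF4.x K 24 t * chevF4.x K 33 s = chevF4.x K 24 t' * chevF4.x K 33 s') :
    t = t' ∧ s = s' := by
  obtain ⟨hex, hall⟩ := posUnipotent_unique_word (F := K) hDF4
  obtain ⟨g, hg, hm⟩ := hall (coordA t s)
  obtain ⟨c, -, huniq⟩ := hex g hg
  have h1 := huniq (coordA t s) ⟨coordA_npos _ _, hm⟩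
  have h2 := huniq (coordA t' s') ⟨coordA_npos _ _, by
    rw [hm, ← N2A_eq_wordMat, ← N2A_eq_wordMat, h]⟩
  have e : coordA t s = coordA t' s' := h1.trans h2.symm
  exact ⟨congrFun e 24, congrFun e 33⟩

theorem reflB_cases : ∀ r < 48, 24 ≤ r → reflWord chevF4 [1, 2, 1, 2] r < 24 →
    r = 25 ∨ r = 27 ∨ r = 28 ∨ r = 30 := by decide

theorem reflA_cases : ∀ r < 48, 24 ≤ r → reflWord chevF4 [0, 3] r < 24 →
    r = 24 ∨ r = 33 := by decide

end

section

variable {K : Type*} [Field K] [CharP K 2]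

theorem add_self' (a : K) : a + a = 0 := by
  have h2 := two_eq_zero' (K := K)
  linear_combination a * h2

/-- the elements of the class subgroup of type `B₂` are normal forms -/
theorem unegW_B_form {g : GL chevF4.Idx K} (hg : g ∈ UnegW chevF4 K [1, 2, 1, 2]) :
    ∃ t s p r : K, (g : Matrix chevF4.Idx chevF4.Idx K) = B2Rel.N4 (yB K) t s p r := by
  have hB := b2Rel_pos (K := K)
  induction hg using Subgroup.closure_induction with
  | mem x hx =>
    obtain ⟨r, t, h1, h2, h3, hx⟩ := hx
    rcases reflB_cases r h2 h1 h3 with rfl | rfl | rfl | rfl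
    · exact ⟨t, 0, 0, 0, by rw [hx, ← hB.N4_gen0]; rfl⟩
    · exact ⟨0, t, 0, 0, by rw [hx, ← hB.N4_gen1]; rfl⟩
    · exact ⟨0, 0, t, 0, by rw [hx, ← hB.N4_gen2]; rfl⟩
    · exact ⟨0, 0, 0, t, by rw [hx, ← hB.N4_gen3]; rfl⟩
  | one => exact ⟨0, 0, 0, 0, by rw [hB.N4_zero]; rfl⟩
  | mul x y _ _ hx hy =>
    obtain ⟨t, s, p, r, e⟩ := hx
    obtain ⟨t', s', p', r', e'⟩ := hy
    exact ⟨_, _, _, _, by rw [Units.val_mul, e, e', hB.N4_mul]⟩
  | inv x _ hx =>
    obtain ⟨t, s, p, r, e⟩ := hx
    refine ⟨t, s, p + t * s, r + t * s ^ 2, ?_⟩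
    have h1 := hB.N4_mul_inv add_self' t s p r
    rw [← e] at h1
    calc ((x⁻¹ : GL chevF4.Idx K) : Matrix chevF4.Idx chevF4.Idx K)
        = ((x⁻¹ : GL chevF4.Idx K) : Matrix chevF4.Idx chevF4.Idx K) *
          ((x : Matrix chevF4.Idx chevF4.Idx K) *
            B2Rel.N4 (yB K) t s (p + t * s) (r + t * s ^ 2)) := by rw [h1, mul_one]
      _ = B2Rel.N4 (yB K) t s (p + t * s) (r + t * s ^ 2) := by
        rw [← mul_assoc, ← Units.val_mul, inv_mul_cancel, Units.val_one, one_mul]

/-- the elements of the class subgroup of type `A₁ × A₁` are normal forms -/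
theorem unegW_A_form {g : GL chevF4.Idx K} (hg : g ∈ UnegW chevF4 K [0, 3]) :
    ∃ t s : K, (g : Matrix chevF4.Idx chevF4.Idx K) = chevF4.x K 24 t * chevF4.x K 33 s := by
  induction hg using Subgroup.closure_induction with
  | mem x hx =>
    obtain ⟨r, t, h1, h2, h3, hx⟩ := hx
    rcases reflA_cases r h2 h1 h3 with rfl | rfl
    · exact ⟨t, 0, by rw [hx, xF_zero, mul_one]⟩
    · exact ⟨0, t, by rw [hx, xF_zero, one_mul]⟩
  | one => exact ⟨0, 0, by rw [xF_zero, xF_zero, mul_one]; rfl⟩
  | mul x y _ _ hx hy =>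
    obtain ⟨t, s, e⟩ := hx
    obtain ⟨t', s', e'⟩ := hy
    refine ⟨t + t', s + s', ?_⟩
    rw [Units.val_mul, e, e', mul_assoc, ← mul_assoc (chevF4.x K 33 s), xA_comm, mul_assoc,
      xF_add, ← mul_assoc, xF_add]
  | inv x _ hx =>
    obtain ⟨t, s, e⟩ := hx
    refine ⟨t, s, ?_⟩
    have h1 : (x : Matrix chevF4.Idx chevF4.Idx K) * (chevF4.x K 24 t * chevF4.x K 33 s) = 1 := by
      rw [e, mul_assoc, ← mul_assoc (chevF4.x K 33 s), xA_comm, mul_assoc,
        xF_add, ← mul_assoc, xF_add, add_self', add_self', xF_zero, xF_zero, mul_one]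
    calc ((x⁻¹ : GL chevF4.Idx K) : Matrix chevF4.Idx chevF4.Idx K)
        = ((x⁻¹ : GL chevF4.Idx K) : Matrix chevF4.Idx chevF4.Idx K) *
          ((x : Matrix chevF4.Idx chevF4.Idx K) *
            (chevF4.x K 24 t * chevF4.x K 33 s)) := by rw [h1, mul_one]
      _ = chevF4.x K 24 t * chevF4.x K 33 s := by
        rw [← mul_assoc, ← Units.val_mul, inv_mul_cancel, Units.val_one, one_mul]

end

end Cfsg.Agent.Lib.Helper8.Chev
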