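import Cfsg.Agent.Lib.Helper8.ChevRF5

set_option autoImplicit false

/-! The fixed points of the twisting endomorphism in the class subgroups of `F₄` lie in `²F₄`,
and `²F₄` is fixed by the twisting endomorphism. -/

namespace Cfsg.Agent.Lib.Helper8.Chev

open Cfsg.Lie Matrix

namespace B2Rel

variable {M : Type*} [Monoid M] {K : Type*} [Field K] {y : ℕ → K → M}

/-- the class words are invariant under the twist -/
theorem cls_twist (h : B2Rel y) (h2 : ∀ a : K, a + a = 0) {e : ℕ}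
    (hadd : ∀ a b : K, (a + b) ^ (2 * e) = a ^ (2 * e) + b ^ (2 * e))
    (hθ : ∀ a : K, (a ^ e) ^ (2 * e) = a) (t u : K) :
    y 0 ((t ^ e) ^ (2 * e)) * (y 1 (t ^ e) * (y 3 ((t ^ (e + 1) + u) ^ (2 * e)) *
        y 2 ((u ^ (2 * e)) ^ e))) =
      y 1 (t ^ e) * (y 0 t * (y 2 (t ^ (e + 1) + u) * y 3 (u ^ (2 * e)))) := by
  have hu : (u ^ (2 * e)) ^ e = u := by
    rw [← pow_mul, mul_comm, pow_mul, hθ]
  have hR : (t ^ (e + 1) + u) ^ (2 * e) = t * (t ^ e) ^ 2 + u ^ (2 * e) := by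
    rw [hadd, pow_succ, mul_pow, hθ]
    congr 1
    rw [← pow_mul, mul_comm e 2]
  rw [hθ, hu, hR, h.c23, h.word_eq_N4]
  unfold N4
  have e1 : t * t ^ e + (t ^ (e + 1) + u) = u := by
    rw [pow_succ, mul_comm t, ← add_assoc, h2, zero_add]
  rw [e1]

end B2Rel

section

variable {K : Type*} [Field K] {m : ℕ}

theorem pow_theta [Fintype K] (hK : Fintype.card K = 2 ^ (2 * m + 1)) (a : K) :
    (a ^ 2 ^ m) ^ (2 * 2 ^ m) = a := by
  rw [← pow_mul]
  have : 2 ^ m * (2 * 2 ^ m) = Fintype.card K := by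
    rw [hK]; ring
  rw [this, FiniteField.pow_card]

theorem add_pow_two_theta [CharP K 2] (a b : K) :
    (a + b) ^ (2 * 2 ^ m) = a ^ (2 * 2 ^ m) + b ^ (2 * 2 ^ m) := by
  have : Fact (Nat.Prime 2) := ⟨Nat.prime_two⟩
  have e : 2 * 2 ^ m = 2 ^ (m + 1) := by ring
  rw [e]
  exact add_pow_char_pow a b 2 (m + 1)

variable {σ : GL chevF4.Idx K → GL chevF4.Idx K}

theorem barF4_vals : barF4 25 = 27 ∧ barF4 27 = 25 ∧ barF4 28 = 30 ∧ barF4 30 = 28 ∧
    barF4 24 = 33 ∧ barF4 33 = 24 ∧ barF4 22 = 20 ∧ barF4 20 = 22 ∧ barF4 19 = 17 ∧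
    barF4 17 = 19 ∧ barF4 23 = 14 ∧ barF4 14 = 23 := by decide

theorem lamF4_vals : lamN exDataF4 25 = 1 ∧ lamN exDataF4 27 = 2 ∧ lamN exDataF4 28 = 2 ∧
    lamN exDataF4 30 = 1 ∧ lamN exDataF4 24 = 1 ∧ lamN exDataF4 33 = 2 ∧
    lamN exDataF4 22 = 1 ∧ lamN exDataF4 20 = 2 ∧ lamN exDataF4 19 = 2 ∧
    lamN exDataF4 17 = 1 ∧ lamN exDataF4 23 = 1 ∧ lamN exDataF4 14 = 2 := by decide

theorem wNF_cons (p : ℕ × K) (w : List (ℕ × K)) :
    wN chevF4 K (p :: w) = chevF4.x K p.1 p.2 * wN chevF4 K w := by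
  rw [wN_cons, x_eq_xN]

/-- the image of a word of four root elements -/
theorem map_word4 (X : XEnd chevF4 K σ barF4 rhoF4 (expF4 m)) {r1 r2 r3 r4 : ℕ}
    (h1 : r1 < 48) (h2 : r2 < 48) (h3 : r3 < 48) (h4 : r4 < 48) (c1 c2 c3 c4 : K)
    (g : GL chevF4.Idx K) (hg : (g : Matrix chevF4.Idx chevF4.Idx K) =
      chevF4.x K r1 c1 * (chevF4.x K r2 c2 * (chevF4.x K r3 c3 * chevF4.x K r4 c4))) :
    ((σ g : GL chevF4.Idx K) : Matrix chevF4.Idx chevF4.Idx K) =
      chevF4.x K (barF4 r1) (c1 ^ expF4 m r1) * (chevF4.x K (barF4 r2) (c2 ^ expF4 m r2) *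
        (chevF4.x K (barF4 r3) (c3 ^ expF4 m r3) * chevF4.x K (barF4 r4) (c4 ^ expF4 m r4))) := by
  have := X.map_word [(r1, c1), (r2, c2), (r3, c3), (r4, c4)] (by
    intro p hp
    simp only [List.mem_cons, List.not_mem_nil, or_false] at hp
    rcases hp with rfl | rfl | rfl | rfl <;> assumption) g (by
    rw [hg]; simp only [wNF_cons, wN_nil, mul_one])
  rw [this]
  unfold barW
  simp only [List.map_cons, List.map_nil, wNF_cons, wN_nil, mul_one]

/-- the image of a word of two root elements -/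
theorem map_word2 (X : XEnd chevF4 K σ barF4 rhoF4 (expF4 m)) {r1 r2 : ℕ}
    (h1 : r1 < 48) (h2 : r2 < 48) (c1 c2 : K)
    (g : GL chevF4.Idx K) (hg : (g : Matrix chevF4.Idx chevF4.Idx K) =
      chevF4.x K r1 c1 * chevF4.x K r2 c2) :
    ((σ g : GL chevF4.Idx K) : Matrix chevF4.Idx chevF4.Idx K) =
      chevF4.x K (barF4 r1) (c1 ^ expF4 m r1) * chevF4.x K (barF4 r2) (c2 ^ expF4 m r2) := by
  have := X.map_word [(r1, c1), (r2, c2)] (by
    intro p hp
    simp only [List.mem_cons, List.not_mem_nil, or_false] at hp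
    rcases hp with rfl | rfl <;> assumption) g (by
    rw [hg]; simp only [wNF_cons, wN_nil, mul_one])
  rw [this]
  unfold barW
  simp only [List.map_cons, List.map_nil, wNF_cons, wN_nil, mul_one]

theorem mem_group4 {r1 r2 r3 r4 : ℕ}
    (h1 : r1 < 48) (h2 : r2 < 48) (h3 : r3 < 48) (h4 : r4 < 48) (c1 c2 c3 c4 : K)
    (g : GL chevF4.Idx K) (hg : (g : Matrix chevF4.Idx chevF4.Idx K) =
      chevF4.x K r1 c1 * (chevF4.x K r2 c2 * (chevF4.x K r3 c3 * chevF4.x K r4 c4))) :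
    g ∈ chevF4.group K := by
  refine mem_group_of_word (valid0_of_mem hDF4) (valid1_of_mem hDF4)
    [(r1, c1), (r2, c2), (r3, c3), (r4, c4)] (by
    intro p hp
    simp only [List.mem_cons, List.not_mem_nil, or_false] at hp
    rcases hp with rfl | rfl | rfl | rfl <;> assumption) g (by
    rw [hg]; simp only [wNF_cons, wN_nil, mul_one])

theorem mem_group2 {r1 r2 : ℕ} (h1 : r1 < 48) (h2 : r2 < 48) (c1 c2 : K)
    (g : GL chevF4.Idx K) (hg : (g : Matrix chevF4.Idx chevF4.Idx K) =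
      chevF4.x K r1 c1 * chevF4.x K r2 c2) :
    g ∈ chevF4.group K := by
  refine mem_group_of_word (valid0_of_mem hDF4) (valid1_of_mem hDF4)
    [(r1, c1), (r2, c2)] (by
    intro p hp
    simp only [List.mem_cons, List.not_mem_nil, or_false] at hp
    rcases hp with rfl | rfl <;> assumption) g (by
    rw [hg]; simp only [wNF_cons, wN_nil, mul_one])

theorem clsWordB_mat (e : ℕ) (t u : K) :
    chevF4.wordMat K (b2ClassWord e 27 25 28 30 t u) =
      yB K 1 (t ^ e) * (yB K 0 t * (yB K 2 (t ^ (e + 1) + u) * yB K 3 (u ^ (2 * e)))) := by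
  unfold b2ClassWord
  simp only [wordMatF_cons, wordMatF_nil, mul_one]
  rfl

theorem clsWordBm_mat (e : ℕ) (t u : K) :
    chevF4.wordMat K (b2ClassWord e 20 22 19 17 t u) =
      yBm K 1 (t ^ e) * (yBm K 0 t * (yBm K 2 (t ^ (e + 1) + u) * yBm K 3 (u ^ (2 * e)))) := by
  unfold b2ClassWord
  simp only [wordMatF_cons, wordMatF_nil, mul_one]
  rfl

theorem pairWord_mat (e : ℕ) (r s : ℕ) (t : K) :
    chevF4.wordMat K (f4PairWord e r s t) = chevF4.x K r (t ^ e) * chevF4.x K s t := by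
  unfold f4PairWord
  simp only [wordMatF_cons, wordMatF_nil, mul_one]

theorem clsB_mem_twisted (e : ℕ) (t u : K) (g : GL chevF4.Idx K)
    (hg : (g : Matrix chevF4.Idx chevF4.Idx K) =
      chevF4.wordMat K (b2ClassWord e 27 25 28 30 t u)) : g ∈ twistedF4 K e := by
  unfold twistedF4 ChevalleyDatum.genSubgroup
  exact Subgroup.subset_closure ⟨_, Or.inr ⟨t, u, Or.inl rfl⟩, hg⟩

theorem clsBm_mem_twisted (e : ℕ) (t u : K) (g : GL chevF4.Idx K)
    (hg : (g : Matrix chevF4.Idx chevF4.Idx K) =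
      chevF4.wordMat K (b2ClassWord e 20 22 19 17 t u)) : g ∈ twistedF4 K e := by
  unfold twistedF4 ChevalleyDatum.genSubgroup
  exact Subgroup.subset_closure ⟨_, Or.inr ⟨t, u, Or.inr rfl⟩, hg⟩

theorem clsA_mem_twisted (e : ℕ) (t : K) (g : GL chevF4.Idx K)
    (hg : (g : Matrix chevF4.Idx chevF4.Idx K) =
      chevF4.wordMat K (f4PairWord e 33 24 t)) : g ∈ twistedF4 K e := by
  unfold twistedF4 ChevalleyDatum.genSubgroup
  exact Subgroup.subset_closure ⟨_, Or.inl ⟨t, Or.inl rfl⟩, hg⟩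

theorem clsAm_mem_twisted (e : ℕ) (t : K) (g : GL chevF4.Idx K)
    (hg : (g : Matrix chevF4.Idx chevF4.Idx K) =
      chevF4.wordMat K (f4PairWord e 14 23 t)) : g ∈ twistedF4 K e := by
  unfold twistedF4 ChevalleyDatum.genSubgroup
  exact Subgroup.subset_closure ⟨_, Or.inl ⟨t, Or.inr rfl⟩, hg⟩

variable [CharP K 2]

/-- the fixed points in the class subgroup of type `B₂` are class words -/
theorem clsB_fix_form (X : XEnd chevF4 K σ barF4 rhoF4 (expF4 m)) {g : GL chevF4.Idx K}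
    (hg : g ∈ UnegW chevF4 K [1, 2, 1, 2]) (hfix : σ g = g) :
    ∃ t u : K, (g : Matrix chevF4.Idx chevF4.Idx K) =
      chevF4.wordMat K (b2ClassWord (2 ^ m) 27 25 28 30 t u) := by
  have hB := b2Rel_pos (K := K)
  obtain ⟨t, s, p, r, e⟩ := unegW_B_form hg
  have h1 := map_word4 X (r1 := 25) (r2 := 27) (r3 := 28) (r4 := 30) (by decide) (by decide)
    (by decide) (by decide) t s p r g e
  rw [hfix, e] at h1
  obtain ⟨b1, b2, b3, b4, -⟩ := barF4_vals
  obtain ⟨l1, l2, l3, l4, -⟩ := lamF4_vals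
  unfold expF4 at h1
  rw [b1, b2, b3, b4, l1, l2, l3, l4, one_mul] at h1
  have h2 : B2Rel.N4 (yB K) t s p r = yB K 1 (t ^ 2 ^ m) * (yB K 0 (s ^ (2 * 2 ^ m)) *
      (yB K 3 (p ^ (2 * 2 ^ m)) * yB K 2 (r ^ 2 ^ m))) := h1
  rw [hB.twist_eq_N4] at h2
  obtain ⟨e1, e2, e3, e4⟩ := N4B_inj h2
  refine ⟨t, p, ?_⟩
  rw [clsWordB_mat, hB.word_eq_N4, e]
  have e5 : t * t ^ 2 ^ m + (t ^ (2 ^ m + 1) + p) = p := by
    rw [pow_succ, mul_comm t, ← add_assoc, add_self', zero_add]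
  rw [← e2, ← e1] at e4
  rw [e5, ← e2, ← e4]

/-- the fixed points in the class subgroup of type `A₁ × A₁` are pair words -/
theorem clsA_fix_form (X : XEnd chevF4 K σ barF4 rhoF4 (expF4 m)) {g : GL chevF4.Idx K}
    (hg : g ∈ UnegW chevF4 K [0, 3]) (hfix : σ g = g) :
    ∃ t : K, (g : Matrix chevF4.Idx chevF4.Idx K) =
      chevF4.wordMat K (f4PairWord (2 ^ m) 33 24 t) := by
  obtain ⟨t, s, e⟩ := unegW_A_form hg
  have h1 := map_word2 X (r1 := 24) (r2 := 33) (by decide) (by decide) t s g e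
  rw [hfix, e] at h1
  obtain ⟨-, -, -, -, b1, b2, -⟩ := barF4_vals
  obtain ⟨-, -, -, -, l1, l2, -⟩ := lamF4_vals
  unfold expF4 at h1
  rw [b1, b2, l1, l2, one_mul, xA_comm] at h1
  obtain ⟨e1, e2⟩ := N2A_inj h1
  refine ⟨t, ?_⟩
  rw [pairWord_mat, e, xA_comm, ← e2]

theorem clsB_fix_le (X : XEnd chevF4 K σ barF4 rhoF4 (expF4 m)) :
    UnegW chevF4 K [1, 2, 1, 2] ⊓ X.fix ≤ twistedF4 K (2 ^ m) := by
  intro g hg
  obtain ⟨hg1, hg2⟩ := Subgroup.mem_inf.mp hg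
  obtain ⟨t, u, e⟩ := clsB_fix_form X hg1 hg2.2
  exact clsB_mem_twisted _ t u g e

theorem clsA_fix_le (X : XEnd chevF4 K σ barF4 rhoF4 (expF4 m)) :
    UnegW chevF4 K [0, 3] ⊓ X.fix ≤ twistedF4 K (2 ^ m) := by
  intro g hg
  obtain ⟨hg1, hg2⟩ := Subgroup.mem_inf.mp hg
  obtain ⟨t, e⟩ := clsA_fix_form X hg1 hg2.2
  exact clsA_mem_twisted _ t g e

/-- `²F₄` consists of fixed points of the twisting endomorphism -/
theorem twistedF4_le_fix [Fintype K] (hK : Fintype.card K = 2 ^ (2 * m + 1))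
    (X : XEnd chevF4 K σ barF4 rhoF4 (expF4 m)) : twistedF4 K (2 ^ m) ≤ X.fix := by
  have hB := b2Rel_pos (K := K)
  have hBm := b2Rel_neg (K := K)
  obtain ⟨b1, b2, b3, b4, b5, b6, b7, b8, b9, b10, b11, b12⟩ := barF4_vals
  obtain ⟨l1, l2, l3, l4, l5, l6, l7, l8, l9, l10, l11, l12⟩ := lamF4_vals
  unfold twistedF4 ChevalleyDatum.genSubgroup
  rw [Subgroup.closure_le]
  rintro g ⟨w, hw, hg⟩
  rw [SetLike.mem_coe, X.mem_fix]
  rcases hw with ⟨t, rfl | rfl⟩ | ⟨t, u, rfl | rfl⟩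
  · rw [show f4p1 = 33 from rfl, show f4p4 = 24 from rfl, pairWord_mat] at hg
    refine ⟨mem_group2 (by decide) (by decide) _ _ g hg, Units.ext ?_⟩
    rw [map_word2 X (by decide) (by decide) _ _ g hg, hg]
    unfold expF4
    rw [b5, b6, l5, l6, one_mul, pow_theta hK, xA_comm]
  · rw [show f4m1 = 14 from rfl, show f4m4 = 23 from rfl, pairWord_mat] at hg
    refine ⟨mem_group2 (by decide) (by decide) _ _ g hg, Units.ext ?_⟩
    rw [map_word2 X (by decide) (by decide) _ _ g hg, hg]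
    unfold expF4
    rw [b11, b12, l11, l12, one_mul, pow_theta hK, xAm_comm]
  · rw [show f4a = 27 from rfl, show f4b = 25 from rfl, show f4ab = 28 from rfl,
      show f4aab = 30 from rfl, clsWordB_mat] at hg
    replace hg : (g : Matrix chevF4.Idx chevF4.Idx K) = chevF4.x K 27 (t ^ 2 ^ m) *
      (chevF4.x K 25 t * (chevF4.x K 28 (t ^ (2 ^ m + 1) + u) *
        chevF4.x K 30 (u ^ (2 * 2 ^ m)))) := hg
    refine ⟨mem_group4 (by decide) (by decide) (by decide) (by decide) _ _ _ _ g hg,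
      Units.ext ?_⟩
    rw [map_word4 X (by decide) (by decide) (by decide) (by decide) _ _ _ _ g hg, hg]
    unfold expF4
    rw [b1, b2, b3, b4, l1, l2, l3, l4, one_mul]
    exact hB.cls_twist add_self' add_pow_two_theta (pow_theta hK) t u
  · rw [show f4ma = 20 from rfl, show f4mb = 22 from rfl, show f4mab = 19 from rfl,
      show f4maab = 17 from rfl, clsWordBm_mat] at hg
    replace hg : (g : Matrix chevF4.Idx chevF4.Idx K) = chevF4.x K 20 (t ^ 2 ^ m) *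
      (chevF4.x K 22 t * (chevF4.x K 19 (t ^ (2 ^ m + 1) + u) *
        chevF4.x K 17 (u ^ (2 * 2 ^ m)))) := hg
    refine ⟨mem_group4 (by decide) (by decide) (by decide) (by decide) _ _ _ _ g hg,
      Units.ext ?_⟩
    rw [map_word4 X (by decide) (by decide) (by decide) (by decide) _ _ _ _ g hg, hg]
    unfold expF4
    rw [b7, b8, b9, b10, l7, l8, l9, l10, one_mul]
    exact hBm.cls_twist add_self' add_pow_two_theta (pow_theta hK) t u

end

end Cfsg.Agent.Lib.Helper8.Chev
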