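import Cfsg.Agent.Lib.Helper8.ChevTw11

set_option autoImplicit false
set_option maxRecDepth 100000

/-! The data of the twisted groups of types `E₆` and `D₄`. -/

namespace Cfsg.Agent.Lib.Helper8.Chev

open Cfsg.Lie Matrix

/-- a checker for good words (the argument is the reversed word) -/
def goodR (D : ChevalleyDatum) : List ℕ → Bool
  | [] => true
  | k :: r => goodR D r && decide (k < D.rank) &&
      decide (D.nroots / 2 ≤ reflWord D r.reverse (D.simple k))

theorem goodR_sound {D : ChevalleyDatum} : ∀ r : List ℕ, goodR D r = true → GoodW D r.reverse := by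
  intro r
  induction r with
  | nil => intro _; exact GoodW.nil
  | cons k r ih =>
    intro h
    simp only [goodR, Bool.and_eq_true, decide_eq_true_eq] at h
    rw [List.reverse_cons]
    exact GoodW.concat (ih h.1.1) h.1.2 h.2

theorem unegW_eq_pos {D : ChevalleyDatum} (F : Type*) [Field F] (P : PosP D) {l : List ℕ}
    (h : ∀ r, D.nroots / 2 ≤ r → r < D.nroots → reflWord D l r < D.nroots / 2) :
    UnegW D F l = D.posUnipotent F := by
  unfold UnegW ChevalleyDatum.posUnipotent
  congr 1
  ext x
  constructor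
  · rintro ⟨r, t, h1, h2, _, hx⟩
    exact ⟨r, t, (P r h2).1.mpr h1, hx⟩
  · rintro ⟨r, t, hr, hx⟩
    have h1 := (P r hr.1).1.mp hr
    exact ⟨r, t, h1, hr.1, h r h1 hr.1, hx⟩

/-! ### type `E₆` -/

theorem twOk_E6 : TwOk chevE6 gaRho_E6 gaRhoInv_E6 gaPi_E6 gaPiInv_E6 gaEps_E6 where
  ga := gaOk_E6
  refl := by decide +kernel
  pos := by decide +kernel

/-- the classes of fundamental roots -/
def clsE6 : List (List ℕ) := [[1], [3], [0, 5], [2, 4]]

theorem clsOk_E6 : ∀ J ∈ clsE6, ClsOk chevE6 gaRho_E6 J := by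
  intro J hJ
  simp only [clsE6, List.mem_cons, List.not_mem_nil, or_false] at hJ
  rcases hJ with rfl | rfl | rfl | rfl
  · exact ⟨by decide, ⟨1, [], rfl, by decide⟩, by decide, by decide +kernel⟩
  · exact ⟨by decide, ⟨3, [], rfl, by decide⟩, by decide, by decide +kernel⟩
  · exact ⟨by decide, ⟨0, [5], rfl, by decide⟩, by decide, by decide +kernel⟩
  · exact ⟨by decide, ⟨2, [4], rfl, by decide⟩, by decide, by decide +kernel⟩

/-- a symmetric reduced word of the longest element -/
def symW0_E6 : List (List ℕ) :=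
  [[1], [3], [1], [0, 5], [2, 4], [3], [1], [0, 5], [2, 4], [3], [1], [0, 5], [2, 4], [3], [1],
    [0, 5], [2, 4], [3], [1], [0, 5], [2, 4], [3], [0, 5], [2, 4]]

theorem symW0_E6_cls : ∀ J ∈ symW0_E6, J ∈ clsE6 := by decide

theorem symW0_E6_good : GoodW chevE6 symW0_E6.flatten := by
  have := goodR_sound (D := chevE6) symW0_E6.flatten.reverse (by decide +kernel)
  rwa [List.reverse_reverse] at this

theorem symW0_E6_full : ∀ r, chevE6.nroots / 2 ≤ r → r < chevE6.nroots →
    reflWord chevE6 symW0_E6.flatten r < chevE6.nroots / 2 := by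
  have : ∀ r < chevE6.nroots, chevE6.nroots / 2 ≤ r →
      reflWord chevE6 symW0_E6.flatten r < chevE6.nroots / 2 := by decide +kernel
  exact fun r h1 h2 => this r h2 h1

theorem symW0_E6_length : symW0_E6.flatten.length = 36 := by decide

/-! ### type `D₄` -/

theorem twOk_D4a : TwOk chevD4 gaRho_D4a gaRhoInv_D4a gaPi_D4a gaPiInv_D4a gaEps_D4a where
  ga := gaOk_D4a
  refl := by decide +kernel
  pos := by decide +kernel

/-- the classes of fundamental roots -/
def clsD4 : List (List ℕ) := [[1], [0, 2, 3]]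

theorem clsOk_D4 : ∀ J ∈ clsD4, ClsOk chevD4 gaRho_D4a J := by
  intro J hJ
  simp only [clsD4, List.mem_cons, List.not_mem_nil, or_false] at hJ
  rcases hJ with rfl | rfl
  · exact ⟨by decide, ⟨1, [], rfl, by decide⟩, by decide, by decide +kernel⟩
  · exact ⟨by decide, ⟨0, [2, 3], rfl, by decide⟩, by decide, by decide +kernel⟩

/-- a symmetric reduced word of the longest element -/
def symW0_D4 : List (List ℕ) := [[1], [0, 2, 3], [1], [0, 2, 3], [1], [0, 2, 3]]

theorem symW0_D4_cls : ∀ J ∈ symW0_D4, J ∈ clsD4 := by decide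

theorem symW0_D4_good : GoodW chevD4 symW0_D4.flatten := by
  have := goodR_sound (D := chevD4) symW0_D4.flatten.reverse (by decide +kernel)
  rwa [List.reverse_reverse] at this

theorem symW0_D4_full : ∀ r, chevD4.nroots / 2 ≤ r → r < chevD4.nroots →
    reflWord chevD4 symW0_D4.flatten r < chevD4.nroots / 2 := by
  have : ∀ r < chevD4.nroots, chevD4.nroots / 2 ≤ r →
      reflWord chevD4 symW0_D4.flatten r < chevD4.nroots / 2 := by decide +kernel
  exact fun r h1 h2 => this r h2 h1

theorem symW0_D4_length : symW0_D4.flatten.length = 12 := by decide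

end Cfsg.Agent.Lib.Helper8.Chev
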