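import Cfsg.Agent.Lib.Helper8.ChevRF6
import Cfsg.Agent.Lib.Helper8.ChevTw12

set_option autoImplicit false
set_option maxRecDepth 100000

/-! `²F₄(K)` as an abstract twisted group. -/

namespace Cfsg.Agent.Lib.Helper8.Chev

open Cfsg.Lie Matrix

/-- the classes of fundamental roots of `²F₄` -/
def clsF4 : List (List ℕ) := [[0, 3], [1, 2, 1, 2]]

/-- the longest element as a word in the classes -/
def symW0_F4 : List (List ℕ) :=
  [[0, 3], [1, 2, 1, 2], [0, 3], [1, 2, 1, 2], [0, 3], [1, 2, 1, 2], [0, 3], [1, 2, 1, 2]]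

theorem symW0_F4_cls : ∀ c ∈ symW0_F4, c ∈ clsF4 := by decide

theorem symW0_F4_good : GoodW chevF4 symW0_F4.flatten := by
  have := goodR_sound (D := chevF4) symW0_F4.flatten.reverse (by decide +kernel)
  rwa [List.reverse_reverse] at this

theorem symW0_F4_full : ∀ r, chevF4.nroots / 2 ≤ r → r < chevF4.nroots →
    reflWord chevF4 symW0_F4.flatten r < chevF4.nroots / 2 := by
  have h : ∀ r < 48, 24 ≤ r → reflWord chevF4 symW0_F4.flatten r < 24 := by decide +kernel
  intro r h1 h2
  exact h r h2 h1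

theorem goodA_F4 : GoodW chevF4 [0, 3] := by
  have := goodR_sound (D := chevF4) [3, 0] (by decide +kernel)
  exact this

theorem goodB_F4 : GoodW chevF4 [1, 2, 1, 2] := by
  have := goodR_sound (D := chevF4) [2, 1, 2, 1] (by decide +kernel)
  exact this

section

variable {K : Type*} [Field K]

theorem nP_A_mat : ((nP chevF4 K [0, 3] : GL chevF4.Idx K) : Matrix chevF4.Idx chevF4.Idx K) =
    chevF4.nMat K 33 1 * chevF4.nMat K 24 1 := by
  have J := validJ_of_mem hDF4
  have V1 := valid1_of_mem hDF4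
  rw [nP_cons, nP_cons, nP_nil, mul_one, Units.val_mul, coe_nG J V1 (by decide),
    coe_nG J V1 (by decide)]
  rfl

theorem nP_A'_mat : ((nP chevF4 K [3, 0] : GL chevF4.Idx K) : Matrix chevF4.Idx chevF4.Idx K) =
    chevF4.nMat K 24 1 * chevF4.nMat K 33 1 := by
  have J := validJ_of_mem hDF4
  have V1 := valid1_of_mem hDF4
  rw [nP_cons, nP_cons, nP_nil, mul_one, Units.val_mul, coe_nG J V1 (by decide),
    coe_nG J V1 (by decide)]
  rfl

theorem nP_B_mat : ((nP chevF4 K [1, 2, 1, 2] : GL chevF4.Idx K) :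
    Matrix chevF4.Idx chevF4.Idx K) =
    chevF4.nMat K 27 1 * chevF4.nMat K 25 1 * (chevF4.nMat K 27 1 * chevF4.nMat K 25 1) := by
  have J := validJ_of_mem hDF4
  have V1 := valid1_of_mem hDF4
  rw [nP_cons, nP_cons, nP_cons, nP_cons, nP_nil, mul_one, Units.val_mul, Units.val_mul,
    Units.val_mul, coe_nG J V1 (show 1 < chevF4.rank by decide),
    coe_nG J V1 (show 2 < chevF4.rank by decide)]
  simp only [Matrix.mul_assoc]
  rfl

theorem nP_B'_mat : ((nP chevF4 K [2, 1, 2, 1] : GL chevF4.Idx K) :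
    Matrix chevF4.Idx chevF4.Idx K) =
    chevF4.nMat K 25 1 * chevF4.nMat K 27 1 * (chevF4.nMat K 25 1 * chevF4.nMat K 27 1) := by
  have J := validJ_of_mem hDF4
  have V1 := valid1_of_mem hDF4
  rw [nP_cons, nP_cons, nP_cons, nP_cons, nP_nil, mul_one, Units.val_mul, Units.val_mul,
    Units.val_mul, coe_nG J V1 (show 1 < chevF4.rank by decide),
    coe_nG J V1 (show 2 < chevF4.rank by decide)]
  simp only [Matrix.mul_assoc]
  rfl

variable [CharP K 2]

theorem xClsA_F4 : XCls chevF4 K rhoF4 [0, 3] where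
  lt := by decide
  nP_sym := by
    apply Units.ext
    show ((nP chevF4 K [3, 0] : GL chevF4.Idx K) : Matrix chevF4.Idx chevF4.Idx K) = _
    rw [nP_A'_mat, nP_A_mat, f4_nA_comm two_eq_zero']
  ne := by simp
  good := goodA_F4
  orb := by
    intro i hi j hj
    simp only [List.mem_cons, List.not_mem_nil, or_false] at hi hj
    rcases hi with rfl | rfl <;> rcases hj with rfl | rfl
    · exact ⟨0, rfl⟩
    · exact ⟨1, rfl⟩
    · exact ⟨1, rfl⟩
    · exact ⟨0, rfl⟩
  sym := by decide +kernel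
  long := by decide +kernel
  invol := by decide +kernel

theorem xClsB_F4 : XCls chevF4 K rhoF4 [1, 2, 1, 2] where
  lt := by decide
  nP_sym := by
    apply Units.ext
    show ((nP chevF4 K [2, 1, 2, 1] : GL chevF4.Idx K) : Matrix chevF4.Idx chevF4.Idx K) = _
    rw [nP_B'_mat, nP_B_mat, f4_nB_comm two_eq_zero']
  ne := by simp
  good := goodB_F4
  orb := by
    intro i hi j hj
    simp only [List.mem_cons, List.not_mem_nil, or_false] at hi hj
    have hi' : i = 1 ∨ i = 2 := by tauto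
    have hj' : j = 1 ∨ j = 2 := by tauto
    rcases hi' with rfl | rfl <;> rcases hj' with rfl | rfl
    · exact ⟨0, rfl⟩
    · exact ⟨1, rfl⟩
    · exact ⟨1, rfl⟩
    · exact ⟨0, rfl⟩
  sym := by decide +kernel
  long := by decide +kernel
  invol := by decide +kernel

theorem clsF4_ok : ∀ c ∈ clsF4, XCls chevF4 K rhoF4 c := by
  intro c hc
  simp only [clsF4, List.mem_cons, List.not_mem_nil, or_false] at hc
  rcases hc with rfl | rfl
  · exact xClsA_F4
  · exact xClsB_F4

theorem clsF4_cover : ∀ k < chevF4.rank, ∃ c ∈ clsF4, k ∈ c := by decide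

/-- `n_A ∈ ²F₄` -/
theorem nP_A_mem (m : ℕ) : nP chevF4 K [0, 3] ∈ twistedF4 K (2 ^ m) := by
  have V := valid0_of_mem hDF4
  have V1 := valid1_of_mem hDF4
  obtain ⟨g1, hg1⟩ := exists_unit_wN V V1 [(33, (1 : K)), (24, 1)] (by
    intro p hp
    simp only [List.mem_cons, List.not_mem_nil, or_false] at hp
    rcases hp with rfl | rfl <;> (dsimp only; decide))
  obtain ⟨g2, hg2⟩ := exists_unit_wN V V1 [(14, (1 : K)), (23, 1)] (by
    intro p hp
    simp only [List.mem_cons, List.not_mem_nil, or_false] at hp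
    rcases hp with rfl | rfl <;> (dsimp only; decide))
  have h1 : g1 ∈ twistedF4 K (2 ^ m) := by
    apply clsA_mem_twisted _ 1 g1
    rw [hg1, wordMat_eq_wN]
    unfold f4PairWord
    rw [one_pow]
  have h2 : g2 ∈ twistedF4 K (2 ^ m) := by
    apply clsAm_mem_twisted _ 1 g2
    rw [hg2, wordMat_eq_wN]
    unfold f4PairWord
    rw [one_pow]
  have e : nP chevF4 K [0, 3] = g1 * g2 * g1 := by
    apply Units.ext
    rw [nP_A_mat, ← f4_nA_mat two_eq_zero', Units.val_mul, Units.val_mul, hg1, hg2,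
      ← wN_append, ← wN_append]
    rfl
  rw [e]
  exact mul_mem (mul_mem h1 h2) h1

/-- `n_B ∈ ²F₄` -/
theorem nP_B_mem (m : ℕ) : nP chevF4 K [1, 2, 1, 2] ∈ twistedF4 K (2 ^ m) := by
  have V := valid0_of_mem hDF4
  have V1 := valid1_of_mem hDF4
  obtain ⟨g1, hg1⟩ := exists_unit_wN V V1 [(27, (1 : K)), (25, 1), (30, 1)] (by
    intro p hp
    simp only [List.mem_cons, List.not_mem_nil, or_false] at hp
    rcases hp with rfl | rfl | rfl <;> (dsimp only; decide))
  obtain ⟨g1', hg1'⟩ := exists_unit_wN V V1 [(30, (1 : K)), (25, 1), (27, 1)] (by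
    intro p hp
    simp only [List.mem_cons, List.not_mem_nil, or_false] at hp
    rcases hp with rfl | rfl | rfl <;> (dsimp only; decide))
  obtain ⟨g2, hg2⟩ := exists_unit_wN V V1 [(19, (1 : K)), (17, 1)] (by
    intro p hp
    simp only [List.mem_cons, List.not_mem_nil, or_false] at hp
    rcases hp with rfl | rfl <;> (dsimp only; decide))
  have h2m : (2 : ℕ) ^ m ≠ 0 := pow_ne_zero _ (by norm_num)
  have h1 : g1 ∈ twistedF4 K (2 ^ m) := by
    apply clsB_mem_twisted _ 1 1 g1
    rw [hg1, clsWordB_mat, one_pow, one_pow, one_pow, add_self']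
    show _ = chevF4.x K 27 1 * (chevF4.x K 25 1 * (chevF4.x K 28 0 * chevF4.x K 30 1))
    rw [xF_zero, one_mul]
    simp only [wNF_cons, wN_nil, mul_one]
  have h2 : g2 ∈ twistedF4 K (2 ^ m) := by
    apply clsBm_mem_twisted _ 0 1 g2
    rw [hg2, clsWordBm_mat, zero_pow h2m, zero_pow (Nat.succ_ne_zero _), one_pow, zero_add]
    show _ = chevF4.x K 20 0 * (chevF4.x K 22 0 * (chevF4.x K 19 1 * chevF4.x K 17 1))
    rw [xF_zero, xF_zero, one_mul, one_mul]
    simp only [wNF_cons, wN_nil, mul_one]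
  have hinv : g1' = g1⁻¹ := by
    apply eq_inv_of_mul_eq_one_left
    apply Units.ext
    rw [Units.val_mul, hg1', hg1, Units.val_one]
    simp only [wNF_cons, wN_nil, mul_one]
    have hB := b2Rel_pos (K := K)
    have a0 := hB.add 0 1 1
    have a1 := hB.add 1 1 1
    have a3 := hB.add 3 1 1
    rw [add_self', hB.zero] at a0 a1 a3
    have a0' : chevF4.x K 25 1 * chevF4.x K 25 1 = 1 := a0
    have a1' : chevF4.x K 27 1 * chevF4.x K 27 1 = 1 := a1
    have a3' : chevF4.x K 30 1 * chevF4.x K 30 1 = 1 := a3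
    calc chevF4.x K 30 1 * (chevF4.x K 25 1 * chevF4.x K 27 1) *
          (chevF4.x K 27 1 * (chevF4.x K 25 1 * chevF4.x K 30 1))
        = chevF4.x K 30 1 * (chevF4.x K 25 1 * (chevF4.x K 27 1 * chevF4.x K 27 1) *
          chevF4.x K 25 1) * chevF4.x K 30 1 := by simp only [Matrix.mul_assoc]
      _ = 1 := by rw [a1', mul_one, a0', mul_one, a3']
  have e : nP chevF4 K [1, 2, 1, 2] = g1' * g2 * g1 := by
    apply Units.ext
    rw [nP_B_mat, ← f4_nB_mat two_eq_zero', Units.val_mul, Units.val_mul, hg1, hg2, hg1',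
      ← wN_append, ← wN_append]
    rfl
  rw [e, hinv]
  exact mul_mem (mul_mem (inv_mem h1) h2) h1

variable [Fintype K] {m : ℕ} {σ : GL chevF4.Idx K → GL chevF4.Idx K}

/-- `²F₄(K)` is an abstract twisted group -/
theorem xGrp_F4 (hK : Fintype.card K = 2 ^ (2 * m + 1))
    (X : XEnd chevF4 K σ barF4 rhoF4 (expF4 m)) : XGrp X clsF4 (twistedF4 K (2 ^ m)) where
  cls_ok := clsF4_ok
  cover := clsF4_cover
  le_fix := twistedF4_le_fix hK X
  cls_fix := by
    intro c hc
    simp only [clsF4, List.mem_cons, List.not_mem_nil, or_false] at hc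
    rcases hc with rfl | rfl
    · exact clsA_fix_le X
    · exact clsB_fix_le X
  cls_n := by
    intro c hc
    simp only [clsF4, List.mem_cons, List.not_mem_nil, or_false] at hc
    rcases hc with rfl | rfl
    · exact nP_A_mem m
    · exact nP_B_mem m
  w0 := ⟨symW0_F4, symW0_F4_cls, symW0_F4_good, symW0_F4_full⟩

end

end Cfsg.Agent.Lib.Helper8.Chev
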