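import Cfsg.Agent.Lib.Helper8.ChevRF7

set_option autoImplicit false

/-! The order of `U ∩ ²F₄(K)`. -/

namespace Cfsg.Agent.Lib.Helper8.Chev

open Cfsg.Lie Matrix

/-- the cardinality of a parametrised subgroup -/
theorem card_of_param {α : Type*} {G : Type*} [Group G] (S : Subgroup G) (P : α → G → Prop)
    (hex : ∀ a, ∃ g ∈ S, P a g) (hinj : ∀ a a' g, P a g → P a' g → a = a')
    (hsurj : ∀ g ∈ S, ∃ a, P a g) (huniq : ∀ a g g', P a g → P a g' → g = g') :
    Nat.card ↥S = Nat.card α := by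
  classical
  let f : α → ↥S := fun a => ⟨Classical.choose (hex a), (Classical.choose_spec (hex a)).1⟩
  have hf : ∀ a, P a (f a : G) := fun a => (Classical.choose_spec (hex a)).2
  have hb : Function.Bijective f := by
    constructor
    · intro a a' h
      have h1 := hf a
      rw [h] at h1
      exact hinj a a' _ h1 (hf a')
    · rintro ⟨g, hg⟩
      obtain ⟨a, ha⟩ := hsurj g hg
      exact ⟨a, Subtype.ext (huniq a _ _ (hf a) ha)⟩
  exact (Nat.card_congr (Equiv.ofBijective f hb)).symm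

section

variable {K : Type*} [Field K] [Fintype K] [CharP K 2] {m : ℕ}
  {σ : GL chevF4.Idx K → GL chevF4.Idx K}

theorem reflA_gen : reflWord chevF4 [0, 3] 24 < 24 ∧ reflWord chevF4 [0, 3] 33 < 24 := by
  decide

theorem reflB_gen : reflWord chevF4 [1, 2, 1, 2] 25 < 24 ∧ reflWord chevF4 [1, 2, 1, 2] 27 < 24 ∧
    reflWord chevF4 [1, 2, 1, 2] 28 < 24 ∧ reflWord chevF4 [1, 2, 1, 2] 30 < 24 := by
  decide

omit [Fintype K] [CharP K 2] in
/-- words in the roots of a class lie in the class subgroup -/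
theorem word_mem_unegW (l : List ℕ) (w : List (ℕ × K))
    (hw : ∀ p ∈ w, 24 ≤ p.1 ∧ p.1 < 48 ∧ reflWord chevF4 l p.1 < 24) :
    ∃ g ∈ UnegW chevF4 K l, (g : Matrix chevF4.Idx chevF4.Idx K) = chevF4.wordMat K w := by
  have V := valid0_of_mem hDF4
  have V1 := valid1_of_mem hDF4
  induction w with
  | nil => exact ⟨1, one_mem _, rfl⟩
  | cons p w ih =>
    obtain ⟨g, hg, e⟩ := ih (fun q hq => hw q (List.mem_cons_of_mem _ hq))
    obtain ⟨h1, h2, h3⟩ := hw p List.mem_cons_self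
    obtain ⟨x, hx⟩ := exists_unit_x V V1 (F := K) (D := chevF4) h2 p.2
    refine ⟨x * g, mul_mem (Subgroup.subset_closure ⟨p.1, p.2, h1, h2, h3, hx⟩) hg, ?_⟩
    rw [Units.val_mul, hx, e, wordMatF_cons]

theorem card_clsA (hK : Fintype.card K = 2 ^ (2 * m + 1))
    (X : XEnd chevF4 K σ barF4 rhoF4 (expF4 m)) :
    Nat.card ↥(UnegW chevF4 K [0, 3] ⊓ X.fix) = 2 ^ (2 * m + 1) := by
  rw [card_of_param (α := K) (G := GL chevF4.Idx K) _
    (fun t (g : GL chevF4.Idx K) => (g : Matrix chevF4.Idx chevF4.Idx K) =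
    chevF4.wordMat K (f4PairWord (2 ^ m) 33 24 t)), Nat.card_eq_fintype_card, hK]
  · intro t
    obtain ⟨g, hg, e⟩ := word_mem_unegW (K := K) [0, 3] (f4PairWord (2 ^ m) 33 24 t) (by
      intro p hp
      unfold f4PairWord at hp
      simp only [List.mem_cons, List.not_mem_nil, or_false] at hp
      rcases hp with rfl | rfl
      · exact ⟨by norm_num, by norm_num, reflA_gen.2⟩
      · exact ⟨by norm_num, by norm_num, reflA_gen.1⟩)
    exact ⟨g, Subgroup.mem_inf.mpr ⟨hg, twistedF4_le_fix hK X (clsA_mem_twisted _ t g e)⟩, e⟩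
  · intro t t' g h1 h2
    rw [h1, pairWord_mat, pairWord_mat, xA_comm, xA_comm (t' ^ 2 ^ m)] at h2
    exact (N2A_inj h2).1
  · intro g hg
    obtain ⟨hg1, hg2⟩ := Subgroup.mem_inf.mp hg
    exact clsA_fix_form X hg1 hg2.2
  · intro t g g' h1 h2
    exact Units.ext (h1.trans h2.symm)

theorem card_clsB (hK : Fintype.card K = 2 ^ (2 * m + 1))
    (X : XEnd chevF4 K σ barF4 rhoF4 (expF4 m)) :
    Nat.card ↥(UnegW chevF4 K [1, 2, 1, 2] ⊓ X.fix) = (2 ^ (2 * m + 1)) ^ 2 := by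
  have hB := b2Rel_pos (K := K)
  rw [card_of_param (α := K × K) (G := GL chevF4.Idx K) _
    (fun a (g : GL chevF4.Idx K) => (g : Matrix chevF4.Idx chevF4.Idx K) =
    chevF4.wordMat K (b2ClassWord (2 ^ m) 27 25 28 30 a.1 a.2)), Nat.card_prod,
    Nat.card_eq_fintype_card, hK, sq]
  · rintro ⟨t, u⟩
    obtain ⟨g, hg, e⟩ := word_mem_unegW (K := K) [1, 2, 1, 2]
      (b2ClassWord (2 ^ m) 27 25 28 30 t u) (by
      intro p hp
      unfold b2ClassWord at hp
      simp only [List.mem_cons, List.not_mem_nil, or_false] at hp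
      rcases hp with rfl | rfl | rfl | rfl
      · exact ⟨by norm_num, by norm_num, reflB_gen.2.1⟩
      · exact ⟨by norm_num, by norm_num, reflB_gen.1⟩
      · exact ⟨by norm_num, by norm_num, reflB_gen.2.2.1⟩
      · exact ⟨by norm_num, by norm_num, reflB_gen.2.2.2⟩)
    exact ⟨g, Subgroup.mem_inf.mpr ⟨hg, twistedF4_le_fix hK X (clsB_mem_twisted _ t u g e)⟩, e⟩
  · rintro ⟨t, u⟩ ⟨t', u'⟩ g h1 h2
    rw [h1] at h2
    dsimp only at h2
    rw [clsWordB_mat, clsWordB_mat, hB.word_eq_N4, hB.word_eq_N4] at h2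
    obtain ⟨e1, -, e3, -⟩ := N4B_inj h2
    subst e1
    have e5 : t * t ^ 2 ^ m + (t ^ (2 ^ m + 1) + u) = u := by
      rw [pow_succ, mul_comm t, ← add_assoc, add_self', zero_add]
    have e6 : t * t ^ 2 ^ m + (t ^ (2 ^ m + 1) + u') = u' := by
      rw [pow_succ, mul_comm t, ← add_assoc, add_self', zero_add]
    rw [e5, e6] at e3
    rw [e3]
  · intro g hg
    obtain ⟨hg1, hg2⟩ := Subgroup.mem_inf.mp hg
    obtain ⟨t, u, e⟩ := clsB_fix_form X hg1 hg2.2
    exact ⟨(t, u), e⟩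
  · intro a g g' h1 h2
    exact Units.ext (h1.trans h2.symm)

/-- `|U ∩ ²F₄(q)| = q¹²` -/
theorem card_pos_F4 (hK : Fintype.card K = 2 ^ (2 * m + 1))
    (X : XEnd chevF4 K σ barF4 rhoF4 (expF4 m)) :
    Nat.card ↥(chevF4.posUnipotent K ⊓ twistedF4 K (2 ^ m)) = (2 ^ (2 * m + 1)) ^ 12 := by
  have Y := xGrp_F4 hK X
  rw [Y.pos_inf_eq, ← unegW_eq_pos K (posP_of_mem hDF4) symW0_F4_full,
    X.card_fix (Y.clsOk symW0_F4_cls) symW0_F4_good]
  simp only [symW0_F4, List.map_cons, List.map_nil, List.prod_cons, List.prod_nil,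
    card_clsA hK X, card_clsB hK X]
  ring

end

end Cfsg.Agent.Lib.Helper8.Chev
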