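import Cfsg.Agent.Lib.Helper8.ChevRF8
import Cfsg.Agent.Lib.Helper8.ChevOrdH4

set_option autoImplicit false

/-! The torus of `F₄(K)` and the twisting endomorphism. -/

namespace Cfsg.Agent.Lib.Helper8.Chev

open Cfsg.Lie Matrix

namespace XEnd

variable {D : ChevalleyDatum} {F : Type*} [Field F] {σ : GL D.Idx F → GL D.Idx F}
  {bar ρ E : ℕ → ℕ}

/-- the image of `h_{p_i}(t)` under the twisting endomorphism -/
theorem map_torSingle (X : XEnd D F σ bar ρ E) (i : Fin D.rank) (t : Fˣ) :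
    σ (torMap D F (Pi.mulSingle i t)) =
      torMap D F (Pi.mulSingle (⟨ρ i.val, X.rho_lt _ i.isLt⟩ : Fin D.rank)
        (t ^ E (D.simple i.val))) := by
  have J := validJ_of_mem X.hD
  have H := validH_of_mem X.hD
  have V := J.V
  have hs : D.simple i.val < D.nroots := (J.S i.val i.isLt).1
  apply Units.ext
  rw [X.map_word (D.hWord (D.simple i.val) (t : F)) (hWord_lt V hs _) _
    (by rw [torMap_mulSingle J H, hMat_eq_wN]),
    X.barW_hWord hs, X.bar_simple i.val i.isLt, torMap_mulSingle J H, hMat_eq_wN,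
    Units.val_pow_eq_pow_val]

theorem torMap_mem_group (X : XEnd D F σ bar ρ E) (c : Fin D.rank → Fˣ) :
    torMap D F c ∈ D.group F :=
  diagonal_le_group (valid0_of_mem X.hD) (valid1_of_mem X.hD)
    (torMap_mem (validJ_of_mem X.hD) (validH_of_mem X.hD) c)

end XEnd

section

variable {K : Type*} [Field K]

theorem funext_F4 {α : Type*} {c d : Fin chevF4.rank → α}
    (h0 : c ⟨0, by decide⟩ = d ⟨0, by decide⟩) (h1 : c ⟨1, by decide⟩ = d ⟨1, by decide⟩)
    (h2 : c ⟨2, by decide⟩ = d ⟨2, by decide⟩) (h3 : c ⟨3, by decide⟩ = d ⟨3, by decide⟩) :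
    c = d := by
  funext ⟨i, hi⟩
  have hi' : i < 4 := hi
  interval_cases i
  · exact h0
  · exact h1
  · exact h2
  · exact h3

/-- the tuple with given entries -/
def tup4 (a b c d : Kˣ) : Fin chevF4.rank → Kˣ := fun i =>
  if i.val = 0 then a else if i.val = 1 then b else if i.val = 2 then c else d

theorem tup4_eq (c : Fin chevF4.rank → Kˣ) :
    c = tup4 (c ⟨0, by decide⟩) (c ⟨1, by decide⟩) (c ⟨2, by decide⟩) (c ⟨3, by decide⟩) :=
  funext_F4 rfl rfl rfl rfl

theorem tup4_mul (a b c d a' b' c' d' : Kˣ) :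
    tup4 a b c d * tup4 a' b' c' d' = tup4 (a * a') (b * b') (c * c') (d * d') :=
  funext_F4 rfl rfl rfl rfl

theorem tup4_single (a b c d : Kˣ) :
    tup4 a b c d = Pi.mulSingle (⟨0, by decide⟩ : Fin chevF4.rank) a *
      Pi.mulSingle (⟨1, by decide⟩ : Fin chevF4.rank) b *
      Pi.mulSingle (⟨2, by decide⟩ : Fin chevF4.rank) c *
      Pi.mulSingle (⟨3, by decide⟩ : Fin chevF4.rank) d := by
  apply funext_F4 <;> simp [tup4]

theorem tup4_inj {a b c d a' b' c' d' : Kˣ} (h : tup4 a b c d = tup4 a' b' c' d') :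
    a = a' ∧ b = b' ∧ c = c' ∧ d = d' :=
  ⟨congrFun h ⟨0, by decide⟩, congrFun h ⟨1, by decide⟩, congrFun h ⟨2, by decide⟩,
    congrFun h ⟨3, by decide⟩⟩

theorem torMap_injective_of_card' {D : ChevalleyDatum} {F : Type*} [Field F] [Fintype F]
    (J : ValidJ D) (V1 : Valid1 D) (H : ValidH D)
    (hc : Nat.card (D.diagonalSubgroup F) = (Fintype.card F - 1) ^ D.rank) :
    Function.Injective (torMap D F) := by
  have hU : Nat.card Fˣ = Fintype.card F - 1 := by
    rw [Nat.card_units, Nat.card_eq_fintype_card]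
  have h4 : Nat.card (Fin D.rank → Fˣ) = (Fintype.card F - 1) ^ D.rank := by
    rw [Nat.card_fun, Nat.card_fin, hU]
  have hsurj := MonoidHom.rangeRestrict_surjective (torMap D F)
  have hbij := hsurj.bijective_of_nat_card_le (by
    rw [h4, ← diagonal_eq_range J V1 H, hc])
  intro c c' h
  exact hbij.1 (Subtype.ext h)

theorem torMap_F4_injective [Fintype K] : Function.Injective (torMap chevF4 K) := by
  apply torMap_injective_of_card' (validJ_of_mem hDF4) (valid1_of_mem hDF4) (validH_of_mem hDF4)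
  have h := card_diagonal_aux_F4 (F := K)
  have e : (∏ j ∈ Finset.range 4, (Fintype.card K - 1).gcd (nthF 1 ([1, 1, 1, 1] : List ℕ) j))
      = 1 := by
    apply Finset.prod_eq_one
    intro j hj
    rw [nthF_eq_getD]
    have hj' : j < 4 := Finset.mem_range.mp hj
    interval_cases j <;> simp
  rw [e, one_mul] at h
  exact h

variable {m : ℕ} {σ : GL chevF4.Idx K → GL chevF4.Idx K}

theorem simpleF4_vals : chevF4.simple 0 = 33 ∧ chevF4.simple 1 = 27 ∧ chevF4.simple 2 = 25 ∧
    chevF4.simple 3 = 24 := by decide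

/-- the twisting endomorphism on the torus -/
theorem map_torMap_F4 (X : XEnd chevF4 K σ barF4 rhoF4 (expF4 m)) (a b c d : Kˣ) :
    σ (torMap chevF4 K (tup4 a b c d)) =
      torMap chevF4 K (tup4 (d ^ 2 ^ m) (c ^ 2 ^ m) (b ^ (2 * 2 ^ m)) (a ^ (2 * 2 ^ m))) := by
  obtain ⟨s0, s1, s2, s3⟩ := simpleF4_vals
  obtain ⟨l25, l27, -, -, l24, l33, -⟩ := lamF4_vals
  rw [tup4_single, map_mul, map_mul, map_mul,
    X.mul _ _ (mul_mem (mul_mem (X.torMap_mem_group _) (X.torMap_mem_group _))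
      (X.torMap_mem_group _)) (X.torMap_mem_group _),
    X.mul _ _ (mul_mem (X.torMap_mem_group _) (X.torMap_mem_group _)) (X.torMap_mem_group _),
    X.mul _ _ (X.torMap_mem_group _) (X.torMap_mem_group _),
    X.map_torSingle, X.map_torSingle, X.map_torSingle, X.map_torSingle,
    ← map_mul, ← map_mul, ← map_mul]
  congr 1
  show _ = _
  simp only [s0, s1, s2, s3]
  unfold expF4
  rw [l25, l27, l24, l33, one_mul]
  apply funext_F4 <;> simp [tup4, rhoF4, Fin.ext_iff]

end

end Cfsg.Agent.Lib.Helper8.Chev
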