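import Cfsg.Agent.Lib.Helper8.ChevEx7
import Cfsg.Agent.Lib.Helper8.ChevEx3
import Cfsg.Agent.Lib.Helper8.ChevFld1

set_option autoImplicit false

/-! The twisting endomorphism of `G₂(K)`, `|K| = 3^(2m+1)`. -/

namespace Cfsg.Agent.Lib.Helper8.Chev

open Cfsg.Lie Matrix

theorem hDG2 : chevG2 ∈ [chevG2, chevB2, chevD4, chevF4, chevE6, chevE7, chevE8] := by simp

theorem charP_three_of_card {K : Type*} [Field K] [Fintype K] {n : ℕ}
    (hK : Fintype.card K = 3 ^ n) : CharP K 3 := by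
  have hchar : CharP K (ringChar K) := ringChar.charP K
  obtain ⟨k, hr, hcard⟩ := FiniteField.card K (ringChar K)
  have hdvd : ringChar K ∣ 3 := by
    have h1 : ringChar K ∣ 3 ^ n := by
      rw [← hK, hcard]
      exact dvd_pow_self _ k.ne_zero
    exact hr.dvd_of_dvd_pow h1
  have heq : ringChar K = 3 := (Nat.prime_dvd_prime_iff_eq hr Nat.prime_three).mp hdvd
  exact heq ▸ hchar

/-- `r ↦ r̄` for `G₂` -/
def barG (r : ℕ) : ℕ := exDataG2.bar.getD r 0

/-- the exponent `λ(r)`: 1 on long roots, 3 on short roots -/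
def lamG (r : ℕ) : ℕ := lamN exDataG2 r

/-- the twisting endomorphism `x_r(t) ↦ x_{r̄}(t^{λ(r)θ})`, `θ = 3^m` -/
structure ReeAut {K : Type*} [Field K] (m : ℕ) (τ : ↥(chevG2.group K) →* ↥(chevG2.group K)) :
    Prop where
  map_x : ∀ (g : ↥(chevG2.group K)) (r : ℕ) (t : K), r < 12 → gmat g = chevG2.x K r t →
    gmat (τ g) = chevG2.x K (barG r) (t ^ (lamG r * 3 ^ m))

theorem exists_reeAut {K : Type*} [Field K] [Fintype K] {n : ℕ} (hK : Fintype.card K = 3 ^ n)
    (m : ℕ) : ∃ τ : ↥(chevG2.group K) →* ↥(chevG2.group K), ReeAut m τ := by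
  have hc := charP_three_of_card hK
  have hc' : CharP K exDataG2.p := hc
  have : Fact (Nat.Prime 3) := ⟨Nat.prime_three⟩
  have hperf : ∀ x : K, ∃ y : K, y ^ exDataG2.p = x := by
    intro x
    obtain ⟨y, hy⟩ := (frobeniusEquiv K 3).surjective x
    exact ⟨y, by rw [← hy]; rfl⟩
  obtain ⟨α, hα⟩ := exists_exAut (K := K) hDG2 exDataG2
    (powOK_of_check (valid0_of_mem hDG2) checkPow_G2) (swapOK_of_check checkSwap_G2)
    checkEx_G2 (Or.inr rfl) hperf
    7 (by decide) (by decide) (by decide) 6 (by decide) (by decide) (by decide)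
  let φ : K →+* K := iterateFrobenius K 3 m
  let F : ↥(chevG2.group K) →* ↥(chevG2.group K) :=
    MonoidHom.codRestrict ((bc chevG2 φ).comp (chevG2.group K).subtype) (chevG2.group K)
      (fun g => bc_mem_group φ g.2)
  refine ⟨α.toMonoidHom.comp F, ⟨?_⟩⟩
  intro g r t hr hg
  have h1 : gmat (F g) = chevG2.x K r (t ^ 3 ^ m) := by
    have := bc_x (D := chevG2) φ (g := (g : GL chevG2.Idx K)) hg
    exact this.trans rfl
  have h2 := hα (F g) r (t ^ 3 ^ m) hr h1
  show gmat (α (F g)) = _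
  rw [h2, ← pow_mul, mul_comm (3 ^ m)]
  rfl

end Cfsg.Agent.Lib.Helper8.Chev
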