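import Cfsg.Agent.Lib.Helper8.ChevRee9

set_option autoImplicit false

/-! The elements of the Weyl group of `G₂` commuting with the symmetry `r ↦ r̄`. -/

namespace Cfsg.Agent.Lib.Helper8.Chev

open Cfsg.Lie Matrix

/-- the Weyl group of `G₂`, as lists of images of the roots -/
def weylG2 : List (List ℕ) :=
  [[0, 1, 2, 3, 4, 5, 6, 7, 8, 9, 10, 11],
   [0, 5, 3, 2, 7, 1, 10, 4, 9, 8, 6, 11],
   [1, 0, 2, 4, 3, 6, 5, 8, 7, 9, 11, 10],
   [1, 6, 4, 2, 8, 0, 11, 3, 9, 7, 5, 10],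
   [5, 0, 3, 7, 2, 10, 1, 9, 4, 8, 11, 6],
   [5, 10, 7, 3, 9, 0, 11, 2, 8, 4, 1, 6],
   [6, 1, 4, 8, 2, 11, 0, 9, 3, 7, 10, 5],
   [6, 11, 8, 4, 9, 1, 10, 2, 7, 3, 0, 5],
   [10, 5, 7, 9, 3, 11, 0, 8, 2, 4, 6, 1],
   [10, 11, 9, 7, 8, 5, 6, 3, 4, 2, 0, 1],
   [11, 6, 8, 9, 4, 10, 1, 7, 2, 3, 5, 0],
   [11, 10, 9, 8, 7, 6, 5, 4, 3, 2, 1, 0]]

/-- the list of images of the roots under a word of reflections -/
def wlist (l : List ℕ) : List ℕ := (List.range 12).map (reflWord chevG2 l)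

theorem wlist_getD (l : List ℕ) {s : ℕ} (hs : s < 12) :
    (wlist l).getD s 0 = reflWord chevG2 l s := by
  unfold wlist
  rw [List.getD_eq_getElem _ _ (by rw [List.length_map, List.length_range]; exact hs),
    List.getElem_map, List.getElem_range]

theorem weylG2_closed : ∀ v ∈ weylG2, ∀ i < 2, v.map (chevG2.reflectRoot i) ∈ weylG2 := by
  decide

theorem wlist_mem {l : List ℕ} (hl : ∀ i ∈ l, i < 2) : wlist l ∈ weylG2 := by
  induction l with
  | nil => decide
  | cons i l ih =>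
    have hi := hl i List.mem_cons_self
    have hl' : ∀ j ∈ l, j < 2 := fun j hj => hl j (List.mem_cons_of_mem _ hj)
    have : wlist (i :: l) = (wlist l).map (chevG2.reflectRoot i) := by
      unfold wlist
      rw [List.map_map]
      rfl
    rw [this]
    exact weylG2_closed _ (ih hl') i hi

theorem weylG2_comm : ∀ v ∈ weylG2,
    (∀ s < 12, v.getD (barG s) 0 = barG (v.getD s 0)) →
      (∀ s < 12, v.getD s 0 = s) ∨ (∀ s < 12, v.getD s 0 = chevG2.neg s) := by
  decide

/-- a word of reflections commuting with the symmetry is trivial or `-1` on the roots -/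
theorem weyl_ree {l : List ℕ} (hl : ∀ i ∈ l, i < 2)
    (h : ∀ s < 12, reflWord chevG2 l (barG s) = barG (reflWord chevG2 l s)) :
    (∀ s < 12, reflWord chevG2 l s = s) ∨ (∀ s < 12, reflWord chevG2 l s = chevG2.neg s) := by
  have h1 := weylG2_comm _ (wlist_mem hl) (by
    intro s hs
    rw [wlist_getD l (barG_lt hs), wlist_getD l hs]
    exact h s hs)
  rcases h1 with h1 | h1
  · left
    intro s hs
    rw [← wlist_getD l hs]
    exact h1 s hs
  · right
    intro s hs
    rw [← wlist_getD l hs]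
    exact h1 s hs

end Cfsg.Agent.Lib.Helper8.Chev
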