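import Cfsg.Agent.Lib.Helper8.ChevRee10
import Cfsg.Agent.Lib.Helper8.ChevCAS6

set_option autoImplicit false

/-! Word identities for the elements `n(u)` and `h(u)` of the Ree groups. -/

namespace Cfsg.Agent.Lib.Helper8.Chev

open Cfsg.Lie Matrix

/-- `x_{a+b}(T) x_{3a+b}(U) x_{-a-b}(-T⁻¹) x_{-3a-b}(-U⁻¹) x_{a+b}(T) x_{3a+b}(U)` -/
def reeNW1 : List (ℕ × Mono) :=
  [(8, (1, 0, 1)), (10, (0, 1, 1)), (3, (-1, 0, -1)), (1, (0, -1, -1)), (8, (1, 0, 1)),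
    (10, (0, 1, 1))]

/-- `n_{a+b}(T) n_{3a+b}(U)` -/
def reeNW2 : List (ℕ × Mono) :=
  [(8, (1, 0, 1)), (3, (-1, 0, -1)), (8, (1, 0, 1)), (10, (0, 1, 1)), (1, (0, -1, -1)),
    (10, (0, 1, 1))]

/-- `n_{3a+b}(-1) n_{a+b}(-1)` -/
def reeNW3 : List (ℕ × Mono) :=
  [(10, (0, 0, -1)), (1, (0, 0, 1)), (10, (0, 0, -1)), (8, (0, 0, -1)), (3, (0, 0, 1)),
    (8, (0, 0, -1))]

/-- `h_a(TU) h_b(T³U)` -/
def reeHW : List (ℕ × Mono) :=
  [(7, (1, 1, 1)), (4, (-1, -1, -1)), (7, (1, 1, 1)), (7, (0, 0, -1)), (4, (0, 0, 1)),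
    (7, (0, 0, -1)), (6, (3, 1, 1)), (5, (-3, -1, -1)), (6, (3, 1, 1)), (6, (0, 0, -1)),
    (5, (0, 0, 1)), (6, (0, 0, -1))]

set_option maxRecDepth 100000 in
theorem check_reeN : checkWordEqN (colsF chevG2) 12 2 reeNW1 reeNW2 = true := by decide +kernel

set_option maxRecDepth 100000 in
theorem check_reeH : checkWordEqN (colsF chevG2) 12 2 (reeNW2 ++ reeNW3) reeHW = true := by
  decide +kernel

section

variable {K : Type*} [Field K]

theorem evalWd_reeNW1 (T U : Kˣ) : evalWd T U reeNW1 =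
    [(8, (T : K)), (10, (U : K)), (3, -(T : K)⁻¹), (1, -(U : K)⁻¹), (8, (T : K)), (10, (U : K))] := by
  simp [evalWd, reeNW1, evalM, chi]

theorem evalWd_reeNW2 (T U : Kˣ) : evalWd T U reeNW2 =
    chevG2.nWord 8 (T : K) ++ chevG2.nWord 10 (U : K) := by
  have h8 : chevG2.neg 8 = 3 := by decide
  have h10 : chevG2.neg 10 = 1 := by decide
  simp [evalWd, reeNW2, evalM, chi, ChevalleyDatum.nWord, h8, h10]

theorem evalWd_reeNW3 (T U : Kˣ) : evalWd T U reeNW3 =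
    invW (chevG2.nWord 8 (1 : K) ++ chevG2.nWord 10 (1 : K)) := by
  have h8 : chevG2.neg 8 = 3 := by decide
  have h10 : chevG2.neg 10 = 1 := by decide
  simp [evalWd, reeNW3, evalM, chi, ChevalleyDatum.nWord, h8, h10, invW]

theorem evalWd_reeHW (T U : Kˣ) : evalWd T U reeHW =
    chevG2.hWord 7 ((T : K) * U) ++ chevG2.hWord 6 ((T : K) ^ 3 * U) := by
  have h7 : chevG2.neg 7 = 4 := by decide
  have h6 : chevG2.neg 6 = 5 := by decide
  simp [evalWd, reeHW, evalM, chi, ChevalleyDatum.hWord, ChevalleyDatum.nWord, h7, h6, mul_comm]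

theorem evalWd_append {R : Type*} [CommRing R] (T U : Rˣ) (w w' : List (ℕ × Mono)) :
    evalWd T U (w ++ w') = evalWd T U w ++ evalWd T U w' := by
  simp [evalWd]

/-- `x_{a+b}(T) x_{3a+b}(U) x_{-a-b}(-T⁻¹) x_{-3a-b}(-U⁻¹) x_{a+b}(T) x_{3a+b}(U) =
n_{a+b}(T) n_{3a+b}(U)` -/
theorem reeN_mat (T U : Kˣ) :
    wN chevG2 K [(8, (T : K)), (10, (U : K)), (3, -(T : K)⁻¹), (1, -(U : K)⁻¹), (8, (T : K)),
      (10, (U : K))] = chevG2.nMat K 8 (T : K) * chevG2.nMat K 10 (U : K) := by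
  have J := validJ_of_mem hDG2
  have key := wordEqN_of_check J.V (colsF_ok J.T) (D := chevG2) check_reeN (R := K) T U
  rw [evalWd_reeNW1, evalWd_reeNW2, wN_append] at key
  rw [key, nMat_eq_wN, nMat_eq_wN]

/-- `n_{a+b}(T) n_{3a+b}(U) (n_{a+b}(1) n_{3a+b}(1))⁻¹ = h_a(TU) h_b(T³U)` -/
theorem reeH_mat (T U : Kˣ) (Mi : Matrix chevG2.Idx chevG2.Idx K)
    (hMi : Mi * (chevG2.nMat K 8 1 * chevG2.nMat K 10 1) = 1) :
    chevG2.nMat K 8 (T : K) * chevG2.nMat K 10 (U : K) * Mi =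
      chevG2.hMat K 7 ((T : K) * U) * chevG2.hMat K 6 ((T : K) ^ 3 * U) := by
  have J := validJ_of_mem hDG2
  have V1 := valid1_of_mem hDG2
  have key := wordEqN_of_check J.V (colsF_ok J.T) (D := chevG2) check_reeH (R := K) T U
  rw [evalWd_append, evalWd_reeNW2, evalWd_reeNW3, evalWd_reeHW, wN_append, wN_append, wN_append,
    ← nMat_eq_wN, ← nMat_eq_wN, ← hMat_eq_wN, ← hMat_eq_wN] at key
  have hlt : ∀ p ∈ chevG2.nWord 8 (1 : K) ++ chevG2.nWord 10 (1 : K), p.1 < chevG2.nroots := by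
    intro p hp
    rw [List.mem_append] at hp
    rcases hp with hp | hp
    · exact nWord_lt J.V (by decide) 1 p hp
    · exact nWord_lt J.V (by decide) 1 p hp
  have h1 := wN_mul_invW J.V V1 _ hlt
  rw [wN_append, ← nMat_eq_wN, ← nMat_eq_wN] at h1
  have e : Mi = wN chevG2 K (invW (chevG2.nWord 8 (1 : K) ++ chevG2.nWord 10 (1 : K))) := by
    calc Mi = Mi * (chevG2.nMat K 8 1 * chevG2.nMat K 10 1 *
          wN chevG2 K (invW (chevG2.nWord 8 (1 : K) ++ chevG2.nWord 10 (1 : K)))) := by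
          rw [h1, Matrix.mul_one]
      _ = _ := by rw [← Matrix.mul_assoc, hMi, Matrix.one_mul]
  rw [e, key]

end

end Cfsg.Agent.Lib.Helper8.Chev
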