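import Cfsg.Agent.Lib.Helper8.ChevRee12

set_option autoImplicit false

/-! The elements `n(u)`, `h(u)` and `j` of the Ree group. -/

namespace Cfsg.Agent.Lib.Helper8.Chev

open Cfsg.Lie Matrix

section

variable {K : Type*} [Field K] {m : ℕ} {φ ψ : K →+* K}

theorem reeU_mem (t u v : K) (g : GL chevG2.Idx K)
    (hg : (g : Matrix chevG2.Idx chevG2.Idx K) = chevG2.wordMat K (reeWordU (3 ^ m) t u v)) :
    g ∈ twistedG2 K (3 ^ m) := by
  unfold twistedG2 ChevalleyDatum.genSubgroup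
  exact Subgroup.subset_closure ⟨_, ⟨t, u, v, Or.inl rfl⟩, hg⟩

theorem reeV_mem (t u v : K) (g : GL chevG2.Idx K)
    (hg : (g : Matrix chevG2.Idx chevG2.Idx K) = chevG2.wordMat K (reeWordV (3 ^ m) t u v)) :
    g ∈ twistedG2 K (3 ^ m) := by
  unfold twistedG2 ChevalleyDatum.genSubgroup
  exact Subgroup.subset_closure ⟨_, ⟨t, u, v, Or.inr rfl⟩, hg⟩

/-- the negative Ree word as an element of `V ⊓ G¹` -/
theorem exists_reeV (t u v : K) : ∃ g : GL chevG2.Idx K,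
    g ∈ chevG2.negUnipotent K ⊓ twistedG2 K (3 ^ m) ∧
      (g : Matrix chevG2.Idx chevG2.Idx K) = chevG2.wordMat K (reeWordV (3 ^ m) t u v) := by
  have V := valid0_of_mem hDG2
  have V1 := valid1_of_mem hDG2
  have P := posP_of_mem hDG2
  obtain ⟨g, hg, hm⟩ := word_mem_closure (F := K) V V1
    (S := {g | ∃ (r : ℕ) (t : K), chevG2.IsNegRoot r ∧
      (g : Matrix chevG2.Idx chevG2.Idx K) = chevG2.x K r t})
    (Q := fun s => s < 6) (fun s hs => by show s < 12; omega)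
    (fun s t g hs hg => ⟨s, t, (P s (by show s < 12; omega)).2.mpr hs, hg⟩)
    (reeWordV (3 ^ m) t u v) (by
      intro p hp
      unfold reeWordV reeWordU ChevalleyDatum.negWord at hp
      simp only [List.map_cons, List.map_nil, List.mem_cons, List.not_mem_nil, or_false] at hp
      rcases hp with rfl | rfl | rfl | rfl | rfl | rfl <;> (dsimp only; decide))
  have hm' : (g : Matrix chevG2.Idx chevG2.Idx K) =
      chevG2.wordMat K (reeWordV (3 ^ m) t u v) := by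
    rw [hm, wordMat_eq_wN]
  exact ⟨g, Subgroup.mem_inf.mpr ⟨hg, reeV_mem t u v g hm'⟩, hm'⟩

theorem wordMat_reeU_mid (hF : ReeField K m φ ψ) (u : K) :
    chevG2.wordMat K (reeWordU (3 ^ m) 0 u 0) = chevG2.x K 8 (u ^ 3 ^ m) * chevG2.x K 10 u := by
  rw [wordMat_reeU hF]
  have h0 : (0 : K) ^ 3 ^ m = 0 := zero_pow (pow_ne_zero _ (by norm_num))
  simp only [xp, zero_mul, zero_add, x_zero, one_mul, mul_one, hF.phi, h0]

theorem wordMat_reeV_mid (hF : ReeField K m φ ψ) (u : K) :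
    chevG2.wordMat K (reeWordV (3 ^ m) 0 u 0) =
      chevG2.x K 3 (-(u ^ 3 ^ m)) * chevG2.x K 1 (-u) := by
  rw [wordMat_reeV hF]
  have h0 : (0 : K) ^ 3 ^ m = 0 := zero_pow (pow_ne_zero _ (by norm_num))
  simp only [xm, zero_mul, zero_add, neg_zero, x_zero, one_mul, mul_one, hF.phi, h0]

/-- `n(u) = n_{a+b}(u^θ) n_{3a+b}(u)` lies in `G¹` -/
theorem reeN_mem (hF : ReeField K m φ ψ) (u : Kˣ) (g : GL chevG2.Idx K)
    (hg : (g : Matrix chevG2.Idx chevG2.Idx K) =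
      chevG2.nMat K 8 ((u : K) ^ 3 ^ m) * chevG2.nMat K 10 (u : K)) :
    g ∈ twistedG2 K (3 ^ m) := by
  obtain ⟨gU, hgU, hmU⟩ := exists_reeU (K := K) (m := m) 0 (u : K) 0
  obtain ⟨gV, hgV, hmV⟩ := exists_reeV (K := K) (m := m) 0 ((u⁻¹ : Kˣ) : K) 0
  have e : g = gU * gV * gU := by
    apply Units.ext
    rw [Units.val_mul, Units.val_mul, hmU, hmV, hg, wordMat_reeU_mid hF, wordMat_reeV_mid hF]
    have key := reeN_mat (K := K) (u ^ 3 ^ m) u
    rw [Units.val_pow_eq_pow_val] at key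
    rw [← key]
    simp only [wN_cons, wN_nil, Matrix.mul_one, x_eq_xN, Units.val_inv_eq_inv_val, inv_pow,
      Matrix.mul_assoc]
  rw [e]
  exact mul_mem (mul_mem hgU.2 hgV.2) hgU.2

theorem exists_nn (T U : K) : ∃ g : GL chevG2.Idx K,
    (g : Matrix chevG2.Idx chevG2.Idx K) = chevG2.nMat K 8 T * chevG2.nMat K 10 U := by
  have V := valid0_of_mem hDG2
  have V1 := valid1_of_mem hDG2
  obtain ⟨g, hg⟩ := exists_unit_wN (F := K) V V1 (chevG2.nWord 8 T ++ chevG2.nWord 10 U) (by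
    intro p hp
    rw [List.mem_append] at hp
    rcases hp with hp | hp
    · exact nWord_lt V (by decide) T p hp
    · exact nWord_lt V (by decide) U p hp)
  exact ⟨g, by rw [hg, wN_append, nMat_eq_wN, nMat_eq_wN]⟩

/-- `h(u^{3θ+1}) = h_a(u^{θ+1}) h_b(u^{3θ+1})` lies in `G¹` -/
theorem reeH_mem (hF : ReeField K m φ ψ) (u : Kˣ) (g : GL chevG2.Idx K)
    (hg : (g : Matrix chevG2.Idx chevG2.Idx K) =
      chevG2.hMat K 7 ((u : K) ^ (3 ^ m + 1)) * chevG2.hMat K 6 ((u : K) ^ (3 * 3 ^ m + 1))) :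
    g ∈ twistedG2 K (3 ^ m) := by
  obtain ⟨g1, hg1⟩ := exists_nn (K := K) ((u : K) ^ 3 ^ m) (u : K)
  obtain ⟨g2, hg2⟩ := exists_nn (K := K) 1 1
  have h1 := reeN_mem hF u g1 hg1
  have h2 := reeN_mem hF 1 g2 (by rw [hg2, Units.val_one, one_pow])
  have hMi : ((g2⁻¹ : GL chevG2.Idx K) : Matrix chevG2.Idx chevG2.Idx K) *
      (chevG2.nMat K 8 1 * chevG2.nMat K 10 1) = 1 := by
    rw [← hg2, ← Units.val_mul, inv_mul_cancel, Units.val_one]
  have key := reeH_mat (K := K) (u ^ 3 ^ m) u _ hMi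
  have e : g = g1 * g2⁻¹ := by
    apply Units.ext
    rw [Units.val_mul, hg1, hg]
    rw [Units.val_pow_eq_pow_val] at key
    rw [key]
    congr 2
    · rw [pow_succ]
    · rw [← pow_mul, mul_comm (3 ^ m) 3, pow_succ]
  rw [e]
  exact mul_mem h1 (inv_mem h2)

theorem evalWd_reeJW2 : evalWd (1 : Kˣ) 1 reeJW2 =
    chevG2.hWord 7 (-1 : K) ++ chevG2.hWord 6 (-1 : K) := by
  have h7 : chevG2.neg 7 = 4 := by decide
  have h6 : chevG2.neg 6 = 5 := by decide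
  simp [evalWd, reeJW2, evalM, chi, ChevalleyDatum.hWord, ChevalleyDatum.nWord, h7, h6, inv_neg]

/-- `j = h_a(-1) h_b(-1)` lies in `G¹` -/
theorem reeJ_mem (hF : ReeField K m φ ψ) (g : GL chevG2.Idx K)
    (hg : (g : Matrix chevG2.Idx chevG2.Idx K) = chevG2.hMat K 7 (-1) * chevG2.hMat K 6 (-1)) :
    g ∈ twistedG2 K (3 ^ m) := by
  have J := validJ_of_mem hDG2
  obtain ⟨g1, hg1, hm1⟩ := exists_reeU (K := K) (m := m) ((0 : ℤ) : K) ((0 : ℤ) : K) ((1 : ℤ) : K)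
  obtain ⟨g2, hg2, hm2⟩ := exists_reeV (K := K) (m := m) ((0 : ℤ) : K) ((0 : ℤ) : K) ((1 : ℤ) : K)
  obtain ⟨g3, hg3, hm3⟩ := exists_reeU (K := K) (m := m) ((1 : ℤ) : K) ((1 : ℤ) : K) ((1 : ℤ) : K)
  obtain ⟨g4, hg4, hm4⟩ := exists_reeV (K := K) (m := m) ((-1 : ℤ) : K) ((1 : ℤ) : K)
    ((-1 : ℤ) : K)
  have key := wordEq3_of_check J.V (colsF_ok J.T) (D := chevG2) check_reeJ (R := K) hF.three 1 1
  unfold reeJW1 at key
  rw [evalWd_append, evalWd_append, evalWd_append, wN_append, wN_append, wN_append,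
    wN_reeUZ hF, wN_reeVZ hF, wN_reeUZ hF, wN_reeVZ hF, evalWd_reeJW2, wN_append,
    ← hMat_eq_wN, ← hMat_eq_wN] at key
  have e : g = g1 * (g2 * (g3 * g4)) := by
    apply Units.ext
    rw [Units.val_mul, Units.val_mul, Units.val_mul, hm1, hm2, hm3, hm4, hg, key]
  rw [e]
  exact mul_mem hg1.2 (mul_mem hg2.2 (mul_mem hg3.2 hg4.2))

end

end Cfsg.Agent.Lib.Helper8.Chev
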