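import Cfsg.Agent.Lib.Helper8.ChevRee13
import Cfsg.Agent.Lib.Helper8.ChevOrdH4

set_option autoImplicit false

/-! The diagonal subgroup of `G₂` and the twisting endomorphism. -/

namespace Cfsg.Agent.Lib.Helper8.Chev

open Cfsg.Lie Matrix

section

variable {K : Type*} [Field K]

/-- the point `(s, t)` of the torus -/
def hc (s t : Kˣ) : Fin chevG2.rank → Kˣ := fun i => if i.val = 0 then s else t

/-- the element `h_a(s) h_b(t)` -/
noncomputable def hh (s t : Kˣ) : GL chevG2.Idx K := torMap chevG2 K (hc s t)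

theorem hc_mul (s t s' t' : Kˣ) : hc (s * s') (t * t') = hc s t * hc s' t' := by
  funext i
  unfold hc
  by_cases h : i.val = 0 <;> simp [h]

theorem hh_mul (s t s' t' : Kˣ) : hh (s * s') (t * t') = hh s t * hh s' t' := by
  unfold hh
  rw [hc_mul, map_mul]

theorem hc_one : hc (1 : Kˣ) 1 = 1 := by
  funext i
  unfold hc
  simp

theorem hh_one : hh (1 : Kˣ) 1 = 1 := by
  unfold hh
  rw [hc_one, map_one]

theorem chiT_hc (s t : Kˣ) (r : ℕ) :
    chiT chevG2 (hc s t) r = s ^ chevG2.cartan 0 r * t ^ chevG2.cartan 1 r := by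
  unfold chiT
  exact Fin.prod_univ_two (fun i : Fin 2 => hc s t i ^ chevG2.cartan i.val r)

theorem hh_eq_one {s t : Kˣ} (h : hh s t = 1) : s = 1 ∧ t = 1 := by
  have hk : hc s t ∈ (torMap chevG2 K).ker := h
  rw [mem_ker_torMap] at hk
  have h7 := hk 7 (by decide)
  have h6 := hk 6 (by decide)
  rw [chiT_hc] at h7 h6
  have c07 : chevG2.cartan 0 7 = 2 := by decide
  have c17 : chevG2.cartan 1 7 = -1 := by decide
  have c06 : chevG2.cartan 0 6 = -3 := by decide
  have c16 : chevG2.cartan 1 6 = 2 := by decide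
  rw [c07, c17] at h7
  rw [c06, c16] at h6
  have e1 : t = s ^ 2 := by
    have := mul_inv_eq_one.mp (by rwa [_root_.zpow_neg_one] at h7 : s ^ (2 : ℤ) * t⁻¹ = 1)
    rw [← this]; norm_cast
  subst e1
  have e2 : s = 1 := by
    have : s ^ (-3 : ℤ) * (s ^ 2) ^ (2 : ℤ) = s := by
      rw [← zpow_natCast, ← _root_.zpow_mul, ← _root_.zpow_add]
      norm_num
    rw [← this]; exact h6
  subst e2
  exact ⟨rfl, one_pow 2⟩

theorem hh_inj {s t s' t' : Kˣ} (h : hh s t = hh s' t') : s = s' ∧ t = t' := by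
  have : hh (s * s'⁻¹) (t * t'⁻¹) = 1 := by
    rw [hh_mul, h, ← hh_mul, mul_inv_cancel, mul_inv_cancel, hh_one]
  obtain ⟨h1, h2⟩ := hh_eq_one this
  exact ⟨mul_inv_eq_one.mp h1, mul_inv_eq_one.mp h2⟩

theorem mem_diagonal_iff_hh (g : GL chevG2.Idx K) :
    g ∈ chevG2.diagonalSubgroup K ↔ ∃ s t : Kˣ, g = hh s t := by
  rw [diagonal_eq_range (validJ_of_mem hDG2) (valid1_of_mem hDG2) (validH_of_mem hDG2)]
  constructor
  · rintro ⟨c, rfl⟩
    refine ⟨c ⟨0, by decide⟩, c ⟨1, by decide⟩, ?_⟩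
    unfold hh
    congr 1
    funext i
    unfold hc
    have hi : i.val < 2 := i.isLt
    by_cases h : i.val = 0
    · rw [if_pos h]; congr 1; exact Fin.ext h
    · rw [if_neg h]; congr 1; apply Fin.ext; show i.val = 1; omega
  · rintro ⟨s, t, rfl⟩
    exact ⟨hc s t, rfl⟩

theorem coe_hh (s t : Kˣ) : ((hh s t : GL chevG2.Idx K) : Matrix chevG2.Idx chevG2.Idx K) =
    chevG2.hMat K 7 (s : K) * chevG2.hMat K 6 (t : K) := by
  have J := validJ_of_mem hDG2
  have H := validH_of_mem hDG2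
  have e : hc s t = Pi.mulSingle ⟨0, by decide⟩ s * Pi.mulSingle ⟨1, by decide⟩ t := by
    funext i
    unfold hc
    have hi : i.val < 2 := i.isLt
    by_cases h : i.val = 0
    · have : i = ⟨0, by decide⟩ := Fin.ext h
      subst this
      simp
    · have : i = ⟨1, by decide⟩ := by apply Fin.ext; show i.val = 1; omega
      subst this
      simp
  unfold hh
  rw [e, map_mul, Units.val_mul, torMap_mulSingle J H, torMap_mulSingle J H]
  rfl

theorem hh_mem_diagonal (s t : Kˣ) : hh s t ∈ chevG2.diagonalSubgroup K :=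
  (mem_diagonal_iff_hh _).mpr ⟨s, t, rfl⟩

theorem hh_mem_groupG (s t : Kˣ) : hh s t ∈ chevG2.group K :=
  diagonal_le_group (valid0_of_mem hDG2) (valid1_of_mem hDG2) (hh_mem_diagonal s t)

variable {m : ℕ} {τ : ↥(chevG2.group K) →* ↥(chevG2.group K)}

theorem tau_hh (hτ : ReeAut m τ) (s t : Kˣ) :
    tauG τ ⟨hh s t, hh_mem_groupG s t⟩ = hh (t ^ 3 ^ m) (s ^ (3 * 3 ^ m)) := by
  have V := valid0_of_mem hDG2
  have hw : ∀ p ∈ chevG2.hWord 7 (s : K) ++ chevG2.hWord 6 (t : K), p.1 < 12 := by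
    intro p hp
    rw [List.mem_append] at hp
    rcases hp with hp | hp
    · exact hWord_lt V (by decide) _ p hp
    · exact hWord_lt V (by decide) _ p hp
  have hg : ((hh s t : GL chevG2.Idx K) : Matrix chevG2.Idx chevG2.Idx K) =
      chevG2.wordMat K (chevG2.hWord 7 (s : K) ++ chevG2.hWord 6 (t : K)) := by
    rw [coe_hh, wordMat_eq_wN, wN_append, hMat_eq_wN, hMat_eq_wN]
  have e : hh (t ^ 3 ^ m) (s ^ (3 * 3 ^ m)) = hh 1 (s ^ (3 * 3 ^ m)) * hh (t ^ 3 ^ m) 1 := by
    rw [← hh_mul, one_mul, mul_one]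
  apply Units.ext
  rw [tauG_mat hτ _ hw _ _ hg, tauW_append, tauW_hWord (by decide), tauW_hWord (by decide), e,
    Units.val_mul, coe_hh, coe_hh, wordMat_eq_wN, wN_append, ← hMat_eq_wN, ← hMat_eq_wN]
  have h7 : barG 7 = 6 := by decide
  have h6 : barG 6 = 7 := by decide
  have l7 : lamG 7 = 3 := by decide
  have l6 : lamG 6 = 1 := by decide
  rw [h7, h6, l7, l6, one_mul]
  have J := validJ_of_mem hDG2
  have V1 := valid1_of_mem hDG2
  have H := validH_of_mem hDG2
  rw [Units.val_one, hMat_one J V1 H (by decide), hMat_one J V1 H (by decide), Matrix.one_mul,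
    Matrix.mul_one, Units.val_pow_eq_pow_val, Units.val_pow_eq_pow_val]

end

end Cfsg.Agent.Lib.Helper8.Chev
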