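import Cfsg.Agent.Lib.Helper8.ChevRee14
import Mathlib.NumberTheory.LegendreSymbol.QuadraticChar.Basic

set_option autoImplicit false

/-! The fixed points of the twisting endomorphism in `H` lie in the Ree group. -/

namespace Cfsg.Agent.Lib.Helper8.Chev

open Cfsg.Lie Matrix

section

variable {K : Type*} [Field K] {m : ℕ} {φ ψ : K →+* K}

theorem ReeField.pow_q (hF : ReeField K m φ ψ) (t : K) : (t ^ 3 ^ m) ^ (3 * 3 ^ m) = t := by
  rw [← hF.phi, ← hF.psi, hF.psi_phi]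

theorem ReeField.unit_pow_q (hF : ReeField K m φ ψ) (t : Kˣ) : (t ^ 3 ^ m) ^ (3 * 3 ^ m) = t := by
  apply Units.ext
  rw [Units.val_pow_eq_pow_val, Units.val_pow_eq_pow_val]
  exact hF.pow_q _

/-- a square is a `(3θ+1)`-th power -/
theorem ReeField.sq_eq_pow (hF : ReeField K m φ ψ) (r : Kˣ) :
    r ^ 2 = (r ^ (3 * 3 ^ m) * r⁻¹) ^ (3 * 3 ^ m + 1) := by
  have h1 : (r ^ (3 * 3 ^ m)) ^ (3 * 3 ^ m) = r ^ 3 := by
    have := hF.unit_pow_q r
    calc (r ^ (3 * 3 ^ m)) ^ (3 * 3 ^ m) = ((r ^ 3 ^ m) ^ (3 * 3 ^ m)) ^ 3 := by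
          rw [← pow_mul, ← pow_mul, ← pow_mul]; congr 1; ring
      _ = r ^ 3 := by rw [this]
  rw [mul_pow, pow_succ (r ^ (3 * 3 ^ m)), h1, inv_pow, pow_succ r (3 * 3 ^ m)]
  rw [_root_.mul_inv_rev]
  calc r ^ 2 = r ^ 3 * r⁻¹ := by rw [pow_succ r 2, mul_assoc, mul_inv_cancel, mul_one]
    _ = r ^ 3 * (r ^ (3 * 3 ^ m) * (r⁻¹ * (r ^ (3 * 3 ^ m))⁻¹)) := by
        rw [mul_comm r⁻¹, ← mul_assoc (r ^ (3 * 3 ^ m)), mul_inv_cancel, one_mul]
    _ = _ := by rw [mul_assoc]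

variable [Fintype K]

omit [Field K] in
theorem card_div_two_odd (hK : Fintype.card K = 3 ^ (2 * m + 1)) : Odd (Fintype.card K / 2) := by
  have h4 : 3 ^ (2 * m + 1) % 4 = 3 := by
    rw [pow_succ, pow_mul, Nat.mul_mod, Nat.pow_mod]
    norm_num
  rw [hK]
  rw [Nat.odd_iff]
  omega

/-- every unit is `±` a `(3θ+1)`-th power -/
theorem exists_pm_pow (hF : ReeField K m φ ψ) (hK : Fintype.card K = 3 ^ (2 * m + 1)) (t : Kˣ) :
    ∃ (ε u : Kˣ), (ε = 1 ∨ ε = -1) ∧ t = ε * u ^ (3 * 3 ^ m + 1) := by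
  have hc := hF.char3
  have h2 : ringChar K ≠ 2 := by
    rw [ringChar.eq K 3]; norm_num
  have hodd := card_div_two_odd hK
  rcases FiniteField.pow_dichotomy h2 (Units.ne_zero t) with h | h
  · obtain ⟨r, hr⟩ := (FiniteField.isSquare_iff h2 (Units.ne_zero t)).mpr h
    have hr0 : r ≠ 0 := by
      rintro rfl
      exact Units.ne_zero t (by rw [hr, mul_zero])
    refine ⟨1, Units.mk0 r hr0 ^ (3 * 3 ^ m) * (Units.mk0 r hr0)⁻¹, Or.inl rfl, ?_⟩
    rw [one_mul, ← hF.sq_eq_pow]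
    apply Units.ext
    rw [hr, Units.val_pow_eq_pow_val, Units.val_mk0, sq]
  · have h' : (-(t : K)) ^ (Fintype.card K / 2) = 1 := by
      rw [hodd.neg_pow, h, neg_neg]
    have hne : -(t : K) ≠ 0 := neg_ne_zero.mpr (Units.ne_zero t)
    obtain ⟨r, hr⟩ := (FiniteField.isSquare_iff h2 hne).mpr h'
    have hr0 : r ≠ 0 := by
      rintro rfl
      exact hne (by rw [hr, mul_zero])
    refine ⟨-1, Units.mk0 r hr0 ^ (3 * 3 ^ m) * (Units.mk0 r hr0)⁻¹, Or.inr rfl, ?_⟩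
    rw [← hF.sq_eq_pow]
    apply Units.ext
    rw [Units.val_mul, Units.val_neg, Units.val_one, Units.val_pow_eq_pow_val, Units.val_mk0, sq,
      ← hr]
    ring

theorem odd_theta : Odd (3 ^ m) := Odd.pow ⟨1, rfl⟩

/-- the fixed points in `H` lie in `G¹` -/
theorem hh_fixed_mem (hF : ReeField K m φ ψ) (hK : Fintype.card K = 3 ^ (2 * m + 1)) (t : Kˣ) :
    hh (t ^ 3 ^ m) t ∈ twistedG2 K (3 ^ m) := by
  obtain ⟨ε, u, hε, rfl⟩ := exists_pm_pow hF hK t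
  have hε' : ε ^ 3 ^ m = ε := by
    rcases hε with rfl | rfl
    · exact one_pow _
    · exact (odd_theta (m := m)).neg_one_pow
  rw [mul_pow, hε', hh_mul]
  apply mul_mem
  · rcases hε with rfl | rfl
    · rw [hh_one]; exact one_mem _
    · apply reeJ_mem hF
      rw [coe_hh, Units.val_neg, Units.val_one]
  · apply reeH_mem hF u
    rw [coe_hh, Units.val_pow_eq_pow_val, Units.val_pow_eq_pow_val]
    congr 2
    have := hF.pow_q (u : K)
    calc ((u : K) ^ (3 * 3 ^ m + 1)) ^ 3 ^ m = ((u : K) ^ 3 ^ m) ^ (3 * 3 ^ m) * (u : K) ^ 3 ^ m := by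
          rw [← pow_mul, ← pow_mul, ← pow_add]; congr 1; ring
      _ = (u : K) ^ (3 ^ m + 1) := by rw [this, pow_succ, mul_comm]

end

end Cfsg.Agent.Lib.Helper8.Chev
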