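import Cfsg.Agent.Lib.Helper8.ChevRee15

set_option autoImplicit false

/-! The Bruhat decomposition of the fixed points of the twisting endomorphism of `G₂`. -/

namespace Cfsg.Agent.Lib.Helper8.Chev

open Cfsg.Lie Matrix

section

variable {K : Type*} [Field K] {m : ℕ} {φ ψ : K →+* K}
variable {τ : ↥(chevG2.group K) →* ↥(chevG2.group K)}

theorem mem_fixT' {g : GL chevG2.Idx K} :
    g ∈ fixT τ ↔ ∃ h : g ∈ chevG2.group K, tauG τ ⟨g, h⟩ = g := by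
  rw [mem_fixT]
  constructor
  · rintro ⟨h, e⟩
    exact ⟨h, congrArg Subtype.val e⟩
  · rintro ⟨h, e⟩
    exact ⟨h, Subtype.ext e⟩

theorem tauG_mul {a b : GL chevG2.Idx K} (ha : a ∈ chevG2.group K) (hb : b ∈ chevG2.group K)
    (hab : a * b ∈ chevG2.group K) :
    tauG τ ⟨a * b, hab⟩ = tauG τ ⟨a, ha⟩ * tauG τ ⟨b, hb⟩ :=
  map_mul (tauG τ) ⟨a, ha⟩ ⟨b, hb⟩

theorem tauG_inv {a : GL chevG2.Idx K} (ha : a ∈ chevG2.group K)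
    (hai : a⁻¹ ∈ chevG2.group K) :
    tauG τ ⟨a⁻¹, hai⟩ = (tauG τ ⟨a, ha⟩)⁻¹ :=
  map_inv (tauG τ) ⟨a, ha⟩

theorem barG_barG {r : ℕ} (hr : r < 12) : barG (barG r) = r := by
  interval_cases r <;> decide

/-- a fixed element of `B` is a product of fixed elements of `U` and `H` -/
theorem ree_borel_fix (hτ : ReeAut m τ) {b : GL chevG2.Idx K}
    (hb : b ∈ chevG2.borelSubgroup K) (hbG : b ∈ chevG2.group K) (hbf : tauG τ ⟨b, hbG⟩ = b) :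
    ∃ u₁ ∈ chevG2.posUnipotent K ⊓ fixT τ, ∃ h₁ ∈ chevG2.diagonalSubgroup K ⊓ fixT τ,
      b = u₁ * h₁ := by
  have V := valid0_of_mem hDG2
  have V1 := valid1_of_mem hDG2
  have VJ := validJ_of_mem hDG2
  have H := validH_of_mem hDG2
  have P := posP_of_mem hDG2
  have Tr := triP_of_mem hDG2
  obtain ⟨u₁, hu₁, h₁, hh₁, eb⟩ := borel_decomp VJ V1 H hb
  have hu₁G := pos_le_group hu₁
  have hh₁G := diagonal_le_group V V1 hh₁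
  have eb' : u₁ * h₁ = tauG τ ⟨u₁, hu₁G⟩ * tauG τ ⟨h₁, hh₁G⟩ := by
    rw [← tauG_mul hu₁G hh₁G (by rw [← eb]; exact hbG)]
    have : (⟨u₁ * h₁, by rw [← eb]; exact hbG⟩ : ↥(chevG2.group K)) = ⟨b, hbG⟩ :=
      Subtype.ext eb.symm
    rw [this, hbf, eb]
  have hsu₁ := tau_mem_pos hτ hu₁ hu₁G
  have hsh₁ := tau_mem_diagonal hτ hh₁ hh₁G
  have hx : (tauG τ ⟨u₁, hu₁G⟩)⁻¹ * u₁ ∈ chevG2.posUnipotent K ⊓ chevG2.diagonalSubgroup K := by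
    refine Subgroup.mem_inf.mpr ⟨mul_mem (inv_mem hsu₁) hu₁, ?_⟩
    have : (tauG τ ⟨u₁, hu₁G⟩)⁻¹ * u₁ = tauG τ ⟨h₁, hh₁G⟩ * h₁⁻¹ := by
      calc (tauG τ ⟨u₁, hu₁G⟩)⁻¹ * u₁ = (tauG τ ⟨u₁, hu₁G⟩)⁻¹ * (u₁ * h₁) * h₁⁻¹ := by group
        _ = (tauG τ ⟨u₁, hu₁G⟩)⁻¹ * (tauG τ ⟨u₁, hu₁G⟩ * tauG τ ⟨h₁, hh₁G⟩) * h₁⁻¹ := by
            rw [← eb']
        _ = _ := by group
    rw [this]
    exact mul_mem hsh₁ (inv_mem hh₁)
  rw [pos_inf_diagonal VJ V1 H Tr P, Subgroup.mem_bot, inv_mul_eq_one] at hx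
  have hhf : tauG τ ⟨h₁, hh₁G⟩ = h₁ := by
    have := eb'
    rw [hx] at this
    exact (mul_left_cancel this).symm
  exact ⟨u₁, Subgroup.mem_inf.mpr ⟨hu₁, mem_fixT'.mpr ⟨hu₁G, hx⟩⟩, h₁,
    Subgroup.mem_inf.mpr ⟨hh₁, mem_fixT'.mpr ⟨hh₁G, hhf⟩⟩, eb⟩

/-- a fixed element of `N` is given by a word which is trivial or `-1` on the roots -/
theorem ree_mono_fix (hτ : ReeAut m τ) {n : GL chevG2.Idx K}
    (hn : n ∈ chevG2.monomialSubgroup K) (hnG : n ∈ chevG2.group K)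
    (hnf : tauG τ ⟨n, hnG⟩ = n) :
    ∃ h₀ ∈ chevG2.diagonalSubgroup K, ∃ l : List ℕ, (∀ i ∈ l, i < 2) ∧ n = h₀ * nP chevG2 K l ∧
      ((∀ s < 12, reflWord chevG2 l s = s) ∨ (∀ s < 12, reflWord chevG2 l s = chevG2.neg s)) := by
  have V := valid0_of_mem hDG2
  have V1 := valid1_of_mem hDG2
  have VJ := validJ_of_mem hDG2
  have H := validH_of_mem hDG2
  obtain ⟨h₀, hh₀, l, hl, e⟩ := monomial_form hDG2 hn
  have hl2 : ∀ i ∈ l, i < 2 := hl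
  have hlρ : ∀ i ∈ l.map rhoG, i < chevG2.rank := by
    intro i hi
    rw [List.mem_map] at hi
    obtain ⟨j, hj, rfl⟩ := hi
    exact rhoG_lt (hl2 j hj)
  have hh₀G := diagonal_le_group V V1 hh₀
  have e1 : h₀ * nP chevG2 K l = tauG τ ⟨h₀, hh₀G⟩ * nP chevG2 K (l.map rhoG) := by
    rw [← tau_nP hτ hl2, ← tauG_mul hh₀G (nP_mem_groupG hl2) (by rw [← e]; exact hnG)]
    have : (⟨h₀ * nP chevG2 K l, by rw [← e]; exact hnG⟩ : ↥(chevG2.group K)) = ⟨n, hnG⟩ :=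
      Subtype.ext e.symm
    rw [this, hnf, e]
  have hH : (nP chevG2 K l)⁻¹ * nP chevG2 K (l.map rhoG) ∈ chevG2.diagonalSubgroup K := by
    have e2 : (nP chevG2 K l)⁻¹ * nP chevG2 K (l.map rhoG) =
        (nP chevG2 K l)⁻¹ * ((tauG τ ⟨h₀, hh₀G⟩)⁻¹ * h₀) * (nP chevG2 K l)⁻¹⁻¹ := by
      calc (nP chevG2 K l)⁻¹ * nP chevG2 K (l.map rhoG)
          = (nP chevG2 K l)⁻¹ * (tauG τ ⟨h₀, hh₀G⟩)⁻¹ *
              (tauG τ ⟨h₀, hh₀G⟩ * nP chevG2 K (l.map rhoG)) := by group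
        _ = (nP chevG2 K l)⁻¹ * (tauG τ ⟨h₀, hh₀G⟩)⁻¹ * (h₀ * nP chevG2 K l) := by rw [e1]
        _ = _ := by group
    rw [e2]
    exact (Subgroup.mem_normalizer_iff.mp (monomial_le_normalizer hDG2
      (inv_mem (nP_mem_monomial hDG2 hl))) _).mp
      (mul_mem (inv_mem (tau_mem_diagonal hτ hh₀ hh₀G)) hh₀)
  have hρl := reflWord_eq_of_mem_diagonal hDG2 hl hlρ hH
  refine ⟨h₀, hh₀, l, hl2, e, weyl_ree hl2 (fun s hs => ?_)⟩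
  rw [hρl _ (barG_lt hs), reflWord_barG hl2 hs]

end

end Cfsg.Agent.Lib.Helper8.Chev
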