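import Cfsg.Agent.Lib.Helper8.ChevRee16

set_option autoImplicit false

/-! The element `n₀` of the Ree group and the Bruhat decomposition of the fixed points. -/

namespace Cfsg.Agent.Lib.Helper8.Chev

open Cfsg.Lie Matrix

section

variable {K : Type*} [Field K] {m : ℕ} {φ ψ : K →+* K}
variable {τ : ↥(chevG2.group K) →* ↥(chevG2.group K)}

/-- the element `n₀ = n_{a+b}(1) n_{3a+b}(1)` -/
noncomputable def reeN0 (K : Type*) [Field K] : GL chevG2.Idx K :=
  Classical.choose (exists_nn (K := K) 1 1)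

theorem coe_reeN0 : ((reeN0 K : GL chevG2.Idx K) : Matrix chevG2.Idx chevG2.Idx K) =
    chevG2.nMat K 8 1 * chevG2.nMat K 10 1 :=
  Classical.choose_spec (exists_nn (K := K) 1 1)

theorem reeN0_mem_twisted (hF : ReeField K m φ ψ) : reeN0 K ∈ twistedG2 K (3 ^ m) :=
  reeN_mem hF 1 _ (by rw [coe_reeN0, Units.val_one, one_pow])

theorem reeN0_mem_monomial : reeN0 K ∈ chevG2.monomialSubgroup K := by
  have V := valid0_of_mem hDG2
  have V1 := valid1_of_mem hDG2
  obtain ⟨g8, hg8⟩ := exists_unit_wN (F := K) V V1 (chevG2.nWord 8 1) (nWord_lt V (by decide) 1)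
  obtain ⟨g10, hg10⟩ := exists_unit_wN (F := K) V V1 (chevG2.nWord 10 1)
    (nWord_lt V (by decide) 1)
  have e : reeN0 K = g8 * g10 := by
    apply Units.ext
    rw [coe_reeN0, Units.val_mul, hg8, hg10, nMat_eq_wN, nMat_eq_wN]
  rw [e]
  unfold ChevalleyDatum.monomialSubgroup
  apply Subgroup.mem_sup_right
  apply mul_mem
  · exact Subgroup.subset_closure ⟨8, by decide, by rw [hg8, nMat_eq_wN]⟩
  · exact Subgroup.subset_closure ⟨10, by decide, by rw [hg10, nMat_eq_wN]⟩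

/-- `n₀ = U(0,1,0) V(0,1,0) U(0,1,0)` -/
theorem reeN0_decomp (hF : ReeField K m φ ψ) :
    ∃ gU ∈ chevG2.posUnipotent K, ∃ gV ∈ chevG2.negUnipotent K,
      reeN0 K = gU * gV * gU ∧ gV ≠ 1 := by
  have V := valid0_of_mem hDG2
  have V1 := valid1_of_mem hDG2
  have C := copP_of_mem hDG2
  obtain ⟨gU, hgU, hmU⟩ := exists_reeU (K := K) (m := m) 0 1 0
  obtain ⟨gV, hgV, hmV⟩ := exists_reeV (K := K) (m := m) 0 1 0
  refine ⟨gU, hgU.1, gV, hgV.1, ?_, ?_⟩
  · apply Units.ext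
    rw [Units.val_mul, Units.val_mul, hmU, hmV, coe_reeN0, wordMat_reeU_mid hF,
      wordMat_reeV_mid hF]
    have key := reeN_mat (K := K) 1 1
    rw [Units.val_one] at key
    rw [← key]
    simp only [wN_cons, wN_nil, Matrix.mul_one, x_eq_xN, one_pow, inv_one, Matrix.mul_assoc]
  · intro h1
    rw [h1, Units.val_one, wordMat_reeV_mid hF, one_pow, x_eq_xN, x_eq_xN] at hmV
    have e : xN chevG2 K 3 (-1) = xN chevG2 K 1 1 := by
      calc xN chevG2 K 3 (-1) = xN chevG2 K 3 (-1) * (xN chevG2 K 1 (-1) * xN chevG2 K 1 1) := by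
            rw [xN_mul_xN (R := K) V V1 (by decide), neg_add_cancel, xN_zero V, Matrix.mul_one]
        _ = xN chevG2 K 1 1 := by rw [← Matrix.mul_assoc, ← hmV, Matrix.one_mul]
    have := xN_inj_root V C (F := K) (a := 3) (b := 1) (by decide) (by decide)
      (neg_ne_zero.mpr one_ne_zero) e
    exact absurd this (by decide)

theorem reeN0_not_mem_borel (hF : ReeField K m φ ψ) : reeN0 K ∉ chevG2.borelSubgroup K := by
  have V1 := valid1_of_mem hDG2
  have J := validJ_of_mem hDG2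
  have H := validH_of_mem hDG2
  have P := posP_of_mem hDG2
  have Tr := triP_of_mem hDG2
  obtain ⟨gU, hgU, gV, hgV, e, hne⟩ := reeN0_decomp hF
  intro hB
  apply hne
  have hVB : gV ∈ chevG2.borelSubgroup K := by
    have : gV = gU⁻¹ * (gU * gV * gU) * gU⁻¹ := by group
    rw [this, ← e]
    exact mul_mem (mul_mem (inv_mem (pos_le_borel hgU)) hB) (inv_mem (pos_le_borel hgU))
  have : gV ∈ chevG2.borelSubgroup K ⊓ chevG2.negUnipotent K := ⟨hVB, hgV⟩
  rwa [borel_inf_neg J V1 H Tr P, Subgroup.mem_bot] at this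

theorem reeN0_mem_fixT (hF : ReeField K m φ ψ) (hτ : ReeAut m τ) : reeN0 K ∈ fixT τ :=
  twistedG2_le_fixT hF hτ (reeN0_mem_twisted hF)

/-- `n₀` is a torus element times a word acting as `-1` on the roots -/
theorem reeN0_form (hF : ReeField K m φ ψ) (hτ : ReeAut m τ) :
    ∃ h₀ ∈ chevG2.diagonalSubgroup K, ∃ l : List ℕ, (∀ i ∈ l, i < 2) ∧
      reeN0 K = h₀ * nP chevG2 K l ∧ ∀ s < 12, reflWord chevG2 l s = chevG2.neg s := by
  obtain ⟨hG, hfix⟩ := mem_fixT'.mp (reeN0_mem_fixT hF hτ)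
  obtain ⟨h₀, hh₀, l, hl, e, h | h⟩ := ree_mono_fix hτ reeN0_mem_monomial hG hfix
  · exfalso
    apply reeN0_not_mem_borel hF
    rw [e]
    apply diagonal_le_borel
    apply mul_mem hh₀
    have := nP_mul_inv_mem_diagonal (F := K) hDG2 (l := l) (l' := []) hl (by simp) (fun r hr => by
      rw [h r hr]; rfl)
    rwa [nP_nil, inv_one, mul_one] at this
  · exact ⟨h₀, hh₀, l, hl, e, h⟩

end

end Cfsg.Agent.Lib.Helper8.Chev
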