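import Cfsg.Agent.Lib.Helper8.ChevRee17

set_option autoImplicit false

/-! The Bruhat decomposition of the fixed points of the twisting endomorphism of `G₂`. -/

namespace Cfsg.Agent.Lib.Helper8.Chev

open Cfsg.Lie Matrix

section

variable {K : Type*} [Field K] {m : ℕ} {φ ψ : K →+* K}
variable {τ : ↥(chevG2.group K) →* ↥(chevG2.group K)}

theorem unegW_le_posG {l : List ℕ} (hl : ∀ i ∈ l, i < 2) :
    UnegW chevG2 K l ≤ chevG2.posUnipotent K :=
  (unegW_le_unegS hDG2 hl).trans (unegS_le_pos _)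

theorem ree_bruhat (hF : ReeField K m φ ψ) (hτ : ReeAut m τ) {g : GL chevG2.Idx K}
    (hg : g ∈ fixT τ) :
    (∃ u₁ ∈ chevG2.posUnipotent K ⊓ fixT τ, ∃ h₁ ∈ chevG2.diagonalSubgroup K ⊓ fixT τ,
      g = u₁ * h₁) ∨
    (∃ u₁ ∈ chevG2.posUnipotent K ⊓ fixT τ, ∃ h₁ ∈ chevG2.diagonalSubgroup K ⊓ fixT τ,
      ∃ u ∈ chevG2.posUnipotent K ⊓ fixT τ, g = u₁ * h₁ * reeN0 K * u) := by
  have V := valid0_of_mem hDG2
  have V1 := valid1_of_mem hDG2
  have VJ := validJ_of_mem hDG2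
  have H := validH_of_mem hDG2
  obtain ⟨hgG, hfix⟩ := mem_fixT'.mp hg
  obtain ⟨b, hb, l, hl, u, hu, e⟩ := bruhat_exists_word hDG2 hgG
  have hl2 : ∀ i ∈ l, i < 2 := hl
  have hlρ : ∀ i ∈ l.map rhoG, i < chevG2.rank := by
    intro i hi
    rw [List.mem_map] at hi
    obtain ⟨j, hj, rfl⟩ := hi
    exact rhoG_lt (hl2 j hj)
  have hbG := borel_le_group V V1 hb
  have huU := unegW_le_posG hl2 hu
  have huG := pos_le_group huU
  -- the word of `g` is symmetric
  have e1 : g = tauG τ ⟨b, hbG⟩ * nP chevG2 K (l.map rhoG) * tauG τ ⟨u, huG⟩ := by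
    have eS : (⟨g, hgG⟩ : ↥(chevG2.group K)) = ⟨b, hbG⟩ * ⟨nP chevG2 K l, nP_mem_groupG hl2⟩ *
        ⟨u, huG⟩ := Subtype.ext e
    have := congrArg (tauG τ) eS
    rw [hfix, map_mul, map_mul, tau_nP hτ hl2] at this
    exact this
  have hsu := tau_mem_unegW hτ hl2 hu huG
  obtain ⟨hH, -⟩ := bruhat_unique_chev hDG2 hb (tau_mem_borel hτ hb hbG)
    (nP_mem_monomial hDG2 hl) (nP_mem_monomial hDG2 hlρ) (unegW_le_unegS hDG2 hl hu)
    (unegW_le_unegS hDG2 hlρ hsu) (e.symm.trans e1)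
  have hρl := reflWord_eq_of_mem_diagonal hDG2 hl hlρ hH
  have hw := weyl_ree hl2 (fun s hs => by rw [hρl _ (barG_lt hs), reflWord_barG hl2 hs])
  rcases hw with hw | hw
  · -- the trivial element of the Weyl group
    left
    have hnH : nP chevG2 K l ∈ chevG2.diagonalSubgroup K := by
      have := nP_mul_inv_mem_diagonal (F := K) hDG2 (l := l) (l' := []) hl (by simp)
        (fun r hr => by rw [hw r hr]; rfl)
      rwa [nP_nil, inv_one, mul_one] at this
    have hgB : g ∈ chevG2.borelSubgroup K := by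
      rw [e]
      exact mul_mem (mul_mem hb (diagonal_le_borel hnH)) (pos_le_borel huU)
    exact ree_borel_fix hτ hgB hgG hfix
  · -- the element `-1` of the Weyl group
    right
    obtain ⟨h₀, hh₀, l', hl', en, hw'⟩ := reeN0_form hF hτ
    have hl'r : ∀ i ∈ l', i < chevG2.rank := hl'
    have hl'ρ : ∀ i ∈ l'.map rhoG, i < chevG2.rank := by
      intro i hi
      rw [List.mem_map] at hi
      obtain ⟨j, hj, rfl⟩ := hi
      exact rhoG_lt (hl' j hj)
    have hh' := nP_mul_inv_mem_diagonal (F := K) hDG2 hl hl'r (fun r hr => by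
      rw [hw r hr, hw' r hr])
    have hu' : u ∈ UnegW chevG2 K l' := by
      rw [← unegW_congr (l := l) (l' := l') (fun r hr => by rw [hw r hr, hw' r hr])]
      exact hu
    set b' := b * (nP chevG2 K l * (nP chevG2 K l')⁻¹) * h₀⁻¹ with hb'def
    have hb' : b' ∈ chevG2.borelSubgroup K :=
      mul_mem (mul_mem hb (diagonal_le_borel hh')) (inv_mem (diagonal_le_borel hh₀))
    have hb'G := borel_le_group V V1 hb'
    have hn0G := (mem_fixT'.mp (reeN0_mem_fixT hF hτ)).1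
    have hn0f := (mem_fixT'.mp (reeN0_mem_fixT hF hτ)).2
    have e2 : g = b' * reeN0 K * u := by
      rw [e, en, hb'def]; group
    have e3 : g = tauG τ ⟨b', hb'G⟩ * reeN0 K * tauG τ ⟨u, huG⟩ := by
      have eS : (⟨g, hgG⟩ : ↥(chevG2.group K)) = ⟨b', hb'G⟩ * ⟨reeN0 K, hn0G⟩ * ⟨u, huG⟩ :=
        Subtype.ext e2
      have := congrArg (tauG τ) eS
      rw [hfix, map_mul, map_mul, hn0f] at this
      exact this
    have hsu' : tauG τ ⟨u, huG⟩ ∈ UnegW chevG2 K l' := by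
      have h1 := tau_mem_unegW hτ hl' hu' huG
      rw [unegW_congr (l := l'.map rhoG) (l' := l') (fun r hr => by
        have hr12 : r < 12 := hr
        have := reflWord_barG hl' (barG_lt hr12)
        rw [barG_barG hr12] at this
        rw [this, hw' _ (barG_lt hr12), hw' r hr12, barG_neg (barG_lt hr12),
          barG_barG hr12])] at h1
      exact h1
    have e4 : b' * h₀ * nP chevG2 K l' * u =
        tauG τ ⟨b', hb'G⟩ * h₀ * nP chevG2 K l' * tauG τ ⟨u, huG⟩ := by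
      have : b' * reeN0 K * u = tauG τ ⟨b', hb'G⟩ * reeN0 K * tauG τ ⟨u, huG⟩ :=
        e2.symm.trans e3
      rw [en] at this
      calc b' * h₀ * nP chevG2 K l' * u = b' * (h₀ * nP chevG2 K l') * u := by group
        _ = tauG τ ⟨b', hb'G⟩ * (h₀ * nP chevG2 K l') * tauG τ ⟨u, huG⟩ := this
        _ = _ := by group
    obtain ⟨-, himp⟩ := bruhat_unique_chev hDG2 (mul_mem hb' (diagonal_le_borel hh₀))
      (mul_mem (tau_mem_borel hτ hb' hb'G) (diagonal_le_borel hh₀))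
      (nP_mem_monomial hDG2 hl'r) (nP_mem_monomial hDG2 hl'r) (unegW_le_unegS hDG2 hl'r hu')
      (unegW_le_unegS hDG2 hl'r hsu') e4
    obtain ⟨hbf, huf⟩ := himp rfl
    have hbf' : tauG τ ⟨b', hb'G⟩ = b' := (mul_right_cancel hbf).symm
    obtain ⟨u₁, hu₁, h₁, hh₁, eb⟩ := ree_borel_fix hτ hb' hb'G hbf'
    refine ⟨u₁, hu₁, h₁, hh₁, u, Subgroup.mem_inf.mpr ⟨huU, mem_fixT'.mpr ⟨huG, huf.symm⟩⟩, ?_⟩
    rw [← eb]
    exact e2

end

end Cfsg.Agent.Lib.Helper8.Chev
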