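import Cfsg.Agent.Lib.Helper8.ChevRee18

set_option autoImplicit false

/-! The Ree group is the group of fixed points of the twisting endomorphism. -/

namespace Cfsg.Agent.Lib.Helper8.Chev

open Cfsg.Lie Matrix

section

variable {K : Type*} [Field K] {m : ℕ} {φ ψ : K →+* K}
variable {τ : ↥(chevG2.group K) →* ↥(chevG2.group K)}

/-- the fixed points in `H` -/
theorem diag_fix_iff (hF : ReeField K m φ ψ) (hτ : ReeAut m τ) (g : GL chevG2.Idx K) :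
    g ∈ chevG2.diagonalSubgroup K ⊓ fixT τ ↔ ∃ t : Kˣ, g = hh (t ^ 3 ^ m) t := by
  constructor
  · rintro ⟨hH, hf⟩
    obtain ⟨s, t, rfl⟩ := (mem_diagonal_iff_hh g).mp hH
    obtain ⟨hG, hfix⟩ := mem_fixT'.mp hf
    rw [tau_hh hτ] at hfix
    obtain ⟨h1, -⟩ := hh_inj hfix
    exact ⟨t, by rw [h1]⟩
  · rintro ⟨t, rfl⟩
    refine ⟨hh_mem_diagonal _ _, mem_fixT'.mpr ⟨hh_mem_groupG _ _, ?_⟩⟩
    rw [tau_hh hτ, hF.unit_pow_q]

theorem pos_fix_le_twisted (hF : ReeField K m φ ψ) (hτ : ReeAut m τ) :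
    chevG2.posUnipotent K ⊓ fixT τ ≤ twistedG2 K (3 ^ m) := by
  rintro g ⟨h1, h2⟩
  obtain ⟨hG, hfix⟩ := mem_fixT.mp h2
  obtain ⟨t, u, v, hm⟩ := pos_fixed hF hτ ⟨g, hG⟩ h1 hfix
  exact reeU_mem t u v g hm

theorem pos_inf_fixT (hF : ReeField K m φ ψ) (hτ : ReeAut m τ) :
    chevG2.posUnipotent K ⊓ fixT τ = chevG2.posUnipotent K ⊓ twistedG2 K (3 ^ m) := by
  apply le_antisymm
  · exact le_inf inf_le_left (pos_fix_le_twisted hF hτ)
  · exact inf_le_inf_left _ (twistedG2_le_fixT hF hτ)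

variable [Fintype K]

theorem diag_fix_le_twisted (hF : ReeField K m φ ψ) (hK : Fintype.card K = 3 ^ (2 * m + 1))
    (hτ : ReeAut m τ) : chevG2.diagonalSubgroup K ⊓ fixT τ ≤ twistedG2 K (3 ^ m) := by
  intro g hg
  obtain ⟨t, rfl⟩ := (diag_fix_iff hF hτ g).mp hg
  exact hh_fixed_mem hF hK t

/-- the Ree group is the group of fixed points -/
theorem fixT_eq_twisted (hF : ReeField K m φ ψ) (hK : Fintype.card K = 3 ^ (2 * m + 1))
    (hτ : ReeAut m τ) : fixT τ = twistedG2 K (3 ^ m) := by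
  apply le_antisymm
  · intro g hg
    rcases ree_bruhat hF hτ hg with ⟨u₁, hu₁, h₁, hh₁, rfl⟩ | ⟨u₁, hu₁, h₁, hh₁, u, hu, rfl⟩
    · exact mul_mem (pos_fix_le_twisted hF hτ hu₁) (diag_fix_le_twisted hF hK hτ hh₁)
    · exact mul_mem (mul_mem (mul_mem (pos_fix_le_twisted hF hτ hu₁)
        (diag_fix_le_twisted hF hK hτ hh₁)) (reeN0_mem_twisted hF)) (pos_fix_le_twisted hF hτ hu)
  · exact twistedG2_le_fixT hF hτ

theorem diag_inf_twisted_iff (hF : ReeField K m φ ψ) (hK : Fintype.card K = 3 ^ (2 * m + 1))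
    (hτ : ReeAut m τ) (g : GL chevG2.Idx K) :
    g ∈ chevG2.diagonalSubgroup K ⊓ twistedG2 K (3 ^ m) ↔ ∃ t : Kˣ, g = hh (t ^ 3 ^ m) t := by
  rw [← fixT_eq_twisted hF hK hτ]
  exact diag_fix_iff hF hτ g

/-- `|H¹| = q - 1` -/
theorem card_diag_inf_twisted (hF : ReeField K m φ ψ) (hK : Fintype.card K = 3 ^ (2 * m + 1))
    (hτ : ReeAut m τ) :
    Nat.card ↥(chevG2.diagonalSubgroup K ⊓ twistedG2 K (3 ^ m)) = 3 ^ (2 * m + 1) - 1 := by
  classical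
  let f : Kˣ → ↥(chevG2.diagonalSubgroup K ⊓ twistedG2 K (3 ^ m)) := fun t =>
    ⟨hh (t ^ 3 ^ m) t, (diag_inf_twisted_iff hF hK hτ _).mpr ⟨t, rfl⟩⟩
  have hbij : Function.Bijective f := by
    constructor
    · intro t t' h
      exact (hh_inj (congrArg Subtype.val h)).2
    · rintro ⟨g, hg⟩
      obtain ⟨t, rfl⟩ := (diag_inf_twisted_iff hF hK hτ g).mp hg
      exact ⟨t, rfl⟩
  rw [← Nat.card_congr (Equiv.ofBijective f hbij), Nat.card_eq_fintype_card, Fintype.card_units,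
    hK]

end

end Cfsg.Agent.Lib.Helper8.Chev
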