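import Cfsg.Agent.Lib.Helper8.ChevRee1
import Cfsg.Agent.Lib.Helper8.ChevX9

set_option autoImplicit false

/-! The relations in the unipotent subgroups of `G₂` in characteristic 3. -/

namespace Cfsg.Agent.Lib.Helper8.Chev

open Cfsg.Lie Matrix

/-- the relations of `U` (or `V`) of `G₂` in characteristic 3; the index `i` stands for
`b, a, a+b, 2a+b, 3a+b, 3a+2b` (`i = 0, …, 5`). -/
structure G2Rel {M : Type*} [Monoid M] {K : Type*} [Field K] (y : ℕ → K → M) : Prop where
  add : ∀ i s t, y i s * y i t = y i (s + t)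
  zero : ∀ i, y i 0 = 1
  c1 : ∀ t u, y 1 u * y 0 t =
    y 0 t * y 1 u * (y 2 (-(t * u)) * (y 3 (-(t * u ^ 2)) * (y 4 (t * u ^ 3) * y 5 (t ^ 2 * u ^ 3))))
  c2 : ∀ t u, y 4 u * y 0 t = y 0 t * y 4 u * y 5 (-(t * u))
  c3 : ∀ t u, y 2 u * y 1 t = y 1 t * y 2 u * y 3 (-(t * u))
  comm : ∀ i j, 2 ≤ i → i < 6 → 2 ≤ j → j < 6 → ∀ s t, y i s * y j t = y j t * y i s
  comm0 : ∀ j, j = 2 ∨ j = 3 ∨ j = 5 → ∀ s t, y j s * y 0 t = y 0 t * y j s
  comm1 : ∀ j, j = 3 ∨ j = 4 ∨ j = 5 → ∀ s t, y j s * y 1 t = y 1 t * y j s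

section

variable {K : Type*} [Field K]

theorem x_add (r : ℕ) (hr : r < 12) (s t : K) :
    chevG2.x K r s * chevG2.x K r t = chevG2.x K r (s + t) := by
  rw [x_eq_xN, x_eq_xN, x_eq_xN]
  exact xN_mul_xN (R := K) (valid0_of_mem hDG2) (valid1_of_mem hDG2) hr s t

theorem x_zero (r : ℕ) : chevG2.x K r 0 = 1 := by
  rw [x_eq_xN]; exact xN_zero (valid0_of_mem hDG2) K r

/-- the commutator formula with the terms evaluated -/
theorem comm_eval {r s : ℕ} (hr : r < 12) (hs : s < 12) (h1 : s ≠ r) (h2 : s ≠ chevG2.neg r)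
    {L : List (ℕ × ℤ × ℕ × ℕ)} (hL : chevG2.commTerms r s = L) (t u : K) :
    chevG2.x K s u * chevG2.x K r t = chevG2.x K r t * chevG2.x K s u *
      chevG2.wordMat K (L.map fun c => (c.1, (c.2.1 : K) * (-t) ^ c.2.2.1 * u ^ c.2.2.2)) := by
  rw [comm_formula hDG2 hr hs h1 h2 t u]
  unfold ChevalleyDatum.commWord
  rw [hL]

variable [CharP K 3]

theorem three_eq_zero : (3 : K) = 0 := by
  have := CharP.cast_eq_zero K 3
  exact_mod_cast this

theorem g2Rel_pos : G2Rel (fun i (c : K) => chevG2.x K (6 + i) c) := by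
  have h3 := three_eq_zero (K := K)
  have hm2 : (-2 : K) = 1 := by linear_combination (-1 : K) * h3
  constructor
  · intro i s t
    by_cases hi : 6 + i < 12
    · exact x_add _ hi s t
    · have hi' : ¬ 6 + i < chevG2.nroots := hi
      simp only [ChevalleyDatum.x]
      rw [dif_neg hi', dif_neg hi', dif_neg hi', mul_one]
  · intro i; exact x_zero _
  · intro t u
    have := comm_eval (K := K) (r := 6) (s := 7) (by decide) (by decide) (by decide) (by decide)
      (L := [(8, 1, 1, 1), (9, 1, 1, 2), (10, -1, 1, 3), (11, -2, 2, 3)]) (by decide) t u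
    simp only [ChevalleyDatum.wordMat, List.map_cons, List.map_nil, List.prod_cons, List.prod_nil,
      mul_one, Int.cast_one, one_mul, Int.cast_neg, pow_one, Int.cast_ofNat] at this
    rw [this]
    congr 2
    · ring
    congr 2
    · ring
    congr 2
    · ring
    · rw [hm2]; ring
  · intro t u
    have := comm_eval (K := K) (r := 6) (s := 10) (by decide) (by decide) (by decide) (by decide)
      (L := [(11, 1, 1, 1)]) (by decide) t u
    simp only [ChevalleyDatum.wordMat, List.map_cons, List.map_nil, List.prod_cons, List.prod_nil,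
      mul_one, Int.cast_one, one_mul, pow_one] at this
    rw [this]
    congr 2; ring
  · intro t u
    have := comm_eval (K := K) (r := 7) (s := 8) (by decide) (by decide) (by decide) (by decide)
      (L := [(9, -2, 1, 1), (10, -3, 2, 1), (11, 3, 1, 2)]) (by decide) t u
    simp only [ChevalleyDatum.wordMat, List.map_cons, List.map_nil, List.prod_cons, List.prod_nil,
      mul_one, Int.cast_neg, pow_one, Int.cast_ofNat, h3, neg_zero, zero_mul, x_zero] at this
    rw [this]
    congr 2; rw [hm2]; ring
  · -- the commuting pairs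
    intro i j hi hi' hj hj' s t
    by_cases hij : i = j
    · subst hij
      rw [x_add _ (by omega), x_add _ (by omega), add_comm s t]
    · have key : ∀ (L : List (ℕ × ℤ × ℕ × ℕ)), chevG2.commTerms (6 + j) (6 + i) = L →
          (∀ c ∈ L, ((c.2.1 : ℤ) : K) = 0) →
          chevG2.x K (6 + i) s * chevG2.x K (6 + j) t = chevG2.x K (6 + j) t * chevG2.x K (6 + i) s := by
        intro L hL hz
        have h2 : 6 + i ≠ chevG2.neg (6 + j) := by
          have : chevG2.neg (6 + j) = 5 - j := by
            interval_cases j <;> rfl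
          omega
        have := comm_eval (K := K) (r := 6 + j) (s := 6 + i) (by omega) (by omega) (by omega) h2 hL t s
        rw [this]
        have hw : chevG2.wordMat K (L.map fun c => (c.1, (c.2.1 : K) * (-t) ^ c.2.2.1 * s ^ c.2.2.2)) = 1 := by
          unfold ChevalleyDatum.wordMat
          rw [List.map_map]
          apply List.prod_eq_one
          intro x hx
          rw [List.mem_map] at hx
          obtain ⟨c, hc, rfl⟩ := hx
          simp only [Function.comp_apply]
          rw [hz c hc, zero_mul, zero_mul, x_zero]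
        rw [hw, mul_one]
      have hzc : ((3 : ℤ) : K) = 0 := by exact_mod_cast h3
      have hzc' : ((-3 : ℤ) : K) = 0 := by rw [Int.cast_neg, hzc, neg_zero]
      interval_cases i <;> interval_cases j <;> first
        | exact absurd rfl hij
        | exact key [] (by decide) (by simp)
        | exact key [(11, 3, 1, 1)] (by decide) (by simpa using hzc)
        | exact key [(11, -3, 1, 1)] (by decide) (by simpa using hzc')
  · intro j hj s t
    have key : ∀ (L : List (ℕ × ℤ × ℕ × ℕ)), chevG2.commTerms 6 (6 + j) = L → L = [] →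
        6 + j < 12 → 6 + j ≠ 6 → 6 + j ≠ chevG2.neg 6 →
        chevG2.x K (6 + j) s * chevG2.x K 6 t = chevG2.x K 6 t * chevG2.x K (6 + j) s := by
      intro L hL hz h1 h2 h3'
      have := comm_eval (K := K) (r := 6) (s := 6 + j) (by decide) h1 h2 h3' hL t s
      rw [this, hz]
      simp [ChevalleyDatum.wordMat]
    rcases hj with rfl | rfl | rfl
    · exact key [] (by decide) rfl (by decide) (by decide) (by decide)
    · exact key [] (by decide) rfl (by decide) (by decide) (by decide)
    · exact key [] (by decide) rfl (by decide) (by decide) (by decide)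
  · intro j hj s t
    have hzc : ((3 : ℤ) : K) = 0 := by exact_mod_cast h3
    have hzc' : ((-3 : ℤ) : K) = 0 := by rw [Int.cast_neg, hzc, neg_zero]
    have key : ∀ (L : List (ℕ × ℤ × ℕ × ℕ)), chevG2.commTerms 7 (6 + j) = L →
        (∀ c ∈ L, ((c.2.1 : ℤ) : K) = 0) →
        6 + j < 12 → 6 + j ≠ 7 → 6 + j ≠ chevG2.neg 7 →
        chevG2.x K (6 + j) s * chevG2.x K 7 t = chevG2.x K 7 t * chevG2.x K (6 + j) s := by
      intro L hL hz h1 h2 h3'
      have := comm_eval (K := K) (r := 7) (s := 6 + j) (by decide) h1 h2 h3' hL t s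
      rw [this]
      have hw : chevG2.wordMat K (L.map fun c => (c.1, (c.2.1 : K) * (-t) ^ c.2.2.1 * s ^ c.2.2.2)) = 1 := by
        unfold ChevalleyDatum.wordMat
        rw [List.map_map]
        apply List.prod_eq_one
        intro x hx
        rw [List.mem_map] at hx
        obtain ⟨c, hc, rfl⟩ := hx
        simp only [Function.comp_apply]
        rw [hz c hc, zero_mul, zero_mul, x_zero]
      rw [hw, mul_one]
    rcases hj with rfl | rfl | rfl
    · exact key [(10, 3, 1, 1)] (by decide) (by simpa using hzc) (by decide) (by decide) (by decide)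
    · exact key [] (by decide) (by simp) (by decide) (by decide) (by decide)
    · exact key [] (by decide) (by simp) (by decide) (by decide) (by decide)


theorem g2Rel_neg : G2Rel (fun i (c : K) => chevG2.x K (5 - i) (-c)) := by
  have h3 := three_eq_zero (K := K)
  have hm2 : (-2 : K) = 1 := by linear_combination (-1 : K) * h3
  have hzc : ((3 : ℤ) : K) = 0 := by exact_mod_cast h3
  have hzc' : ((-3 : ℤ) : K) = 0 := by rw [Int.cast_neg, hzc, neg_zero]
  have hw1 : ∀ (L : List (ℕ × ℤ × ℕ × ℕ)) (t s : K), (∀ c ∈ L, ((c.2.1 : ℤ) : K) = 0) →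
      chevG2.wordMat K (L.map fun c => (c.1, (c.2.1 : K) * (-t) ^ c.2.2.1 * s ^ c.2.2.2)) = 1 := by
    intro L t s hz
    unfold ChevalleyDatum.wordMat
    rw [List.map_map]
    apply List.prod_eq_one
    intro x hx
    rw [List.mem_map] at hx
    obtain ⟨c, hc, rfl⟩ := hx
    simp only [Function.comp_apply]
    rw [hz c hc, zero_mul, zero_mul, x_zero]
  constructor
  · intro i s t
    show chevG2.x K (5 - i) (-s) * chevG2.x K (5 - i) (-t) = chevG2.x K (5 - i) (-(s + t))
    rw [x_add _ (by omega), neg_add]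
  · intro i
    show chevG2.x K (5 - i) (-0) = 1
    rw [neg_zero]; exact x_zero _
  · intro t u
    have := comm_eval (K := K) (r := 5) (s := 4) (by decide) (by decide) (by decide) (by decide)
      (L := [(3, -1, 1, 1), (2, 1, 1, 2), (1, 1, 1, 3), (0, -2, 2, 3)]) (by decide) (-t) (-u)
    simp only [ChevalleyDatum.wordMat, List.map_cons, List.map_nil, List.prod_cons, List.prod_nil,
      mul_one, Int.cast_one, one_mul, Int.cast_neg, pow_one, Int.cast_ofNat, neg_neg] at this
    show chevG2.x K 4 (-u) * chevG2.x K 5 (-t) = chevG2.x K 5 (-t) * chevG2.x K 4 (-u) *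
      (chevG2.x K 3 (- -(t * u)) * (chevG2.x K 2 (- -(t * u ^ 2)) *
        (chevG2.x K 1 (-(t * u ^ 3)) * chevG2.x K 0 (-(t ^ 2 * u ^ 3)))))
    rw [this]
    congr 2
    · ring
    congr 2
    · ring
    congr 2
    · ring
    · have : (-2 : K) * t ^ 2 * (-u) ^ 3 = (-2 : K) * (-(t ^ 2 * u ^ 3)) := by ring
      rw [this, hm2, one_mul]
  · intro t u
    have := comm_eval (K := K) (r := 5) (s := 1) (by decide) (by decide) (by decide) (by decide)
      (L := [(0, -1, 1, 1)]) (by decide) (-t) (-u)
    simp only [ChevalleyDatum.wordMat, List.map_cons, List.map_nil, List.prod_cons, List.prod_nil,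
      mul_one, Int.cast_one, Int.cast_neg, pow_one, neg_neg] at this
    show chevG2.x K 1 (-u) * chevG2.x K 5 (-t) = chevG2.x K 5 (-t) * chevG2.x K 1 (-u) *
      chevG2.x K 0 (- -(t * u))
    rw [this]
    congr 2; ring
  · intro t u
    have := comm_eval (K := K) (r := 4) (s := 3) (by decide) (by decide) (by decide) (by decide)
      (L := [(2, 2, 1, 1), (1, -3, 2, 1), (0, 3, 1, 2)]) (by decide) (-t) (-u)
    simp only [ChevalleyDatum.wordMat, List.map_cons, List.map_nil, List.prod_cons, List.prod_nil,
      mul_one, Int.cast_neg, pow_one, Int.cast_ofNat, h3, neg_zero, zero_mul, x_zero, neg_neg] at this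
    show chevG2.x K 3 (-u) * chevG2.x K 4 (-t) = chevG2.x K 4 (-t) * chevG2.x K 3 (-u) *
      chevG2.x K 2 (- -(t * u))
    rw [this]
    congr 2
    have : (2 : K) = -1 := by linear_combination h3
    rw [this]; ring
  · intro i j hi hi' hj hj' s t
    show chevG2.x K (5 - i) (-s) * chevG2.x K (5 - j) (-t) =
      chevG2.x K (5 - j) (-t) * chevG2.x K (5 - i) (-s)
    by_cases hij : i = j
    · subst hij
      rw [x_add _ (by omega), x_add _ (by omega), add_comm (-s) (-t)]
    · have key : ∀ (L : List (ℕ × ℤ × ℕ × ℕ)), chevG2.commTerms (5 - j) (5 - i) = L →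
          (∀ c ∈ L, ((c.2.1 : ℤ) : K) = 0) →
          chevG2.x K (5 - i) (-s) * chevG2.x K (5 - j) (-t) =
            chevG2.x K (5 - j) (-t) * chevG2.x K (5 - i) (-s) := by
        intro L hL hz
        have h2 : 5 - i ≠ chevG2.neg (5 - j) := by
          have : chevG2.neg (5 - j) = 6 + j := by
            interval_cases j <;> rfl
          omega
        have := comm_eval (K := K) (r := 5 - j) (s := 5 - i) (by omega) (by omega) (by omega) h2 hL
          (-t) (-s)
        rw [this, hw1 L _ _ hz, mul_one]
      interval_cases i <;> interval_cases j <;> first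
        | exact absurd rfl hij
        | exact key [] (by decide) (by simp)
        | exact key [(0, 3, 1, 1)] (by decide) (by simpa using hzc)
        | exact key [(0, -3, 1, 1)] (by decide) (by simpa using hzc')
  · intro j hj s t
    show chevG2.x K (5 - j) (-s) * chevG2.x K 5 (-t) = chevG2.x K 5 (-t) * chevG2.x K (5 - j) (-s)
    have key : ∀ (L : List (ℕ × ℤ × ℕ × ℕ)), chevG2.commTerms 5 (5 - j) = L →
        (∀ c ∈ L, ((c.2.1 : ℤ) : K) = 0) →
        5 - j < 12 → 5 - j ≠ 5 → 5 - j ≠ chevG2.neg 5 →
        chevG2.x K (5 - j) (-s) * chevG2.x K 5 (-t) = chevG2.x K 5 (-t) * chevG2.x K (5 - j) (-s) := by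
      intro L hL hz h1 h2 h3'
      have := comm_eval (K := K) (r := 5) (s := 5 - j) (by decide) h1 h2 h3' hL (-t) (-s)
      rw [this, hw1 L _ _ hz, mul_one]
    rcases hj with rfl | rfl | rfl
    · exact key [] (by decide) (by simp) (by decide) (by decide) (by decide)
    · exact key [] (by decide) (by simp) (by decide) (by decide) (by decide)
    · exact key [] (by decide) (by simp) (by decide) (by decide) (by decide)
  · intro j hj s t
    show chevG2.x K (5 - j) (-s) * chevG2.x K 4 (-t) = chevG2.x K 4 (-t) * chevG2.x K (5 - j) (-s)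
    have key : ∀ (L : List (ℕ × ℤ × ℕ × ℕ)), chevG2.commTerms 4 (5 - j) = L →
        (∀ c ∈ L, ((c.2.1 : ℤ) : K) = 0) →
        5 - j < 12 → 5 - j ≠ 4 → 5 - j ≠ chevG2.neg 4 →
        chevG2.x K (5 - j) (-s) * chevG2.x K 4 (-t) = chevG2.x K 4 (-t) * chevG2.x K (5 - j) (-s) := by
      intro L hL hz h1 h2 h3'
      have := comm_eval (K := K) (r := 4) (s := 5 - j) (by decide) h1 h2 h3' hL (-t) (-s)
      rw [this, hw1 L _ _ hz, mul_one]
    rcases hj with rfl | rfl | rfl
    · exact key [(1, -3, 1, 1)] (by decide) (by simpa using hzc') (by decide) (by decide) (by decide)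
    · exact key [] (by decide) (by simp) (by decide) (by decide) (by decide)
    · exact key [] (by decide) (by simp) (by decide) (by decide) (by decide)

end

end Cfsg.Agent.Lib.Helper8.Chev
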