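import Cfsg.Agent.Lib.Helper8.ChevRee19

set_option autoImplicit false

/-! The subgroup `H¹` of the Ree group is cyclic; the order of the Ree group. -/

namespace Cfsg.Agent.Lib.Helper8.Chev

open Cfsg.Lie Matrix

section

variable {K : Type*} [Field K] {m : ℕ} {φ ψ : K →+* K}
variable {τ : ↥(chevG2.group K) →* ↥(chevG2.group K)}

/-- the parametrisation `t ↦ h_a(t^θ) h_b(t)` of `H¹` -/
noncomputable def hhHom (K : Type*) [Field K] (m : ℕ) : Kˣ →* GL chevG2.Idx K where
  toFun t := hh (t ^ 3 ^ m) t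
  map_one' := by rw [one_pow, hh_one]
  map_mul' s t := by rw [mul_pow, hh_mul]

theorem hhHom_apply (t : Kˣ) : hhHom K m t = hh (t ^ 3 ^ m) t := rfl

theorem hhHom_injective : Function.Injective (hhHom K m) := by
  intro s t h
  exact (hh_inj h).2

variable [Fintype K]

theorem range_hhHom (hF : ReeField K m φ ψ) (hK : Fintype.card K = 3 ^ (2 * m + 1))
    (hτ : ReeAut m τ) :
    (hhHom K m).range = chevG2.diagonalSubgroup K ⊓ twistedG2 K (3 ^ m) := by
  ext g
  rw [diag_inf_twisted_iff hF hK hτ, MonoidHom.mem_range]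
  constructor
  · rintro ⟨t, rfl⟩; exact ⟨t, rfl⟩
  · rintro ⟨t, rfl⟩; exact ⟨t, rfl⟩

theorem isCyclic_diag_inf_twisted (hF : ReeField K m φ ψ)
    (hK : Fintype.card K = 3 ^ (2 * m + 1)) (hτ : ReeAut m τ) :
    IsCyclic ↥(chevG2.diagonalSubgroup K ⊓ twistedG2 K (3 ^ m)) := by
  rw [← range_hhHom hF hK hτ]
  exact isCyclic_of_surjective (hhHom K m).rangeRestrict (hhHom K m).rangeRestrict_surjective

end

end Cfsg.Agent.Lib.Helper8.Chev
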