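import Cfsg.Agent.Lib.Helper8.ChevRee20

set_option autoImplicit false

/-! The order of the Ree group. -/

namespace Cfsg.Agent.Lib.Helper8.Chev

open Cfsg.Lie Matrix

/-- counting a group with a decomposition `UH ∪ UHnU` with uniqueness -/
theorem card_of_rank_one_bruhat {G : Type*} [Group G] (T U H : Subgroup G) (n : G)
    [Finite U] [Finite H] (hU : U ≤ T) (hH : H ≤ T) (hn : n ∈ T)
    (hex : ∀ g ∈ T, (∃ u ∈ U, ∃ h ∈ H, g = u * h) ∨
      (∃ u ∈ U, ∃ h ∈ H, ∃ u' ∈ U, g = u * h * n * u'))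
    (h1 : ∀ u ∈ U, ∀ h ∈ H, ∀ u' ∈ U, ∀ h' ∈ H, u * h = u' * h' → u = u' ∧ h = h')
    (h2 : ∀ u ∈ U, ∀ h ∈ H, ∀ v ∈ U, ∀ u' ∈ U, ∀ h' ∈ H, ∀ v' ∈ U,
      u * h * n * v = u' * h' * n * v' → u = u' ∧ h = h' ∧ v = v')
    (h3 : ∀ u ∈ U, ∀ h ∈ H, ∀ u' ∈ U, ∀ h' ∈ H, ∀ v' ∈ U, u * h ≠ u' * h' * n * v') :
    Nat.card T = Nat.card U * Nat.card H + Nat.card U * Nat.card H * Nat.card U := by
  let f : (U × H) ⊕ (U × H × U) → T := fun x =>
    match x with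
    | Sum.inl p => ⟨p.1.1 * p.2.1, mul_mem (hU p.1.2) (hH p.2.2)⟩
    | Sum.inr p => ⟨p.1.1 * p.2.1.1 * n * p.2.2.1,
        mul_mem (mul_mem (mul_mem (hU p.1.2) (hH p.2.1.2)) hn) (hU p.2.2.2)⟩
  have hbij : Function.Bijective f := by
    constructor
    · rintro (⟨⟨u, hu⟩, ⟨h, hh⟩⟩ | ⟨⟨u, hu⟩, ⟨h, hh⟩, ⟨v, hv⟩⟩)
        (⟨⟨u', hu'⟩, ⟨h', hh'⟩⟩ | ⟨⟨u', hu'⟩, ⟨h', hh'⟩, ⟨v', hv'⟩⟩) e
      · have e' : u * h = u' * h' := congrArg Subtype.val e
        obtain ⟨rfl, rfl⟩ := h1 u hu h hh u' hu' h' hh' e'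
        rfl
      · have e' : u * h = u' * h' * n * v' := congrArg Subtype.val e
        exact absurd e' (h3 u hu h hh u' hu' h' hh' v' hv')
      · have e' : u * h * n * v = u' * h' := congrArg Subtype.val e
        exact absurd e'.symm (h3 u' hu' h' hh' u hu h hh v hv)
      · have e' : u * h * n * v = u' * h' * n * v' := congrArg Subtype.val e
        obtain ⟨rfl, rfl, rfl⟩ := h2 u hu h hh v hv u' hu' h' hh' v' hv' e'
        rfl
    · rintro ⟨g, hg⟩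
      rcases hex g hg with ⟨u, hu, h, hh, rfl⟩ | ⟨u, hu, h, hh, v, hv, rfl⟩
      · exact ⟨Sum.inl (⟨u, hu⟩, ⟨h, hh⟩), rfl⟩
      · exact ⟨Sum.inr (⟨u, hu⟩, ⟨h, hh⟩, ⟨v, hv⟩), rfl⟩
  rw [← Nat.card_congr (Equiv.ofBijective f hbij), Nat.card_sum, Nat.card_prod, Nat.card_prod,
    Nat.card_prod, mul_assoc]

section

variable {K : Type*} [Field K] {m : ℕ} {φ ψ : K →+* K}
variable {τ : ↥(chevG2.group K) →* ↥(chevG2.group K)}

theorem ree_unique1 {u h u' h' : GL chevG2.Idx K} (hu : u ∈ chevG2.posUnipotent K)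
    (hh : h ∈ chevG2.diagonalSubgroup K) (hu' : u' ∈ chevG2.posUnipotent K)
    (hh' : h' ∈ chevG2.diagonalSubgroup K) (e : u * h = u' * h') : u = u' ∧ h = h' := by
  have V1 := valid1_of_mem hDG2
  have VJ := validJ_of_mem hDG2
  have H := validH_of_mem hDG2
  have P := posP_of_mem hDG2
  have Tr := triP_of_mem hDG2
  have hx : u'⁻¹ * u ∈ chevG2.posUnipotent K ⊓ chevG2.diagonalSubgroup K := by
    refine Subgroup.mem_inf.mpr ⟨mul_mem (inv_mem hu') hu, ?_⟩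
    have : u'⁻¹ * u = h' * h⁻¹ := by
      calc u'⁻¹ * u = u'⁻¹ * (u * h) * h⁻¹ := by group
        _ = u'⁻¹ * (u' * h') * h⁻¹ := by rw [e]
        _ = _ := by group
    rw [this]
    exact mul_mem hh' (inv_mem hh)
  rw [pos_inf_diagonal VJ V1 H Tr P, Subgroup.mem_bot, inv_mul_eq_one] at hx
  subst hx
  exact ⟨rfl, mul_left_cancel e⟩

theorem ree_unique2 (hF : ReeField K m φ ψ) (hτ : ReeAut m τ) {u h v u' h' v' : GL chevG2.Idx K}
    (hu : u ∈ chevG2.posUnipotent K) (hh : h ∈ chevG2.diagonalSubgroup K)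
    (hv : v ∈ chevG2.posUnipotent K) (hu' : u' ∈ chevG2.posUnipotent K)
    (hh' : h' ∈ chevG2.diagonalSubgroup K) (hv' : v' ∈ chevG2.posUnipotent K)
    (e : u * h * reeN0 K * v = u' * h' * reeN0 K * v') : u = u' ∧ h = h' ∧ v = v' := by
  have P := posP_of_mem hDG2
  obtain ⟨h₀, hh₀, l, hl, en, hw⟩ := reeN0_form hF hτ
  have hlr : ∀ i ∈ l, i < chevG2.rank := hl
  have hUW : UnegW chevG2 K l = chevG2.posUnipotent K := by
    apply unegW_eq_pos K P
    intro r hr1 hr2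
    rw [hw r hr2]
    have hr12 : r < 12 := hr2
    have hr6 : 6 ≤ r := hr1
    show chevG2.neg r < 6
    interval_cases r <;> decide
  have e' : u * h * h₀ * nP chevG2 K l * v = u' * h' * h₀ * nP chevG2 K l * v' := by
    rw [en] at e
    calc u * h * h₀ * nP chevG2 K l * v = u * h * (h₀ * nP chevG2 K l) * v := by group
      _ = u' * h' * (h₀ * nP chevG2 K l) * v' := e
      _ = _ := by group
  have hb : u * h * h₀ ∈ chevG2.borelSubgroup K :=
    mul_mem (mul_mem (pos_le_borel hu) (diagonal_le_borel hh)) (diagonal_le_borel hh₀)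
  have hb' : u' * h' * h₀ ∈ chevG2.borelSubgroup K :=
    mul_mem (mul_mem (pos_le_borel hu') (diagonal_le_borel hh')) (diagonal_le_borel hh₀)
  obtain ⟨-, himp⟩ := bruhat_unique_chev hDG2 hb hb'
    (nP_mem_monomial hDG2 hlr) (nP_mem_monomial hDG2 hlr)
    (unegW_le_unegS hDG2 hlr (by rw [hUW]; exact hv))
    (unegW_le_unegS hDG2 hlr (by rw [hUW]; exact hv')) e'
  obtain ⟨hbe, hve⟩ := himp rfl
  obtain ⟨h1, h2⟩ := ree_unique1 hu hh hu' hh' (mul_right_cancel hbe)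
  exact ⟨h1, h2, hve⟩

theorem ree_unique3 (hF : ReeField K m φ ψ) {u h u' h' v' : GL chevG2.Idx K}
    (hu : u ∈ chevG2.posUnipotent K) (hh : h ∈ chevG2.diagonalSubgroup K)
    (hu' : u' ∈ chevG2.posUnipotent K)
    (hh' : h' ∈ chevG2.diagonalSubgroup K) (hv' : v' ∈ chevG2.posUnipotent K) :
    u * h ≠ u' * h' * reeN0 K * v' := by
  intro e
  apply reeN0_not_mem_borel hF
  have : reeN0 K = (u' * h')⁻¹ * (u * h) * v'⁻¹ := by rw [e]; group
  rw [this]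
  exact mul_mem (mul_mem (inv_mem (mul_mem (pos_le_borel hu') (diagonal_le_borel hh')))
    (mul_mem (pos_le_borel hu) (diagonal_le_borel hh))) (inv_mem (pos_le_borel hv'))

variable [Fintype K]

/-- the order of the Ree group -/
theorem card_twistedG2 (hF : ReeField K m φ ψ) (hK : Fintype.card K = 3 ^ (2 * m + 1))
    (hτ : ReeAut m τ) :
    Nat.card ↥(twistedG2 K (3 ^ m)) =
      (3 ^ (2 * m + 1)) ^ 3 * (3 ^ (2 * m + 1) - 1) * ((3 ^ (2 * m + 1)) ^ 3 + 1) := by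
  classical
  have hfix := fixT_eq_twisted hF hK hτ
  have key := card_of_rank_one_bruhat (twistedG2 K (3 ^ m))
    (chevG2.posUnipotent K ⊓ twistedG2 K (3 ^ m))
    (chevG2.diagonalSubgroup K ⊓ twistedG2 K (3 ^ m)) (reeN0 K) inf_le_right inf_le_right
    (reeN0_mem_twisted hF)
    (by
      intro g hg
      rw [← hfix] at hg
      have := ree_bruhat hF hτ hg
      rw [hfix] at this
      exact this)
    (fun u hu h hh u' hu' h' hh' e => ree_unique1 hu.1 hh.1 hu'.1 hh'.1 e)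
    (fun u hu h hh v hv u' hu' h' hh' v' hv' e =>
      ree_unique2 hF hτ hu.1 hh.1 hv.1 hu'.1 hh'.1 hv'.1 e)
    (fun u hu h hh u' hu' h' hh' v' hv' => ree_unique3 hF hu.1 hh.1 hu'.1 hh'.1 hv'.1)
  rw [key, card_pos_inf_twisted hF hτ, card_diag_inf_twisted hF hK hτ, hK]
  ring

end

end Cfsg.Agent.Lib.Helper8.Chev
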