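import Cfsg.Agent.Lib.Helper8.ChevRee21
import Cfsg.Prelude.Def_LieExceptional

set_option autoImplicit false

/-! A `(B, N)`-pair of rank one from a decomposition `G = B ∪ B n B`. -/

namespace Cfsg.Agent.Lib.Helper8.Chev

open Cfsg.Lie Matrix

/-- a `(B, N)`-pair of rank one -/
def rankOneBN {G : Type*} [Group G] (B N : Subgroup G) (n : G)
    (hn : n ∈ N) (hex : ∀ g : G, g ∈ B ∨ ∃ b ∈ B, ∃ b' ∈ B, g = b * n * b')
    (hconj : ∀ x ∈ N, ∀ t ∈ B ⊓ N, x * t * x⁻¹ ∈ B)
    (hsq : n * n ∈ B)
    (hN : ∀ x ∈ N, x ∈ B ∨ n⁻¹ * x ∈ B)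
    (hne : ∃ b ∈ B, n * b * n ∉ B) : Cfsg.BNPair G where
  B := B
  N := N
  S := {n}
  sup_eq_top := by
    rw [eq_top_iff]
    intro g _
    rcases hex g with h | ⟨b, hb, b', hb', rfl⟩
    · exact Subgroup.mem_sup_left h
    · exact mul_mem (mul_mem (Subgroup.mem_sup_left hb) (Subgroup.mem_sup_right hn))
        (Subgroup.mem_sup_left hb')
  conj_mem := hconj
  subset := by
    intro s hs
    rw [Set.mem_singleton_iff] at hs
    rw [hs]; exact hn
  sq_mem := by
    intro s hs
    rw [Set.mem_singleton_iff] at hs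
    rw [hs]; exact hsq
  inj := by
    intro s hs s' hs' _
    rw [Set.mem_singleton_iff] at hs hs'
    rw [hs, hs']
  closure_sup := by
    apply le_antisymm
    · apply sup_le
      · rw [Subgroup.closure_le]
        intro s hs
        rw [Set.mem_singleton_iff] at hs
        rw [hs]; exact hn
      · exact inf_le_right
    · intro x hx
      rcases hN x hx with h | h
      · exact Subgroup.mem_sup_right (Subgroup.mem_inf.mpr ⟨h, hx⟩)
      · have : x = n * (n⁻¹ * x) := by group
        rw [this]
        exact mul_mem (Subgroup.mem_sup_left (Subgroup.subset_closure rfl))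
          (Subgroup.mem_sup_right (Subgroup.mem_inf.mpr ⟨h, mul_mem (inv_mem hn) hx⟩))
  mul_mem_union := by
    intro s hs x hx b hb
    rw [Set.mem_singleton_iff] at hs
    subst hs
    rcases hN x hx with h | h
    · left
      rw [DoubleCoset.mem_doubleCoset]
      refine ⟨1, one_mem _, x⁻¹ * b * x, mul_mem (mul_mem (inv_mem h) hb) h, ?_⟩
      group
    · rcases hex (s * b * s) with h' | ⟨b₁, hb₁, b₂, hb₂, e⟩
      · left
        rw [DoubleCoset.mem_doubleCoset]
        have hsx : s * x ∈ B := by
          have : s * x = s * s * (s⁻¹ * x) := by group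
          rw [this]; exact mul_mem hsq h
        refine ⟨s * b * x * (s * x)⁻¹, ?_, 1, one_mem _, by group⟩
        have : s * b * x = s * b * s * (s⁻¹ * x) := by group
        rw [this]
        exact mul_mem (mul_mem h' h) (inv_mem hsx)
      · right
        rw [DoubleCoset.mem_doubleCoset]
        refine ⟨b₁, hb₁, (s⁻¹ * x)⁻¹ * b₂ * (s⁻¹ * x), mul_mem (mul_mem (inv_mem h) hb₂) h, ?_⟩
        have : s * b * x = s * b * s * (s⁻¹ * x) := by group
        rw [this, e]
        group
  conj_ne := by
    intro s hs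
    rw [Set.mem_singleton_iff] at hs
    subst hs
    obtain ⟨b, hb, hnb⟩ := hne
    intro h
    apply hnb
    have : s * b * s ∈ (fun b : G => s * b * s) '' (B : Set G) := ⟨b, hb, rfl⟩
    rw [h] at this
    exact this

end Cfsg.Agent.Lib.Helper8.Chev
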