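import Cfsg.Agent.Lib.Helper8.ChevRee22

set_option autoImplicit false

/-! The `(B, N)`-pair of the Ree group. -/

namespace Cfsg.Agent.Lib.Helper8.Chev

open Cfsg.Lie Matrix

section

variable {K : Type*} [Field K] {m : ℕ} {φ ψ : K →+* K}
variable {τ : ↥(chevG2.group K) →* ↥(chevG2.group K)}

theorem conj_mem_diagonal {x h : GL chevG2.Idx K} (hx : x ∈ chevG2.monomialSubgroup K)
    (hh : h ∈ chevG2.diagonalSubgroup K) : x * h * x⁻¹ ∈ chevG2.diagonalSubgroup K :=
  (Subgroup.mem_normalizer_iff.mp (monomial_le_normalizer hDG2 hx) _).mp hh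

theorem conj_mem_diagonal' {x h : GL chevG2.Idx K} (hx : x ∈ chevG2.monomialSubgroup K)
    (hh : h ∈ chevG2.diagonalSubgroup K) : x⁻¹ * h * x ∈ chevG2.diagonalSubgroup K := by
  have := conj_mem_diagonal (inv_mem hx) hh
  rwa [inv_inv] at this

/-- `n₀² ∈ H` -/
theorem reeN0_sq_mem (hF : ReeField K m φ ψ) (hτ : ReeAut m τ) :
    reeN0 K * reeN0 K ∈ chevG2.diagonalSubgroup K := by
  have J := validJ_of_mem hDG2
  have H := validH_of_mem hDG2
  obtain ⟨h₀, hh₀, l, hl, en, hw⟩ := reeN0_form hF hτ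
  have hlr : ∀ i ∈ l, i < chevG2.rank := hl
  have hnl := nP_mem_monomial (F := K) hDG2 hlr
  have h2 : nP chevG2 K l * nP chevG2 K l ∈ chevG2.diagonalSubgroup K := by
    have := nP_mul_inv_mem_diagonal (F := K) hDG2 (l := l ++ l) (l' := [])
      (by intro i hi; rw [List.mem_append] at hi; rcases hi with hi | hi <;> exact hlr i hi)
      (by simp) (fun r hr => by
        rw [reflWord_append, hw r hr, hw _ (J.V.neg_lt hr)]
        show chevG2.neg (chevG2.neg r) = r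
        have hr12 : r < 12 := hr
        interval_cases r <;> decide)
    rwa [nP_nil, inv_one, mul_one, nP_append] at this
  have e : reeN0 K * reeN0 K = h₀ * (nP chevG2 K l * h₀ * (nP chevG2 K l)⁻¹) *
      (nP chevG2 K l * nP chevG2 K l) := by
    rw [en]; group
  rw [e]
  exact mul_mem (mul_mem hh₀ (conj_mem_diagonal hnl hh₀)) h2

/-- a fixed element of `N` lies in `H` or in `n₀ H` -/
theorem ree_mono_cases (hF : ReeField K m φ ψ) (hτ : ReeAut m τ) {x : GL chevG2.Idx K}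
    (hx : x ∈ chevG2.monomialSubgroup K) (hxf : x ∈ fixT τ) :
    x ∈ chevG2.diagonalSubgroup K ∨ (reeN0 K)⁻¹ * x ∈ chevG2.diagonalSubgroup K := by
  obtain ⟨hG, hfix⟩ := mem_fixT'.mp hxf
  obtain ⟨h', hh', l1, hl1, e, h | h⟩ := ree_mono_fix hτ hx hG hfix
  · left
    rw [e]
    apply mul_mem hh'
    have := nP_mul_inv_mem_diagonal (F := K) hDG2 (l := l1) (l' := []) hl1 (by simp)
      (fun r hr => by rw [h r hr]; rfl)
    rwa [nP_nil, inv_one, mul_one] at this
  · right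
    obtain ⟨h₀, hh₀, l, hl, en, hw⟩ := reeN0_form hF hτ
    have hlr : ∀ i ∈ l, i < chevG2.rank := hl
    have h1 := nP_mul_inv_mem_diagonal (F := K) hDG2 (l := l1) (l' := l) hl1 hlr
      (fun r hr => by rw [h r hr, hw r hr])
    have h2 : x * (reeN0 K)⁻¹ ∈ chevG2.diagonalSubgroup K := by
      have : x * (reeN0 K)⁻¹ = h' * (nP chevG2 K l1 * (nP chevG2 K l)⁻¹) * h₀⁻¹ := by
        rw [e, en]; group
      rw [this]
      exact mul_mem (mul_mem hh' h1) (inv_mem hh₀)
    have h3 := conj_mem_diagonal' (reeN0_mem_monomial (K := K)) h2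
    have : (reeN0 K)⁻¹ * x = (reeN0 K)⁻¹ * (x * (reeN0 K)⁻¹) * reeN0 K := by group
    rw [this]
    exact h3

/-- `n₀ U n₀⁻¹ ≤ V` -/
theorem reeN0_conj_pos (hF : ReeField K m φ ψ) (hτ : ReeAut m τ) {u : GL chevG2.Idx K}
    (hu : u ∈ chevG2.posUnipotent K) : reeN0 K * u * (reeN0 K)⁻¹ ∈ chevG2.negUnipotent K := by
  have P := posP_of_mem hDG2
  have V1 := valid1_of_mem hDG2
  have J := validJ_of_mem hDG2
  have H := validH_of_mem hDG2
  obtain ⟨h₀, hh₀, l, hl, en, hw⟩ := reeN0_form hF hτ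
  have hlr : ∀ i ∈ l, i < chevG2.rank := hl
  have hUW : UnegW chevG2 K l = chevG2.posUnipotent K := by
    apply unegW_eq_pos K P
    intro r hr1 hr2
    rw [hw r hr2]
    have hr12 : r < 12 := hr2
    have hr6 : 6 ≤ r := hr1
    show chevG2.neg r < 6
    interval_cases r <;> decide
  have hV : nP chevG2 K l * u * (nP chevG2 K l)⁻¹ ∈ chevG2.negUnipotent K :=
    conj_unegS_le_neg _ ⟨u, unegW_le_unegS hDG2 hlr (by rw [hUW]; exact hu), rfl⟩
  have e : reeN0 K * u * (reeN0 K)⁻¹ =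
      h₀ * (nP chevG2 K l * u * (nP chevG2 K l)⁻¹) * h₀⁻¹ := by
    rw [en]; group
  rw [e]
  exact (Subgroup.mem_normalizer_iff.mp (diagonal_le_normalizer_neg J V1 H hh₀) _).mp hV

/-- `n₀ B n₀ ≠ B` -/
theorem reeN0_conj_ne (hF : ReeField K m φ ψ) (hτ : ReeAut m τ) :
    ∃ b ∈ chevG2.posUnipotent K ⊓ twistedG2 K (3 ^ m),
      reeN0 K * b * reeN0 K ∉ chevG2.borelSubgroup K := by
  have V := valid0_of_mem hDG2
  have V1 := valid1_of_mem hDG2
  have J := validJ_of_mem hDG2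
  have H := validH_of_mem hDG2
  have P := posP_of_mem hDG2
  have Tr := triP_of_mem hDG2
  have C := copP_of_mem hDG2
  obtain ⟨gU, hgU, hmU⟩ := exists_reeU (K := K) (m := m) 0 1 0
  refine ⟨gU, hgU, ?_⟩
  intro hB
  have hne : gU ≠ 1 := by
    intro h1
    rw [h1, Units.val_one, wordMat_reeU_mid hF, one_pow, x_eq_xN, x_eq_xN] at hmU
    have e : xN chevG2 K 8 1 = xN chevG2 K 10 (-1) := by
      calc xN chevG2 K 8 1 = xN chevG2 K 8 1 * (xN chevG2 K 10 1 * xN chevG2 K 10 (-1)) := by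
            rw [xN_mul_xN (R := K) V V1 (by decide), add_neg_cancel, xN_zero V, Matrix.mul_one]
        _ = xN chevG2 K 10 (-1) := by rw [← Matrix.mul_assoc, ← hmU, Matrix.one_mul]
    have := xN_inj_root V C (F := K) (a := 8) (b := 10) (by decide) (by decide) one_ne_zero e
    exact absurd this (by decide)
  apply hne
  have hV := reeN0_conj_pos hF hτ hgU.1
  have hsq := reeN0_sq_mem hF hτ
  have hVB : reeN0 K * gU * (reeN0 K)⁻¹ ∈ chevG2.borelSubgroup K := by
    have : reeN0 K * gU * (reeN0 K)⁻¹ = reeN0 K * gU * reeN0 K * (reeN0 K * reeN0 K)⁻¹ := by group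
    rw [this]
    exact mul_mem hB (inv_mem (diagonal_le_borel hsq))
  have : reeN0 K * gU * (reeN0 K)⁻¹ ∈ chevG2.borelSubgroup K ⊓ chevG2.negUnipotent K :=
    ⟨hVB, hV⟩
  rw [borel_inf_neg J V1 H Tr P, Subgroup.mem_bot] at this
  have e : gU = (reeN0 K)⁻¹ * (reeN0 K * gU * (reeN0 K)⁻¹) * reeN0 K := by group
  rw [e, this]
  group

end

end Cfsg.Agent.Lib.Helper8.Chev
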