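import Cfsg.Agent.Lib.Helper8.ChevRee23

set_option autoImplicit false

/-! The `(B, N)`-pair of the Ree group. -/

namespace Cfsg.Agent.Lib.Helper8.Chev

open Cfsg.Lie Matrix

section

variable {K : Type*} [Field K] [Fintype K] {m : ℕ} {φ ψ : K →+* K}
variable {τ : ↥(chevG2.group K) →* ↥(chevG2.group K)}

/-- the subgroup `B¹` of the Ree group -/
def reeB (K : Type*) [Field K] (m : ℕ) : Subgroup ↥(twistedG2 K (3 ^ m)) :=
  (chevG2.borelSubgroup K ⊓ twistedG2 K (3 ^ m)).subgroupOf (twistedG2 K (3 ^ m))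

/-- the subgroup `N¹` of the Ree group -/
def reeN (K : Type*) [Field K] (m : ℕ) : Subgroup ↥(twistedG2 K (3 ^ m)) :=
  (chevG2.monomialSubgroup K ⊓ twistedG2 K (3 ^ m)).subgroupOf (twistedG2 K (3 ^ m))

omit [Fintype K] in
theorem mem_reeB {g : ↥(twistedG2 K (3 ^ m))} :
    g ∈ reeB K m ↔ (g : GL chevG2.Idx K) ∈ chevG2.borelSubgroup K := by
  unfold reeB
  rw [Subgroup.mem_subgroupOf, Subgroup.mem_inf]
  exact ⟨fun h => h.1, fun h => ⟨h, g.2⟩⟩

omit [Fintype K] in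
theorem mem_reeN {g : ↥(twistedG2 K (3 ^ m))} :
    g ∈ reeN K m ↔ (g : GL chevG2.Idx K) ∈ chevG2.monomialSubgroup K := by
  unfold reeN
  rw [Subgroup.mem_subgroupOf, Subgroup.mem_inf]
  exact ⟨fun h => h.1, fun h => ⟨h, g.2⟩⟩

/-- the Bruhat decomposition of the Ree group -/
theorem ree_decomp (hF : ReeField K m φ ψ) (hK : Fintype.card K = 3 ^ (2 * m + 1))
    (hτ : ReeAut m τ) (g : ↥(twistedG2 K (3 ^ m))) :
    g ∈ reeB K m ∨ ∃ b ∈ reeB K m, ∃ b' ∈ reeB K m,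
      g = b * ⟨reeN0 K, reeN0_mem_twisted hF⟩ * b' := by
  have hfix := fixT_eq_twisted hF hK hτ
  have hg : (g : GL chevG2.Idx K) ∈ fixT τ := by rw [hfix]; exact g.2
  rcases ree_bruhat hF hτ hg with ⟨u₁, hu₁, h₁, hh₁, e⟩ | ⟨u₁, hu₁, h₁, hh₁, u, hu, e⟩
  · left
    rw [mem_reeB, e]
    exact mul_mem (pos_le_borel hu₁.1) (diagonal_le_borel hh₁.1)
  · right
    rw [hfix] at hu₁ hh₁ hu
    refine ⟨⟨u₁ * h₁, mul_mem hu₁.2 hh₁.2⟩, ?_, ⟨u, hu.2⟩, ?_, Subtype.ext e⟩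
    · rw [mem_reeB]
      exact mul_mem (pos_le_borel hu₁.1) (diagonal_le_borel hh₁.1)
    · rw [mem_reeB]
      exact pos_le_borel hu.1

/-- the `(B, N)`-pair of the Ree group -/
noncomputable def reeBN (hF : ReeField K m φ ψ) (hK : Fintype.card K = 3 ^ (2 * m + 1))
    (hτ : ReeAut m τ) : Cfsg.BNPair ↥(twistedG2 K (3 ^ m)) :=
  rankOneBN (reeB K m) (reeN K m) ⟨reeN0 K, reeN0_mem_twisted hF⟩
    (mem_reeN.mpr reeN0_mem_monomial)
    (ree_decomp hF hK hτ)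
    (by
      intro x hx t ht
      rw [mem_reeB]
      have ht1 := mem_reeB.mp ht.1
      have ht2 := mem_reeN.mp ht.2
      have htH : (t : GL chevG2.Idx K) ∈ chevG2.diagonalSubgroup K := by
        rw [← borel_inf_monomial hDG2]; exact ⟨ht1, ht2⟩
      exact diagonal_le_borel (conj_mem_diagonal (mem_reeN.mp hx) htH))
    (mem_reeB.mpr (diagonal_le_borel (reeN0_sq_mem hF hτ)))
    (by
      intro x hx
      have hxf : (x : GL chevG2.Idx K) ∈ fixT τ := by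
        rw [fixT_eq_twisted hF hK hτ]; exact x.2
      rcases ree_mono_cases hF hτ (mem_reeN.mp hx) hxf with h | h
      · left; exact mem_reeB.mpr (diagonal_le_borel h)
      · right; exact mem_reeB.mpr (diagonal_le_borel h))
    (by
      obtain ⟨b, hb, hnb⟩ := reeN0_conj_ne hF hτ
      refine ⟨⟨b, hb.2⟩, mem_reeB.mpr (pos_le_borel hb.1), ?_⟩
      rw [mem_reeB]
      exact hnb)

theorem reeBN_B (hF : ReeField K m φ ψ) (hK : Fintype.card K = 3 ^ (2 * m + 1))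
    (hτ : ReeAut m τ) : (reeBN hF hK hτ).B = reeB K m := rfl

theorem reeBN_N (hF : ReeField K m φ ψ) (hK : Fintype.card K = 3 ^ (2 * m + 1))
    (hτ : ReeAut m τ) : (reeBN hF hK hτ).N = reeN K m := rfl

theorem reeBN_S (hF : ReeField K m φ ψ) (hK : Fintype.card K = 3 ^ (2 * m + 1))
    (hτ : ReeAut m τ) : (reeBN hF hK hτ).S = {⟨reeN0 K, reeN0_mem_twisted hF⟩} := rfl

end

end Cfsg.Agent.Lib.Helper8.Chev
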