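import Cfsg.Agent.Lib.Helper8.ChevRee24

set_option autoImplicit false

/-! `N¹ / H¹` has order two. -/

namespace Cfsg.Agent.Lib.Helper8.Chev

open Cfsg.Lie Matrix

/-- a homomorphism onto `ℤ/2` with a given kernel of index two -/
theorem exists_hom_zmod2 {G : Type*} [Group G] (H : Subgroup G) (n : G) (hn : n ∉ H)
    (hcases : ∀ x, x ∈ H ∨ n⁻¹ * x ∈ H) (hsq : n * n ∈ H)
    (hnorm : ∀ h ∈ H, n⁻¹ * h * n ∈ H) :
    ∃ φ : G →* Multiplicative (ZMod 2), Function.Surjective φ ∧ φ.ker = H := by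
  classical
  have hone : (Multiplicative.ofAdd (1 : ZMod 2)) ≠ 1 := by decide
  have hsq1 : (Multiplicative.ofAdd (1 : ZMod 2)) * Multiplicative.ofAdd (1 : ZMod 2) = 1 := by
    decide
  let f : G → Multiplicative (ZMod 2) := fun x => if x ∈ H then 1 else Multiplicative.ofAdd 1
  have hf1 : ∀ x, x ∈ H → f x = 1 := fun x hx => if_pos hx
  have hf2 : ∀ x, x ∉ H → f x = Multiplicative.ofAdd 1 := fun x hx => if_neg hx
  have hmul : ∀ a b, f (a * b) = f a * f b := by
    intro a b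
    by_cases ha : a ∈ H <;> by_cases hb : b ∈ H
    · rw [hf1 _ ha, hf1 _ hb, hf1 _ (mul_mem ha hb), one_mul]
    · have : a * b ∉ H := fun h => hb (by
        have e : b = a⁻¹ * (a * b) := by group
        rw [e]; exact mul_mem (inv_mem ha) h)
      rw [hf1 _ ha, hf2 _ hb, hf2 _ this, one_mul]
    · have : a * b ∉ H := fun h => ha (by
        have e : a = (a * b) * b⁻¹ := by group
        rw [e]; exact mul_mem h (inv_mem hb))
      rw [hf2 _ ha, hf1 _ hb, hf2 _ this, mul_one]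
    · have ha' := (hcases a).resolve_left ha
      have hb' := (hcases b).resolve_left hb
      have : a * b ∈ H := by
        have e : a * b = n * n * (n⁻¹ * (n⁻¹ * a) * n) * (n⁻¹ * b) := by group
        rw [e]
        exact mul_mem (mul_mem hsq (hnorm _ ha')) hb'
      rw [hf2 _ ha, hf2 _ hb, hf1 _ this, hsq1]
  refine ⟨MonoidHom.mk' f hmul, ?_, ?_⟩
  · intro y
    have hy : y = 1 ∨ y = Multiplicative.ofAdd 1 := by
      revert y; decide
    rcases hy with rfl | rfl
    · exact ⟨1, hf1 1 (one_mem _)⟩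
    · exact ⟨n, hf2 n hn⟩
  · ext x
    rw [MonoidHom.mem_ker]
    show f x = 1 ↔ x ∈ H
    constructor
    · intro h
      by_contra hx
      rw [hf2 _ hx] at h
      exact hone h
    · exact hf1 x

section

variable {K : Type*} [Field K] [Fintype K] {m : ℕ} {φ ψ : K →+* K}
variable {τ : ↥(chevG2.group K) →* ↥(chevG2.group K)}

/-- `N¹ / H¹ ≅ ℤ/2` -/
theorem ree_weyl (hF : ReeField K m φ ψ) (hK : Fintype.card K = 3 ^ (2 * m + 1))
    (hτ : ReeAut m τ) :
    ∃ f : ↥(chevG2.monomialSubgroup K ⊓ twistedG2 K (3 ^ m)) →* Multiplicative (ZMod 2),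
      Function.Surjective f ∧
      f.ker = (chevG2.diagonalSubgroup K ⊓ twistedG2 K (3 ^ m)).subgroupOf
        (chevG2.monomialSubgroup K ⊓ twistedG2 K (3 ^ m)) := by
  have hn0 : reeN0 K ∈ chevG2.monomialSubgroup K ⊓ twistedG2 K (3 ^ m) :=
    ⟨reeN0_mem_monomial, reeN0_mem_twisted hF⟩
  have hmem : ∀ x : ↥(chevG2.monomialSubgroup K ⊓ twistedG2 K (3 ^ m)),
      x ∈ (chevG2.diagonalSubgroup K ⊓ twistedG2 K (3 ^ m)).subgroupOf
        (chevG2.monomialSubgroup K ⊓ twistedG2 K (3 ^ m)) ↔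
      (x : GL chevG2.Idx K) ∈ chevG2.diagonalSubgroup K := by
    intro x
    rw [Subgroup.mem_subgroupOf, Subgroup.mem_inf]
    exact ⟨fun h => h.1, fun h => ⟨h, x.2.2⟩⟩
  apply exists_hom_zmod2 _ (⟨reeN0 K, hn0⟩ : ↥(chevG2.monomialSubgroup K ⊓ twistedG2 K (3 ^ m)))
  · rw [hmem]
    exact fun h => reeN0_not_mem_borel hF (diagonal_le_borel h)
  · intro x
    have hxf : (x : GL chevG2.Idx K) ∈ fixT τ := by
      rw [fixT_eq_twisted hF hK hτ]; exact x.2.2
    rcases ree_mono_cases hF hτ x.2.1 hxf with h | h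
    · left; exact (hmem x).mpr h
    · right; exact (hmem _).mpr h
  · exact (hmem _).mpr (reeN0_sq_mem hF hτ)
  · intro h hh
    exact (hmem _).mpr (conj_mem_diagonal' reeN0_mem_monomial ((hmem h).mp hh))

end

end Cfsg.Agent.Lib.Helper8.Chev
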