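import Cfsg.Agent.Lib.Helper8.ChevRee25
import Cfsg.Agent.Lib.Helper8.ChevTw34

set_option autoImplicit false

/-! Multiplication in `U` and the action of `H` in canonical coordinates. -/

namespace Cfsg.Agent.Lib.Helper8.Chev

open Cfsg.Lie Matrix

namespace G2Rel

variable {M : Type*} [Monoid M] {K : Type*} [Field K] {y : ℕ → K → M}

theorem A4_mul_y0 (R : G2Rel y) (a b p q t : K) :
    A4 y a b p q * y 0 t = y 0 t * A4 y a b p (q - t * p) := by
  unfold A4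
  have h2 := R.comm0 2 (Or.inl rfl) a t
  have h3 := R.comm0 3 (Or.inr (Or.inl rfl)) b t
  have h5 := R.comm0 5 (Or.inr (Or.inr rfl)) q t
  have h4 := R.c2 t p
  calc y 2 a * (y 3 b * (y 4 p * y 5 q)) * y 0 t
      = y 2 a * (y 3 b * (y 4 p * (y 5 q * y 0 t))) := by simp only [mul_assoc]
    _ = y 2 a * (y 3 b * (y 4 p * (y 0 t * y 5 q))) := by rw [h5]
    _ = y 2 a * (y 3 b * ((y 4 p * y 0 t) * y 5 q)) := by simp only [mul_assoc]
    _ = y 2 a * (y 3 b * ((y 0 t * y 4 p * y 5 (-(t * p))) * y 5 q)) := by rw [h4]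
    _ = y 2 a * ((y 3 b * y 0 t) * (y 4 p * (y 5 (-(t * p)) * y 5 q))) := by
        simp only [mul_assoc]
    _ = y 2 a * ((y 0 t * y 3 b) * (y 4 p * (y 5 (-(t * p)) * y 5 q))) := by rw [h3]
    _ = (y 2 a * y 0 t) * (y 3 b * (y 4 p * (y 5 (-(t * p)) * y 5 q))) := by
        simp only [mul_assoc]
    _ = (y 0 t * y 2 a) * (y 3 b * (y 4 p * (y 5 (-(t * p)) * y 5 q))) := by rw [h2]
    _ = y 0 t * (y 2 a * (y 3 b * (y 4 p * y 5 (q - t * p)))) := by
        rw [R.add]; simp only [mul_assoc]; congr 5; ring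

theorem A4_mul_y1 (R : G2Rel y) (a b p q s : K) :
    A4 y a b p q * y 1 s = y 1 s * A4 y a (b - s * a) p q := by
  unfold A4
  have h3 := R.comm1 3 (Or.inl rfl) b s
  have h4 := R.comm1 4 (Or.inr (Or.inl rfl)) p s
  have h5 := R.comm1 5 (Or.inr (Or.inr rfl)) q s
  have h2 := R.c3 s a
  have c34 := R.comm 3 4 (by norm_num) (by norm_num) (by norm_num) (by norm_num)
  have c35 := R.comm 3 5 (by norm_num) (by norm_num) (by norm_num) (by norm_num)
  calc y 2 a * (y 3 b * (y 4 p * y 5 q)) * y 1 s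
      = y 2 a * (y 3 b * (y 4 p * (y 5 q * y 1 s))) := by simp only [mul_assoc]
    _ = y 2 a * (y 3 b * (y 4 p * (y 1 s * y 5 q))) := by rw [h5]
    _ = y 2 a * (y 3 b * ((y 4 p * y 1 s) * y 5 q)) := by simp only [mul_assoc]
    _ = y 2 a * (y 3 b * ((y 1 s * y 4 p) * y 5 q)) := by rw [h4]
    _ = y 2 a * ((y 3 b * y 1 s) * (y 4 p * y 5 q)) := by simp only [mul_assoc]
    _ = y 2 a * ((y 1 s * y 3 b) * (y 4 p * y 5 q)) := by rw [h3]
    _ = (y 2 a * y 1 s) * (y 3 b * (y 4 p * y 5 q)) := by simp only [mul_assoc]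
    _ = (y 1 s * y 2 a * y 3 (-(s * a))) * (y 3 b * (y 4 p * y 5 q)) := by rw [h2]
    _ = y 1 s * (y 2 a * ((y 3 (-(s * a)) * y 3 b) * (y 4 p * y 5 q))) := by
        simp only [mul_assoc]
    _ = y 1 s * (y 2 a * (y 3 (b - s * a) * (y 4 p * y 5 q))) := by
        rw [R.add]; congr 4; ring

/-- the product of two canonical forms -/
theorem E6_mul (R : G2Rel y) (t s a b p q t' s' a' b' p' q' : K) :
    E6 y t s a b p q * E6 y t' s' a' b' p' q' =
      E6 y (t + t') (s + s') (a - t' * s + a') (b - t' * s ^ 2 - s' * (a - t' * s) + b')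
        (p + t' * s ^ 3 + p') (q - t' * p + t' ^ 2 * s ^ 3 + q') := by
  unfold E6
  have e1 : y 1 s * y 0 t' = y 0 t' * y 1 s * A4 y (-(t' * s)) (-(t' * s ^ 2)) (t' * s ^ 3)
      (t' ^ 2 * s ^ 3) := R.c1 t' s
  calc y 0 t * (y 1 s * A4 y a b p q) * (y 0 t' * (y 1 s' * A4 y a' b' p' q'))
      = y 0 t * (y 1 s * ((A4 y a b p q * y 0 t') * (y 1 s' * A4 y a' b' p' q'))) := by
        simp only [mul_assoc]
    _ = y 0 t * ((y 1 s * y 0 t') * (A4 y a b p (q - t' * p) * (y 1 s' * A4 y a' b' p' q'))) := by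
        rw [R.A4_mul_y0]; simp only [mul_assoc]
    _ = y 0 t * (y 0 t' * (y 1 s * ((A4 y (-(t' * s)) (-(t' * s ^ 2)) (t' * s ^ 3)
          (t' ^ 2 * s ^ 3) * A4 y a b p (q - t' * p)) * (y 1 s' * A4 y a' b' p' q')))) := by
        rw [e1]; simp only [mul_assoc]
    _ = y 0 t * (y 0 t' * (y 1 s * ((A4 y (-(t' * s) + a) (-(t' * s ^ 2) + b) (t' * s ^ 3 + p)
          (t' ^ 2 * s ^ 3 + (q - t' * p)) * y 1 s') * A4 y a' b' p' q'))) := by
        rw [R.A4_mul]; simp only [mul_assoc]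
    _ = (y 0 t * y 0 t') * ((y 1 s * y 1 s') * (A4 y (-(t' * s) + a)
          (-(t' * s ^ 2) + b - s' * (-(t' * s) + a)) (t' * s ^ 3 + p)
          (t' ^ 2 * s ^ 3 + (q - t' * p)) * A4 y a' b' p' q')) := by
        rw [R.A4_mul_y1]; simp only [mul_assoc]
    _ = _ := by
        rw [R.add, R.add, R.A4_mul]
        congr 3 <;> ring

end G2Rel

end Cfsg.Agent.Lib.Helper8.Chev
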