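import Cfsg.Agent.Lib.Helper8.ChevRee26

set_option autoImplicit false

/-! The action of `H` on `U` for `G₂` in canonical coordinates. -/

namespace Cfsg.Agent.Lib.Helper8.Chev

open Cfsg.Lie Matrix

section

variable {K : Type*} [Field K]

/-- the character of `h_a(s) h_b(t)` -/
def chiH (s t : Kˣ) (r : ℕ) : K := ((chiT chevG2 (hc s t) r : Kˣ) : K)

theorem coe_hh_diag (s t : Kˣ) :
    ((hh s t : GL chevG2.Idx K) : Matrix chevG2.Idx chevG2.Idx K) = diagC chevG2 (chiH s t) := by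
  unfold hh
  rw [torMap_apply, coe_diagU]
  rfl

theorem hh_mul_E6 (s t : Kˣ) (c0 c1 c2 c3 c4 c5 : K) :
    ((hh s t : GL chevG2.Idx K) : Matrix chevG2.Idx chevG2.Idx K) *
        G2Rel.E6 (xp K) c0 c1 c2 c3 c4 c5 =
      G2Rel.E6 (xp K) (chiH s t 6 * c0) (chiH s t 7 * c1) (chiH s t 8 * c2) (chiH s t 9 * c3)
        (chiH s t 10 * c4) (chiH s t 11 * c5) *
        ((hh s t : GL chevG2.Idx K) : Matrix chevG2.Idx chevG2.Idx K) := by
  have V := valid0_of_mem hDG2
  have VJ := validJ_of_mem hDG2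
  have H := validH_of_mem hDG2
  have hf : IsChar chevG2 (chiH s t) := isChar_chiT VJ H (hc s t)
  have key := diagC_mul_wN V hf [(6, c0), (7, c1), (8, c2), (9, c3), (10, c4), (11, c5)] (by
    intro p hp
    simp only [List.mem_cons, List.not_mem_nil, or_false] at hp
    rcases hp with rfl | rfl | rfl | rfl | rfl | rfl <;> (dsimp only; decide))
  rw [coe_hh_diag]
  simp only [List.map_cons, List.map_nil, wN_cons, wN_nil, Matrix.mul_one, ← x_eq_xN] at key
  unfold G2Rel.E6 G2Rel.A4 xp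
  exact key

theorem chiH_val (s t : Kˣ) (r : ℕ) :
    chiH s t r = ((s ^ chevG2.cartan 0 r * t ^ chevG2.cartan 1 r : Kˣ) : K) := by
  unfold chiH
  rw [chiT_hc]

/-- an element of `H` with trivial character on the fundamental roots is trivial -/
theorem hh_eq_one_of_chi {s t : Kˣ} (h6 : chiH s t 6 = 1) (h7 : chiH s t 7 = 1) :
    s = 1 ∧ t = 1 := by
  rw [chiH_val] at h6 h7
  have c07 : chevG2.cartan 0 7 = 2 := by decide
  have c17 : chevG2.cartan 1 7 = -1 := by decide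
  have c06 : chevG2.cartan 0 6 = -3 := by decide
  have c16 : chevG2.cartan 1 6 = 2 := by decide
  rw [c07, c17] at h7
  rw [c06, c16] at h6
  have h7' : s ^ (2 : ℤ) * t ^ (-1 : ℤ) = 1 := Units.ext h7
  have h6' : s ^ (-3 : ℤ) * t ^ (2 : ℤ) = 1 := Units.ext h6
  have e1 : t = s ^ 2 := by
    have := mul_inv_eq_one.mp (by rwa [_root_.zpow_neg_one] at h7' : s ^ (2 : ℤ) * t⁻¹ = 1)
    rw [← this]; norm_cast
  subst e1
  have e2 : s = 1 := by
    have : s ^ (-3 : ℤ) * (s ^ 2) ^ (2 : ℤ) = s := by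
      rw [← zpow_natCast, ← _root_.zpow_mul, ← _root_.zpow_add]
      norm_num
    rw [← this]; exact h6'
  subst e2
  exact ⟨rfl, one_pow 2⟩

/-- an element of `H` commuting with an element of `U` whose first two coordinates do not
vanish is trivial -/
theorem hh_center {s t : Kˣ} {c0 c1 c2 c3 c4 c5 : K} (h0 : c0 ≠ 0) (h1 : c1 ≠ 0)
    (h : ((hh s t : GL chevG2.Idx K) : Matrix chevG2.Idx chevG2.Idx K) *
        G2Rel.E6 (xp K) c0 c1 c2 c3 c4 c5 = G2Rel.E6 (xp K) c0 c1 c2 c3 c4 c5 *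
        ((hh s t : GL chevG2.Idx K) : Matrix chevG2.Idx chevG2.Idx K)) :
    hh s t = 1 := by
  rw [hh_mul_E6] at h
  have h' := congrArg (· * (((hh s t)⁻¹ : GL chevG2.Idx K) : Matrix chevG2.Idx chevG2.Idx K)) h
  simp only [Matrix.mul_assoc, ← Units.val_mul, mul_inv_cancel, Units.val_one,
    Matrix.mul_one] at h'
  obtain ⟨e0, e1, -⟩ := E6_inj h'
  have h6 : chiH s t 6 = 1 := by
    have : chiH s t 6 * c0 = 1 * c0 := by rw [one_mul]; exact e0
    exact mul_right_cancel₀ h0 this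
  have h7 : chiH s t 7 = 1 := by
    have : chiH s t 7 * c1 = 1 * c1 := by rw [one_mul]; exact e1
    exact mul_right_cancel₀ h1 this
  obtain ⟨rfl, rfl⟩ := hh_eq_one_of_chi h6 h7
  exact hh_one

end

end Cfsg.Agent.Lib.Helper8.Chev
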