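import Cfsg.Agent.Lib.Helper8.ChevRee27
import Cfsg.Agent.Lib.Helper8.ChevDiag1

set_option autoImplicit false

/-! The normal core of `B¹` in the Ree group is trivial. -/

namespace Cfsg.Agent.Lib.Helper8.Chev

open Cfsg.Lie Matrix

section

variable {K : Type*} [Field K] [Fintype K] {m : ℕ} {φ ψ : K →+* K}
variable {τ : ↥(chevG2.group K) →* ↥(chevG2.group K)}

omit [Fintype K] in
/-- the element `W(1,0,0)` in canonical coordinates -/
theorem wordMat_reeU_one (hF : ReeField K m φ ψ) :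
    chevG2.wordMat K (reeWordU (3 ^ m) 1 0 0) = G2Rel.E6 (xp K) 1 1 0 0 1 1 := by
  have := hF.char3
  rw [wordMat_reeU hF, (g2Rel_xp (K := K)).ree_E6 φ]
  simp only [map_one, map_zero, one_pow, mul_one, zero_add]

/-- the normal core of `B¹` is trivial -/
theorem ree_core (hF : ReeField K m φ ψ) (hK : Fintype.card K = 3 ^ (2 * m + 1))
    (hτ : ReeAut m τ) : (reeB K m).normalCore = ⊥ := by
  have V := valid0_of_mem hDG2
  have V1 := valid1_of_mem hDG2
  have VJ := validJ_of_mem hDG2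
  have H := validH_of_mem hDG2
  have P := posP_of_mem hDG2
  have Tr := triP_of_mem hDG2
  have hfix := fixT_eq_twisted hF hK hτ
  have hn₀ := reeN0_mem_twisted (K := K) hF
  -- elements of the core lie in `H`
  have hcore : ∀ x : ↥(twistedG2 K (3 ^ m)), x ∈ (reeB K m).normalCore →
      (x : GL chevG2.Idx K) ∈ chevG2.diagonalSubgroup K := by
    intro x hx
    have h1 : (x : GL chevG2.Idx K) ∈ chevG2.borelSubgroup K :=
      mem_reeB.mp (Subgroup.normalCore_le _ hx)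
    have h2 : (reeN0 K)⁻¹ * (x : GL chevG2.Idx K) * reeN0 K ∈ chevG2.borelSubgroup K := by
      have := (show ∀ b : ↥(twistedG2 K (3 ^ m)), b * x * b⁻¹ ∈ reeB K m from hx)
        (⟨reeN0 K, hn₀⟩ : ↥(twistedG2 K (3 ^ m)))⁻¹
      have := mem_reeB.mp this
      simpa using this
    have h2T : (reeN0 K)⁻¹ * (x : GL chevG2.Idx K) * reeN0 K ∈ fixT τ := by
      rw [hfix]
      exact mul_mem (mul_mem (inv_mem hn₀) x.2) hn₀
    obtain ⟨hG, hf⟩ := mem_fixT'.mp h2T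
    obtain ⟨u, hu, h, hh, e⟩ := ree_borel_fix hτ h2 hG hf
    have hV := reeN0_conj_pos hF hτ hu.1
    have hH := conj_mem_diagonal (reeN0_mem_monomial (K := K)) hh.1
    have e2 : (x : GL chevG2.Idx K) = (reeN0 K * u * (reeN0 K)⁻¹) *
        (reeN0 K * h * (reeN0 K)⁻¹) := by
      have : (x : GL chevG2.Idx K) = reeN0 K *
          ((reeN0 K)⁻¹ * (x : GL chevG2.Idx K) * reeN0 K) * (reeN0 K)⁻¹ := by group
      rw [this, e]; group
    rw [← borel_inf_neg_sup_diagonal VJ V1 H Tr P]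
    refine Subgroup.mem_inf.mpr ⟨h1, ?_⟩
    rw [e2]
    exact mul_mem (Subgroup.mem_sup_left hV) (Subgroup.mem_sup_right hH)
  rw [Subgroup.eq_bot_iff_forall]
  intro x hx
  apply Subtype.ext
  rw [Subgroup.coe_one]
  obtain ⟨s, t, hst⟩ := (mem_diagonal_iff_hh _).mp (hcore x hx)
  obtain ⟨u, hu, hmu⟩ := exists_reeU (K := K) (m := m) 1 0 0
  have hN := Subgroup.normalCore_normal (reeB K m)
  have h1 : x * ((⟨u, hu.2⟩ : ↥(twistedG2 K (3 ^ m))) * x⁻¹ *
      (⟨u, hu.2⟩ : ↥(twistedG2 K (3 ^ m)))⁻¹) ∈ (reeB K m).normalCore :=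
    mul_mem hx (hN.conj_mem _ (inv_mem hx) _)
  have h2 := hcore _ h1
  have h3 : (x : GL chevG2.Idx K) * u * (x : GL chevG2.Idx K)⁻¹ ∈ chevG2.posUnipotent K :=
    torusLike_conj_pos V (torusLike_of_mem VJ V1 H (hcore x hx)) u hu.1
  have h4 : (x : GL chevG2.Idx K) * u * (x : GL chevG2.Idx K)⁻¹ * u⁻¹ ∈
      chevG2.posUnipotent K ⊓ chevG2.diagonalSubgroup K := by
    refine Subgroup.mem_inf.mpr ⟨mul_mem h3 (inv_mem hu.1), ?_⟩
    have e : (x : GL chevG2.Idx K) * u * (x : GL chevG2.Idx K)⁻¹ * u⁻¹ =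
        ((x * ((⟨u, hu.2⟩ : ↥(twistedG2 K (3 ^ m))) * x⁻¹ *
          (⟨u, hu.2⟩ : ↥(twistedG2 K (3 ^ m)))⁻¹) : ↥(twistedG2 K (3 ^ m))) :
          GL chevG2.Idx K) := by
      simp [mul_assoc]
    rw [e]
    exact h2
  rw [pos_inf_diagonal VJ V1 H Tr P, Subgroup.mem_bot] at h4
  have hcomm : (x : GL chevG2.Idx K) * u = u * x := by
    calc (x : GL chevG2.Idx K) * u
        = ((x : GL chevG2.Idx K) * u * (x : GL chevG2.Idx K)⁻¹ * u⁻¹) * u * x := by group
      _ = u * x := by rw [h4, one_mul]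
  rw [hst] at hcomm ⊢
  apply hh_center (c0 := 1) (c1 := 1) (c2 := 0) (c3 := 0) (c4 := 1) (c5 := 1) one_ne_zero
    one_ne_zero
  rw [← wordMat_reeU_one hF, ← hmu, ← Units.val_mul, ← Units.val_mul, hcomm]

end

end Cfsg.Agent.Lib.Helper8.Chev
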