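import Cfsg.Agent.Lib.Helper8.ChevRee28

set_option autoImplicit false

/-! Coordinates on `U¹` for the Ree group. -/

namespace Cfsg.Agent.Lib.Helper8.Chev

open Cfsg.Lie Matrix

section

variable {K : Type*} [Field K] {m : ℕ} {φ ψ : K →+* K}
variable {τ : ↥(chevG2.group K) →* ↥(chevG2.group K)}

/-- `g` is the element `W(t,u,v)` of `U¹` -/
def IsW (m : ℕ) (g : GL chevG2.Idx K) (t u v : K) : Prop :=
  (g : Matrix chevG2.Idx chevG2.Idx K) = chevG2.wordMat K (reeWordU (3 ^ m) t u v)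

theorem isW_iff (hF : ReeField K m φ ψ) {g : GL chevG2.Idx K} {t u v : K} :
    IsW m g t u v ↔ (g : Matrix chevG2.Idx chevG2.Idx K) =
      G2Rel.E6 (xp K) t (φ t) (φ u) (φ v) (u + t * φ t ^ 3) (v + t ^ 2 * φ t ^ 3) := by
  have := hF.char3
  unfold IsW
  rw [wordMat_reeU hF, (g2Rel_xp (K := K)).ree_E6 φ]

theorem IsW.mem (hF : ReeField K m φ ψ) (hτ : ReeAut m τ) {g : GL chevG2.Idx K} {t u v : K}
    (h : IsW m g t u v) : g ∈ chevG2.posUnipotent K ⊓ twistedG2 K (3 ^ m) :=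
  (mem_pos_inf_twisted hF hτ g).mpr ⟨t, u, v, h⟩

theorem exists_isW (hF : ReeField K m φ ψ) (hτ : ReeAut m τ) {g : GL chevG2.Idx K}
    (hg : g ∈ chevG2.posUnipotent K ⊓ twistedG2 K (3 ^ m)) : ∃ t u v : K, IsW m g t u v :=
  (mem_pos_inf_twisted hF hτ g).mp hg

theorem exists_isW' (t u v : K) : ∃ g : GL chevG2.Idx K, IsW m g t u v := by
  obtain ⟨g, -, hg⟩ := exists_reeU (K := K) (m := m) t u v
  exact ⟨g, hg⟩

theorem IsW.inj (hF : ReeField K m φ ψ) {g : GL chevG2.Idx K} {t u v t' u' v' : K}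
    (h : IsW m g t u v) (h' : IsW m g t' u' v') : t = t' ∧ u = u' ∧ v = v' :=
  reeU_inj hF (h.symm.trans h')

/-- the first coordinate is additive -/
theorem IsW.mul_t (hF : ReeField K m φ ψ) {g g' : GL chevG2.Idx K} {t u v t' u' v' t'' u'' v'' : K}
    (h : IsW m g t u v) (h' : IsW m g' t' u' v') (h'' : IsW m (g * g') t'' u'' v'') :
    t'' = t + t' := by
  have := hF.char3
  rw [isW_iff hF] at h h' h''
  rw [Units.val_mul, h, h', (g2Rel_xp (K := K)).E6_mul] at h''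
  exact (E6_inj h'').1.symm

/-- the multiplication on the abelian part -/
theorem IsW.mul_A (hF : ReeField K m φ ψ) {g g' : GL chevG2.Idx K} {u v u' v' : K}
    (h : IsW m g 0 u v) (h' : IsW m g' 0 u' v') : IsW m (g * g') 0 (u + u') (v + v') := by
  have := hF.char3
  rw [isW_iff hF] at h h' ⊢
  rw [Units.val_mul, h, h', (g2Rel_xp (K := K)).E6_mul]
  simp only [map_zero, map_add, zero_mul, mul_zero, add_zero, sub_zero, zero_pow,
    ne_eq, OfNat.ofNat_ne_zero, not_false_eq_true]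

/-- the action of `H` on the coordinates -/
theorem IsW.conj (hF : ReeField K m φ ψ) {g : GL chevG2.Idx K} {t u v t₁ u₁ v₁ : K} (s' t' : Kˣ)
    (h : IsW m g t u v) (h₁ : IsW m (hh s' t' * g * (hh s' t')⁻¹) t₁ u₁ v₁) :
    t₁ = chiH s' t' 6 * t ∧ (t = 0 → u₁ = chiH s' t' 10 * u ∧ v₁ = chiH s' t' 11 * v) := by
  have := hF.char3
  rw [isW_iff hF] at h h₁
  rw [Units.val_mul, Units.val_mul, h, hh_mul_E6, Matrix.mul_assoc, ← Units.val_mul,
    mul_inv_cancel, Units.val_one, Matrix.mul_one] at h₁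
  obtain ⟨e0, -, -, -, e4, e5⟩ := E6_inj h₁
  refine ⟨e0.symm, ?_⟩
  rintro rfl
  rw [mul_zero] at e0
  rw [← e0] at e4 e5
  simp only [zero_mul, add_zero, zero_pow, ne_eq, OfNat.ofNat_ne_zero,
    not_false_eq_true] at e4 e5
  exact ⟨e4.symm, e5.symm⟩

end

end Cfsg.Agent.Lib.Helper8.Chev
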