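import Cfsg.Agent.Lib.Helper8.ChevRee2

set_option autoImplicit false

/-! Consequences of the relations of `U` for `G₂` in characteristic 3. -/

namespace Cfsg.Agent.Lib.Helper8.Chev

open Cfsg.Lie Matrix

namespace G2Rel

variable {M : Type*} [Monoid M] {K : Type*} [Field K] {y : ℕ → K → M}

/-- the abelian part -/
def A4 (y : ℕ → K → M) (a b p q : K) : M := y 2 a * (y 3 b * (y 4 p * y 5 q))

/-- the canonical form -/
def E6 (y : ℕ → K → M) (t s a b p q : K) : M := y 0 t * (y 1 s * A4 y a b p q)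

theorem cm (R : G2Rel y) {i j : ℕ} (hi : 2 ≤ i) (hi' : i < 6) (hj : 2 ≤ j) (hj' : j < 6) (s t : K) :
    Commute (y i s) (y j t) := R.comm i j hi hi' hj hj' s t

theorem A4_mul (R : G2Rel y) (a b p q a' b' p' q' : K) :
    A4 y a b p q * A4 y a' b' p' q' = A4 y (a + a') (b + b') (p + p') (q + q') := by
  unfold A4
  have h1 : Commute (y 3 b * (y 4 p * y 5 q)) (y 2 a') :=
    Commute.mul_left (R.cm (by norm_num) (by norm_num) (by norm_num) (by norm_num) _ _)
      (Commute.mul_left (R.cm (by norm_num) (by norm_num) (by norm_num) (by norm_num) _ _)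
        (R.cm (by norm_num) (by norm_num) (by norm_num) (by norm_num) _ _))
  have h2 : Commute (y 4 p * y 5 q) (y 3 b') :=
    Commute.mul_left (R.cm (by norm_num) (by norm_num) (by norm_num) (by norm_num) _ _)
      (R.cm (by norm_num) (by norm_num) (by norm_num) (by norm_num) _ _)
  have h3 : Commute (y 5 q) (y 4 p') := R.cm (by norm_num) (by norm_num) (by norm_num) (by norm_num) _ _
  rw [h1.mul_mul_mul_comm, h2.mul_mul_mul_comm, h3.mul_mul_mul_comm, R.add, R.add, R.add, R.add]

theorem A4_perm (R : G2Rel y) (a b p q : K) :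
    y 4 p * (y 5 q * (y 2 a * y 3 b)) = A4 y a b p q := by
  unfold A4
  have h1 : Commute (y 4 p * y 5 q) (y 2 a * y 3 b) :=
    Commute.mul_left
      (Commute.mul_right (R.cm (by norm_num) (by norm_num) (by norm_num) (by norm_num) _ _)
        (R.cm (by norm_num) (by norm_num) (by norm_num) (by norm_num) _ _))
      (Commute.mul_right (R.cm (by norm_num) (by norm_num) (by norm_num) (by norm_num) _ _)
        (R.cm (by norm_num) (by norm_num) (by norm_num) (by norm_num) _ _))
  rw [← mul_assoc, h1.eq, mul_assoc]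

/-- moving `x_a` to the right of `x_b` -/
theorem swap01 (R : G2Rel y) (t s a b p q : K) :
    y 1 s * (y 0 t * A4 y a b p q) =
      E6 y t s (a - t * s) (b - t * s ^ 2) (p + t * s ^ 3) (q + t ^ 2 * s ^ 3) := by
  unfold E6
  rw [← mul_assoc, R.c1 t s]
  have : y 2 (-(t * s)) * (y 3 (-(t * s ^ 2)) * (y 4 (t * s ^ 3) * y 5 (t ^ 2 * s ^ 3))) =
      A4 y (-(t * s)) (-(t * s ^ 2)) (t * s ^ 3) (t ^ 2 * s ^ 3) := rfl
  rw [this, mul_assoc, R.A4_mul, mul_assoc]
  congr 3 <;> ring

/-- the canonical form of the Ree word `x_a(T) x_b(t) x_{a+b}(tT+U) x_{2a+b}(tT²+V) x_{3a+b}(u) x_{3a+2b}(v)` -/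
theorem ree_canon (R : G2Rel y) (t T U V u v : K) :
    y 1 T * (y 0 t * (y 2 (t * T + U) * (y 3 (t * T ^ 2 + V) * (y 4 u * y 5 v)))) =
      E6 y t T U V (u + t * T ^ 3) (v + t ^ 2 * T ^ 3) := by
  have := R.swap01 t T (t * T + U) (t * T ^ 2 + V) u v
  unfold A4 at this
  rw [this]
  congr 1 <;> ring

/-- the canonical form of the image of a canonical form under the twisting map -/
theorem tau_canon (R : G2Rel y) (t s a b p q : K) :
    y 1 s * (y 0 t * (y 4 p * (y 5 q * (y 2 a * y 3 b)))) =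
      E6 y t s (a - t * s) (b - t * s ^ 2) (p + t * s ^ 3) (q + t ^ 2 * s ^ 3) := by
  rw [R.A4_perm, R.swap01]

end G2Rel

end Cfsg.Agent.Lib.Helper8.Chev
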