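import Cfsg.Agent.Lib.Helper8.ChevRee29

set_option autoImplicit false

/-! The Ree groups `²G₂(3^(2m+1))`, `m ≥ 1`, are perfect. -/

namespace Cfsg.Agent.Lib.Helper8.Chev

open Cfsg.Lie Matrix

section

variable {K : Type*} [Field K] {m : ℕ} {φ ψ : K →+* K}
variable {τ : ↥(chevG2.group K) →* ↥(chevG2.group K)}

/-- `n₀ V n₀⁻¹ ≤ U` -/
theorem reeN0_conj_neg (hF : ReeField K m φ ψ) (hτ : ReeAut m τ) {v : GL chevG2.Idx K}
    (hv : v ∈ chevG2.negUnipotent K) : reeN0 K * v * (reeN0 K)⁻¹ ∈ chevG2.posUnipotent K := by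
  have P := posP_of_mem hDG2
  have V := valid0_of_mem hDG2
  have V1 := valid1_of_mem hDG2
  have J := validJ_of_mem hDG2
  have H := validH_of_mem hDG2
  obtain ⟨h₀, hh₀, l, hl, en, hw⟩ := reeN0_form hF hτ
  have hlr : ∀ i ∈ l, i < chevG2.rank := hl
  have hP : RootPerm chevG2 K ((reeN0 K : GL chevG2.Idx K) : Matrix chevG2.Idx chevG2.Idx K)
      (id ∘ reflWord chevG2 l) := by
    rw [en, Units.val_mul]
    exact (rootPerm_torus V (torusLike_of_mem J V1 H hh₀)).mul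
      (rootPermN_nP (F := K) J V1 H.nS l hlr).rootPerm
  have hle : (chevG2.negUnipotent K).map (MulAut.conj (reeN0 K)).toMonoidHom ≤
      chevG2.posUnipotent K := by
    unfold ChevalleyDatum.negUnipotent
    rw [MonoidHom.map_closure, Subgroup.closure_le]
    rintro _ ⟨y, ⟨r, t, hr, hy⟩, rfl⟩
    obtain ⟨ε, he⟩ := rootPerm_conj hP hr.1 t y hy
    refine Subgroup.subset_closure ⟨_, _, ?_, he⟩
    have hr12 : r < 12 := hr.1
    have hr6 : r < 6 := (P r hr.1).2.mp hr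
    show chevG2.IsPosRoot (reflWord chevG2 l r)
    rw [hw r hr12]
    apply (P _ (V.neg_lt hr.1)).1.mpr
    show 6 ≤ chevG2.neg r
    interval_cases r <;> decide
  exact hle ⟨v, hv, rfl⟩

theorem chiH_10 (s t : Kˣ) : chiH s t 10 = ((s ^ 3 * t⁻¹ : Kˣ) : K) := by
  rw [chiH_val]
  have c0 : chevG2.cartan 0 10 = 3 := by decide
  have c1 : chevG2.cartan 1 10 = -1 := by decide
  rw [c0, c1, _root_.zpow_neg_one]
  norm_cast

theorem chiH_11 (s t : Kˣ) : chiH s t 11 = (t : K) := by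
  rw [chiH_val]
  have c0 : chevG2.cartan 0 11 = 0 := by decide
  have c1 : chevG2.cartan 1 11 = 1 := by decide
  rw [c0, c1, _root_.zpow_zero, one_mul, _root_.zpow_one]

theorem chiH_6 (s t : Kˣ) : chiH s t 6 = (((s ^ 3)⁻¹ * t ^ 2 : Kˣ) : K) := by
  rw [chiH_val]
  have c0 : chevG2.cartan 0 6 = -3 := by decide
  have c1 : chevG2.cartan 1 6 = 2 := by decide
  rw [c0, c1]
  congr 2

/-- `c^{3θ-1} = 1` only for `c = ±1` -/
theorem ReeField.unit_sq_eq_one (hF : ReeField K m φ ψ) {c : Kˣ}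
    (h : (c ^ 3 ^ m) ^ 3 * c⁻¹ = 1) : c ^ 2 = 1 := by
  have h1 : (c ^ 3 ^ m) ^ 3 = c := mul_inv_eq_one.mp h
  have h2 : c ^ 3 ^ m = c := by
    have := hF.unit_pow_q c
    calc c ^ 3 ^ m = ((c ^ 3 ^ m) ^ 3) ^ 3 ^ m := by rw [h1]
      _ = (c ^ 3 ^ m) ^ (3 * 3 ^ m) := by rw [← pow_mul]
      _ = c := this
  rw [h2] at h1
  have : c ^ 2 * c = 1 * c := by rw [one_mul, ← pow_succ]; exact h1
  exact mul_right_cancel this

variable [Fintype K]

theorem exists_unit_ne (hK : Fintype.card K = 3 ^ (2 * m + 1)) (hm : 1 ≤ m) :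
    ∃ c : Kˣ, c ≠ 1 ∧ c ≠ -1 := by
  classical
  by_contra hcon
  push Not at hcon
  have hle : Fintype.card Kˣ ≤ Fintype.card Bool := by
    apply Fintype.card_le_of_surjective (fun b : Bool => if b then (1 : Kˣ) else -1)
    intro c
    by_cases h : c = 1
    · exact ⟨true, by simp [h]⟩
    · exact ⟨false, by simp [hcon c h]⟩
  rw [Fintype.card_units, hK, Fintype.card_bool] at hle
  have : 3 ^ 3 ≤ 3 ^ (2 * m + 1) := Nat.pow_le_pow_right (by norm_num) (by omega)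
  omega

/-- a normal subgroup of the Ree group containing the commutators is the whole group -/
theorem ree_le_of_comm (hF : ReeField K m φ ψ) (hK : Fintype.card K = 3 ^ (2 * m + 1))
    (hτ : ReeAut m τ) (hm : 1 ≤ m) (D : Subgroup (GL chevG2.Idx K))
    (hD1 : ∀ a ∈ twistedG2 K (3 ^ m), ∀ b ∈ twistedG2 K (3 ^ m), a * b * a⁻¹ * b⁻¹ ∈ D)
    (hD2 : ∀ g ∈ twistedG2 K (3 ^ m), ∀ d ∈ D, g * d * g⁻¹ ∈ D) :
    twistedG2 K (3 ^ m) ≤ D := by
  have V := valid0_of_mem hDG2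
  have V1 := valid1_of_mem hDG2
  have VJ := validJ_of_mem hDG2
  have H := validH_of_mem hDG2
  have h3 := hF.three
  -- conjugation by `H¹` preserves `U¹`
  have hconjU : ∀ (s' t' : Kˣ), hh s' t' ∈ twistedG2 K (3 ^ m) →
      ∀ g ∈ chevG2.posUnipotent K ⊓ twistedG2 K (3 ^ m),
        hh s' t' * g * (hh s' t')⁻¹ ∈ chevG2.posUnipotent K ⊓ twistedG2 K (3 ^ m) := by
    intro s' t' hx g hg
    exact Subgroup.mem_inf.mpr
      ⟨torusLike_conj_pos V (torusLike_of_mem VJ V1 H (hh_mem_diagonal s' t')) g hg.1,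
        mul_mem (mul_mem hx hg.2) (inv_mem hx)⟩
  obtain ⟨c, hc1, hc2⟩ := exists_unit_ne hK hm
  have hxT : hh (c ^ 3 ^ m) c ∈ twistedG2 K (3 ^ m) :=
    ((diag_inf_twisted_iff hF hK hτ _).mpr ⟨c, rfl⟩).2
  have hχ10 : chiH (c ^ 3 ^ m) c 10 - 1 ≠ 0 := by
    rw [chiH_10]
    intro h
    have h' : (((c ^ 3 ^ m) ^ 3 * c⁻¹ : Kˣ) : K) = ((1 : Kˣ) : K) := by
      rw [Units.val_one]; exact sub_eq_zero.mp h
    have hsq := hF.unit_sq_eq_one (Units.ext h')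
    have hsq' : (c : K) * (c : K) = 1 := by
      rw [← sq, ← Units.val_pow_eq_pow_val, hsq, Units.val_one]
    rcases mul_self_eq_one_iff.mp hsq' with h | h
    · exact hc1 (Units.ext (by rw [Units.val_one]; exact h))
    · exact hc2 (Units.ext (by rw [Units.val_neg, Units.val_one]; exact h))
  have hχ11 : chiH (c ^ 3 ^ m) c 11 - 1 ≠ 0 := by
    rw [chiH_11]
    intro h
    exact hc1 (Units.ext (by rw [Units.val_one]; exact sub_eq_zero.mp h))
  -- Step A: the abelian part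
  have stepA : ∀ (u v : K) (g : GL chevG2.Idx K), IsW m g 0 u v → g ∈ D := by
    intro u v g hg
    obtain ⟨g₀, hg₀⟩ := exists_isW' (K := K) (m := m) 0 (u / (chiH (c ^ 3 ^ m) c 10 - 1))
      (v / (chiH (c ^ 3 ^ m) c 11 - 1))
    have hg₀m := hg₀.mem hF hτ
    have h1m := hconjU _ _ hxT g₀ hg₀m
    obtain ⟨t₁, u₁, v₁, h1⟩ := exists_isW hF hτ h1m
    obtain ⟨e1, e2⟩ := hg₀.conj hF _ _ h1
    rw [mul_zero] at e1
    subst e1
    obtain ⟨eu, ev⟩ := e2 rfl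
    set c₀ := hh (c ^ 3 ^ m) c * g₀ * (hh (c ^ 3 ^ m) c)⁻¹ * g₀⁻¹ with hc₀
    have hc₀D : c₀ ∈ D := hD1 _ hxT _ hg₀m.2
    have hc₀m : c₀ ∈ chevG2.posUnipotent K ⊓ twistedG2 K (3 ^ m) := mul_mem h1m (inv_mem hg₀m)
    obtain ⟨t₂, u₂, v₂, h2⟩ := exists_isW hF hτ hc₀m
    have e3 : c₀ * g₀ = hh (c ^ 3 ^ m) c * g₀ * (hh (c ^ 3 ^ m) c)⁻¹ := by
      rw [hc₀]; group
    have ht2 : t₂ = 0 := by
      have := h2.mul_t hF hg₀ (by rw [e3]; exact h1)
      rw [add_zero] at this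
      exact this.symm
    subst ht2
    have h4 := h2.mul_A hF hg₀
    rw [e3] at h4
    obtain ⟨-, e5, e6⟩ := h4.inj hF h1
    have hu2 : u₂ = u := by
      rw [eu] at e5
      have : u₂ = (chiH (c ^ 3 ^ m) c 10 - 1) * (u / (chiH (c ^ 3 ^ m) c 10 - 1)) := by
        linear_combination e5
      rw [this, mul_div_cancel₀ _ hχ10]
    have hv2 : v₂ = v := by
      rw [ev] at e6
      have : v₂ = (chiH (c ^ 3 ^ m) c 11 - 1) * (v / (chiH (c ^ 3 ^ m) c 11 - 1)) := by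
        linear_combination e6
      rw [this, mul_div_cancel₀ _ hχ11]
    subst hu2 hv2
    have : g = c₀ := Units.ext (hg.trans h2.symm)
    rw [this]
    exact hc₀D
  -- Step B: all of `U¹`
  have hjT : hh (-1 : Kˣ) (-1) ∈ twistedG2 K (3 ^ m) := by
    have := ((diag_inf_twisted_iff hF hK hτ _).mpr ⟨-1, rfl⟩).2
    rwa [(odd_theta (m := m)).neg_one_pow] at this
  have hχ6 : chiH (-1 : Kˣ) (-1) 6 = -1 := by
    rw [chiH_6]
    have e : (((-1 : Kˣ) ^ 3)⁻¹ * (-1 : Kˣ) ^ 2 : Kˣ) = -1 := by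
      rw [Odd.neg_one_pow (by decide), Even.neg_one_pow (by decide), mul_one, inv_neg, inv_one]
    rw [e, Units.val_neg, Units.val_one]
  have stepB : ∀ (t u v : K) (g : GL chevG2.Idx K), IsW m g t u v → g ∈ D := by
    intro t u v g hg
    have hgm := hg.mem hF hτ
    have h1m := hconjU _ _ hjT g hgm
    obtain ⟨t₁, u₁, v₁, h1⟩ := exists_isW hF hτ h1m
    obtain ⟨e1, -⟩ := hg.conj hF _ _ h1
    rw [hχ6] at e1
    set c₁ := hh (-1 : Kˣ) (-1) * g * (hh (-1 : Kˣ) (-1))⁻¹ * g⁻¹ with hc₁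
    have hc₁D : c₁ ∈ D := hD1 _ hjT _ hgm.2
    have hc₁m : c₁ ∈ chevG2.posUnipotent K ⊓ twistedG2 K (3 ^ m) := mul_mem h1m (inv_mem hgm)
    obtain ⟨t₂, u₂, v₂, h2⟩ := exists_isW hF hτ hc₁m
    have e3 : c₁ * g = hh (-1 : Kˣ) (-1) * g * (hh (-1 : Kˣ) (-1))⁻¹ := by
      rw [hc₁]; group
    have ht2 : t₂ = t := by
      have := h2.mul_t hF hg (by rw [e3]; exact h1)
      linear_combination (-1 : K) * this + e1 - t * h3
    subst ht2
    have hdm : c₁⁻¹ * g ∈ chevG2.posUnipotent K ⊓ twistedG2 K (3 ^ m) :=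
      mul_mem (inv_mem hc₁m) hgm
    obtain ⟨t₃, u₃, v₃, h3'⟩ := exists_isW hF hτ hdm
    have e4 : c₁ * (c₁⁻¹ * g) = g := by group
    have ht3 : t₃ = 0 := by
      have := h2.mul_t hF h3' (by rw [e4]; exact hg)
      linear_combination (-1 : K) * this
    subst ht3
    have hdD := stepA _ _ _ h3'
    rw [← e4]
    exact mul_mem hc₁D hdD
  -- Step C: the generators
  have hn₀ := reeN0_mem_twisted (K := K) hF
  have hgen : ∀ w ∈ g2Words K (3 ^ m), ∀ g : GL chevG2.Idx K,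
      (g : Matrix chevG2.Idx chevG2.Idx K) = chevG2.wordMat K w → g ∈ D := by
    rintro w ⟨t, u, v, rfl | rfl⟩ g hg
    · exact stepB t u v g hg
    · obtain ⟨g', hg', hm'⟩ := exists_reeV (K := K) (m := m) t u v
      have : g = g' := Units.ext (hg.trans hm'.symm)
      subst this
      have h1 : reeN0 K * g * (reeN0 K)⁻¹ ∈ chevG2.posUnipotent K ⊓ twistedG2 K (3 ^ m) :=
        Subgroup.mem_inf.mpr ⟨reeN0_conj_neg hF hτ hg'.1,
          mul_mem (mul_mem hn₀ hg'.2) (inv_mem hn₀)⟩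
      obtain ⟨t₁, u₁, v₁, h2⟩ := exists_isW hF hτ h1
      have h3 := hD2 _ (inv_mem hn₀) _ (stepB _ _ _ _ h2)
      have e : (reeN0 K)⁻¹ * (reeN0 K * g * (reeN0 K)⁻¹) * (reeN0 K)⁻¹⁻¹ = g := by group
      rwa [e] at h3
  show chevG2.genSubgroup K (g2Words K (3 ^ m)) ≤ D
  unfold ChevalleyDatum.genSubgroup
  rw [Subgroup.closure_le]
  rintro g ⟨w, hw, hg⟩
  exact hgen w hw g hg

end

end Cfsg.Agent.Lib.Helper8.Chev
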