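import Cfsg.Agent.Lib.Helper8.ChevRee31

set_option autoImplicit false

/-! The elements of odd order of `H¹` act without fixed points on `U¹`. -/

namespace Cfsg.Agent.Lib.Helper8.Chev

open Cfsg.Lie Matrix

section

variable {K : Type*} [Field K] {m : ℕ} {φ ψ : K →+* K}
variable {τ : ↥(chevG2.group K) →* ↥(chevG2.group K)}

theorem isW_one (hF : ReeField K m φ ψ) : IsW m (1 : GL chevG2.Idx K) 0 0 0 := by
  rw [isW_iff hF]
  have e : (0 : K) + 0 ^ 2 * 0 ^ 3 = 0 := by ring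
  simp only [map_zero, zero_mul, add_zero]
  unfold G2Rel.E6 G2Rel.A4 xp
  simp only [e, x_zero, mul_one, Units.val_one]

/-- `c^{3θ-2} = 1` only for `c = 1` -/
theorem ReeField.unit_eq_one (hF : ReeField K m φ ψ) {c : Kˣ}
    (h : ((c ^ 3 ^ m) ^ 3)⁻¹ * c ^ 2 = 1) : c = 1 := by
  have h1 : c ^ 2 = (c ^ 3 ^ m) ^ 3 := by
    have := congrArg (fun x => (c ^ 3 ^ m) ^ 3 * x) h
    simpa [mul_inv_cancel_left] using this
  have h2 : c = (c ^ 3 ^ m) ^ 2 := by
    have := hF.unit_pow_q c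
    calc c = ((c ^ 3 ^ m) ^ 3) ^ 3 ^ m := by rw [← pow_mul]; exact this.symm
      _ = (c ^ 2) ^ 3 ^ m := by rw [h1]
      _ = (c ^ 3 ^ m) ^ 2 := by rw [← pow_mul, ← pow_mul, mul_comm]
  have h3 : c ^ 3 ^ m = 1 := by
    have e : (c ^ 3 ^ m) ^ 3 * (c ^ 3 ^ m) = (c ^ 3 ^ m) ^ 3 * 1 := by
      rw [mul_one, ← pow_succ]
      calc (c ^ 3 ^ m) ^ (3 + 1) = ((c ^ 3 ^ m) ^ 2) ^ 2 := by rw [← pow_mul (c ^ 3 ^ m)]
        _ = c ^ 2 := by rw [← h2]
        _ = _ := h1
    exact mul_left_cancel e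
  rw [h2, h3, one_pow]

theorem orderOf_hhHom (c : Kˣ) : orderOf (hhHom K m c) = orderOf c :=
  orderOf_injective (hhHom K m) hhHom_injective c

variable [Fintype K]

/-- elements of odd order of `H¹` have no fixed points on `U¹` -/
theorem ree_fpf (hF : ReeField K m φ ψ) (hK : Fintype.card K = 3 ^ (2 * m + 1))
    (hτ : ReeAut m τ) {h : GL chevG2.Idx K}
    (hh' : h ∈ chevG2.diagonalSubgroup K ⊓ twistedG2 K (3 ^ m)) (h1 : h ≠ 1)
    (hodd : Odd (orderOf h)) :
    (chevG2.posUnipotent K ⊓ twistedG2 K (3 ^ m)) ⊓ Subgroup.centralizer {h} = ⊥ := by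
  have V := valid0_of_mem hDG2
  have V1 := valid1_of_mem hDG2
  have VJ := validJ_of_mem hDG2
  have H := validH_of_mem hDG2
  obtain ⟨c, rfl⟩ := (diag_inf_twisted_iff hF hK hτ h).mp hh'
  have hc1 : c ≠ 1 := by
    rintro rfl
    exact h1 (by rw [one_pow, hh_one])
  have hoddc : Odd (orderOf c) := by
    rw [← orderOf_hhHom (m := m) c]; exact hodd
  have hsq : c ^ 2 ≠ 1 := by
    intro h2
    have hd : orderOf c ∣ 2 := orderOf_dvd_of_pow_eq_one h2
    have : orderOf c = 1 := by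
      rcases (Nat.dvd_prime Nat.prime_two).mp hd with h | h
      · exact h
      · rw [h] at hoddc; exact absurd hoddc (by decide)
    exact hc1 (orderOf_eq_one_iff.mp this)
  have hχ6 : chiH (c ^ 3 ^ m) c 6 - 1 ≠ 0 := by
    rw [chiH_6]
    intro h
    have h' : ((((c ^ 3 ^ m) ^ 3)⁻¹ * c ^ 2 : Kˣ) : K) = ((1 : Kˣ) : K) := by
      rw [Units.val_one]; exact sub_eq_zero.mp h
    exact hc1 (hF.unit_eq_one (Units.ext h'))
  have hχ10 : chiH (c ^ 3 ^ m) c 10 - 1 ≠ 0 := by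
    rw [chiH_10]
    intro h
    have h' : (((c ^ 3 ^ m) ^ 3 * c⁻¹ : Kˣ) : K) = ((1 : Kˣ) : K) := by
      rw [Units.val_one]; exact sub_eq_zero.mp h
    exact hsq (hF.unit_sq_eq_one (Units.ext h'))
  have hχ11 : chiH (c ^ 3 ^ m) c 11 - 1 ≠ 0 := by
    rw [chiH_11]
    intro h
    exact hc1 (Units.ext (by rw [Units.val_one]; exact sub_eq_zero.mp h))
  rw [Subgroup.eq_bot_iff_forall]
  rintro g ⟨hgU, hgc⟩
  obtain ⟨t, u, v, hg⟩ := exists_isW hF hτ hgU
  have hcomm : hh (c ^ 3 ^ m) c * g * (hh (c ^ 3 ^ m) c)⁻¹ = g := by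
    have := Subgroup.mem_centralizer_iff.mp hgc (hh (c ^ 3 ^ m) c) rfl
    rw [this]; group
  obtain ⟨e1, e2⟩ := hg.conj hF (c ^ 3 ^ m) c (by rw [hcomm]; exact hg)
  have ht : t = 0 := by
    have : (chiH (c ^ 3 ^ m) c 6 - 1) * t = 0 := by linear_combination -e1
    exact (mul_eq_zero.mp this).resolve_left hχ6
  obtain ⟨e3, e4⟩ := e2 ht
  have hu : u = 0 := by
    have : (chiH (c ^ 3 ^ m) c 10 - 1) * u = 0 := by linear_combination -e3
    exact (mul_eq_zero.mp this).resolve_left hχ10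
  have hv : v = 0 := by
    have : (chiH (c ^ 3 ^ m) c 11 - 1) * v = 0 := by linear_combination -e4
    exact (mul_eq_zero.mp this).resolve_left hχ11
  subst ht hu hv
  exact Units.ext (hg.trans (isW_one hF).symm)

omit [Fintype K] in
theorem neg_one_ne_one (hF : ReeField K m φ ψ) : (-1 : Kˣ) ≠ 1 := by
  intro h
  have h1 : (-1 : K) = 1 := by
    have := congrArg Units.val h
    rwa [Units.val_neg, Units.val_one] at this
  have h3 := hF.three
  have : (1 : K) = 0 := by linear_combination h1 + h3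
  exact one_ne_zero this

/-- `-c` has odd order iff `c` has even order -/
theorem odd_orderOf_neg (hF : ReeField K m φ ψ) (hK : Fintype.card K = 3 ^ (2 * m + 1))
    (c : Kˣ) : Odd (orderOf (-c)) ↔ ¬ Odd (orderOf c) := by
  have hc := hF.char3
  have h2 : ringChar K ≠ 2 := by
    rw [ringChar.eq K 3]; norm_num
  have hodd := card_div_two_odd hK
  constructor
  · intro h1 h2'
    have ho : Odd (orderOf (-c) * orderOf c) := h1.mul h2'
    have e1 : (-c) ^ (orderOf (-c) * orderOf c) = 1 := by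
      rw [pow_mul, pow_orderOf_eq_one, one_pow]
    have e2 : c ^ (orderOf (-c) * orderOf c) = 1 := by
      rw [mul_comm, pow_mul, pow_orderOf_eq_one, one_pow]
    rw [ho.neg_pow, e2] at e1
    exact neg_one_ne_one hF e1
  · intro h1
    rcases FiniteField.pow_dichotomy h2 (Units.ne_zero c) with h | h
    · exfalso
      apply h1
      have : c ^ (Fintype.card K / 2) = 1 := Units.ext (by
        rw [Units.val_pow_eq_pow_val, h, Units.val_one])
      exact Odd.of_dvd_nat hodd (orderOf_dvd_of_pow_eq_one this)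
    · have : (-c) ^ (Fintype.card K / 2) = 1 := Units.ext (by
        rw [Units.val_pow_eq_pow_val, Units.val_neg, hodd.neg_pow, h, neg_neg, Units.val_one])
      exact Odd.of_dvd_nat hodd (orderOf_dvd_of_pow_eq_one this)

/-- half of the elements of `H¹` have odd order -/
theorem ree_card_odd (hF : ReeField K m φ ψ) (hK : Fintype.card K = 3 ^ (2 * m + 1))
    (hτ : ReeAut m τ) :
    2 * Nat.card {h : ↥(chevG2.diagonalSubgroup K ⊓ twistedG2 K (3 ^ m)) // Odd (orderOf h)} =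
      3 ^ (2 * m + 1) - 1 := by
  classical
  let e : Kˣ ≃* ↥(chevG2.diagonalSubgroup K ⊓ twistedG2 K (3 ^ m)) :=
    (MonoidHom.ofInjective (hhHom_injective (K := K) (m := m))).trans
      (MulEquiv.subgroupCongr (range_hhHom hF hK hτ))
  have e1 : Nat.card {h : ↥(chevG2.diagonalSubgroup K ⊓ twistedG2 K (3 ^ m)) // Odd (orderOf h)} =
      Nat.card {c : Kˣ // Odd (orderOf c)} :=
    (Nat.card_congr (Equiv.subtypeEquiv e.toEquiv (fun c => by
      show Odd (orderOf c) ↔ Odd (orderOf (e c))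
      rw [MulEquiv.orderOf_eq])).symm)
  have e2 : Nat.card {c : Kˣ // Odd (orderOf c)} = Nat.card {c : Kˣ // ¬ Odd (orderOf c)} := by
    apply Nat.card_congr
    refine Equiv.subtypeEquiv (Equiv.neg Kˣ) (fun c => ?_)
    show Odd (orderOf c) ↔ ¬ Odd (orderOf (-c))
    rw [odd_orderOf_neg hF hK, not_not]
  have e3 : Nat.card {c : Kˣ // Odd (orderOf c)} + Nat.card {c : Kˣ // ¬ Odd (orderOf c)} =
      Nat.card Kˣ := by
    rw [← Nat.card_sum]
    exact Nat.card_congr (Equiv.sumCompl (fun c : Kˣ => Odd (orderOf c)))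
  rw [e1, two_mul]
  nth_rewrite 2 [e2]
  rw [e3, Nat.card_eq_fintype_card, Fintype.card_units, hK]

end

end Cfsg.Agent.Lib.Helper8.Chev
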