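import Cfsg.Agent.Lib.Helper8.ChevRee32

set_option autoImplicit false

/-! The elements of order 3 of `U¹`. -/

namespace Cfsg.Agent.Lib.Helper8.Chev

open Cfsg.Lie Matrix

namespace G2Rel

variable {M : Type*} [Monoid M] {K : Type*} [Field K] {y : ℕ → K → M}

/-- the cube of a canonical form in characteristic 3 -/
theorem E6_cube (R : G2Rel y) (h3 : (3 : K) = 0) (t s a b p q : K) :
    E6 y t s a b p q ^ 3 = E6 y 0 0 0 (-(t * s ^ 2)) 0 (-(t ^ 2 * s ^ 3)) := by
  rw [pow_succ, pow_two, R.E6_mul, R.E6_mul]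
  congr 1
  · linear_combination t * h3
  · linear_combination s * h3
  · linear_combination (a - t * s) * h3
  · linear_combination (b - s * a) * h3
  · linear_combination (p + 3 * t * s ^ 3) * h3
  · linear_combination (q - t * p + 3 * t ^ 2 * s ^ 3) * h3

end G2Rel

section

variable {K : Type*} [Field K] {m : ℕ} {φ ψ : K →+* K}
variable {τ : ↥(chevG2.group K) →* ↥(chevG2.group K)}

theorem E6_zero : G2Rel.E6 (xp K) 0 0 0 0 0 0 = 1 := by
  unfold G2Rel.E6 G2Rel.A4 xp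
  simp only [x_zero, mul_one]

/-- an element of `U¹` has order 3 iff it is a non-trivial `W(0,u,v)` -/
theorem IsW.orderOf_eq_three (hF : ReeField K m φ ψ) {g : GL chevG2.Idx K} {t u v : K}
    (h : IsW m g t u v) : orderOf g = 3 ↔ t = 0 ∧ (u, v) ≠ (0, 0) := by
  have hc := hF.char3
  have : Fact (Nat.Prime 3) := ⟨Nat.prime_three⟩
  rw [orderOf_eq_prime_iff]
  have hcube : g ^ 3 = 1 ↔ t = 0 := by
    have h' := (isW_iff hF).mp h
    have e : ((g ^ 3 : GL chevG2.Idx K) : Matrix chevG2.Idx chevG2.Idx K) =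
        G2Rel.E6 (xp K) 0 0 0 (-(t * φ t ^ 2)) 0 (-(t ^ 2 * φ t ^ 3)) := by
      rw [Units.val_pow_eq_pow_val, h', (g2Rel_xp (K := K)).E6_cube hF.three]
    constructor
    · intro h1
      rw [h1, Units.val_one, ← E6_zero] at e
      obtain ⟨-, -, -, e3, -, -⟩ := E6_inj e
      have : t * φ t ^ 2 = 0 := by linear_combination e3
      rcases mul_eq_zero.mp this with h0 | h0
      · exact h0
      · have := pow_eq_zero_iff (two_ne_zero) |>.mp h0
        exact (map_eq_zero φ).mp this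
    · rintro rfl
      apply Units.ext
      rw [e, Units.val_one, ← E6_zero]
      simp
  have hone : g = 1 ↔ t = 0 ∧ u = 0 ∧ v = 0 := by
    constructor
    · rintro rfl
      obtain ⟨e1, e2, e3⟩ := h.inj hF (isW_one hF)
      exact ⟨e1, e2, e3⟩
    · rintro ⟨rfl, rfl, rfl⟩
      exact Units.ext (h.trans (isW_one hF).symm)
  rw [hcube]
  constructor
  · rintro ⟨ht, hne⟩
    refine ⟨ht, fun huv => hne ?_⟩
    rw [Prod.mk.injEq] at huv
    exact hone.mpr ⟨ht, huv.1, huv.2⟩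
  · rintro ⟨ht, hne⟩
    refine ⟨ht, fun h1 => hne ?_⟩
    obtain ⟨-, hu, hv⟩ := hone.mp h1
    rw [hu, hv]

variable [Fintype K]

/-- `U¹` has `q² - 1` elements of order 3 -/
theorem ree_card_order_three (hF : ReeField K m φ ψ) (hK : Fintype.card K = 3 ^ (2 * m + 1))
    (hτ : ReeAut m τ) :
    Nat.card {u : ↥(chevG2.posUnipotent K ⊓ twistedG2 K (3 ^ m)) // orderOf u = 3} =
      (3 ^ (2 * m + 1)) ^ 2 - 1 := by
  classical
  let f : {p : K × K // p ≠ (0, 0)} →
      {u : ↥(chevG2.posUnipotent K ⊓ twistedG2 K (3 ^ m)) // orderOf u = 3} := fun p =>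
    ⟨⟨Classical.choose (exists_isW' (K := K) (m := m) 0 p.1.1 p.1.2),
      (Classical.choose_spec (exists_isW' (K := K) (m := m) 0 p.1.1 p.1.2)).mem hF hτ⟩, by
      rw [Subgroup.orderOf_mk,
        (Classical.choose_spec (exists_isW' (K := K) (m := m) 0 p.1.1 p.1.2)).orderOf_eq_three hF]
      exact ⟨rfl, p.2⟩⟩
  have hf : ∀ p, IsW m ((f p).1 : GL chevG2.Idx K) 0 p.1.1 p.1.2 := fun p =>
    Classical.choose_spec (exists_isW' (K := K) (m := m) 0 p.1.1 p.1.2)
  have hbij : Function.Bijective f := by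
    constructor
    · rintro ⟨⟨u, v⟩, hp⟩ ⟨⟨u', v'⟩, hp'⟩ h
      have h1 := hf ⟨(u, v), hp⟩
      rw [h] at h1
      obtain ⟨-, rfl, rfl⟩ := h1.inj hF (hf ⟨(u', v'), hp'⟩)
      rfl
    · rintro ⟨⟨g, hg⟩, ho⟩
      obtain ⟨t, u, v, hW⟩ := exists_isW hF hτ hg
      rw [Subgroup.orderOf_mk, hW.orderOf_eq_three hF] at ho
      obtain ⟨rfl, hne⟩ := ho
      refine ⟨⟨(u, v), hne⟩, ?_⟩
      apply Subtype.ext
      apply Subtype.ext
      exact Units.ext ((hf ⟨(u, v), hne⟩).trans hW.symm)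
  rw [← Nat.card_congr (Equiv.ofBijective f hbij), Nat.card_eq_fintype_card,
    Fintype.card_subtype_compl, Fintype.card_prod, hK, Fintype.card_subtype_eq, sq]

end

end Cfsg.Agent.Lib.Helper8.Chev
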