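import Cfsg.Agent.Lib.Helper8.ChevRee33

set_option autoImplicit false

/-! The Sylow 3-subgroups of the Ree group intersect trivially. -/

namespace Cfsg.Agent.Lib.Helper8.Chev

open Cfsg.Lie Matrix

section

variable {K : Type*} [Field K] [Fintype K] {m : ℕ} {φ ψ : K →+* K}
variable {τ : ↥(chevG2.group K) →* ↥(chevG2.group K)}

omit [Fintype K] in
theorem borel_conj_pos {b y : GL chevG2.Idx K} (hb : b ∈ chevG2.borelSubgroup K)
    (hy : y ∈ chevG2.posUnipotent K) : b * y * b⁻¹ ∈ chevG2.posUnipotent K :=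
  (Subgroup.mem_normalizer_iff.mp (borel_le_normalizer_pos (validJ_of_mem hDG2)
    (valid1_of_mem hDG2) (validH_of_mem hDG2) hb) y).mp hy

/-- `U¹ ∩ g U¹ g⁻¹ = 1` for `g ∉ B¹` -/
theorem ree_TI (hF : ReeField K m φ ψ) (hK : Fintype.card K = 3 ^ (2 * m + 1))
    (hτ : ReeAut m τ) {g : GL chevG2.Idx K} (hg : g ∈ twistedG2 K (3 ^ m))
    (hgB : g ∉ chevG2.borelSubgroup K) {x : GL chevG2.Idx K}
    (hx : x ∈ chevG2.posUnipotent K) (hx' : g⁻¹ * x * g ∈ chevG2.posUnipotent K) : x = 1 := by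
  have V1 := valid1_of_mem hDG2
  have J := validJ_of_mem hDG2
  have H := validH_of_mem hDG2
  have P := posP_of_mem hDG2
  have Tr := triP_of_mem hDG2
  rcases ree_decomp hF hK hτ ⟨g, hg⟩ with h | ⟨b, hb, b', hb', e⟩
  · exact absurd (mem_reeB.mp h) hgB
  · have hbB := mem_reeB.mp hb
    have hb'B := mem_reeB.mp hb'
    have e' : g = (b : GL chevG2.Idx K) * reeN0 K * (b' : GL chevG2.Idx K) :=
      congrArg Subtype.val e
    -- `y' = b' (g⁻¹ x g) b'⁻¹ ∈ U`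
    have hy' := borel_conj_pos hb'B hx'
    have hV := reeN0_conj_pos hF hτ hy'
    have hU : (b : GL chevG2.Idx K)⁻¹ * x * (b : GL chevG2.Idx K) ∈ chevG2.posUnipotent K := by
      have := borel_conj_pos (inv_mem hbB) hx
      rwa [inv_inv] at this
    have e2 : reeN0 K * ((b' : GL chevG2.Idx K) * (g⁻¹ * x * g) * (b' : GL chevG2.Idx K)⁻¹) *
        (reeN0 K)⁻¹ = (b : GL chevG2.Idx K)⁻¹ * x * (b : GL chevG2.Idx K) := by
      rw [e']; group
    rw [e2] at hV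
    have : (b : GL chevG2.Idx K)⁻¹ * x * (b : GL chevG2.Idx K) ∈
        chevG2.borelSubgroup K ⊓ chevG2.negUnipotent K := ⟨pos_le_borel hU, hV⟩
    rw [borel_inf_neg J V1 H Tr P, Subgroup.mem_bot] at this
    have e3 : x = (b : GL chevG2.Idx K) * ((b : GL chevG2.Idx K)⁻¹ * x * (b : GL chevG2.Idx K)) *
        (b : GL chevG2.Idx K)⁻¹ := by group
    rw [e3, this]
    group

/-- the subgroup `U¹` of the Ree group -/
def reeU (K : Type*) [Field K] (m : ℕ) : Subgroup ↥(twistedG2 K (3 ^ m)) :=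
  (chevG2.posUnipotent K ⊓ twistedG2 K (3 ^ m)).subgroupOf (twistedG2 K (3 ^ m))

omit [Fintype K] in
theorem mem_reeU {g : ↥(twistedG2 K (3 ^ m))} :
    g ∈ reeU K m ↔ (g : GL chevG2.Idx K) ∈ chevG2.posUnipotent K := by
  unfold reeU
  rw [Subgroup.mem_subgroupOf, Subgroup.mem_inf]
  exact ⟨fun h => h.1, fun h => ⟨h, g.2⟩⟩

theorem card_reeU (hF : ReeField K m φ ψ) (hτ : ReeAut m τ) :
    Nat.card ↥(reeU K m) = Fintype.card K ^ 3 := by
  rw [← card_pos_inf_twisted hF hτ]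
  exact Nat.card_congr (Subgroup.subgroupOfEquivOfLe
    (inf_le_right : chevG2.posUnipotent K ⊓ twistedG2 K (3 ^ m) ≤ twistedG2 K (3 ^ m))).toEquiv

theorem factorization_card_ree (hF : ReeField K m φ ψ) (hK : Fintype.card K = 3 ^ (2 * m + 1))
    (hτ : ReeAut m τ) :
    (Nat.card ↥(twistedG2 K (3 ^ m))).factorization 3 = 3 * (2 * m + 1) := by
  rw [card_twistedG2 hF hK hτ]
  have hq : 3 ∣ 3 ^ (2 * m + 1) := dvd_pow_self 3 (by omega)
  obtain ⟨k, hk⟩ := hq
  have hkpos : 0 < k := by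
    rcases Nat.eq_zero_or_pos k with h | h
    · rw [h, mul_zero] at hk
      exact absurd hk (by positivity)
    · exact h
  have h1 : ¬ 3 ∣ 3 ^ (2 * m + 1) - 1 := by rw [hk]; omega
  have h2 : ¬ 3 ∣ (3 ^ (2 * m + 1)) ^ 3 + 1 := by
    rw [hk]
    have : (3 * k) ^ 3 = 3 * (9 * k ^ 3) := by ring
    rw [this]; omega
  have hne1 : (3 ^ (2 * m + 1)) ^ 3 ≠ 0 := by positivity
  have hne2 : 3 ^ (2 * m + 1) - 1 ≠ 0 := by rw [hk]; omega
  have hne3 : (3 ^ (2 * m + 1)) ^ 3 + 1 ≠ 0 := by positivity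
  rw [Nat.factorization_mul (mul_ne_zero hne1 hne2) hne3, Nat.factorization_mul hne1 hne2,
    Finsupp.add_apply, Finsupp.add_apply, Nat.factorization_eq_zero_of_not_dvd h1,
    Nat.factorization_eq_zero_of_not_dvd h2, ← pow_mul, Nat.Prime.factorization_pow Nat.prime_three,
    Finsupp.single_eq_same]
  ring

/-- distinct Sylow 3-subgroups of the Ree group intersect trivially -/
theorem ree_sylow_TI (hF : ReeField K m φ ψ) (hK : Fintype.card K = 3 ^ (2 * m + 1))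
    (hτ : ReeAut m τ) (P Q : Sylow 3 ↥(twistedG2 K (3 ^ m))) (hPQ : P ≠ Q) :
    (P : Subgroup ↥(twistedG2 K (3 ^ m))) ⊓ (Q : Subgroup ↥(twistedG2 K (3 ^ m))) = ⊥ := by
  have : Fact (Nat.Prime 3) := ⟨Nat.prime_three⟩
  have hcard : Nat.card ↥(reeU K m) = 3 ^ (Nat.card ↥(twistedG2 K (3 ^ m))).factorization 3 := by
    rw [card_reeU hF hτ, factorization_card_ree hF hK hτ, hK, ← pow_mul, mul_comm]
  let S₀ : Sylow 3 ↥(twistedG2 K (3 ^ m)) := Sylow.ofCard (reeU K m) hcard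
  have hS₀ : (S₀ : Subgroup ↥(twistedG2 K (3 ^ m))) = reeU K m := Sylow.coe_ofCard _ _
  have hmem : ∀ (a x : ↥(twistedG2 K (3 ^ m))), x ∈ ((a • S₀ : Sylow 3 _) : Subgroup _) ↔
      a⁻¹ * x * a ∈ reeU K m := by
    intro a x
    rw [Sylow.coe_subgroup_smul, Subgroup.mem_pointwise_smul_iff_inv_smul_mem, hS₀,
      MulAut.smul_def, MulAut.conj_inv_apply]
  -- `B¹` normalises `U¹`
  have hnorm : ∀ g : ↥(twistedG2 K (3 ^ m)), g ∈ reeB K m → g • S₀ = S₀ := by
    intro g hg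
    have hgB := mem_reeB.mp hg
    apply Sylow.ext
    ext x
    rw [hmem, hS₀, mem_reeU, mem_reeU]
    constructor
    · intro h
      have := borel_conj_pos hgB h
      have e : (g : GL chevG2.Idx K) * ((g⁻¹ * x * g : ↥(twistedG2 K (3 ^ m))) :
          GL chevG2.Idx K) * (g : GL chevG2.Idx K)⁻¹ = x := by
        simp only [Subgroup.coe_mul, Subgroup.coe_inv]; group
      rwa [e] at this
    · intro h
      have := borel_conj_pos (inv_mem hgB) h
      rw [inv_inv] at this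
      simpa only [Subgroup.coe_mul, Subgroup.coe_inv] using this
  obtain ⟨a, rfl⟩ := MulAction.exists_smul_eq ↥(twistedG2 K (3 ^ m)) S₀ P
  obtain ⟨b, rfl⟩ := MulAction.exists_smul_eq ↥(twistedG2 K (3 ^ m)) S₀ Q
  rw [Subgroup.eq_bot_iff_forall]
  intro x hx
  obtain ⟨hxa, hxb⟩ := Subgroup.mem_inf.mp hx
  rw [hmem] at hxa hxb
  have hg : a⁻¹ * b ∉ reeB K m := by
    intro h
    apply hPQ
    have := hnorm _ h
    rw [mul_smul] at this
    have h2 := congrArg (fun S => a • S) this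
    simp only [smul_inv_smul] at h2
    exact h2.symm
  have key := ree_TI hF hK hτ (a⁻¹ * b).2 (fun h => hg (mem_reeB.mpr h))
    (x := ((a⁻¹ * x * a : ↥(twistedG2 K (3 ^ m))) : GL chevG2.Idx K)) (mem_reeU.mp hxa) (by
      have := mem_reeU.mp hxb
      have e : ((a⁻¹ * b : ↥(twistedG2 K (3 ^ m))) : GL chevG2.Idx K)⁻¹ *
          ((a⁻¹ * x * a : ↥(twistedG2 K (3 ^ m))) : GL chevG2.Idx K) *
          ((a⁻¹ * b : ↥(twistedG2 K (3 ^ m))) : GL chevG2.Idx K) =
          ((b⁻¹ * x * b : ↥(twistedG2 K (3 ^ m))) : GL chevG2.Idx K) := by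
        simp only [Subgroup.coe_mul, Subgroup.coe_inv]; group
      rw [e]; exact this)
  have h1 : a⁻¹ * x * a = 1 := Subtype.ext key
  have : x = a * (a⁻¹ * x * a) * a⁻¹ := by group
  rw [this, h1]
  group

end

end Cfsg.Agent.Lib.Helper8.Chev
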