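import Cfsg.Agent.Lib.Helper8.ChevRee34

set_option autoImplicit false

/-! Point stabilisers of the Ree group: the matrix level. -/

namespace Cfsg.Agent.Lib.Helper8.Chev

open Cfsg.Lie Matrix

section

variable {K : Type*} [Field K] [Fintype K] {m : ℕ} {φ ψ : K →+* K}
variable {τ : ↥(chevG2.group K) →* ↥(chevG2.group K)}

/-- the involution of `H¹` -/
noncomputable def reeInv (K : Type*) [Field K] : GL chevG2.Idx K := hh (-1 : Kˣ) (-1)

omit [Fintype K] in
theorem reeInv_eq (m : ℕ) : reeInv K = hh ((-1 : Kˣ) ^ 3 ^ m) (-1) := by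
  unfold reeInv
  rw [Odd.neg_one_pow (Odd.pow (by decide : Odd 3))]

theorem reeInv_mem (hF : ReeField K m φ ψ) (hK : Fintype.card K = 3 ^ (2 * m + 1))
    (hτ : ReeAut m τ) : reeInv K ∈ chevG2.diagonalSubgroup K ⊓ twistedG2 K (3 ^ m) :=
  (diag_inf_twisted_iff hF hK hτ _).mpr ⟨-1, reeInv_eq m⟩

omit [Fintype K] in
theorem reeInv_ne_one (hF : ReeField K m φ ψ) : reeInv K ≠ 1 := by
  intro h
  unfold reeInv at h
  rw [← hh_one] at h
  exact neg_one_ne_one hF (hh_inj h).1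

/-- the centraliser in `H¹` of a nontrivial element of `U¹` has order at most two -/
theorem ree_cent_cases (hF : ReeField K m φ ψ) (hK : Fintype.card K = 3 ^ (2 * m + 1))
    (hτ : ReeAut m τ) {h u : GL chevG2.Idx K}
    (hh' : h ∈ chevG2.diagonalSubgroup K ⊓ twistedG2 K (3 ^ m))
    (hu : u ∈ chevG2.posUnipotent K ⊓ twistedG2 K (3 ^ m)) (hu1 : u ≠ 1)
    (hcomm : h * u * h⁻¹ = u) : h = 1 ∨ h = reeInv K := by
  obtain ⟨c, rfl⟩ := (diag_inf_twisted_iff hF hK hτ h).mp hh'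
  obtain ⟨t, a, v, hg⟩ := exists_isW hF hτ hu
  obtain ⟨e1, e2⟩ := hg.conj hF (c ^ 3 ^ m) c (by rw [hcomm]; exact hg)
  by_cases ht : t = 0
  · obtain ⟨e3, e4⟩ := e2 ht
    by_cases ha : a = 0
    · have hv : v ≠ 0 := by
        rintro rfl
        subst ht ha
        exact hu1 (Units.ext (hg.trans (isW_one hF).symm))
      left
      have : (chiH (c ^ 3 ^ m) c 11 - 1) * v = 0 := by linear_combination -e4
      have h11 := (mul_eq_zero.mp this).resolve_right hv
      rw [chiH_11] at h11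
      have hc : c = 1 := Units.ext (by rw [Units.val_one]; exact sub_eq_zero.mp h11)
      rw [hc, one_pow, hh_one]
    · have : (chiH (c ^ 3 ^ m) c 10 - 1) * a = 0 := by linear_combination -e3
      have h10 := (mul_eq_zero.mp this).resolve_right ha
      rw [chiH_10] at h10
      have h' : (((c ^ 3 ^ m) ^ 3 * c⁻¹ : Kˣ) : K) = ((1 : Kˣ) : K) := by
        rw [Units.val_one]; exact sub_eq_zero.mp h10
      have hsq := hF.unit_sq_eq_one (Units.ext h')
      have hc : c = 1 ∨ c = -1 := by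
        have : c⁻¹ = c := by
          rw [inv_eq_iff_eq_inv, ← mul_eq_one_iff_eq_inv, ← sq]
          exact hsq
        exact (Units.inv_eq_self_iff c).mp this
      rcases hc with rfl | rfl
      · left; rw [one_pow, hh_one]
      · right; exact (reeInv_eq m).symm
  · left
    have : (chiH (c ^ 3 ^ m) c 6 - 1) * t = 0 := by linear_combination -e1
    have h6 := (mul_eq_zero.mp this).resolve_right ht
    rw [chiH_6] at h6
    have h' : ((((c ^ 3 ^ m) ^ 3)⁻¹ * c ^ 2 : Kˣ) : K) = ((1 : Kˣ) : K) := by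
      rw [Units.val_one]; exact sub_eq_zero.mp h6
    have hc := hF.unit_eq_one (Units.ext h')
    rw [hc, one_pow, hh_one]

omit [Fintype K] in
/-- the involution of `H¹` centralises `W(0,a,0)` -/
theorem reeInv_comm (hF : ReeField K m φ ψ) {g : GL chevG2.Idx K} {a : K}
    (hg : IsW m g 0 a 0) : reeInv K * g * (reeInv K)⁻¹ = g := by
  have := hF.char3
  rw [isW_iff hF] at hg
  have h8 : chiH (-1 : Kˣ) (-1) 8 = 1 := by
    rw [chiH_val]
    have c0 : chevG2.cartan 0 8 = -1 := by decide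
    have c1 : chevG2.cartan 1 8 = 1 := by decide
    rw [c0, c1, _root_.zpow_neg_one, _root_.zpow_one, inv_mul_cancel, Units.val_one]
  have h10 : chiH (-1 : Kˣ) (-1) 10 = 1 := by
    rw [chiH_10]
    have : ((-1 : Kˣ) ^ 3 * (-1)⁻¹ : Kˣ) = 1 := by
      rw [Odd.neg_one_pow (by decide : Odd 3), mul_inv_cancel]
    rw [this, Units.val_one]
  have e : ((reeInv K : GL chevG2.Idx K) : Matrix chevG2.Idx chevG2.Idx K) *
      (g : Matrix chevG2.Idx chevG2.Idx K) =
      (g : Matrix chevG2.Idx chevG2.Idx K) *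
      ((reeInv K : GL chevG2.Idx K) : Matrix chevG2.Idx chevG2.Idx K) := by
    unfold reeInv
    rw [hg, hh_mul_E6, h8, h10]
    simp only [map_zero, mul_zero, one_mul, add_zero, zero_pow, ne_eq,
      OfNat.ofNat_ne_zero, not_false_eq_true]
  have e' : reeInv K * g = g * reeInv K := Units.ext e
  rw [e', mul_inv_cancel_right]

omit [Fintype K] in
/-- the stabiliser of two points lies in `H` -/
theorem ree_two_point (hF : ReeField K m φ ψ) (hτ : ReeAut m τ) {γ : GL chevG2.Idx K}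
    (hγ : γ ∈ chevG2.borelSubgroup K)
    (hγ' : reeN0 K * γ * (reeN0 K)⁻¹ ∈ chevG2.borelSubgroup K) :
    γ ∈ chevG2.diagonalSubgroup K := by
  have V1 := valid1_of_mem hDG2
  have J := validJ_of_mem hDG2
  have H := validH_of_mem hDG2
  have P := posP_of_mem hDG2
  have Tr := triP_of_mem hDG2
  obtain ⟨u, hu, h, hh, rfl⟩ := borel_decomp J V1 H hγ
  have h1 : reeN0 K * h * (reeN0 K)⁻¹ ∈ chevG2.diagonalSubgroup K :=
    conj_mem_diagonal reeN0_mem_monomial hh
  have h2 : reeN0 K * u * (reeN0 K)⁻¹ ∈ chevG2.negUnipotent K := reeN0_conj_pos hF hτ hu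
  have h3 : reeN0 K * u * (reeN0 K)⁻¹ ∈ chevG2.borelSubgroup K := by
    have e : reeN0 K * u * (reeN0 K)⁻¹ =
        (reeN0 K * (u * h) * (reeN0 K)⁻¹) * (reeN0 K * h * (reeN0 K)⁻¹)⁻¹ := by group
    rw [e]
    exact mul_mem hγ' (inv_mem (diagonal_le_borel h1))
  have h4 : reeN0 K * u * (reeN0 K)⁻¹ ∈ chevG2.borelSubgroup K ⊓ chevG2.negUnipotent K :=
    ⟨h3, h2⟩
  rw [borel_inf_neg J V1 H Tr P, Subgroup.mem_bot] at h4
  have hu1 : u = 1 := by
    have e : u = (reeN0 K)⁻¹ * (reeN0 K * u * (reeN0 K)⁻¹) * reeN0 K := by group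
    rw [e, h4]; group
  rw [hu1, one_mul]
  exact hh

omit [Fintype K] in
/-- the stabiliser of three points centralises an element of `U¹` -/
theorem ree_three_point (hF : ReeField K m φ ψ) (hτ : ReeAut m τ) {γ u : GL chevG2.Idx K}
    (hγ : γ ∈ chevG2.diagonalSubgroup K) (hu : u ∈ chevG2.posUnipotent K)
    (h3 : reeN0 K * (u⁻¹ * γ * u) * (reeN0 K)⁻¹ ∈ chevG2.borelSubgroup K) :
    γ * u * γ⁻¹ = u := by
  have V1 := valid1_of_mem hDG2
  have J := validJ_of_mem hDG2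
  have H := validH_of_mem hDG2
  have P := posP_of_mem hDG2
  have Tr := triP_of_mem hDG2
  have hw : u⁻¹ * (γ * u * γ⁻¹) ∈ chevG2.posUnipotent K :=
    mul_mem (inv_mem hu) (borel_conj_pos (diagonal_le_borel hγ) hu)
  have h1 : reeN0 K * γ * (reeN0 K)⁻¹ ∈ chevG2.diagonalSubgroup K :=
    conj_mem_diagonal reeN0_mem_monomial hγ
  have h2 := reeN0_conj_pos hF hτ hw
  have h4 : reeN0 K * (u⁻¹ * (γ * u * γ⁻¹)) * (reeN0 K)⁻¹ ∈ chevG2.borelSubgroup K := by
    have e : reeN0 K * (u⁻¹ * (γ * u * γ⁻¹)) * (reeN0 K)⁻¹ =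
        (reeN0 K * (u⁻¹ * γ * u) * (reeN0 K)⁻¹) * (reeN0 K * γ * (reeN0 K)⁻¹)⁻¹ := by group
    rw [e]
    exact mul_mem h3 (inv_mem (diagonal_le_borel h1))
  have h5 : reeN0 K * (u⁻¹ * (γ * u * γ⁻¹)) * (reeN0 K)⁻¹ ∈
      chevG2.borelSubgroup K ⊓ chevG2.negUnipotent K := ⟨h4, h2⟩
  rw [borel_inf_neg J V1 H Tr P, Subgroup.mem_bot] at h5
  have hw1 : u⁻¹ * (γ * u * γ⁻¹) = 1 := by
    have e : u⁻¹ * (γ * u * γ⁻¹) =
        (reeN0 K)⁻¹ * (reeN0 K * (u⁻¹ * (γ * u * γ⁻¹)) * (reeN0 K)⁻¹) * reeN0 K := by group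
    rw [e, h5]; group
  exact (inv_mul_eq_one.mp hw1).symm

end

end Cfsg.Agent.Lib.Helper8.Chev
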