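import Cfsg.Agent.Lib.Helper8.ChevRee3
import Cfsg.Agent.Lib.Helper8.ChevU5
import Cfsg.Prelude.Def_LieTwisted

set_option autoImplicit false

/-! The fixed points of the twisting endomorphism in `U`. -/

namespace Cfsg.Agent.Lib.Helper8.Chev

open Cfsg.Lie Matrix

section

variable {K : Type*} [Field K]

theorem wordMat_nil' : chevG2.wordMat K [] = 1 := rfl

theorem wordMat_cons' (p : ℕ × K) (w : List (ℕ × K)) :
    chevG2.wordMat K (p :: w) = chevG2.x K p.1 p.2 * chevG2.wordMat K w := by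
  simp [ChevalleyDatum.wordMat]

/-- an element of the group with a given word as matrix -/
theorem exists_wordG (w : List (ℕ × K)) (hw : ∀ p ∈ w, p.1 < 12) :
    ∃ g : ↥(chevG2.group K), gmat g = chevG2.wordMat K w := by
  obtain ⟨g, hg, hm⟩ := word_mem_group (F := K) (valid0_of_mem hDG2) (valid1_of_mem hDG2) w hw
  exact ⟨⟨g, hg⟩, by rw [wordMat_eq_wN]; exact hm⟩

variable {m : ℕ} {τ : ↥(chevG2.group K) →* ↥(chevG2.group K)}

/-- the twisting map on words -/
def tauW (m : ℕ) (w : List (ℕ × K)) : List (ℕ × K) :=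
  w.map fun p => (barG p.1, p.2 ^ (lamG p.1 * 3 ^ m))

theorem barG_lt {r : ℕ} (hr : r < 12) : barG r < 12 := by
  interval_cases r <;> decide

theorem tauW_lt (w : List (ℕ × K)) (hw : ∀ p ∈ w, p.1 < 12) : ∀ p ∈ tauW m w, p.1 < 12 := by
  intro p hp
  unfold tauW at hp
  rw [List.mem_map] at hp
  obtain ⟨q, hq, rfl⟩ := hp
  exact barG_lt (hw q hq)

theorem tau_word (hτ : ReeAut m τ) : ∀ (w : List (ℕ × K)), (∀ p ∈ w, p.1 < 12) →
    ∀ g : ↥(chevG2.group K), gmat g = chevG2.wordMat K w →
      gmat (τ g) = chevG2.wordMat K (tauW m w) := by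
  intro w
  induction w with
  | nil =>
    intro _ g hg
    have : g = 1 := gmat_injective (by rw [hg, gmat_one]; rfl)
    rw [this, map_one, gmat_one]; rfl
  | cons p w ih =>
    intro hw g hg
    obtain ⟨g1, hg1⟩ := exists_wordG (K := K) [p] (by
      intro q hq; rw [List.mem_singleton] at hq; rw [hq]; exact hw p List.mem_cons_self)
    obtain ⟨g2, hg2⟩ := exists_wordG (K := K) w (fun q hq => hw q (List.mem_cons_of_mem _ hq))
    have hg1' : gmat g1 = chevG2.x K p.1 p.2 := by
      rw [hg1, wordMat_cons', wordMat_nil', mul_one]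
    have e : g = g1 * g2 := gmat_injective (by rw [gmat_mul, hg, hg1', hg2, wordMat_cons'])
    rw [e, map_mul, gmat_mul, hτ.map_x g1 p.1 p.2 (hw p List.mem_cons_self) hg1',
      ih (fun q hq => hw q (List.mem_cons_of_mem _ hq)) g2 hg2]
    unfold tauW
    rw [List.map_cons, wordMat_cons']

end

end Cfsg.Agent.Lib.Helper8.Chev
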