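import Cfsg.Agent.Lib.Helper8.ChevRee4

set_option autoImplicit false

/-! The fixed points of the twisting endomorphism in `U`: the Ree words. -/

namespace Cfsg.Agent.Lib.Helper8.Chev

open Cfsg.Lie Matrix

/-- the positive root elements, indexed by `0, …, 5` -/
def xp (K : Type*) [Field K] (i : ℕ) (c : K) : Matrix chevG2.Idx chevG2.Idx K := chevG2.x K (6 + i) c

/-- the negative root elements with a sign, indexed by `0, …, 5` -/
def xm (K : Type*) [Field K] (i : ℕ) (c : K) : Matrix chevG2.Idx chevG2.Idx K := chevG2.x K (5 - i) (-c)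

/-- the two Frobenius maps `φ = (·)^θ`, `ψ = (·)^(3θ)` of a field with `3θ²` elements -/
structure ReeField (K : Type*) [Field K] (m : ℕ) (φ ψ : K →+* K) : Prop where
  char3 : CharP K 3
  phi : ∀ t : K, φ t = t ^ 3 ^ m
  psi : ∀ t : K, ψ t = t ^ (3 * 3 ^ m)
  psi_phi : ∀ t : K, ψ (φ t) = t

namespace ReeField

variable {K : Type*} [Field K] {m : ℕ} {φ ψ : K →+* K}

theorem psi3 (hF : ReeField K m φ ψ) (t : K) : ψ t = φ t ^ 3 := by
  rw [hF.psi, hF.phi, ← pow_mul, mul_comm]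

theorem phi_psi (hF : ReeField K m φ ψ) (t : K) : φ (ψ t) = t := by
  rw [hF.phi, hF.psi, ← pow_mul, mul_comm, pow_mul, ← hF.phi, ← hF.psi, hF.psi_phi]

theorem phi1 (hF : ReeField K m φ ψ) (t : K) : t ^ (1 * 3 ^ m) = φ t := by
  rw [one_mul, hF.phi]

theorem pow_succ1 (hF : ReeField K m φ ψ) (t : K) : t ^ (3 ^ m + 1) = t * φ t := by
  rw [pow_succ, mul_comm, hF.phi]

theorem pow_succ2 (hF : ReeField K m φ ψ) (t : K) : t ^ (2 * 3 ^ m + 1) = t * φ t ^ 2 := by
  rw [pow_succ, mul_comm, hF.phi, ← pow_mul, mul_comm 2]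

theorem three (hF : ReeField K m φ ψ) : (3 : K) = 0 := by
  have := hF.char3
  exact three_eq_zero

end ReeField

theorem exists_reeField {K : Type*} [Field K] [Fintype K] {m : ℕ}
    (hK : Fintype.card K = 3 ^ (2 * m + 1)) : ∃ φ ψ : K →+* K, ReeField K m φ ψ := by
  have hc := charP_three_of_card hK
  have : Fact (Nat.Prime 3) := ⟨Nat.prime_three⟩
  refine ⟨iterateFrobenius K 3 m, iterateFrobenius K 3 (m + 1), hc, ?_, ?_, ?_⟩
  · intro t; rw [iterateFrobenius_def]
  · intro t; rw [iterateFrobenius_def, pow_succ, mul_comm]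
  · intro t
    rw [iterateFrobenius_def, iterateFrobenius_def, ← pow_mul, ← pow_add]
    have := FiniteField.pow_card t
    rw [hK] at this
    rw [show m + (m + 1) = 2 * m + 1 by ring]
    exact this

section Abs

variable {K : Type*} [Field K] {m : ℕ} {φ ψ : K →+* K}
variable {M : Type*} [Monoid M] {y : ℕ → K → M}

/-- the Ree word equals the word obtained by applying the twisting map letter by letter -/
theorem G2Rel.ree_fixed (R : G2Rel y) (hF : ReeField K m φ ψ) (t u v : K) :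
    y 1 (φ t) * (y 0 t * (y 2 (t * φ t + φ u) * (y 3 (t * φ t ^ 2 + φ v) * (y 4 u * (y 5 v * 1))))) =
    y 0 (ψ (φ t)) * (y 1 (φ t) * (y 4 (ψ (t * φ t + φ u)) * (y 5 (ψ (t * φ t ^ 2 + φ v)) *
      (y 2 (φ u) * (y 3 (φ v) * 1))))) := by
  rw [mul_one, mul_one, R.ree_canon, R.A4_perm]
  unfold G2Rel.E6
  simp only [map_add, map_mul, map_pow, hF.psi_phi]
  rw [hF.psi3 t]
  congr 3
  · ring
  · ring

/-- the canonical coordinates of a Ree word -/
theorem G2Rel.ree_E6 (R : G2Rel y) (φ : K →+* K) (t u v : K) :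
    y 1 (φ t) * (y 0 t * (y 2 (t * φ t + φ u) * (y 3 (t * φ t ^ 2 + φ v) * (y 4 u * (y 5 v * 1))))) =
      G2Rel.E6 y t (φ t) (φ u) (φ v) (u + t * φ t ^ 3) (v + t ^ 2 * φ t ^ 3) := by
  rw [mul_one, R.ree_canon]

end Abs

end Cfsg.Agent.Lib.Helper8.Chev
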