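import Cfsg.Agent.Lib.Helper8.ChevRee5

set_option autoImplicit false

/-! The Ree words are fixed by the twisting endomorphism. -/

namespace Cfsg.Agent.Lib.Helper8.Chev

open Cfsg.Lie Matrix

section

variable {K : Type*} [Field K] {m : ℕ} {φ ψ : K →+* K}

theorem g2Rel_xp [CharP K 3] : G2Rel (xp K) := g2Rel_pos
theorem g2Rel_xm [CharP K 3] : G2Rel (xm K) := g2Rel_neg

theorem wordMat_reeU (hF : ReeField K m φ ψ) (t u v : K) :
    chevG2.wordMat K (reeWordU (3 ^ m) t u v) =
      xp K 1 (φ t) * (xp K 0 t * (xp K 2 (t * φ t + φ u) * (xp K 3 (t * φ t ^ 2 + φ v) *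
        (xp K 4 u * (xp K 5 v * 1))))) := by
  unfold reeWordU
  simp only [wordMat_cons', wordMat_nil', hF.pow_succ1, hF.pow_succ2, ← hF.phi]
  rfl

theorem wordMat_reeV (hF : ReeField K m φ ψ) (t u v : K) :
    chevG2.wordMat K (reeWordV (3 ^ m) t u v) =
      xm K 1 (φ t) * (xm K 0 t * (xm K 2 (t * φ t + φ u) * (xm K 3 (t * φ t ^ 2 + φ v) *
        (xm K 4 u * (xm K 5 v * 1))))) := by
  unfold reeWordV reeWordU ChevalleyDatum.negWord
  simp only [List.map_cons, List.map_nil, wordMat_cons', wordMat_nil', hF.pow_succ1, hF.pow_succ2,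
    ← hF.phi]
  rfl

theorem odd_lam (r : ℕ) : Odd (lamG r * 3 ^ m) := by
  apply Odd.mul
  · unfold lamG lamN
    split_ifs
    · exact odd_one
    · exact ⟨1, rfl⟩
  · exact Odd.pow ⟨1, rfl⟩

theorem wordMat_tau_reeU (hF : ReeField K m φ ψ) (t u v : K) :
    chevG2.wordMat K (tauW m (reeWordU (3 ^ m) t u v)) =
      xp K 0 (ψ (φ t)) * (xp K 1 (φ t) * (xp K 4 (ψ (t * φ t + φ u)) * (xp K 5 (ψ (t * φ t ^ 2 + φ v)) *
        (xp K 2 (φ u) * (xp K 3 (φ v) * 1))))) := by
  unfold reeWordU tauW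
  simp only [List.map_cons, List.map_nil, wordMat_cons', wordMat_nil', hF.pow_succ1, hF.pow_succ2,
    ← hF.phi]
  have h7 : lamG g2a = 3 := by decide
  have h6 : lamG g2b = 1 := by decide
  have h8 : lamG g2ab = 3 := by decide
  have h9 : lamG g2aab = 3 := by decide
  have h10 : lamG g2aaab = 1 := by decide
  have h11 : lamG g2aaabb = 1 := by decide
  rw [h6, h7, h8, h9, h10, h11]
  simp only [hF.phi1, ← hF.psi]
  rfl

theorem wordMat_tau_reeV (hF : ReeField K m φ ψ) (t u v : K) :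
    chevG2.wordMat K (tauW m (reeWordV (3 ^ m) t u v)) =
      xm K 0 (ψ (φ t)) * (xm K 1 (φ t) * (xm K 4 (ψ (t * φ t + φ u)) * (xm K 5 (ψ (t * φ t ^ 2 + φ v)) *
        (xm K 2 (φ u) * (xm K 3 (φ v) * 1))))) := by
  unfold reeWordV reeWordU tauW ChevalleyDatum.negWord
  simp only [List.map_cons, List.map_nil, wordMat_cons', wordMat_nil', hF.pow_succ1, hF.pow_succ2,
    ← hF.phi, (odd_lam _).neg_pow]
  have h7 : lamG (chevG2.negIdx.getD g2a 0) = 3 := by decide
  have h6 : lamG (chevG2.negIdx.getD g2b 0) = 1 := by decide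
  have h8 : lamG (chevG2.negIdx.getD g2ab 0) = 3 := by decide
  have h9 : lamG (chevG2.negIdx.getD g2aab 0) = 3 := by decide
  have h10 : lamG (chevG2.negIdx.getD g2aaab 0) = 1 := by decide
  have h11 : lamG (chevG2.negIdx.getD g2aaabb 0) = 1 := by decide
  rw [h6, h7, h8, h9, h10, h11]
  simp only [hF.phi1, ← hF.psi]
  rfl

variable {τ : ↥(chevG2.group K) →* ↥(chevG2.group K)}

theorem reeU_lt (t u v : K) : ∀ p ∈ reeWordU (3 ^ m) t u v, p.1 < 12 := by
  intro p hp
  unfold reeWordU at hp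
  simp only [List.mem_cons, List.not_mem_nil, or_false] at hp
  rcases hp with rfl | rfl | rfl | rfl | rfl | rfl <;> (dsimp only; decide)

theorem reeV_lt (t u v : K) : ∀ p ∈ reeWordV (3 ^ m) t u v, p.1 < 12 := by
  intro p hp
  unfold reeWordV reeWordU ChevalleyDatum.negWord at hp
  simp only [List.map_cons, List.map_nil, List.mem_cons, List.not_mem_nil, or_false] at hp
  rcases hp with rfl | rfl | rfl | rfl | rfl | rfl <;> (dsimp only; decide)

/-- the positive Ree words are fixed -/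
theorem reeU_fixed (hF : ReeField K m φ ψ) (hτ : ReeAut m τ) (t u v : K)
    (g : ↥(chevG2.group K)) (hg : gmat g = chevG2.wordMat K (reeWordU (3 ^ m) t u v)) :
    τ g = g := by
  have := hF.char3
  apply gmat_injective
  rw [tau_word hτ _ (reeU_lt t u v) g hg, hg, wordMat_tau_reeU hF, wordMat_reeU hF,
    g2Rel_xp.ree_fixed hF]

/-- the negative Ree words are fixed -/
theorem reeV_fixed (hF : ReeField K m φ ψ) (hτ : ReeAut m τ) (t u v : K)
    (g : ↥(chevG2.group K)) (hg : gmat g = chevG2.wordMat K (reeWordV (3 ^ m) t u v)) :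
    τ g = g := by
  have := hF.char3
  apply gmat_injective
  rw [tau_word hτ _ (reeV_lt t u v) g hg, hg, wordMat_tau_reeV hF, wordMat_reeV hF,
    g2Rel_xm.ree_fixed hF]

end

end Cfsg.Agent.Lib.Helper8.Chev
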