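import Cfsg.Agent.Lib.Helper8.ChevRee6

set_option autoImplicit false

/-! The fixed points of the twisting endomorphism in `U` are the Ree words. -/

namespace Cfsg.Agent.Lib.Helper8.Chev

open Cfsg.Lie Matrix

section

variable {K : Type*} [Field K] {m : ℕ} {φ ψ : K →+* K}

theorem posRoots_G2 : chevG2.posRoots = [6, 7, 8, 9, 10, 11] := by decide

theorem wordMat_pos (c : ℕ → K) :
    chevG2.wordMat K (chevG2.posRoots.map fun r => (r, c r)) =
      G2Rel.E6 (xp K) (c 6) (c 7) (c 8) (c 9) (c 10) (c 11) := by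
  rw [posRoots_G2]
  simp only [List.map_cons, List.map_nil, wordMat_cons', wordMat_nil', mul_one]
  rfl

/-- the coordinate function with given values -/
def coord6 (c0 c1 c2 c3 c4 c5 : K) : ℕ → K := fun r =>
  if r = 6 then c0 else if r = 7 then c1 else if r = 8 then c2 else if r = 9 then c3
  else if r = 10 then c4 else if r = 11 then c5 else 0

theorem coord6_zero (c0 c1 c2 c3 c4 c5 : K) (r : ℕ) (hr : ¬ chevG2.IsPosRoot r) :
    coord6 c0 c1 c2 c3 c4 c5 r = 0 := by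
  unfold coord6
  have h6 : chevG2.IsPosRoot 6 := by decide
  have h7 : chevG2.IsPosRoot 7 := by decide
  have h8 : chevG2.IsPosRoot 8 := by decide
  have h9 : chevG2.IsPosRoot 9 := by decide
  have h10 : chevG2.IsPosRoot 10 := by decide
  have h11 : chevG2.IsPosRoot 11 := by decide
  split_ifs with a1 a2 a3 a4 a5 a6
  · exact absurd (a1 ▸ h6) hr
  · exact absurd (a2 ▸ h7) hr
  · exact absurd (a3 ▸ h8) hr
  · exact absurd (a4 ▸ h9) hr
  · exact absurd (a5 ▸ h10) hr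
  · exact absurd (a6 ▸ h11) hr
  · rfl

theorem E6_eq_wordMat (c0 c1 c2 c3 c4 c5 : K) :
    G2Rel.E6 (xp K) c0 c1 c2 c3 c4 c5 =
      chevG2.wordMat K (chevG2.posRoots.map fun r => (r, coord6 c0 c1 c2 c3 c4 c5 r)) := by
  rw [wordMat_pos]
  rfl

theorem E6_inj {c0 c1 c2 c3 c4 c5 d0 d1 d2 d3 d4 d5 : K}
    (h : G2Rel.E6 (xp K) c0 c1 c2 c3 c4 c5 = G2Rel.E6 (xp K) d0 d1 d2 d3 d4 d5) :
    c0 = d0 ∧ c1 = d1 ∧ c2 = d2 ∧ c3 = d3 ∧ c4 = d4 ∧ c5 = d5 := by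
  obtain ⟨hex, hall⟩ := posUnipotent_unique_word (F := K) hDG2
  obtain ⟨g, hg, hm⟩ := hall (coord6 c0 c1 c2 c3 c4 c5)
  obtain ⟨t, -, huniq⟩ := hex g hg
  have h1 := huniq (coord6 c0 c1 c2 c3 c4 c5) ⟨coord6_zero _ _ _ _ _ _, hm⟩
  have h2 := huniq (coord6 d0 d1 d2 d3 d4 d5) ⟨coord6_zero _ _ _ _ _ _, by
    rw [hm, ← E6_eq_wordMat, ← E6_eq_wordMat, h]⟩
  have e : coord6 c0 c1 c2 c3 c4 c5 = coord6 d0 d1 d2 d3 d4 d5 := h1.trans h2.symm
  refine ⟨congrFun e 6, congrFun e 7, congrFun e 8, congrFun e 9, congrFun e 10, congrFun e 11⟩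

theorem exists_E6_of_mem_pos {g : GL chevG2.Idx K} (hg : g ∈ chevG2.posUnipotent K) :
    ∃ c0 c1 c2 c3 c4 c5 : K, (g : Matrix chevG2.Idx chevG2.Idx K) =
      G2Rel.E6 (xp K) c0 c1 c2 c3 c4 c5 := by
  obtain ⟨hex, -⟩ := posUnipotent_unique_word (F := K) hDG2
  obtain ⟨t, ⟨-, ht⟩, -⟩ := hex g hg
  exact ⟨t 6, t 7, t 8, t 9, t 10, t 11, by rw [ht, wordMat_pos]⟩

variable {τ : ↥(chevG2.group K) →* ↥(chevG2.group K)}

theorem wordMat_tau_E6 (hF : ReeField K m φ ψ) (c0 c1 c2 c3 c4 c5 : K) :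
    chevG2.wordMat K (tauW m [(6, c0), (7, c1), (8, c2), (9, c3), (10, c4), (11, c5)]) =
      xp K 1 (φ c0) * (xp K 0 (ψ c1) * (xp K 4 (ψ c2) * (xp K 5 (ψ c3) *
        (xp K 2 (φ c4) * xp K 3 (φ c5))))) := by
  unfold tauW
  simp only [List.map_cons, List.map_nil, wordMat_cons', wordMat_nil', mul_one]
  have h7 : lamG 7 = 3 := by decide
  have h6 : lamG 6 = 1 := by decide
  have h8 : lamG 8 = 3 := by decide
  have h9 : lamG 9 = 3 := by decide
  have h10 : lamG 10 = 1 := by decide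
  have h11 : lamG 11 = 1 := by decide
  rw [h6, h7, h8, h9, h10, h11]
  simp only [hF.phi1, ← hF.psi]
  rfl

/-- the fixed points in `U` are Ree words -/
theorem pos_fixed (hF : ReeField K m φ ψ) (hτ : ReeAut m τ) (g : ↥(chevG2.group K))
    (hg : (g : GL chevG2.Idx K) ∈ chevG2.posUnipotent K) (hfix : τ g = g) :
    ∃ t u v : K, gmat g = chevG2.wordMat K (reeWordU (3 ^ m) t u v) := by
  have := hF.char3
  obtain ⟨c0, c1, c2, c3, c4, c5, hc⟩ := exists_E6_of_mem_pos hg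
  have hc' : gmat g = chevG2.wordMat K [(6, c0), (7, c1), (8, c2), (9, c3), (10, c4), (11, c5)] := by
    rw [show gmat g = _ from hc]
    simp only [wordMat_cons', wordMat_nil', mul_one]
    rfl
  have h1 := tau_word hτ _ (by
    intro p hp
    simp only [List.mem_cons, List.not_mem_nil, or_false] at hp
    rcases hp with rfl | rfl | rfl | rfl | rfl | rfl <;> (dsimp only; decide)) g hc'
  rw [hfix, wordMat_tau_E6 hF, (g2Rel_xp (K := K)).tau_canon] at h1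
  have h2 : gmat g = G2Rel.E6 (xp K) c0 c1 c2 c3 c4 c5 := hc
  rw [h2] at h1
  obtain ⟨e0, e1, e2, e3, e4, e5⟩ := E6_inj h1
  refine ⟨c0, c4 - c0 * φ c0 ^ 3, c5 - c0 ^ 2 * φ c0 ^ 3, ?_⟩
  rw [wordMat_reeU hF, (g2Rel_xp (K := K)).ree_E6 φ, h2]
  have hφ0 : φ c0 = c1 := e1.symm
  have hψ1 : ψ c1 = c0 := e0.symm
  have hp3 : φ c1 ^ 3 = c0 := by rw [← hF.psi3, hψ1]
  have hu : φ (c4 - c0 * φ c0 ^ 3) = c2 := by
    rw [map_sub, map_mul, map_pow, hφ0, hp3, e2, hψ1, hφ0]; ring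
  have hv : φ (c5 - c0 ^ 2 * φ c0 ^ 3) = c3 := by
    rw [map_sub, map_mul, map_pow, map_pow, hφ0, hp3, e3, hψ1, hφ0]; ring
  rw [hu, hv, hφ0, sub_add_cancel, sub_add_cancel]

end

end Cfsg.Agent.Lib.Helper8.Chev
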