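import Cfsg.Agent.Lib.Helper8.ChevRee7

set_option autoImplicit false

/-! The twisted group lies in the fixed points; the group `U¹`. -/

namespace Cfsg.Agent.Lib.Helper8.Chev

open Cfsg.Lie Matrix

section

variable {K : Type*} [Field K] {m : ℕ} {φ ψ : K →+* K}

theorem twistedG2_le_group (e : ℕ) : twistedG2 K e ≤ chevG2.group K := by
  unfold twistedG2 ChevalleyDatum.genSubgroup
  rw [Subgroup.closure_le]
  rintro g ⟨w, ⟨t, u, v, hw⟩, hg⟩
  have hlt : ∀ p ∈ w, p.1 < 12 := by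
    rcases hw with rfl | rfl
    · intro p hp
      unfold reeWordU at hp
      simp only [List.mem_cons, List.not_mem_nil, or_false] at hp
      rcases hp with rfl | rfl | rfl | rfl | rfl | rfl <;> (dsimp only; decide)
    · intro p hp
      unfold reeWordV reeWordU ChevalleyDatum.negWord at hp
      simp only [List.map_cons, List.map_nil, List.mem_cons, List.not_mem_nil, or_false] at hp
      rcases hp with rfl | rfl | rfl | rfl | rfl | rfl <;> (dsimp only; decide)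
  exact mem_group_of_word (F := K) (valid0_of_mem hDG2) (valid1_of_mem hDG2) w hlt g
    (by rw [hg, wordMat_eq_wN])

/-- the fixed points of `τ`, as a subgroup of `GL` -/
def fixT (τ : ↥(chevG2.group K) →* ↥(chevG2.group K)) : Subgroup (GL chevG2.Idx K) :=
  (MonoidHom.eqLocus τ (MonoidHom.id _)).map (chevG2.group K).subtype

variable {τ : ↥(chevG2.group K) →* ↥(chevG2.group K)}

theorem mem_fixT {g : GL chevG2.Idx K} :
    g ∈ fixT τ ↔ ∃ h : g ∈ chevG2.group K, τ ⟨g, h⟩ = ⟨g, h⟩ := by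
  unfold fixT
  rw [Subgroup.mem_map]
  constructor
  · rintro ⟨x, hx, rfl⟩
    exact ⟨x.2, hx⟩
  · rintro ⟨h, hx⟩
    exact ⟨⟨g, h⟩, hx, rfl⟩

theorem fixT_le_group : fixT τ ≤ chevG2.group K := by
  intro g hg
  obtain ⟨h, -⟩ := mem_fixT.1 hg
  exact h

theorem twistedG2_le_fixT (hF : ReeField K m φ ψ) (hτ : ReeAut m τ) :
    twistedG2 K (3 ^ m) ≤ fixT τ := by
  have hle := twistedG2_le_group (K := K) (3 ^ m)
  unfold twistedG2 ChevalleyDatum.genSubgroup at hle ⊢
  rw [Subgroup.closure_le]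
  intro g hg
  have hgG : g ∈ chevG2.group K := hle (Subgroup.subset_closure hg)
  obtain ⟨w, ⟨t, u, v, hw⟩, hgm⟩ := hg
  rw [SetLike.mem_coe, mem_fixT]
  refine ⟨hgG, ?_⟩
  rcases hw with rfl | rfl
  · exact reeU_fixed hF hτ t u v ⟨g, hgG⟩ hgm
  · exact reeV_fixed hF hτ t u v ⟨g, hgG⟩ hgm

/-- the Ree word as an element of `U ⊓ G¹` -/
theorem exists_reeU (t u v : K) : ∃ g : GL chevG2.Idx K,
    g ∈ chevG2.posUnipotent K ⊓ twistedG2 K (3 ^ m) ∧
      (g : Matrix chevG2.Idx chevG2.Idx K) = chevG2.wordMat K (reeWordU (3 ^ m) t u v) := by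
  obtain ⟨g, hg, hm⟩ := posUnipotent_word (F := K) hDG2 (reeWordU (3 ^ m) t u v) (by
    intro p hp
    unfold reeWordU at hp
    simp only [List.mem_cons, List.not_mem_nil, or_false] at hp
    rcases hp with rfl | rfl | rfl | rfl | rfl | rfl <;> (dsimp only; decide))
  have hm' : (g : Matrix chevG2.Idx chevG2.Idx K) = chevG2.wordMat K (reeWordU (3 ^ m) t u v) := by
    rw [hm, wordMat_eq_wN]
  refine ⟨g, Subgroup.mem_inf.mpr ⟨hg, ?_⟩, hm'⟩
  unfold twistedG2 ChevalleyDatum.genSubgroup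
  exact Subgroup.subset_closure ⟨_, ⟨t, u, v, Or.inl rfl⟩, hm'⟩

/-- `U ⊓ G¹` consists of the Ree words -/
theorem mem_pos_inf_twisted (hF : ReeField K m φ ψ) (hτ : ReeAut m τ) (g : GL chevG2.Idx K) :
    g ∈ chevG2.posUnipotent K ⊓ twistedG2 K (3 ^ m) ↔
      ∃ t u v : K, (g : Matrix chevG2.Idx chevG2.Idx K) =
        chevG2.wordMat K (reeWordU (3 ^ m) t u v) := by
  constructor
  · intro hg
    obtain ⟨h1, h2⟩ := Subgroup.mem_inf.mp hg
    obtain ⟨hG, hfix⟩ := mem_fixT.1 (twistedG2_le_fixT hF hτ h2)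
    exact pos_fixed hF hτ ⟨g, hG⟩ h1 hfix
  · rintro ⟨t, u, v, hg⟩
    obtain ⟨g', hg', hm⟩ := exists_reeU (K := K) (m := m) t u v
    have : g = g' := Units.ext (by rw [hg, hm])
    rw [this]; exact hg'

theorem reeU_inj (hF : ReeField K m φ ψ) {t u v t' u' v' : K}
    (h : chevG2.wordMat K (reeWordU (3 ^ m) t u v) = chevG2.wordMat K (reeWordU (3 ^ m) t' u' v')) :
    t = t' ∧ u = u' ∧ v = v' := by
  have := hF.char3
  rw [wordMat_reeU hF, wordMat_reeU hF, (g2Rel_xp (K := K)).ree_E6 φ, (g2Rel_xp (K := K)).ree_E6 φ] at h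
  obtain ⟨e0, -, -, -, e4, e5⟩ := E6_inj h
  subst e0
  exact ⟨rfl, add_right_cancel e4, add_right_cancel e5⟩

theorem card_pos_inf_twisted [Fintype K] (hF : ReeField K m φ ψ) (hτ : ReeAut m τ) :
    Nat.card ↥(chevG2.posUnipotent K ⊓ twistedG2 K (3 ^ m)) = Fintype.card K ^ 3 := by
  let f : K × K × K → ↥(chevG2.posUnipotent K ⊓ twistedG2 K (3 ^ m)) := fun p =>
    ⟨Classical.choose (exists_reeU (K := K) (m := m) p.1 p.2.1 p.2.2),
      (Classical.choose_spec (exists_reeU (K := K) (m := m) p.1 p.2.1 p.2.2)).1⟩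
  have hf : ∀ p, ((f p : GL chevG2.Idx K) : Matrix chevG2.Idx chevG2.Idx K) =
      chevG2.wordMat K (reeWordU (3 ^ m) p.1 p.2.1 p.2.2) := fun p =>
    (Classical.choose_spec (exists_reeU (K := K) (m := m) p.1 p.2.1 p.2.2)).2
  have hbij : Function.Bijective f := by
    constructor
    · rintro ⟨t, u, v⟩ ⟨t', u', v'⟩ h
      have h1 := hf (t, u, v)
      rw [h, hf] at h1
      obtain ⟨rfl, rfl, rfl⟩ := reeU_inj hF h1.symm
      rfl
    · rintro ⟨g, hg⟩
      obtain ⟨t, u, v, hm⟩ := (mem_pos_inf_twisted hF hτ g).1 hg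
      refine ⟨(t, u, v), ?_⟩
      apply Subtype.ext
      apply Units.ext
      rw [hf, hm]
  rw [← Nat.card_congr (Equiv.ofBijective f hbij), Nat.card_prod, Nat.card_prod,
    Nat.card_eq_fintype_card]
  ring

end

end Cfsg.Agent.Lib.Helper8.Chev
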