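import Cfsg.Agent.Lib.Helper8.ChevTw16

set_option autoImplicit false

/-! The Bruhat decomposition of the fixed points of the twisting endomorphism. -/

namespace Cfsg.Agent.Lib.Helper8.Chev

open Cfsg.Lie Matrix

section

variable {D : ChevalleyDatum} {F : Type*} [Field F] {ρ ρ' π π' : ℕ → ℕ} {ε : ℕ → ℤ}

/-- words whose elements of `N` differ by a torus element act in the same way on the roots -/
theorem reflWord_eq_of_mem_diagonal
    (hD : D ∈ [chevG2, chevB2, chevD4, chevF4, chevE6, chevE7, chevE8]) {l l' : List ℕ}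
    (hl : ∀ i ∈ l, i < D.rank) (hl' : ∀ i ∈ l', i < D.rank)
    (h : (nP D F l)⁻¹ * nP D F l' ∈ D.diagonalSubgroup F) :
    ∀ r < D.nroots, reflWord D l r = reflWord D l' r := by
  have V := valid0_of_mem hD
  have V1 := valid1_of_mem hD
  have J := validJ_of_mem hD
  have H := validH_of_mem hD
  have C := copP_of_mem hD
  have hP := (rootPermN_nP (F := F) J V1 H.nS _ hl).rootPerm
  have hP' := (rootPermN_nP (F := F) J V1 H.nS _ hl').rootPerm
  have hP2 := hP.mul (rootPerm_torus V (torusLike_of_mem J V1 H h))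
  rw [← Units.val_mul, mul_inv_cancel_left] at hP2
  intro r hr
  exact rootPerm_unique V C (M := ((nP D F l' : GL D.Idx F) : Matrix D.Idx D.Idx F))
    (Mi := (((nP D F l')⁻¹ : GL D.Idx F) : Matrix D.Idx D.Idx F))
    (by rw [← Units.val_mul, mul_inv_cancel, Units.val_one]) hP2 hP' hr

/-- `n_w` is fixed for a symmetric word -/
theorem sg_nP_sym (hD : D ∈ [chevG2, chevB2, chevD4, chevF4, chevE6, chevE7, chevE8])
    (h : GAOk D ρ ρ' π π' ε) (φ : F →+* F) : ∀ {Js : List (List ℕ)},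
      (∀ J ∈ Js, ClsOk D ρ J) → sg h φ (nP D F Js.flatten) = nP D F Js.flatten := by
  intro Js
  induction Js with
  | nil => intro _; rw [List.flatten_nil, nP_nil, map_one]
  | cons J Js ih =>
    intro hJs
    rw [List.flatten_cons, nP_append, map_mul, sg_nP_cls hD h φ (hJs J List.mem_cons_self),
      ih (fun J' hJ' => hJs J' (List.mem_cons_of_mem _ hJ'))]

/-- the Bruhat decomposition of a fixed point of the twisting endomorphism -/
theorem tw_bruhat (hD : D ∈ [chevG2, chevB2, chevD4, chevF4, chevE6, chevE7, chevE8])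
    (T : TwOk D ρ ρ' π π' ε) (φ : F →+* F) {cls : List (List ℕ)} (hC : ClsData D ρ π cls)
    {g : GL D.Idx F} (hg : g ∈ D.group F) (hfix : sg T.ga φ g = g) :
    ∃ Js : List (List ℕ), (∀ J ∈ Js, J ∈ cls) ∧ GoodW D Js.flatten ∧
      ∃ u₁ ∈ D.posUnipotent F ⊓ fixS T.ga φ, ∃ h₁ ∈ D.diagonalSubgroup F ⊓ fixS T.ga φ,
        ∃ u ∈ UnegW D F Js.flatten ⊓ fixS T.ga φ, g = u₁ * h₁ * nP D F Js.flatten * u := by
  have V := valid0_of_mem hD
  have V1 := valid1_of_mem hD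
  have VJ := validJ_of_mem hD
  have H := validH_of_mem hD
  have P := posP_of_mem hD
  have Tr := triP_of_mem hD
  obtain ⟨b, hb, l, hl, u, hu, e⟩ := bruhat_exists_word hD hg
  have hlρ : ∀ i ∈ l.map ρ, i < D.rank := by
    intro i hi
    rw [List.mem_map] at hi
    obtain ⟨j, hj, rfl⟩ := hi
    exact (T.ga.hρ j (hl j hj)).1
  -- the word of `g` is symmetric
  have e1 : g = sg T.ga φ b * nP D F (l.map ρ) * sg T.ga φ u := by
    have := congrArg (sg T.ga φ) e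
    rw [hfix, map_mul, map_mul, sg_nP VJ V1 T.ga φ hl] at this
    exact this
  have hsu := sg_mem_unegW VJ V1 H.nS T φ hl hu
  obtain ⟨hH, -⟩ := bruhat_unique_chev hD hb (sg_mem_borel VJ V1 H P T φ hb)
    (nP_mem_monomial hD hl) (nP_mem_monomial hD hlρ) (unegW_le_unegS hD hl hu)
    (unegW_le_unegS hD hlρ hsu) (e.symm.trans e1)
  have hρl := reflWord_eq_of_mem_diagonal hD hl hlρ hH
  have hsym : ∀ r < D.nroots, π (reflWord D l r) = reflWord D l (π r) := by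
    intro r hr
    rw [pi_reflWord VJ H.nS T hl hr, hρl _ (T.ga.hπ r hr).1]
  obtain ⟨Js, hJs, hgood, he⟩ := sym_word hD T hC _ l rfl hl hsym
  have hJs' : ∀ J ∈ Js, ClsOk D ρ J := fun J hJ => hC.ok J (hJs J hJ)
  have hls := sym_lt hJs'
  have h₀ := nP_mul_inv_mem_diagonal (F := F) hD hl hls (fun r hr => (he r hr).symm)
  have hu' : u ∈ UnegW D F Js.flatten := by
    rw [unegW_congr he]; exact hu
  have hb' : b * (nP D F l * (nP D F Js.flatten)⁻¹) ∈ D.borelSubgroup F :=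
    mul_mem hb (diagonal_le_borel h₀)
  have e2 : g = b * (nP D F l * (nP D F Js.flatten)⁻¹) * nP D F Js.flatten * u := by
    rw [e]; group
  -- now apply the endomorphism again
  have e3 : g = sg T.ga φ (b * (nP D F l * (nP D F Js.flatten)⁻¹)) * nP D F Js.flatten *
      sg T.ga φ u := by
    have := congrArg (sg T.ga φ) e2
    rw [hfix, map_mul, map_mul, sg_nP_sym hD T.ga φ hJs'] at this
    exact this
  have hsu' := sg_unegW_sym hD T φ hJs' hu'
  obtain ⟨-, himp⟩ := bruhat_unique_chev hD hb' (sg_mem_borel VJ V1 H P T φ hb')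
    (nP_mem_monomial hD hls) (nP_mem_monomial hD hls) (unegW_le_unegS hD hls hu')
    (unegW_le_unegS hD hls hsu') (e2.symm.trans e3)
  obtain ⟨hbf, huf⟩ := himp rfl
  -- decompose the element of `B`
  obtain ⟨u₁, hu₁, h₁, hh₁, eb⟩ := borel_decomp VJ V1 H hb'
  have eb' : u₁ * h₁ = sg T.ga φ u₁ * sg T.ga φ h₁ := by
    rw [← map_mul, ← eb]; exact hbf
  have hsu₁ := sg_mem_pos V V1 P T φ hu₁
  have hsh₁ := sg_mem_diagonal VJ V1 H T.ga φ hh₁
  have hx : (sg T.ga φ u₁)⁻¹ * u₁ ∈ D.posUnipotent F ⊓ D.diagonalSubgroup F := by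
    refine Subgroup.mem_inf.mpr ⟨mul_mem (inv_mem hsu₁) hu₁, ?_⟩
    have : (sg T.ga φ u₁)⁻¹ * u₁ = sg T.ga φ h₁ * h₁⁻¹ := by
      calc (sg T.ga φ u₁)⁻¹ * u₁ = (sg T.ga φ u₁)⁻¹ * (u₁ * h₁) * h₁⁻¹ := by group
        _ = (sg T.ga φ u₁)⁻¹ * (sg T.ga φ u₁ * sg T.ga φ h₁) * h₁⁻¹ := by rw [eb']
        _ = _ := by group
    rw [this]
    exact mul_mem hsh₁ (inv_mem hh₁)
  rw [pos_inf_diagonal VJ V1 H Tr P, Subgroup.mem_bot, inv_mul_eq_one] at hx
  have hhf : sg T.ga φ h₁ = h₁ := by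
    have := eb'
    rw [hx] at this
    exact (mul_left_cancel this).symm
  refine ⟨Js, hJs, hgood, u₁, Subgroup.mem_inf.mpr ⟨hu₁, hx⟩, h₁,
    Subgroup.mem_inf.mpr ⟨hh₁, hhf⟩, u, Subgroup.mem_inf.mpr ⟨hu', huf.symm⟩, ?_⟩
  rw [← eb]
  exact e2


/-- a fixed element of `B` is a product of fixed elements of `U` and `H` -/
theorem borel_fix_decomp (hD : D ∈ [chevG2, chevB2, chevD4, chevF4, chevE6, chevE7, chevE8])
    (T : TwOk D ρ ρ' π π' ε) (φ : F →+* F) {b : GL D.Idx F} (hb : b ∈ D.borelSubgroup F)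
    (hbf : sg T.ga φ b = b) :
    ∃ u₁ ∈ D.posUnipotent F ⊓ fixS T.ga φ, ∃ h₁ ∈ D.diagonalSubgroup F ⊓ fixS T.ga φ,
      b = u₁ * h₁ := by
  have V := valid0_of_mem hD
  have V1 := valid1_of_mem hD
  have VJ := validJ_of_mem hD
  have H := validH_of_mem hD
  have P := posP_of_mem hD
  have Tr := triP_of_mem hD
  obtain ⟨u₁, hu₁, h₁, hh₁, eb⟩ := borel_decomp VJ V1 H hb
  have eb' : u₁ * h₁ = sg T.ga φ u₁ * sg T.ga φ h₁ := by
    rw [← map_mul, ← eb]; exact hbf.symm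
  have hsu₁ := sg_mem_pos V V1 P T φ hu₁
  have hsh₁ := sg_mem_diagonal VJ V1 H T.ga φ hh₁
  have hx : (sg T.ga φ u₁)⁻¹ * u₁ ∈ D.posUnipotent F ⊓ D.diagonalSubgroup F := by
    refine Subgroup.mem_inf.mpr ⟨mul_mem (inv_mem hsu₁) hu₁, ?_⟩
    have : (sg T.ga φ u₁)⁻¹ * u₁ = sg T.ga φ h₁ * h₁⁻¹ := by
      calc (sg T.ga φ u₁)⁻¹ * u₁ = (sg T.ga φ u₁)⁻¹ * (u₁ * h₁) * h₁⁻¹ := by group
        _ = (sg T.ga φ u₁)⁻¹ * (sg T.ga φ u₁ * sg T.ga φ h₁) * h₁⁻¹ := by rw [eb']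
        _ = _ := by group
    rw [this]
    exact mul_mem hsh₁ (inv_mem hh₁)
  rw [pos_inf_diagonal VJ V1 H Tr P, Subgroup.mem_bot, inv_mul_eq_one] at hx
  have hhf : sg T.ga φ h₁ = h₁ := by
    have := eb'
    rw [hx] at this
    exact (mul_left_cancel this).symm
  exact ⟨u₁, Subgroup.mem_inf.mpr ⟨hu₁, hx⟩, h₁, Subgroup.mem_inf.mpr ⟨hh₁, hhf⟩, eb⟩

/-- a fixed element of `N` is given by a symmetric word -/
theorem mono_fix_sym (hD : D ∈ [chevG2, chevB2, chevD4, chevF4, chevE6, chevE7, chevE8])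
    (T : TwOk D ρ ρ' π π' ε) (φ : F →+* F) {n : GL D.Idx F} (hn : n ∈ D.monomialSubgroup F)
    (hnf : sg T.ga φ n = n) :
    ∃ h₀ ∈ D.diagonalSubgroup F, ∃ l : List ℕ, (∀ i ∈ l, i < D.rank) ∧ n = h₀ * nP D F l ∧
      ∀ r < D.nroots, π (reflWord D l r) = reflWord D l (π r) := by
  have V1 := valid1_of_mem hD
  have VJ := validJ_of_mem hD
  have H := validH_of_mem hD
  obtain ⟨h₀, hh₀, l, hl, e⟩ := monomial_form hD hn
  have hlρ : ∀ i ∈ l.map ρ, i < D.rank := by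
    intro i hi
    rw [List.mem_map] at hi
    obtain ⟨j, hj, rfl⟩ := hi
    exact (T.ga.hρ j (hl j hj)).1
  have e1 : h₀ * nP D F l = sg T.ga φ h₀ * nP D F (l.map ρ) := by
    have := congrArg (sg T.ga φ) e
    rw [hnf, map_mul, sg_nP VJ V1 T.ga φ hl] at this
    rw [← e]; exact this
  have hH : (nP D F l)⁻¹ * nP D F (l.map ρ) ∈ D.diagonalSubgroup F := by
    have e2 : (nP D F l)⁻¹ * nP D F (l.map ρ) =
        (nP D F l)⁻¹ * ((sg T.ga φ h₀)⁻¹ * h₀) * (nP D F l)⁻¹⁻¹ := by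
      calc (nP D F l)⁻¹ * nP D F (l.map ρ)
          = (nP D F l)⁻¹ * (sg T.ga φ h₀)⁻¹ * (sg T.ga φ h₀ * nP D F (l.map ρ)) := by group
        _ = (nP D F l)⁻¹ * (sg T.ga φ h₀)⁻¹ * (h₀ * nP D F l) := by rw [e1]
        _ = _ := by group
    rw [e2]
    exact (Subgroup.mem_normalizer_iff.mp (monomial_le_normalizer hD
      (inv_mem (nP_mem_monomial hD hl))) _).mp
      (mul_mem (inv_mem (sg_mem_diagonal VJ V1 H T.ga φ hh₀)) hh₀)
  have hρl := reflWord_eq_of_mem_diagonal hD hl hlρ hH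
  refine ⟨h₀, hh₀, l, hl, e, fun r hr => ?_⟩
  rw [pi_reflWord VJ H.nS T hl hr, hρl _ (T.ga.hπ r hr).1]

/-- the double cosets of different elements of the Weyl group are disjoint -/
theorem dc_disjoint (hD : D ∈ [chevG2, chevB2, chevD4, chevF4, chevE6, chevE7, chevE8])
    {n n' x : GL D.Idx F} (hn : n ∈ D.monomialSubgroup F) (hn' : n' ∈ D.monomialSubgroup F)
    (h : InDC (D.borelSubgroup F) n x) (h' : InDC (D.borelSubgroup F) n' x) :
    n⁻¹ * n' ∈ D.diagonalSubgroup F := by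
  have V := valid0_of_mem hD
  have V1 := valid1_of_mem hD
  obtain ⟨b1, hb1, b2, hb2, e⟩ := h
  obtain ⟨b1', hb1', b2', hb2', e'⟩ := h'
  have hnG := monomial_le_group V V1 hn
  have hnG' := monomial_le_group V V1 hn'
  have hmem : (⟨n', hnG'⟩ : ↥(D.group F)) ∈ Cfsg.Agent.Lib.Helper3.BN.C (chevBN hD F) ⟨n, hnG⟩ := by
    rw [Cfsg.Agent.Lib.Helper3.BN.mem_C]
    refine ⟨⟨b1'⁻¹ * b1, borel_le_group V V1 (mul_mem (inv_mem hb1') hb1)⟩,
      (mem_chevBN_B hD).mpr (mul_mem (inv_mem hb1') hb1),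
      ⟨b2 * b2'⁻¹, borel_le_group V V1 (mul_mem hb2 (inv_mem hb2'))⟩,
      (mem_chevBN_B hD).mpr (mul_mem hb2 (inv_mem hb2')), ?_⟩
    apply Subtype.ext
    show n' = b1'⁻¹ * b1 * n * (b2 * b2'⁻¹)
    have : n' = b1'⁻¹ * (b1' * n' * b2') * b2'⁻¹ := by group
    rw [this, ← e', e]
    group
  have hrel := Cfsg.Agent.Lib.Helper3.BN.rel_of_mem_C (chevBN hD F) ((mem_chevBN_N hD).mpr hn)
    ((mem_chevBN_N hD).mpr hn') hmem
  have hB : n⁻¹ * n' ∈ D.borelSubgroup F := by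
    have := (mem_chevBN_B hD).mp hrel
    simpa using this
  have hN : n⁻¹ * n' ∈ D.monomialSubgroup F := mul_mem (inv_mem hn) hn'
  rw [← borel_inf_monomial hD]
  exact ⟨hB, hN⟩

end

end Cfsg.Agent.Lib.Helper8.Chev
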