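import Cfsg.Agent.Lib.Helper8.ChevRee8
import Cfsg.Agent.Lib.Helper8.ChevTw17

set_option autoImplicit false

/-! The twisting endomorphism of `G₂` on the subgroups `U`, `H`, `B`, `N`, `U_w⁻`. -/

namespace Cfsg.Agent.Lib.Helper8.Chev

open Cfsg.Lie Matrix

section

variable {K : Type*} [Field K] {m : ℕ} {τ : ↥(chevG2.group K) →* ↥(chevG2.group K)}

/-- `τ` applied to an element of the group, as an element of `GL` -/
def tauG (τ : ↥(chevG2.group K) →* ↥(chevG2.group K)) : ↥(chevG2.group K) →* GL chevG2.Idx K :=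
  (chevG2.group K).subtype.comp τ

theorem tau_closure {X : Set (GL chevG2.Idx K)} {T : Subgroup (GL chevG2.Idx K)}
    (hX : ∀ x ∈ X, ∃ h : x ∈ chevG2.group K, tauG τ ⟨x, h⟩ ∈ T)
    {g : GL chevG2.Idx K} (hg : g ∈ Subgroup.closure X) (hG : g ∈ chevG2.group K) :
    tauG τ ⟨g, hG⟩ ∈ T := by
  have hle : Subgroup.closure X ≤ (T.comap (tauG τ)).map (chevG2.group K).subtype := by
    rw [Subgroup.closure_le]
    intro x hx
    obtain ⟨h, hm⟩ := hX x hx
    exact ⟨⟨x, h⟩, hm, rfl⟩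
  obtain ⟨y, hy, e⟩ := hle hg
  have : y = ⟨g, hG⟩ := Subtype.ext e
  rw [← this]
  exact hy

theorem tauG_mat (hτ : ReeAut m τ) (w : List (ℕ × K)) (hw : ∀ p ∈ w, p.1 < 12)
    (g : GL chevG2.Idx K) (hG : g ∈ chevG2.group K)
    (hg : (g : Matrix chevG2.Idx chevG2.Idx K) = chevG2.wordMat K w) :
    ((tauG τ ⟨g, hG⟩ : GL chevG2.Idx K) : Matrix chevG2.Idx chevG2.Idx K) =
      chevG2.wordMat K (tauW m w) :=
  tau_word hτ w hw ⟨g, hG⟩ hg

theorem barG_pos {r : ℕ} (hr : r < 12) (hp : chevG2.IsPosRoot r) : chevG2.IsPosRoot (barG r) := by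
  revert hp
  interval_cases r <;> decide

theorem barG_ge {r : ℕ} (hr : r < 12) (hp : 6 ≤ r) : 6 ≤ barG r := by
  revert hp
  interval_cases r <;> decide

theorem barG_lt6 {r : ℕ} (hp : r < 6) : barG r < 6 := by
  interval_cases r <;> decide

theorem wordMat_single (r : ℕ) (t : K) : chevG2.wordMat K [(r, t)] = chevG2.x K r t := by
  rw [wordMat_cons', wordMat_nil', mul_one]

theorem tau_mem_pos (hτ : ReeAut m τ) {g : GL chevG2.Idx K} (hg : g ∈ chevG2.posUnipotent K)
    (hG : g ∈ chevG2.group K) : tauG τ ⟨g, hG⟩ ∈ chevG2.posUnipotent K := by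
  have V := valid0_of_mem hDG2
  have P := posP_of_mem hDG2
  refine tau_closure ?_ hg hG
  rintro x ⟨r, t, hr, hx⟩
  have hr12 : r < 12 := by
    by_contra h
    exact absurd hr (by
      unfold ChevalleyDatum.IsPosRoot
      intro h'
      exact h (by have := h'.1; exact this))
  have hxG : x ∈ chevG2.group K := x_mem_group hr12 t x hx
  refine ⟨hxG, Subgroup.subset_closure ⟨barG r, t ^ (lamG r * 3 ^ m), barG_pos hr12 hr, ?_⟩⟩
  exact hτ.map_x ⟨x, hxG⟩ r t hr12 hx

theorem barG_neg {r : ℕ} (hr : r < 12) : barG (chevG2.neg r) = chevG2.neg (barG r) := by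
  interval_cases r <;> decide

theorem lamG_neg {r : ℕ} (hr : r < 12) : lamG (chevG2.neg r) = lamG r := by
  interval_cases r <;> decide

theorem tauW_append (w w' : List (ℕ × K)) : tauW m (w ++ w') = tauW m w ++ tauW m w' := by
  unfold tauW
  rw [List.map_append]

theorem tauW_nWord {r : ℕ} (hr : r < 12) (t : K) :
    tauW m (chevG2.nWord r t) = chevG2.nWord (barG r) (t ^ (lamG r * 3 ^ m)) := by
  have ho : Odd (lamG r * 3 ^ m) := odd_lam r
  unfold tauW ChevalleyDatum.nWord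
  simp only [List.map_cons, List.map_nil]
  rw [barG_neg hr, lamG_neg hr, ho.neg_pow, inv_pow]

theorem tauW_hWord {r : ℕ} (hr : r < 12) (t : K) :
    tauW m (chevG2.hWord r t) = chevG2.hWord (barG r) (t ^ (lamG r * 3 ^ m)) := by
  have ho : Odd (lamG r * 3 ^ m) := odd_lam r
  unfold ChevalleyDatum.hWord
  rw [tauW_append, tauW_nWord hr, tauW_nWord hr, ho.neg_pow, one_pow]

theorem hMat_mem_group {r : ℕ} (hr : r < 12) (t : K) (g : GL chevG2.Idx K)
    (hg : (g : Matrix chevG2.Idx chevG2.Idx K) = chevG2.hMat K r t) : g ∈ chevG2.group K := by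
  have V := valid0_of_mem hDG2
  exact mem_group_of_word (F := K) V (valid1_of_mem hDG2) _ (hWord_lt V hr t) g
    (by rw [hg, hMat_eq_wN])

theorem tau_mem_diagonal (hτ : ReeAut m τ) {g : GL chevG2.Idx K}
    (hg : g ∈ chevG2.diagonalSubgroup K) (hG : g ∈ chevG2.group K) :
    tauG τ ⟨g, hG⟩ ∈ chevG2.diagonalSubgroup K := by
  have V := valid0_of_mem hDG2
  refine tau_closure ?_ hg hG
  rintro x ⟨r, t, hr, ht, hx⟩
  have hr12 : r < 12 := hr
  have hxG : x ∈ chevG2.group K := hMat_mem_group hr12 t x hx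
  refine ⟨hxG, Subgroup.subset_closure ⟨barG r, t ^ (lamG r * 3 ^ m), barG_lt hr12,
    pow_ne_zero _ ht, ?_⟩⟩
  rw [tauG_mat hτ (chevG2.hWord r t) (hWord_lt V hr12 t) x hxG hx, tauW_hWord hr12]
  rfl

theorem tau_mem_borel (hτ : ReeAut m τ) {g : GL chevG2.Idx K}
    (hg : g ∈ chevG2.borelSubgroup K) (hG : g ∈ chevG2.group K) :
    tauG τ ⟨g, hG⟩ ∈ chevG2.borelSubgroup K := by
  have V := valid0_of_mem hDG2
  have V1 := valid1_of_mem hDG2
  unfold ChevalleyDatum.borelSubgroup at hg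
  rw [Subgroup.sup_eq_closure] at hg
  refine tau_closure ?_ hg hG
  rintro x (hx | hx)
  · exact ⟨pos_le_group hx, pos_le_borel (tau_mem_pos hτ hx _)⟩
  · exact ⟨diagonal_le_group V V1 hx, diagonal_le_borel (tau_mem_diagonal hτ hx _)⟩

/-- the symmetry of the Dynkin diagram -/
def rhoG (i : ℕ) : ℕ := 1 - i

theorem rhoG_lt {i : ℕ} (_hi : i < 2) : rhoG i < 2 := by
  unfold rhoG; omega

theorem barG_simple {i : ℕ} (hi : i < 2) : barG (chevG2.simple i) = chevG2.simple (rhoG i) := by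
  interval_cases i <;> decide

theorem refl_barG {i : ℕ} (hi : i < 2) {s : ℕ} (hs : s < 12) :
    chevG2.reflectRoot (rhoG i) (barG s) = barG (chevG2.reflectRoot i s) := by
  interval_cases i <;> interval_cases s <;> decide

theorem nG_mem_groupG {i : ℕ} (hi : i < 2) : nG chevG2 K i ∈ chevG2.group K := by
  have := nP_mem_monomial (F := K) hDG2 (l := [i]) (by
    intro j hj; rw [List.mem_singleton] at hj; rw [hj]; exact hi)
  rw [nP_cons, nP_nil, mul_one] at this
  exact monomial_le_group (valid0_of_mem hDG2) (valid1_of_mem hDG2) this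

theorem tau_nG (hτ : ReeAut m τ) {i : ℕ} (hi : i < 2) :
    tauG τ ⟨nG chevG2 K i, nG_mem_groupG hi⟩ = nG chevG2 K (rhoG i) := by
  have V := valid0_of_mem hDG2
  have V1 := valid1_of_mem hDG2
  have J := validJ_of_mem hDG2
  have hs : chevG2.simple i < 12 := (J.S i hi).1
  apply Units.ext
  rw [tauG_mat hτ (chevG2.nWord (chevG2.simple i) 1) (nWord_lt V hs 1) _ _
    (coe_nG J V1 hi), tauW_nWord hs, one_pow, barG_simple hi, coe_nG J V1 (rhoG_lt hi)]
  rfl

theorem nP_mem_groupG {l : List ℕ} (hl : ∀ i ∈ l, i < 2) : nP chevG2 K l ∈ chevG2.group K :=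
  monomial_le_group (valid0_of_mem hDG2) (valid1_of_mem hDG2) (nP_mem_monomial (F := K) hDG2 hl)

theorem tau_nP (hτ : ReeAut m τ) : ∀ {l : List ℕ} (hl : ∀ i ∈ l, i < 2),
    tauG τ ⟨nP chevG2 K l, nP_mem_groupG hl⟩ = nP chevG2 K (l.map rhoG) := by
  intro l
  induction l with
  | nil =>
    intro hl
    have : (⟨nP chevG2 K [], nP_mem_groupG hl⟩ : ↥(chevG2.group K)) = 1 := Subtype.ext nP_nil
    rw [this, map_one, List.map_nil, nP_nil]
  | cons i l ih =>
    intro hl
    have hi := hl i List.mem_cons_self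
    have hl' : ∀ j ∈ l, j < 2 := fun j hj => hl j (List.mem_cons_of_mem _ hj)
    have : (⟨nP chevG2 K (i :: l), nP_mem_groupG hl⟩ : ↥(chevG2.group K)) =
        ⟨nG chevG2 K i, nG_mem_groupG hi⟩ * ⟨nP chevG2 K l, nP_mem_groupG hl'⟩ :=
      Subtype.ext (nP_cons i l)
    rw [this, map_mul, tau_nG hτ hi, ih hl', List.map_cons, nP_cons]

theorem reflWord_barG {l : List ℕ} (hl : ∀ i ∈ l, i < 2) {s : ℕ} (hs : s < 12) :
    reflWord chevG2 (l.map rhoG) (barG s) = barG (reflWord chevG2 l s) := by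
  have J := validJ_of_mem hDG2
  have H := validH_of_mem hDG2
  induction l with
  | nil => rfl
  | cons i l ih =>
    have hi := hl i List.mem_cons_self
    have hl' : ∀ j ∈ l, j < 2 := fun j hj => hl j (List.mem_cons_of_mem _ hj)
    rw [List.map_cons, reflWord_cons, reflWord_cons, ih hl',
      refl_barG hi (reflWord_lt J H.nS hl' hs)]

theorem tau_mem_unegW (hτ : ReeAut m τ) {l : List ℕ} (hl : ∀ i ∈ l, i < 2)
    {g : GL chevG2.Idx K} (hg : g ∈ UnegW chevG2 K l) (hG : g ∈ chevG2.group K) :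
    tauG τ ⟨g, hG⟩ ∈ UnegW chevG2 K (l.map rhoG) := by
  have J := validJ_of_mem hDG2
  have H := validH_of_mem hDG2
  refine tau_closure ?_ hg hG
  rintro x ⟨r, t, hr1, hr2, hr3, hx⟩
  have hr12 : r < 12 := hr2
  have hxG : x ∈ chevG2.group K := x_mem_group hr12 t x hx
  refine ⟨hxG, Subgroup.subset_closure ⟨barG r, t ^ (lamG r * 3 ^ m), barG_ge hr12 hr1,
    barG_lt hr12, ?_, ?_⟩⟩
  · rw [reflWord_barG hl hr12]
    exact barG_lt6 hr3
  · exact hτ.map_x ⟨x, hxG⟩ r t hr12 hx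

end

end Cfsg.Agent.Lib.Helper8.Chev
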