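import Cfsg.Agent.Lib.Helper8.ChevPf2

set_option autoImplicit false

namespace Cfsg.Agent.Lib.Helper8.Chev

open Cfsg.Lie Matrix Cfsg.Agent.Lib.Helper3

/-! ### Connectedness of the Dynkin diagram -/

/-- a spanning tree of the Dynkin diagram: the parent of every node (node 0 is the base point) -/
def dynPar (D : ChevalleyDatum) : List ℕ :=
  if D.nroots = 12 then [0, 0]
  else if D.nroots = 8 then [0, 0]
  else if D.nroots = 24 then [0, 0, 1, 1]
  else if D.nroots = 48 then [0, 0, 1, 2]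
  else if D.nroots = 72 then [0, 3, 0, 2, 3, 4]
  else if D.nroots = 126 then [0, 3, 0, 2, 3, 4, 5]
  else if D.nroots = 240 then [0, 3, 0, 2, 3, 4, 5, 6]
  else []

/-- the depth of every node in the spanning tree -/
def dynDep (D : ChevalleyDatum) : List ℕ :=
  if D.nroots = 12 then [0, 1]
  else if D.nroots = 8 then [0, 1]
  else if D.nroots = 24 then [0, 1, 2, 2]
  else if D.nroots = 48 then [0, 1, 2, 3]
  else if D.nroots = 72 then [0, 3, 1, 2, 3, 4]
  else if D.nroots = 126 then [0, 3, 1, 2, 3, 4, 5]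
  else if D.nroots = 240 then [0, 3, 1, 2, 3, 4, 5, 6]
  else []

noncomputable def rF (D : ChevalleyDatum) (i s : ℕ) : ℕ :=
  reflP D (D.simple i) (getZ 4 8 (packA D) i s) s

/-- `(w_i w_j)^2` moves the root `p_j` -/
noncomputable def adjOK (D : ChevalleyDatum) (i j : ℕ) : Bool :=
  withNat (D.simple j) fun pj => withNat (rF D j pj) fun a => withNat (rF D i a) fun b =>
    withNat (rF D j b) fun c => !(Nat.beq (rF D i c) pj)

noncomputable def checkDyn (D : ChevalleyDatum) : Bool :=
  Nat.blt 0 D.rank && forallLtF (fun k => Nat.beq k 0 ||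
    (withNat (nthF 0 (dynPar D) k) fun p => Nat.blt p D.rank &&
      Nat.blt (nthF 0 (dynDep D) p) (nthF 0 (dynDep D) k) && adjOK D k p && adjOK D p k)) D.rank

theorem checkDyn_G2 : checkDyn chevG2 = true := by decide +kernel
theorem checkDyn_B2 : checkDyn chevB2 = true := by decide +kernel
theorem checkDyn_D4 : checkDyn chevD4 = true := by decide +kernel
theorem checkDyn_F4 : checkDyn chevF4 = true := by decide +kernel
theorem checkDyn_E6 : checkDyn chevE6 = true := by decide +kernel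
theorem checkDyn_E7 : checkDyn chevE7 = true := by decide +kernel
theorem checkDyn_E8 : checkDyn chevE8 = true := by decide +kernel

theorem checkDyn_of_mem {D : ChevalleyDatum}
    (hD : D ∈ [chevG2, chevB2, chevD4, chevF4, chevE6, chevE7, chevE8]) : checkDyn D = true := by
  simp only [List.mem_cons, List.not_mem_nil, or_false] at hD
  rcases hD with rfl | rfl | rfl | rfl | rfl | rfl | rfl
  · exact checkDyn_G2
  · exact checkDyn_B2
  · exact checkDyn_D4
  · exact checkDyn_F4
  · exact checkDyn_E6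
  · exact checkDyn_E7
  · exact checkDyn_E8

section

variable {D : ChevalleyDatum} {F : Type*} [Field F]

theorem adj_spec (J : ValidJ D) (hN : checkNS D = true) {i j : ℕ} (hi : i < D.rank)
    (hj : j < D.rank) (h : adjOK D i j = true) :
    D.reflectRoot i (D.reflectRoot j (D.reflectRoot i (D.reflectRoot j (D.simple j)))) ≠
      D.simple j := by
  have hpi := (J.S i hi).1
  have hpj := (J.S j hj).1
  have h1 := ((nS_props J hN hj).2.2 _ hpj).1
  have h2 := ((nS_props J hN hi).2.2 _ h1).1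
  have h3 := ((nS_props J hN hj).2.2 _ h2).1
  simp only [adjOK, rF, withNat_eq, Bool.not_eq_true', nat_beq_eq_false] at h
  rw [reflP_eq J.V J.T hj hpj hpj, reflP_eq J.V J.T hi hpi h1, reflP_eq J.V J.T hj hpj h2,
    reflP_eq J.V J.T hi hpi h3] at h
  exact h

theorem rootPerm_nG (J : ValidJ D) (V1 : Valid1 D) (H : ValidH D) {i : ℕ} (hi : i < D.rank) :
    RootPerm D F ((nG D F i : GL D.Idx F) : Matrix D.Idx D.Idx F) (D.reflectRoot i) := by
  rw [coe_nG J V1 hi]
  exact (rootPermN_nMat J V1 H.nS hi).rootPerm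

theorem rootPerm_nG_inv (J : ValidJ D) (V1 : Valid1 D) (H : ValidH D) (hI : checkInv D = true)
    {i : ℕ} (hi : i < D.rank) :
    RootPerm D F (((nG D F i)⁻¹ : GL D.Idx F) : Matrix D.Idx D.Idx F) (D.reflectRoot i) :=
  (rootPerm_nG J V1 H hi).inv_unit (fun s hs =>
    ⟨((nS_props J H.nS hi).2.2 s hs).1, refl_invol J hI hi hs⟩)

theorem comm_not_mem_borel (hD : D ∈ [chevG2, chevB2, chevD4, chevF4, chevE6, chevE7, chevE8])
    {i j : ℕ} (hi : i < D.rank) (hj : j < D.rank) (hadj : adjOK D i j = true) :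
    nG D F i * nG D F j * (nG D F i)⁻¹ * (nG D F j)⁻¹ ∉ D.borelSubgroup F := by
  have V := valid0_of_mem hD
  have V1 := valid1_of_mem hD
  have J := validJ_of_mem hD
  have H := validH_of_mem hD
  have C := copP_of_mem hD
  have hI := checkInv_of_mem hD
  intro hB
  have hN : nG D F i * nG D F j * (nG D F i)⁻¹ * (nG D F j)⁻¹ ∈ D.monomialSubgroup F := by
    rw [monomial_eq hD]
    exact Subgroup.mem_sup_right (mul_mem (mul_mem (mul_mem (nG_mem_N0 hi) (nG_mem_N0 hj))
      (inv_mem (nG_mem_N0 hi))) (inv_mem (nG_mem_N0 hj)))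
  have hH : nG D F i * nG D F j * (nG D F i)⁻¹ * (nG D F j)⁻¹ ∈ D.diagonalSubgroup F := by
    rw [← borel_inf_monomial hD]
    exact ⟨hB, hN⟩
  have hP1 := rootPerm_torus V (torusLike_of_mem J V1 H hH)
  have hP2 := (((rootPerm_nG (F := F) J V1 H hi).mul (rootPerm_nG J V1 H hj)).mul
    (rootPerm_nG_inv J V1 H hI hi)).mul (rootPerm_nG_inv J V1 H hI hj)
  rw [← Units.val_mul, ← Units.val_mul, ← Units.val_mul] at hP2
  have hinv : ((nG D F i * nG D F j * (nG D F i)⁻¹ * (nG D F j)⁻¹ : GL D.Idx F) :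
      Matrix D.Idx D.Idx F) *
      (((nG D F i * nG D F j * (nG D F i)⁻¹ * (nG D F j)⁻¹)⁻¹ : GL D.Idx F) :
        Matrix D.Idx D.Idx F) = 1 := by
    rw [← Units.val_mul, mul_inv_cancel, Units.val_one]
  have hu := rootPerm_unique V C hinv hP1 hP2 (J.S j hj).1
  exact adj_spec J H.nS hi hj hadj hu.symm

/-- the `(B, N)`-pair of a Chevalley group is irreducible -/
theorem chevBN_irreducible (hD : D ∈ [chevG2, chevB2, chevD4, chevF4, chevE6, chevE7, chevE8]) :
    (chevBN hD F).Irreducible := by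
  have hdyn := checkDyn_of_mem hD
  simp only [checkDyn, Bool.and_eq_true, Nat.blt_eq, forallLtF_eq_true, Bool.or_eq_true,
    Nat.beq_eq, withNat_eq] at hdyn
  obtain ⟨hrk, hall⟩ := hdyn
  intro J' hJ hJne hcomp
  by_contra hcon
  push Not at hcon
  -- adjacent nodes lie on the same side
  have key : ∀ i j, i < D.rank → j < D.rank → adjOK D i j = true → sG hD F i ∈ J' →
      sG hD F j ∈ J' := by
    intro i j hi hj hadj hiJ
    by_contra hjJ
    have := hcon _ hiJ (sG hD F j) ⟨sG_mem_S hD hj, hjJ⟩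
    rw [mem_chevBN_B] at this
    apply comm_not_mem_borel (F := F) hD hi hj hadj
    simpa [coe_sG hD hi, coe_sG hD hj] using this
  have hconn : ∀ d k, k < D.rank → nthF 0 (dynDep D) k ≤ d →
      (sG hD F k ∈ J' ↔ sG hD F 0 ∈ J') := by
    intro d
    induction d with
    | zero =>
      intro k hk hd
      rcases hall k hk with h0 | ⟨⟨⟨_, hlt⟩, _⟩, _⟩
      · rw [h0]
      · omega
    | succ d ih =>
      intro k hk hd
      rcases hall k hk with h0 | ⟨⟨⟨hp, hlt⟩, h1⟩, h2⟩
      · rw [h0]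
      · have := ih _ hp (by omega)
        rw [← this]
        exact ⟨key _ _ hk hp h1, key _ _ hp hk h2⟩
  obtain ⟨s, hs⟩ := hJne
  obtain ⟨s', hs'S, hs'J⟩ := hcomp
  obtain ⟨i, hi, rfl⟩ := (mem_S_iff hD).mp (hJ hs)
  obtain ⟨j, hj, rfl⟩ := (mem_S_iff hD).mp hs'S
  apply hs'J
  rw [hconn _ j hj le_rfl, ← hconn _ i hi le_rfl]
  exact hs

end

end Cfsg.Agent.Lib.Helper8.Chev
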