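import Cfsg.Agent.Lib.Helper8.ChevStN1
import Cfsg.Agent.Lib.Helper8.ChevBor3

set_option autoImplicit false

/-! Groups with root elements satisfying Steinberg's relations (R1), (R2), mapped to the Chevalley
group: collecting words into ordered products. -/

namespace Cfsg.Agent.Lib.Helper8.Chev

open Cfsg.Lie Matrix

/-- the product of a word in root elements -/
def wS {K Γ : Type*} [Group Γ] (x : ℕ → K → Γ) (w : List (ℕ × K)) : Γ :=
  (w.map fun p => x p.1 p.2).prod

section wS

variable {K Γ : Type*} [Group Γ] (x : ℕ → K → Γ)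

@[simp] theorem wS_nil : wS x [] = 1 := rfl

theorem wS_cons (p : ℕ × K) (w : List (ℕ × K)) : wS x (p :: w) = x p.1 p.2 * wS x w := by
  simp [wS]

theorem wS_append (w w' : List (ℕ × K)) : wS x (w ++ w') = wS x w * wS x w' := by
  simp [wS]

theorem wS_mem {H : Subgroup Γ} {w : List (ℕ × K)} (h : ∀ p ∈ w, x p.1 p.2 ∈ H) : wS x w ∈ H := by
  induction w with
  | nil => exact one_mem _
  | cons p w ih =>
    rw [wS_cons]
    exact mul_mem (h p List.mem_cons_self) (ih fun q hq => h q (List.mem_cons_of_mem _ hq))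

end wS

/-- a group with root elements `x r t` satisfying the relations (R1) and (R2), with a homomorphism
to the Chevalley group mapping them to the `x_r(t)` -/
structure StRep (D : ChevalleyDatum) (K : Type*) [Field K] (Γ : Type*) [Group Γ] where
  x : ℕ → K → Γ
  θ : Γ →* GL D.Idx K
  hD : D ∈ [chevG2, chevB2, chevD4, chevF4, chevE6, chevE7, chevE8]
  add : ∀ r < D.nroots, ∀ t u : K, x r t * x r u = x r (t + u)
  comm : ∀ r < D.nroots, ∀ s < D.nroots, s ≠ r → s ≠ D.neg r → ∀ t u : K,
    x s u * x r t = x r t * x s u * wS x (D.commWord K r s t u)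
  map : ∀ r < D.nroots, ∀ t : K, ((θ (x r t) : GL D.Idx K) : Matrix D.Idx D.Idx K) = D.x K r t
  gen : Subgroup.closure {g : Γ | ∃ r < D.nroots, ∃ t : K, g = x r t} = ⊤

namespace StRep

variable {D : ChevalleyDatum} {K : Type*} [Field K] {Γ : Type*} [Group Γ] (S : StRep D K Γ)

theorem x_zero {r : ℕ} (hr : r < D.nroots) : S.x r 0 = 1 := by
  have := S.add r hr 0 0
  rw [add_zero] at this
  exact mul_eq_left.mp this

theorem x_mul_neg {r : ℕ} (hr : r < D.nroots) (t : K) : S.x r t * S.x r (-t) = 1 := by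
  rw [S.add r hr, add_neg_cancel, S.x_zero hr]

theorem x_neg_mul {r : ℕ} (hr : r < D.nroots) (t : K) : S.x r (-t) * S.x r t = 1 := by
  rw [S.add r hr, neg_add_cancel, S.x_zero hr]

theorem x_inv {r : ℕ} (hr : r < D.nroots) (t : K) : (S.x r t)⁻¹ = S.x r (-t) :=
  inv_eq_of_mul_eq_one_right (S.x_mul_neg hr t)

theorem map_xN {r : ℕ} (hr : r < D.nroots) (t : K) :
    ((S.θ (S.x r t) : GL D.Idx K) : Matrix D.Idx D.Idx K) = xN D K r t := by
  rw [S.map r hr, x_eq_xN]

theorem map_wS (w : List (ℕ × K)) (hw : ∀ p ∈ w, p.1 < D.nroots) :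
    ((S.θ (wS S.x w) : GL D.Idx K) : Matrix D.Idx D.Idx K) = wN D K w := by
  induction w with
  | nil => simp
  | cons p w ih =>
    rw [wS_cons, map_mul, Units.val_mul, S.map_xN (hw p List.mem_cons_self),
      ih fun q hq => hw q (List.mem_cons_of_mem _ hq), wN_cons]

/-- the word `∏_{k ≤ r < n} x_{ι r}(t_r)` -/
def segG (D : ChevalleyDatum) {K : Type*} (ι : ℕ → ℕ) (k : ℕ) (t : ℕ → K) : List (ℕ × K) :=
  (List.range' k (D.nroots - k)).map fun r => (ι r, t r)

omit [Field K] in
theorem segG_succ (ι : ℕ → ℕ) {k : ℕ} (hk : k < D.nroots) (t : ℕ → K) :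
    segG D ι k t = (ι k, t k) :: segG D ι (k + 1) t := by
  unfold segG
  have : D.nroots - k = (D.nroots - (k + 1)) + 1 := by omega
  rw [this, List.range'_succ]
  rfl

omit [Field K] in
theorem segG_congr (ι : ℕ → ℕ) {k : ℕ} {t t' : ℕ → K}
    (h : ∀ r, k ≤ r → r < D.nroots → t r = t' r) : segG D ι k t = segG D ι k t' := by
  unfold segG
  apply List.map_congr_left
  intro r hr
  rw [List.mem_range'_1] at hr
  rw [h r hr.1 (by omega)]

omit [Field K] in
theorem segG_mem (ι : ℕ → ℕ) {k : ℕ} {t : ℕ → K} {p : ℕ × K} (hp : p ∈ segG D ι k t) :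
    ∃ q, k ≤ q ∧ q < D.nroots ∧ p.1 = ι q := by
  unfold segG at hp
  rw [List.mem_map] at hp
  obtain ⟨r, hr, rfl⟩ := hp
  rw [List.mem_range'_1] at hr
  exact ⟨r, hr.1, by have := hr.2; omega, rfl⟩

theorem segG_id (k : ℕ) (t : ℕ → K) : segG D id k t = segW D k t := rfl

theorem segG_neg (k : ℕ) (t : ℕ → K) :
    segG D (fun r => D.nroots - 1 - r) k t = segWn D k t := rfl

theorem wS_segG_zero (ι : ℕ → ℕ) (hι : ∀ r, D.nroots / 2 ≤ r → r < D.nroots → ι r < D.nroots)
    {k : ℕ} (hk : D.nroots / 2 ≤ k) :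
    wS S.x (segG D ι k (fun _ => (0 : K))) = 1 := by
  apply (Subgroup.mem_bot (G := Γ)).mp
  apply wS_mem
  intro p hp
  obtain ⟨q, hq1, hq2, hpq⟩ := segG_mem ι hp
  have hp2 : p.2 = 0 := by
    unfold segG at hp
    rw [List.mem_map] at hp
    obtain ⟨r, _, rfl⟩ := hp
    rfl
  rw [hpq, hp2, S.x_zero (hι q (by omega) hq2)]
  exact one_mem _

/-- collecting a word into the ordered product, for an ordering `ι` of a closed set of roots -/
theorem collectG (ι : ℕ → ℕ) (hι : ∀ r, D.nroots / 2 ≤ r → r < D.nroots → ι r < D.nroots)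
    (hne : ∀ k r, D.nroots / 2 ≤ k → k < r → r < D.nroots → ι r ≠ ι k ∧ ι r ≠ D.neg (ι k))
    (hlet : ∀ k r, D.nroots / 2 ≤ k → k < r → r < D.nroots → ∀ a u : K,
      ∀ p ∈ D.commWord K (ι k) (ι r) a u, ∃ q, k + 1 ≤ q ∧ q < D.nroots ∧ p.1 = ι q) :
    ∀ d k, D.nroots / 2 ≤ k → k + d = D.nroots → ∀ (w : List (ℕ × K)),
      (∀ p ∈ w, ∃ q, k ≤ q ∧ q < D.nroots ∧ p.1 = ι q) → ∀ t : ℕ → K,
      ∃ t' : ℕ → K, wS S.x w * wS S.x (segG D ι k t) = wS S.x (segG D ι k t') := by
  intro d
  induction d with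
  | zero =>
    intro k _ hkd w hw t
    cases w with
    | nil => exact ⟨t, by simp⟩
    | cons p w =>
      obtain ⟨q, h1, h2, _⟩ := hw p List.mem_cons_self
      omega
  | succ d ih =>
    intro k hk hkd
    have hkn : k < D.nroots := by omega
    have IH := ih (k + 1) (by omega) (by omega)
    -- one letter
    have one : ∀ (q : ℕ) (u : K), k ≤ q → q < D.nroots → ∀ t : ℕ → K,
        ∃ t' : ℕ → K, S.x (ι q) u * wS S.x (segG D ι k t) = wS S.x (segG D ι k t') := by
      intro q u hkq hq t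
      rw [segG_succ ι hkn, wS_cons]
      by_cases hqk : q = k
      · subst hqk
        refine ⟨Function.update t q (u + t q), ?_⟩
        rw [segG_succ ι hkn, wS_cons, ← mul_assoc]
        simp only [Function.update_self]
        rw [S.add _ (hι q hk hq)]
        congr 2
        apply segG_congr
        intro r' h1 _
        rw [Function.update_of_ne (by omega)]
      · have hlt : k < q := by omega
        have hcf := S.comm (ι k) (hι k hk hkn) (ι q) (hι q (by omega) hq)
          (hne k q hk hlt hq).1 (hne k q hk hlt hq).2 (t k) u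
        obtain ⟨t'', ht''⟩ := IH ((ι q, u) :: D.commWord K (ι k) (ι q) (t k) u) (by
          intro p hp
          rw [List.mem_cons] at hp
          rcases hp with rfl | hp
          · exact ⟨q, by omega, hq, rfl⟩
          · exact hlet k q hk hlt hq (t k) u p hp) t
        refine ⟨Function.update t'' k (t k), ?_⟩
        rw [segG_succ ι hkn, wS_cons]
        simp only [Function.update_self]
        have e1 : segG D ι (k + 1) (Function.update t'' k (t k)) = segG D ι (k + 1) t'' := by
          apply segG_congr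
          intro r' h1 _
          rw [Function.update_of_ne (by omega)]
        rw [e1, ← ht'', wS_cons, ← mul_assoc, hcf]
        simp only [mul_assoc]
    intro w hw t
    induction w with
    | nil => exact ⟨t, by simp⟩
    | cons p w ihw =>
      obtain ⟨t1, ht1⟩ := ihw (fun q hq => hw q (List.mem_cons_of_mem _ hq))
      obtain ⟨q, hq1, hq2, hpq⟩ := hw p List.mem_cons_self
      obtain ⟨t2, ht2⟩ := one q p.2 hq1 hq2 t1
      exact ⟨t2, by rw [wS_cons, mul_assoc, ht1, hpq, ht2]⟩

end StRep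

end Cfsg.Agent.Lib.Helper8.Chev
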