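import Cfsg.Agent.Lib.Helper8.ChevSt9

set_option autoImplicit false

/-! Steinberg groups: the kernel of the map to the Chevalley group lies in `H̄` and is central. -/

namespace Cfsg.Agent.Lib.Helper8.Chev

open Cfsg.Lie Matrix

namespace StRep

variable {D : ChevalleyDatum} {K : Type*} [Field K] {Γ : Type*} [Group Γ] (S : StRep D K Γ)

/-- an element of `H̄` in the kernel is central -/
theorem central_of_mem_H0 {g : Γ} (hg : g ∈ S.H0) (hk : S.θ g = 1) :
    g ∈ Subgroup.center Γ := by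
  obtain ⟨f, _, e⟩ := S.tl_of_mem_H0 hg
  have hcomm : ∀ γ ∈ Subgroup.closure {g : Γ | ∃ r < D.nroots, ∃ t : K, g = S.x r t},
      γ * g = g * γ := by
    intro γ hγ
    induction hγ using Subgroup.closure_induction with
    | mem γ hγ =>
      obtain ⟨r, hr, t, rfl⟩ := hγ
      have h1 := e r hr t
      have h2 : f r * t = t := by
        apply S.x_inj_param hr
        rw [← h1, map_mul, map_mul, hk, map_inv, hk]
        simp
      rw [h2] at h1
      calc S.x r t * g = (g * S.x r t * g⁻¹) * g := by rw [h1]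
        _ = g * S.x r t := by group
    | one => simp
    | mul a b _ _ ha hb => rw [mul_assoc, hb, ← mul_assoc, ha, mul_assoc]
    | inv a _ ha =>
      calc a⁻¹ * g = a⁻¹ * (g * a) * a⁻¹ := by group
        _ = a⁻¹ * (a * g) * a⁻¹ := by rw [ha]
        _ = g * a⁻¹ := by group
  rw [Subgroup.mem_center_iff]
  intro γ
  exact hcomm γ (by rw [S.gen]; exact Subgroup.mem_top _)

/-- **Steinberg**: the kernel of `θ` lies in `H̄` and in the centre -/
theorem ker_le : S.θ.ker ≤ S.H0 ⊓ Subgroup.center Γ := by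
  have V1 := valid1_of_mem S.hD
  have J := validJ_of_mem S.hD
  have H := validH_of_mem S.hD
  have Tr := triP_of_mem S.hD
  have P := posP_of_mem S.hD
  intro g hg
  rw [MonoidHom.mem_ker] at hg
  obtain ⟨u, hu, n, hn, u', hu', rfl⟩ := S.mem_BNB g
  obtain ⟨h, hh, l, hl, rfl⟩ := S.N0_form hn
  rw [map_mul, map_mul] at hg
  -- `θ n ∈ U ∩ N = 1`
  have hnU : S.θ (h * S.nW l) ∈ D.posUnipotent K := by
    have e : S.θ (h * S.nW l) = (S.θ u)⁻¹ * (S.θ u')⁻¹ := by
      have : S.θ (h * S.nW l) = (S.θ u)⁻¹ * (S.θ u * S.θ (h * S.nW l) * S.θ u') * (S.θ u')⁻¹ := by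
        group
      rw [this, hg, mul_one]
    rw [e]
    exact mul_mem (inv_mem (S.map_mem_pos hu)) (inv_mem (S.map_mem_pos hu'))
  have hnN : S.θ (h * S.nW l) ∈ D.monomialSubgroup K := by
    rw [map_mul, S.map_nW hl]
    exact mul_mem (diagonal_le_monomial (S.map_mem_diagonal hh)) (nP_mem_monomial S.hD hl)
  have hnH : S.θ (h * S.nW l) ∈ D.diagonalSubgroup K := by
    rw [← borel_inf_monomial S.hD]
    exact ⟨pos_le_borel hnU, hnN⟩
  have hn1 : S.θ (h * S.nW l) = 1 := by
    have : S.θ (h * S.nW l) ∈ D.posUnipotent K ⊓ D.diagonalSubgroup K := ⟨hnU, hnH⟩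
    rwa [pos_inf_diagonal J V1 H Tr P, Subgroup.mem_bot] at this
  -- `n ∈ H̄`
  have hwH : nP D K l ∈ D.diagonalSubgroup K := by
    have h1 := S.map_mem_diagonal hh
    rw [map_mul, S.map_nW hl] at hnH
    have := mul_mem (inv_mem h1) hnH
    rwa [inv_mul_cancel_left] at this
  have hid := (nP_mem_diagonal_iff S.hD hl).mp hwH
  have hnH0 : h * S.nW l ∈ S.H0 := mul_mem hh (S.nW_mem_H0 _ l rfl hl hid)
  -- `u u' = 1`
  have huu : u * u' = 1 := by
    apply S.inj_pos (mul_mem hu hu') (one_mem _)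
    rw [map_mul, map_one]
    rw [hn1, mul_one] at hg
    exact hg
  have hcen := S.central_of_mem_H0 hnH0 hn1
  have e : u * (h * S.nW l) * u' = h * S.nW l := by
    rw [Subgroup.mem_center_iff] at hcen
    rw [hcen u, mul_assoc, huu, mul_one]
  rw [e]
  exact ⟨hnH0, hcen⟩

theorem ker_le_H0 : S.θ.ker ≤ S.H0 := fun _ hg => (S.ker_le hg).1

theorem ker_le_center : S.θ.ker ≤ Subgroup.center Γ := fun _ hg => (S.ker_le hg).2

end StRep

end Cfsg.Agent.Lib.Helper8.Chev
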