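import Cfsg.Agent.Lib.Helper8.ChevSt10
import Cfsg.Prelude.Def_Steinberg

set_option autoImplicit false

/-! The presented group of Steinberg as a group with root elements. -/

namespace Cfsg.Agent.Lib.Helper8.Chev

open Cfsg.Lie Matrix

variable {D : ChevalleyDatum} {K : Type*} [Field K]

theorem mk_stWord (w : List (ℕ × K)) :
    PresentedGroup.mk (D.steinbergRels K) (D.stWord w) = wS (D.stGen K) w := by
  unfold ChevalleyDatum.stWord wS ChevalleyDatum.stGen
  rw [map_list_prod, List.map_map]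
  rfl

theorem stGen_add {r : ℕ} (hr : r < D.nroots) (t u : K) :
    D.stGen K r t * D.stGen K r u = D.stGen K r (t + u) := by
  have h : D.stX r t * D.stX r u * (D.stX r (t + u))⁻¹ ∈ D.steinbergRels K :=
    Or.inl (Or.inl ⟨r, t, u, hr, rfl⟩)
  have := PresentedGroup.one_of_mem h
  rw [map_mul, map_mul, map_inv, mul_inv_eq_one] at this
  exact this

theorem stGen_comm {r s : ℕ} (hr : r < D.nroots) (hs : s < D.nroots) (h1 : s ≠ r)
    (h2 : s ≠ D.neg r) (t u : K) :
    D.stGen K s u * D.stGen K r t =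
      D.stGen K r t * D.stGen K s u * wS (D.stGen K) (D.commWord K r s t u) := by
  have h : (D.stX s u)⁻¹ * (D.stX r t)⁻¹ * D.stX s u * D.stX r t *
      (D.stWord (D.commWord K r s t u))⁻¹ ∈ D.steinbergRels K :=
    Or.inl (Or.inr ⟨r, s, t, u, hr, hs, h1, h2, rfl⟩)
  have := PresentedGroup.one_of_mem h
  rw [map_mul, map_mul, map_mul, map_mul, map_inv, map_inv, map_inv, mk_stWord,
    mul_inv_eq_one] at this
  rw [← this]
  unfold ChevalleyDatum.stGen
  group

theorem stGen_closure :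
    Subgroup.closure {g : D.SteinbergGroup K | ∃ r < D.nroots, ∃ t : K, g = D.stGen K r t} = ⊤ := by
  rw [eq_top_iff, ← PresentedGroup.closure_range_of (D.steinbergRels K)]
  apply Subgroup.closure_mono
  rintro g ⟨⟨r, t⟩, rfl⟩
  refine ⟨r.val, r.isLt, t, ?_⟩
  unfold ChevalleyDatum.stGen ChevalleyDatum.stX PresentedGroup.of
  rw [dif_pos r.isLt]

/-- the presented group with a homomorphism to the Chevalley group -/
noncomputable def stRepOf (hD : D ∈ [chevG2, chevB2, chevD4, chevF4, chevE6, chevE7, chevE8])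
    (θ : D.SteinbergGroup K →* ↥(D.group K))
    (hθ : ∀ (r : ℕ) (t : K), r < D.nroots →
      ((θ (D.stGen K r t) : GL D.Idx K) : Matrix D.Idx D.Idx K) = D.x K r t) :
    StRep D K (D.SteinbergGroup K) where
  x := D.stGen K
  θ := (D.group K).subtype.comp θ
  hD := hD
  add := fun r hr t u => stGen_add hr t u
  comm := fun r hr s hs h1 h2 t u => stGen_comm hr hs h1 h2 t u
  map := fun r hr t => hθ r t hr
  gen := stGen_closure

theorem stRepOf_H0 (hD : D ∈ [chevG2, chevB2, chevD4, chevF4, chevE6, chevE7, chevE8])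
    (θ : D.SteinbergGroup K →* ↥(D.group K))
    (hθ : ∀ (r : ℕ) (t : K), r < D.nroots →
      ((θ (D.stGen K r t) : GL D.Idx K) : Matrix D.Idx D.Idx K) = D.x K r t) :
    (stRepOf hD θ hθ).H0 = Subgroup.closure {h | ∃ (i : ℕ) (t : K), i < D.rank ∧ t ≠ 0 ∧
      h = PresentedGroup.mk (D.steinbergRels K) (D.stH (D.simple i) t)} := by
  unfold StRep.H0
  congr 1
  ext g
  constructor
  · rintro ⟨i, c, hi, hc, rfl⟩
    refine ⟨i, c, hi, hc, ?_⟩
    rw [StRep.h_eq_wS]
    unfold ChevalleyDatum.stH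
    rw [mk_stWord]
    rfl
  · rintro ⟨i, c, hi, hc, rfl⟩
    refine ⟨i, c, hi, hc, ?_⟩
    rw [StRep.h_eq_wS]
    unfold ChevalleyDatum.stH
    rw [mk_stWord]
    rfl

theorem stRepOf_ker (hD : D ∈ [chevG2, chevB2, chevD4, chevF4, chevE6, chevE7, chevE8])
    (θ : D.SteinbergGroup K →* ↥(D.group K))
    (hθ : ∀ (r : ℕ) (t : K), r < D.nroots →
      ((θ (D.stGen K r t) : GL D.Idx K) : Matrix D.Idx D.Idx K) = D.x K r t) :
    (stRepOf hD θ hθ).θ.ker = θ.ker := by
  ext g
  rw [MonoidHom.mem_ker, MonoidHom.mem_ker]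
  show ((D.group K).subtype.comp θ) g = 1 ↔ _
  rw [MonoidHom.comp_apply]
  constructor
  · intro h
    exact Subtype.ext h
  · intro h
    rw [h]; rfl

end Cfsg.Agent.Lib.Helper8.Chev
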