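import Cfsg.Agent.Lib.Helper8.ChevSt11
import Cfsg.Agent.Lib.Helper8.ChevSimp2
import Cfsg.Agent.Lib.Helper8.ChevEx4

set_option autoImplicit false

/-! The centre of the Chevalley group is trivial; the canonical homomorphism from the presented
group. -/

namespace Cfsg.Agent.Lib.Helper8.Chev

open Cfsg.Lie Matrix Cfsg.Agent.Lib.Helper3

section Centre

variable {D : ChevalleyDatum} {F : Type*} [Field F]

theorem chev_center_eq_bot (hD : D ∈ [chevG2, chevB2, chevD4, chevF4, chevE6, chevE7, chevE8]) :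
    Subgroup.center ↥(D.group F) = ⊥ := by
  have V := valid0_of_mem hD
  have V1 := valid1_of_mem hD
  have J := validJ_of_mem hD
  have C := copP_of_mem hD
  have P := posP_of_mem hD
  have hcore : (chevBN hD F).B.normalCore = ⊥ := by
    rw [chevBN_B]; exact normalCore_borel hD
  rcases normal_eq_bot_or_sup_eq_top (chevBN hD F) (chevBN_irreducible hD) hcore
    (Subgroup.center ↥(D.group F)) with h | h
  · exact h
  · exfalso
    -- `B` is normal
    have hBn : ((chevBN hD F).B).Normal := by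
      constructor
      intro b hb g
      have hg : g ∈ (↑(Subgroup.center ↥(D.group F) ⊔ (chevBN hD F).B) : Set ↥(D.group F)) := by
        rw [h]; trivial
      rw [Subgroup.normal_mul] at hg
      obtain ⟨z, hz, b', hb', rfl⟩ := hg
      have hz' := Subgroup.mem_center_iff.mp hz
      have e : z * b' * b * (z * b')⁻¹ = b' * b * b'⁻¹ := by
        have h1 : z * b' * b * (z * b')⁻¹ = z * (b' * b * b'⁻¹) * z⁻¹ := by group
        rw [h1, ← hz' (b' * b * b'⁻¹), mul_inv_cancel_right]
      rw [e]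
      exact mul_mem (mul_mem hb' hb) (inv_mem hb')
    have hB : (chevBN hD F).B = ⊥ := by
      rw [← hcore]
      exact (Subgroup.normalCore_eq_self _).symm
    -- but `x_p(1) ∈ B` is not trivial
    have hdyn := checkDyn_of_mem hD
    simp only [checkDyn, Bool.and_eq_true, Nat.blt_eq] at hdyn
    have hp := (J.S 0 hdyn.1).1
    have hppos := (refl_pos J (checkRP_of_mem hD) hdyn.1).1
    obtain ⟨a, ha⟩ := exists_unit_x V V1 hp (1 : F)
    have haB : (⟨a, x_mem_group hp 1 a ha⟩ : ↥(D.group F)) ∈ (chevBN hD F).B := by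
      rw [chevBN_B, Subgroup.mem_subgroupOf]
      apply pos_le_borel
      exact Subgroup.subset_closure ⟨D.simple 0, 1, (P _ hp).1.mpr hppos, ha⟩
    rw [hB, Subgroup.mem_bot] at haB
    have h1 : a = 1 := congrArg Subtype.val haB
    rw [h1, Units.val_one, x_eq_xN] at ha
    exact one_ne_zero (xN_eq_one V C hp ha.symm)

end Centre

section Hom

variable {D : ChevalleyDatum} {K : Type*} [Field K]

/-- the root element `x_r(t)` as an element of the Chevalley group -/
noncomputable def xGrp (hD : D ∈ [chevG2, chevB2, chevD4, chevF4, chevE6, chevE7, chevE8])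
    (p : Fin D.nroots × K) : ↥(D.group K) :=
  ⟨⟨xN D K p.1.val p.2, xN D K p.1.val (-p.2),
    xN_mul_neg (valid0_of_mem hD) (valid1_of_mem hD) p.1.isLt p.2,
    xN_neg_mul (valid0_of_mem hD) (valid1_of_mem hD) p.1.isLt p.2⟩,
    x_mem_group p.1.isLt p.2 _ (x_eq_xN D K p.1.val p.2).symm⟩

theorem lift_stX (hD : D ∈ [chevG2, chevB2, chevD4, chevF4, chevE6, chevE7, chevE8]) (r : ℕ)
    (t : K) :
    (((FreeGroup.lift (xGrp hD) (D.stX r t) : ↥(D.group K)) : GL D.Idx K) :
      Matrix D.Idx D.Idx K) = xN D K r t := by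
  unfold ChevalleyDatum.stX
  by_cases hr : r < D.nroots
  · rw [dif_pos hr, FreeGroup.lift_apply_of]
    rfl
  · rw [dif_neg hr, map_one]
    unfold xN
    rw [dif_neg hr]
    rfl

theorem lift_stWord (hD : D ∈ [chevG2, chevB2, chevD4, chevF4, chevE6, chevE7, chevE8])
    (w : List (ℕ × K)) :
    (((FreeGroup.lift (xGrp hD) (D.stWord w) : ↥(D.group K)) : GL D.Idx K) :
      Matrix D.Idx D.Idx K) = wN D K w := by
  unfold ChevalleyDatum.stWord
  induction w with
  | nil => simp
  | cons p w ih =>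
    rw [List.map_cons, List.prod_cons, map_mul, Subgroup.coe_mul, Units.val_mul, ih, lift_stX,
      wN_cons]

theorem lift_rels (hD : D ∈ [chevG2, chevB2, chevD4, chevF4, chevE6, chevE7, chevE8]) :
    ∀ g ∈ D.steinbergRels K, FreeGroup.lift (xGrp hD) g = 1 := by
  have V := valid0_of_mem hD
  have V1 := valid1_of_mem hD
  have J := validJ_of_mem hD
  have H := validH_of_mem hD
  intro g hg
  have ext' : ∀ a b : ↥(D.group K), ((a : GL D.Idx K) : Matrix D.Idx D.Idx K) =
      ((b : GL D.Idx K) : Matrix D.Idx D.Idx K) → a = b :=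
    fun a b h => Subtype.ext (Units.ext h)
  rcases hg with (⟨r, t₁, t₂, hr, rfl⟩ | ⟨r, s, t, u, hr, hs, h1, h2, rfl⟩) |
    ⟨r, t₁, t₂, hr, h1, h2, rfl⟩
  · rw [map_mul, map_mul, map_inv, mul_inv_eq_one]
    apply ext'
    rw [Subgroup.coe_mul, Units.val_mul, lift_stX, lift_stX, lift_stX, xN_mul_xN K V V1 hr]
  · rw [map_mul, map_mul, map_mul, map_mul, map_inv, map_inv, map_inv, mul_inv_eq_one]
    have hcf := comm_formula hD (F := K) hr hs h1 h2 t u
    rw [x_eq_xN, x_eq_xN, wordMat_eq_wN] at hcf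
    have e : FreeGroup.lift (xGrp hD) (D.stX s u) * FreeGroup.lift (xGrp hD) (D.stX r t) =
        FreeGroup.lift (xGrp hD) (D.stX r t) * FreeGroup.lift (xGrp hD) (D.stX s u) *
          FreeGroup.lift (xGrp hD) (D.stWord (D.commWord K r s t u)) := by
      apply ext'
      simp only [Subgroup.coe_mul, Units.val_mul, lift_stX, lift_stWord]
      exact hcf
    calc (FreeGroup.lift (xGrp hD) (D.stX s u))⁻¹ * (FreeGroup.lift (xGrp hD) (D.stX r t))⁻¹ *
          FreeGroup.lift (xGrp hD) (D.stX s u) * FreeGroup.lift (xGrp hD) (D.stX r t)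
        = (FreeGroup.lift (xGrp hD) (D.stX s u))⁻¹ * (FreeGroup.lift (xGrp hD) (D.stX r t))⁻¹ *
          (FreeGroup.lift (xGrp hD) (D.stX s u) * FreeGroup.lift (xGrp hD) (D.stX r t)) := by
          group
      _ = _ := by rw [e]; group
  · rw [map_mul, map_mul, map_inv, mul_inv_eq_one]
    apply ext'
    unfold ChevalleyDatum.stH
    rw [Subgroup.coe_mul, Units.val_mul, lift_stWord, lift_stWord, lift_stWord, ← hMat_eq_wN,
      ← hMat_eq_wN, ← hMat_eq_wN, hMat_mul_hMat J V1 H hr h1 h2]

/-- the canonical homomorphism from the presented group onto the Chevalley group -/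
noncomputable def stHom (hD : D ∈ [chevG2, chevB2, chevD4, chevF4, chevE6, chevE7, chevE8])
    (K : Type*) [Field K] : D.SteinbergGroup K →* ↥(D.group K) :=
  PresentedGroup.toGroup (lift_rels hD)

theorem stHom_stGen (hD : D ∈ [chevG2, chevB2, chevD4, chevF4, chevE6, chevE7, chevE8]) (r : ℕ)
    (t : K) (hr : r < D.nroots) :
    ((stHom hD K (D.stGen K r t) : GL D.Idx K) : Matrix D.Idx D.Idx K) = D.x K r t := by
  have : stHom hD K (D.stGen K r t) = FreeGroup.lift (xGrp hD) (D.stX r t) := rfl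
  rw [this, lift_stX, x_eq_xN]

theorem stHom_surjective (hD : D ∈ [chevG2, chevB2, chevD4, chevF4, chevE6, chevE7, chevE8]) :
    Function.Surjective (stHom hD K) := by
  rintro ⟨g, hg⟩
  have key : ∀ g ∈ D.group K, ∃ hg : g ∈ D.group K, (⟨g, hg⟩ : ↥(D.group K)) ∈ (stHom hD K).range := by
    intro g hg
    unfold ChevalleyDatum.group at hg
    induction hg using Subgroup.closure_induction with
    | mem g hg' =>
      obtain ⟨r, t, hm⟩ := hg'
      refine ⟨Subgroup.subset_closure ⟨r, t, hm⟩, D.stGen K r.val t, ?_⟩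
      apply Subtype.ext
      apply Units.ext
      rw [stHom_stGen hD r.val t r.isLt, hm]
      unfold ChevalleyDatum.x
      rw [dif_pos r.isLt]
    | one => exact ⟨one_mem _, one_mem _⟩
    | mul a b _ _ ha hb =>
      obtain ⟨ha1, ha2⟩ := ha
      obtain ⟨hb1, hb2⟩ := hb
      exact ⟨mul_mem ha1 hb1, mul_mem ha2 hb2⟩
    | inv a _ ha =>
      obtain ⟨ha1, ha2⟩ := ha
      exact ⟨inv_mem ha1, inv_mem ha2⟩
  obtain ⟨_, γ, hγ⟩ := key g hg
  exact ⟨γ, hγ⟩

/-- **Steinberg**: the kernel of the canonical homomorphism is the centre -/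
theorem stHom_ker (hD : D ∈ [chevG2, chevB2, chevD4, chevF4, chevE6, chevE7, chevE8]) :
    (stHom hD K).ker = Subgroup.center (D.SteinbergGroup K) := by
  apply le_antisymm
  · rw [← stRepOf_ker hD (stHom hD K) (fun r t hr => stHom_stGen hD r t hr)]
    exact (stRepOf hD (stHom hD K) (fun r t hr => stHom_stGen hD r t hr)).ker_le_center
  · intro z hz
    rw [MonoidHom.mem_ker]
    have hc : stHom hD K z ∈ Subgroup.center ↥(D.group K) := by
      rw [Subgroup.mem_center_iff]
      intro g
      obtain ⟨γ, rfl⟩ := stHom_surjective hD g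
      rw [← map_mul, ← map_mul, Subgroup.mem_center_iff.mp hz γ]
    rwa [chev_center_eq_bot hD, Subgroup.mem_bot] at hc

end Hom

end Cfsg.Agent.Lib.Helper8.Chev
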