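import Cfsg.Agent.Lib.Helper8.ChevSt12

set_option autoImplicit false

/-! Steinberg groups with the relation (R3): `H̄` is the image of a torus; the kernel is trivial
when the Cartan matrix is unimodular. -/

namespace Cfsg.Agent.Lib.Helper8.Chev

open Cfsg.Lie Matrix

theorem list_range_prod {M : Type*} [CommMonoid M] (f : ℕ → M) (n : ℕ) :
    ((List.range n).map f).prod = ∏ i ∈ Finset.range n, f i := by
  induction n with
  | zero => simp
  | succ n ih =>
    rw [List.range_succ, List.map_append, List.prod_append, ih, Finset.prod_range_succ]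
    simp

theorem prod_zpow_sum₀ {K : Type*} [Field K] {a : K} (ha : a ≠ 0) {ι : Type*} (s : Finset ι)
    (n : ι → ℤ) : ∏ j ∈ s, a ^ n j = a ^ ∑ j ∈ s, n j := by
  classical
  induction s using Finset.induction_on with
  | empty => simp
  | insert j s hj ih =>
    rw [Finset.prod_insert hj, Finset.sum_insert hj, ih, zpow_add₀ ha]

namespace StRep

variable {D : ChevalleyDatum} {K : Type*} [Field K] {Γ : Type*} [Group Γ] (S : StRep D K Γ)

/-- the relation (R3) for the fundamental roots -/
def R3 : Prop :=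
  ∀ i < D.rank, ∀ c d : K, c ≠ 0 → d ≠ 0 →
    S.h (D.simple i) c * S.h (D.simple i) d = S.h (D.simple i) (c * d)

theorem h_one {r : ℕ} (hr : r < D.nroots) : S.h r 1 = 1 := by
  unfold h
  exact S.n_mul_neg hr 1

variable {S}

theorem R3.h_inv (hR : S.R3) {i : ℕ} (hi : i < D.rank) {c : K} (hc : c ≠ 0) :
    (S.h (D.simple i) c)⁻¹ = S.h (D.simple i) c⁻¹ := by
  have J := validJ_of_mem S.hD
  apply inv_eq_of_mul_eq_one_right
  rw [hR i hi c c⁻¹ hc (inv_ne_zero hc), mul_inv_cancel₀ hc, S.h_one (J.S i hi).1]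

theorem R3.h_comm (hR : S.R3) {i j : ℕ} (hi : i < D.rank) (hj : j < D.rank) {c d : K}
    (hc : c ≠ 0) (hd : d ≠ 0) :
    S.h (D.simple i) c * S.h (D.simple j) d = S.h (D.simple j) d * S.h (D.simple i) c := by
  have J := validJ_of_mem S.hD
  have hpj := (J.S j hj).1
  obtain ⟨f, hf, e⟩ := (S.tl_h hi hc).conj_n S
  have hf0 := hf _ hpj
  -- `h_i(c) h_j(d) h_i(c)⁻¹ = n_j(f d) n_j(-f) = h_j(f d) h_j(f)⁻¹ = h_j(d)`
  have h1 : S.h (D.simple i) c * S.h (D.simple j) d * (S.h (D.simple i) c)⁻¹ =
      S.n (D.simple j) (f (D.simple j) * d) * S.n (D.simple j) (-(f (D.simple j))) := by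
    have : S.h (D.simple i) c * S.h (D.simple j) d * (S.h (D.simple i) c)⁻¹ =
        (S.h (D.simple i) c * S.n (D.simple j) d * (S.h (D.simple i) c)⁻¹) *
          (S.h (D.simple i) c * S.n (D.simple j) (-1) * (S.h (D.simple i) c)⁻¹) := by
      unfold h; group
    rw [this, e _ hpj, e _ hpj, mul_neg, mul_one]
  have h2 : S.n (D.simple j) (f (D.simple j) * d) * S.n (D.simple j) (-(f (D.simple j))) =
      S.h (D.simple j) (f (D.simple j) * d) * (S.h (D.simple j) (f (D.simple j)))⁻¹ := by
    unfold h
    rw [_root_.mul_inv_rev, S.n_inv hpj, S.n_inv hpj, neg_neg, mul_assoc,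
      ← mul_assoc (S.n (D.simple j) (-1)), S.n_neg_mul hpj, one_mul]
  have h3 : S.h (D.simple j) (f (D.simple j) * d) =
      S.h (D.simple j) d * S.h (D.simple j) (f (D.simple j)) := by
    rw [hR j hj d _ hd hf0, mul_comm]
  rw [h2, h3, mul_inv_cancel_right] at h1
  calc S.h (D.simple i) c * S.h (D.simple j) d
      = (S.h (D.simple i) c * S.h (D.simple j) d * (S.h (D.simple i) c)⁻¹) *
          S.h (D.simple i) c := by group
    _ = S.h (D.simple j) d * S.h (D.simple i) c := by rw [h1]

/-- the product of the `h̄_{p_i}(c_i)` along a list -/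
def prodH (S : StRep D K Γ) (c : ℕ → K) (l : List ℕ) : Γ :=
  (l.map fun i => S.h (D.simple i) (c i)).prod

theorem prodH_nil (c : ℕ → K) : S.prodH c [] = 1 := rfl

theorem prodH_cons (c : ℕ → K) (i : ℕ) (l : List ℕ) :
    S.prodH c (i :: l) = S.h (D.simple i) (c i) * S.prodH c l := by
  simp [prodH]

theorem prodH_congr {c c' : ℕ → K} {l : List ℕ} (h : ∀ i ∈ l, c i = c' i) :
    S.prodH c l = S.prodH c' l := by
  unfold prodH
  congr 1
  apply List.map_congr_left
  intro i hi
  rw [h i hi]

theorem R3.h_comm_prodH (hR : S.R3) {k : ℕ} (hk : k < D.rank) {d : K} (hd : d ≠ 0) {c : ℕ → K}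
    (hc : ∀ i, c i ≠ 0) :
    ∀ {l : List ℕ}, (∀ i ∈ l, i < D.rank) →
      S.h (D.simple k) d * S.prodH c l = S.prodH c l * S.h (D.simple k) d := by
  intro l
  induction l with
  | nil => intro _; simp [prodH_nil]
  | cons i l ih =>
    intro hl
    rw [prodH_cons, ← mul_assoc, hR.h_comm hk (hl i List.mem_cons_self) hd (hc i), mul_assoc,
      ih (fun j hj => hl j (List.mem_cons_of_mem _ hj)), mul_assoc]

theorem R3.h_mul_prodH (hR : S.R3) {k : ℕ} (hk : k < D.rank) {d : K} (hd : d ≠ 0) {c : ℕ → K}
    (hc : ∀ i, c i ≠ 0) :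
    ∀ {l : List ℕ}, (∀ i ∈ l, i < D.rank) → l.Nodup → k ∈ l →
      S.h (D.simple k) d * S.prodH c l = S.prodH (Function.update c k (d * c k)) l := by
  intro l
  induction l with
  | nil => intro _ _ h; simp at h
  | cons i l ih =>
    intro hl hnd hkl
    have hl' : ∀ j ∈ l, j < D.rank := fun j hj => hl j (List.mem_cons_of_mem _ hj)
    rw [List.nodup_cons] at hnd
    rw [prodH_cons, prodH_cons]
    by_cases hik : i = k
    · subst hik
      rw [← mul_assoc, hR i hk d (c i) hd (hc i), Function.update_self]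
      congr 1
      apply prodH_congr
      intro j hj
      rw [Function.update_of_ne]
      rintro rfl
      exact hnd.1 hj
    · have hkl' : k ∈ l := by
        rcases List.mem_cons.mp hkl with h | h
        · exact absurd h.symm hik
        · exact h
      rw [← mul_assoc, hR.h_comm hk (hl i List.mem_cons_self) hd (hc i), mul_assoc,
        ih hl' hnd.2 hkl', Function.update_of_ne hik]

/-- with (R3), every element of `H̄` is a product `∏ h̄_{p_i}(c_i)` -/
theorem R3.H0_form (hR : S.R3) {g : Γ} (hg : g ∈ S.H0) :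
    ∃ c : ℕ → K, (∀ i, c i ≠ 0) ∧ g = S.prodH c (List.range D.rank) := by
  have J := validJ_of_mem S.hD
  have hrange : ∀ i ∈ List.range D.rank, i < D.rank := fun i hi => List.mem_range.mp hi
  have key : ∀ γ ∈ S.H0, ∀ c : ℕ → K, (∀ i, c i ≠ 0) →
      (∃ c' : ℕ → K, (∀ i, c' i ≠ 0) ∧ γ * S.prodH c (List.range D.rank) =
        S.prodH c' (List.range D.rank)) ∧
      (∃ c' : ℕ → K, (∀ i, c' i ≠ 0) ∧ γ⁻¹ * S.prodH c (List.range D.rank) =
        S.prodH c' (List.range D.rank)) := by
    intro γ hγ
    unfold H0 at hγ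
    induction hγ using Subgroup.closure_induction with
    | mem γ hγ =>
      obtain ⟨k, d, hk, hd, rfl⟩ := hγ
      intro c hc
      have hupd : ∀ d' : K, d' ≠ 0 → ∀ i, Function.update c k (d' * c k) i ≠ 0 := by
        intro d' hd' i
        by_cases hik : i = k
        · subst hik; rw [Function.update_self]; exact mul_ne_zero hd' (hc i)
        · rw [Function.update_of_ne hik]; exact hc i
      constructor
      · exact ⟨_, hupd d hd, hR.h_mul_prodH hk hd hc hrange List.nodup_range
          (List.mem_range.mpr hk)⟩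
      · rw [hR.h_inv hk hd]
        exact ⟨_, hupd d⁻¹ (inv_ne_zero hd), hR.h_mul_prodH hk (inv_ne_zero hd) hc hrange
          List.nodup_range (List.mem_range.mpr hk)⟩
    | one =>
      intro c hc
      exact ⟨⟨c, hc, by rw [one_mul]⟩, ⟨c, hc, by rw [inv_one, one_mul]⟩⟩
    | mul a b _ _ ha hb =>
      intro c hc
      constructor
      · obtain ⟨c1, hc1, e1⟩ := (hb c hc).1
        obtain ⟨c2, hc2, e2⟩ := (ha c1 hc1).1
        exact ⟨c2, hc2, by rw [mul_assoc, e1, e2]⟩
      · obtain ⟨c1, hc1, e1⟩ := (ha c hc).2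
        obtain ⟨c2, hc2, e2⟩ := (hb c1 hc1).2
        exact ⟨c2, hc2, by rw [_root_.mul_inv_rev, mul_assoc, e1, e2]⟩
    | inv a _ ha =>
      intro c hc
      rw [inv_inv]
      exact ⟨(ha c hc).2, (ha c hc).1⟩
  have h1 : S.prodH (fun _ => (1 : K)) (List.range D.rank) = 1 := by
    have : ∀ l : List ℕ, (∀ i ∈ l, i < D.rank) → S.prodH (fun _ => (1 : K)) l = 1 := by
      intro l
      induction l with
      | nil => intro _; rfl
      | cons i l ih =>
        intro hl
        rw [prodH_cons, S.h_one (J.S i (hl i List.mem_cons_self)).1, one_mul,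
          ih fun j hj => hl j (List.mem_cons_of_mem _ hj)]
    exact this _ hrange
  obtain ⟨c', hc', e⟩ := (key g hg (fun _ => 1) (fun _ => one_ne_zero)).1
  rw [h1, mul_one] at e
  exact ⟨c', hc', e⟩

/-- the action of a product of the `h̄_{p_i}(c_i)` on the root elements -/
theorem prodH_conj {c : ℕ → K} (hc : ∀ i, c i ≠ 0) {s : ℕ} (hs : s < D.nroots) (u : K) :
    ∀ {l : List ℕ}, (∀ i ∈ l, i < D.rank) →
      S.prodH c l * S.x s u * (S.prodH c l)⁻¹ =
        S.x s ((l.map fun i => c i ^ aco D (D.simple i) s).prod * u) := by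
  intro l
  induction l with
  | nil => intro _; simp [prodH_nil]
  | cons i l ih =>
    intro hl
    have hi := hl i List.mem_cons_self
    have : S.prodH c (i :: l) * S.x s u * (S.prodH c (i :: l))⁻¹ =
        S.h (D.simple i) (c i) * (S.prodH c l * S.x s u * (S.prodH c l)⁻¹) *
          (S.h (D.simple i) (c i))⁻¹ := by
      rw [prodH_cons]; group
    rw [this, ih fun j hj => hl j (List.mem_cons_of_mem _ hj), S.h_conj hi (hc i) hs,
      List.map_cons, List.prod_cons, mul_assoc]

/-- with (R3) and a unimodular Cartan matrix, the map to the Chevalley group is injective -/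
theorem R3.ker_eq_bot (hR : S.R3) (B : ℕ → ℕ → ℤ)
    (hB : ∀ i < D.rank, ∀ k < D.rank,
      ∑ j ∈ Finset.range D.rank, aco D (D.simple i) (D.simple j) * B j k =
        if i = k then 1 else 0) : S.θ.ker = ⊥ := by
  have J := validJ_of_mem S.hD
  rw [eq_bot_iff]
  intro g hg
  rw [Subgroup.mem_bot]
  have hgH := S.ker_le_H0 hg
  rw [MonoidHom.mem_ker] at hg
  obtain ⟨c, hc, rfl⟩ := hR.H0_form hgH
  have hrange : ∀ i ∈ List.range D.rank, i < D.rank := fun i hi => List.mem_range.mp hi
  -- the characters of the fundamental roots are trivial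
  have h1 : ∀ j < D.rank, ∏ i ∈ Finset.range D.rank, c i ^ aco D (D.simple i) (D.simple j) = 1 := by
    intro j hj
    have hpj := (J.S j hj).1
    have h2 := prodH_conj (S := S) hc hpj 1 hrange
    have h3 : (((List.range D.rank).map fun i => c i ^ aco D (D.simple i) (D.simple j)).prod * 1 : K)
        = 1 := by
      apply S.x_inj_param hpj
      rw [← h2, map_mul, map_mul, hg, map_inv, hg]
      simp
    rw [mul_one, list_range_prod] at h3
    exact h3
  -- hence all `c_k = 1`
  have h2 : ∀ k < D.rank, c k = 1 := by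
    intro k hk
    have e1 : ∏ j ∈ Finset.range D.rank,
        (∏ i ∈ Finset.range D.rank, c i ^ aco D (D.simple i) (D.simple j)) ^ B j k = 1 := by
      apply Finset.prod_eq_one
      intro j hj
      rw [h1 j (Finset.mem_range.mp hj), _root_.one_zpow]
    have e2 : ∏ j ∈ Finset.range D.rank,
        (∏ i ∈ Finset.range D.rank, c i ^ aco D (D.simple i) (D.simple j)) ^ B j k =
        ∏ i ∈ Finset.range D.rank, c i ^ (if i = k then (1 : ℤ) else 0) := by
      have : ∀ j ∈ Finset.range D.rank,
          (∏ i ∈ Finset.range D.rank, c i ^ aco D (D.simple i) (D.simple j)) ^ B j k =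
          ∏ i ∈ Finset.range D.rank, c i ^ (aco D (D.simple i) (D.simple j) * B j k) := by
        intro j _
        rw [← Finset.prod_zpow]
        apply Finset.prod_congr rfl
        intro i _
        rw [_root_.zpow_mul]
      rw [Finset.prod_congr rfl this, Finset.prod_comm]
      apply Finset.prod_congr rfl
      intro i hi
      rw [prod_zpow_sum₀ (hc i), hB i (Finset.mem_range.mp hi) k hk]
    rw [e2] at e1
    rw [Finset.prod_eq_single k] at e1
    · simpa using e1
    · intro i _ hik
      rw [if_neg hik, zpow_zero]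
    · intro h
      exact absurd (Finset.mem_range.mpr hk) h
  have h3 : ∀ l : List ℕ, (∀ i ∈ l, i < D.rank) → S.prodH c l = 1 := by
    intro l
    induction l with
    | nil => intro _; rfl
    | cons i l ih =>
      intro hl
      have hi := hl i List.mem_cons_self
      rw [prodH_cons, h2 i hi, S.h_one (J.S i hi).1, one_mul,
        ih fun j hj => hl j (List.mem_cons_of_mem _ hj)]
  exact h3 _ hrange

end StRep

end Cfsg.Agent.Lib.Helper8.Chev
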