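import Cfsg.Agent.Lib.Helper8.ChevSt14
import Cfsg.Prelude.Def_SteinbergCover

set_option autoImplicit false

/-! The group presented by (R1), (R2) as a group with root elements. -/

namespace Cfsg.Agent.Lib.Helper8.Chev

open Cfsg.Lie Matrix

variable {D : ChevalleyDatum} {K : Type*} [Field K]

theorem mk_stWordAB (w : List (ℕ × K)) :
    PresentedGroup.mk (D.steinbergRelsAB K) (D.stWord w) = wS (D.scGen K) w := by
  unfold ChevalleyDatum.stWord wS ChevalleyDatum.scGen
  rw [map_list_prod, List.map_map]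
  rfl

theorem scGen_add {r : ℕ} (hr : r < D.nroots) (t u : K) :
    D.scGen K r t * D.scGen K r u = D.scGen K r (t + u) := by
  have h : D.stX r t * D.stX r u * (D.stX r (t + u))⁻¹ ∈ D.steinbergRelsAB K :=
    Or.inl ⟨r, t, u, hr, rfl⟩
  have := PresentedGroup.one_of_mem h
  rw [map_mul, map_mul, map_inv, mul_inv_eq_one] at this
  exact this

theorem scGen_comm {r s : ℕ} (hr : r < D.nroots) (hs : s < D.nroots) (h1 : s ≠ r)
    (h2 : s ≠ D.neg r) (t u : K) :
    D.scGen K s u * D.scGen K r t =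
      D.scGen K r t * D.scGen K s u * wS (D.scGen K) (D.commWord K r s t u) := by
  have h : (D.stX s u)⁻¹ * (D.stX r t)⁻¹ * D.stX s u * D.stX r t *
      (D.stWord (D.commWord K r s t u))⁻¹ ∈ D.steinbergRelsAB K :=
    Or.inr ⟨r, s, t, u, hr, hs, h1, h2, rfl⟩
  have := PresentedGroup.one_of_mem h
  rw [map_mul, map_mul, map_mul, map_mul, map_inv, map_inv, map_inv, mk_stWordAB,
    mul_inv_eq_one] at this
  rw [← this]
  unfold ChevalleyDatum.scGen
  group

theorem scGen_closure :
    Subgroup.closure {g : D.SteinbergCover K | ∃ r < D.nroots, ∃ t : K, g = D.scGen K r t} = ⊤ := by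
  rw [eq_top_iff, ← PresentedGroup.closure_range_of (D.steinbergRelsAB K)]
  apply Subgroup.closure_mono
  rintro g ⟨⟨r, t⟩, rfl⟩
  refine ⟨r.val, r.isLt, t, ?_⟩
  unfold ChevalleyDatum.scGen ChevalleyDatum.stX PresentedGroup.of
  rw [dif_pos r.isLt]

/-- the group presented by (R1), (R2) with a homomorphism to the Chevalley group -/
noncomputable def scRepOf (hD : D ∈ [chevG2, chevB2, chevD4, chevF4, chevE6, chevE7, chevE8])
    (θ : D.SteinbergCover K →* ↥(D.group K))
    (hθ : ∀ (r : ℕ) (t : K), r < D.nroots →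
      ((θ (D.scGen K r t) : GL D.Idx K) : Matrix D.Idx D.Idx K) = D.x K r t) :
    StRep D K (D.SteinbergCover K) where
  x := D.scGen K
  θ := (D.group K).subtype.comp θ
  hD := hD
  add := fun r hr t u => scGen_add hr t u
  comm := fun r hr s hs h1 h2 t u => scGen_comm hr hs h1 h2 t u
  map := fun r hr t => hθ r t hr
  gen := scGen_closure

theorem scRepOf_ker (hD : D ∈ [chevG2, chevB2, chevD4, chevF4, chevE6, chevE7, chevE8])
    (θ : D.SteinbergCover K →* ↥(D.group K))
    (hθ : ∀ (r : ℕ) (t : K), r < D.nroots →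
      ((θ (D.scGen K r t) : GL D.Idx K) : Matrix D.Idx D.Idx K) = D.x K r t) :
    (scRepOf hD θ hθ).θ.ker = θ.ker := by
  ext g
  rw [MonoidHom.mem_ker, MonoidHom.mem_ker]
  show ((D.group K).subtype.comp θ) g = 1 ↔ _
  rw [MonoidHom.comp_apply]
  constructor
  · intro h
    exact Subtype.ext h
  · intro h
    rw [h]; rfl

theorem lift_relsAB (hD : D ∈ [chevG2, chevB2, chevD4, chevF4, chevE6, chevE7, chevE8]) :
    ∀ g ∈ D.steinbergRelsAB K, FreeGroup.lift (xGrp hD) g = 1 := by
  intro g hg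
  exact lift_rels hD g (Or.inl hg)

/-- the canonical homomorphism from the group presented by (R1), (R2) onto the Chevalley group -/
noncomputable def scHom (hD : D ∈ [chevG2, chevB2, chevD4, chevF4, chevE6, chevE7, chevE8])
    (K : Type*) [Field K] : D.SteinbergCover K →* ↥(D.group K) :=
  PresentedGroup.toGroup (lift_relsAB hD)

theorem scHom_scGen (hD : D ∈ [chevG2, chevB2, chevD4, chevF4, chevE6, chevE7, chevE8]) (r : ℕ)
    (t : K) (_hr : r < D.nroots) :
    ((scHom hD K (D.scGen K r t) : GL D.Idx K) : Matrix D.Idx D.Idx K) = D.x K r t := by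
  have : scHom hD K (D.scGen K r t) = FreeGroup.lift (xGrp hD) (D.stX r t) := rfl
  rw [this, lift_stX, x_eq_xN]

theorem scHom_surjective (hD : D ∈ [chevG2, chevB2, chevD4, chevF4, chevE6, chevE7, chevE8]) :
    Function.Surjective (scHom hD K) := by
  rintro ⟨g, hg⟩
  have key : ∀ g ∈ D.group K, ∃ hg : g ∈ D.group K, (⟨g, hg⟩ : ↥(D.group K)) ∈ (scHom hD K).range := by
    intro g hg
    unfold ChevalleyDatum.group at hg
    induction hg using Subgroup.closure_induction with
    | mem g hg' =>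
      obtain ⟨r, t, hm⟩ := hg'
      refine ⟨Subgroup.subset_closure ⟨r, t, hm⟩, D.scGen K r.val t, ?_⟩
      apply Subtype.ext
      apply Units.ext
      rw [scHom_scGen hD r.val t r.isLt, hm]
      unfold ChevalleyDatum.x
      rw [dif_pos r.isLt]
    | one => exact ⟨one_mem _, one_mem _⟩
    | mul a b _ _ ha hb =>
      obtain ⟨ha1, ha2⟩ := ha
      obtain ⟨hb1, hb2⟩ := hb
      exact ⟨mul_mem ha1 hb1, mul_mem ha2 hb2⟩
    | inv a _ ha =>
      obtain ⟨ha1, ha2⟩ := ha
      exact ⟨inv_mem ha1, inv_mem ha2⟩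
  obtain ⟨_, γ, hγ⟩ := key g hg
  exact ⟨γ, hγ⟩

theorem scHom_ker_le (hD : D ∈ [chevG2, chevB2, chevD4, chevF4, chevE6, chevE7, chevE8]) :
    (scHom hD K).ker ≤ Subgroup.center (D.SteinbergCover K) := by
  rw [← scRepOf_ker hD (scHom hD K) (fun r t hr => scHom_scGen hD r t hr)]
  exact (scRepOf hD (scHom hD K) (fun r t hr => scHom_scGen hD r t hr)).ker_le_center

end Cfsg.Agent.Lib.Helper8.Chev
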