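import Cfsg.Agent.Lib.Helper8.ChevSt17

set_option autoImplicit false

/-! Embeddings of root systems compatible with the structure tables induce homomorphisms of
the groups presented by Steinberg's relations. -/

namespace Cfsg.Agent.Lib.Helper8.Chev

open Cfsg.Lie Matrix

/-- a map of root indices compatible with the structure tables -/
structure EmbOK (D D' : ChevalleyDatum) (ι : ℕ → ℕ) : Prop where
  lt : ∀ r < D.nroots, ι r < D'.nroots
  inj : ∀ r < D.nroots, ∀ s < D.nroots, ι s = ι r → s = r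
  neg_lt : ∀ r < D.nroots, D.neg r < D.nroots
  neg : ∀ r < D.nroots, ι (D.neg r) = D'.neg (ι r)
  letters : ∀ r < D.nroots, ∀ s < D.nroots, ∀ c ∈ D.commTerms r s, c.1 < D.nroots
  comm : ∀ r < D.nroots, ∀ s < D.nroots, s ≠ r → s ≠ D.neg r →
    (D.commTerms r s).map (fun c => (ι c.1, c.2)) = D'.commTerms (ι r) (ι s)
  rank_le : D.rank ≤ D'.rank
  simple : ∀ i < D.rank, ι (D.simple i) = D'.simple i

/-- the decidable form -/
def checkEmb (D D' : ChevalleyDatum) (l : List ℕ) : Bool :=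
  ((List.range D.nroots).all fun r =>
    decide (l.getD r 0 < D'.nroots) && decide (D.neg r < D.nroots) &&
    decide (l.getD (D.neg r) 0 = D'.neg (l.getD r 0)) &&
    (List.range D.nroots).all fun s =>
      (decide (l.getD s 0 = l.getD r 0 → s = r)) &&
      ((D.commTerms r s).all fun c => decide (c.1 < D.nroots)) &&
      (decide (s = r) || decide (s = D.neg r) ||
        decide ((D.commTerms r s).map (fun c => (l.getD c.1 0, c.2)) =
          D'.commTerms (l.getD r 0) (l.getD s 0)))) &&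
  decide (D.rank ≤ D'.rank) &&
  (List.range D.rank).all fun i => decide (l.getD (D.simple i) 0 = D'.simple i)

theorem embOK_of_check {D D' : ChevalleyDatum} {l : List ℕ} (h : checkEmb D D' l = true) :
    EmbOK D D' (fun r => l.getD r 0) := by
  unfold checkEmb at h
  simp only [Bool.and_eq_true, List.all_eq_true, List.mem_range, decide_eq_true_eq,
    Bool.or_eq_true] at h
  obtain ⟨⟨h1, h2⟩, h3⟩ := h
  refine ⟨fun r hr => (h1 r hr).1.1.1, fun r hr s hs => ((h1 r hr).2 s hs).1.1,
    fun r hr => (h1 r hr).1.1.2, fun r hr => (h1 r hr).1.2,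
    fun r hr s hs c hc => ((h1 r hr).2 s hs).1.2 c hc, ?_, h2, h3⟩
  intro r hr s hs hsr hsn
  rcases ((h1 r hr).2 s hs).2 with (h | h) | h
  · exact absurd h hsr
  · exact absurd h hsn
  · exact h

section Hom

variable {D D' : ChevalleyDatum} {ι : ℕ → ℕ} {K : Type*} [Field K] {Γ' : Type*} [Group Γ']

/-- the images of the generators -/
def embX (D : ChevalleyDatum) (ι : ℕ → ℕ) (S' : StRep D' K Γ') (r : ℕ) (t : K) : Γ' :=
  if r < D.nroots then S'.x (ι r) t else 1

theorem lift_stX_emb (S' : StRep D' K Γ') (r : ℕ) (t : K) :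
    FreeGroup.lift (fun a : Fin D.nroots × K => S'.x (ι a.1.val) a.2) (D.stX r t) =
      embX D ι S' r t := by
  unfold ChevalleyDatum.stX embX
  by_cases hr : r < D.nroots
  · rw [dif_pos hr, if_pos hr, FreeGroup.lift_apply_of]
  · rw [dif_neg hr, if_neg hr, map_one]

theorem lift_stWord_emb (S' : StRep D' K Γ') (w : List (ℕ × K)) :
    FreeGroup.lift (fun a : Fin D.nroots × K => S'.x (ι a.1.val) a.2) (D.stWord w) =
      wS (embX D ι S') w := by
  unfold ChevalleyDatum.stWord
  induction w with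
  | nil => simp
  | cons p w ih =>
    rw [List.map_cons, List.prod_cons, map_mul, ih, lift_stX_emb, wS_cons]

theorem wS_embX (S' : StRep D' K Γ') (w : List (ℕ × K)) (hw : ∀ p ∈ w, p.1 < D.nroots) :
    wS (embX D ι S') w = wS S'.x (w.map fun p => (ι p.1, p.2)) := by
  induction w with
  | nil => simp
  | cons p w ih =>
    rw [wS_cons, List.map_cons, wS_cons, ih fun q hq => hw q (List.mem_cons_of_mem _ hq)]
    unfold embX
    rw [if_pos (hw p List.mem_cons_self)]

theorem EmbOK.commWord (h : EmbOK D D' ι) {r s : ℕ} (hr : r < D.nroots) (hs : s < D.nroots)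
    (h1 : s ≠ r) (h2 : s ≠ D.neg r) (t u : K) :
    (D.commWord K r s t u).map (fun p => (ι p.1, p.2)) = D'.commWord K (ι r) (ι s) t u := by
  unfold ChevalleyDatum.commWord
  rw [← h.comm r hr s hs h1 h2, List.map_map, List.map_map]
  rfl

theorem EmbOK.nWord (h : EmbOK D D' ι) {r : ℕ} (hr : r < D.nroots) (t : K) :
    (D.nWord r t).map (fun p => (ι p.1, p.2)) = D'.nWord (ι r) t := by
  unfold ChevalleyDatum.nWord
  simp only [List.map_cons, List.map_nil, h.neg r hr]

theorem EmbOK.hWord (h : EmbOK D D' ι) {r : ℕ} (hr : r < D.nroots) (t : K) :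
    (D.hWord r t).map (fun p => (ι p.1, p.2)) = D'.hWord (ι r) t := by
  unfold ChevalleyDatum.hWord
  rw [List.map_append, h.nWord hr, h.nWord hr]

theorem EmbOK.hWord_lt (h : EmbOK D D' ι) {r : ℕ} (hr : r < D.nroots) (t : K) :
    ∀ p ∈ D.hWord r t, p.1 < D.nroots := by
  intro p hp
  unfold ChevalleyDatum.hWord ChevalleyDatum.nWord at hp
  simp only [List.cons_append, List.nil_append, List.mem_cons, List.not_mem_nil, or_false] at hp
  have := h.neg_lt r hr
  rcases hp with rfl | rfl | rfl | rfl | rfl | rfl <;> assumption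

theorem lift_stH_emb (h : EmbOK D D' ι) (S' : StRep D' K Γ') {r : ℕ} (hr : r < D.nroots) (t : K) :
    FreeGroup.lift (fun a : Fin D.nroots × K => S'.x (ι a.1.val) a.2) (D.stH r t) =
      S'.h (ι r) t := by
  unfold ChevalleyDatum.stH
  rw [lift_stWord_emb, wS_embX S' _ (h.hWord_lt hr t), h.hWord hr, ← StRep.h_eq_wS]

theorem lift_rels_emb (h : EmbOK D D' ι) (S' : StRep D' K Γ')
    (hR' : ∀ r < D'.nroots, ∀ c d : K, c ≠ 0 → d ≠ 0 → S'.h r c * S'.h r d = S'.h r (c * d)) :
    ∀ g ∈ D.steinbergRels K,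
      FreeGroup.lift (fun a : Fin D.nroots × K => S'.x (ι a.1.val) a.2) g = 1 := by
  intro g hg
  rcases hg with (⟨r, t₁, t₂, hr, rfl⟩ | ⟨r, s, t, u, hr, hs, h1, h2, rfl⟩) |
    ⟨r, t₁, t₂, hr, h1, h2, rfl⟩
  · rw [map_mul, map_mul, map_inv, mul_inv_eq_one, lift_stX_emb, lift_stX_emb, lift_stX_emb]
    unfold embX
    simp only [if_pos hr]
    rw [S'.add _ (h.lt r hr)]
  · rw [map_mul, map_mul, map_mul, map_mul, map_inv, map_inv, map_inv, mul_inv_eq_one,
      lift_stX_emb, lift_stX_emb, lift_stWord_emb]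
    have hlt : ∀ p ∈ D.commWord K r s t u, p.1 < D.nroots := by
      intro p hp
      unfold ChevalleyDatum.commWord at hp
      rw [List.mem_map] at hp
      obtain ⟨c, hc, rfl⟩ := hp
      exact h.letters r hr s hs c hc
    rw [wS_embX S' _ hlt, h.commWord hr hs h1 h2]
    unfold embX
    simp only [if_pos hr, if_pos hs]
    have hne1 : ι s ≠ ι r := fun e => h1 (h.inj r hr s hs e)
    have hne2 : ι s ≠ D'.neg (ι r) := by
      intro e
      rw [← h.neg r hr] at e
      exact h2 (h.inj _ (h.neg_lt r hr) s hs e)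
    have := S'.comm (ι r) (h.lt r hr) (ι s) (h.lt s hs) hne1 hne2 t u
    calc (S'.x (ι s) u)⁻¹ * (S'.x (ι r) t)⁻¹ * S'.x (ι s) u * S'.x (ι r) t
        = (S'.x (ι s) u)⁻¹ * (S'.x (ι r) t)⁻¹ * (S'.x (ι s) u * S'.x (ι r) t) := by group
      _ = _ := by rw [this]; group
  · rw [map_mul, map_mul, map_inv, mul_inv_eq_one, lift_stH_emb h S' hr, lift_stH_emb h S' hr,
      lift_stH_emb h S' hr, hR' _ (h.lt r hr) _ _ h1 h2]

/-- the homomorphism of presented groups induced by an embedding of root systems -/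
noncomputable def embHom (h : EmbOK D D' ι) (S' : StRep D' K Γ')
    (hR' : ∀ r < D'.nroots, ∀ c d : K, c ≠ 0 → d ≠ 0 → S'.h r c * S'.h r d = S'.h r (c * d)) :
    D.SteinbergGroup K →* Γ' :=
  PresentedGroup.toGroup (lift_rels_emb h S' hR')

theorem embHom_stGen (h : EmbOK D D' ι) (S' : StRep D' K Γ')
    (hR' : ∀ r < D'.nroots, ∀ c d : K, c ≠ 0 → d ≠ 0 → S'.h r c * S'.h r d = S'.h r (c * d))
    {r : ℕ} (hr : r < D.nroots) (t : K) :
    embHom h S' hR' (D.stGen K r t) = S'.x (ι r) t := by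
  have : embHom h S' hR' (D.stGen K r t) =
      FreeGroup.lift (fun a : Fin D.nroots × K => S'.x (ι a.1.val) a.2) (D.stX r t) := rfl
  rw [this, lift_stX_emb]
  unfold embX
  rw [if_pos hr]

theorem embHom_stH (h : EmbOK D D' ι) (S' : StRep D' K Γ')
    (hR' : ∀ r < D'.nroots, ∀ c d : K, c ≠ 0 → d ≠ 0 → S'.h r c * S'.h r d = S'.h r (c * d))
    {r : ℕ} (hr : r < D.nroots) (t : K) :
    embHom h S' hR' (PresentedGroup.mk (D.steinbergRels K) (D.stH r t)) = S'.h (ι r) t := by
  have : embHom h S' hR' (PresentedGroup.mk (D.steinbergRels K) (D.stH r t)) =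
      FreeGroup.lift (fun a : Fin D.nroots × K => S'.x (ι a.1.val) a.2) (D.stH r t) := rfl
  rw [this, lift_stH_emb h S' hr]

end Hom

end Cfsg.Agent.Lib.Helper8.Chev
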