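import Cfsg.Agent.Lib.Helper8.ChevSt1

set_option autoImplicit false

/-! Steinberg groups: the subgroups `Ū⁺`, `Ū⁻` map injectively to the Chevalley group. -/

namespace Cfsg.Agent.Lib.Helper8.Chev

open Cfsg.Lie Matrix

section Roots

variable {D : ChevalleyDatum}

/-- for a negative root `a` the chain of `b` under `a` goes downwards -/
theorem chainRoot_down (V : Valid0 D) (Tr : TriP D) {a b i q : ℕ} (ha : a < D.nroots)
    (hneg : a < D.nroots / 2) (h : D.chainRoot a b i = some q) : q < b := by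
  obtain ⟨M, hM⟩ := chainRoot_spec h
  have hne : D.chainEntry a b ≠ [] := by
    intro h0; rw [h0] at hM; simp at hM
  obtain ⟨e, he, heb, hL⟩ := chainEntry_mem D hne
  rw [← hL] at hM
  have hq : (q, M) ∈ e.2.toList := List.mem_of_getElem? hM
  have := (Tr a ha e he (q, M) hq).2 hneg
  rw [heb] at this
  exact this

/-- the roots on the right-hand side of the commutator formula of two negative roots `-k > -r`
all have index less than `-k` -/
theorem commWord_lettersN (V : Valid0 D) (Tr : TriP D) {F : Type*} [Field F] {k r : ℕ}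
    (hk : D.nroots / 2 ≤ k) (hkr : k < r) (hr : r < D.nroots) (a u : F) :
    ∀ p ∈ D.commWord F (D.nroots - 1 - k) (D.nroots - 1 - r) a u,
      ∃ q, k + 1 ≤ q ∧ q < D.nroots ∧ p.1 = D.nroots - 1 - q := by
  have heven := V.even
  intro p hp
  unfold ChevalleyDatum.commWord at hp
  rw [List.mem_map] at hp
  obtain ⟨c, hc, rfl⟩ := hp
  have hk' : D.nroots - 1 - k < D.nroots := by omega
  have hr' : D.nroots - 1 - r < D.nroots := by omega
  have hkneg : D.nroots - 1 - k < D.nroots / 2 := by omega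
  have hrneg : D.nroots - 1 - r < D.nroots / 2 := by omega
  have key : c.1 < D.nroots - 1 - k := by
    rcases commTerms_root hc with ⟨i, h⟩ | ⟨i, h⟩ | ⟨k', h1, h2⟩ | ⟨k', h1, h2⟩
    · have := chainRoot_down V Tr hk' hkneg h
      omega
    · have := chainRoot_down V Tr hr' hrneg h
      omega
    · have h3 := chainRoot_down V Tr hk' hkneg h1
      have := chainRoot_down V Tr (by omega) (by omega) h2
      omega
    · have h3 := chainRoot_down V Tr hr' hrneg h1
      have := chainRoot_down V Tr (by omega) (by omega) h2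
      omega
  exact ⟨D.nroots - 1 - c.1, by omega, by omega, by show c.1 = _; omega⟩

end Roots

namespace StRep

variable {D : ChevalleyDatum} {K : Type*} [Field K] {Γ : Type*} [Group Γ] (S : StRep D K Γ)

/-- the subgroup generated by the root elements of the positive roots -/
def Upos : Subgroup Γ :=
  Subgroup.closure {g | ∃ (r : ℕ) (t : K), D.nroots / 2 ≤ r ∧ r < D.nroots ∧ g = S.x r t}

/-- the subgroup generated by the root elements of the negative roots -/
def Uneg : Subgroup Γ :=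
  Subgroup.closure {g | ∃ (r : ℕ) (t : K), r < D.nroots / 2 ∧ g = S.x r t}

theorem x_mem_Upos {r : ℕ} (h1 : D.nroots / 2 ≤ r) (h2 : r < D.nroots) (t : K) :
    S.x r t ∈ S.Upos := Subgroup.subset_closure ⟨r, t, h1, h2, rfl⟩

theorem x_mem_Uneg {r : ℕ} (h1 : r < D.nroots / 2) (t : K) :
    S.x r t ∈ S.Uneg := Subgroup.subset_closure ⟨r, t, h1, rfl⟩

theorem collect_pos : ∀ (w : List (ℕ × K)),
    (∀ p ∈ w, D.nroots / 2 ≤ p.1 ∧ p.1 < D.nroots) → ∀ t : ℕ → K,
    ∃ t' : ℕ → K, wS S.x w * wS S.x (segW D (D.nroots / 2) t) =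
      wS S.x (segW D (D.nroots / 2) t') := by
  have V := valid0_of_mem S.hD
  have Tr := triP_of_mem S.hD
  intro w hw t
  have := S.collectG id (fun r _ h => h)
    (fun k r hk hkr hr => ⟨by simp only [id]; omega, by
      simp only [id]; rw [V.neg_eq k (by omega)]; omega⟩)
    (fun k r hk hkr hr a u p hp => ⟨p.1, (commWord_letters V Tr hk hkr hr a u p hp).1,
      (commWord_letters V Tr hk hkr hr a u p hp).2, rfl⟩)
    (D.nroots - D.nroots / 2) (D.nroots / 2) (le_refl _) (by omega) w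
    (fun p hp => ⟨p.1, (hw p hp).1, (hw p hp).2, rfl⟩) t
  exact this

theorem collect_neg : ∀ (w : List (ℕ × K)),
    (∀ p ∈ w, p.1 < D.nroots / 2) → ∀ t : ℕ → K,
    ∃ t' : ℕ → K, wS S.x w * wS S.x (segWn D (D.nroots / 2) t) =
      wS S.x (segWn D (D.nroots / 2) t') := by
  have V := valid0_of_mem S.hD
  have Tr := triP_of_mem S.hD
  have heven := V.even
  intro w hw t
  have := S.collectG (fun r => D.nroots - 1 - r) (fun r _ h => by omega)
    (fun k r hk hkr hr => ⟨by omega, by
      rw [V.neg_eq (D.nroots - 1 - k) (by omega)]; omega⟩)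
    (fun k r hk hkr hr a u p hp => commWord_lettersN V Tr hk hkr hr a u p hp)
    (D.nroots - D.nroots / 2) (D.nroots / 2) (le_refl _) (by omega) w
    (fun p hp => ⟨D.nroots - 1 - p.1, by have := hw p hp; omega, by have := hw p hp; omega,
      by have := hw p hp; omega⟩) t
  exact this

/-- every element of `Ū⁺` is an ordered product -/
theorem exists_seg_pos {g : Γ} (hg : g ∈ S.Upos) :
    ∃ t : ℕ → K, g = wS S.x (segW D (D.nroots / 2) t) := by
  have V := valid0_of_mem S.hD
  have h1 : ∀ (r : ℕ) (u : K), D.nroots / 2 ≤ r → r < D.nroots →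
      ∃ t : ℕ → K, S.x r u = wS S.x (segW D (D.nroots / 2) t) := by
    intro r u h1 h2
    obtain ⟨t', ht'⟩ := S.collect_pos [(r, u)] (by
      intro p hp
      rw [List.mem_singleton] at hp
      subst hp
      exact ⟨h1, h2⟩) (fun _ => 0)
    refine ⟨t', ?_⟩
    rw [← ht', ← segG_id, S.wS_segG_zero id (fun r _ h => h) (le_refl _), mul_one, wS_cons, wS_nil,
      mul_one]
  unfold Upos at hg
  induction hg using Subgroup.closure_induction'' with
  | mem g hg =>
    obtain ⟨r, u, h2, h3, rfl⟩ := hg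
    exact h1 r u h2 h3
  | inv_mem g hg =>
    obtain ⟨r, u, h2, h3, rfl⟩ := hg
    rw [S.x_inv h3]
    exact h1 r (-u) h2 h3
  | one =>
    exact ⟨fun _ => 0, by rw [← segG_id, S.wS_segG_zero id (fun r _ h => h) (le_refl _)]⟩
  | mul g g' _ _ hg hg' =>
    obtain ⟨t, rfl⟩ := hg
    obtain ⟨t', rfl⟩ := hg'
    obtain ⟨t'', ht''⟩ := S.collect_pos (segW D (D.nroots / 2) t) (fun p hp => segW_mem hp) t'
    exact ⟨t'', ht''⟩

/-- every element of `Ū⁻` is an ordered product -/
theorem exists_seg_neg {g : Γ} (hg : g ∈ S.Uneg) :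
    ∃ t : ℕ → K, g = wS S.x (segWn D (D.nroots / 2) t) := by
  have V := valid0_of_mem S.hD
  have heven := V.even
  have h1 : ∀ (r : ℕ) (u : K), r < D.nroots / 2 →
      ∃ t : ℕ → K, S.x r u = wS S.x (segWn D (D.nroots / 2) t) := by
    intro r u h1
    obtain ⟨t', ht'⟩ := S.collect_neg [(r, u)] (by
      intro p hp
      rw [List.mem_singleton] at hp
      subst hp
      exact h1) (fun _ => 0)
    refine ⟨t', ?_⟩
    rw [← ht', ← segG_neg, S.wS_segG_zero _ (fun r _ h => by omega) (le_refl _), mul_one, wS_cons,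
      wS_nil, mul_one]
  unfold Uneg at hg
  induction hg using Subgroup.closure_induction'' with
  | mem g hg =>
    obtain ⟨r, u, h2, rfl⟩ := hg
    exact h1 r u h2
  | inv_mem g hg =>
    obtain ⟨r, u, h2, rfl⟩ := hg
    rw [S.x_inv (by omega)]
    exact h1 r (-u) h2
  | one =>
    exact ⟨fun _ => 0, by
      rw [← segG_neg, S.wS_segG_zero _ (fun r _ h => by omega) (le_refl _)]⟩
  | mul g g' _ _ hg hg' =>
    obtain ⟨t, rfl⟩ := hg
    obtain ⟨t', rfl⟩ := hg'
    obtain ⟨t'', ht''⟩ := S.collect_neg (segWn D (D.nroots / 2) t) (fun p hp => by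
      obtain ⟨q, hq1, hq2, hpq⟩ := segWn_mem hp
      omega) t'
    exact ⟨t'', ht''⟩

/-- `θ` is injective on `Ū⁺` -/
theorem inj_pos {g g' : Γ} (hg : g ∈ S.Upos) (hg' : g' ∈ S.Upos) (h : S.θ g = S.θ g') : g = g' := by
  have V := valid0_of_mem S.hD
  have V1 := valid1_of_mem S.hD
  have Tr := triP_of_mem S.hD
  have Sp := sepP_of_mem S.hD
  have C := copP_of_mem S.hD
  obtain ⟨t, rfl⟩ := S.exists_seg_pos hg
  obtain ⟨t', rfl⟩ := S.exists_seg_pos hg'
  have h1 : ((S.θ (wS S.x (segW D (D.nroots / 2) t)) : GL D.Idx K) : Matrix D.Idx D.Idx K) =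
      ((S.θ (wS S.x (segW D (D.nroots / 2) t')) : GL D.Idx K) : Matrix D.Idx D.Idx K) := by
    rw [h]
  rw [S.map_wS _ (fun p hp => (segW_mem hp).2), S.map_wS _ (fun p hp => (segW_mem hp).2)] at h1
  have h2 := seg_unique V V1 Tr Sp C (D.nroots - D.nroots / 2) (D.nroots / 2) (le_refl _)
    (by omega) t t' h1
  rw [segW_congr h2]

/-- `θ` is injective on `Ū⁻` -/
theorem inj_neg {g g' : Γ} (hg : g ∈ S.Uneg) (hg' : g' ∈ S.Uneg) (h : S.θ g = S.θ g') : g = g' := by
  have V := valid0_of_mem S.hD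
  have V1 := valid1_of_mem S.hD
  have Tr := triP_of_mem S.hD
  have Sn := sepN_of_mem S.hD
  have C := copP_of_mem S.hD
  obtain ⟨t, rfl⟩ := S.exists_seg_neg hg
  obtain ⟨t', rfl⟩ := S.exists_seg_neg hg'
  have h1 : ((S.θ (wS S.x (segWn D (D.nroots / 2) t)) : GL D.Idx K) : Matrix D.Idx D.Idx K) =
      ((S.θ (wS S.x (segWn D (D.nroots / 2) t')) : GL D.Idx K) : Matrix D.Idx D.Idx K) := by
    rw [h]
  have hlt : ∀ (t : ℕ → K), ∀ p ∈ segWn D (D.nroots / 2) t, p.1 < D.nroots := by
    intro t p hp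
    obtain ⟨q, hq1, hq2, hpq⟩ := segWn_mem hp
    omega
  rw [S.map_wS _ (hlt t), S.map_wS _ (hlt t')] at h1
  have h2 := seg_uniqueN V V1 Tr Sn C (D.nroots - D.nroots / 2) (D.nroots / 2) (le_refl _)
    (by omega) t t' h1
  rw [segWn_congr h2]

end StRep

end Cfsg.Agent.Lib.Helper8.Chev
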