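import Cfsg.Agent.Lib.Helper8.ChevSt2
import Cfsg.Agent.Lib.Helper8.ChevSL2b
import Cfsg.Agent.Lib.Helper8.ChevHi6

set_option autoImplicit false

/-! Steinberg groups: the facts about the Chevalley group and the root data needed for the action
of `n̄_p(c)` on the root elements. -/

namespace Cfsg.Agent.Lib.Helper8.Chev

open Cfsg.Lie Matrix

section Neg

variable {D : ChevalleyDatum}

/-- the root `q` is negative and different from `p'` -/
def okRN (n p' q : ℕ) : Bool := Nat.blt q (n / 2) && !(Nat.beq q p')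

theorem okRN_iff {n p' q : ℕ} : okRN n p' q = true ↔ q < n / 2 ∧ q ≠ p' := by
  unfold okRN
  rw [Bool.and_eq_true, Nat.blt_eq, Bool.not_eq_true', nat_beq_eq_false]

noncomputable def parOKN (D : ChevalleyDatum) (p' r s : ℕ) : Bool :=
  allF (fun q : ℕ × ℤ => okRN D.nroots p' q.1) (lookF (rowAt D r) s) &&
  allF (fun q : ℕ × ℤ => okRN D.nroots p' q.1) (lookF (rowAt D s) r) &&
  (match third (lookF (rowAt D r) s) with
    | some k => allF (fun q : ℕ × ℤ => okRN D.nroots p' q.1) (lookF (rowAt D k) s)
    | none => true) &&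
  (match third (lookF (rowAt D s) r) with
    | some k => allF (fun q : ℕ × ℤ => okRN D.nroots p' q.1) (lookF (rowAt D k) r)
    | none => true)

noncomputable def checkParN (D : ChevalleyDatum) : Bool :=
  forallLtF (fun i => withNat (D.simple i) fun p =>
    forallLtF (fun s => !(Nat.blt s (D.nroots / 2)) || Nat.beq s (D.nroots - 1 - p) ||
      (parOKN D (D.nroots - 1 - p) p s && parOKN D (D.nroots - 1 - p) (D.nroots - 1 - p) s))
      D.nroots) D.rank

theorem parOKN_letters (V : Valid0 D) {p' r s : ℕ} (hr : r < D.nroots) (hs : s < D.nroots)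
    (h : parOKN D p' r s = true) :
    ∀ c ∈ D.commTerms r s, c.1 < D.nroots / 2 ∧ c.1 ≠ p' := by
  unfold parOKN at h
  simp only [Bool.and_eq_true, allF_eq_true, rowAt_eq, lookF_eq, okRN_iff] at h
  obtain ⟨⟨⟨h1, h2⟩, h3⟩, h4⟩ := h
  intro c hc
  rcases commTerms_root hc with ⟨i, hi⟩ | ⟨i, hi⟩ | ⟨k, hk1, hk2⟩ | ⟨k, hk1, hk2⟩
  · obtain ⟨M, hM⟩ := chainRoot_mem hi
    exact h1 _ hM
  · obtain ⟨M, hM⟩ := chainRoot_mem hi
    exact h2 _ hM
  · rw [chainRoot_three] at hk1
    rw [hk1] at h3
    simp only [allF_eq_true, okRN_iff] at h3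
    obtain ⟨M, hM⟩ := chainRoot_mem hk2
    exact h3 _ hM
  · rw [chainRoot_three] at hk1
    rw [hk1] at h4
    simp only [allF_eq_true, okRN_iff] at h4
    obtain ⟨M, hM⟩ := chainRoot_mem hk2
    exact h4 _ hM

theorem checkParN_G2 : checkParN chevG2 = true := by decide +kernel
theorem checkParN_B2 : checkParN chevB2 = true := by decide +kernel
theorem checkParN_D4 : checkParN chevD4 = true := by decide +kernel
theorem checkParN_F4 : checkParN chevF4 = true := by decide +kernel
theorem checkParN_E6 : checkParN chevE6 = true := by decide +kernel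
theorem checkParN_E7 : checkParN chevE7 = true := by decide +kernel
theorem checkParN_E8 : checkParN chevE8 = true := by decide +kernel

theorem checkParN_of_mem (hD : D ∈ [chevG2, chevB2, chevD4, chevF4, chevE6, chevE7, chevE8]) :
    checkParN D = true :=
  forall_seven (P := fun D => checkParN D = true) checkParN_G2 checkParN_B2 checkParN_D4
    checkParN_F4 checkParN_E6 checkParN_E7 checkParN_E8 hD

/-- the letters of the commutator formula of `±p_i` and a positive root other than `p_i` -/
theorem par_letters_pos (hD : D ∈ [chevG2, chevB2, chevD4, chevF4, chevE6, chevE7, chevE8]) {i : ℕ}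
    (hi : i < D.rank) {r : ℕ} (hr : r = D.simple i ∨ r = D.neg (D.simple i)) {s : ℕ}
    (hs : s < D.nroots) (hspos : D.nroots / 2 ≤ s) (hsp : s ≠ D.simple i) :
    (s ≠ r ∧ s ≠ D.neg r) ∧ ∀ c ∈ D.commTerms r s,
      (D.nroots / 2 ≤ c.1 ∧ c.1 ≠ D.simple i) ∧ c.1 < D.nroots := by
  have V := valid0_of_mem hD
  have J := validJ_of_mem hD
  have hp := (J.S i hi).1
  have hchk := checkPar_of_mem hD
  simp only [checkPar, forallLtF_eq_true, withNat_eq, Bool.and_eq_true, Nat.ble_eq,
    Bool.or_eq_true, Nat.blt_eq, Nat.beq_eq] at hchk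
  obtain ⟨hppos, hall⟩ := hchk i hi
  have hrn : r < D.nroots := by
    rcases hr with rfl | rfl
    · exact hp
    · exact V.neg_lt hp
  have hpar : parOK D (D.simple i) r s = true := by
    rcases hall s hs with (h | h) | h
    · omega
    · exact absurd h hsp
    · rcases hr with rfl | rfl
      · exact h.1
      · rw [V.neg_eq _ hp]; exact h.2
  refine ⟨⟨?_, ?_⟩, parOK_letters V hrn hs hpar⟩
  · rcases hr with rfl | rfl
    · exact hsp
    · rw [V.neg_eq _ hp]; omega
  · rcases hr with rfl | rfl
    · rw [V.neg_eq _ hp]; omega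
    · rw [V.neg_neg hp]; exact hsp

/-- the letters of the commutator formula of `±p_i` and a negative root other than `-p_i` -/
theorem par_letters_neg (hD : D ∈ [chevG2, chevB2, chevD4, chevF4, chevE6, chevE7, chevE8]) {i : ℕ}
    (hi : i < D.rank) {r : ℕ} (hr : r = D.simple i ∨ r = D.neg (D.simple i)) {s : ℕ}
    (hsneg : s < D.nroots / 2) (hsp : s ≠ D.neg (D.simple i)) :
    (s ≠ r ∧ s ≠ D.neg r) ∧ ∀ c ∈ D.commTerms r s,
      c.1 < D.nroots / 2 ∧ c.1 ≠ D.neg (D.simple i) := by
  have V := valid0_of_mem hD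
  have J := validJ_of_mem hD
  have hp := (J.S i hi).1
  have hRP := (refl_pos J (checkRP_of_mem hD) hi).1
  have hchk := checkParN_of_mem hD
  simp only [checkParN, forallLtF_eq_true, withNat_eq, Bool.and_eq_true,
    Bool.or_eq_true, Bool.not_eq_true', Nat.beq_eq] at hchk
  have hall := hchk i hi
  have hs : s < D.nroots := by omega
  have hrn : r < D.nroots := by
    rcases hr with rfl | rfl
    · exact hp
    · exact V.neg_lt hp
  have hnp : D.neg (D.simple i) = D.nroots - 1 - D.simple i := V.neg_eq _ hp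
  have hpar : parOKN D (D.neg (D.simple i)) r s = true := by
    rcases hall s hs with (h | h) | h
    · rw [← Bool.not_eq_true, Nat.blt_eq] at h
      omega
    · rw [← hnp] at h
      exact absurd h hsp
    · rcases hr with rfl | rfl
      · rw [hnp]; exact h.1
      · rw [hnp]; exact h.2
  refine ⟨⟨?_, ?_⟩, parOKN_letters V hrn hs hpar⟩
  · rcases hr with rfl | rfl
    · omega
    · exact hsp
  · rcases hr with rfl | rfl
    · exact hsp
    · rw [V.neg_neg hp]; omega

end Neg

/-! ### The pair of roots used for the action on `X_{±p}` -/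

section Self

/-- exactly one term of root `p`, with coefficient `±1` and linear in the second variable; the
other roots positive and different from `p` -/
def splitB (n p : ℕ) : List (ℕ × ℤ × ℕ × ℕ) → Bool
  | [] => false
  | c :: l =>
    if c.1 = p then
      (decide (c.2.1 = 1) || decide (c.2.1 = -1)) && decide (c.2.2.2 = 1) &&
        l.all (fun c => okR n p c.1)
    else okR n p c.1 && splitB n p l

theorem splitB_spec {n p : ℕ} : ∀ {l : List (ℕ × ℤ × ℕ × ℕ)}, splitB n p l = true →
    ∃ l₁ c l₂, l = l₁ ++ c :: l₂ ∧ c.1 = p ∧ (c.2.1 = 1 ∨ c.2.1 = -1) ∧ c.2.2.2 = 1 ∧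
      (∀ c' ∈ l₁, n / 2 ≤ c'.1 ∧ c'.1 ≠ p) ∧ (∀ c' ∈ l₂, n / 2 ≤ c'.1 ∧ c'.1 ≠ p) := by
  intro l
  induction l with
  | nil => intro h; simp [splitB] at h
  | cons c l ih =>
    intro h
    unfold splitB at h
    split_ifs at h with hc
    · simp only [Bool.and_eq_true, Bool.or_eq_true, decide_eq_true_eq, List.all_eq_true,
        okR_iff] at h
      exact ⟨[], c, l, rfl, hc, h.1.1, h.1.2, by simp, h.2⟩
    · rw [Bool.and_eq_true, okR_iff] at h
      obtain ⟨l₁, c', l₂, e, h1, h2, h3, h4, h5⟩ := ih h.2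
      refine ⟨c :: l₁, c', l₂, by rw [e]; rfl, h1, h2, h3, ?_, h5⟩
      intro c'' hc''
      rw [List.mem_cons] at hc''
      rcases hc'' with rfl | hc''
      · exact h.1
      · exact h4 _ hc''

/-- the pair `(r, s)` expresses `x_p` through the commutator formula -/
def selfB (D : ChevalleyDatum) (i r s : ℕ) : Bool :=
  decide (r < D.nroots) && decide (s < D.nroots) && decide (s ≠ r) && decide (s ≠ D.neg r) &&
  decide (r ≠ D.simple i) && decide (r ≠ D.neg (D.simple i)) &&
  decide (s ≠ D.simple i) && decide (s ≠ D.neg (D.simple i)) &&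
  splitB D.nroots (D.simple i) (D.commTerms r s) &&
  (D.commTerms (D.reflectRoot i r) (D.reflectRoot i s)).all
    (fun c => decide (c.1 = D.neg (D.simple i)) || okR D.nroots (D.simple i) c.1)

def selfAll (D : ChevalleyDatum) (w : List (ℕ × ℕ)) : Bool :=
  decide (w.length = D.rank) && w.zipIdx.all fun e => selfB D e.2 e.1.1 e.1.2

theorem self_G2 : selfAll chevG2 [(5, 8), (1, 11)] = true := by decide +kernel
theorem self_B2 : selfAll chevB2 [(3, 6), (2, 7)] = true := by decide +kernel
theorem self_D4 : selfAll chevD4 [(6, 22), (1, 23), (3, 22), (2, 22)] = true := by decide +kernel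
theorem self_F4 : selfAll chevF4 [(7, 44), (4, 44), (2, 46), (1, 47)] = true := by decide +kernel
theorem self_E6 : selfAll chevE6 [(16, 66), (1, 71), (5, 69), (2, 70), (3, 69), (4, 68)] = true := by
  decide +kernel
theorem self_E7 : selfAll chevE7
    [(1, 125), (7, 122), (2, 124), (3, 123), (4, 122), (5, 121), (6, 120)] = true := by
  decide +kernel
theorem self_E8 : selfAll chevE8
    [(14, 233), (7, 234), (6, 234), (5, 235), (4, 236), (3, 237), (2, 238), (1, 239)] = true := by
  decide +kernel

theorem exists_self_of_all {D : ChevalleyDatum} {w : List (ℕ × ℕ)} (h : selfAll D w = true) :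
    ∀ i < D.rank, ∃ r s, selfB D i r s = true := by
  unfold selfAll at h
  rw [Bool.and_eq_true, decide_eq_true_eq, List.all_eq_true] at h
  intro i hi
  have hi' : i < w.length := by rw [h.1]; exact hi
  refine ⟨w[i].1, w[i].2, ?_⟩
  have := h.2 (w[i], i) (by
    rw [List.mem_zipIdx_iff_getElem?]
    simp [hi'])
  exact this

theorem exists_self {D : ChevalleyDatum}
    (hD : D ∈ [chevG2, chevB2, chevD4, chevF4, chevE6, chevE7, chevE8]) :
    ∀ i < D.rank, ∃ r s, selfB D i r s = true :=
  forall_seven (P := fun D => ∀ i < D.rank, ∃ r s, selfB D i r s = true)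
    (exists_self_of_all self_G2) (exists_self_of_all self_B2) (exists_self_of_all self_D4)
    (exists_self_of_all self_F4) (exists_self_of_all self_E6) (exists_self_of_all self_E7)
    (exists_self_of_all self_E8) hD

end Self

/-! ### The action of `n_p(c)` on the root elements of the Chevalley group -/

section Conj

variable {D : ChevalleyDatum} {F : Type*} [Field F]

/-- the coefficient of the action of `n_{p_i}(c)` on `X_s` -/
noncomputable def nCoef (D : ChevalleyDatum) (F : Type*) [Field F] (i s : ℕ) (c : F) : F :=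
  c ^ aco D (D.simple i) (D.reflectRoot i s) * ((etaF D i s : ℤ) : F)

theorem nCoef_ne_zero (hD : D ∈ [chevG2, chevB2, chevD4, chevF4, chevE6, chevE7, chevE8]) {i : ℕ}
    (hi : i < D.rank) {s : ℕ} (hs : s < D.nroots) {c : F} (hc : c ≠ 0) : nCoef D F i s c ≠ 0 := by
  have J := validJ_of_mem hD
  have H := validH_of_mem hD
  unfold nCoef
  apply mul_ne_zero (zpow_ne_zero _ hc)
  rcases ((nS_props J H.nS hi).2.2 s hs).2.1 with h | h <;> rw [h] <;> simp

theorem nMat_conj_x (hD : D ∈ [chevG2, chevB2, chevD4, chevF4, chevE6, chevE7, chevE8]) {i : ℕ}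
    (hi : i < D.rank) {s : ℕ} (hs : s < D.nroots) {c : F} (hc : c ≠ 0) (u : F) :
    D.nMat F (D.simple i) c * D.x F s u =
      D.x F (D.reflectRoot i s) (nCoef D F i s c * u) * D.nMat F (D.simple i) c := by
  have J := validJ_of_mem hD
  have V1 := valid1_of_mem hD
  have H := validH_of_mem hD
  have hp : D.simple i < D.nroots := (J.S i hi).1
  have hσ := ((nS_props J H.nS hi).2.2 s hs).1
  have h1 := nS_conj J V1 H.nS hi hs (R := F) u
  rw [nMat_eq_hMat_mul J.V V1 hp c, Matrix.mul_assoc, nMat_one_eq, x_eq_xN, h1, ← Matrix.mul_assoc,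
    ← x_eq_xN, hMat_conj_x hD hp hσ hc, Matrix.mul_assoc]
  unfold nCoef
  rw [mul_assoc]

end Conj

end Cfsg.Agent.Lib.Helper8.Chev
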