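import Cfsg.Agent.Lib.Helper8.ChevSt3

set_option autoImplicit false

/-! Steinberg groups: the action of `n̄_p(c)` on the root elements of the roots other than `±p`. -/

namespace Cfsg.Agent.Lib.Helper8.Chev

open Cfsg.Lie Matrix

theorem conj_mem_of_gens {Γ : Type*} [Group Γ] {T : Set Γ} (a : Γ)
    (h : ∀ g ∈ T, a * g * a⁻¹ ∈ Subgroup.closure T) :
    ∀ g ∈ Subgroup.closure T, a * g * a⁻¹ ∈ Subgroup.closure T := by
  have : Subgroup.closure T ≤ (Subgroup.closure T).comap (MulAut.conj a).toMonoidHom := by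
    rw [Subgroup.closure_le]
    intro g hg
    exact h g hg
  intro g hg
  exact this hg

namespace StRep

variable {D : ChevalleyDatum} {K : Type*} [Field K] {Γ : Type*} [Group Γ] (S : StRep D K Γ)

/-- `n̄_r(c) = x̄_r(c) x̄_{-r}(-c⁻¹) x̄_r(c)` -/
def n (r : ℕ) (c : K) : Γ := S.x r c * S.x (D.neg r) (-c⁻¹) * S.x r c

theorem n_eq_wS (r : ℕ) (c : K) : S.n r c = wS S.x (D.nWord r c) := by
  unfold n ChevalleyDatum.nWord
  rw [wS_cons, wS_cons, wS_cons, wS_nil, mul_one, mul_assoc]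

theorem map_n {r : ℕ} (hr : r < D.nroots) (c : K) :
    ((S.θ (S.n r c) : GL D.Idx K) : Matrix D.Idx D.Idx K) = D.nMat K r c := by
  have V := valid0_of_mem S.hD
  rw [n_eq_wS, S.map_wS _ (nWord_lt V hr c), nMat_eq_wN]

theorem n_inv {r : ℕ} (hr : r < D.nroots) (c : K) : (S.n r c)⁻¹ = S.n r (-c) := by
  have V := valid0_of_mem S.hD
  have hnr := V.neg_lt hr
  unfold n
  rw [_root_.mul_inv_rev, _root_.mul_inv_rev, S.x_inv hr, S.x_inv hnr, neg_neg, inv_neg, neg_neg, mul_assoc]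

theorem map_mem_pos {g : Γ} (hg : g ∈ S.Upos) : S.θ g ∈ D.posUnipotent K := by
  have P := posP_of_mem S.hD
  unfold Upos at hg
  induction hg using Subgroup.closure_induction with
  | mem g hg =>
    obtain ⟨r, t, h1, h2, rfl⟩ := hg
    exact Subgroup.subset_closure ⟨r, t, (P r h2).1.mpr h1, S.map r h2 t⟩
  | one => rw [map_one]; exact one_mem _
  | mul g g' _ _ h1 h2 => rw [map_mul]; exact mul_mem h1 h2
  | inv g _ h1 => rw [map_inv]; exact inv_mem h1

theorem map_mem_neg {g : Γ} (hg : g ∈ S.Uneg) : S.θ g ∈ D.negUnipotent K := by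
  have P := posP_of_mem S.hD
  have V := valid0_of_mem S.hD
  unfold Uneg at hg
  induction hg using Subgroup.closure_induction with
  | mem g hg =>
    obtain ⟨r, t, h1, rfl⟩ := hg
    have h2 : r < D.nroots := by omega
    exact Subgroup.subset_closure ⟨r, t, (P r h2).2.mpr h1, S.map r h2 t⟩
  | one => rw [map_one]; exact one_mem _
  | mul g g' _ _ h1 h2 => rw [map_mul]; exact mul_mem h1 h2
  | inv g _ h1 => rw [map_inv]; exact inv_mem h1

/-- the subgroup generated by the root elements of the positive roots other than `p_i` -/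
def Upar (i : ℕ) : Subgroup Γ :=
  Subgroup.closure {g | ∃ (s : ℕ) (t : K), D.nroots / 2 ≤ s ∧ s < D.nroots ∧ s ≠ D.simple i ∧
    g = S.x s t}

/-- the subgroup generated by the root elements of the negative roots other than `-p_i` -/
def UparN (i : ℕ) : Subgroup Γ :=
  Subgroup.closure {g | ∃ (s : ℕ) (t : K), s < D.nroots / 2 ∧ s ≠ D.neg (D.simple i) ∧
    g = S.x s t}

theorem Upar_le (i : ℕ) : S.Upar i ≤ S.Upos := by
  unfold Upar Upos
  apply Subgroup.closure_mono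
  rintro g ⟨s, t, h1, h2, _, rfl⟩
  exact ⟨s, t, h1, h2, rfl⟩

theorem UparN_le (i : ℕ) : S.UparN i ≤ S.Uneg := by
  unfold UparN Uneg
  apply Subgroup.closure_mono
  rintro g ⟨s, t, h1, _, rfl⟩
  exact ⟨s, t, h1, rfl⟩

theorem x_mem_Upar {i s : ℕ} (h1 : D.nroots / 2 ≤ s) (h2 : s < D.nroots) (h3 : s ≠ D.simple i)
    (t : K) : S.x s t ∈ S.Upar i := Subgroup.subset_closure ⟨s, t, h1, h2, h3, rfl⟩

theorem x_mem_UparN {i s : ℕ} (h1 : s < D.nroots / 2) (h3 : s ≠ D.neg (D.simple i))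
    (t : K) : S.x s t ∈ S.UparN i := Subgroup.subset_closure ⟨s, t, h1, h3, rfl⟩

/-- conjugating a root element by a root element -/
theorem x_conj_x {r s : ℕ} (hr : r < D.nroots) (hs : s < D.nroots) (h1 : s ≠ r)
    (h2 : s ≠ D.neg r) (t u : K) :
    S.x r t * S.x s u * (S.x r t)⁻¹ = S.x s u * wS S.x (D.commWord K r s (-t) u) := by
  have h := S.comm r hr s hs h1 h2 (-t) u
  rw [S.x_inv hr, mul_assoc, h, ← mul_assoc, ← mul_assoc, S.x_mul_neg hr, one_mul]

theorem x_conj_Upar {i : ℕ} (hi : i < D.rank) {r : ℕ}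
    (hr : r = D.simple i ∨ r = D.neg (D.simple i)) (t : K) :
    ∀ g ∈ S.Upar i, S.x r t * g * (S.x r t)⁻¹ ∈ S.Upar i := by
  have V := valid0_of_mem S.hD
  have J := validJ_of_mem S.hD
  have hp := (J.S i hi).1
  have hrn : r < D.nroots := by
    rcases hr with rfl | rfl
    · exact hp
    · exact V.neg_lt hp
  apply conj_mem_of_gens
  rintro g ⟨s, u, hs1, hs2, hs3, rfl⟩
  obtain ⟨⟨hsr, hsnr⟩, hlet⟩ := par_letters_pos S.hD hi hr hs2 hs1 hs3
  rw [S.x_conj_x hrn hs2 hsr hsnr]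
  apply mul_mem (S.x_mem_Upar hs1 hs2 hs3 u)
  apply wS_mem
  intro q hq
  unfold ChevalleyDatum.commWord at hq
  rw [List.mem_map] at hq
  obtain ⟨c, hc, rfl⟩ := hq
  have := hlet c hc
  exact S.x_mem_Upar this.1.1 this.2 this.1.2 _

theorem x_conj_UparN {i : ℕ} (hi : i < D.rank) {r : ℕ}
    (hr : r = D.simple i ∨ r = D.neg (D.simple i)) (t : K) :
    ∀ g ∈ S.UparN i, S.x r t * g * (S.x r t)⁻¹ ∈ S.UparN i := by
  have V := valid0_of_mem S.hD
  have J := validJ_of_mem S.hD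
  have hp := (J.S i hi).1
  have hrn : r < D.nroots := by
    rcases hr with rfl | rfl
    · exact hp
    · exact V.neg_lt hp
  apply conj_mem_of_gens
  rintro g ⟨s, u, hs1, hs3, rfl⟩
  have hs2 : s < D.nroots := by omega
  obtain ⟨⟨hsr, hsnr⟩, hlet⟩ := par_letters_neg S.hD hi hr hs1 hs3
  rw [S.x_conj_x hrn hs2 hsr hsnr]
  apply mul_mem (S.x_mem_UparN hs1 hs3 u)
  apply wS_mem
  intro q hq
  unfold ChevalleyDatum.commWord at hq
  rw [List.mem_map] at hq
  obtain ⟨c, hc, rfl⟩ := hq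
  have := hlet c hc
  exact S.x_mem_UparN this.1 this.2 _

theorem conj_mul_mem {H : Subgroup Γ} {a b : Γ} (ha : ∀ g ∈ H, a * g * a⁻¹ ∈ H)
    (hb : ∀ g ∈ H, b * g * b⁻¹ ∈ H) : ∀ g ∈ H, (a * b) * g * (a * b)⁻¹ ∈ H := by
  intro g hg
  have := ha _ (hb g hg)
  have e : a * b * g * (a * b)⁻¹ = a * (b * g * b⁻¹) * a⁻¹ := by group
  rw [e]
  exact this

theorem n_conj_Upar {i : ℕ} (hi : i < D.rank) (c : K) :
    ∀ g ∈ S.Upar i, S.n (D.simple i) c * g * (S.n (D.simple i) c)⁻¹ ∈ S.Upar i := by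
  unfold n
  exact conj_mul_mem (conj_mul_mem (S.x_conj_Upar hi (Or.inl rfl) c)
    (S.x_conj_Upar hi (Or.inr rfl) _)) (S.x_conj_Upar hi (Or.inl rfl) c)

theorem n_conj_UparN {i : ℕ} (hi : i < D.rank) (c : K) :
    ∀ g ∈ S.UparN i, S.n (D.simple i) c * g * (S.n (D.simple i) c)⁻¹ ∈ S.UparN i := by
  unfold n
  exact conj_mul_mem (conj_mul_mem (S.x_conj_UparN hi (Or.inl rfl) c)
    (S.x_conj_UparN hi (Or.inr rfl) _)) (S.x_conj_UparN hi (Or.inl rfl) c)

/-- the image of a conjugate by `n̄_p(c)` -/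
theorem map_n_conj {i : ℕ} (hi : i < D.rank) {c : K} (hc : c ≠ 0) {s : ℕ} (hs : s < D.nroots)
    (u : K) :
    S.θ (S.n (D.simple i) c * S.x s u * (S.n (D.simple i) c)⁻¹) =
      S.θ (S.x (D.reflectRoot i s) (nCoef D K i s c * u)) := by
  have V := valid0_of_mem S.hD
  have V1 := valid1_of_mem S.hD
  have J := validJ_of_mem S.hD
  have H := validH_of_mem S.hD
  have hp := (J.S i hi).1
  have hσ := ((nS_props J H.nS hi).2.2 s hs).1
  apply Units.ext
  rw [S.n_inv hp, map_mul, map_mul, Units.val_mul, Units.val_mul, S.map_n hp, S.map_n hp,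
    S.map s hs, S.map _ hσ, nMat_conj_x S.hD hi hs hc, Matrix.mul_assoc, nMat_mul_neg V V1 hp,
    Matrix.mul_one]

/-- the action of `n̄_p(c)` on the root elements of the positive roots other than `p` -/
theorem n_conj_pos {i : ℕ} (hi : i < D.rank) {c : K} (hc : c ≠ 0) {s : ℕ} (hs : s < D.nroots)
    (hspos : D.nroots / 2 ≤ s) (hsp : s ≠ D.simple i) (u : K) :
    S.n (D.simple i) c * S.x s u * (S.n (D.simple i) c)⁻¹ =
      S.x (D.reflectRoot i s) (nCoef D K i s c * u) := by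
  have J := validJ_of_mem S.hD
  have H := validH_of_mem S.hD
  have hσ := ((nS_props J H.nS hi).2.2 s hs).1
  have hσpos := (refl_pos J (checkRP_of_mem S.hD) hi).2 s hs hspos hsp
  apply S.inj_pos
  · exact S.Upar_le i (S.n_conj_Upar hi c _ (S.x_mem_Upar hspos hs hsp u))
  · exact S.x_mem_Upos hσpos hσ _
  · exact S.map_n_conj hi hc hs u

/-- the action of `n̄_p(c)` on the root elements of the negative roots other than `-p` -/
theorem n_conj_neg {i : ℕ} (hi : i < D.rank) {c : K} (hc : c ≠ 0) {s : ℕ}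
    (hsneg : s < D.nroots / 2) (hsp : s ≠ D.neg (D.simple i)) (u : K) :
    S.n (D.simple i) c * S.x s u * (S.n (D.simple i) c)⁻¹ =
      S.x (D.reflectRoot i s) (nCoef D K i s c * u) := by
  have V := valid0_of_mem S.hD
  have J := validJ_of_mem S.hD
  have H := validH_of_mem S.hD
  have heven := V.even
  have hp := (J.S i hi).1
  have hs : s < D.nroots := by omega
  have hσ := ((nS_props J H.nS hi).2.2 s hs).1
  -- `σ s` is negative
  have hns := V.neg_lt hs
  have hnspos : D.nroots / 2 ≤ D.neg s := by rw [V.neg_eq s hs]; omega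
  have hnsp : D.neg s ≠ D.simple i := by
    intro h
    apply hsp
    rw [← h, V.neg_neg hs]
  have h1 := (refl_pos J (checkRP_of_mem S.hD) hi).2 (D.neg s) hns hnspos hnsp
  have h2 := ((nS_props J H.nS hi).2.2 s hs).2.2.2.2
  rw [h2, V.neg_eq _ hσ] at h1
  have hσneg : D.reflectRoot i s < D.nroots / 2 := by omega
  apply S.inj_neg
  · exact S.UparN_le i (S.n_conj_UparN hi c _ (S.x_mem_UparN hsneg hsp u))
  · exact S.x_mem_Uneg hσneg _
  · exact S.map_n_conj hi hc hs u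

end StRep

end Cfsg.Agent.Lib.Helper8.Chev
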