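import Cfsg.Agent.Lib.Helper8.ChevSt4

set_option autoImplicit false

/-! Steinberg groups: the action of `n̄_p(c)` on the root elements of `±p`. -/

namespace Cfsg.Agent.Lib.Helper8.Chev

open Cfsg.Lie Matrix

theorem commTerms_lt {D : ChevalleyDatum} (V : Valid0 D) {r s : ℕ} (hr : r < D.nroots)
    (hs : s < D.nroots) : ∀ c ∈ D.commTerms r s, c.1 < D.nroots := by
  intro c hc
  rcases commTerms_root hc with ⟨i, hi⟩ | ⟨i, hi⟩ | ⟨k, hk1, hk2⟩ | ⟨k, hk1, hk2⟩
  · exact chainRoot_lt V hr hi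
  · exact chainRoot_lt V hs hi
  · exact chainRoot_lt V (chainRoot_lt V hr hk1) hk2
  · exact chainRoot_lt V (chainRoot_lt V hs hk1) hk2

namespace StRep

variable {D : ChevalleyDatum} {K : Type*} [Field K] {Γ : Type*} [Group Γ] (S : StRep D K Γ)

/-- the action of `n̄_p(c)` on the root elements of the roots other than `±p` -/
theorem n_conj_ne {i : ℕ} (hi : i < D.rank) {c : K} (hc : c ≠ 0) {s : ℕ} (hs : s < D.nroots)
    (h1 : s ≠ D.simple i) (h2 : s ≠ D.neg (D.simple i)) (u : K) :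
    S.n (D.simple i) c * S.x s u * (S.n (D.simple i) c)⁻¹ =
      S.x (D.reflectRoot i s) (nCoef D K i s c * u) := by
  by_cases h : s < D.nroots / 2
  · exact S.n_conj_neg hi hc h h2 u
  · exact S.n_conj_pos hi hc hs (by omega) h1 u

/-- the subgroup generated by `X̄_{-p}` and the root elements of the positive roots other than
`p` -/
def Pneg (i : ℕ) : Subgroup Γ :=
  Subgroup.closure ({g | ∃ t : K, g = S.x (D.neg (D.simple i)) t} ∪
    {g | ∃ (s : ℕ) (t : K), D.nroots / 2 ≤ s ∧ s < D.nroots ∧ s ≠ D.simple i ∧ g = S.x s t})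

theorem Upar_le_Pneg (i : ℕ) : S.Upar i ≤ S.Pneg i := by
  unfold Upar Pneg
  apply Subgroup.closure_mono
  exact Set.subset_union_right

theorem x_mem_Pneg (i : ℕ) (t : K) : S.x (D.neg (D.simple i)) t ∈ S.Pneg i :=
  Subgroup.subset_closure (Or.inl ⟨t, rfl⟩)

theorem Pneg_form {i : ℕ} (hi : i < D.rank) {g : Γ} (hg : g ∈ S.Pneg i) :
    ∃ a : K, ∃ v ∈ S.Upar i, g = S.x (D.neg (D.simple i)) a * v := by
  have V := valid0_of_mem S.hD
  have J := validJ_of_mem S.hD
  have hp := (J.S i hi).1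
  have hnp := V.neg_lt hp
  unfold Pneg at hg
  induction hg using Subgroup.closure_induction with
  | mem g hg =>
    rcases hg with ⟨t, rfl⟩ | ⟨s, t, h1, h2, h3, rfl⟩
    · exact ⟨t, 1, one_mem _, by rw [mul_one]⟩
    · exact ⟨0, _, S.x_mem_Upar h1 h2 h3 t, by rw [S.x_zero hnp, one_mul]⟩
  | one => exact ⟨0, 1, one_mem _, by rw [S.x_zero hnp, one_mul]⟩
  | mul g g' _ _ h1 h2 =>
    obtain ⟨a, v, hv, rfl⟩ := h1
    obtain ⟨b, v', hv', rfl⟩ := h2
    refine ⟨a + b, (S.x (D.neg (D.simple i)) (-b) * v * (S.x (D.neg (D.simple i)) (-b))⁻¹) * v',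
      mul_mem (S.x_conj_Upar hi (Or.inr rfl) (-b) v hv) hv', ?_⟩
    rw [← S.add _ hnp, S.x_inv hnp, neg_neg]
    have := S.x_mul_neg hnp b
    calc S.x (D.neg (D.simple i)) a * v * (S.x (D.neg (D.simple i)) b * v')
        = S.x (D.neg (D.simple i)) a * (S.x (D.neg (D.simple i)) b *
            S.x (D.neg (D.simple i)) (-b)) * v * (S.x (D.neg (D.simple i)) b * v') := by
          rw [this, mul_one]
      _ = _ := by simp only [mul_assoc]
  | inv g _ h1 =>
    obtain ⟨a, v, hv, rfl⟩ := h1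
    refine ⟨-a, S.x (D.neg (D.simple i)) a * v⁻¹ * (S.x (D.neg (D.simple i)) a)⁻¹,
      S.x_conj_Upar hi (Or.inr rfl) a _ (inv_mem hv), ?_⟩
    rw [_root_.mul_inv_rev, S.x_inv hnp]
    have := S.x_neg_mul hnp a
    calc v⁻¹ * S.x (D.neg (D.simple i)) (-a)
        = (S.x (D.neg (D.simple i)) (-a) * S.x (D.neg (D.simple i)) a) * v⁻¹ *
            S.x (D.neg (D.simple i)) (-a) := by rw [this, one_mul]
      _ = _ := by simp only [mul_assoc]

/-- `θ` separates the elements of `X̄_{-p} Ū_p` from those of `X̄_{-p}` -/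
theorem inj_Pneg {i : ℕ} (hi : i < D.rank) {g : Γ} (hg : g ∈ S.Pneg i) {b : K}
    (h : S.θ g = S.θ (S.x (D.neg (D.simple i)) b)) : g = S.x (D.neg (D.simple i)) b := by
  have V := valid0_of_mem S.hD
  have V1 := valid1_of_mem S.hD
  have J := validJ_of_mem S.hD
  have H := validH_of_mem S.hD
  have Tr := triP_of_mem S.hD
  have P := posP_of_mem S.hD
  have hp := (J.S i hi).1
  have hnp := V.neg_lt hp
  have hppos := (refl_pos J (checkRP_of_mem S.hD) hi).1
  have heven := V.even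
  have hnpneg : D.neg (D.simple i) < D.nroots / 2 := by rw [V.neg_eq _ hp]; omega
  obtain ⟨a, v, hv, rfl⟩ := S.Pneg_form hi hg
  have hvpos := S.Upar_le i hv
  -- `θ v = x_{-p}(b - a)`
  have h1 : S.θ v = S.θ (S.x (D.neg (D.simple i)) (b - a)) := by
    have e : S.x (D.neg (D.simple i)) (b - a) =
        (S.x (D.neg (D.simple i)) a)⁻¹ * S.x (D.neg (D.simple i)) b := by
      rw [S.x_inv hnp, S.add _ hnp]
      congr 1
      ring
    rw [e, map_mul, ← h, map_mul, map_inv, inv_mul_cancel_left]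
  have h2 : S.θ v ∈ D.borelSubgroup K ⊓ D.negUnipotent K :=
    ⟨pos_le_borel (S.map_mem_pos hvpos), by
      rw [h1]; exact S.map_mem_neg (S.x_mem_Uneg hnpneg _)⟩
  rw [borel_inf_neg J V1 H Tr P, Subgroup.mem_bot] at h2
  have hv1 : v = 1 := S.inj_pos hvpos (one_mem _) (by rw [h2, map_one])
  have hab : b - a = 0 := by
    have h3 : ((S.θ (S.x (D.neg (D.simple i)) (b - a)) : GL D.Idx K) : Matrix D.Idx D.Idx K) = 1 := by
      rw [← h1, h2, Units.val_one]
    rw [S.map_xN hnp] at h3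
    exact xN_eq_one V (copP_of_mem S.hD) hnp h3
  rw [hv1, mul_one]
  congr 1
  exact (sub_eq_zero.mp hab).symm

/-- the action of `n̄_p(c)` on `X̄_p` -/
theorem n_conj_self {i : ℕ} (hi : i < D.rank) {c : K} (hc : c ≠ 0) (v : K) :
    S.n (D.simple i) c * S.x (D.simple i) v * (S.n (D.simple i) c)⁻¹ =
      S.x (D.neg (D.simple i)) (nCoef D K i (D.simple i) c * v) := by
  have V := valid0_of_mem S.hD
  have J := validJ_of_mem S.hD
  have H := validH_of_mem S.hD
  have hI := checkInv_of_mem S.hD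
  have hp := (J.S i hi).1
  have hnp := V.neg_lt hp
  obtain ⟨r, s, hrs⟩ := exists_self S.hD i hi
  unfold selfB at hrs
  simp only [Bool.and_eq_true, decide_eq_true_eq, List.all_eq_true, Bool.or_eq_true, okR_iff]
    at hrs
  obtain ⟨⟨⟨⟨⟨⟨⟨⟨⟨hr, hs⟩, hsr⟩, hsnr⟩, hrp⟩, hrnp⟩, hsp⟩, hsnp⟩, hsplit⟩, hall⟩ := hrs
  obtain ⟨l₁, c₀, l₂, e, hc₀, hε, hj, hl₁, hl₂⟩ := splitB_spec hsplit
  have hlt := commTerms_lt V hr hs
  -- the two parameters
  set ε : K := ((c₀.2.1 : ℤ) : K) with hεdef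
  have hεε : ε * ε = 1 := by
    rcases hε with h | h <;> rw [hεdef, h] <;> simp
  set f : ℕ × ℤ × ℕ × ℕ → ℕ × K :=
    fun c => (c.1, ((c.2.1 : ℤ) : K) * (-(-1 : K)) ^ c.2.2.1 * (ε * v) ^ c.2.2.2) with hf
  have hW : D.commWord K r s (-1) (ε * v) = l₁.map f ++ (D.simple i, v) :: l₂.map f := by
    unfold ChevalleyDatum.commWord
    rw [e, List.map_append, List.map_cons]
    congr 2
    rw [Prod.mk.injEq]
    refine ⟨hc₀, ?_⟩
    rw [hj, neg_neg, one_pow, pow_one, mul_one, ← mul_assoc, hεε, one_mul]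
  have hmemU : ∀ l : List (ℕ × ℤ × ℕ × ℕ), (∀ c' ∈ l, D.nroots / 2 ≤ c'.1 ∧ c'.1 ≠ D.simple i) →
      (∀ c' ∈ l, c'.1 < D.nroots) → wS S.x (l.map f) ∈ S.Upar i := by
    intro l h1 h2
    apply wS_mem
    intro q hq
    rw [List.mem_map] at hq
    obtain ⟨c', hc', rfl⟩ := hq
    exact S.x_mem_Upar (h1 c' hc').1 (h2 c' hc') (h1 c' hc').2 _
  have hA₁ := hmemU l₁ hl₁ (fun c' hc' => hlt c' (by rw [e]; simp [hc']))
  have hA₂ := hmemU l₂ hl₂ (fun c' hc' => hlt c' (by rw [e]; simp [hc']))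
  have hR := S.comm r hr s hs hsr hsnr (-1) (ε * v)
  rw [hW, wS_append, wS_cons] at hR
  -- `x_p(v)` through the commutator formula
  have hx : S.x (D.simple i) v = (wS S.x (l₁.map f))⁻¹ * (S.x r (-1) * S.x s (ε * v))⁻¹ *
      (S.x s (ε * v) * S.x r (-1)) * (wS S.x (l₂.map f))⁻¹ := by
    rw [hR]; group
  -- conjugating
  set nn := S.n (D.simple i) c with hnn
  have hcr := S.n_conj_ne hi hc hr hrp hrnp (-1)
  have hcs := S.n_conj_ne hi hc hs hsp hsnp (ε * v)
  have hσr := ((nS_props J H.nS hi).2.2 r hr).1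
  have hσs := ((nS_props J H.nS hi).2.2 s hs).1
  have hne1 : D.reflectRoot i s ≠ D.reflectRoot i r := by
    intro h
    apply hsr
    rw [← refl_invol J hI hi hs, h, refl_invol J hI hi hr]
  have hne2 : D.reflectRoot i s ≠ D.neg (D.reflectRoot i r) := by
    intro h
    apply hsnr
    rw [← ((nS_props J H.nS hi).2.2 r hr).2.2.2.2] at h
    rw [← refl_invol J hI hi hs, h, refl_invol J hI hi (V.neg_lt hr)]
  have hR' := S.comm _ hσr _ hσs hne1 hne2 (nCoef D K i r c * -1) (nCoef D K i s c * (ε * v))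
  have hlt' := commTerms_lt V hσr hσs
  have hW' : wS S.x (D.commWord K (D.reflectRoot i r) (D.reflectRoot i s)
      (nCoef D K i r c * -1) (nCoef D K i s c * (ε * v))) ∈ S.Pneg i := by
    apply wS_mem
    intro q hq
    unfold ChevalleyDatum.commWord at hq
    rw [List.mem_map] at hq
    obtain ⟨c', hc', rfl⟩ := hq
    rcases hall c' hc' with h | h
    · simp only []
      rw [h]
      exact S.x_mem_Pneg i _
    · exact S.Upar_le_Pneg i (S.x_mem_Upar h.1 (hlt' c' hc') h.2 _)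
  have hconj : nn * S.x (D.simple i) v * nn⁻¹ =
      (nn * wS S.x (l₁.map f) * nn⁻¹)⁻¹ *
        ((nn * S.x r (-1) * nn⁻¹) * (nn * S.x s (ε * v) * nn⁻¹))⁻¹ *
        ((nn * S.x s (ε * v) * nn⁻¹) * (nn * S.x r (-1) * nn⁻¹)) *
        (nn * wS S.x (l₂.map f) * nn⁻¹)⁻¹ := by
    rw [hx]; group
  have hmem : nn * S.x (D.simple i) v * nn⁻¹ ∈ S.Pneg i := by
    rw [hconj, hcr, hcs]
    have e2 : (S.x (D.reflectRoot i r) (nCoef D K i r c * -1) *
        S.x (D.reflectRoot i s) (nCoef D K i s c * (ε * v)))⁻¹ *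
        (S.x (D.reflectRoot i s) (nCoef D K i s c * (ε * v)) *
          S.x (D.reflectRoot i r) (nCoef D K i r c * -1)) =
        wS S.x (D.commWord K (D.reflectRoot i r) (D.reflectRoot i s)
          (nCoef D K i r c * -1) (nCoef D K i s c * (ε * v))) := by
      rw [hR']; group
    rw [mul_assoc ((nn * wS S.x (l₁.map f) * nn⁻¹)⁻¹), e2]
    exact mul_mem (mul_mem (inv_mem (S.Upar_le_Pneg i (S.n_conj_Upar hi c _ hA₁))) hW')
      (inv_mem (S.Upar_le_Pneg i (S.n_conj_Upar hi c _ hA₂)))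
  apply S.inj_Pneg hi hmem
  rw [hnn, S.map_n_conj hi hc hp v, reflectRoot_simple]

end StRep

end Cfsg.Agent.Lib.Helper8.Chev
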