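import Cfsg.Agent.Lib.Helper8.ChevSt5

set_option autoImplicit false

/-! Steinberg groups: the action of `n̄_p(c)` on all the root elements. -/

namespace Cfsg.Agent.Lib.Helper8.Chev

open Cfsg.Lie Matrix

namespace StRep

variable {D : ChevalleyDatum} {K : Type*} [Field K] {Γ : Type*} [Group Γ] (S : StRep D K Γ)

/-- the root elements of `Γ` determine their parameters -/
theorem x_inj_param {r : ℕ} (hr : r < D.nroots) {a b : K} (h : S.θ (S.x r a) = S.θ (S.x r b)) :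
    a = b := by
  have h1 : ((S.θ (S.x r a) : GL D.Idx K) : Matrix D.Idx D.Idx K) =
      ((S.θ (S.x r b) : GL D.Idx K) : Matrix D.Idx D.Idx K) := by rw [h]
  rw [S.map r hr, S.map r hr] at h1
  exact xN_inj_param S.hD hr h1

/-- the action of `n̄_p(c)` on `X̄_{-p}` -/
theorem n_conj_negself {i : ℕ} (hi : i < D.rank) {c : K} (hc : c ≠ 0) (w : K) :
    S.n (D.simple i) c * S.x (D.neg (D.simple i)) w * (S.n (D.simple i) c)⁻¹ =
      S.x (D.simple i) (nCoef D K i (D.neg (D.simple i)) c * w) := by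
  have V := valid0_of_mem S.hD
  have J := validJ_of_mem S.hD
  have H := validH_of_mem S.hD
  have hp := (J.S i hi).1
  have hnp := V.neg_lt hp
  have hc' : -c ≠ 0 := neg_ne_zero.mpr hc
  set b := nCoef D K i (D.simple i) (-c) with hb
  have hb0 : b ≠ 0 := nCoef_ne_zero S.hD hi hp hc'
  have h1 := S.n_conj_self hi hc' (b⁻¹ * w)
  rw [← S.n_inv hp, inv_inv, ← hb, ← mul_assoc, mul_inv_cancel₀ hb0, one_mul] at h1
  -- `n x_{-p}(w) n⁻¹ = x_p(b⁻¹ w)`
  have h2 : S.n (D.simple i) c * S.x (D.neg (D.simple i)) w * (S.n (D.simple i) c)⁻¹ =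
      S.x (D.simple i) (b⁻¹ * w) := by
    rw [← h1]; group
  rw [h2]
  congr 1
  apply S.x_inj_param hp
  rw [← h2, S.map_n_conj hi hc hnp w]
  have hσ : D.reflectRoot i (D.neg (D.simple i)) = D.simple i := by
    rw [((nS_props J H.nS hi).2.2 _ hp).2.2.2.2, reflectRoot_simple, V.neg_neg hp]
  rw [hσ]

/-- the action of `n̄_p(c)` on the root elements -/
theorem n_conj {i : ℕ} (hi : i < D.rank) {c : K} (hc : c ≠ 0) {s : ℕ} (hs : s < D.nroots)
    (u : K) :
    S.n (D.simple i) c * S.x s u * (S.n (D.simple i) c)⁻¹ =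
      S.x (D.reflectRoot i s) (nCoef D K i s c * u) := by
  have V := valid0_of_mem S.hD
  have J := validJ_of_mem S.hD
  have H := validH_of_mem S.hD
  have hp := (J.S i hi).1
  by_cases h1 : s = D.simple i
  · subst h1
    rw [S.n_conj_self hi hc, reflectRoot_simple]
  by_cases h2 : s = D.neg (D.simple i)
  · subst h2
    rw [S.n_conj_negself hi hc]
    have hσ : D.reflectRoot i (D.neg (D.simple i)) = D.simple i := by
      rw [((nS_props J H.nS hi).2.2 _ hp).2.2.2.2, reflectRoot_simple, V.neg_neg hp]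
    rw [hσ]
  · exact S.n_conj_ne hi hc hs h1 h2 u

/-- an element of `Γ` permuting the root subgroups with signs, compatibly with negation -/
def RP (g : Γ) (σ : ℕ → ℕ) : Prop :=
  ∀ s < D.nroots, σ s < D.nroots ∧ σ (D.neg s) = D.neg (σ s) ∧
    ∃ ε : K, (ε = 1 ∨ ε = -1) ∧ (∀ u : K, g * S.x s u * g⁻¹ = S.x (σ s) (ε * u)) ∧
      (∀ u : K, g * S.x (D.neg s) u * g⁻¹ = S.x (D.neg (σ s)) (ε * u))

theorem rp_one : S.RP 1 id :=
  fun s hs => ⟨hs, rfl, 1, Or.inl rfl, fun u => by simp, fun u => by simp⟩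

theorem RP.mul {g g' : Γ} {σ τ : ℕ → ℕ} (hg : S.RP g σ) (hg' : S.RP g' τ) :
    S.RP (g * g') (σ ∘ τ) := by
  intro s hs
  obtain ⟨h1, hn1, ε1, hε1, e1, e1'⟩ := hg' s hs
  obtain ⟨h2, hn2, ε2, hε2, e2, e2'⟩ := hg (τ s) h1
  refine ⟨h2, ?_, ε2 * ε1, ?_, fun u => ?_, fun u => ?_⟩
  · show σ (τ (D.neg s)) = D.neg (σ (τ s))
    rw [hn1, hn2]
  · rcases hε1 with rfl | rfl <;> rcases hε2 with rfl | rfl <;> simp
  · have : g * g' * S.x s u * (g * g')⁻¹ = g * (g' * S.x s u * g'⁻¹) * g⁻¹ := by group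
    rw [this, e1, e2, mul_assoc]
    rfl
  · have : g * g' * S.x (D.neg s) u * (g * g')⁻¹ = g * (g' * S.x (D.neg s) u * g'⁻¹) * g⁻¹ := by
      group
    rw [this, e1', e2', mul_assoc]
    rfl

/-- `n̄_{p_i}(1)` permutes the root subgroups -/
theorem rp_n {i : ℕ} (hi : i < D.rank) : S.RP (S.n (D.simple i) 1) (D.reflectRoot i) := by
  have V := valid0_of_mem S.hD
  have J := validJ_of_mem S.hD
  have H := validH_of_mem S.hD
  intro s hs
  obtain ⟨hlt, hpm, _, hrel, hneg⟩ := (nS_props J H.nS hi).2.2 s hs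
  have hns := V.neg_lt hs
  obtain ⟨_, hpm', _, _, _⟩ := (nS_props J H.nS hi).2.2 _ hns
  have heta : etaF D i (D.neg s) = etaF D i s := by
    rcases hpm with h | h <;> rcases hpm' with h' | h' <;> rw [h, h'] at hrel ⊢ <;> omega
  have hco : ∀ s', nCoef D K i s' 1 = ((etaF D i s' : ℤ) : K) := by
    intro s'
    unfold nCoef
    rw [_root_.one_zpow, one_mul]
  refine ⟨hlt, hneg, ((etaF D i s : ℤ) : K), ?_, fun u => ?_, fun u => ?_⟩
  · rcases hpm with h | h <;> rw [h] <;> simp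
  · rw [S.n_conj hi one_ne_zero hs, hco]
  · rw [S.n_conj hi one_ne_zero hns, hco, hneg, heta]

/-- the product of the `n̄_{p_i}(1)` along a word -/
def nW (l : List ℕ) : Γ := (l.map fun i => S.n (D.simple i) 1).prod

theorem nW_nil : S.nW [] = 1 := by simp [nW]

theorem nW_cons (i : ℕ) (l : List ℕ) : S.nW (i :: l) = S.n (D.simple i) 1 * S.nW l := by
  simp [nW]

theorem nW_append (l l' : List ℕ) : S.nW (l ++ l') = S.nW l * S.nW l' := by simp [nW]

theorem rp_nW {l : List ℕ} (hl : ∀ i ∈ l, i < D.rank) : S.RP (S.nW l) (reflWord D l) := by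
  induction l with
  | nil =>
    rw [nW_nil]
    exact S.rp_one
  | cons i l ih =>
    rw [nW_cons]
    exact (S.rp_n (hl i List.mem_cons_self)).mul S
      (ih fun j hj => hl j (List.mem_cons_of_mem _ hj))

theorem map_nW {l : List ℕ} (hl : ∀ i ∈ l, i < D.rank) : S.θ (S.nW l) = nP D K l := by
  have J := validJ_of_mem S.hD
  have V1 := valid1_of_mem S.hD
  induction l with
  | nil => rw [nW_nil, nP_nil, map_one]
  | cons i l ih =>
    have hi := hl i List.mem_cons_self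
    rw [nW_cons, nP_cons, map_mul, ih fun j hj => hl j (List.mem_cons_of_mem _ hj)]
    congr 1
    apply Units.ext
    rw [S.map_n (J.S i hi).1, coe_nG J V1 hi]

/-- conjugating `n̄_s(c)` by an element permuting the root subgroups -/
theorem RP.conj_n {g : Γ} {σ : ℕ → ℕ} (hg : S.RP g σ) {s : ℕ} (hs : s < D.nroots) :
    ∃ ε : K, (ε = 1 ∨ ε = -1) ∧ ∀ c : K, g * S.n s c * g⁻¹ = S.n (σ s) (ε * c) := by
  obtain ⟨_, _, ε, hε, e1, e2⟩ := hg s hs
  refine ⟨ε, hε, fun c => ?_⟩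
  unfold n
  have : g * (S.x s c * S.x (D.neg s) (-c⁻¹) * S.x s c) * g⁻¹ =
      (g * S.x s c * g⁻¹) * (g * S.x (D.neg s) (-c⁻¹) * g⁻¹) * (g * S.x s c * g⁻¹) := by group
  rw [this, e1, e2]
  have e : ε * -c⁻¹ = -(ε * c)⁻¹ := by
    rcases hε with rfl | rfl <;> simp [inv_neg]
  rw [e]

end StRep

end Cfsg.Agent.Lib.Helper8.Chev
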