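import Cfsg.Agent.Lib.Helper8.ChevSt6

set_option autoImplicit false

/-! Steinberg groups: the subgroups `H̄` and `N̄`. -/

namespace Cfsg.Agent.Lib.Helper8.Chev

open Cfsg.Lie Matrix

namespace StRep

variable {D : ChevalleyDatum} {K : Type*} [Field K] {Γ : Type*} [Group Γ] (S : StRep D K Γ)

/-- `h̄_r(c) = n̄_r(c) n̄_r(-1)` -/
def h (r : ℕ) (c : K) : Γ := S.n r c * S.n r (-1)

theorem h_eq_wS (r : ℕ) (c : K) : S.h r c = wS S.x (D.hWord r c) := by
  unfold h ChevalleyDatum.hWord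
  rw [wS_append, n_eq_wS, n_eq_wS]

theorem map_h {r : ℕ} (hr : r < D.nroots) (c : K) :
    ((S.θ (S.h r c) : GL D.Idx K) : Matrix D.Idx D.Idx K) = D.hMat K r c := by
  unfold h
  rw [map_mul, Units.val_mul, S.map_n hr, S.map_n hr, hMat_eq_nMat_mul]

theorem n_mul_neg {r : ℕ} (hr : r < D.nroots) (c : K) : S.n r c * S.n r (-c) = 1 := by
  rw [← S.n_inv hr, mul_inv_cancel]

theorem n_neg_mul {r : ℕ} (hr : r < D.nroots) (c : K) : S.n r (-c) * S.n r c = 1 := by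
  rw [← S.n_inv hr, inv_mul_cancel]

theorem n_eq_h_mul {r : ℕ} (hr : r < D.nroots) (c : K) : S.n r c = S.h r c * S.n r 1 := by
  unfold h
  rw [mul_assoc, S.n_neg_mul hr, mul_one]

/-- elements of `Γ` acting on the root subgroups by scalars -/
def TL (g : Γ) : Prop :=
  ∃ f : ℕ → K, (∀ s < D.nroots, f s ≠ 0 ∧ f (D.neg s) = (f s)⁻¹) ∧
    ∀ s < D.nroots, ∀ u : K, g * S.x s u * g⁻¹ = S.x s (f s * u)

theorem tl_one : S.TL 1 :=
  ⟨fun _ => 1, fun s _ => ⟨one_ne_zero, by simp⟩, fun s _ u => by simp⟩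

theorem TL.mul {g g' : Γ} (hg : S.TL g) (hg' : S.TL g') : S.TL (g * g') := by
  obtain ⟨f, hf, e⟩ := hg
  obtain ⟨f', hf', e'⟩ := hg'
  refine ⟨fun s => f s * f' s, fun s hs => ⟨mul_ne_zero (hf s hs).1 (hf' s hs).1, ?_⟩,
    fun s hs u => ?_⟩
  · simp only []
    rw [(hf s hs).2, (hf' s hs).2, mul_inv]
  · have : g * g' * S.x s u * (g * g')⁻¹ = g * (g' * S.x s u * g'⁻¹) * g⁻¹ := by group
    rw [this, e' s hs, e s hs, mul_assoc]

theorem TL.inv {g : Γ} (hg : S.TL g) : S.TL g⁻¹ := by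
  have V := valid0_of_mem S.hD
  obtain ⟨f, hf, e⟩ := hg
  refine ⟨fun s => (f s)⁻¹, fun s hs => ⟨inv_ne_zero (hf s hs).1, ?_⟩, fun s hs u => ?_⟩
  · simp only []
    rw [(hf s hs).2]
  · have := e s hs ((f s)⁻¹ * u)
    rw [← mul_assoc, mul_inv_cancel₀ (hf s hs).1, one_mul] at this
    rw [← this]
    group

/-- conjugating `n̄_s(c)` by an element acting by scalars -/
theorem TL.conj_n {g : Γ} (hg : S.TL g) :
    ∃ f : ℕ → K, (∀ s < D.nroots, f s ≠ 0) ∧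
      ∀ s < D.nroots, ∀ c : K, g * S.n s c * g⁻¹ = S.n s (f s * c) := by
  have V := valid0_of_mem S.hD
  obtain ⟨f, hf, e⟩ := hg
  refine ⟨f, fun s hs => (hf s hs).1, fun s hs c => ?_⟩
  unfold n
  have : g * (S.x s c * S.x (D.neg s) (-c⁻¹) * S.x s c) * g⁻¹ =
      (g * S.x s c * g⁻¹) * (g * S.x (D.neg s) (-c⁻¹) * g⁻¹) * (g * S.x s c * g⁻¹) := by group
  rw [this, e s hs, e _ (V.neg_lt hs), (hf s hs).2]
  congr 3
  rw [mul_inv, mul_neg]

/-- the action of `h̄_p(c)` on the root elements -/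
theorem h_conj {i : ℕ} (hi : i < D.rank) {c : K} (hc : c ≠ 0) {s : ℕ} (hs : s < D.nroots)
    (u : K) :
    S.h (D.simple i) c * S.x s u * (S.h (D.simple i) c)⁻¹ =
      S.x s (c ^ aco D (D.simple i) s * u) := by
  have V := valid0_of_mem S.hD
  have V1 := valid1_of_mem S.hD
  have J := validJ_of_mem S.hD
  have H := validH_of_mem S.hD
  have hI := checkInv_of_mem S.hD
  have hp := (J.S i hi).1
  have hσ := ((nS_props J H.nS hi).2.2 s hs).1
  have hc1 : (-1 : K) ≠ 0 := neg_ne_zero.mpr one_ne_zero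
  have h1 : S.h (D.simple i) c * S.x s u * (S.h (D.simple i) c)⁻¹ =
      S.x s (nCoef D K i (D.reflectRoot i s) c * (nCoef D K i s (-1) * u)) := by
    unfold h
    have : S.n (D.simple i) c * S.n (D.simple i) (-1) * S.x s u *
        (S.n (D.simple i) c * S.n (D.simple i) (-1))⁻¹ =
        S.n (D.simple i) c * (S.n (D.simple i) (-1) * S.x s u * (S.n (D.simple i) (-1))⁻¹) *
          (S.n (D.simple i) c)⁻¹ := by group
    rw [this, S.n_conj hi hc1 hs, S.n_conj hi hc hσ, refl_invol J hI hi hs]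
  rw [h1]
  congr 1
  apply S.x_inj_param hs
  rw [← h1]
  apply Units.ext
  rw [map_mul, map_mul, Units.val_mul, Units.val_mul, S.map_h hp, S.map s hs, S.map s hs,
    hMat_conj_x S.hD hp hs hc, Matrix.mul_assoc]
  have : ((S.θ (S.h (D.simple i) c)⁻¹ : GL D.Idx K) : Matrix D.Idx D.Idx K) =
      ((S.θ (S.h (D.simple i) c) : GL D.Idx K)⁻¹ : GL D.Idx K) := by rw [map_inv]
  rw [this, ← S.map_h hp c, ← Units.val_mul, mul_inv_cancel, Units.val_one, Matrix.mul_one]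

theorem tl_h {i : ℕ} (hi : i < D.rank) {c : K} (hc : c ≠ 0) : S.TL (S.h (D.simple i) c) := by
  have V := valid0_of_mem S.hD
  have J := validJ_of_mem S.hD
  have H := validH_of_mem S.hD
  have hp := (J.S i hi).1
  have hW := isWt_aco J.V J.T H.hsz H.wt (D.simple i)
  refine ⟨fun s => c ^ aco D (D.simple i) s, fun s hs => ⟨zpow_ne_zero _ hc, ?_⟩,
    fun s hs u => S.h_conj hi hc hs u⟩
  have h1 : aco D (D.simple i) (D.neg s) = -aco D (D.simple i) s := hW.1 s hs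
  simp only []
  rw [h1, _root_.zpow_neg]

/-- the subgroup `H̄` generated by the `h̄_p(c)`, `p` fundamental -/
def H0 : Subgroup Γ :=
  Subgroup.closure {g | ∃ (i : ℕ) (c : K), i < D.rank ∧ c ≠ 0 ∧ g = S.h (D.simple i) c}

theorem h_mem_H0 {i : ℕ} (hi : i < D.rank) {c : K} (hc : c ≠ 0) : S.h (D.simple i) c ∈ S.H0 :=
  Subgroup.subset_closure ⟨i, c, hi, hc, rfl⟩

theorem tl_of_mem_H0 {g : Γ} (hg : g ∈ S.H0) : S.TL g := by
  unfold H0 at hg
  induction hg using Subgroup.closure_induction with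
  | mem g hg =>
    obtain ⟨i, c, hi, hc, rfl⟩ := hg
    exact S.tl_h hi hc
  | one => exact S.tl_one
  | mul g g' _ _ h1 h2 => exact h1.mul S h2
  | inv g _ h1 => exact h1.inv S

/-- `n̄_q(1) n̄_q(1) ∈ H̄` -/
theorem n_sq_mem_H0 {i : ℕ} (hi : i < D.rank) :
    S.n (D.simple i) 1 * S.n (D.simple i) 1 ∈ S.H0 := by
  have J := validJ_of_mem S.hD
  have hp := (J.S i hi).1
  have h1 : S.h (D.simple i) (-1) ∈ S.H0 := S.h_mem_H0 hi (neg_ne_zero.mpr one_ne_zero)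
  have e : S.n (D.simple i) 1 * S.n (D.simple i) 1 = (S.h (D.simple i) (-1))⁻¹ := by
    unfold h
    rw [_root_.mul_inv_rev, S.n_inv hp, neg_neg]
  rw [e]
  exact inv_mem h1

/-- `n̄_q(a) ∈ H̄ n̄_q(1)` -/
theorem n_mem {i : ℕ} (hi : i < D.rank) {a : K} (ha : a ≠ 0) :
    ∃ h ∈ S.H0, S.n (D.simple i) a = h * S.n (D.simple i) 1 :=
  ⟨_, S.h_mem_H0 hi ha, S.n_eq_h_mul ((validJ_of_mem S.hD).S i hi).1 a⟩

/-- `H̄` is normalised by the `n̄_q(±1)` -/
theorem n_conj_H0 {i : ℕ} (hi : i < D.rank) {g : Γ} (hg : g ∈ S.H0) :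
    S.n (D.simple i) 1 * g * (S.n (D.simple i) 1)⁻¹ ∈ S.H0 ∧
      (S.n (D.simple i) 1)⁻¹ * g * S.n (D.simple i) 1 ∈ S.H0 := by
  have J := validJ_of_mem S.hD
  have hp := (J.S i hi).1
  obtain ⟨f, hf, e⟩ := ((S.tl_of_mem_H0 hg).inv S).conj_n S
  constructor
  · -- `n g n⁻¹ = g (g⁻¹ n g) n⁻¹ = g n(a) n(-1) = g h(a)`
    have e1 : S.n (D.simple i) 1 * g * (S.n (D.simple i) 1)⁻¹ =
        g * ((g⁻¹ * S.n (D.simple i) 1 * g⁻¹⁻¹) * (S.n (D.simple i) 1)⁻¹) := by group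
    rw [e1, e _ hp, S.n_inv hp]
    exact mul_mem hg (S.h_mem_H0 hi (mul_ne_zero (hf _ hp) one_ne_zero))
  · -- `n⁻¹ g n = g (g⁻¹ n(-1) g) n(1) = g n(-a) n(1) = g h(-a) n(1) n(1)`
    have e1 : (S.n (D.simple i) 1)⁻¹ * g * S.n (D.simple i) 1 =
        g * ((g⁻¹ * (S.n (D.simple i) 1)⁻¹ * g⁻¹⁻¹) * S.n (D.simple i) 1) := by group
    rw [e1, S.n_inv hp, e _ hp]
    have hne : f (D.simple i) * -1 ≠ 0 := mul_ne_zero (hf _ hp) (neg_ne_zero.mpr one_ne_zero)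
    rw [S.n_eq_h_mul hp (f (D.simple i) * -1), mul_assoc]
    exact mul_mem hg (mul_mem (S.h_mem_H0 hi hne) (S.n_sq_mem_H0 hi))

theorem nW_conj_H0 {l : List ℕ} (hl : ∀ i ∈ l, i < D.rank) {g : Γ} (hg : g ∈ S.H0) :
    S.nW l * g * (S.nW l)⁻¹ ∈ S.H0 ∧ (S.nW l)⁻¹ * g * S.nW l ∈ S.H0 := by
  induction l generalizing g with
  | nil =>
    rw [nW_nil]
    simpa using hg
  | cons i l ih =>
    have hi := hl i List.mem_cons_self
    have hl' : ∀ j ∈ l, j < D.rank := fun j hj => hl j (List.mem_cons_of_mem _ hj)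
    rw [nW_cons]
    constructor
    · have := (S.n_conj_H0 hi (ih hl' hg).1).1
      have e : S.n (D.simple i) 1 * S.nW l * g * (S.n (D.simple i) 1 * S.nW l)⁻¹ =
          S.n (D.simple i) 1 * (S.nW l * g * (S.nW l)⁻¹) * (S.n (D.simple i) 1)⁻¹ := by group
      rw [e]
      exact this
    · have := (ih hl' (S.n_conj_H0 hi hg).2).2
      have e : (S.n (D.simple i) 1 * S.nW l)⁻¹ * g * (S.n (D.simple i) 1 * S.nW l) =
          (S.nW l)⁻¹ * ((S.n (D.simple i) 1)⁻¹ * g * S.n (D.simple i) 1) * S.nW l := by group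
      rw [e]
      exact this

/-- the inverse of a word in the `n̄_q(1)` -/
theorem nW_inv {l : List ℕ} (hl : ∀ i ∈ l, i < D.rank) :
    ∃ h ∈ S.H0, (S.nW l)⁻¹ = h * S.nW l.reverse := by
  have J := validJ_of_mem S.hD
  induction l with
  | nil => exact ⟨1, one_mem _, by simp [nW_nil]⟩
  | cons i l ih =>
    have hi := hl i List.mem_cons_self
    have hp := (J.S i hi).1
    have hl' : ∀ j ∈ l, j < D.rank := fun j hj => hl j (List.mem_cons_of_mem _ hj)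
    have hlr : ∀ j ∈ l.reverse, j < D.rank := fun j hj => hl' j (List.mem_reverse.mp hj)
    obtain ⟨h1, hh1, e1⟩ := ih hl'
    -- `n⁻¹ = n(-1) = h(-1) n(1)`
    have e2 : (S.n (D.simple i) 1)⁻¹ = S.h (D.simple i) (-1) * S.n (D.simple i) 1 := by
      rw [S.n_inv hp, S.n_eq_h_mul hp (-1)]
    have hh2 : S.h (D.simple i) (-1) ∈ S.H0 := S.h_mem_H0 hi (neg_ne_zero.mpr one_ne_zero)
    refine ⟨h1 * (S.nW l.reverse * S.h (D.simple i) (-1) * (S.nW l.reverse)⁻¹),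
      mul_mem hh1 (S.nW_conj_H0 hlr hh2).1, ?_⟩
    rw [nW_cons, _root_.mul_inv_rev, e1, e2, List.reverse_cons, nW_append, nW_cons, nW_nil, mul_one]
    group

/-- the subgroup `N̄` generated by `H̄` and the `n̄_q(1)` -/
def N0 : Subgroup Γ :=
  Subgroup.closure ({g | ∃ i, i < D.rank ∧ g = S.n (D.simple i) 1} ∪ (S.H0 : Set Γ))

theorem H0_le_N0 : S.H0 ≤ S.N0 := by
  intro g hg
  exact Subgroup.subset_closure (Or.inr hg)

theorem n_mem_N0 {i : ℕ} (hi : i < D.rank) : S.n (D.simple i) 1 ∈ S.N0 :=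
  Subgroup.subset_closure (Or.inl ⟨i, hi, rfl⟩)

theorem nW_mem_N0 {l : List ℕ} (hl : ∀ i ∈ l, i < D.rank) : S.nW l ∈ S.N0 := by
  induction l with
  | nil => rw [nW_nil]; exact one_mem _
  | cons i l ih =>
    rw [nW_cons]
    exact mul_mem (S.n_mem_N0 (hl i List.mem_cons_self))
      (ih fun j hj => hl j (List.mem_cons_of_mem _ hj))

/-- every element of `N̄` is `h̄ n̄_w` -/
theorem N0_form {g : Γ} (hg : g ∈ S.N0) :
    ∃ h ∈ S.H0, ∃ l : List ℕ, (∀ i ∈ l, i < D.rank) ∧ g = h * S.nW l := by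
  unfold N0 at hg
  induction hg using Subgroup.closure_induction with
  | mem g hg =>
    rcases hg with ⟨i, hi, rfl⟩ | hg
    · exact ⟨1, one_mem _, [i], by simpa using hi, by rw [nW_cons, nW_nil, mul_one, one_mul]⟩
    · exact ⟨g, hg, [], by simp, by rw [nW_nil, mul_one]⟩
  | one => exact ⟨1, one_mem _, [], by simp, by rw [nW_nil, mul_one]⟩
  | mul g g' _ _ h1 h2 =>
    obtain ⟨a, ha, l, hl, rfl⟩ := h1
    obtain ⟨b, hb, l', hl', rfl⟩ := h2
    refine ⟨a * (S.nW l * b * (S.nW l)⁻¹), mul_mem ha (S.nW_conj_H0 hl hb).1, l ++ l', ?_, ?_⟩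
    · intro i hi
      rw [List.mem_append] at hi
      rcases hi with hi | hi
      · exact hl i hi
      · exact hl' i hi
    · rw [nW_append]; group
  | inv g _ h1 =>
    obtain ⟨a, ha, l, hl, rfl⟩ := h1
    have hlr : ∀ j ∈ l.reverse, j < D.rank := fun j hj => hl j (List.mem_reverse.mp hj)
    obtain ⟨b, hb, e⟩ := S.nW_inv hl
    refine ⟨b * (S.nW l.reverse * a⁻¹ * (S.nW l.reverse)⁻¹),
      mul_mem hb (S.nW_conj_H0 hlr (inv_mem ha)).1, l.reverse, hlr, ?_⟩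
    rw [_root_.mul_inv_rev, e]
    group

end StRep

end Cfsg.Agent.Lib.Helper8.Chev
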