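import Cfsg.Agent.Lib.Helper8.ChevXT1

set_option autoImplicit false

/-! Classes of fundamental roots and symmetric words, for abstract twistings. -/

namespace Cfsg.Agent.Lib.Helper8.Chev

open Cfsg.Lie Matrix Cfsg.Agent.Lib.Helper8.Weyl

/-- a class of fundamental roots (an orbit of `ρ`), given by a reduced word `c` of the longest
element of its Weyl group -/
structure XCls (D : ChevalleyDatum) (F : Type*) [Field F] (ρ : ℕ → ℕ) (c : List ℕ) : Prop where
  lt : ∀ i ∈ c, i < D.rank
  nP_sym : nP D F (c.map ρ) = nP D F c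
  ne : c ≠ []
  good : GoodW D c
  orb : ∀ i ∈ c, ∀ j ∈ c, ∃ m, ρ^[m] i = j
  sym : ∀ r < D.nroots, reflWord D (c.map ρ) r = reflWord D c r
  long : ∀ j ∈ c, ∃ j' ∈ c, reflWord D c (D.simple j) = D.neg (D.simple j')
  invol : ∀ r < D.nroots, reflWord D c (reflWord D c r) = r

section

variable {D : ChevalleyDatum}

theorem lenL_nil : lenL D [] = 0 := by
  unfold lenL
  rw [Finset.card_eq_zero]
  ext r
  simp only [Finset.mem_filter, Finset.mem_univ, true_and, Finset.notMem_empty, iff_false,
    not_and, not_not]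
  intro h
  exact h

theorem lenL_le_length (hD : D ∈ [chevG2, chevB2, chevD4, chevF4, chevE6, chevE7, chevE8]) :
    ∀ {l : List ℕ}, (∀ i ∈ l, i < D.rank) → lenL D l ≤ l.length := by
  intro l
  induction l using List.reverseRecOn with
  | nil => intro _; rw [lenL_nil]; exact Nat.zero_le _
  | append_singleton l k ih =>
    intro hl
    have hl' : ∀ i ∈ l, i < D.rank := fun i hi => hl i (by simp [hi])
    have hk : k < D.rank := hl k (by simp)
    have h := lenL_concat hD hl' hk
    have := ih hl'
    rw [List.length_append, List.length_singleton]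
    by_cases hp : D.nroots / 2 ≤ reflWord D l (D.simple k)
    · rw [h.1 hp]; omega
    · have := h.2 hp; omega

theorem GoodW.lenL_eq (hD : D ∈ [chevG2, chevB2, chevD4, chevF4, chevE6, chevE7, chevE8])
    {l : List ℕ} (h : GoodW D l) : lenL D l = l.length := by
  induction h with
  | nil => exact lenL_nil
  | @concat l k h1 hk hpos ih =>
    rw [(lenL_concat hD h1.lt hk).1 hpos, ih, List.length_append, List.length_singleton]

theorem goodW_of_lenL (hD : D ∈ [chevG2, chevB2, chevD4, chevF4, chevE6, chevE7, chevE8]) :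
    ∀ {l : List ℕ}, (∀ i ∈ l, i < D.rank) → lenL D l = l.length → GoodW D l := by
  intro l
  induction l using List.reverseRecOn with
  | nil => intro _ _; exact GoodW.nil
  | append_singleton l k ih =>
    intro hl hlen
    have hl' : ∀ i ∈ l, i < D.rank := fun i hi => hl i (by simp [hi])
    have hk : k < D.rank := hl k (by simp)
    have h := lenL_concat hD hl' hk
    have hle := lenL_le_length hD hl'
    rw [List.length_append, List.length_singleton] at hlen
    by_cases hp : D.nroots / 2 ≤ reflWord D l (D.simple k)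
    · have h1 := h.1 hp
      exact GoodW.concat (ih hl' (by omega)) hk hp
    · have h2 := h.2 hp
      omega

/-- the permutation of a word with letters in `J` lies in `W_J` -/
theorem exists_perm_of_word_J (hD : D ∈ [chevG2, chevB2, chevD4, chevF4, chevE6, chevE7, chevE8])
    (J : Set (Fin D.rank)) {l : List ℕ} (hl : ∀ i ∈ l, ∃ h : i < D.rank, (⟨i, h⟩ : Fin D.rank) ∈ J) :
    ∃ w : Equiv.Perm (Fin D.nroots),
      w ∈ (chevWD D (validJ_of_mem hD) (validH_of_mem hD) (checkInv_of_mem hD)).WJ J ∧
      ∀ r : Fin D.nroots, (w r).val = reflWord D l r.val := by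
  induction l with
  | nil => exact ⟨1, one_mem _, fun r => rfl⟩
  | cons i l ih =>
    obtain ⟨w, hw, e⟩ := ih (fun j hj => hl j (List.mem_cons_of_mem _ hj))
    obtain ⟨hi, hiJ⟩ := hl i List.mem_cons_self
    refine ⟨sPerm (validJ_of_mem hD) (validH_of_mem hD) (checkInv_of_mem hD) ⟨i, hi⟩ * w,
      mul_mem (Subgroup.subset_closure ⟨⟨i, hi⟩, hiJ, rfl⟩) hw, fun r => ?_⟩
    rw [Equiv.Perm.mul_apply, sPerm_val, e, reflWord_cons]

/-- appending a class all of whose fundamental roots are made negative shortens a word -/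
theorem lenL_append_cls (hD : D ∈ [chevG2, chevB2, chevD4, chevF4, chevE6, chevE7, chevE8])
    {F : Type*} [Field F] {ρ : ℕ → ℕ} {c : List ℕ} (hc : XCls D F ρ c) {l : List ℕ} (hl : ∀ i ∈ l, i < D.rank)
    (hneg : ∀ j ∈ c, ¬ D.nroots / 2 ≤ reflWord D l (D.simple j)) :
    lenL D (l ++ c) + c.length = lenL D l := by
  have V := valid0_of_mem hD
  have VJ := validJ_of_mem hD
  have H := validH_of_mem hD
  have hX := chevWD_ok_mem hD
  set J : Set (Fin D.rank) := {i | i.val ∈ c} with hJ
  have hlc : ∀ i ∈ l ++ c, i < D.rank := by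
    intro i hi
    rw [List.mem_append] at hi
    rcases hi with hi | hi
    · exact hl i hi
    · exact hc.lt i hi
  obtain ⟨u, hu, eu⟩ := exists_perm_of_word hD hlc
  obtain ⟨v, hv, ev⟩ := exists_perm_of_word_J hD J (l := c)
    (fun i hi => ⟨hc.lt i hi, hi⟩)
  obtain ⟨w, hw, ew⟩ := exists_perm_of_word hD hl
  have hu' : u ∈ (chevWD D (validJ_of_mem hD) (validH_of_mem hD) (checkInv_of_mem hD)).WJ
      Set.univ := by
    rw [WData.WJ_univ]; exact hu
  -- `u v = w`
  have huv : u * v = w := by
    ext r
    rw [Equiv.Perm.mul_apply, eu, ev, reflWord_append, hc.invol _ r.isLt, ew]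
  have hup : ∀ j ∈ J, (chevWD D (validJ_of_mem hD) (validH_of_mem hD) (checkInv_of_mem hD)).pos
      (u ((chevWD D (validJ_of_mem hD) (validH_of_mem hD) (checkInv_of_mem hD)).p j)) := by
    intro j hj
    show D.nroots / 2 ≤ (u ⟨D.simple j.val, _⟩).val
    rw [eu, reflWord_append]
    obtain ⟨j', hj', e⟩ := hc.long j.val hj
    show D.nroots / 2 ≤ reflWord D l (reflWord D c (D.simple j.val))
    rw [e]
    have hp := (VJ.S j' (hc.lt j' hj')).1
    rw [reflWord_neg VJ H.nS hl hp, V.neg_eq _ (reflWord_lt VJ H.nS hl hp)]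
    have h1 := hneg j' hj'
    have h2 := reflWord_lt VJ H.nS hl hp
    have := V.even
    omega
  have hlen : (chevWD D (validJ_of_mem hD) (validH_of_mem hD) (checkInv_of_mem hD)).len w =
      (chevWD D (validJ_of_mem hD) (validH_of_mem hD) (checkInv_of_mem hD)).len u +
      (chevWD D (validJ_of_mem hD) (validH_of_mem hD) (checkInv_of_mem hD)).len v := by
    rw [← huv]
    exact WData.len_mul hX (WData.lin_of_mem hX hu') (WData.w_ng hX hu') hup hv
  have h1 : (chevWD D (validJ_of_mem hD) (validH_of_mem hD) (checkInv_of_mem hD)).len w =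
      lenL D l := lenL_eq_lenD ew
  have h2 : (chevWD D (validJ_of_mem hD) (validH_of_mem hD) (checkInv_of_mem hD)).len u =
      lenL D (l ++ c) := lenL_eq_lenD eu
  have h3 : (chevWD D (validJ_of_mem hD) (validH_of_mem hD) (checkInv_of_mem hD)).len v =
      lenL D c := lenL_eq_lenD ev
  rw [h1, h2, h3, hc.good.lenL_eq hD] at hlen
  exact hlen.symm

end

namespace XEnd

variable {D : ChevalleyDatum} {F : Type*} [Field F] {σ : GL D.Idx F → GL D.Idx F}
  {bar ρ E : ℕ → ℕ}

theorem iterate_rho_lt (X : XEnd D F σ bar ρ E) {k : ℕ} (hk : k < D.rank) (m : ℕ) :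
    ρ^[m] k < D.rank := by
  induction m with
  | zero => exact hk
  | succ m ih => rw [Function.iterate_succ_apply']; exact X.rho_lt _ ih

/-- a symmetric word makes all the roots of a class negative as soon as one of them -/
theorem sym_neg_all (X : XEnd D F σ bar ρ E) {c : List ℕ} (hc : XCls D F ρ c) {l : List ℕ}
    (hl : ∀ i ∈ l, i < D.rank)
    (hsym : ∀ r < D.nroots, bar (reflWord D l r) = reflWord D l (bar r))
    {k : ℕ} (hk : k ∈ c) (hneg : ¬ D.nroots / 2 ≤ reflWord D l (D.simple k)) :
    ∀ j ∈ c, ¬ D.nroots / 2 ≤ reflWord D l (D.simple j) := by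
  have VJ := validJ_of_mem X.hD
  have H := validH_of_mem X.hD
  have hiter : ∀ m : ℕ, ¬ D.nroots / 2 ≤ reflWord D l (D.simple (ρ^[m] k)) := by
    intro m
    induction m with
    | zero => exact hneg
    | succ m ih =>
      rw [Function.iterate_succ_apply']
      have h1 := X.iterate_rho_lt (hc.lt k hk) m
      have hp := (VJ.S _ h1).1
      rw [← X.bar_simple _ h1, ← hsym _ hp, X.bar_pos _ (reflWord_lt VJ H.nS hl hp)]
      exact ih
  intro j hj
  obtain ⟨m, rfl⟩ := hc.orb k hk j hj
  exact hiter m

/-- a symmetric element of the Weyl group has a symmetric good word -/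
theorem sym_word (X : XEnd D F σ bar ρ E) {cls : List (List ℕ)}
    (hC : ∀ c ∈ cls, XCls D F ρ c) (hcov : ∀ k < D.rank, ∃ c ∈ cls, k ∈ c) :
    ∀ (n : ℕ) (l : List ℕ), lenL D l = n → (∀ i ∈ l, i < D.rank) →
      (∀ r < D.nroots, bar (reflWord D l r) = reflWord D l (bar r)) →
      ∃ Cs : List (List ℕ), (∀ c ∈ Cs, c ∈ cls) ∧ GoodW D Cs.flatten ∧
        ∀ r < D.nroots, reflWord D Cs.flatten r = reflWord D l r := by
  have hD := X.hD
  have VJ := validJ_of_mem hD
  have H := validH_of_mem hD
  intro n
  induction n using Nat.strong_induction_on with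
  | _ n ih =>
    intro l hn hl hsym
    by_cases h0 : n = 0
    · refine ⟨[], by simp, GoodW.nil, fun r hr => ?_⟩
      rw [reflWord_of_lenL_zero hD hl (hn.trans h0) r hr]
      rfl
    · obtain ⟨k, hk, hneg⟩ := exists_simple_neg hD hl (by omega)
      obtain ⟨c, hc, hkc⟩ := hcov k hk
      have hcok := hC c hc
      have hall := X.sym_neg_all hcok hl hsym hkc hneg
      have hlen := lenL_append_cls hD hcok hl hall
      have hcne : 0 < c.length := List.length_pos_of_mem hkc
      have hlc : ∀ i ∈ l ++ c, i < D.rank := by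
        intro i hi
        rw [List.mem_append] at hi
        rcases hi with hi | hi
        · exact hl i hi
        · exact hcok.lt i hi
      have hsym' : ∀ r < D.nroots, bar (reflWord D (l ++ c) r) = reflWord D (l ++ c) (bar r) := by
        intro r hr
        rw [reflWord_append, reflWord_append, hsym _ (reflWord_lt VJ H.nS hcok.lt hr),
          ← X.reflWord_bar hcok.lt hr, hcok.sym _ (X.bar_lt r hr)]
      obtain ⟨Cs, hCs, hg, he⟩ := ih (lenL D (l ++ c)) (by omega) (l ++ c) rfl hlc hsym'
      have hact : ∀ r < D.nroots, reflWord D (Cs ++ [c]).flatten r = reflWord D l r := by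
        intro r hr
        rw [List.flatten_append, List.flatten_singleton, reflWord_append,
          he _ (reflWord_lt VJ H.nS hcok.lt hr), reflWord_append, hcok.invol r hr]
      refine ⟨Cs ++ [c], ?_, ?_, hact⟩
      · intro c' hc'
        rw [List.mem_append, List.mem_singleton] at hc'
        rcases hc' with hc' | rfl
        · exact hCs c' hc'
        · exact hc
      · have hlt : ∀ i ∈ (Cs ++ [c]).flatten, i < D.rank := by
          intro i hi
          rw [List.mem_flatten] at hi
          obtain ⟨c', hc', hi⟩ := hi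
          rw [List.mem_append, List.mem_singleton] at hc'
          rcases hc' with hc' | rfl
          · exact (hC c' (hCs c' hc')).lt i hi
          · exact hcok.lt i hi
        apply goodW_of_lenL hD hlt
        rw [lenL_congr hact, ← hlen, lenL_congr (fun r hr => (he r hr).symm), hg.lenL_eq hD,
          List.flatten_append, List.flatten_singleton, List.length_append]

end XEnd

end Cfsg.Agent.Lib.Helper8.Chev
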