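import Cfsg.Agent.Lib.Helper8.ChevSt7
import Cfsg.Agent.Lib.Helper8.ChevXT2
import Cfsg.Agent.Lib.Helper8.ChevTw23

set_option autoImplicit false

/-! Steinberg groups: the elements of `N̄` over the identity of the Weyl group lie in `H̄`. -/

namespace Cfsg.Agent.Lib.Helper8.Chev

open Cfsg.Lie Matrix Cfsg.Agent.Lib.Helper8.Weyl

section Words

variable {D : ChevalleyDatum}

theorem goodW_of_prefixes {l : List ℕ} (hl : ∀ i ∈ l, i < D.rank)
    (h : ∀ l₁ k l₂, l = l₁ ++ k :: l₂ → D.nroots / 2 ≤ reflWord D l₁ (D.simple k)) :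
    GoodW D l := by
  induction l using List.reverseRecOn with
  | nil => exact GoodW.nil
  | append_singleton l k ih =>
    apply GoodW.concat
    · apply ih (fun i hi => hl i (by simp [hi]))
      intro l₁ k' l₂ e
      exact h l₁ k' (l₂ ++ [k]) (by rw [e]; simp)
    · exact hl k (by simp)
    · exact h l k [] rfl

/-- a non-empty word of the identity has a prefix mapping the next fundamental root to a negative
root -/
theorem exists_neg_prefix (hD : D ∈ [chevG2, chevB2, chevD4, chevF4, chevE6, chevE7, chevE8])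
    {l : List ℕ} (hl : ∀ i ∈ l, i < D.rank) (hne : l ≠ [])
    (hid : ∀ r < D.nroots, reflWord D l r = r) :
    ∃ l₁ k l₂, l = l₁ ++ k :: l₂ ∧ reflWord D l₁ (D.simple k) < D.nroots / 2 := by
  by_contra hcon
  push Not at hcon
  have hg := goodW_of_prefixes hl hcon
  have h1 := hg.lenL_eq hD
  have h2 : lenL D l = 0 := by
    unfold lenL
    rw [Finset.card_eq_zero]
    ext r
    simp only [Finset.mem_filter, Finset.mem_univ, true_and, Finset.notMem_empty, iff_false,
      not_and, not_not]
    intro h
    rw [hid r.val r.isLt]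
    exact h
  rw [h2] at h1
  exact hne (List.length_eq_zero_iff.mp h1.symm)

/-- a word mapping a fundamental root to a negative root has a suffix mapping it to a
fundamental root -/
theorem exists_simple_suffix (hD : D ∈ [chevG2, chevB2, chevD4, chevF4, chevE6, chevE7, chevE8])
    {k : ℕ} (hk : k < D.rank) :
    ∀ {l : List ℕ}, (∀ i ∈ l, i < D.rank) → reflWord D l (D.simple k) < D.nroots / 2 →
      ∃ a j b, l = a ++ j :: b ∧ reflWord D b (D.simple k) = D.simple j := by
  have J := validJ_of_mem hD
  have H := validH_of_mem hD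
  have hRP := checkRP_of_mem hD
  intro l
  induction l with
  | nil =>
    intro _ h
    have := (refl_pos J hRP hk).1
    simp only [reflWord, List.foldr_nil] at h
    omega
  | cons j b ih =>
    intro hl h
    have hj := hl j List.mem_cons_self
    have hb : ∀ i ∈ b, i < D.rank := fun i hi => hl i (List.mem_cons_of_mem _ hi)
    by_cases hβ : reflWord D b (D.simple k) < D.nroots / 2
    · obtain ⟨a, j', b', e, h'⟩ := ih hb hβ
      exact ⟨j :: a, j', b', by rw [e]; rfl, h'⟩
    · refine ⟨[], j, b, rfl, ?_⟩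
      by_contra hne
      have hlt := reflWord_lt J H.nS hb (J.S k hk).1
      have := (refl_pos J hRP hj).2 _ hlt (by omega) hne
      rw [reflWord_cons] at h
      omega

end Words

namespace StRep

variable {D : ChevalleyDatum} {K : Type*} [Field K] {Γ : Type*} [Group Γ] (S : StRep D K Γ)

theorem map_mem_diagonal {g : Γ} (hg : g ∈ S.H0) : S.θ g ∈ D.diagonalSubgroup K := by
  have J := validJ_of_mem S.hD
  unfold H0 at hg
  induction hg using Subgroup.closure_induction with
  | mem g hg =>
    obtain ⟨i, c, hi, hc, rfl⟩ := hg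
    exact Subgroup.subset_closure ⟨D.simple i, c, (J.S i hi).1, hc, S.map_h (J.S i hi).1 c⟩
  | one => rw [map_one]; exact one_mem _
  | mul g g' _ _ h1 h2 => rw [map_mul]; exact mul_mem h1 h2
  | inv g _ h1 => rw [map_inv]; exact inv_mem h1

/-- the words of the identity of the Weyl group lie in `H̄` -/
theorem nW_mem_H0 : ∀ (m : ℕ) (l : List ℕ), l.length = m → (∀ i ∈ l, i < D.rank) →
    (∀ r < D.nroots, reflWord D l r = r) → S.nW l ∈ S.H0 := by
  have J := validJ_of_mem S.hD
  intro m
  induction m using Nat.strong_induction_on with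
  | _ m IH =>
    intro l hlen hl hid
    by_cases hne : l = []
    · rw [hne, nW_nil]; exact one_mem _
    obtain ⟨l₁, k, l₂, e, hneg⟩ := exists_neg_prefix S.hD hl hne hid
    have hl₁ : ∀ i ∈ l₁, i < D.rank := fun i hi => hl i (by rw [e]; simp [hi])
    have hk : k < D.rank := hl k (by rw [e]; simp)
    have hl₂ : ∀ i ∈ l₂, i < D.rank := fun i hi => hl i (by rw [e]; simp [hi])
    obtain ⟨a, j, b, e', hsimple⟩ := exists_simple_suffix S.hD hk hl₁ hneg
    have ha : ∀ i ∈ a, i < D.rank := fun i hi => hl₁ i (by rw [e']; simp [hi])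
    have hj : j < D.rank := hl₁ j (by rw [e']; simp)
    have hb : ∀ i ∈ b, i < D.rank := fun i hi => hl₁ i (by rw [e']; simp [hi])
    have hpk := (J.S k hk).1
    have hpj := (J.S j hj).1
    -- `n_b n_k n_b⁻¹ = n_j(±1)`
    obtain ⟨ε, hε, hconj⟩ := (S.rp_nW hb).conj_n S hpk
    have h1 := hconj 1
    rw [hsimple, mul_one] at h1
    -- `n_j n_b n_k ∈ H̄ n_b`
    have h2 : ∃ h ∈ S.H0, S.n (D.simple j) 1 * S.nW b * S.n (D.simple k) 1 = h * S.nW b := by
      have e1 : S.n (D.simple j) 1 * S.nW b * S.n (D.simple k) 1 =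
          S.n (D.simple j) 1 * (S.nW b * S.n (D.simple k) 1 * (S.nW b)⁻¹) * S.nW b := by group
      rw [e1, h1]
      rcases hε with rfl | rfl
      · exact ⟨_, S.n_sq_mem_H0 hj, rfl⟩
      · exact ⟨1, one_mem _, by rw [S.n_mul_neg hpj]⟩
    obtain ⟨h, hh, e2⟩ := h2
    -- the shorter word
    have hl' : ∀ i ∈ a ++ b ++ l₂, i < D.rank := by
      intro i hi
      simp only [List.mem_append] at hi
      rcases hi with (hi | hi) | hi
      · exact ha i hi
      · exact hb i hi
      · exact hl₂ i hi
    have e3 : S.nW l = (S.nW a * h * (S.nW a)⁻¹) * S.nW (a ++ b ++ l₂) := by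
      rw [e, e', nW_append, nW_append, nW_cons, nW_cons, nW_append, nW_append]
      have : S.nW a * (S.n (D.simple j) 1 * S.nW b) * (S.n (D.simple k) 1 * S.nW l₂) =
          S.nW a * (S.n (D.simple j) 1 * S.nW b * S.n (D.simple k) 1) * S.nW l₂ := by group
      rw [this, e2]
      group
    have hh' : S.nW a * h * (S.nW a)⁻¹ ∈ S.H0 := (S.nW_conj_H0 ha hh).1
    have hid' : ∀ r < D.nroots, reflWord D (a ++ b ++ l₂) r = r := by
      rw [← nP_mem_diagonal_iff (F := K) S.hD hl']
      have h3 : nP D K l ∈ D.diagonalSubgroup K := (nP_mem_diagonal_iff S.hD hl).mpr hid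
      rw [← S.map_nW hl, e3, map_mul] at h3
      have h4 := S.map_mem_diagonal hh'
      rw [← S.map_nW hl']
      have := mul_mem (inv_mem h4) h3
      rwa [inv_mul_cancel_left] at this
    have hlen' : (a ++ b ++ l₂).length < m := by
      rw [← hlen, e, e']
      simp only [List.length_append, List.length_cons]
      omega
    rw [e3]
    exact mul_mem hh' (IH _ hlen' _ rfl hl' hid')

end StRep

end Cfsg.Agent.Lib.Helper8.Chev
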