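import Cfsg.Agent.Lib.Helper8.ChevSt8

set_option autoImplicit false

/-! Steinberg groups: the Bruhat decomposition `Γ = Ū N̄ Ū`. -/

namespace Cfsg.Agent.Lib.Helper8.Chev

open Cfsg.Lie Matrix

namespace StRep

variable {D : ChevalleyDatum} {K : Type*} [Field K] {Γ : Type*} [Group Γ] (S : StRep D K Γ)

/-- the action of `h̄ n̄_w` on the root elements -/
theorem N0_conj {h : Γ} (hh : h ∈ S.H0) {l : List ℕ} (hl : ∀ i ∈ l, i < D.rank) {s : ℕ}
    (hs : s < D.nroots) :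
    ∃ c : K, c ≠ 0 ∧ ∀ u : K, (h * S.nW l) * S.x s u * (h * S.nW l)⁻¹ =
      S.x (reflWord D l s) (c * u) := by
  obtain ⟨hσ, _, ε, hε, e1, _⟩ := S.rp_nW hl s hs
  obtain ⟨f, hf, e2⟩ := S.tl_of_mem_H0 hh
  refine ⟨f (reflWord D l s) * ε, mul_ne_zero (hf _ hσ).1 ?_, fun u => ?_⟩
  · rcases hε with rfl | rfl <;> simp
  · have : h * S.nW l * S.x s u * (h * S.nW l)⁻¹ =
        h * (S.nW l * S.x s u * (S.nW l)⁻¹) * h⁻¹ := by group
    rw [this, e1, e2 _ hσ, mul_assoc]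

/-- the action of the inverse of `h̄ n̄_w` on the root elements -/
theorem N0_conj_inv {h : Γ} (hh : h ∈ S.H0) {l : List ℕ} (hl : ∀ i ∈ l, i < D.rank) {r : ℕ}
    (hr : r < D.nroots) :
    ∃ c : K, c ≠ 0 ∧ ∀ u : K, (h * S.nW l)⁻¹ * S.x r u * (h * S.nW l) =
      S.x (reflWord D l.reverse r) (c * u) := by
  have J := validJ_of_mem S.hD
  have H := validH_of_mem S.hD
  have hI := checkInv_of_mem S.hD
  have hlr : ∀ i ∈ l.reverse, i < D.rank := fun i hi => hl i (List.mem_reverse.mp hi)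
  have hs := reflWord_lt J H.nS hlr hr
  obtain ⟨c, hc, e⟩ := S.N0_conj hh hl hs
  rw [reflWord_reverse_cancel J H.nS hI hl hr] at e
  refine ⟨c⁻¹, inv_ne_zero hc, fun u => ?_⟩
  have := e (c⁻¹ * u)
  rw [← mul_assoc, mul_inv_cancel₀ hc, one_mul] at this
  rw [← this]
  group

/-- `Ū = Ū_p X̄_p` -/
theorem Upos_form {i : ℕ} (hi : i < D.rank) {g : Γ} (hg : g ∈ S.Upos) :
    ∃ v ∈ S.Upar i, ∃ t : K, g = v * S.x (D.simple i) t := by
  have J := validJ_of_mem S.hD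
  have hp := (J.S i hi).1
  unfold Upos at hg
  induction hg using Subgroup.closure_induction with
  | mem g hg =>
    obtain ⟨s, t, h1, h2, rfl⟩ := hg
    by_cases hsp : s = D.simple i
    · exact ⟨1, one_mem _, t, by rw [hsp, one_mul]⟩
    · exact ⟨_, S.x_mem_Upar h1 h2 hsp t, 0, by rw [S.x_zero hp, mul_one]⟩
  | one => exact ⟨1, one_mem _, 0, by rw [S.x_zero hp, mul_one]⟩
  | mul g g' _ _ h1 h2 =>
    obtain ⟨v, hv, a, rfl⟩ := h1
    obtain ⟨v', hv', b, rfl⟩ := h2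
    refine ⟨v * (S.x (D.simple i) a * v' * (S.x (D.simple i) a)⁻¹),
      mul_mem hv (S.x_conj_Upar hi (Or.inl rfl) a v' hv'), a + b, ?_⟩
    rw [← S.add _ hp]
    group
  | inv g _ h1 =>
    obtain ⟨v, hv, a, rfl⟩ := h1
    refine ⟨S.x (D.simple i) (-a) * v⁻¹ * (S.x (D.simple i) (-a))⁻¹,
      S.x_conj_Upar hi (Or.inl rfl) (-a) _ (inv_mem hv), -a, ?_⟩
    rw [_root_.mul_inv_rev, S.x_inv hp]
    group

/-- the elements acting by scalars normalise `Ū` -/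
theorem tl_conj_Upos {h : Γ} (hh : S.TL h) : ∀ g ∈ S.Upos, h * g * h⁻¹ ∈ S.Upos := by
  obtain ⟨f, _, e⟩ := hh
  apply conj_mem_of_gens
  rintro g ⟨s, t, h1, h2, rfl⟩
  rw [e s h2]
  exact S.x_mem_Upos h1 h2 _

/-- the double coset set `Ū N̄ Ū` -/
def BNB : Set Γ := {g | ∃ u ∈ S.Upos, ∃ n ∈ S.N0, ∃ u' ∈ S.Upos, g = u * n * u'}

theorem one_mem_BNB : (1 : Γ) ∈ S.BNB :=
  ⟨1, one_mem _, 1, one_mem _, 1, one_mem _, by simp⟩

theorem Upos_mul_BNB {a : Γ} (ha : a ∈ S.Upos) {g : Γ} (hg : g ∈ S.BNB) : a * g ∈ S.BNB := by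
  obtain ⟨u, hu, n, hn, u', hu', rfl⟩ := hg
  exact ⟨a * u, mul_mem ha hu, n, hn, u', hu', by group⟩

theorem H0_mul_BNB {a : Γ} (ha : a ∈ S.H0) {g : Γ} (hg : g ∈ S.BNB) : a * g ∈ S.BNB := by
  obtain ⟨u, hu, n, hn, u', hu', rfl⟩ := hg
  exact ⟨a * u * a⁻¹, S.tl_conj_Upos (S.tl_of_mem_H0 ha) u hu, a * n,
    mul_mem (S.H0_le_N0 ha) hn, u', hu', by group⟩

/-- `x̄_{-p}(a) = x̄_p(a⁻¹) n̄_p(-a⁻¹) x̄_p(a⁻¹)` -/
theorem x_neg_eq {r : ℕ} (hr : r < D.nroots) {a : K} (ha : a ≠ 0) :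
    S.x (D.neg r) a = S.x r a⁻¹ * S.n r (-a⁻¹) * S.x r a⁻¹ := by
  unfold n
  rw [inv_neg, inv_inv, neg_neg]
  have h1 := S.x_mul_neg hr a⁻¹
  have h2 := S.x_neg_mul hr a⁻¹
  calc S.x (D.neg r) a = (S.x r a⁻¹ * S.x r (-a⁻¹)) * S.x (D.neg r) a *
        (S.x r (-a⁻¹) * S.x r a⁻¹) := by rw [h1, h2, one_mul, mul_one]
    _ = _ := by simp only [mul_assoc]

theorem n_mul_BNB {i : ℕ} (hi : i < D.rank) {g : Γ} (hg : g ∈ S.BNB) :
    S.n (D.simple i) 1 * g ∈ S.BNB := by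
  have V := valid0_of_mem S.hD
  have J := validJ_of_mem S.hD
  have H := validH_of_mem S.hD
  have heven := V.even
  have hp := (J.S i hi).1
  have hnp := V.neg_lt hp
  have hppos := (refl_pos J (checkRP_of_mem S.hD) hi).1
  obtain ⟨u, hu, n, hn, u', hu', rfl⟩ := hg
  obtain ⟨v, hv, t, rfl⟩ := S.Upos_form hi hu
  obtain ⟨h, hh, l, hl, rfl⟩ := S.N0_form hn
  have hlr : ∀ i ∈ l.reverse, i < D.rank := fun i hi => hl i (List.mem_reverse.mp hi)
  set nn := S.n (D.simple i) 1 with hnn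
  have hv' : nn * v * nn⁻¹ ∈ S.Upos := S.Upar_le i (S.n_conj_Upar hi 1 v hv)
  obtain ⟨c, hc, e⟩ := S.N0_conj_inv hh hl hp
  set s := reflWord D l.reverse (D.simple i) with hsdef
  have hs : s < D.nroots := reflWord_lt J H.nS hlr hp
  by_cases hspos : D.nroots / 2 ≤ s
  · -- `n̄ v x_p(t) n u' = (n̄ v n̄⁻¹) (n̄ n) (n⁻¹ x_p(t) n) u'`
    refine ⟨nn * v * nn⁻¹, hv', nn * (h * S.nW l),
      mul_mem (S.n_mem_N0 hi) (mul_mem (S.H0_le_N0 hh) (S.nW_mem_N0 hl)),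
      S.x s (c * t) * u', mul_mem (S.x_mem_Upos hspos hs _) hu', ?_⟩
    rw [← e t]
    group
  · by_cases ht : t = 0
    · refine ⟨nn * v * nn⁻¹, hv', nn * (h * S.nW l),
        mul_mem (S.n_mem_N0 hi) (mul_mem (S.H0_le_N0 hh) (S.nW_mem_N0 hl)), u', hu', ?_⟩
      rw [ht, S.x_zero hp]
      group
    · -- `n̄ x_p(t) = x_{-p}(a) n̄`
      have h1 := S.n_conj_self hi one_ne_zero t
      set a := nCoef D K i (D.simple i) 1 * t with ha
      have ha0 : a ≠ 0 := mul_ne_zero (nCoef_ne_zero S.hD hi hp one_ne_zero) ht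
      rw [S.x_neg_eq hp ha0] at h1
      -- the action of `(n̄ n)⁻¹` on `x_p`
      have hc1 : (-1 : K) ≠ 0 := neg_ne_zero.mpr one_ne_zero
      have h2 := S.n_conj_self hi hc1 a⁻¹
      rw [← S.n_inv hp, inv_inv, ← hnn] at h2
      obtain ⟨c', hc', e'⟩ := S.N0_conj_inv hh hl hnp
      have hsn : reflWord D l.reverse (D.neg (D.simple i)) = D.neg s := by
        rw [reflWord_neg J H.nS hlr hp]
      rw [hsn] at e'
      have hnspos : D.nroots / 2 ≤ D.neg s := by rw [V.neg_eq s hs]; omega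
      refine ⟨nn * v * nn⁻¹ * S.x (D.simple i) a⁻¹,
        mul_mem hv' (S.x_mem_Upos hppos hp _),
        S.n (D.simple i) (-a⁻¹) * (nn * (h * S.nW l)), ?_,
        S.x (D.neg s) (c' * (nCoef D K i (D.simple i) (-1) * a⁻¹)) * u',
        mul_mem (S.x_mem_Upos hnspos (V.neg_lt hs) _) hu', ?_⟩
      · obtain ⟨h', hh', e3⟩ := S.n_mem hi (a := -a⁻¹) (neg_ne_zero.mpr (inv_ne_zero ha0))
        rw [e3]
        exact mul_mem (mul_mem (S.H0_le_N0 hh') (S.n_mem_N0 hi))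
          (mul_mem (S.n_mem_N0 hi) (mul_mem (S.H0_le_N0 hh) (S.nW_mem_N0 hl)))
      · rw [← e', ← h2]
        have e4 : nn * (v * S.x (D.simple i) t * (h * S.nW l) * u') =
            (nn * v * nn⁻¹) * (nn * S.x (D.simple i) t * nn⁻¹) * (nn * (h * S.nW l)) * u' := by
          group
        rw [e4, h1]
        group

/-- the subgroup generated by `Ū` and `N̄` is everything -/
theorem Upos_sup_N0 : S.Upos ⊔ S.N0 = ⊤ := by
  have V := valid0_of_mem S.hD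
  have J := validJ_of_mem S.hD
  have heven := V.even
  rw [eq_top_iff, ← S.gen, Subgroup.closure_le]
  rintro g ⟨r, hr, t, rfl⟩
  obtain ⟨l, j, hl, hj, e⟩ := reach_of_mem S.hD hr
  obtain ⟨_, _, ε, hε, e1, _⟩ := S.rp_nW hl (D.simple j) (J.S j hj).1
  have hεε : ε * ε = 1 := by rcases hε with rfl | rfl <;> simp
  have h1 := e1 (ε * t)
  rw [e, ← mul_assoc, hεε, one_mul] at h1
  rw [← h1]
  have hppos := (refl_pos J (checkRP_of_mem S.hD) hj).1
  have hn : S.nW l ∈ S.Upos ⊔ S.N0 := Subgroup.mem_sup_right (S.nW_mem_N0 hl)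
  exact mul_mem (mul_mem hn (Subgroup.mem_sup_left (S.x_mem_Upos hppos (J.S j hj).1 _)))
    (inv_mem hn)

/-- the Bruhat decomposition of `Γ` -/
theorem mem_BNB (g : Γ) : g ∈ S.BNB := by
  have J := validJ_of_mem S.hD
  have key : ∀ γ ∈ S.Upos ⊔ S.N0, ∀ g ∈ S.BNB, γ * g ∈ S.BNB ∧ γ⁻¹ * g ∈ S.BNB := by
    intro γ hγ
    rw [Subgroup.sup_eq_closure] at hγ
    induction hγ using Subgroup.closure_induction with
    | mem γ hγ =>
      intro g hg
      rcases hγ with hγ | hγ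
      · exact ⟨S.Upos_mul_BNB hγ hg, S.Upos_mul_BNB (inv_mem hγ) hg⟩
      · obtain ⟨h, hh, l, hl, rfl⟩ := S.N0_form hγ
        have hw : ∀ {l : List ℕ}, (∀ i ∈ l, i < D.rank) → ∀ g ∈ S.BNB, S.nW l * g ∈ S.BNB := by
          intro l
          induction l with
          | nil => intro _ g hg; rw [nW_nil, one_mul]; exact hg
          | cons i l ih =>
            intro hl g hg
            rw [nW_cons, mul_assoc]
            exact S.n_mul_BNB (hl i List.mem_cons_self)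
              (ih (fun j hj => hl j (List.mem_cons_of_mem _ hj)) g hg)
        constructor
        · rw [mul_assoc]
          exact S.H0_mul_BNB hh (hw hl g hg)
        · have hlr : ∀ i ∈ l.reverse, i < D.rank := fun i hi => hl i (List.mem_reverse.mp hi)
          obtain ⟨h', hh', e⟩ := S.nW_inv hl
          rw [_root_.mul_inv_rev, e, mul_assoc, mul_assoc]
          exact S.H0_mul_BNB hh' (hw hlr _ (S.H0_mul_BNB (inv_mem hh) hg))
    | one =>
      intro g hg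
      simpa using hg
    | mul a b _ _ ha hb =>
      intro g hg
      constructor
      · rw [mul_assoc]
        exact (ha _ (hb g hg).1).1
      · rw [_root_.mul_inv_rev, mul_assoc]
        exact (hb _ (ha g hg).2).2
    | inv a _ ha =>
      intro g hg
      rw [inv_inv]
      exact ⟨(ha g hg).2, (ha g hg).1⟩
  have := (key g (by rw [S.Upos_sup_N0]; exact Subgroup.mem_top _) 1 S.one_mem_BNB).1
  rwa [mul_one] at this

end StRep

end Cfsg.Agent.Lib.Helper8.Chev
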