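import Cfsg.Agent.Lib.Helper8.ChevU5

set_option autoImplicit false

/-! Uniqueness of the ordered product over the negative roots (the mirror image of `ChevU4`). -/

namespace Cfsg.Agent.Lib.Helper8.Chev

open Cfsg.Lie Matrix

section Tri

variable {D : ChevalleyDatum} {R : Type*} [CommRing R]

/-- matrices all of whose non-zero entries lie on or above the diagonal -/
def UpZ (D : ChevalleyDatum) (R : Type*) [CommRing R] : Set (Matrix D.Idx D.Idx R) :=
  {M | ∀ i j, M i j ≠ 0 → ord D i ≤ ord D j}

theorem mem_UpZ_of_cols {M : Matrix D.Idx D.Idx R}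
    (h : ∀ j i, (M *ᵥ Pi.single j 1) i ≠ 0 → ord D i ≤ ord D j) : M ∈ UpZ D R := by
  intro i j hij
  apply h j i
  rw [Matrix.mulVec_single_one]
  exact hij

/-- for a negative root `r` the matrix `x_r(t)` is upper triangular -/
theorem xN_mem_UpZ (V : Valid0 D) (Tr : TriP D) {r : ℕ} (hr : r < D.nroots)
    (hneg : r < D.nroots / 2) (t : R) : xN D R r t ∈ UpZ D R := by
  have heven := V.even
  apply mem_UpZ_of_cols
  intro j i hne
  rcases j with j | s
  · -- column of a coroot
    rw [← Hb_of_lt R j.isLt, xN_mulVec_Hb R hr t j.isLt] at hne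
    by_cases hi : i = Sum.inl j
    · rw [hi]
    · have h0 : Hb D R j.val i = 0 := by
        rw [Hb_of_lt R j.isLt]
        exact Pi.single_eq_of_ne hi _
      simp only [Pi.sub_apply, h0, zero_sub, Pi.smul_apply, smul_eq_mul, ne_eq, neg_eq_zero] at hne
      obtain ⟨_, rfl⟩ := E_ne_zero_imp (right_ne_zero_of_mul hne)
      simp only [ord]
      rw [if_pos hneg]
      omega
  · rw [← E_of_lt R s.isLt] at hne
    by_cases h1 : s.val = r
    · rw [h1, xN_mulVec_E_self R hr t] at hne
      obtain ⟨_, rfl⟩ := E_ne_zero_imp hne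
      have : (⟨r, hr⟩ : Fin D.nroots) = s := Fin.ext h1.symm
      rw [this]
    by_cases h2 : s.val = D.neg r
    · rw [h2, xN_mulVec_E_neg V R hr t] at hne
      have hnr : D.neg r = D.nroots - 1 - r := V.neg_eq r hr
      have hs_ord : ord D (Sum.inr s) = s.val + D.rank := by
        simp only [ord]; rw [if_neg (by omega)]
      rw [hs_ord]
      rcases i with i | u
      · have := i.isLt
        simp only [ord]; omega
      · simp only [Pi.add_apply, Pi.sub_apply, Pi.smul_apply, Hr_apply_inr, smul_eq_mul] at hne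
        by_cases hu : u.val = D.neg r
        · simp only [ord]
          split_ifs <;> omega
        · have h0 : E D R (D.neg r) (Sum.inr u) = 0 := by
            rw [E_apply_inr, if_neg hu]
          simp only [h0, mul_zero, zero_add, add_zero, zero_sub, ne_eq, neg_eq_zero] at hne
          obtain ⟨_, hu'⟩ := E_ne_zero_imp (right_ne_zero_of_mul hne)
          rw [hu']
          simp only [ord]
          rw [if_pos hneg]
          omega
    · rw [xN_mulVec_E V R hr t s.isLt h1 h2] at hne
      by_cases hi : i = Sum.inr s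
      · rw [hi]
      · have h0 : E D R s.val i = 0 := by
          rw [E_of_lt R s.isLt]
          exact Pi.single_eq_of_ne hi _
        rw [Pi.add_apply, h0, zero_add] at hne
        obtain ⟨q, hq, hu, rfl⟩ := chainVec_ne_zero_imp hne
        have hne' : D.chainEntry r s.val ≠ [] := by intro h0; rw [h0] at hq; simp at hq
        obtain ⟨e, he, hes, hL⟩ := chainEntry_mem D hne'
        have := (Tr r hr e he q (by rw [hL]; exact hq)).2 hneg
        rw [hes] at this
        have := ord_inr_lt (D := D) (s := ⟨q.1, hu⟩) (u := s) this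
        omega

end Tri

section Unique

variable {D : ChevalleyDatum} {F : Type*} [Field F]

/-- vectors supported at positions below `c` -/
def BelowK (D : ChevalleyDatum) (F : Type*) [Field F] (c : ℕ) : Set (D.Idx → F) :=
  {v | ∀ idx, v idx ≠ 0 → ord D idx < c}

theorem mulVec_mem_BelowK {M : Matrix D.Idx D.Idx F} (hM : M ∈ UpZ D F) {c : ℕ}
    {v : D.Idx → F} (hv : v ∈ BelowK D F c) : M *ᵥ v ∈ BelowK D F c := by
  intro i hi
  unfold Matrix.mulVec dotProduct at hi
  obtain ⟨j, _, hj⟩ := Finset.exists_ne_zero_of_sum_ne_zero hi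
  have h1 := hM i j (left_ne_zero_of_mul hj)
  have h2 := hv j (right_ne_zero_of_mul hj)
  omega

theorem add_mem_BelowK {c : ℕ} {v w : D.Idx → F} (hv : v ∈ BelowK D F c) (hw : w ∈ BelowK D F c) :
    v + w ∈ BelowK D F c := by
  intro i hi
  by_cases h : v i = 0
  · apply hw i
    intro h0
    apply hi
    rw [Pi.add_apply, h, h0, add_zero]
  · exact hv i h

/-- the chains of smaller positive roots under the negatives of larger ones consist of negative
roots -/
def SepN (D : ChevalleyDatum) : Prop :=
  ∀ q < D.nroots, ∀ k < q, D.nroots / 2 ≤ k →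
    ∀ e ∈ D.chainEntry (D.nroots - 1 - q) k, e.1 < D.nroots / 2

noncomputable def checkSepN (D : ChevalleyDatum) : Bool :=
  forallLtF (fun q => forallLtF (fun k => !(Nat.ble (D.nroots / 2) k) ||
    allF (fun e : ℕ × ℤ => Nat.blt e.1 (D.nroots / 2))
      (lookF (rowAt D (D.nroots - 1 - q)) k)) q) D.nroots

theorem sepN_of_check (h : checkSepN D = true) : SepN D := by
  simp only [checkSepN, forallLtF_eq_true, Bool.or_eq_true, Bool.not_eq_true', allF_eq_true,
    Nat.blt_eq, rowAt_eq, lookF_eq] at h
  intro q hq k hk hpos e he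
  rcases h q hq k hk with h1 | h1
  · rw [← Bool.not_eq_true, Nat.ble_eq] at h1
    omega
  · exact h1 e he

theorem checkSepN_G2 : checkSepN chevG2 = true := by decide +kernel
theorem checkSepN_B2 : checkSepN chevB2 = true := by decide +kernel
theorem checkSepN_D4 : checkSepN chevD4 = true := by decide +kernel
theorem checkSepN_F4 : checkSepN chevF4 = true := by decide +kernel
theorem checkSepN_E6 : checkSepN chevE6 = true := by decide +kernel
theorem checkSepN_E7 : checkSepN chevE7 = true := by decide +kernel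
theorem checkSepN_E8 : checkSepN chevE8 = true := by decide +kernel

theorem sepN_of_mem {D : ChevalleyDatum}
    (hD : D ∈ [chevG2, chevB2, chevD4, chevF4, chevE6, chevE7, chevE8]) : SepN D :=
  forall_seven (P := SepN) (sepN_of_check checkSepN_G2) (sepN_of_check checkSepN_B2)
    (sepN_of_check checkSepN_D4) (sepN_of_check checkSepN_F4) (sepN_of_check checkSepN_E6)
    (sepN_of_check checkSepN_E7) (sepN_of_check checkSepN_E8) hD

/-- the word `∏_{k ≤ r < n} x_{-r}(t_r)`, in increasing order of the positive roots `r` -/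
def segWn (D : ChevalleyDatum) {F : Type*} (k : ℕ) (t : ℕ → F) : List (ℕ × F) :=
  (List.range' k (D.nroots - k)).map fun r => (D.nroots - 1 - r, t r)

theorem segWn_succ {k : ℕ} (hk : k < D.nroots) (t : ℕ → F) :
    segWn D k t = (D.nroots - 1 - k, t k) :: segWn D (k + 1) t := by
  unfold segWn
  have : D.nroots - k = (D.nroots - (k + 1)) + 1 := by omega
  rw [this, List.range'_succ]
  rfl

theorem segWn_congr {k : ℕ} {t t' : ℕ → F} (h : ∀ r, k ≤ r → r < D.nroots → t r = t' r) :
    segWn D k t = segWn D k t' := by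
  unfold segWn
  apply List.map_congr_left
  intro r hr
  rw [List.mem_range'_1] at hr
  rw [h r hr.1 (by omega)]

theorem segWn_mem {k : ℕ} {t : ℕ → F} {p : ℕ × F} (hp : p ∈ segWn D k t) :
    ∃ q, k ≤ q ∧ q < D.nroots ∧ p.1 = D.nroots - 1 - q := by
  unfold segWn at hp
  rw [List.mem_map] at hp
  obtain ⟨r, hr, rfl⟩ := hp
  rw [List.mem_range'_1] at hr
  exact ⟨r, hr.1, by have := hr.2; omega, rfl⟩

theorem wN_segWn_zero (V : Valid0 D) (k : ℕ) : wN D F (segWn D k (fun _ => (0 : F))) = 1 := by
  unfold segWn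
  induction (List.range' k (D.nroots - k)) with
  | nil => simp
  | cons a l ih => rw [List.map_cons, wN_cons, ih, xN_zero V]; simp

/-- a word in root elements of negative roots below `-k` moves `e_k` by a combination of
negative root vectors -/
theorem word_sepN (V : Valid0 D) (Tr : TriP D) (S : SepN D) {k : ℕ} (hk : D.nroots / 2 ≤ k)
    (hkn : k < D.nroots) (w : List (ℕ × F))
    (hw : ∀ p ∈ w, ∃ q, k + 1 ≤ q ∧ q < D.nroots ∧ p.1 = D.nroots - 1 - q) :
    wN D F w *ᵥ E D F k - E D F k ∈ BelowK D F (D.nroots / 2) := by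
  have heven := V.even
  induction w with
  | nil =>
    intro idx hidx
    simp at hidx
  | cons p w ih =>
    obtain ⟨q, hq1, hq2, hpq⟩ := hw p List.mem_cons_self
    have hpr : p.1 < D.nroots := by omega
    have hpneg : p.1 < D.nroots / 2 := by omega
    have h1 := ih (fun q hq => hw q (List.mem_cons_of_mem _ hq))
    have hx : xN D F p.1 p.2 *ᵥ E D F k = E D F k + chainVec D F p.1 k p.2 :=
      xN_mulVec_E V F hpr p.2 hkn (by omega) (by rw [V.neg_eq p.1 hpr]; omega)
    have e : wN D F (p :: w) *ᵥ E D F k - E D F k =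
        xN D F p.1 p.2 *ᵥ (wN D F w *ᵥ E D F k - E D F k) + chainVec D F p.1 k p.2 := by
      rw [wN_cons, ← Matrix.mulVec_mulVec, Matrix.mulVec_sub, hx]
      abel
    rw [e]
    apply add_mem_BelowK (mulVec_mem_BelowK (xN_mem_UpZ V Tr hpr hpneg p.2) h1)
    intro idx hidx
    obtain ⟨e', he', hu, rfl⟩ := chainVec_ne_zero_imp hidx
    rw [hpq] at he'
    have := S q hq2 k (by omega) hk e' he'
    simp only [ord]
    rw [if_pos this]
    exact this

/-- cancelling the first letter -/
theorem seg_cancelN (V : Valid0 D) (Tr : TriP D) (S : SepN D) (C : CopP D) {k : ℕ}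
    (hk : D.nroots / 2 ≤ k) (hkn : k < D.nroots) (a b : F) (w w' : List (ℕ × F))
    (hw : ∀ p ∈ w, ∃ q, k + 1 ≤ q ∧ q < D.nroots ∧ p.1 = D.nroots - 1 - q)
    (hw' : ∀ p ∈ w', ∃ q, k + 1 ≤ q ∧ q < D.nroots ∧ p.1 = D.nroots - 1 - q)
    (h : xN D F (D.nroots - 1 - k) a * wN D F w = xN D F (D.nroots - 1 - k) b * wN D F w') :
    a = b := by
  have heven := V.even
  have hnk : D.nroots - 1 - k < D.nroots := by omega
  have hnneg : D.nroots - 1 - k < D.nroots / 2 := by omega
  have hnn : D.neg (D.nroots - 1 - k) = k := by rw [V.neg_eq _ hnk]; omega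
  have key : ∀ (c : F) (v : List (ℕ × F)),
      (∀ p ∈ v, ∃ q, k + 1 ≤ q ∧ q < D.nroots ∧ p.1 = D.nroots - 1 - q) →
      ∀ i (hi : i < D.rank), ((xN D F (D.nroots - 1 - k) c * wN D F v) *ᵥ E D F k)
        (Sum.inl ⟨i, hi⟩) = c * ((cor D (D.nroots - 1 - k) i : ℤ) : F) := by
    intro c v hv i hi
    have h1 := word_sepN V Tr S hk hkn v hv
    have h2 := mulVec_mem_BelowK (xN_mem_UpZ V Tr hnk hnneg c) h1
    have h3 : (xN D F (D.nroots - 1 - k) c *ᵥ (wN D F v *ᵥ E D F k - E D F k))
        (Sum.inl ⟨i, hi⟩) = 0 := by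
      by_contra hne
      have := h2 _ hne
      simp only [ord] at this
      omega
    have e : (xN D F (D.nroots - 1 - k) c * wN D F v) *ᵥ E D F k =
        xN D F (D.nroots - 1 - k) c *ᵥ (wN D F v *ᵥ E D F k - E D F k) +
          xN D F (D.nroots - 1 - k) c *ᵥ E D F k := by
      rw [← Matrix.mulVec_mulVec, ← Matrix.mulVec_add]
      congr 1
      abel
    rw [e, Pi.add_apply, h3, zero_add]
    have := xN_mulVec_E_neg V F hnk c
    rw [hnn] at this
    rw [this]
    simp
  have hab : ∀ i < D.rank, (a - b) * ((cor D (D.nroots - 1 - k) i : ℤ) : F) = 0 := by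
    intro i hi
    have h1 := key a w hw i hi
    have h2 := key b w' hw' i hi
    rw [h] at h1
    rw [sub_mul, ← h1, ← h2, sub_self]
  exact sub_eq_zero.mp (eq_zero_of_cop C hnk hab)

theorem seg_uniqueN (V : Valid0 D) (V1 : Valid1 D) (Tr : TriP D) (S : SepN D) (C : CopP D) :
    ∀ d k, D.nroots / 2 ≤ k → k + d = D.nroots → ∀ t t' : ℕ → F,
      wN D F (segWn D k t) = wN D F (segWn D k t') → ∀ r, k ≤ r → r < D.nroots → t r = t' r := by
  intro d
  induction d with
  | zero => intro k _ hkd t t' _ r h1 h2; omega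
  | succ d ih =>
    intro k hk hkd t t' h r h1 h2
    have hkn : k < D.nroots := by omega
    have hnk : D.nroots - 1 - k < D.nroots := by omega
    rw [segWn_succ hkn, segWn_succ hkn, wN_cons, wN_cons] at h
    simp only at h
    have hmem : ∀ (t : ℕ → F), ∀ p ∈ segWn D (k + 1) t,
        ∃ q, k + 1 ≤ q ∧ q < D.nroots ∧ p.1 = D.nroots - 1 - q := fun t p hp => segWn_mem hp
    have hab := seg_cancelN V Tr S C hk hkn (t k) (t' k) _ _ (hmem t) (hmem t') h
    by_cases hrk : r = k
    · rw [hrk]; exact hab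
    · have h' : wN D F (segWn D (k + 1) t) = wN D F (segWn D (k + 1) t') := by
        rw [hab] at h
        have := congrArg (fun M => xN D F (D.nroots - 1 - k) (-(t' k)) * M) h
        simp only [← Matrix.mul_assoc, xN_neg_mul V V1 hnk, Matrix.one_mul] at this
        exact this
      exact ih (k + 1) (by omega) (by omega) t t' h' r (by omega) h2

end Unique

end Cfsg.Agent.Lib.Helper8.Chev
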