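import Cfsg.Agent.Lib.Helper8.ChevFld2
import Cfsg.Agent.Lib.Helper8.ChevBN5

set_option autoImplicit false

/-! An element of a Chevalley group commuting with one non-trivial element of every root
subgroup is trivial. -/

namespace Cfsg.Agent.Lib.Helper8.Chev

open Cfsg.Lie Matrix

section

variable {D : ChevalleyDatum} {F : Type*} [Field F]

/-- an element of the group commuting, for every positive root `r`, with some `x_r(c)`, `c ≠ 0`,
lies in `B` -/
theorem mem_borel_of_commute (hD : D ∈ [chevG2, chevB2, chevD4, chevF4, chevE6, chevE7, chevE8])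
    {g : GL D.Idx F} (hg : g ∈ D.group F)
    (hc : ∀ r, D.nroots / 2 ≤ r → r < D.nroots → ∃ c : F, c ≠ 0 ∧ ∃ y : GL D.Idx F,
      (y : Matrix D.Idx D.Idx F) = D.x F r c ∧ y * g = g * y) :
    g ∈ D.borelSubgroup F := by
  have V := valid0_of_mem hD
  have P := posP_of_mem hD
  have C := copP_of_mem hD
  obtain ⟨⟨w, b, u⟩, hx⟩ := bruhatMap_surjective (F := F) hD ⟨g, hg⟩
  have hge : (b : GL D.Idx F) * nP D F (lw hD w) * (u : GL D.Idx F) = g :=
    congrArg Subtype.val hx
  by_cases hpos : ∀ s, D.nroots / 2 ≤ s → s < D.nroots → D.nroots / 2 ≤ reflWord D (lw hD w) s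
  · have hn := nP_mem_diagonal_of_pos (F := F) hD _ (lw hD w) le_rfl (lw_lt hD w) hpos
    have hu : (u : GL D.Idx F) = 1 := by
      have hbot : UnegW D F (lw hD w) = ⊥ := by
        unfold UnegW
        rw [Subgroup.closure_eq_bot_iff]
        rintro x ⟨r, t, h1, h2, h3, _⟩
        have := hpos r h1 h2
        omega
      have h : (u : GL D.Idx F) ∈ UnegW D F (lw hD w) := u.2
      have h' : (u : GL D.Idx F) ∈ (⊥ : Subgroup (GL D.Idx F)) := hbot ▸ h
      exact Subgroup.mem_bot.mp h'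
    rw [← hge, hu, mul_one]
    exact mul_mem b.2 (diagonal_le_borel hn)
  · exfalso
    push Not at hpos
    obtain ⟨r, h1, h2, h3⟩ := hpos
    obtain ⟨c, hc0, y, hy, hcomm⟩ := hc r h1 h2
    have hyU : y ∈ UnegW D F (lw hD w) := Subgroup.subset_closure ⟨r, c, h1, h2, h3, hy⟩
    have hyB : y ∈ D.borelSubgroup F :=
      pos_le_borel (Subgroup.subset_closure ⟨r, c, (P r h2).1.mpr h1, hy⟩)
    have hx' : bruhatMap hD F ⟨w, ⟨y * b, mul_mem hyB b.2⟩,
        ⟨u * y⁻¹, mul_mem u.2 (inv_mem hyU)⟩⟩ = bruhatMap hD F ⟨w, b, u⟩ := by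
      apply Subtype.ext
      show y * (b : GL D.Idx F) * nP D F (lw hD w) * ((u : GL D.Idx F) * y⁻¹) =
        (b : GL D.Idx F) * nP D F (lw hD w) * (u : GL D.Idx F)
      have e : y * (b : GL D.Idx F) * nP D F (lw hD w) * ((u : GL D.Idx F) * y⁻¹) =
          y * ((b : GL D.Idx F) * nP D F (lw hD w) * (u : GL D.Idx F)) * y⁻¹ := by group
      rw [e, hge, hcomm, mul_inv_cancel_right]
    have hinj := bruhatMap_injective (F := F) hD hx'
    rw [Sigma.mk.inj_iff] at hinj
    have hpair := eq_of_heq hinj.2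
    rw [Prod.mk.injEq] at hpair
    have hu : (u : GL D.Idx F) * y⁻¹ = u := congrArg Subtype.val hpair.2
    have hy1 : y = 1 := by
      have := mul_left_cancel (a := (u : GL D.Idx F)) (b := y⁻¹) (c := 1) (by rw [hu, mul_one])
      exact inv_eq_one.mp this
    rw [hy1, Units.val_one, x_eq_xN] at hy
    exact hc0 (xN_eq_one V C h2 hy.symm)

/-- an element of the group commuting with `x_r(1)` for every root `r` is trivial -/
theorem eq_one_of_commute (hD : D ∈ [chevG2, chevB2, chevD4, chevF4, chevE6, chevE7, chevE8])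
    {g : GL D.Idx F} (hg : g ∈ D.group F)
    (hc : ∀ r < D.nroots, ∀ y : GL D.Idx F, (y : Matrix D.Idx D.Idx F) = D.x F r 1 →
      y * g = g * y) : g = 1 := by
  have V := valid0_of_mem hD
  have V1 := valid1_of_mem hD
  have J := validJ_of_mem hD
  have H := validH_of_mem hD
  have P := posP_of_mem hD
  have Tr := triP_of_mem hD
  have C := copP_of_mem hD
  have hgB : g ∈ D.borelSubgroup F := by
    apply mem_borel_of_commute hD hg
    intro r _ h2
    obtain ⟨y, hy⟩ := exists_unit_x V V1 h2 (1 : F)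
    exact ⟨1, one_ne_zero, y, hy, hc r h2 y hy⟩
  obtain ⟨n', hn', σ, τ, hσ, hτ, h1, h2⟩ := exists_w0 (F := F) hD
  have hnG := monomial_le_group V V1 hn'
  -- the conjugate `n'⁻¹ g n'` also lies in `B`
  have hg'B : n'⁻¹ * g * n' ∈ D.borelSubgroup F := by
    apply mem_borel_of_commute hD (mul_mem (mul_mem (inv_mem hnG) hg) hnG)
    intro r _ hr2
    obtain ⟨hlt, ε, e⟩ := hσ r hr2
    obtain ⟨y, hy⟩ := exists_unit_x V V1 hr2 ((ε⁻¹ : Fˣ) : F)
    refine ⟨((ε⁻¹ : Fˣ) : F), Units.ne_zero _, y, hy, ?_⟩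
    have hm : ((n' * y * n'⁻¹ : GL D.Idx F) : Matrix D.Idx D.Idx F) = D.x F (σ r) 1 := by
      rw [Units.val_mul, Units.val_mul, hy, x_eq_xN, e, Matrix.mul_assoc, ← Units.val_mul,
        mul_inv_cancel, Units.val_one, ← Units.val_mul, mul_inv_cancel, Units.val_one,
        Matrix.mul_one, x_eq_xN]
    have hcm := hc (σ r) hlt _ hm
    calc y * (n'⁻¹ * g * n') = n'⁻¹ * ((n' * y * n'⁻¹) * g) * n' := by group
      _ = n'⁻¹ * (g * (n' * y * n'⁻¹)) * n' := by rw [hcm]
      _ = n'⁻¹ * g * n' * y := by group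
  -- hence `g ∈ H`
  have hle : (D.posUnipotent F).map (MulAut.conj n').toMonoidHom ≤ D.negUnipotent F := by
    unfold ChevalleyDatum.posUnipotent
    rw [MonoidHom.map_closure, Subgroup.closure_le]
    rintro _ ⟨a, ⟨r, t, hr, ha⟩, rfl⟩
    obtain ⟨ε, he⟩ := rootPerm_conj hσ hr.1 t a ha
    have hpos := (P r hr.1).1.mp hr
    have hlt := (hσ r hr.1).1
    have hneg := (P _ hlt).2.mpr (h1 r hpos hr.1)
    exact Subgroup.subset_closure ⟨σ r, ε * t, hneg, he⟩
  have hgH : g ∈ D.diagonalSubgroup F := by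
    obtain ⟨u, hu, h, hh, e⟩ := borel_decomp J V1 H hg'B
    have hxe : g = (n' * u * n'⁻¹) * (n' * h * n'⁻¹) := by
      have : g = n' * (n'⁻¹ * g * n') * n'⁻¹ := by group
      rw [this, e]
      group
    have hv : n' * u * n'⁻¹ ∈ D.negUnipotent F := hle ⟨u, hu, rfl⟩
    have hh' : n' * h * n'⁻¹ ∈ D.diagonalSubgroup F :=
      (Subgroup.mem_normalizer_iff.mp (monomial_le_normalizer hD hn') h).mp hh
    have hmem : g ∈ D.borelSubgroup F ⊓ (D.negUnipotent F ⊔ D.diagonalSubgroup F) := by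
      refine ⟨hgB, ?_⟩
      rw [hxe]
      exact mul_mem (Subgroup.mem_sup_left hv) (Subgroup.mem_sup_right hh')
    rwa [borel_inf_neg_sup_diagonal J V1 H Tr P] at hmem
  obtain ⟨f, hf, hm⟩ := torusLike_of_mem J V1 H hgH
  have hf1 : ∀ s < D.nroots, ((f s : Fˣ) : F) = 1 := by
    intro s hs
    obtain ⟨a, ha⟩ := exists_unit_x V V1 hs (1 : F)
    have hcm := hc s hs a ha
    have h1' := diagC_mul_xN V hf hs (1 : F)
    have e1 : (g : Matrix D.Idx D.Idx F) * xN D F s 1 = xN D F s 1 * (g : Matrix D.Idx D.Idx F) := by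
      rw [← x_eq_xN, ← ha, ← Units.val_mul, ← Units.val_mul, hcm]
    rw [hm] at e1
    rw [e1, mul_one] at h1'
    have hinv : IsUnit (diagC D (fun s => ((f s : Fˣ) : F))) := by
      rw [← hm]; exact ⟨g, rfl⟩
    have e2 : xN D F s 1 = xN D F s ((f s : Fˣ) : F) := by
      obtain ⟨v, hv⟩ := hinv
      have := congrArg (fun M => M * ((v⁻¹ : (Matrix D.Idx D.Idx F)ˣ) : Matrix D.Idx D.Idx F)) h1'
      rw [← hv, Matrix.mul_assoc, Matrix.mul_assoc, ← Units.val_mul, mul_inv_cancel, Units.val_one,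
        Matrix.mul_one, Matrix.mul_one] at this
      exact this
    have e3 : xN D F s (((f s : Fˣ) : F) - 1) = 1 := by
      have := xN_mul_xN F V V1 hs ((f s : Fˣ) : F) (-1)
      rw [← e2] at this
      rw [sub_eq_add_neg, ← this, xN_mul_xN F V V1 hs, add_neg_cancel, xN_zero V]
    exact sub_eq_zero.mp (xN_eq_one V C hs e3)
  apply Units.ext
  rw [hm, Units.val_one, ← diagC_one]
  exact diagC_congr hf1

end

end Cfsg.Agent.Lib.Helper8.Chev
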