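import Cfsg.Agent.Lib.Helper8.ChevSub1

set_option autoImplicit false

/-! The fixed points of a field endomorphism on a Chevalley group: centralizer and normalizer of
the subgroups between the group generated by the fixed root elements and the group of all
fixed points. -/

namespace Cfsg.Agent.Lib.Helper8.Chev

open Cfsg.Lie Matrix

section

variable {D : ChevalleyDatum} {F : Type*} [Field F]

/-- the subgroup generated by the root elements with `σ`-fixed parameter -/
def Lfix (D : ChevalleyDatum) {F : Type*} [Field F] (σ : F →+* F) : Subgroup (GL D.Idx F) :=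
  Subgroup.closure {g | ∃ s < D.nroots, ∃ t : F, σ t = t ∧ (g : Matrix D.Idx D.Idx F) = D.x F s t}

theorem word_mem_Lfix (V : Valid0 D) (V1 : Valid1 D) (σ : F →+* F)
    (w : List (ℕ × F)) (hw : ∀ p ∈ w, p.1 < D.nroots ∧ σ p.2 = p.2) :
    ∃ g ∈ Lfix D σ, (g : Matrix D.Idx D.Idx F) = wN D F w := by
  induction w with
  | nil => exact ⟨1, one_mem _, rfl⟩
  | cons p w ih =>
    obtain ⟨g', hg', hm'⟩ := ih (fun q hq => hw q (List.mem_cons_of_mem _ hq))
    have hp := hw p List.mem_cons_self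
    obtain ⟨gx, hgx⟩ := exists_unit_x V V1 hp.1 p.2
    refine ⟨gx * g', mul_mem (Subgroup.subset_closure ⟨p.1, hp.1, p.2, hp.2, hgx⟩) hg', ?_⟩
    rw [Units.val_mul, hgx, hm', wN_cons, x_eq_xN]

theorem Lfix_le_group (σ : F →+* F) : Lfix D σ ≤ D.group F := by
  unfold Lfix
  rw [Subgroup.closure_le]
  rintro g ⟨s, hs, t, _, hg⟩
  exact x_mem_group hs t g hg

theorem Lfix_fixed (σ : F →+* F) {g : GL D.Idx F} (hg : g ∈ Lfix D σ) : bc D σ g = g := by
  have hle : Lfix D σ ≤ (MonoidHom.eqLocus (bc D σ) (MonoidHom.id _)) := by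
    unfold Lfix
    rw [Subgroup.closure_le]
    rintro g ⟨s, hs, t, ht, hg⟩
    show bc D σ g = g
    apply Units.ext
    rw [bc_x σ hg, ht, hg]
  exact hle hg

/-- fixed elements of `U` lie in `Lfix` -/
theorem pos_fixed_mem (hD : D ∈ [chevG2, chevB2, chevD4, chevF4, chevE6, chevE7, chevE8])
    (σ : F →+* F) {u : GL D.Idx F} (hu : u ∈ D.posUnipotent F) (hfix : bc D σ u = u) :
    u ∈ Lfix D σ := by
  have V := valid0_of_mem hD
  have V1 := valid1_of_mem hD
  obtain ⟨hex, -⟩ := posUnipotent_unique_word (F := F) hD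
  obtain ⟨t, ⟨ht0, ht⟩, huniq⟩ := hex u hu
  have hσt : (fun r => σ (t r)) = t := by
    apply huniq
    refine ⟨fun r hr => by rw [ht0 r hr, map_zero], ?_⟩
    have := bc_wordMat σ ht
    rw [hfix] at this
    rw [this]
    congr 1
    simp [mapW, List.map_map]
  obtain ⟨g, hg, hm⟩ := word_mem_Lfix V V1 σ (D.posRoots.map fun r => (r, t r)) (by
    intro p hp
    rw [List.mem_map] at hp
    obtain ⟨r, hr, rfl⟩ := hp
    refine ⟨?_, congrFun hσt r⟩
    unfold ChevalleyDatum.posRoots at hr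
    rw [List.mem_filter, List.mem_range] at hr
    exact hr.1)
  have : u = g := by
    apply Units.ext
    rw [ht, hm, wordMat_eq_wN]
  rw [this]
  exact hg

theorem nG_mem_Lfix (J : ValidJ D) (V1 : Valid1 D) (σ : F →+* F) {i : ℕ} (hi : i < D.rank) :
    nG D F i ∈ Lfix D σ := by
  have hp := (J.S i hi).1
  obtain ⟨g, hg, hm⟩ := word_mem_Lfix J.V V1 σ (D.nWord (D.simple i) (1 : F)) (by
    intro p hp'
    refine ⟨nWord_lt J.V hp 1 p hp', ?_⟩
    simp only [ChevalleyDatum.nWord, List.mem_cons, List.not_mem_nil, or_false] at hp'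
    rcases hp' with rfl | rfl | rfl
    · exact map_one σ
    · simp
    · exact map_one σ)
  have : nG D F i = g := by
    apply Units.ext
    rw [hm]
    unfold nG
    rw [coe_wG J.V V1 _ (nWord_lt J.V hp 1)]
  rw [this]
  exact hg

theorem nP_mem_Lfix (J : ValidJ D) (V1 : Valid1 D) (σ : F →+* F) {l : List ℕ}
    (hl : ∀ i ∈ l, i < D.rank) : nP D F l ∈ Lfix D σ := by
  induction l with
  | nil => rw [nP_nil]; exact one_mem _
  | cons i l ih =>
    rw [nP_cons]
    exact mul_mem (nG_mem_Lfix J V1 σ (hl i List.mem_cons_self))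
      (ih (fun j hj => hl j (List.mem_cons_of_mem _ hj)))

theorem diag_fixed_conj (J : ValidJ D) (V1 : Valid1 D) (H : ValidH D) (σ : F →+* F)
    {h : GL D.Idx F} (hh : h ∈ D.diagonalSubgroup F) (hfix : bc D σ h = h)
    {g : GL D.Idx F} {s : ℕ} (hs : s < D.nroots) {t : F} (ht : σ t = t)
    (hg : (g : Matrix D.Idx D.Idx F) = D.x F s t) : h * g * h⁻¹ ∈ Lfix D σ := by
  have V := J.V
  obtain ⟨f, hf, hm⟩ := torusLike_of_mem J V1 H hh
  have hσf : σ ((f s : Fˣ) : F) = ((f s : Fˣ) : F) := by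
    have h1 := congrArg (fun x : GL D.Idx F => (x : Matrix D.Idx D.Idx F) (Sum.inr ⟨s, hs⟩)
      (Sum.inr ⟨s, hs⟩)) hfix
    simp only [coe_bc, Matrix.map_apply, hm, diagC, Matrix.diagonal_apply_eq, Sum.elim_inr] at h1
    exact h1
  apply Subgroup.subset_closure
  refine ⟨s, hs, (f s : F) * t, by rw [map_mul, hσf, ht], ?_⟩
  have h1 := diagC_mul_xN V hf hs t
  rw [Units.val_mul, Units.val_mul, hg, x_eq_xN, x_eq_xN, hm, h1, ← hm, Matrix.mul_assoc,
    ← Units.val_mul, mul_inv_cancel, Units.val_one, Matrix.mul_one]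

/-- fixed elements of `H` normalize `Lfix` -/
theorem diag_fixed_normalizer (J : ValidJ D) (V1 : Valid1 D) (H : ValidH D) (σ : F →+* F)
    {h : GL D.Idx F} (hh : h ∈ D.diagonalSubgroup F) (hfix : bc D σ h = h) :
    h ∈ Subgroup.normalizer (Lfix D σ : Set (GL D.Idx F)) := by
  unfold Lfix
  apply mem_normalizer_closure_of
  · rintro g ⟨s, hs, t, ht, hg⟩
    exact diag_fixed_conj J V1 H σ hh hfix hs ht hg
  · rintro g ⟨s, hs, t, ht, hg⟩
    have hfix' : bc D σ h⁻¹ = h⁻¹ := by rw [map_inv, hfix]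
    have := diag_fixed_conj J V1 H σ (inv_mem hh) hfix' hs ht hg
    rwa [inv_inv] at this

/-- the fixed elements of the group have the form `l h` with `l ∈ Lfix` and `h ∈ H` fixed -/
theorem group_fixed_form (hD : D ∈ [chevG2, chevB2, chevD4, chevF4, chevE6, chevE7, chevE8])
    (σ : F →+* F) {g : GL D.Idx F} (hg : g ∈ D.group F) (hfix : bc D σ g = g) :
    ∃ l ∈ Lfix D σ, ∃ h ∈ D.diagonalSubgroup F, bc D σ h = h ∧ g = l * h := by
  have V := valid0_of_mem hD
  have V1 := valid1_of_mem hD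
  have J := validJ_of_mem hD
  have H := validH_of_mem hD
  have P := posP_of_mem hD
  have Tr := triP_of_mem hD
  obtain ⟨⟨w, b, u⟩, hx⟩ := bruhatMap_surjective (F := F) hD ⟨g, hg⟩
  have hge : (b : GL D.Idx F) * nP D F (lw hD w) * (u : GL D.Idx F) = g :=
    congrArg Subtype.val hx
  have hl := lw_lt hD w
  have hb' := bc_mem_borel σ b.2
  have hu' := bc_mem_unegW σ (lw hD w) u.2
  have hx' : bruhatMap hD F ⟨w, ⟨bc D σ b, hb'⟩, ⟨bc D σ u, hu'⟩⟩ = bruhatMap hD F ⟨w, b, u⟩ := by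
    apply Subtype.ext
    show bc D σ b * nP D F (lw hD w) * bc D σ u = (b : GL D.Idx F) * nP D F (lw hD w) * u
    have e1 : bc D σ b * nP D F (lw hD w) * bc D σ u =
        bc D σ ((b : GL D.Idx F) * nP D F (lw hD w) * u) := by
      rw [map_mul, map_mul, bc_nP J V1 σ hl]
    rw [e1, hge, hfix]
  have hinj := bruhatMap_injective (F := F) hD hx'
  rw [Sigma.mk.inj_iff] at hinj
  have hpair := eq_of_heq hinj.2
  rw [Prod.mk.injEq] at hpair
  have hbfix : bc D σ b = b := congrArg Subtype.val hpair.1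
  have hufix : bc D σ u = u := congrArg Subtype.val hpair.2
  obtain ⟨u₁, hu₁, h, hh, hb⟩ := borel_decomp J V1 H b.2
  have hsplit : bc D σ u₁ * bc D σ h = u₁ * h := by
    rw [← map_mul, ← hb, hbfix]
  have hm : u₁⁻¹ * bc D σ u₁ ∈ D.posUnipotent F ⊓ D.diagonalSubgroup F := by
    refine Subgroup.mem_inf.mpr ⟨mul_mem (inv_mem hu₁) (bc_mem_pos σ hu₁), ?_⟩
    have : u₁⁻¹ * bc D σ u₁ = h * (bc D σ h)⁻¹ := by
      rw [inv_mul_eq_iff_eq_mul, ← mul_assoc, ← hsplit, mul_inv_cancel_right]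
    rw [this]
    exact mul_mem hh (inv_mem (bc_mem_diagonal σ hh))
  rw [pos_inf_diagonal J V1 H Tr P, Subgroup.mem_bot, inv_mul_eq_one] at hm
  have hu₁fix : bc D σ u₁ = u₁ := hm.symm
  have hhfix : bc D σ h = h := by
    rw [hu₁fix] at hsplit
    exact mul_left_cancel hsplit
  have m1 := pos_fixed_mem hD σ hu₁ hu₁fix
  have m3 := pos_fixed_mem hD σ (unegS_le_pos _ (unegW_le_unegS hD hl u.2)) hufix
  have m2 := nP_mem_Lfix (F := F) J V1 σ hl
  have hnorm := diag_fixed_normalizer J V1 H σ hh hhfix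
  have m4 : h * (nP D F (lw hD w) * u) * h⁻¹ ∈ Lfix D σ :=
    (Subgroup.mem_normalizer_iff.mp hnorm _).mp (mul_mem m2 m3)
  refine ⟨u₁ * (h * (nP D F (lw hD w) * u) * h⁻¹), mul_mem m1 m4, h, hh, hhfix, ?_⟩
  rw [← hge, hb]
  group

/-- the centralizer in the group of a subgroup containing `Lfix` is trivial -/
theorem centralizer_of_Lfix_le (hD : D ∈ [chevG2, chevB2, chevD4, chevF4, chevE6, chevE7, chevE8])
    (σ : F →+* F) {K : Subgroup (GL D.Idx F)} (hLK : Lfix D σ ≤ K) :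
    D.group F ⊓ Subgroup.centralizer (K : Set (GL D.Idx F)) = ⊥ := by
  rw [eq_bot_iff]
  rintro g ⟨hg, hc⟩
  rw [Subgroup.mem_bot]
  apply eq_one_of_commute hD hg
  intro r hr y hy
  have hyK : y ∈ K := hLK (Subgroup.subset_closure ⟨r, hr, 1, map_one σ, hy⟩)
  exact hc y hyK

/-- the normalizer in the group of a subgroup between `Lfix` and the fixed points consists
of the fixed points -/
theorem normalizer_of_between (hD : D ∈ [chevG2, chevB2, chevD4, chevF4, chevE6, chevE7, chevE8])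
    (σ : F →+* F) {K : Subgroup (GL D.Idx F)} (hLK : Lfix D σ ≤ K) (hKG : K ≤ D.group F)
    (hKfix : ∀ g ∈ K, bc D σ g = g) {g : GL D.Idx F} (hg : g ∈ D.group F) :
    g ∈ Subgroup.normalizer (K : Set (GL D.Idx F)) ↔ bc D σ g = g := by
  have V1 := valid1_of_mem hD
  have J := validJ_of_mem hD
  have H := validH_of_mem hD
  constructor
  · intro hn
    have hc : g⁻¹ * bc D σ g ∈ D.group F ⊓ Subgroup.centralizer (K : Set (GL D.Idx F)) := by
      refine Subgroup.mem_inf.mpr ⟨mul_mem (inv_mem hg) (bc_mem_group σ hg), ?_⟩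
      rw [Subgroup.mem_centralizer_iff]
      intro x hx
      have h1 : g * x * g⁻¹ ∈ K := (Subgroup.mem_normalizer_iff.mp hn x).mp hx
      have h2 := hKfix _ h1
      rw [map_mul, map_mul, map_inv, hKfix x hx] at h2
      -- σ(g) x σ(g)⁻¹ = g x g⁻¹
      calc x * (g⁻¹ * bc D σ g) = g⁻¹ * (g * x * g⁻¹) * bc D σ g := by group
        _ = g⁻¹ * (bc D σ g * x * (bc D σ g)⁻¹) * bc D σ g := by rw [h2]
        _ = g⁻¹ * bc D σ g * x := by group
    rw [centralizer_of_Lfix_le hD σ hLK, Subgroup.mem_bot, inv_mul_eq_one] at hc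
    exact hc.symm
  · intro hfix
    -- conjugation by a fixed element maps `K` into `K`
    have key : ∀ a ∈ D.group F, bc D σ a = a → ∀ x ∈ K, a * x * a⁻¹ ∈ K := by
      intro a ha hafix x hx
      obtain ⟨la, hla, ha', hha', hha'fix, ea⟩ := group_fixed_form hD σ ha hafix
      obtain ⟨lx, hlx, hx', hhx', hhx'fix, ex⟩ := group_fixed_form hD σ (hKG hx) (hKfix x hx)
      have hnorm := diag_fixed_normalizer J V1 H σ hha' hha'fix
      have m1 : ha' * lx * ha'⁻¹ ∈ Lfix D σ := (Subgroup.mem_normalizer_iff.mp hnorm _).mp hlx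
      have hcomm : hx' * ha'⁻¹ = ha'⁻¹ * hx' :=
        diagonal_comm J V1 H hx' hhx' ha'⁻¹ (inv_mem hha')
      have e : a * x * a⁻¹ = la * ((ha' * lx * ha'⁻¹) * lx⁻¹ * x) * la⁻¹ := by
        have e1 : ha' * x * ha'⁻¹ = (ha' * lx * ha'⁻¹) * lx⁻¹ * x := by
          rw [ex]
          calc ha' * (lx * hx') * ha'⁻¹ = ha' * lx * (hx' * ha'⁻¹) := by group
            _ = ha' * lx * (ha'⁻¹ * hx') := by rw [hcomm]
            _ = ha' * lx * ha'⁻¹ * lx⁻¹ * (lx * hx') := by group
        rw [← e1, ea]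
        group
      rw [e]
      exact mul_mem (mul_mem (hLK hla) (mul_mem (mul_mem (hLK m1) (inv_mem (hLK hlx))) hx))
        (inv_mem (hLK hla))
    rw [Subgroup.mem_normalizer_iff]
    intro x
    constructor
    · exact key g hg hfix x
    · intro hx
      have hfix' : bc D σ g⁻¹ = g⁻¹ := by rw [map_inv, hfix]
      have := key g⁻¹ (inv_mem hg) hfix' _ hx
      have e : g⁻¹ * (g * x * g⁻¹) * g⁻¹⁻¹ = x := by group
      rwa [e] at this

end

end Cfsg.Agent.Lib.Helper8.Chev
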