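import Cfsg.Agent.Lib.Helper8.ChevTw39
import Cfsg.Agent.Lib.Helper8.ChevAu1

set_option autoImplicit false

/-! Automorphisms of twisted groups: preserved subgroups, and the normalizer of `U¹`. -/

namespace Cfsg.Agent.Lib.Helper8.Chev

open Cfsg.Lie Matrix

section

variable {D : ChevalleyDatum} {F : Type*} [Field F] {G1 : Subgroup (GL D.Idx F)}

/-- an automorphism of a subgroup `G¹` of `GL` preserves the intersection with a subgroup of
`GL` -/
def PresT (θ : ↥G1 ≃* ↥G1) (S : Subgroup (GL D.Idx F)) : Prop :=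
  ∀ g : ↥G1, (g : GL D.Idx F) ∈ S → ((θ g : ↥G1) : GL D.Idx F) ∈ S

theorem PresT.inv [Finite ↥G1] {θ : MulAut ↥G1} {S : Subgroup (GL D.Idx F)}
    (h : PresT θ S) : PresT (θ⁻¹ : MulAut ↥G1) S := by
  intro g hg
  have := Cfsg.Agent.H26.Ro.aut_inv_preserve θ (S.subgroupOf G1)
    (fun x hx => Subgroup.mem_subgroupOf.mpr (h x (Subgroup.mem_subgroupOf.mp hx))) g
    (Subgroup.mem_subgroupOf.mpr hg)
  exact Subgroup.mem_subgroupOf.mp this

theorem PresT.mul {θ θ' : MulAut ↥G1} {S : Subgroup (GL D.Idx F)}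
    (h : PresT θ S) (h' : PresT θ' S) : PresT (θ * θ' : MulAut ↥G1) S := by
  intro g hg
  rw [MulAut.mul_apply]
  exact h _ (h' g hg)

theorem presT_conj {S : Subgroup (GL D.Idx F)} (x : ↥G1) (hx : (x : GL D.Idx F) ∈ S) :
    PresT (MulAut.conj x : MulAut ↥G1) S := by
  intro g hg
  rw [MulAut.conj_apply]
  exact mul_mem (mul_mem hx hg) (inv_mem hx)

theorem PresT.mem_of_map [Finite ↥G1] {θ : MulAut ↥G1} {S : Subgroup (GL D.Idx F)}
    (h : PresT θ S) {g : ↥G1} (hg : ((θ g : ↥G1) : GL D.Idx F) ∈ S) :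
    (g : GL D.Idx F) ∈ S := by
  have := h.inv (θ g) hg
  rwa [MulAut.inv_apply_self] at this

theorem PresT.inf {θ : MulAut ↥G1} {S S' : Subgroup (GL D.Idx F)}
    (h : PresT θ S) (h' : PresT θ S') : PresT θ (S ⊓ S') :=
  fun g hg => Subgroup.mem_inf.mpr ⟨h g (Subgroup.mem_inf.mp hg).1, h' g (Subgroup.mem_inf.mp hg).2⟩

end

namespace TwGrp

variable {D : ChevalleyDatum} {F : Type*} [Field F] {ρ ρ' π π' : ℕ → ℕ} {ε : ℕ → ℤ}
  {T : TwOk D ρ ρ' π π' ε} {φ : F →+* F} {cls : List (List ℕ)} {G1 : Subgroup (GL D.Idx F)}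

/-- classes are not empty -/
theorem cls_ne_nil (X : TwGrp T φ cls G1) {J : List ℕ} (hJ : J ∈ cls) : J ≠ [] := by
  obtain ⟨j₀, J', e, -⟩ := (X.cd.ok J hJ).rot
  rw [e]
  exact List.cons_ne_nil _ _

/-- the class element with parameter `1` is not trivial -/
theorem cls_one_ne (X : TwGrp T φ cls G1) {J : List ℕ} (hJ : J ∈ cls) :
    wG D F (clsWS D.simple φ J 1) ≠ 1 := by
  have hD := X.hD
  have V := valid0_of_mem hD
  have V1 := valid1_of_mem hD
  have VJ := validJ_of_mem hD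
  intro h
  have hO := (X.cd.ok J hJ).orthL
  have e1 := coe_wG (F := F) V V1 _ (clsWS_lt V VJ (sgnF_simple D) φ hO.lt (1 : F))
  rw [h, Units.val_one] at e1
  have e2 : wN D F (clsWS D.simple φ J (1 : F)) = wN D F (clsWS D.simple φ J (0 : F)) := by
    rw [← e1, wN_clsWS_zero V]
  exact one_ne_zero (clsWS_inj hD φ hO (X.cls_ne_nil hJ) e2)

/-- a representative of a non-trivial element of the Weyl group conjugates some class element with
parameter `1` into `V` -/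
theorem exists_cls_conj_neg (X : TwGrp T φ cls G1) {Js : List (List ℕ)}
    (hJs : ∀ J ∈ Js, J ∈ cls) (hg : GoodW D Js.flatten) (hne : Js ≠ []) :
    ∃ J ∈ cls, nP D F Js.flatten * wG D F (clsWS D.simple φ J 1) * (nP D F Js.flatten)⁻¹ ∈
      D.negUnipotent F := by
  have hD := X.hD
  have V := valid0_of_mem hD
  have V1 := valid1_of_mem hD
  have VJ := validJ_of_mem hD
  obtain ⟨Js', J, rfl⟩ := (List.eq_nil_or_concat Js).resolve_left hne
  have hJ : J ∈ cls := hJs J (by simp)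
  refine ⟨J, hJ, ?_⟩
  have hO := (X.cd.ok J hJ).orthL
  rw [List.concat_eq_append, List.flatten_append, List.flatten_singleton] at hg ⊢
  obtain ⟨τ, hτ⟩ := clsWS_eq_xwS D.simple φ hO.nodup (1 : F)
  have e1 := coe_wG (F := F) V V1 _ (clsWS_lt V VJ (sgnF_simple D) φ hO.lt (1 : F))
  rw [hτ] at e1
  have h1 := cls_mem_unegW hD hO hg τ _ e1
  rw [← hτ] at h1
  exact conj_unegS_le_neg _ ⟨_, unegW_le_unegS hD hg.lt h1, rfl⟩

/-- an element of the twisted group conjugating `U¹` into `U` lies in `B` -/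
theorem mem_borel_of_conj_pos (X : TwGrp T φ cls G1) {g : GL D.Idx F} (hg : g ∈ G1)
    (hn : ∀ u ∈ D.posUnipotent F ⊓ G1, g * u * g⁻¹ ∈ D.posUnipotent F) :
    g ∈ D.borelSubgroup F := by
  have hD := X.hD
  have V1 := valid1_of_mem hD
  have VJ := validJ_of_mem hD
  have H := validH_of_mem hD
  obtain ⟨Js, hJs, hgood, u₁, hu₁, h₁, hh₁, u, hu, e⟩ := X.bruhat hg
  have hu₁U := (Subgroup.mem_inf.mp hu₁).1
  have hh₁H := (Subgroup.mem_inf.mp hh₁).1
  have huU : u ∈ D.posUnipotent F := unegW_le_pos hD (X.flatten_lt hJs) (Subgroup.mem_inf.mp hu).1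
  have huG := (Subgroup.mem_inf.mp hu).2
  by_cases hne : Js = []
  · subst hne
    rw [List.flatten_nil, nP_nil, mul_one] at e
    rw [e]
    exact mul_mem (mul_mem (pos_le_borel hu₁U) (diagonal_le_borel hh₁H)) (pos_le_borel huU)
  · exfalso
    obtain ⟨J, hJ, hneg⟩ := X.exists_cls_conj_neg hJs hgood hne
    have hx := X.cls_pos_mem hJ (t := (1 : F)) (by
      rw [iterate_ringHom, map_one])
    set x := wG D F (clsWS D.simple φ J (1 : F)) with hxdef
    -- `u x u⁻¹ ∈ U¹`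
    have h1 : u⁻¹ * x * u ∈ D.posUnipotent F ⊓ G1 :=
      Subgroup.mem_inf.mpr ⟨mul_mem (mul_mem (inv_mem huU) (Subgroup.mem_inf.mp hx).1) huU,
        mul_mem (mul_mem (inv_mem huG) (Subgroup.mem_inf.mp hx).2) huG⟩
    have h2 := hn _ h1
    have hb : (u₁ * h₁)⁻¹ ∈ D.borelSubgroup F :=
      inv_mem (mul_mem (pos_le_borel hu₁U) (diagonal_le_borel hh₁H))
    have h3 := (Subgroup.mem_normalizer_iff.mp (borel_le_normalizer_pos VJ V1 H hb) _).mp h2
    have e2 : (u₁ * h₁)⁻¹ * (g * (u⁻¹ * x * u) * g⁻¹) * (u₁ * h₁)⁻¹⁻¹ =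
        nP D F Js.flatten * x * (nP D F Js.flatten)⁻¹ := by
      rw [e]; group
    rw [e2] at h3
    have h4 : nP D F Js.flatten * x * (nP D F Js.flatten)⁻¹ ∈
        D.posUnipotent F ⊓ D.negUnipotent F := Subgroup.mem_inf.mpr ⟨h3, hneg⟩
    rw [pos_inf_neg hD, Subgroup.mem_bot] at h4
    have h5 : x = 1 := by
      have : x = (nP D F Js.flatten)⁻¹ * (nP D F Js.flatten * x * (nP D F Js.flatten)⁻¹) *
          nP D F Js.flatten := by group
      rw [this, h4]; group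
    exact X.cls_one_ne hJ h5

/-- an automorphism preserving `U¹` preserves `B¹` -/
theorem presT_borel [Finite ↥G1] (X : TwGrp T φ cls G1) {θ : MulAut ↥G1}
    (h : PresT θ (D.posUnipotent F)) : PresT θ (D.borelSubgroup F) := by
  have hD := X.hD
  have V1 := valid1_of_mem hD
  have VJ := validJ_of_mem hD
  have H := validH_of_mem hD
  intro b hb
  apply X.mem_borel_of_conj_pos (θ b).2
  intro u hu
  obtain ⟨huU, huG⟩ := Subgroup.mem_inf.mp hu
  have h1 := h.inv ⟨u, huG⟩ huU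
  have hbn := borel_le_normalizer_pos VJ V1 H hb
  have h2 : (b : GL D.Idx F) * ((θ⁻¹ : MulAut ↥G1) ⟨u, huG⟩ : ↥G1) * (b : GL D.Idx F)⁻¹ ∈
      D.posUnipotent F := (Subgroup.mem_normalizer_iff.mp hbn _).mp h1
  have h3 := h (b * (θ⁻¹ : MulAut ↥G1) ⟨u, huG⟩ * b⁻¹) h2
  rw [map_mul, map_mul, map_inv, MulAut.apply_inv_self] at h3
  exact h3

end TwGrp

end Cfsg.Agent.Lib.Helper8.Chev
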