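import Cfsg.Agent.Lib.Helper8.ChevTa9

set_option autoImplicit false

/-! Rank one: an automorphism preserving the two class root subgroups of a class is, on them,
a field automorphism up to a scalar. -/

namespace Cfsg.Agent.Lib.Helper8.Chev

open Cfsg.Lie Matrix Cfsg.Agent.Lib.Helper3 Cfsg.Agent.Lib.Helper7

namespace TwGrp

variable {D : ChevalleyDatum} {F : Type*} [Field F] {ρ ρ' π π' : ℕ → ℕ} {ε : ℕ → ℤ}
  {T : TwOk D ρ ρ' π π' ε} {φ : F →+* F} {cls : List (List ℕ)} {G1 : Subgroup (GL D.Idx F)}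

/-- class elements of negative roots lie in `V` -/
theorem cls_neg_mem (X : TwGrp T φ cls G1) {J : List ℕ} (hJ : J ∈ cls) (t : F) :
    wG D F (clsWS (fun j => D.neg (D.simple j)) φ J t) ∈ D.negUnipotent F := by
  have hD := X.hD
  have V := valid0_of_mem hD
  have VJ := validJ_of_mem hD
  have hw : ∀ p ∈ clsWS (fun j => D.neg (D.simple j)) φ J t, p.1 < D.nroots / 2 := by
    intro p hp
    obtain ⟨j, hj, ej⟩ := clsWS_letters _ φ J _ p hp
    rw [ej]
    have hlt := (X.cd.ok J hJ).lt j hj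
    have hpj := (VJ.S j hlt).1
    have hposj := (refl_pos VJ (checkRP_of_mem hD) hlt).1
    show D.neg (D.simple j) < D.nroots / 2
    rw [V.neg_eq _ hpj]
    have := V.even
    omega
  exact neg_word_mem hD _ hw _ (X.coe_cls hJ (by simp) t)

/-- the data of an automorphism on a class: a scalar and a field automorphism -/
theorem rank_one_cls [Finite F] (X : TwGrp T φ cls G1) {J : List ℕ} (hJ : J ∈ cls)
    {k : Type*} [Field k] (ι : k →+* F) (hι : ∀ s : k, φ^[J.length] (ι s) = ι s)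
    (hι' : ∀ t : F, φ^[J.length] t = t → ∃ s : k, ι s = t) {θ : MulAut ↥G1}
    (hpos : ∀ (t : F) (ht : φ^[J.length] t = t), ∃ (t' : F) (ht' : φ^[J.length] t' = t'),
      θ (X.clsEl hJ (f := D.simple) (by simp) ht) = X.clsEl hJ (f := D.simple) (by simp) ht')
    (hneg : ∀ (t : F) (ht : φ^[J.length] t = t), ∃ (t' : F) (ht' : φ^[J.length] t' = t'),
      θ (X.clsEl hJ (f := fun j => D.neg (D.simple j)) (by simp) ht) =
        X.clsEl hJ (f := fun j => D.neg (D.simple j)) (by simp) ht') :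
    ∃ (Φ : Matrix.SpecialLinearGroup (Fin 2) k →* ↥G1) (c : k) (α : k ≃+* k), c ≠ 0 ∧
      (∀ s : k, Φ (upS s) = X.clsEl hJ (f := D.simple) (by simp) (hι s)) ∧
      (∀ s : k, Φ (loS s) =
        X.clsEl hJ (f := fun j => D.neg (D.simple j)) (by simp) (hι s)) ∧
      (∀ (s : k) (hs : ι s ≠ 0), ((Φ (dgS s) : ↥G1) : GL D.Idx F) =
        torMap D F (tupCls D φ J (Units.mk0 (ι s) hs))) ∧
      (∀ s : k, θ (Φ (upS s)) = Φ (upS (c * α s))) ∧
      (∀ s : k, θ (Φ (loS s)) = Φ (loS (c⁻¹ * α s))) ∧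
      (∀ s : k, s ≠ 0 → θ (Φ (dgS s)) = Φ (dgS (α s))) := by
  have hD := X.hD
  have : Finite k := Finite.of_injective ι ι.injective
  obtain ⟨Φ, p1, p2, p3⟩ := X.exists_phiG hJ ι hι
  have hf : ∀ s : k, ∃ s' : k, θ (Φ (upS s)) = Φ (upS s') := by
    intro s
    obtain ⟨t', ht', e⟩ := hpos (ι s) (hι s)
    obtain ⟨s', rfl⟩ := hι' t' ht'
    exact ⟨s', by rw [p1, p1, e]⟩
  have hg : ∀ s : k, ∃ s' : k, θ (Φ (loS s)) = Φ (loS s') := by
    intro s
    obtain ⟨t', ht', e⟩ := hneg (ι s) (hι s)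
    obtain ⟨s', rfl⟩ := hι' t' ht'
    exact ⟨s', by rw [p2, p2, e]⟩
  choose f hf using hf
  choose g hg using hg
  have hxinj : ∀ t : k, Φ (upS t) = 1 → t = 0 := by
    intro t h
    rw [p1] at h
    have h1 : wG D F (clsWS D.simple φ J (ι t)) = 1 :=
      congrArg (fun z : ↥G1 => (z : GL D.Idx F)) h
    rw [← X.cls_zero hJ (f := D.simple) (by simp)] at h1
    have := X.cls_pos_inj hJ h1
    exact (map_eq_zero ι).mp this
  have hyinj : ∀ t : k, Φ (loS t) = 1 → t = 0 := by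
    intro t h
    rw [p2] at h
    have h1 : wG D F (clsWS (fun j => D.neg (D.simple j)) φ J (ι t)) = 1 :=
      congrArg (fun z : ↥G1 => (z : GL D.Idx F)) h
    have := X.cls_neg_eq_one hJ (hι t) h1
    exact (map_eq_zero ι).mp this
  have hc : f 1 ≠ 0 := by
    intro h0
    have h1 := hf 1
    rw [h0] at h1
    have h2 : Φ (upS (0 : k)) = 1 := by
      rw [p1]
      apply Subtype.ext
      show wG D F (clsWS D.simple φ J (ι 0)) = 1
      rw [map_zero, X.cls_zero hJ (by simp)]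
    rw [h2] at h1
    have h3 : Φ (upS (1 : k)) = 1 := by
      have := θ.injective (h1.trans (map_one θ).symm)
      exact this
    exact one_ne_zero (hxinj 1 h3)
  have hUV : (D.posUnipotent F).comap G1.subtype ⊓ (D.negUnipotent F).comap G1.subtype = ⊥ := by
    rw [eq_bot_iff]
    intro x hx
    obtain ⟨h1, h2⟩ := Subgroup.mem_inf.mp hx
    have h3 : (x : GL D.Idx F) ∈ D.posUnipotent F ⊓ D.negUnipotent F :=
      Subgroup.mem_inf.mpr ⟨h1, h2⟩
    rw [pos_inf_neg hD, Subgroup.mem_bot] at h3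
    rw [Subgroup.mem_bot]
    exact Subtype.ext h3
  obtain ⟨α, hα1, hα2, hα3⟩ := TwRankOne.rank_one_aut' Φ
    ((D.posUnipotent F).comap G1.subtype) ((D.negUnipotent F).comap G1.subtype) hUV
    (fun t => by
      show ((Φ (upS t) : ↥G1) : GL D.Idx F) ∈ D.posUnipotent F
      rw [p1]
      exact (Subgroup.mem_inf.mp (X.cls_pos_mem hJ (hι t))).1)
    (fun t => by
      show ((Φ (loS t) : ↥G1) : GL D.Idx F) ∈ D.negUnipotent F
      rw [p2]
      exact X.cls_neg_mem hJ (ι t))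
    hxinj hyinj θ.toMonoidHom f g (fun t => hf t) (fun t => hg t) hc
  refine ⟨Φ, f 1, α, hc, p1, p2, p3, fun s => ?_, fun s => ?_, fun s hs => ?_⟩
  · rw [hf, hα1]
  · rw [hg, hα2]
  · exact hα3 s hs

end TwGrp

end Cfsg.Agent.Lib.Helper8.Chev
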