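import Cfsg.Agent.Lib.Helper8.ChevTa10

set_option autoImplicit false

/-! The action of the torus elements `h_J(s)` on the class elements of another class, and the
resulting relation between the field automorphisms of two classes. -/

namespace Cfsg.Agent.Lib.Helper8.Chev

open Cfsg.Lie Matrix Cfsg.Agent.Lib.Helper3 Cfsg.Agent.Lib.Helper7

namespace TwGrp

variable {D : ChevalleyDatum} {F : Type*} [Field F] {ρ ρ' π π' : ℕ → ℕ} {ε : ℕ → ℤ}
  {T : TwOk D ρ ρ' π π' ε} {φ : F →+* F} {cls : List (List ℕ)} {G1 : Subgroup (GL D.Idx F)}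

/-- the torus element of a class acts on the class elements of positive roots of another class -/
theorem torus_act_pos (X : TwGrp T φ cls G1) {J : List ℕ} (hJ : J ∈ cls) {j₀ : ℕ} {J' : List ℕ}
    (hJ' : j₀ :: J' ∈ cls) {t : Fˣ} (ht : torMap D F (tupCls D φ J t) ∈ G1) (u : F) :
    torMap D F (tupCls D φ J t) * wG D F (clsWS D.simple φ (j₀ :: J') u) *
        (torMap D F (tupCls D φ J t))⁻¹ =
      wG D F (clsWS D.simple φ (j₀ :: J') (chiCls D φ J (t : F) (D.simple j₀) * u)) := by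
  have hD := X.hD
  have VJ := validJ_of_mem hD
  have hj₀ := (X.cd.ok _ hJ').lt j₀ List.mem_cons_self
  have hfix : sg T.ga φ (torMap D F (tupCls D φ J t)) = torMap D F (tupCls D φ J t) := X.le_fix ht
  obtain ⟨h1, -, -⟩ := X.torus_conj_cls_exp hfix hJ'
  rw [mul_inv_eq_iff_eq_mul]
  apply Units.ext
  rw [Units.val_mul, Units.val_mul, X.coe_cls hJ' (by simp), X.coe_cls hJ' (by simp), h1 u,
    X.chiT_tupCls hJ t (VJ.S j₀ hj₀).1]

/-- the parameter of the action is fixed by the power of `φ` of the class acted on -/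
theorem torus_act_fix (X : TwGrp T φ cls G1) {J : List ℕ} (hJ : J ∈ cls) {j₀ : ℕ} {J' : List ℕ}
    (hJ' : j₀ :: J' ∈ cls) {t : Fˣ} (ht : torMap D F (tupCls D φ J t) ∈ G1) :
    φ^[(j₀ :: J').length] (chiCls D φ J (t : F) (D.simple j₀)) =
      chiCls D φ J (t : F) (D.simple j₀) := by
  have hD := X.hD
  have VJ := validJ_of_mem hD
  have hj₀ := (X.cd.ok _ hJ').lt j₀ List.mem_cons_self
  have hfix : sg T.ga φ (torMap D F (tupCls D φ J t)) = torMap D F (tupCls D φ J t) := X.le_fix ht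
  obtain ⟨-, -, h3⟩ := X.torus_conj_cls_exp hfix hJ'
  rw [X.chiT_tupCls hJ t (VJ.S j₀ hj₀).1] at h3
  exact h3

/-- the relation between the field automorphisms of two classes `J`, `J'` such that `h_J(t)`
acts on `X_{J'}` through `t⁻¹` -/
theorem tie (X : TwGrp T φ cls G1) {J : List ℕ} (hJ : J ∈ cls) {j₀ : ℕ} {J' : List ℕ}
    (hJ' : j₀ :: J' ∈ cls) {k : Type*} [Field k] (ι : k →+* F) {k' : Type*} [Field k']
    (ι' : k' →+* F) (hι' : ∀ s : k', φ^[(j₀ :: J').length] (ι' s) = ι' s)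
    (Φ : Matrix.SpecialLinearGroup (Fin 2) k →* ↥G1) (α : k ≃+* k)
    (Φ' : Matrix.SpecialLinearGroup (Fin 2) k' →* ↥G1) (c' : k') (α' : k' ≃+* k') (hc' : c' ≠ 0)
    (p3 : ∀ (s : k) (hs : ι s ≠ 0), ((Φ (dgS s) : ↥G1) : GL D.Idx F) =
      torMap D F (tupCls D φ J (Units.mk0 (ι s) hs)))
    (p1' : ∀ s : k', Φ' (upS s) = X.clsEl hJ' (f := D.simple) (by simp) (hι' s))
    {θ : MulAut ↥G1} (q3 : ∀ s : k, s ≠ 0 → θ (Φ (dgS s)) = Φ (dgS (α s)))
    (q1' : ∀ s : k', θ (Φ' (upS s)) = Φ' (upS (c' * α' s)))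
    (ha : ∀ t : F, t ≠ 0 → chiCls D φ J t (D.simple j₀) = t⁻¹) :
    ∀ (s : k) (s₁ : k'), ι s = ι' s₁ → ι (α s) = ι' (α' s₁) := by
  intro s s₁ e
  by_cases hs : s = 0
  · subst hs
    rw [map_zero] at e
    have : s₁ = 0 := (map_eq_zero ι').mp e.symm
    subst this
    simp
  have hιs : ι s ≠ 0 := (map_ne_zero ι).mpr hs
  have hαs : α s ≠ 0 := fun h => hs ((map_eq_zero_iff α α.injective).mp h)
  have hιαs : ι (α s) ≠ 0 := (map_ne_zero ι).mpr hαs
  have hs₁ : s₁ ≠ 0 := by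
    rintro rfl
    rw [map_zero] at e
    exact hιs e
  -- the action of `h_J(s)` on `x_{J'}(1)`
  have a1 : Φ (dgS s) * Φ' (upS 1) * (Φ (dgS s))⁻¹ = Φ' (upS s₁⁻¹) := by
    apply Subtype.ext
    rw [p1', p1']
    show ((Φ (dgS s) : ↥G1) : GL D.Idx F) * wG D F (clsWS D.simple φ (j₀ :: J') (ι' 1)) *
      ((Φ (dgS s) : ↥G1) : GL D.Idx F)⁻¹ = wG D F (clsWS D.simple φ (j₀ :: J') (ι' s₁⁻¹))
    have hm : torMap D F (tupCls D φ J (Units.mk0 (ι s) hιs)) ∈ G1 := by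
      rw [← p3 s hιs]; exact (Φ (dgS s)).2
    rw [p3 s hιs, X.torus_act_pos hJ hJ' hm, ha _ (Units.ne_zero _), Units.val_mk0, map_one,
      mul_one, map_inv₀, e]
  have a2 : Φ (dgS (α s)) * Φ' (upS c') * (Φ (dgS (α s)))⁻¹ = Φ' (upS (c' * α' s₁⁻¹)) := by
    have := congrArg θ a1
    rw [map_mul, map_mul, map_inv, q3 s hs, q1', q1', map_one, mul_one] at this
    exact this
  have a3 := congrArg (fun z : ↥G1 => (z : GL D.Idx F)) a2
  simp only [p1'] at a3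
  have hm : torMap D F (tupCls D φ J (Units.mk0 (ι (α s)) hιαs)) ∈ G1 := by
    rw [← p3 (α s) hιαs]; exact (Φ (dgS (α s))).2
  have a4 : ((Φ (dgS (α s)) : ↥G1) : GL D.Idx F) * wG D F (clsWS D.simple φ (j₀ :: J') (ι' c')) *
      ((Φ (dgS (α s)) : ↥G1) : GL D.Idx F)⁻¹ =
      wG D F (clsWS D.simple φ (j₀ :: J') (ι' (c' * α' s₁⁻¹))) := a3
  rw [p3 (α s) hιαs, X.torus_act_pos hJ hJ' hm, ha _ (Units.ne_zero _), Units.val_mk0] at a4
  have a5 := X.cls_pos_inj hJ' a4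
  rw [map_mul, map_inv₀, map_inv₀, mul_comm] at a5
  have hc0 : ι' c' ≠ 0 := (map_ne_zero ι').mpr hc'
  have a6 := mul_left_cancel₀ hc0 a5
  exact inv_injective a6

end TwGrp

end Cfsg.Agent.Lib.Helper8.Chev
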