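import Cfsg.Agent.Lib.Helper8.ChevTa11

set_option autoImplicit false

/-! The standard form of an automorphism preserving `U¹` and `V¹`; the case of `³D₄`. -/

namespace Cfsg.Agent.Lib.Helper8.Chev

open Cfsg.Lie Matrix Cfsg.Agent.Lib.Helper3 Cfsg.Agent.Lib.Helper7

namespace TwGrp

variable {D : ChevalleyDatum} {F : Type*} [Field F] {ρ ρ' π π' : ℕ → ℕ} {ε : ℕ → ℤ}
  {T : TwOk D ρ ρ' π π' ε} {φ : F →+* F} {cls : List (List ℕ)} {G1 : Subgroup (GL D.Idx F)}

/-- the standard form: on the class elements the automorphism is a field automorphism followed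
by a scalar -/
def IsStd (X : TwGrp T φ cls G1) (θ : MulAut ↥G1) (α : F ≃+* F) (d : List ℕ → F) : Prop :=
  ∀ (J : List ℕ) (hJ : J ∈ cls) (t : F) (ht : φ^[J.length] t = t),
    ((θ (X.clsEl hJ (f := D.simple) (by simp) ht) : ↥G1) : GL D.Idx F) =
        wG D F (clsWS D.simple φ J (d J * α t)) ∧
      ((θ (X.clsEl hJ (f := fun j => D.neg (D.simple j)) (by simp) ht) : ↥G1) : GL D.Idx F) =
        wG D F (clsWS (fun j => D.neg (D.simple j)) φ J ((d J)⁻¹ * α t))

/-- an automorphism is determined by its standard form -/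
theorem IsStd.ext {X : TwGrp T φ cls G1}
    (hgen : G1 ≤ Subgroup.closure {g | ∃ J ∈ cls,
      ∃ f ∈ [D.simple, fun j => D.neg (D.simple j)],
      ∃ t : F, φ^[J.length] t = t ∧ g = wG D F (clsWS f φ J t)})
    {θ θ' : MulAut ↥G1} {α : F ≃+* F} {d d' : List ℕ → F} (h : X.IsStd θ α d)
    (h' : X.IsStd θ' α d') (hd : ∀ J ∈ cls, d J = d' J) : θ = θ' := by
  apply MulEquiv.ext
  have key : ∀ g ∈ Subgroup.closure {g | ∃ J ∈ cls,
      ∃ f ∈ [D.simple, fun j => D.neg (D.simple j)],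
      ∃ t : F, φ^[J.length] t = t ∧ g = wG D F (clsWS f φ J t)},
      ∃ hg : g ∈ G1, θ ⟨g, hg⟩ = θ' ⟨g, hg⟩ := by
    intro g hc
    induction hc using Subgroup.closure_induction with
    | mem g hg' =>
      obtain ⟨J, hJ, f, hf, t, ht, rfl⟩ := hg'
      refine ⟨(X.wG_cls_mem hJ hf ht).1, ?_⟩
      have hf' := hf
      simp only [List.mem_cons, List.not_mem_nil, or_false] at hf'
      apply Subtype.ext
      rcases hf' with rfl | rfl
      · exact ((h J hJ t ht).1.trans (by rw [hd J hJ])).trans (h' J hJ t ht).1.symm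
      · exact ((h J hJ t ht).2.trans (by rw [hd J hJ])).trans (h' J hJ t ht).2.symm
    | one => exact ⟨one_mem _, (map_one θ).trans (map_one θ').symm⟩
    | mul a b _ _ iha ihb =>
      obtain ⟨ha, ea⟩ := iha
      obtain ⟨hb, eb⟩ := ihb
      refine ⟨mul_mem ha hb, ?_⟩
      have e : (⟨a * b, mul_mem ha hb⟩ : ↥G1) = ⟨a, ha⟩ * ⟨b, hb⟩ := rfl
      rw [e, map_mul, map_mul, ea, eb]
    | inv a _ iha =>
      obtain ⟨ha, ea⟩ := iha
      refine ⟨inv_mem ha, ?_⟩
      have e : (⟨a⁻¹, inv_mem ha⟩ : ↥G1) = (⟨a, ha⟩ : ↥G1)⁻¹ := rfl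
      rw [e, map_inv, map_inv, ea]
  rintro ⟨g, hg⟩
  obtain ⟨_, e⟩ := key g (hgen hg)
  exact e

end TwGrp

end Cfsg.Agent.Lib.Helper8.Chev
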