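import Cfsg.Agent.Lib.Helper8.ChevTa12

set_option autoImplicit false

/-! `³D₄`: the standard form of an automorphism preserving `U¹` and `V¹`. -/

namespace Cfsg.Agent.Lib.Helper8.Chev

open Cfsg.Lie Matrix Cfsg.Agent.Lib.Helper3 Cfsg.Agent.Lib.Helper7

namespace TwGrp

variable {F : Type*} [Field F] {φ : F →+* F} {G1 : Subgroup (GL chevD4.Idx F)}

theorem aco_D4_10 : aco chevD4 (chevD4.simple 1) (chevD4.simple 0) = -1 := by decide +kernel

/-- `³D₄`: every automorphism preserving `U¹` and `V¹` has a standard form -/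
theorem exists_std_D4 [Finite F] [Finite ↥G1] (X : TwGrp twOk_D4a φ clsD4 G1)
    {PP : Cfsg.BNPair ↥G1} (hP : X.IsBN PP) (h3 : ∀ t : F, φ (φ (φ t)) = t)
    (hlt : Nat.card {t : F // φ^[1] t = t} < Nat.card {t : F // φ^[3] t = t})
    {θ : MulAut ↥G1} (hU : PresT θ (chevD4.posUnipotent F)) (hV : PresT θ (chevD4.negUnipotent F)) :
    ∃ (α : F ≃+* F) (d : List ℕ → F),
      (∀ J ∈ clsD4, d J ≠ 0 ∧ φ^[J.length] (d J) = d J) ∧ X.IsStd θ α d := by
  have hb : ([0, 2, 3] : List ℕ) ∈ clsD4 := by decide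
  have ha : ([1] : List ℕ) ∈ clsD4 := by decide
  -- the big class
  obtain ⟨Φb, cb, αb, hcb, p1b, p2b, p3b, q1b, q2b, q3b⟩ :=
    X.rank_one_cls hb (RingHom.id F) (fun s => h3 s) (fun t _ => ⟨t, rfl⟩)
      (fun t ht => X.posFix_D4 hP hlt θ hU hV _ hb t ht)
      (fun t ht => X.negFix_D4 hP hlt θ hU hV _ hb t ht)
  -- the small class
  let F₀ : Subfield F := RingHom.eqLocusField φ (RingHom.id F)
  obtain ⟨Φa, ca, αa, hca, p1a, p2a, p3a, q1a, q2a, q3a⟩ :=
    X.rank_one_cls ha F₀.subtype (fun s => s.2) (fun t ht => ⟨⟨t, ht⟩, rfl⟩)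
      (fun t ht => X.posFix_D4 hP hlt θ hU hV _ ha t ht)
      (fun t ht => X.negFix_D4 hP hlt θ hU hV _ ha t ht)
  have htie := X.tie ha hb F₀.subtype (RingHom.id F) (fun s => h3 s) Φa αa Φb cb αb hcb p3a p1b q3a
    q1b (by
      intro t ht
      simp only [chiCls, aco_D4_10, mul_one]
      exact zpow_neg_one t)
  obtain ⟨d, d1, d2⟩ : ∃ d : List ℕ → F, d [1] = (ca : F) ∧ d [0, 2, 3] = cb :=
    ⟨fun J => if J = [1] then (ca : F) else cb, if_pos rfl, if_neg (by decide)⟩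
  refine ⟨αb, d, ?_, ?_⟩
  · intro J hJ
    have hJ' : J = [1] ∨ J = [0, 2, 3] := by
      have := hJ
      simp only [clsD4, List.mem_cons, List.not_mem_nil, or_false] at this
      exact this
    rcases hJ' with rfl | rfl
    · rw [d1]
      exact ⟨fun h => hca (Subtype.ext h), ca.2⟩
    · rw [d2]
      exact ⟨hcb, h3 cb⟩
  · intro J hJ t ht
    have hJ' : J = [1] ∨ J = [0, 2, 3] := by
      have := hJ
      simp only [clsD4, List.mem_cons, List.not_mem_nil, or_false] at this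
      exact this
    rcases hJ' with rfl | rfl
    · rw [d1]
      have e1 : X.clsEl hJ (f := chevD4.simple) (by simp) ht = Φa (upS ⟨t, ht⟩) :=
        (p1a ⟨t, ht⟩).symm
      have e2 : X.clsEl hJ (f := fun j => chevD4.neg (chevD4.simple j)) (by simp) ht =
          Φa (loS ⟨t, ht⟩) := (p2a ⟨t, ht⟩).symm
      have e3 : ((αa ⟨t, ht⟩ : ↥F₀) : F) = αb t := htie ⟨t, ht⟩ t rfl
      rw [e1, e2, q1a, q2a, p1a, p2a, ← e3]
      exact ⟨rfl, rfl⟩
    · rw [d2]
      have e1 : X.clsEl hJ (f := chevD4.simple) (by simp) ht = Φb (upS t) := (p1b t).symm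
      have e2 : X.clsEl hJ (f := fun j => chevD4.neg (chevD4.simple j)) (by simp) ht =
          Φb (loS t) := (p2b t).symm
      rw [e1, e2, q1b, q2b, p1b, p2b]
      exact ⟨rfl, rfl⟩

end TwGrp

end Cfsg.Agent.Lib.Helper8.Chev
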