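import Cfsg.Agent.Lib.Helper8.ChevTa13
import Cfsg.Agent.Lib.Helper27.TwOutF

set_option autoImplicit false

/-! The number of automorphisms of a twisted group preserving `U¹` and `V¹`. -/

namespace Cfsg.Agent.Lib.Helper8.Chev

open Cfsg.Lie Matrix Cfsg.Agent.Lib.Helper3

/-- the automorphisms preserving `U¹` and `V¹` -/
def presSubT (D : ChevalleyDatum) (F : Type*) [Field F] (G1 : Subgroup (GL D.Idx F))
    [Finite ↥G1] : Subgroup (MulAut ↥G1) where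
  carrier := {θ | PresT θ (D.posUnipotent F) ∧ PresT θ (D.negUnipotent F)}
  one_mem' := ⟨fun _ hg => hg, fun _ hg => hg⟩
  mul_mem' := fun ha hb => ⟨ha.1.mul hb.1, ha.2.mul hb.2⟩
  inv_mem' := fun ha => ⟨ha.1.inv, ha.2.inv⟩

theorem mem_presSubT {D : ChevalleyDatum} {F : Type*} [Field F] {G1 : Subgroup (GL D.Idx F)}
    [Finite ↥G1] {θ : MulAut ↥G1} :
    θ ∈ presSubT D F G1 ↔ PresT θ (D.posUnipotent F) ∧ PresT θ (D.negUnipotent F) := Iff.rfl

namespace TwGrp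

variable {D : ChevalleyDatum} {F : Type*} [Field F] {ρ ρ' π π' : ℕ → ℕ} {ε : ℕ → ℤ}
  {T : TwOk D ρ ρ' π π' ε} {φ : F →+* F} {cls : List (List ℕ)} {G1 : Subgroup (GL D.Idx F)}

/-- the number of automorphisms preserving `U¹` and `V¹`, from the standard form and the
diagonal and field automorphisms -/
theorem card_presSubT [Finite F] [Finite ↥G1] (X : TwGrp T φ cls G1)
    (hgen : G1 ≤ Subgroup.closure {g | ∃ J ∈ cls,
      ∃ f ∈ [D.simple, fun j => D.neg (D.simple j)],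
      ∃ t : F, φ^[J.length] t = t ∧ g = wG D F (clsWS f φ J t)})
    (hcomm : ∀ (α : F ≃+* F) (t : F), α (φ t) = φ (α t))
    (hstd : ∀ θ : MulAut ↥G1, PresT θ (D.posUnipotent F) → PresT θ (D.negUnipotent F) →
      ∃ (α : F ≃+* F) (d : List ℕ → F),
        (∀ J ∈ cls, d J ≠ 0 ∧ φ^[J.length] (d J) = d J) ∧ X.IsStd θ α d)
    (hdiag : ∀ d ∈ P0 T.ga φ, ∃ δ : MulAut ↥G1, PresT δ (D.posUnipotent F) ∧
      PresT δ (D.negUnipotent F) ∧
      ∀ (j₀ : ℕ) (J' : List ℕ) (hJ : j₀ :: J' ∈ cls) (hj₀ : j₀ < D.rank) (t : F)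
        (ht : φ^[(j₀ :: J').length] t = t),
        ((δ (X.clsEl hJ (f := D.simple) (by simp) ht) : ↥G1) : GL D.Idx F) =
            wG D F (clsWS D.simple φ (j₀ :: J') ((d ⟨j₀, hj₀⟩ : F) * t)) ∧
          ((δ (X.clsEl hJ (f := fun j => D.neg (D.simple j)) (by simp) ht) : ↥G1) : GL D.Idx F) =
            wG D F (clsWS (fun j => D.neg (D.simple j)) φ (j₀ :: J')
              ((((d ⟨j₀, hj₀⟩)⁻¹ : Fˣ) : F) * t)))
    (hex : ∀ d : List ℕ → F, (∀ J ∈ cls, d J ≠ 0 ∧ φ^[J.length] (d J) = d J) →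
      ∃ d' ∈ P0 T.ga φ, ∀ (j₀ : ℕ) (J' : List ℕ), j₀ :: J' ∈ cls → ∀ hj₀ : j₀ < D.rank,
        ((d' ⟨j₀, hj₀⟩ : Fˣ) : F) = d (j₀ :: J'))
    (huniq : ∀ d ∈ P0 T.ga φ, ∀ d' ∈ P0 T.ga φ,
      (∀ (j₀ : ℕ) (J' : List ℕ), j₀ :: J' ∈ cls → ∀ hj₀ : j₀ < D.rank,
        d ⟨j₀, hj₀⟩ = d' ⟨j₀, hj₀⟩) → d = d')
    (hfull : ∃ J ∈ cls, ∀ t : F, φ^[J.length] t = t) :
    Nat.card ↥(presSubT D F G1) = Nat.card ↥(P0 T.ga φ) * Nat.card (F ≃+* F) := by
  classical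
  have hD := X.hD
  -- the field and diagonal automorphisms
  choose ψ hψU hψV hψ using fun α : F ≃+* F =>
    Cfsg.Agent.Lib.Helper27.TwOutF.exists_fieldAutT X hgen α (hcomm α)
  choose δ hδU hδV hδ using fun d : ↥(P0 T.ga φ) => hdiag d.1 d.2
  -- the head of a class as a scalar
  let hd : (Fin D.rank → Fˣ) → List ℕ → F := fun d J =>
    match J with
    | [] => 1
    | j₀ :: _ => if h : j₀ < D.rank then ((d ⟨j₀, h⟩ : Fˣ) : F) else 1
  have hhd : ∀ (d : Fin D.rank → Fˣ) (j₀ : ℕ) (J' : List ℕ) (hj₀ : j₀ < D.rank),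
      hd d (j₀ :: J') = ((d ⟨j₀, hj₀⟩ : Fˣ) : F) := by
    intro d j₀ J' hj₀
    show (if h : j₀ < D.rank then ((d ⟨j₀, h⟩ : Fˣ) : F) else 1) = _
    rw [dif_pos hj₀]
  have hαfix : ∀ (α : F ≃+* F) (n : ℕ) (t : F), φ^[n] t = t → φ^[n] (α t) = α t := by
    intro α n t ht
    have := Cfsg.Agent.Lib.Helper27.TwOutF.iterate_comm φ (α : F →+* F) (hcomm α) n t
    have e : φ^[n] (α t) = α (φ^[n] t) := this
    rw [e, ht]
  -- the standard form of `δ_d ψ_α`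
  have hstdΨ : ∀ (d : ↥(P0 T.ga φ)) (α : F ≃+* F), X.IsStd (δ d * ψ α) α (hd d.1) := by
    intro d α J hJ t ht
    obtain ⟨j₀, J', rfl, -⟩ := (X.cd.ok J hJ).rot
    have hj₀ := (X.cd.ok _ hJ).lt j₀ List.mem_cons_self
    have ht' := hαfix α _ t ht
    rw [hhd d.1 j₀ J' hj₀]
    constructor
    · have e1 : ψ α (X.clsEl hJ (f := D.simple) (by simp) ht) =
          X.clsEl hJ (f := D.simple) (by simp) ht' := Subtype.ext (hψ α _ hJ _ (by simp) t ht)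
      rw [MulAut.mul_apply, e1]
      exact (hδ d j₀ J' hJ hj₀ (α t) ht').1
    · have e1 : ψ α (X.clsEl hJ (f := fun j => D.neg (D.simple j)) (by simp) ht) =
          X.clsEl hJ (f := fun j => D.neg (D.simple j)) (by simp) ht' :=
        Subtype.ext (hψ α _ hJ _ (by simp) t ht)
      rw [MulAut.mul_apply, e1]
      have := (hδ d j₀ J' hJ hj₀ (α t) ht').2
      rw [this, Units.val_inv_eq_inv_val]
  let Ψ : ↥(P0 T.ga φ) × (F ≃+* F) → ↥(presSubT D F G1) := fun p =>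
    ⟨δ p.1 * ψ p.2, ⟨(hδU p.1).mul (hψU p.2), (hδV p.1).mul (hψV p.2)⟩⟩
  have hinj : Function.Injective Ψ := by
    rintro ⟨d, α⟩ ⟨d', α'⟩ h
    have h1 : δ d * ψ α = δ d' * ψ α' := congrArg Subtype.val h
    have s1 := hstdΨ d α
    have s2 := hstdΨ d' α'
    rw [← h1] at s2
    -- compare on the class elements
    have hcmp : ∀ (J : List ℕ) (hJ : J ∈ cls) (t : F), φ^[J.length] t = t →
        hd d.1 J * α t = hd d'.1 J * α' t := by
      intro J hJ t ht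
      have e := (s1 J hJ t ht).1.symm.trans (s2 J hJ t ht).1
      exact X.cls_pos_inj hJ e
    have hhead : ∀ (J : List ℕ), J ∈ cls → hd d.1 J = hd d'.1 J := by
      intro J hJ
      have := hcmp J hJ 1 (by
        rw [iterate_ringHom, map_one])
      simpa using this
    have hdd : d = d' := by
      apply Subtype.ext
      apply huniq d.1 d.2 d'.1 d'.2
      intro j₀ J' hJ hj₀
      have := hhead _ hJ
      rw [hhd d.1 j₀ J' hj₀, hhd d'.1 j₀ J' hj₀] at this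
      exact Units.ext this
    have hαα : α = α' := by
      obtain ⟨J, hJ, hJf⟩ := hfull
      apply RingEquiv.ext
      intro t
      have h2 := hcmp J hJ t (hJf t)
      rw [hhead J hJ] at h2
      obtain ⟨j₀, J', rfl, -⟩ := (X.cd.ok J hJ).rot
      have hj₀ := (X.cd.ok _ hJ).lt j₀ List.mem_cons_self
      rw [hhd d'.1 j₀ J' hj₀] at h2
      exact mul_left_cancel₀ (Units.ne_zero _) h2
    rw [hdd, hαα]
  have hsurj : Function.Surjective Ψ := by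
    rintro ⟨θ, hθU, hθV⟩
    obtain ⟨α, d, hd1, hd2⟩ := hstd θ hθU hθV
    obtain ⟨d', hd', hd3⟩ := hex d hd1
    refine ⟨⟨⟨d', hd'⟩, α⟩, ?_⟩
    apply Subtype.ext
    show δ ⟨d', hd'⟩ * ψ α = θ
    apply IsStd.ext hgen (hstdΨ ⟨d', hd'⟩ α) hd2
    intro J hJ
    obtain ⟨j₀, J', rfl, -⟩ := (X.cd.ok J hJ).rot
    have hj₀ := (X.cd.ok _ hJ).lt j₀ List.mem_cons_self
    rw [hhd d' j₀ J' hj₀]
    exact hd3 j₀ J' hJ hj₀
  rw [← Nat.card_congr (Equiv.ofBijective Ψ ⟨hinj, hsurj⟩), Nat.card_prod]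

end TwGrp

end Cfsg.Agent.Lib.Helper8.Chev
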