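import Cfsg.Agent.Lib.Helper8.ChevTa14
import Cfsg.Agent.Lib.Helper27.OutCount
import Cfsg.Agent.Lib.Helper27.TwOutD
import Cfsg.Agent.Lib.Helper7.TwOutS
import Cfsg.Agent.H5.TwOutH

set_option autoImplicit false

/-! The order of the outer automorphism group of a twisted group through the torus and the
automorphisms preserving `U¹` and `V¹`; the case `³D₄(q)`. -/

namespace Cfsg.Agent.Lib.Helper8.Chev

open Cfsg.Lie Matrix Cfsg.Agent.Lib.Helper3

namespace TwGrp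

variable {D : ChevalleyDatum} {F : Type*} [Field F] {ρ ρ' π π' : ℕ → ℕ} {ε : ℕ → ℤ}
  {T : TwOk D ρ ρ' π π' ε} {φ : F →+* F} {cls : List (List ℕ)} {G1 : Subgroup (GL D.Idx F)}

/-- `|Out G¹| |H¹| = |A₀|` -/
theorem card_out_mul_torus [Finite F] [Finite ↥G1] (X : TwGrp T φ cls G1) (p : ℕ) [Fact p.Prime]
    (hcard : Nat.card ↥((D.posUnipotent F ⊓ G1).subgroupOf G1) =
      p ^ (Nat.card ↥G1).factorization p) :
    Nat.card (Cfsg.Out ↥G1) * Nat.card ↥(D.diagonalSubgroup F ⊓ G1) =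
      Nat.card ↥(presSubT D F G1) := by
  have key := Cfsg.Agent.Lib.Helper27.OutCount.card_out_mul (presSubT D F G1)
    ((D.diagonalSubgroup F ⊓ G1).subgroupOf G1)
    (fun θ => X.exists_adjust p hcard θ)
    (fun x hx => by
      rw [Subgroup.mem_subgroupOf]
      exact Subgroup.mem_inf.mpr
        ⟨Cfsg.H5.TwOutH.mem_diagonal_of_pres X x hx.1 hx.2, x.2⟩)
    (fun x hx => by
      rw [Subgroup.mem_subgroupOf] at hx
      exact Cfsg.H5.TwOutH.pres_of_mem_diagonal X x (Subgroup.mem_inf.mp hx).1)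
    (fun x hx h => by
      rw [Subgroup.mem_subgroupOf] at hx
      exact Cfsg.H5.TwOutH.eq_one_of_conj_eq_one X x (Subgroup.mem_inf.mp hx).1 h)
  rw [← key]
  congr 1
  exact (Nat.card_congr (Subgroup.subgroupOfEquivOfLe (inf_le_right)).toEquiv).symm

end TwGrp

section D4

variable {K : Type*} [Field K] {q : ℕ}

/-- the fixed parameter tuples of `³D₄` -/
theorem card_P0_D4 [Fintype K] (hq : IsPrimePow q) (hK : Fintype.card K = q ^ 3)
    (φ : K →+* K) (hφ : ∀ t, φ t = t ^ q) (h3 : ∀ t : K, φ (φ (φ t)) = t) :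
    Nat.card ↥(P0 gaOk_D4a φ) = (q - 1) * (q ^ 3 - 1) := by
  have hq1 := hq.one_lt
  let A := {a : Kˣ // Units.map (φ : K →* K) a = a}
  let Θ : A × Kˣ → ↥(P0 gaOk_D4a φ) :=
    fun p => ⟨tupD4 φ p.1.1 p.2, tupD4_mem_P0 φ h3 p.1.2⟩
  have hinj : Function.Injective Θ := by
    rintro ⟨⟨a, ha⟩, b⟩ ⟨⟨a', ha'⟩, b'⟩ hxy
    have e : tupD4 φ a b = tupD4 φ a' b' := congrArg Subtype.val hxy
    obtain ⟨t0, t1, _, _⟩ := tupD4_apply φ a b
    obtain ⟨t0', t1', _, _⟩ := tupD4_apply φ a' b'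
    have ea : a = a' := by rw [← t1, ← t1', e]
    have eb : b = b' := by rw [← t0, ← t0', e]
    subst ea eb
    rfl
  have hsurj : Function.Surjective Θ := by
    rintro ⟨c, hc⟩
    obtain ⟨e, f1⟩ := eq_tupD4 φ hc
    refine ⟨⟨⟨c ⟨1, by decide⟩, f1⟩, c ⟨0, by decide⟩⟩, ?_⟩
    apply Subtype.ext
    exact e.symm
  rw [← Nat.card_congr (Equiv.ofBijective Θ ⟨hinj, hsurj⟩), Nat.card_prod,
    card_frob_fix_units hq1 hK φ hφ, Nat.card_units, Nat.card_eq_fintype_card, hK]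

end D4

end Cfsg.Agent.Lib.Helper8.Chev
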