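import Cfsg.Agent.Lib.Helper8.ChevTa15
import Cfsg.Agent.Lib.Helper8.ChevAu21

set_option autoImplicit false

/-! `|Out ³D₄(q)| = 3 f`. -/

namespace Cfsg.Agent.Lib.Helper8.Chev

open Cfsg.Lie Matrix Cfsg.Agent.Lib.Helper3

section

variable {K : Type*} [Field K]

/-- the proper fixed field is smaller -/
theorem card_fix_lt [Fintype K] {q m : ℕ} (hq : 1 < q) (hm : 1 < m) (hK : Fintype.card K = q ^ m)
    (φ : K →+* K) (hφ : ∀ t, φ t = t ^ q) (hm' : ∀ t : K, φ^[m] t = t) :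
    Nat.card {t : K // φ^[1] t = t} < Nat.card {t : K // φ^[m] t = t} := by
  have e1 : Nat.card {t : K // φ^[1] t = t} = q := by
    rw [← card_frob_fix hq hK]
    apply Nat.card_congr
    refine Equiv.subtypeEquivRight (fun t => ?_)
    rw [Function.iterate_one, hφ]
  have e2 : Nat.card {t : K // φ^[m] t = t} = q ^ m := by
    rw [← hK, ← Nat.card_eq_fintype_card]
    exact Nat.card_congr (Equiv.subtypeUnivEquiv hm')
  rw [e1, e2]
  calc q = q ^ 1 := (pow_one q).symm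
    _ < q ^ m := Nat.pow_lt_pow_right hq hm

theorem ringAut_frob_comm {q : ℕ} (φ : K →+* K) (hφ : ∀ t, φ t = t ^ q) (α : K ≃+* K) (t : K) :
    α (φ t) = φ (α t) := by
  rw [hφ, hφ, map_pow]

end

section D4

variable {K : Type*} [Field K] [Fintype K]

/-- `|Out ³D₄(q)| = 3 f` -/
theorem card_out_twD4 (p f : ℕ) [Fact p.Prime] [CharP K p]
    (hK : Fintype.card K = p ^ (3 * f)) (hf : 1 ≤ f) :
    Nat.card (Cfsg.Out ↥(twistedD4 K (p ^ f))) = 3 * f := by
  have hp : p.Prime := Fact.out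
  have hq : IsPrimePow (p ^ f) := ⟨p, f, hp.prime, hf, rfl⟩
  have hK' : Fintype.card K = (p ^ f) ^ 3 := by rw [hK, ← pow_mul, mul_comm]
  have hq1 := hq.one_lt
  obtain ⟨φ, hφ, h3, X⟩ := exists_twGrp_D4 hq hK'
  obtain ⟨PP, hP⟩ := X.exists_isBN
  have hgen := twD4_gen φ hφ h3
  have hlt := card_fix_lt hq1 (by norm_num) hK' φ hφ (fun t => h3 t)
  have hcomm := ringAut_frob_comm φ hφ
  have hA := X.card_presSubT hgen hcomm
    (fun θ hU hV => X.exists_std_D4 hP h3 hlt hU hV)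
    (fun d hd => Cfsg.Agent.Lib.Helper27.TwOutD.exists_diagAutT X hgen d hd)
    (by
      intro d hd
      have ha := hd [1] (by decide)
      have hb := hd [0, 2, 3] (by decide)
      refine ⟨tupD4 φ (Units.mk0 _ ha.1) (Units.mk0 _ hb.1), tupD4_mem_P0 φ h3 ?_, ?_⟩
      · apply Units.ext
        exact ha.2
      · obtain ⟨t0, t1, -, -⟩ := tupD4_apply φ (Units.mk0 _ ha.1) (Units.mk0 _ hb.1)
        intro j₀ J' hJ hj₀
        have hJ' : j₀ :: J' = [1] ∨ j₀ :: J' = [0, 2, 3] := by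
          have := hJ
          simp only [clsD4, List.mem_cons, List.not_mem_nil, or_false] at this
          exact this
        rcases hJ' with e | e
        · obtain ⟨rfl, rfl⟩ := List.cons.inj e
          rw [t1]; rfl
        · obtain ⟨rfl, rfl⟩ := List.cons.inj e
          rw [t0]; rfl)
    (by
      intro d hd d' hd' h
      obtain ⟨e, -⟩ := eq_tupD4 φ hd
      obtain ⟨e', -⟩ := eq_tupD4 φ hd'
      rw [e, e', h 1 [] (by decide) (by decide), h 0 [2, 3] (by decide) (by decide)])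
    ⟨[0, 2, 3], by decide, fun t => h3 t⟩
  have hO := X.card_out_mul_torus p
    (Cfsg.Agent.Lib.Helper7.TwOutS.twD4_sylow_card p hq hK')
  rw [hA, card_P0_D4 hq hK' φ hφ h3, twD4_torus hq hK', card_ringAut_pf p (3 * f) hK] at hO
  -- arithmetic
  obtain ⟨n, hn⟩ : ∃ n, p ^ f = n + 1 := ⟨p ^ f - 1, by omega⟩
  rw [hn] at hO
  have e1 : (n + 1) ^ 3 - 1 = n * ((n + 1) ^ 2 + (n + 1) + 1) := by
    have : (n + 1) ^ 3 = n * ((n + 1) ^ 2 + (n + 1) + 1) + 1 := by ring
    omega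
  rw [e1, Nat.add_sub_cancel] at hO
  have hn0 : 0 < n := by omega
  have hpos : 0 < n ^ 2 * ((n + 1) ^ 2 + (n + 1) + 1) := by positivity
  have e2 : Nat.card (Cfsg.Out ↥(twistedD4 K (n + 1))) * (n ^ 2 * ((n + 1) ^ 2 + (n + 1) + 1)) =
      3 * f * (n ^ 2 * ((n + 1) ^ 2 + (n + 1) + 1)) := by
    rw [hO]; ring
  rw [hn]
  exact Nat.eq_of_mul_eq_mul_right hpos e2

end D4

end Cfsg.Agent.Lib.Helper8.Chev
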