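import Cfsg.Agent.Lib.Helper8.ChevTa1
import Cfsg.Agent.Lib.Helper8.ChevAu8

set_option autoImplicit false

/-! Automorphisms of twisted groups: adjusting by an inner automorphism so that `U¹` and `V¹` are
preserved. -/

namespace Cfsg.Agent.Lib.Helper8.Chev

open Cfsg.Lie Matrix

section

variable {D : ChevalleyDatum}

/-- a word making all the positive roots negative: it makes the negative roots positive, and so
does the reversed word -/
theorem full_props (hD : D ∈ [chevG2, chevB2, chevD4, chevF4, chevE6, chevE7, chevE8])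
    {l : List ℕ} (hl : ∀ i ∈ l, i < D.rank)
    (hfull : ∀ r, D.nroots / 2 ≤ r → r < D.nroots → reflWord D l r < D.nroots / 2) :
    (∀ r, r < D.nroots / 2 → D.nroots / 2 ≤ reflWord D l r) ∧
    (∀ r, D.nroots / 2 ≤ r → r < D.nroots → reflWord D l.reverse r < D.nroots / 2) ∧
    (∀ r, r < D.nroots / 2 → D.nroots / 2 ≤ reflWord D l.reverse r) := by
  have V := valid0_of_mem hD
  have VJ := validJ_of_mem hD
  have H := validH_of_mem hD
  have hI := checkInv_of_mem hD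
  have hev := V.even
  have hlr : ∀ i ∈ l.reverse, i < D.rank := fun i hi => hl i (List.mem_reverse.mp hi)
  -- negatives to positives, for any word with the property
  have key : ∀ l' : List ℕ, (∀ i ∈ l', i < D.rank) →
      (∀ r, D.nroots / 2 ≤ r → r < D.nroots → reflWord D l' r < D.nroots / 2) →
      ∀ r, r < D.nroots / 2 → D.nroots / 2 ≤ reflWord D l' r := by
    intro l' hl' hf r hr
    have hr' : r < D.nroots := by omega
    have hn := V.neg_lt hr'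
    have e1 : D.neg (D.neg r) = r := by
      rw [V.neg_eq _ hn, V.neg_eq _ hr']; omega
    have h1 := reflWord_neg VJ H.nS hl' hn
    rw [e1] at h1
    have h2 : D.nroots / 2 ≤ D.neg r := by rw [V.neg_eq _ hr']; omega
    have h3 := hf _ h2 hn
    have h4 := reflWord_lt VJ H.nS hl' hn
    rw [h1, V.neg_eq _ h4]
    omega
  have hrev : ∀ r, D.nroots / 2 ≤ r → r < D.nroots →
      reflWord D l.reverse r < D.nroots / 2 := by
    intro r h1 h2
    by_contra hcon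
    rw [not_lt] at hcon
    have h3 := hfull _ hcon (reflWord_lt VJ H.nS hlr h2)
    rw [reflWord_reverse_cancel VJ H.nS hI hl h2] at h3
    omega
  exact ⟨key l hl hfull, hrev, key _ hlr hrev⟩

/-- a word making all the fundamental roots negative makes all the positive roots negative -/
theorem all_neg_of_simple_neg (hD : D ∈ [chevG2, chevB2, chevD4, chevF4, chevE6, chevE7, chevE8])
    {l₀ : List ℕ} (hl₀ : ∀ i ∈ l₀, i < D.rank)
    (hfull : ∀ r, D.nroots / 2 ≤ r → r < D.nroots → reflWord D l₀ r < D.nroots / 2)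
    {l : List ℕ} (hl : ∀ i ∈ l, i < D.rank)
    (h : ∀ k < D.rank, ¬ D.nroots / 2 ≤ reflWord D l (D.simple k)) :
    ∀ r, D.nroots / 2 ≤ r → r < D.nroots → reflWord D l r < D.nroots / 2 := by
  have VJ := validJ_of_mem hD
  have H := validH_of_mem hD
  obtain ⟨hnp, -, -⟩ := full_props hD hl₀ hfull
  have hll : ∀ i ∈ l₀ ++ l, i < D.rank := by
    intro i hi
    rcases List.mem_append.mp hi with h | h
    · exact hl₀ i h
    · exact hl i h
  have hz : lenL D (l₀ ++ l) = 0 := by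
    by_contra hne
    obtain ⟨k, hk, hneg⟩ := exists_simple_neg hD hll (Nat.pos_of_ne_zero hne)
    apply hneg
    rw [reflWord_append]
    exact hnp _ (not_le.mp (h k hk))
  have htriv := reflWord_of_lenL_zero hD hll hz
  intro r h1 h2
  by_contra hcon
  rw [not_lt] at hcon
  have h3 := htriv r h2
  rw [reflWord_append] at h3
  have h4 := hfull _ hcon (reflWord_lt VJ H.nS hl h2)
  omega

end

namespace TwGrp

variable {D : ChevalleyDatum} {F : Type*} [Field F] {ρ ρ' π π' : ℕ → ℕ} {ε : ℕ → ℤ}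
  {T : TwOk D ρ ρ' π π' ε} {φ : F →+* F} {cls : List (List ℕ)} {G1 : Subgroup (GL D.Idx F)}

/-- the longest element, with all its properties -/
theorem w0_data (X : TwGrp T φ cls G1) :
    ∃ n ∈ G1, ∃ σ τ : ℕ → ℕ,
      RootPerm D F (n : Matrix D.Idx D.Idx F) σ ∧
      RootPerm D F ((n⁻¹ : GL D.Idx F) : Matrix D.Idx D.Idx F) τ ∧
      (∀ s, D.nroots / 2 ≤ s → s < D.nroots → σ s < D.nroots / 2) ∧
      (∀ s, s < D.nroots / 2 → D.nroots / 2 ≤ σ s) ∧
      (∀ s, D.nroots / 2 ≤ s → s < D.nroots → τ s < D.nroots / 2) ∧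
      (∀ s, s < D.nroots / 2 → D.nroots / 2 ≤ τ s) := by
  have hD := X.hD
  have V1 := valid1_of_mem hD
  have VJ := validJ_of_mem hD
  have H := validH_of_mem hD
  have hI := checkInv_of_mem hD
  obtain ⟨Js, hJs, hg, hfull⟩ := X.w0
  have hl := X.flatten_lt hJs
  have hlr : ∀ i ∈ Js.flatten.reverse, i < D.rank := fun i hi => hl i (List.mem_reverse.mp hi)
  obtain ⟨h1, h2, h3⟩ := full_props hD hl hfull
  have hP := (rootPermN_nP (F := F) VJ V1 H.nS _ hl).rootPerm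
  refine ⟨nP D F Js.flatten, X.nP_mem hJs, reflWord D Js.flatten, reflWord D Js.flatten.reverse,
    hP, ?_, hfull, h1, h2, h3⟩
  apply hP.inv_unit
  intro s hs
  exact ⟨reflWord_lt VJ H.nS hlr hs, reflWord_reverse_cancel VJ H.nS hI hl hs⟩

/-- every automorphism of a finite twisted group preserves `U¹` and `V¹` up to an inner
automorphism -/
theorem exists_adjust [Finite F] (X : TwGrp T φ cls G1) (p : ℕ) [Fact p.Prime]
    (hcard : Nat.card ↥((D.posUnipotent F ⊓ G1).subgroupOf G1) =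
      p ^ (Nat.card ↥G1).factorization p)
    (θ : MulAut ↥G1) :
    ∃ x : ↥G1, PresT (MulAut.conj x * θ : MulAut ↥G1) (D.posUnipotent F) ∧
      PresT (MulAut.conj x * θ : MulAut ↥G1) (D.negUnipotent F) := by
  classical
  have hD := X.hD
  have V := valid0_of_mem hD
  have V1 := valid1_of_mem hD
  have VJ := validJ_of_mem hD
  have H := validH_of_mem hD
  have C := copP_of_mem hD
  have P := posP_of_mem hD
  have hI := checkInv_of_mem hD
  obtain ⟨x₁, hx₁⟩ := Cfsg.Agent.H26.Ro.exists_conj_preserve_sylow p _ hcard θ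
  obtain ⟨θ₁, hθ₁⟩ : ∃ θ₁ : MulAut ↥G1, θ₁ = MulAut.conj x₁ * θ := ⟨_, rfl⟩
  rw [← hθ₁] at hx₁
  have hP₁ : PresT θ₁ (D.posUnipotent F) := fun g hg =>
    (Subgroup.mem_inf.mp (Subgroup.mem_subgroupOf.mp
      (hx₁ g (Subgroup.mem_subgroupOf.mpr (Subgroup.mem_inf.mpr ⟨hg, g.2⟩))))).1
  -- the longest element
  obtain ⟨n₀, hn₀G, σ₀, τ₀, hσ₀, hτ₀, s1, s2, t1, t2⟩ := X.w0_data
  have hleV : (D.posUnipotent F).map (MulAut.conj n₀).toMonoidHom ≤ D.negUnipotent F :=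
    conj_pos_le_neg hD hσ₀ s1
  have hleU : (D.negUnipotent F).map (MulAut.conj n₀⁻¹).toMonoidHom ≤ D.posUnipotent F :=
    conj_neg_le_pos hD hτ₀ t2
  set g : ↥G1 := θ₁ ⟨n₀, hn₀G⟩ with hg
  obtain ⟨Js, hJs, hgood, u₁, hu₁, h₁, hh₁, u, hu, e⟩ := X.bruhat (g⁻¹).2
  have hl := X.flatten_lt hJs
  have hlr : ∀ i ∈ Js.flatten.reverse, i < D.rank := fun i hi => hl i (List.mem_reverse.mp hi)
  set n := nP D F Js.flatten with hn
  have hnG : n ∈ G1 := X.nP_mem hJs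
  have huU : u ∈ D.posUnipotent F := unegW_le_pos hD hl (Subgroup.mem_inf.mp hu).1
  have huG := (Subgroup.mem_inf.mp hu).2
  set b := u₁ * h₁ with hb
  have hbB : b ∈ D.borelSubgroup F :=
    mul_mem (pos_le_borel (Subgroup.mem_inf.mp hu₁).1) (diagonal_le_borel (Subgroup.mem_inf.mp hh₁).1)
  have eg : (g : GL D.Idx F) = u⁻¹ * n⁻¹ * b⁻¹ := by
    have : ((g⁻¹ : ↥G1) : GL D.Idx F) = b * n * u := e
    rw [Subgroup.coe_inv] at this
    rw [← inv_inv (g : GL D.Idx F), this]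
    group
  -- the second adjustment
  obtain ⟨θ₂, hθ₂⟩ : ∃ θ₂ : MulAut ↥G1, θ₂ = MulAut.conj (⟨u, huG⟩ : ↥G1) * θ₁ := ⟨_, rfl⟩
  have hP₂ : PresT θ₂ (D.posUnipotent F) := by
    rw [hθ₂]
    exact (presT_conj _ huU).mul hP₁
  have hθeq : MulAut.conj (⟨u, huG⟩ * x₁) * θ = θ₂ := by
    rw [hθ₂, hθ₁, map_mul, mul_assoc]
  refine ⟨⟨u, huG⟩ * x₁, ?_, ?_⟩
  · rw [hθeq]
    exact hP₂
  rw [hθeq]
  -- the image of `V¹`
  set W : Subgroup (GL D.Idx F) := (D.posUnipotent F).map (MulAut.conj n⁻¹).toMonoidHom with hW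
  have hVW : ∀ v : ↥G1, (v : GL D.Idx F) ∈ D.negUnipotent F →
      ((θ₂ v : ↥G1) : GL D.Idx F) ∈ W := by
    intro v hv
    have hu₀ : n₀⁻¹ * (v : GL D.Idx F) * n₀⁻¹⁻¹ ∈ D.posUnipotent F := hleU ⟨_, hv, rfl⟩
    have hu₀G : n₀⁻¹ * (v : GL D.Idx F) * n₀⁻¹⁻¹ ∈ G1 :=
      mul_mem (mul_mem (inv_mem hn₀G) v.2) (inv_mem (inv_mem hn₀G))
    set u₀ : ↥G1 := ⟨_, hu₀G⟩ with hu₀def
    have hv' : v = ⟨n₀, hn₀G⟩ * u₀ * (⟨n₀, hn₀G⟩ : ↥G1)⁻¹ := by
      apply Subtype.ext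
      show (v : GL D.Idx F) = n₀ * (n₀⁻¹ * (v : GL D.Idx F) * n₀⁻¹⁻¹) * n₀⁻¹
      group
    have h3 := hP₁ u₀ hu₀
    have hbn := borel_le_normalizer_pos VJ V1 H (inv_mem hbB)
    have h4 : b⁻¹ * ((θ₁ u₀ : ↥G1) : GL D.Idx F) * b⁻¹⁻¹ ∈ D.posUnipotent F :=
      (Subgroup.mem_normalizer_iff.mp hbn _).mp h3
    have e1 : θ₂ v = ⟨u, huG⟩ * (g * θ₁ u₀ * g⁻¹) * (⟨u, huG⟩ : ↥G1)⁻¹ := by
      rw [hθ₂, MulAut.mul_apply, MulAut.conj_apply]
      conv_lhs => rw [hv']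
      rw [map_mul, map_mul, map_inv]
    have key : ((θ₂ v : ↥G1) : GL D.Idx F) =
        n⁻¹ * (b⁻¹ * ((θ₁ u₀ : ↥G1) : GL D.Idx F) * b⁻¹⁻¹) * n⁻¹⁻¹ := by
      rw [e1]
      simp only [Subgroup.coe_mul, Subgroup.coe_inv]
      rw [eg]
      group
    rw [hW, Subgroup.mem_map]
    exact ⟨_, h4, key.symm⟩
  -- the action of `n⁻¹` on the roots
  have hPn := (rootPermN_nP (F := F) VJ V1 H.nS _ hl).rootPerm
  have hσ : RootPerm D F ((n⁻¹ : GL D.Idx F) : Matrix D.Idx D.Idx F)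
      (reflWord D Js.flatten.reverse) := by
    apply hPn.inv_unit
    intro s hs
    exact ⟨reflWord_lt VJ H.nS hlr hs, reflWord_reverse_cancel VJ H.nS hI hl hs⟩
  obtain ⟨Js₀, hJs₀, -, hfull₀⟩ := X.w0
  have hneg : ∀ r, D.nroots / 2 ≤ r → r < D.nroots →
      reflWord D Js.flatten.reverse r < D.nroots / 2 := by
    apply all_neg_of_simple_neg hD (X.flatten_lt hJs₀) hfull₀ hlr
    intro k hk hpos
    obtain ⟨J, hJ, hkJ⟩ := X.cd.cover k hk
    have hposJ : ∀ j ∈ J, D.nroots / 2 ≤ reflWord D Js.flatten.reverse (D.simple j) := by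
      rcases X.sym_dichotomy hJs hJ with h | h
      · exact h
      · exact absurd hpos (h k hkJ)
    have h1fix : φ^[J.length] (1 : F) = 1 := by rw [iterate_ringHom, map_one]
    have hx := X.cls_pos_mem hJ h1fix
    set x := wG D F (clsWS D.simple φ J (1 : F)) with hxdef
    have hw := X.conj_cls_mem hJs hJ (f := D.simple) (by simp) hposJ h1fix
    rw [← hxdef, ← hn] at hw
    obtain ⟨hwU, hwG⟩ := Subgroup.mem_inf.mp hw
    -- `w = n⁻¹ x n` is the image of an element `v` of `V¹`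
    -- pull back through `θ₂`
    set v : ↥G1 := (θ₂⁻¹ : MulAut ↥G1) ⟨_, hwG⟩ with hvdef
    have hvU : (v : GL D.Idx F) ∈ D.posUnipotent F := hP₂.inv _ hwU
    -- `x = n w n⁻¹`, and `w = θ₂ v`
    have hθv : θ₂ v = ⟨_, hwG⟩ := by rw [hvdef, MulAut.apply_inv_self]
    -- `v ∈ V`: `θ₂ v ∈ W`, and `θ₂` maps `V¹` onto `W¹`
    have hVsub : ∀ y : ↥G1, (y : GL D.Idx F) ∈ W → ∃ v' : ↥G1,
        (v' : GL D.Idx F) ∈ D.negUnipotent F ∧ θ₂ v' = y := by
      intro y hy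
      obtain ⟨u', hu', huy⟩ := hy
      -- `u' = n y n⁻¹ ∈ U¹`
      have hu'G : u' ∈ G1 := by
        have : u' = n * (y : GL D.Idx F) * n⁻¹ := by
          rw [← huy]
          show u' = n * (n⁻¹ * u' * n⁻¹⁻¹) * n⁻¹
          group
        rw [this]
        exact mul_mem (mul_mem hnG y.2) (inv_mem hnG)
      -- `u'' := b u' b⁻¹ ∈ U¹`
      have hbG : b ∈ G1 := mul_mem (Subgroup.mem_inf.mp hu₁).2 (Subgroup.mem_inf.mp hh₁).2
      have hbn := borel_le_normalizer_pos VJ V1 H hbB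
      have hu'' : b * u' * b⁻¹ ∈ D.posUnipotent F :=
        (Subgroup.mem_normalizer_iff.mp hbn _).mp hu'
      have hu''G : b * u' * b⁻¹ ∈ G1 := mul_mem (mul_mem hbG hu'G) (inv_mem hbG)
      -- preimage under `θ₁`
      set z : ↥G1 := (θ₁⁻¹ : MulAut ↥G1) ⟨_, hu''G⟩ with hzdef
      have hzU : (z : GL D.Idx F) ∈ D.posUnipotent F := hP₁.inv _ hu''
      have hθz : θ₁ z = ⟨_, hu''G⟩ := by rw [hzdef, MulAut.apply_inv_self]
      refine ⟨⟨n₀, hn₀G⟩ * z * (⟨n₀, hn₀G⟩ : ↥G1)⁻¹, hleV ⟨_, hzU, rfl⟩, ?_⟩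
      apply Subtype.ext
      rw [hθ₂, MulAut.mul_apply, MulAut.conj_apply, map_mul, map_mul, map_inv, hθz, ← hg]
      simp only [Subgroup.coe_mul, Subgroup.coe_inv]
      rw [eg, ← huy]
      show u * (u⁻¹ * n⁻¹ * b⁻¹ * (b * u' * b⁻¹) * (u⁻¹ * n⁻¹ * b⁻¹)⁻¹) * u⁻¹ =
        n⁻¹ * u' * n⁻¹⁻¹
      group
    have hwW : ((⟨_, hwG⟩ : ↥G1) : GL D.Idx F) ∈ W := by
      refine ⟨x, (Subgroup.mem_inf.mp hx).1, ?_⟩
      show n⁻¹ * x * n⁻¹⁻¹ = n⁻¹ * x * n
      rw [inv_inv]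
    obtain ⟨v', hv'V, hθv'⟩ := hVsub _ hwW
    have hvv' : v' = v := θ₂.injective (hθv'.trans hθv.symm)
    rw [hvv'] at hv'V
    have hv1 : (v : GL D.Idx F) = 1 := by
      have : (v : GL D.Idx F) ∈ D.posUnipotent F ⊓ D.negUnipotent F := ⟨hvU, hv'V⟩
      rwa [pos_inf_neg hD, Subgroup.mem_bot] at this
    have hv1' : v = 1 := Subtype.ext hv1
    rw [hv1', map_one] at hθv
    have hw1 : n⁻¹ * x * n = 1 := by
      have := congrArg (fun z : ↥G1 => (z : GL D.Idx F)) hθv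
      exact this.symm
    have hx1 : x = 1 := by
      have : x = n * (n⁻¹ * x * n) * n⁻¹ := by group
      rw [this, hw1]; group
    exact X.cls_one_ne hJ hx1
  have hWV : W ≤ D.negUnipotent F := conj_pos_le_neg hD hσ hneg
  intro v hv
  exact hWV (hVW v hv)

end TwGrp

end Cfsg.Agent.Lib.Helper8.Chev
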