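import Cfsg.Agent.Lib.Helper8.ChevTa2

set_option autoImplicit false

/-! Twisted groups: the intersection of `V¹` with a minimal parabolic subgroup is a class root
subgroup. -/

namespace Cfsg.Agent.Lib.Helper8.Chev

open Cfsg.Lie Matrix

section

variable {D : ChevalleyDatum} {F : Type*} [Field F]

/-- a product of root elements of negative roots lies in `V` -/
theorem neg_word_mem (hD : D ∈ [chevG2, chevB2, chevD4, chevF4, chevE6, chevE7, chevE8])
    (w : List (ℕ × F)) (hw : ∀ p ∈ w, p.1 < D.nroots / 2) (g : GL D.Idx F)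
    (hg : (g : Matrix D.Idx D.Idx F) = wN D F w) : g ∈ D.negUnipotent F := by
  have V := valid0_of_mem hD
  have V1 := valid1_of_mem hD
  have P := posP_of_mem hD
  induction w generalizing g with
  | nil =>
    have : g = 1 := Units.ext (by rw [hg, Units.val_one]; rfl)
    rw [this]; exact one_mem _
  | cons p w ih =>
    have hp := hw p List.mem_cons_self
    have hp' : p.1 < D.nroots := lt_of_lt_of_le hp (Nat.div_le_self _ _)
    obtain ⟨gx, hgx⟩ := exists_unit_x (F := F) V V1 hp' p.2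
    obtain ⟨g', hg'⟩ := exists_unit_wN V V1 w (fun q hq =>
      lt_of_lt_of_le (hw q (List.mem_cons_of_mem _ hq)) (Nat.div_le_self _ _))
    have e : g = gx * g' := by
      apply Units.ext
      rw [hg, Units.val_mul, hgx, hg', wN_cons, x_eq_xN]
    rw [e]
    refine mul_mem ?_ (ih (fun q hq => hw q (List.mem_cons_of_mem _ hq)) g' hg')
    exact Subgroup.subset_closure ⟨p.1, p.2, (P p.1 hp').2.mpr hp, hgx⟩

end

namespace TwGrp

variable {D : ChevalleyDatum} {F : Type*} [Field F] {ρ ρ' π π' : ℕ → ℕ} {ε : ℕ → ℤ}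
  {T : TwOk D ρ ρ' π π' ε} {φ : F →+* F} {cls : List (List ℕ)} {G1 : Subgroup (GL D.Idx F)}

/-- the matrix of a class element -/
theorem coe_cls (X : TwGrp T φ cls G1) {J : List ℕ} (hJ : J ∈ cls) {f : ℕ → ℕ}
    (hf : f ∈ [D.simple, fun j => D.neg (D.simple j)]) (t : F) :
    ((wG D F (clsWS f φ J t) : GL D.Idx F) : Matrix D.Idx D.Idx F) = wN D F (clsWS f φ J t) := by
  have V := valid0_of_mem X.hD
  have V1 := valid1_of_mem X.hD
  have VJ := validJ_of_mem X.hD
  have hs : SgnF D f := by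
    simp only [List.mem_cons, List.not_mem_nil, or_false] at hf
    rcases hf with rfl | rfl
    · exact sgnF_simple _
    · exact sgnF_neg _
  exact coe_wG (F := F) V V1 _ (clsWS_lt V VJ hs φ (X.cd.ok J hJ).lt t)

/-- an element of `H¹` conjugates class elements to class elements -/
theorem torus_conj_cls' (X : TwGrp T φ cls G1) {h : GL D.Idx F}
    (hh : h ∈ D.diagonalSubgroup F ⊓ G1) {J : List ℕ} (hJ : J ∈ cls) :
    ∃ a : Fˣ, φ^[J.length] (a : F) = a ∧
      (∀ s : F, h * wG D F (clsWS D.simple φ J s) * h⁻¹ =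
        wG D F (clsWS D.simple φ J ((a : F) * s))) ∧
      (∀ s : F, h * wG D F (clsWS (fun j => D.neg (D.simple j)) φ J s) * h⁻¹ =
        wG D F (clsWS (fun j => D.neg (D.simple j)) φ J (((a⁻¹ : Fˣ) : F) * s))) := by
  have hD := X.hD
  have V1 := valid1_of_mem hD
  have VJ := validJ_of_mem hD
  have H := validH_of_mem hD
  obtain ⟨hhH, hhG⟩ := Subgroup.mem_inf.mp hh
  rw [diagonal_eq_range VJ V1 H] at hhH
  obtain ⟨c, rfl⟩ := hhH
  have hfix : sg T.ga φ (torMap D F c) = torMap D F c := X.le_fix hhG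
  obtain ⟨a, ha, h1, h2⟩ := X.torus_conj_cls hfix hJ
  refine ⟨a, ha, fun s => ?_, fun s => ?_⟩
  · rw [mul_inv_eq_iff_eq_mul]
    apply Units.ext
    rw [Units.val_mul, Units.val_mul, X.coe_cls hJ (by simp), X.coe_cls hJ (by simp)]
    exact h1 s
  · rw [mul_inv_eq_iff_eq_mul]
    apply Units.ext
    rw [Units.val_mul, Units.val_mul, X.coe_cls hJ (by simp), X.coe_cls hJ (by simp)]
    exact h2 s

/-- the representative of a class does not lie in `B` -/
theorem nP_cls_not_mem_borel (X : TwGrp T φ cls G1) {J : List ℕ} (hJ : J ∈ cls) :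
    nP D F J ∉ D.borelSubgroup F := by
  have hD := X.hD
  have V := valid0_of_mem hD
  have VJ := validJ_of_mem hD
  intro h
  have hO := (X.cd.ok J hJ).orthL
  obtain ⟨j₀, J', e, -⟩ := (X.cd.ok J hJ).rot
  have hj₀ : j₀ ∈ J := by rw [e]; exact List.mem_cons_self
  have hlt := hO.lt j₀ hj₀
  have hp := (VJ.S j₀ hlt).1
  have hpos := (refl_pos VJ (checkRP_of_mem hD) hlt).1
  have h1 := nP_pos_of_mem_borel hD hO.lt h _ hpos hp
  rw [reflWord_cls_simple hD hO j₀ hj₀, V.neg_eq _ hp] at h1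
  have := V.even
  omega

/-- `V¹ ∩ B¹ n_J B¹ ⊆ X_{-J}¹` -/
theorem neg_inf_cell (X : TwGrp T φ cls G1) {J : List ℕ} (hJ : J ∈ cls) {v b₁ b₂ : GL D.Idx F}
    (hv : v ∈ D.negUnipotent F) (hb₁ : b₁ ∈ D.borelSubgroup F ⊓ G1)
    (hb₂ : b₂ ∈ D.borelSubgroup F ⊓ G1) (e : v = b₁ * nP D F J * b₂) :
    ∃ t : F, φ^[J.length] t = t ∧
      v = wG D F (clsWS (fun j => D.neg (D.simple j)) φ J t) := by
  have hD := X.hD
  have V := valid0_of_mem hD
  have V1 := valid1_of_mem hD
  have VJ := validJ_of_mem hD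
  have H := validH_of_mem hD
  have P := posP_of_mem hD
  have Tr := triP_of_mem hD
  have hO := (X.cd.ok J hJ).orthL
  obtain ⟨hb₁B, hb₁G⟩ := Subgroup.mem_inf.mp hb₁
  obtain ⟨u, hu, h, hh, rfl⟩ := X.borel_decomp hb₂
  obtain ⟨huU, huG⟩ := Subgroup.mem_inf.mp hu
  obtain ⟨hhH, hhG⟩ := Subgroup.mem_inf.mp hh
  obtain ⟨v', hv', t, ht, e2⟩ := X.pos_decomp hJ hu
  obtain ⟨hv'U, hv'G⟩ := Subgroup.mem_inf.mp hv'
  have e' : v = (b₁ * v') * (nP D F J * wG D F (clsWS D.simple φ J t)) * h := by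
    rw [e]
    have : b₁ * nP D F J * (u * h) = b₁ * (nP D F J * u) * h := by group
    rw [this, e2]
    group
  have hb4 : b₁ * v' ∈ D.borelSubgroup F := mul_mem hb₁B (pos_le_borel hv'U)
  by_cases ht0 : t = 0
  · exfalso
    have g1 : wG D F (clsWS D.simple φ J t) = 1 := by
      apply Units.ext
      rw [X.coe_cls hJ (by simp), ht0, wN_clsWS_zero V]
      rfl
    rw [g1, mul_one] at e'
    have hvn := (Subgroup.mem_normalizer_iff.mp (diagonal_le_normalizer_neg VJ V1 H hhH) v).mp hv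
    have e3 : nP D F J = ((b₁ * v')⁻¹ * h⁻¹) * (h * v * h⁻¹) := by
      rw [e']; group
    exact X.nP_cls_not_mem_borel hJ (monomial_borel_neg hD (nP_mem_monomial hD hO.lt)
      (mul_mem (inv_mem hb4) (inv_mem (diagonal_le_borel hhH))) hvn e3)
  · have hid := X.nP_mul_cls hJ ht0 ht
    obtain ⟨a, ha, -, hneg⟩ := X.torus_conj_cls' (Subgroup.mem_inf.mpr ⟨inv_mem hhH, inv_mem hhG⟩) hJ
    have hk : (torMap D F (tupCls D φ J (-(Units.mk0 t ht0))))⁻¹ ∈ D.borelSubgroup F :=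
      inv_mem (diagonal_le_borel (torMap_mem VJ H _))
    have hxa : wG D F (clsWS D.simple φ J (-t)) ∈ D.borelSubgroup F :=
      pos_le_borel (Subgroup.mem_inf.mp (X.cls_pos_mem hJ (fix_neg ht))).1
    set y := wG D F (clsWS (fun j => D.neg (D.simple j)) φ J t⁻¹) with hy
    have hy' : h⁻¹ * y * h⁻¹⁻¹ =
        wG D F (clsWS (fun j => D.neg (D.simple j)) φ J (((a⁻¹ : Fˣ) : F) * t⁻¹)) := hneg _
    have hfix' : φ^[J.length] (((a⁻¹ : Fˣ) : F) * t⁻¹) = ((a⁻¹ : Fˣ) : F) * t⁻¹ := by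
      rw [iterate_ringHom, map_mul, ← iterate_ringHom, ← iterate_ringHom, fix_inv ht,
        Units.val_inv_eq_inv_val, fix_inv ha]
    set b₄ := (b₁ * v') * (torMap D F (tupCls D φ J (-(Units.mk0 t ht0))))⁻¹ *
      wG D F (clsWS D.simple φ J (-t)) * h with hb₄
    have hb₄B : b₄ ∈ D.borelSubgroup F :=
      mul_mem (mul_mem (mul_mem hb4 hk) hxa) (diagonal_le_borel hhH)
    have e3 : v = b₄ * (h⁻¹ * y * h⁻¹⁻¹) := by
      rw [e', hid, hb₄]; group
    have hyV : h⁻¹ * y * h⁻¹⁻¹ ∈ D.negUnipotent F := by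
      rw [hy']
      have := X.wG_cls_mem hJ (f := fun j => D.neg (D.simple j)) (by simp) hfix'
      -- class elements of negative roots lie in `V`
      obtain ⟨hcm, hce⟩ := this
      have hw : ∀ p ∈ clsWS (fun j => D.neg (D.simple j)) φ J (((a⁻¹ : Fˣ) : F) * t⁻¹),
          p.1 < D.nroots / 2 := by
        intro p hp
        obtain ⟨j, hj, ej⟩ := clsWS_letters _ φ J _ p hp
        rw [ej]
        have hpj := (VJ.S j (hO.lt j hj)).1
        have hposj := (refl_pos VJ (checkRP_of_mem hD) (hO.lt j hj)).1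
        show D.neg (D.simple j) < D.nroots / 2
        rw [V.neg_eq _ hpj]
        have := V.even
        omega
      exact neg_word_mem hD _ hw _ hce
    have hb₄V : b₄ ∈ D.negUnipotent F := by
      have : b₄ = v * (h⁻¹ * y * h⁻¹⁻¹)⁻¹ := by rw [e3]; group
      rw [this]
      exact mul_mem hv (inv_mem hyV)
    have hb₄1 : b₄ = 1 := by
      have : b₄ ∈ D.borelSubgroup F ⊓ D.negUnipotent F := ⟨hb₄B, hb₄V⟩
      rwa [borel_inf_neg VJ V1 H Tr P, Subgroup.mem_bot] at this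
    refine ⟨((a⁻¹ : Fˣ) : F) * t⁻¹, hfix', ?_⟩
    rw [e3, hb₄1, one_mul, hy']

end TwGrp

end Cfsg.Agent.Lib.Helper8.Chev
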