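import Cfsg.Agent.Lib.Helper8.ChevTa3

set_option autoImplicit false

/-! Twisted groups: an automorphism preserving `U¹` and `V¹` permutes the class root subgroups of
negative roots. -/

namespace Cfsg.Agent.Lib.Helper8.Chev

open Cfsg.Lie Matrix Cfsg.Agent.Lib.Helper3

namespace TwGrp

variable {D : ChevalleyDatum} {F : Type*} [Field F] {ρ ρ' π π' : ℕ → ℕ} {ε : ℕ → ℤ}
  {T : TwOk D ρ ρ' π π' ε} {φ : F →+* F} {cls : List (List ℕ)} {G1 : Subgroup (GL D.Idx F)}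

/-- a class element as an element of the twisted group -/
noncomputable def clsEl (X : TwGrp T φ cls G1) {J : List ℕ} (hJ : J ∈ cls) {f : ℕ → ℕ}
    (hf : f ∈ [D.simple, fun j => D.neg (D.simple j)]) {t : F} (ht : φ^[J.length] t = t) : ↥G1 :=
  ⟨wG D F (clsWS f φ J t), (X.wG_cls_mem hJ hf ht).1⟩

/-- the representative of a class as an element of the twisted group -/
noncomputable def nEl (X : TwGrp T φ cls G1) {J : List ℕ} (hJ : J ∈ cls) : ↥G1 := ⟨nP D F J, X.nP_cls_mem' hJ⟩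

/-- the facts used on the `(B, N)`-pair of a twisted group -/
structure IsBN (X : TwGrp T φ cls G1) (PP : Cfsg.BNPair ↥G1) : Prop where
  hB : PP.B = (D.borelSubgroup F ⊓ G1).subgroupOf G1
  hS : PP.S = {n : ↥G1 | (n : GL D.Idx F) ∈ {x | ∃ J ∈ cls, x = nP D F J}}

theorem exists_isBN (X : TwGrp T φ cls G1) : ∃ PP : Cfsg.BNPair ↥G1, X.IsBN PP := by
  obtain ⟨PP, h1, -, h3⟩ := X.bnpair
  exact ⟨PP, h1, h3⟩

theorem IsBN.mem_B {X : TwGrp T φ cls G1} {PP : Cfsg.BNPair ↥G1} (hP : X.IsBN PP) {g : ↥G1} :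
    g ∈ PP.B ↔ (g : GL D.Idx F) ∈ D.borelSubgroup F := by
  rw [hP.hB, Subgroup.mem_subgroupOf, Subgroup.mem_inf]
  exact ⟨fun h => h.1, fun h => ⟨h, g.2⟩⟩

theorem IsBN.nEl_mem {X : TwGrp T φ cls G1} {PP : Cfsg.BNPair ↥G1} (hP : X.IsBN PP)
    {J : List ℕ} (hJ : J ∈ cls) : X.nEl hJ ∈ PP.S := by
  rw [hP.hS]
  exact ⟨J, hJ, rfl⟩

theorem IsBN.exists_of_mem {X : TwGrp T φ cls G1} {PP : Cfsg.BNPair ↥G1} (hP : X.IsBN PP)
    {s : ↥G1} (hs : s ∈ PP.S) : ∃ J, ∃ hJ : J ∈ cls, s = X.nEl hJ := by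
  rw [hP.hS] at hs
  obtain ⟨J, hJ, e⟩ := hs
  exact ⟨J, hJ, Subtype.ext e⟩

/-- the class elements of negative roots lie in the minimal parabolic subgroup -/
theorem IsBN.cls_neg_mem_parabolic {X : TwGrp T φ cls G1} {PP : Cfsg.BNPair ↥G1} (hP : X.IsBN PP)
    {J : List ℕ} (hJ : J ∈ cls) {t : F} (ht : φ^[J.length] t = t) :
    X.clsEl hJ (f := fun j => D.neg (D.simple j)) (by simp) ht ∈ PP.parabolic {X.nEl hJ} := by
  have hD := X.hD
  have V := valid0_of_mem hD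
  have VJ := validJ_of_mem hD
  have H := validH_of_mem hD
  by_cases ht0 : t = 0
  · have : X.clsEl hJ (f := fun j => D.neg (D.simple j)) (by simp) ht = 1 := by
      apply Subtype.ext
      apply Units.ext
      show ((wG D F (clsWS (fun j => D.neg (D.simple j)) φ J t) : GL D.Idx F) :
        Matrix D.Idx D.Idx F) = 1
      rw [X.coe_cls hJ (by simp), ht0, wN_clsWS_zero V]
    rw [this]
    exact one_mem _
  · have ht' : φ^[J.length] t⁻¹ = t⁻¹ := fix_inv ht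
    have ht0' : t⁻¹ ≠ 0 := inv_ne_zero ht0
    have hid := X.nP_mul_cls hJ ht0' ht'
    rw [inv_inv] at hid
    -- the factors
    have hfixu : φ^[J.length] (((-(Units.mk0 t⁻¹ ht0') : Fˣ)) : F) = ((-(Units.mk0 t⁻¹ ht0') : Fˣ)) := by
      have : (((-(Units.mk0 t⁻¹ ht0') : Fˣ)) : F) = -t⁻¹ := by simp
      rw [this]
      exact fix_neg ht'
    have hhG := X.torMap_tupCls_mem hJ (-(Units.mk0 t⁻¹ ht0')) hfixu
    have hhH : torMap D F (tupCls D φ J (-(Units.mk0 t⁻¹ ht0'))) ∈ D.diagonalSubgroup F :=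
      torMap_mem VJ H _
    set hh : ↥G1 := ⟨_, hhG⟩ with hhdef
    have hxm := X.cls_pos_mem hJ (fix_neg ht')
    have hxp := X.cls_pos_mem hJ ht'
    set a : ↥G1 := ⟨_, (Subgroup.mem_inf.mp hxm).2⟩ with hadef
    set b : ↥G1 := ⟨_, (Subgroup.mem_inf.mp hxp).2⟩ with hbdef
    have e : X.clsEl hJ (f := fun j => D.neg (D.simple j)) (by simp) ht =
        a⁻¹ * hh * X.nEl hJ * b := by
      apply Subtype.ext
      show wG D F (clsWS (fun j => D.neg (D.simple j)) φ J t) =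
        (wG D F (clsWS D.simple φ J (-t⁻¹)))⁻¹ *
          torMap D F (tupCls D φ J (-(Units.mk0 t⁻¹ ht0'))) * nP D F J *
            wG D F (clsWS D.simple φ J t⁻¹)
      rw [mul_assoc, mul_assoc, hid]
      group
    have hBle : PP.B ≤ PP.parabolic {X.nEl hJ} := le_sup_left
    have haB : a ∈ PP.B := hP.mem_B.mpr (pos_le_borel (Subgroup.mem_inf.mp hxm).1)
    have hbB : b ∈ PP.B := hP.mem_B.mpr (pos_le_borel (Subgroup.mem_inf.mp hxp).1)
    have hhB : hh ∈ PP.B := hP.mem_B.mpr (diagonal_le_borel hhH)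
    have hsP : X.nEl hJ ∈ PP.parabolic {X.nEl hJ} :=
      (le_sup_right : Subgroup.closure {X.nEl hJ} ≤ PP.parabolic {X.nEl hJ})
        (Subgroup.subset_closure rfl)
    rw [e]
    exact mul_mem (mul_mem (mul_mem (inv_mem (hBle haB)) (hBle hhB)) hsP) (hBle hbB)

/-- an automorphism preserving `U¹` and `V¹` maps the class root subgroups of negative roots to
such subgroups, as it maps the minimal parabolic subgroups -/
theorem IsBN.neg_simple_perm [Finite ↥G1] {X : TwGrp T φ cls G1} {PP : Cfsg.BNPair ↥G1}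
    (hP : X.IsBN PP) {θ : MulAut ↥G1} (hU : PresT θ (D.posUnipotent F))
    (hV : PresT θ (D.negUnipotent F)) {J : List ℕ} (hJ : J ∈ cls) :
    ∃ J', ∃ hJ' : J' ∈ cls,
      (PP.parabolic {X.nEl hJ}).map θ.toMonoidHom = PP.parabolic {X.nEl hJ'} ∧
      ∀ (t : F) (ht : φ^[J.length] t = t), ∃ (t' : F) (ht' : φ^[J'.length] t' = t'),
        θ (X.clsEl hJ (f := fun j => D.neg (D.simple j)) (by simp) ht) =
          X.clsEl hJ' (f := fun j => D.neg (D.simple j)) (by simp) ht' := by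
  have hD := X.hD
  have V := valid0_of_mem hD
  have V1 := valid1_of_mem hD
  have VJ := validJ_of_mem hD
  have H := validH_of_mem hD
  have P := posP_of_mem hD
  have Tr := triP_of_mem hD
  have hB := X.presT_borel hU
  have hBi := X.presT_borel hU.inv
  have h1 : ∀ b ∈ PP.B, θ b ∈ PP.B := fun b hb => hP.mem_B.mpr (hB b (hP.mem_B.mp hb))
  have h2 : ∀ b ∈ PP.B, (θ⁻¹ : MulAut ↥G1) b ∈ PP.B := fun b hb =>
    hP.mem_B.mpr (hBi b (hP.mem_B.mp hb))
  obtain ⟨s', hs', hmap⟩ := aut_min_parabolic PP θ h1 h2 (hP.nEl_mem hJ)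
  obtain ⟨J', hJ', rfl⟩ := hP.exists_of_mem hs'
  refine ⟨J', hJ', hmap, ?_⟩
  intro t ht
  set g := X.clsEl hJ (f := fun j => D.neg (D.simple j)) (by simp) ht with hg
  have hgP : g ∈ PP.parabolic {X.nEl hJ} := hP.cls_neg_mem_parabolic hJ ht
  have hθg : θ g ∈ PP.parabolic {X.nEl hJ'} := by
    rw [← hmap]
    exact ⟨g, hgP, rfl⟩
  have hgV : (g : GL D.Idx F) ∈ D.negUnipotent F := by
    have hw : ∀ p ∈ clsWS (fun j => D.neg (D.simple j)) φ J t, p.1 < D.nroots / 2 := by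
      intro p hp
      obtain ⟨j, hj, ej⟩ := clsWS_letters _ φ J _ p hp
      rw [ej]
      have hlt := (X.cd.ok J hJ).lt j hj
      have hpj := (VJ.S j hlt).1
      have hposj := (refl_pos VJ (checkRP_of_mem hD) hlt).1
      show D.neg (D.simple j) < D.nroots / 2
      rw [V.neg_eq _ hpj]
      have := V.even
      omega
    exact neg_word_mem hD _ hw _ (X.coe_cls hJ (by simp) t)
  have hθgV : ((θ g : ↥G1) : GL D.Idx F) ∈ D.negUnipotent F := hV g hgV
  have hcases : θ g ∈ (PP.parabolic {X.nEl hJ'} : Set ↥G1) := hθg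
  rw [BN.parabolic_singleton PP hs'] at hcases
  rcases hcases with hc | hc
  · have : ((θ g : ↥G1) : GL D.Idx F) ∈ D.borelSubgroup F ⊓ D.negUnipotent F :=
      ⟨hP.mem_B.mp hc, hθgV⟩
    rw [borel_inf_neg VJ V1 H Tr P, Subgroup.mem_bot] at this
    refine ⟨0, by rw [iterate_ringHom, map_zero], ?_⟩
    apply Subtype.ext
    rw [this]
    apply Units.ext
    show (1 : Matrix D.Idx D.Idx F) =
      ((wG D F (clsWS (fun j => D.neg (D.simple j)) φ J' 0) : GL D.Idx F) : Matrix D.Idx D.Idx F)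
    rw [X.coe_cls hJ' (by simp), wN_clsWS_zero V]
  · rw [BN.mem_C] at hc
    obtain ⟨b, hb, b', hb', e⟩ := hc
    have e' : ((θ g : ↥G1) : GL D.Idx F) = (b : GL D.Idx F) * nP D F J' * (b' : GL D.Idx F) := by
      rw [e]
      rfl
    obtain ⟨t', ht', e2⟩ := X.neg_inf_cell hJ' hθgV
      (Subgroup.mem_inf.mpr ⟨hP.mem_B.mp hb, b.2⟩) (Subgroup.mem_inf.mpr ⟨hP.mem_B.mp hb', b'.2⟩) e'
    exact ⟨t', ht', Subtype.ext e2⟩

end TwGrp

end Cfsg.Agent.Lib.Helper8.Chev
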