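import Cfsg.Agent.Lib.Helper8.ChevTa4

set_option autoImplicit false

/-! Twisted groups: conjugating class elements by the longest element. -/

namespace Cfsg.Agent.Lib.Helper8.Chev

open Cfsg.Lie Matrix Cfsg.Agent.Lib.Helper3

section

variable {D : ChevalleyDatum} {F : Type*} [Field F]

theorem unegW_nil : UnegW D F [] = ⊥ := by
  unfold UnegW
  rw [Subgroup.closure_eq_bot_iff]
  rintro x ⟨r, t, h1, h2, h3, -⟩
  exfalso
  have : reflWord D [] r = r := rfl
  omega

/-- two words making all the positive roots negative act in the same way on the roots -/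
theorem full_unique (hD : D ∈ [chevG2, chevB2, chevD4, chevF4, chevE6, chevE7, chevE8])
    {l₁ l₂ : List ℕ} (hl₁ : ∀ i ∈ l₁, i < D.rank) (hl₂ : ∀ i ∈ l₂, i < D.rank)
    (h₁ : ∀ r, D.nroots / 2 ≤ r → r < D.nroots → reflWord D l₁ r < D.nroots / 2)
    (h₂ : ∀ r, D.nroots / 2 ≤ r → r < D.nroots → reflWord D l₂ r < D.nroots / 2) :
    ∀ r < D.nroots, reflWord D l₁ r = reflWord D l₂ r := by
  have VJ := validJ_of_mem hD
  have H := validH_of_mem hD
  have hI := checkInv_of_mem hD
  obtain ⟨-, -, hrp⟩ := full_props hD hl₁ h₁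
  have hlr : ∀ i ∈ l₁.reverse, i < D.rank := fun i hi => hl₁ i (List.mem_reverse.mp hi)
  have hll : ∀ i ∈ l₁.reverse ++ l₂, i < D.rank := by
    intro i hi
    rcases List.mem_append.mp hi with h | h
    · exact hlr i h
    · exact hl₂ i h
  have hz : lenL D (l₁.reverse ++ l₂) = 0 := by
    by_contra hne
    obtain ⟨k, hk, hneg⟩ := exists_simple_neg hD hll (Nat.pos_of_ne_zero hne)
    apply hneg
    rw [reflWord_append]
    have hpk := (VJ.S k hk).1
    exact hrp _ (h₂ _ (refl_pos VJ (checkRP_of_mem hD) hk).1 hpk)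
  have htriv := reflWord_of_lenL_zero hD hll hz
  intro r hr
  have h3 := htriv r hr
  rw [reflWord_append] at h3
  have h4 := reflWord_reverse_cancel VJ H.nS hI hl₁ (reflWord_lt VJ H.nS hl₂ hr)
  rw [h3] at h4
  exact h4

/-- conjugating a word in root elements into `V` -/
theorem conj_word_neg (hD : D ∈ [chevG2, chevB2, chevD4, chevF4, chevE6, chevE7, chevE8])
    {n : GL D.Idx F} {σ : ℕ → ℕ} (hσ : RootPerm D F (n : Matrix D.Idx D.Idx F) σ) :
    ∀ (w : List (ℕ × F)), (∀ p ∈ w, p.1 < D.nroots ∧ σ p.1 < D.nroots / 2) →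
      n * wG D F w * n⁻¹ ∈ D.negUnipotent F := by
  have V := valid0_of_mem hD
  have V1 := valid1_of_mem hD
  have P := posP_of_mem hD
  intro w
  induction w with
  | nil =>
    intro _
    have : wG D F ([] : List (ℕ × F)) = 1 := by
      apply Units.ext
      rw [coe_wG V V1 _ (by simp), wN_nil, Units.val_one]
    rw [this, mul_one, mul_inv_cancel]
    exact one_mem _
  | cons p w ih =>
    intro hw
    obtain ⟨hp, hneg⟩ := hw p List.mem_cons_self
    have hw' : ∀ q ∈ w, q.1 < D.nroots ∧ σ q.1 < D.nroots / 2 :=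
      fun q hq => hw q (List.mem_cons_of_mem _ hq)
    obtain ⟨gx, hgx⟩ := exists_unit_x V V1 hp p.2
    have e : wG D F (p :: w) = gx * wG D F w := by
      apply Units.ext
      rw [coe_wG V V1 _ (fun q hq => (hw q hq).1), wN_cons, Units.val_mul, hgx, x_eq_xN,
        coe_wG V V1 _ (fun q hq => (hw' q hq).1)]
    obtain ⟨ε, he⟩ := rootPerm_conj hσ hp p.2 gx hgx
    have h1 : n * gx * n⁻¹ ∈ D.negUnipotent F :=
      Subgroup.subset_closure ⟨_, _, (P _ (hσ _ hp).1).2.mpr hneg, he⟩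
    have e2 : n * wG D F (p :: w) * n⁻¹ = (n * gx * n⁻¹) * (n * wG D F w * n⁻¹) := by
      rw [e]; group
    rw [e2]
    exact mul_mem h1 (ih hw')

/-- conjugating a word in root elements into `U` -/
theorem conj_word_pos (hD : D ∈ [chevG2, chevB2, chevD4, chevF4, chevE6, chevE7, chevE8])
    {n : GL D.Idx F} {σ : ℕ → ℕ} (hσ : RootPerm D F (n : Matrix D.Idx D.Idx F) σ) :
    ∀ (w : List (ℕ × F)), (∀ p ∈ w, p.1 < D.nroots ∧ D.nroots / 2 ≤ σ p.1) →
      n * wG D F w * n⁻¹ ∈ D.posUnipotent F := by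
  have V := valid0_of_mem hD
  have V1 := valid1_of_mem hD
  have P := posP_of_mem hD
  intro w
  induction w with
  | nil =>
    intro _
    have : wG D F ([] : List (ℕ × F)) = 1 := by
      apply Units.ext
      rw [coe_wG V V1 _ (by simp), wN_nil, Units.val_one]
    rw [this, mul_one, mul_inv_cancel]
    exact one_mem _
  | cons p w ih =>
    intro hw
    obtain ⟨hp, hpos⟩ := hw p List.mem_cons_self
    have hw' : ∀ q ∈ w, q.1 < D.nroots ∧ D.nroots / 2 ≤ σ q.1 :=
      fun q hq => hw q (List.mem_cons_of_mem _ hq)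
    obtain ⟨gx, hgx⟩ := exists_unit_x V V1 hp p.2
    have e : wG D F (p :: w) = gx * wG D F w := by
      apply Units.ext
      rw [coe_wG V V1 _ (fun q hq => (hw q hq).1), wN_cons, Units.val_mul, hgx, x_eq_xN,
        coe_wG V V1 _ (fun q hq => (hw' q hq).1)]
    obtain ⟨ε, he⟩ := rootPerm_conj hσ hp p.2 gx hgx
    have h1 : n * gx * n⁻¹ ∈ D.posUnipotent F :=
      Subgroup.subset_closure ⟨_, _, (P _ (hσ _ hp).1).1.mpr hpos, he⟩
    have e2 : n * wG D F (p :: w) * n⁻¹ = (n * gx * n⁻¹) * (n * wG D F w * n⁻¹) := by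
      rw [e]; group
    rw [e2]
    exact mul_mem h1 (ih hw')

end

namespace TwGrp

variable {D : ChevalleyDatum} {F : Type*} [Field F] {ρ ρ' π π' : ℕ → ℕ} {ε : ℕ → ℤ}
  {T : TwOk D ρ ρ' π π' ε} {φ : F →+* F} {cls : List (List ℕ)} {G1 : Subgroup (GL D.Idx F)}

/-- an element of `U¹` which `n_J` conjugates into `V` is a class element -/
theorem cls_of_conj_neg (X : TwGrp T φ cls G1) {J : List ℕ} (hJ : J ∈ cls) {u : GL D.Idx F}
    (hu : u ∈ D.posUnipotent F ⊓ G1)
    (hc : nP D F J * u * (nP D F J)⁻¹ ∈ D.negUnipotent F) :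
    ∃ t : F, φ^[J.length] t = t ∧ u = wG D F (clsWS D.simple φ J t) := by
  have hD := X.hD
  have hJok := X.cd.ok J hJ
  have hO := hJok.orthL
  obtain ⟨huU, huG⟩ := Subgroup.mem_inf.mp hu
  have h1 := mem_unegW_of_conj_neg hD (hO.good hD) huU hc
  have hg : GoodW D (([] : List (List ℕ)).flatten ++ J) := by
    rw [List.flatten_nil, List.nil_append]; exact hO.good hD
  have h1' : u ∈ UnegW D F (([] : List (List ℕ)).flatten ++ J) := by
    rw [List.flatten_nil, List.nil_append]; exact h1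
  obtain ⟨v, hv, -, t, ht, gx, hgx, e⟩ :=
    fix_decomp hD T φ (Js := []) (by simp) hJok hg h1' (X.le_fix huG)
  rw [List.flatten_nil, unegW_nil, Subgroup.mem_bot] at hv
  refine ⟨t, ht, ?_⟩
  rw [e, hv]
  have : gx = wG D F (clsWS D.simple φ J t) := by
    apply Units.ext
    rw [hgx, X.coe_cls hJ (by simp)]
  rw [this]
  group

end TwGrp

end Cfsg.Agent.Lib.Helper8.Chev
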