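import Cfsg.Agent.Lib.Helper8.ChevTa5

set_option autoImplicit false

/-! Twisted groups: the longest element exchanges the class root subgroups of a class, and an
automorphism preserving `U¹`, `V¹` and the negative class root subgroups preserves the positive
ones. -/

namespace Cfsg.Agent.Lib.Helper8.Chev

open Cfsg.Lie Matrix Cfsg.Agent.Lib.Helper3

/-- the longest element maps the negatives of the roots of a class to the roots of the class -/
structure W0Cls (D : ChevalleyDatum) (cls : List (List ℕ)) : Prop where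
  ex : ∃ l : List ℕ, (∀ i ∈ l, i < D.rank) ∧
    (∀ r, D.nroots / 2 ≤ r → r < D.nroots → reflWord D l r < D.nroots / 2) ∧
    (∀ J ∈ cls, ∀ j ∈ J, ∃ i ∈ J, reflWord D l (D.neg (D.simple j)) = D.simple i) ∧
    (∀ J ∈ cls, ∀ j ∈ J, ∃ i ∈ J, reflWord D l.reverse (D.simple j) = D.neg (D.simple i))

namespace TwGrp

variable {D : ChevalleyDatum} {F : Type*} [Field F] {ρ ρ' π π' : ℕ → ℕ} {ε : ℕ → ℤ}
  {T : TwOk D ρ ρ' π π' ε} {φ : F →+* F} {cls : List (List ℕ)} {G1 : Subgroup (GL D.Idx F)}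

/-- an element of `V¹` in a minimal parabolic subgroup is a class element -/
theorem IsBN.neg_of_mem_parabolic {X : TwGrp T φ cls G1} {PP : Cfsg.BNPair ↥G1} (hP : X.IsBN PP)
    {J : List ℕ} (hJ : J ∈ cls) {v : ↥G1} (hvV : (v : GL D.Idx F) ∈ D.negUnipotent F)
    (hvP : v ∈ PP.parabolic {X.nEl hJ}) :
    ∃ t : F, φ^[J.length] t = t ∧
      (v : GL D.Idx F) = wG D F (clsWS (fun j => D.neg (D.simple j)) φ J t) := by
  have hD := X.hD
  have V := valid0_of_mem hD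
  have V1 := valid1_of_mem hD
  have VJ := validJ_of_mem hD
  have H := validH_of_mem hD
  have P := posP_of_mem hD
  have Tr := triP_of_mem hD
  have hcases : v ∈ (PP.parabolic {X.nEl hJ} : Set ↥G1) := hvP
  rw [BN.parabolic_singleton PP (hP.nEl_mem hJ)] at hcases
  rcases hcases with hc | hc
  · have : (v : GL D.Idx F) ∈ D.borelSubgroup F ⊓ D.negUnipotent F := ⟨hP.mem_B.mp hc, hvV⟩
    rw [borel_inf_neg VJ V1 H Tr P, Subgroup.mem_bot] at this
    refine ⟨0, by rw [iterate_ringHom, map_zero], ?_⟩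
    rw [this]
    apply Units.ext
    show (1 : Matrix D.Idx D.Idx F) =
      ((wG D F (clsWS (fun j => D.neg (D.simple j)) φ J 0) : GL D.Idx F) : Matrix D.Idx D.Idx F)
    rw [X.coe_cls hJ (by simp), wN_clsWS_zero V]
  · rw [BN.mem_C] at hc
    obtain ⟨b, hb, b', hb', e⟩ := hc
    have e' : (v : GL D.Idx F) = (b : GL D.Idx F) * nP D F J * (b' : GL D.Idx F) := by
      rw [e]
      rfl
    exact X.neg_inf_cell hJ hvV
      (Subgroup.mem_inf.mpr ⟨hP.mem_B.mp hb, b.2⟩) (Subgroup.mem_inf.mpr ⟨hP.mem_B.mp hb', b'.2⟩) e'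

/-- the letters of a class word -/
theorem cls_letters_lt (X : TwGrp T φ cls G1) {J : List ℕ} (hJ : J ∈ cls) {f : ℕ → ℕ}
    (hf : f ∈ [D.simple, fun j => D.neg (D.simple j)]) (t : F) {p : ℕ × F}
    (hp : p ∈ clsWS f φ J t) : ∃ j ∈ J, j < D.rank ∧ p.1 = f j ∧ p.1 < D.nroots := by
  have V := valid0_of_mem X.hD
  have VJ := validJ_of_mem X.hD
  obtain ⟨j, hj, e⟩ := clsWS_letters f φ J t p hp
  have hlt := (X.cd.ok J hJ).lt j hj
  have hs : SgnF D f := by
    simp only [List.mem_cons, List.not_mem_nil, or_false] at hf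
    rcases hf with rfl | rfl
    · exact sgnF_simple _
    · exact sgnF_neg _
  exact ⟨j, hj, hlt, e, by rw [e]; exact sgnF_lt V VJ hs hlt⟩

/-- the longest element: a representative in the twisted group given by a word -/
theorem w0_word (X : TwGrp T φ cls G1) :
    ∃ l₀ : List ℕ, (∀ i ∈ l₀, i < D.rank) ∧ nP D F l₀ ∈ G1 ∧
      (∀ r, D.nroots / 2 ≤ r → r < D.nroots → reflWord D l₀ r < D.nroots / 2) := by
  obtain ⟨Js, hJs, -, hfull⟩ := X.w0
  exact ⟨Js.flatten, X.flatten_lt hJs, X.nP_mem hJs, hfull⟩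

/-- conjugating a class element of negative roots by the longest element -/
theorem conj_w0_neg (X : TwGrp T φ cls G1) (W : W0Cls D cls) {l₀ : List ℕ}
    (hl₀ : ∀ i ∈ l₀, i < D.rank) (hn₀ : nP D F l₀ ∈ G1)
    (hfull : ∀ r, D.nroots / 2 ≤ r → r < D.nroots → reflWord D l₀ r < D.nroots / 2)
    {J : List ℕ} (hJ : J ∈ cls) {s : F} (hs : φ^[J.length] s = s) :
    ∃ t : F, φ^[J.length] t = t ∧
      nP D F l₀ * wG D F (clsWS (fun j => D.neg (D.simple j)) φ J s) * (nP D F l₀)⁻¹ =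
        wG D F (clsWS D.simple φ J t) := by
  have hD := X.hD
  have V := valid0_of_mem hD
  have V1 := valid1_of_mem hD
  have VJ := validJ_of_mem hD
  have H := validH_of_mem hD
  obtain ⟨l, hl, hlfull, hs1, -⟩ := W.ex
  have heq := full_unique hD hl₀ hl hfull hlfull
  have hO := (X.cd.ok J hJ).orthL
  have hP₀ := (rootPermN_nP (F := F) VJ V1 H.nS _ hl₀).rootPerm
  have hPJ := (rootPermN_nP (F := F) VJ V1 H.nS _ hO.lt).rootPerm
  set y := wG D F (clsWS (fun j => D.neg (D.simple j)) φ J s) with hy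
  have hyG : y ∈ G1 := (X.wG_cls_mem hJ (by simp) hs).1
  -- the images of the letters
  have hlet : ∀ p ∈ clsWS (fun j => D.neg (D.simple j)) φ J s,
      p.1 < D.nroots ∧ ∃ i ∈ J, reflWord D l₀ p.1 = D.simple i := by
    intro p hp
    obtain ⟨j, hj, hjlt, e, hplt⟩ := X.cls_letters_lt hJ (by simp) s hp
    refine ⟨hplt, ?_⟩
    obtain ⟨i, hi, ei⟩ := hs1 J hJ j hj
    exact ⟨i, hi, by rw [heq _ hplt, e, ei]⟩
  have hU : nP D F l₀ * y * (nP D F l₀)⁻¹ ∈ D.posUnipotent F := by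
    apply conj_word_pos hD hP₀
    intro p hp
    obtain ⟨hplt, i, hi, ei⟩ := hlet p hp
    exact ⟨hplt, by rw [ei]; exact (refl_pos VJ (checkRP_of_mem hD) (hO.lt i hi)).1⟩
  have hG : nP D F l₀ * y * (nP D F l₀)⁻¹ ∈ G1 := mul_mem (mul_mem hn₀ hyG) (inv_mem hn₀)
  have hV : nP D F J * (nP D F l₀ * y * (nP D F l₀)⁻¹) * (nP D F J)⁻¹ ∈ D.negUnipotent F := by
    have hPm : RootPerm D F ((nP D F J * nP D F l₀ : GL D.Idx F) : Matrix D.Idx D.Idx F)
        (reflWord D J ∘ reflWord D l₀) := by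
      rw [Units.val_mul]
      exact hPJ.mul hP₀
    have := conj_word_neg hD hPm (clsWS (fun j => D.neg (D.simple j)) φ J s) (by
      intro p hp
      obtain ⟨hplt, i, hi, ei⟩ := hlet p hp
      refine ⟨hplt, ?_⟩
      show reflWord D J (reflWord D l₀ p.1) < D.nroots / 2
      rw [ei, reflWord_cls_simple hD hO i hi]
      have hpi := (VJ.S i (hO.lt i hi)).1
      have hposi := (refl_pos VJ (checkRP_of_mem hD) (hO.lt i hi)).1
      rw [V.neg_eq _ hpi]
      have := V.even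
      omega)
    have e : nP D F J * (nP D F l₀ * y * (nP D F l₀)⁻¹) * (nP D F J)⁻¹ =
        (nP D F J * nP D F l₀) * y * (nP D F J * nP D F l₀)⁻¹ := by group
    rw [e]
    exact this
  exact X.cls_of_conj_neg hJ (Subgroup.mem_inf.mpr ⟨hU, hG⟩) hV

/-- conjugating a class element of positive roots by the inverse of the longest element -/
theorem IsBN.conj_w0_pos {X : TwGrp T φ cls G1} {PP : Cfsg.BNPair ↥G1} (hP : X.IsBN PP)
    (W : W0Cls D cls) {l₀ : List ℕ}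
    (hl₀ : ∀ i ∈ l₀, i < D.rank) (hn₀ : nP D F l₀ ∈ G1)
    (hfull : ∀ r, D.nroots / 2 ≤ r → r < D.nroots → reflWord D l₀ r < D.nroots / 2)
    {J : List ℕ} (hJ : J ∈ cls) {t : F} (ht : φ^[J.length] t = t) :
    ∃ s : F, φ^[J.length] s = s ∧
      (nP D F l₀)⁻¹ * wG D F (clsWS D.simple φ J t) * nP D F l₀ =
        wG D F (clsWS (fun j => D.neg (D.simple j)) φ J s) := by
  have hD := X.hD
  have V := valid0_of_mem hD
  have V1 := valid1_of_mem hD
  have VJ := validJ_of_mem hD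
  have H := validH_of_mem hD
  have hI := checkInv_of_mem hD
  obtain ⟨l, hl, hlfull, -, hs2⟩ := W.ex
  have hl₀r : ∀ i ∈ l₀.reverse, i < D.rank := fun i hi => hl₀ i (List.mem_reverse.mp hi)
  have hlr : ∀ i ∈ l.reverse, i < D.rank := fun i hi => hl i (List.mem_reverse.mp hi)
  have heq := full_unique hD hl₀r hlr (full_props hD hl₀ hfull).2.1 (full_props hD hl hlfull).2.1
  have hO := (X.cd.ok J hJ).orthL
  have hP₀ := (rootPermN_nP (F := F) VJ V1 H.nS _ hl₀).rootPerm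
  have hPi : RootPerm D F (((nP D F l₀)⁻¹ : GL D.Idx F) : Matrix D.Idx D.Idx F)
      (reflWord D l₀.reverse) := by
    apply hP₀.inv_unit
    intro s hs
    exact ⟨reflWord_lt VJ H.nS hl₀r hs, reflWord_reverse_cancel VJ H.nS hI hl₀ hs⟩
  have hPJ := (rootPermN_nP (F := F) VJ V1 H.nS _ hO.lt).rootPerm
  set x := wG D F (clsWS D.simple φ J t) with hx
  have hxG : x ∈ G1 := (X.wG_cls_mem hJ (by simp) ht).1
  have hlet : ∀ p ∈ clsWS D.simple φ J t,
      p.1 < D.nroots ∧ ∃ i ∈ J, reflWord D l₀.reverse p.1 = D.neg (D.simple i) := by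
    intro p hp
    obtain ⟨j, hj, hjlt, e, hplt⟩ := X.cls_letters_lt hJ (by simp) t hp
    refine ⟨hplt, ?_⟩
    obtain ⟨i, hi, ei⟩ := hs2 J hJ j hj
    exact ⟨i, hi, by rw [heq _ hplt, e, ei]⟩
  have hnegi : ∀ i ∈ J, D.neg (D.simple i) < D.nroots / 2 := by
    intro i hi
    have hpi := (VJ.S i (hO.lt i hi)).1
    have hposi := (refl_pos VJ (checkRP_of_mem hD) (hO.lt i hi)).1
    rw [V.neg_eq _ hpi]
    have := V.even
    omega
  have hV : (nP D F l₀)⁻¹ * x * (nP D F l₀)⁻¹⁻¹ ∈ D.negUnipotent F := by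
    apply conj_word_neg hD hPi
    intro p hp
    obtain ⟨hplt, i, hi, ei⟩ := hlet p hp
    exact ⟨hplt, by rw [ei]; exact hnegi i hi⟩
  rw [inv_inv] at hV
  have hG : (nP D F l₀)⁻¹ * x * nP D F l₀ ∈ G1 := mul_mem (mul_mem (inv_mem hn₀) hxG) hn₀
  -- `u = n_J y n_J⁻¹ ∈ U¹`
  have hU : nP D F J * ((nP D F l₀)⁻¹ * x * nP D F l₀) * (nP D F J)⁻¹ ∈ D.posUnipotent F := by
    have hPm : RootPerm D F ((nP D F J * (nP D F l₀)⁻¹ : GL D.Idx F) : Matrix D.Idx D.Idx F)
        (reflWord D J ∘ reflWord D l₀.reverse) := by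
      rw [Units.val_mul]
      exact hPJ.mul hPi
    have := conj_word_pos hD hPm (clsWS D.simple φ J t) (by
      intro p hp
      obtain ⟨hplt, i, hi, ei⟩ := hlet p hp
      refine ⟨hplt, ?_⟩
      show D.nroots / 2 ≤ reflWord D J (reflWord D l₀.reverse p.1)
      have hpi := (VJ.S i (hO.lt i hi)).1
      rw [ei, reflWord_neg VJ H.nS hO.lt hpi, reflWord_cls_simple hD hO i hi]
      have hn := V.neg_lt hpi
      have hposi := (refl_pos VJ (checkRP_of_mem hD) (hO.lt i hi)).1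
      rw [V.neg_eq _ hn, V.neg_eq _ hpi]
      have := V.even
      omega)
    have e : nP D F J * ((nP D F l₀)⁻¹ * x * nP D F l₀) * (nP D F J)⁻¹ =
        (nP D F J * (nP D F l₀)⁻¹) * x * (nP D F J * (nP D F l₀)⁻¹)⁻¹ := by group
    rw [e]
    exact this
  -- `y` lies in the minimal parabolic subgroup
  set y : ↥G1 := ⟨_, hG⟩ with hydef
  have hnJ := X.nP_cls_mem' hJ
  have huG : nP D F J * ((nP D F l₀)⁻¹ * x * nP D F l₀) * (nP D F J)⁻¹ ∈ G1 :=
    mul_mem (mul_mem hnJ hG) (inv_mem hnJ)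
  set u : ↥G1 := ⟨_, huG⟩ with hudef
  have hyP : y ∈ PP.parabolic {X.nEl hJ} := by
    have e : y = (X.nEl hJ)⁻¹ * u * X.nEl hJ := by
      apply Subtype.ext
      show (nP D F l₀)⁻¹ * x * nP D F l₀ =
        (nP D F J)⁻¹ * (nP D F J * ((nP D F l₀)⁻¹ * x * nP D F l₀) * (nP D F J)⁻¹) * nP D F J
      group
    have hsP : X.nEl hJ ∈ PP.parabolic {X.nEl hJ} :=
      (le_sup_right : Subgroup.closure {X.nEl hJ} ≤ PP.parabolic {X.nEl hJ})
        (Subgroup.subset_closure rfl)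
    have huP : u ∈ PP.parabolic {X.nEl hJ} :=
      (le_sup_left : PP.B ≤ PP.parabolic {X.nEl hJ}) (hP.mem_B.mpr (pos_le_borel hU))
    rw [e]
    exact mul_mem (mul_mem (inv_mem hsP) huP) hsP
  exact hP.neg_of_mem_parabolic hJ hV hyP

/-- an automorphism preserving `U¹`, `V¹`: if all such automorphisms preserve the class root
subgroups of negative roots, they preserve those of positive roots -/
theorem IsBN.pos_of_neg [Finite ↥G1] {X : TwGrp T φ cls G1} {PP : Cfsg.BNPair ↥G1} (hP : X.IsBN PP)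
    (W : W0Cls D cls)
    (hneg : ∀ θ : MulAut ↥G1, PresT θ (D.posUnipotent F) → PresT θ (D.negUnipotent F) →
      ∀ (J : List ℕ) (hJ : J ∈ cls) (t : F) (ht : φ^[J.length] t = t),
        ∃ (t' : F) (ht' : φ^[J.length] t' = t'),
          θ (X.clsEl hJ (f := fun j => D.neg (D.simple j)) (by simp) ht) =
            X.clsEl hJ (f := fun j => D.neg (D.simple j)) (by simp) ht')
    {θ : MulAut ↥G1} (hU : PresT θ (D.posUnipotent F)) (hV : PresT θ (D.negUnipotent F))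
    {J : List ℕ} (hJ : J ∈ cls) {t : F} (ht : φ^[J.length] t = t) :
    ∃ (t' : F) (ht' : φ^[J.length] t' = t'),
      θ (X.clsEl hJ (f := D.simple) (by simp) ht) = X.clsEl hJ (f := D.simple) (by simp) ht' := by
  have hD := X.hD
  have V1 := valid1_of_mem hD
  have VJ := validJ_of_mem hD
  have H := validH_of_mem hD
  have hI := checkInv_of_mem hD
  obtain ⟨l₀, hl₀, hn₀, hfull⟩ := X.w0_word
  obtain ⟨h1, h2, h3⟩ := full_props hD hl₀ hfull
  have hl₀r : ∀ i ∈ l₀.reverse, i < D.rank := fun i hi => hl₀ i (List.mem_reverse.mp hi)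
  have hP₀ := (rootPermN_nP (F := F) VJ V1 H.nS _ hl₀).rootPerm
  have hPi : RootPerm D F (((nP D F l₀)⁻¹ : GL D.Idx F) : Matrix D.Idx D.Idx F)
      (reflWord D l₀.reverse) := by
    apply hP₀.inv_unit
    intro s hs
    exact ⟨reflWord_lt VJ H.nS hl₀r hs, reflWord_reverse_cancel VJ H.nS hI hl₀ hs⟩
  set c : ↥G1 := ⟨nP D F l₀, hn₀⟩ with hc
  obtain ⟨ψ, hψ⟩ : ∃ ψ : MulAut ↥G1, ψ = MulAut.conj c⁻¹ * θ * MulAut.conj c := ⟨_, rfl⟩
  have hψapp : ∀ g : ↥G1, ((ψ g : ↥G1) : GL D.Idx F) =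
      (nP D F l₀)⁻¹ * ((θ (c * g * c⁻¹) : ↥G1) : GL D.Idx F) * (nP D F l₀)⁻¹⁻¹ := by
    intro g
    rw [hψ, MulAut.mul_apply, MulAut.mul_apply, MulAut.conj_apply, MulAut.conj_apply]
    rfl
  have hψU : PresT ψ (D.posUnipotent F) := by
    intro g hg
    rw [hψapp]
    apply conj_neg_le_pos hD hPi h3
    refine ⟨_, hV _ ?_, rfl⟩
    exact conj_pos_le_neg hD hP₀ hfull ⟨_, hg, rfl⟩
  have hψV : PresT ψ (D.negUnipotent F) := by
    intro g hg
    rw [hψapp]
    apply conj_pos_le_neg hD hPi h2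
    refine ⟨_, hU _ ?_, rfl⟩
    exact conj_neg_le_pos hD hP₀ h1 ⟨_, hg, rfl⟩
  -- `x_J(t) = n₀ x_{-J}(s) n₀⁻¹`
  obtain ⟨s, hs, es⟩ := hP.conj_w0_pos W hl₀ hn₀ hfull hJ ht
  obtain ⟨s', hs', es'⟩ := hneg ψ hψU hψV J hJ s hs
  obtain ⟨t', ht', et'⟩ := X.conj_w0_neg W hl₀ hn₀ hfull hJ hs'
  refine ⟨t', ht', ?_⟩
  have e1 : X.clsEl hJ (f := D.simple) (by simp) ht =
      c * X.clsEl hJ (f := fun j => D.neg (D.simple j)) (by simp) hs * c⁻¹ := by
    apply Subtype.ext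
    show wG D F (clsWS D.simple φ J t) =
      nP D F l₀ * wG D F (clsWS (fun j => D.neg (D.simple j)) φ J s) * (nP D F l₀)⁻¹
    rw [← es]
    group
  have e2 : ((ψ (X.clsEl hJ (f := fun j => D.neg (D.simple j)) (by simp) hs) : ↥G1) :
      GL D.Idx F) = ((X.clsEl hJ (f := fun j => D.neg (D.simple j)) (by simp) hs' : ↥G1) :
      GL D.Idx F) := by rw [es']
  rw [hψapp] at e2
  apply Subtype.ext
  show ((θ (X.clsEl hJ (f := D.simple) (by simp) ht) : ↥G1) : GL D.Idx F) =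
    wG D F (clsWS D.simple φ J t')
  rw [e1, ← et']
  have e3 : ((X.clsEl hJ (f := fun j => D.neg (D.simple j)) (by simp) hs' : ↥G1) : GL D.Idx F) =
      wG D F (clsWS (fun j => D.neg (D.simple j)) φ J s') := rfl
  rw [← e3, ← e2]
  group

end TwGrp

end Cfsg.Agent.Lib.Helper8.Chev
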