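import Cfsg.Agent.Lib.Helper8.ChevTw32

set_option autoImplicit false
set_option maxRecDepth 100000

/-! The order of `³D₄(q)`. -/

namespace Cfsg.Agent.Lib.Helper8.Chev

open Cfsg.Lie Matrix

/-- representatives of the twisted Weyl group of `³D₄` (dihedral of order 12) -/
def repsD4 : List (List (List ℕ)) :=
  [[], [[1]], [[0, 2, 3]], [[1], [0, 2, 3]], [[0, 2, 3], [1]], [[1], [0, 2, 3], [1]],
    [[0, 2, 3], [1], [0, 2, 3]], [[1], [0, 2, 3], [1], [0, 2, 3]],
    [[0, 2, 3], [1], [0, 2, 3], [1]], [[1], [0, 2, 3], [1], [0, 2, 3], [1]],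
    [[0, 2, 3], [1], [0, 2, 3], [1], [0, 2, 3]],
    [[1], [0, 2, 3], [1], [0, 2, 3], [1], [0, 2, 3]]]

theorem twReps_D4 : TwReps chevD4 clsD4 repsD4 where
  sym := by decide
  good := by
    have h : ∀ Js ∈ repsD4, goodR chevD4 Js.flatten.reverse = true := by decide +kernel
    intro Js hJs
    have := goodR_sound _ (h Js hJs)
    rwa [List.reverse_reverse] at this
  one := ⟨[], by decide, fun r _ => rfl⟩
  closed := by decide +kernel
  inj := by decide +kernel
  nodup := by decide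

variable {K : Type*} [Field K] {q : ℕ}

/-- `|³D₄(q)| = q¹² (q² - 1) (q⁶ - 1) (q⁸ + q⁴ + 1)` -/
theorem twD4_card [Fintype K] (hq : IsPrimePow q) (hK : Fintype.card K = q ^ 3) :
    Nat.card ↥(twistedD4 K q) = q ^ 12 * (q ^ 2 - 1) * (q ^ 6 - 1) * (q ^ 8 + q ^ 4 + 1) := by
  obtain ⟨φ, hφ, h3, X⟩ := exists_twGrp_D4 hq hK
  have hcls : ∀ J ∈ clsD4, Nat.card {t : K // φ^[J.length] t = t} = q ^ J.length := by
    intro J hJ
    simp only [clsD4, List.mem_cons, List.not_mem_nil, or_false] at hJ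
    have h1 : Nat.card {t : K // φ^[1] t = t} = q ^ 1 := by
      simp only [Function.iterate_one, hφ, pow_one]
      exact card_frob_fix hq.one_lt hK
    have h2' : Nat.card {t : K // φ^[3] t = t} = q ^ 3 := by
      have : ∀ t : K, φ^[3] t = t := fun t => h3 t
      simp only [this]
      rw [Nat.card_eq_fintype_card, Fintype.card_subtype_true, hK]
    rcases hJ with rfl | rfl
    · exact h1
    · exact h2'
  rw [X.card_eq twReps_D4 q hcls, card_pos_twD4 hq hK, twD4_torus hq hK]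
  have hq1 := hq.one_lt
  obtain ⟨n, rfl⟩ : ∃ n, q = n + 1 := ⟨q - 1, by omega⟩
  have e2 : (n + 1) ^ 2 - 1 = n * (n + 2) := by
    have : (n + 1) ^ 2 = n * (n + 2) + 1 := by ring
    omega
  have e6 : (n + 1) ^ 6 - 1 = n * ((n + 1) ^ 2 + (n + 1) + 1) * ((n + 1) ^ 3 + 1) := by
    have : (n + 1) ^ 6 = n * ((n + 1) ^ 2 + (n + 1) + 1) * ((n + 1) ^ 3 + 1) + 1 := by ring
    omega
  rw [e2, e6, Nat.add_sub_cancel]
  simp only [repsD4, List.map_cons, List.map_nil, List.sum_cons, List.sum_nil, List.flatten_cons,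
    List.flatten_nil, List.length_append, List.length_cons, List.length_nil]
  ring

end Cfsg.Agent.Lib.Helper8.Chev
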