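import Cfsg.Agent.Lib.Helper8.ChevTa6
import Cfsg.Agent.Lib.Helper8.ChevTw33

set_option autoImplicit false

/-! Twisted groups: the permutation of the classes induced by an automorphism preserving `U¹` and
`V¹` is injective and does not decrease the fields of the classes; the longest elements of the
Weyl groups of types `D₄` and `E₆`. -/

namespace Cfsg.Agent.Lib.Helper8.Chev

open Cfsg.Lie Matrix Cfsg.Agent.Lib.Helper3

section

variable {D : ChevalleyDatum}

/-- the standard word of the longest element -/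
theorem w0L_full (hD : D ∈ [chevG2, chevB2, chevD4, chevF4, chevE6, chevE7, chevE8]) :
    (∀ i ∈ w0L D, i < D.rank) ∧
      ∀ r, D.nroots / 2 ≤ r → r < D.nroots → reflWord D (w0L D) r < D.nroots / 2 := by
  have J := validJ_of_mem hD
  have H := validH_of_mem hD
  have hW := checkW0_of_mem hD
  simp only [checkW0, Bool.and_eq_true, allF_eq_true, Nat.blt_eq, forallLtF_eq_true] at hW
  obtain ⟨hl, hall⟩ := hW
  refine ⟨hl, ?_⟩
  intro s h1 h2
  have := hall s h2
  rw [reflWordF_eq J H.nS hl h2] at this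
  have hb : Nat.blt s (D.nroots / 2) = false := by
    rw [Bool.eq_false_iff, ne_eq, Nat.blt_eq]; omega
  rw [hb] at this
  simpa using this

theorem hDD4' : chevD4 ∈ [chevG2, chevB2, chevD4, chevF4, chevE6, chevE7, chevE8] := by simp

theorem hDE6' : chevE6 ∈ [chevG2, chevB2, chevD4, chevF4, chevE6, chevE7, chevE8] := by simp

theorem w0Cls_D4 : W0Cls chevD4 clsD4 :=
  ⟨w0L chevD4, (w0L_full hDD4').1, (w0L_full hDD4').2, by decide +kernel, by decide +kernel⟩

theorem w0Cls_E6 : W0Cls chevE6 clsE6 :=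
  ⟨w0L chevE6, (w0L_full hDE6').1, (w0L_full hDE6').2, by decide +kernel, by decide +kernel⟩

end

namespace TwGrp

variable {D : ChevalleyDatum} {F : Type*} [Field F] {ρ ρ' π π' : ℕ → ℕ} {ε : ℕ → ℤ}
  {T : TwOk D ρ ρ' π π' ε} {φ : F →+* F} {cls : List (List ℕ)} {G1 : Subgroup (GL D.Idx F)}

/-- class elements multiply by adding the parameters -/
theorem cls_add (X : TwGrp T φ cls G1) {J : List ℕ} (hJ : J ∈ cls) {f : ℕ → ℕ}
    (hf : f ∈ [D.simple, fun j => D.neg (D.simple j)]) (a b : F) :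
    wG D F (clsWS f φ J (a + b)) = wG D F (clsWS f φ J a) * wG D F (clsWS f φ J b) := by
  have hs : SgnF D f := by
    simp only [List.mem_cons, List.not_mem_nil, or_false] at hf
    rcases hf with rfl | rfl
    · exact sgnF_simple _
    · exact sgnF_neg _
  apply Units.ext
  rw [Units.val_mul, X.coe_cls hJ hf, X.coe_cls hJ hf, X.coe_cls hJ hf,
    wN_clsWS_add X.hD φ hs (X.cd.ok J hJ).orthL]

theorem cls_zero (X : TwGrp T φ cls G1) {J : List ℕ} (hJ : J ∈ cls) {f : ℕ → ℕ}
    (hf : f ∈ [D.simple, fun j => D.neg (D.simple j)]) :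
    wG D F (clsWS f φ J (0 : F)) = 1 := by
  have V := valid0_of_mem X.hD
  apply Units.ext
  rw [X.coe_cls hJ hf, wN_clsWS_zero V]
  rfl

theorem cls_neg_inv (X : TwGrp T φ cls G1) {J : List ℕ} (hJ : J ∈ cls) {f : ℕ → ℕ}
    (hf : f ∈ [D.simple, fun j => D.neg (D.simple j)]) (a : F) :
    (wG D F (clsWS f φ J a))⁻¹ = wG D F (clsWS f φ J (-a)) := by
  rw [inv_eq_iff_mul_eq_one, ← X.cls_add hJ hf, add_neg_cancel, X.cls_zero hJ hf]

/-- a trivial class element of negative roots has parameter `0` -/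
theorem cls_neg_eq_one (X : TwGrp T φ cls G1) {J : List ℕ} (hJ : J ∈ cls) {s : F}
    (hs : φ^[J.length] s = s)
    (h : wG D F (clsWS (fun j => D.neg (D.simple j)) φ J s) = 1) : s = 0 := by
  have hD := X.hD
  have VJ := validJ_of_mem hD
  have H := validH_of_mem hD
  by_contra hs0
  have ht' : φ^[J.length] s⁻¹ = s⁻¹ := fix_inv hs
  have ht0' : s⁻¹ ≠ 0 := inv_ne_zero hs0
  have hid := X.nP_mul_cls hJ ht0' ht'
  rw [inv_inv, h, mul_one] at hid
  apply X.nP_cls_not_mem_borel hJ
  have e : nP D F J = (torMap D F (tupCls D φ J (-(Units.mk0 s⁻¹ ht0'))))⁻¹ *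
      wG D F (clsWS D.simple φ J (-s⁻¹)) * (wG D F (clsWS D.simple φ J s⁻¹))⁻¹ := by
    rw [← hid]; group
  rw [e]
  exact mul_mem (mul_mem (inv_mem (diagonal_le_borel (torMap_mem VJ H _)))
    (pos_le_borel (Subgroup.mem_inf.mp (X.cls_pos_mem hJ (fix_neg ht'))).1))
    (inv_mem (pos_le_borel (Subgroup.mem_inf.mp (X.cls_pos_mem hJ ht')).1))

/-- the parameter of a class element of negative roots is unique -/
theorem cls_neg_inj (X : TwGrp T φ cls G1) {J : List ℕ} (hJ : J ∈ cls) {s s' : F}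
    (hs : φ^[J.length] s = s) (hs' : φ^[J.length] s' = s')
    (h : wG D F (clsWS (fun j => D.neg (D.simple j)) φ J s) =
      wG D F (clsWS (fun j => D.neg (D.simple j)) φ J s')) : s = s' := by
  have hfix : φ^[J.length] (s + -s') = s + -s' := by
    rw [iterate_ringHom, map_add, ← iterate_ringHom, ← iterate_ringHom, hs, fix_neg hs']
  have h1 : wG D F (clsWS (fun j => D.neg (D.simple j)) φ J (s + -s')) = 1 := by
    rw [X.cls_add hJ (by simp), ← X.cls_neg_inv hJ (by simp), h, mul_inv_cancel]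
  have := X.cls_neg_eq_one hJ hfix h1
  exact add_neg_eq_zero.mp this

/-- the parameter of a class element of positive roots is unique -/
theorem cls_pos_inj (X : TwGrp T φ cls G1) {J : List ℕ} (hJ : J ∈ cls) {s s' : F}
    (h : wG D F (clsWS D.simple φ J s) = wG D F (clsWS D.simple φ J s')) : s = s' := by
  have h1 : ((wG D F (clsWS D.simple φ J s) : GL D.Idx F) : Matrix D.Idx D.Idx F) =
      ((wG D F (clsWS D.simple φ J s') : GL D.Idx F) : Matrix D.Idx D.Idx F) := by rw [h]
  rw [X.coe_cls hJ (by simp), X.coe_cls hJ (by simp)] at h1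
  exact clsWS_inj X.hD φ (X.cd.ok J hJ).orthL (X.cls_ne_nil hJ) h1

/-- different classes have different representatives -/
theorem nEl_inj (X : TwGrp T φ cls G1) {J J' : List ℕ} (hJ : J ∈ cls) (hJ' : J' ∈ cls)
    (h : X.nEl hJ = X.nEl hJ') : J = J' := by
  have hD := X.hD
  have e : nP D F J = nP D F J' := congrArg (fun g : ↥G1 => (g : GL D.Idx F)) h
  apply X.cd.inj J hJ J' hJ'
  apply reflWord_eq_of_mem_diagonal (F := F) hD (X.cd.ok J hJ).lt (X.cd.ok J' hJ').lt
  rw [e, inv_mul_cancel]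
  exact one_mem _

/-- the permutation of the classes induced by an automorphism is injective -/
theorem IsBN.perm_inj {X : TwGrp T φ cls G1} {PP : Cfsg.BNPair ↥G1} (hP : X.IsBN PP)
    {θ : MulAut ↥G1} {J₁ J₂ J' : List ℕ} (hJ₁ : J₁ ∈ cls) (hJ₂ : J₂ ∈ cls) (hJ' : J' ∈ cls)
    (h₁ : (PP.parabolic {X.nEl hJ₁}).map θ.toMonoidHom = PP.parabolic {X.nEl hJ'})
    (h₂ : (PP.parabolic {X.nEl hJ₂}).map θ.toMonoidHom = PP.parabolic {X.nEl hJ'}) :
    J₁ = J₂ := by
  have h3 : PP.parabolic {X.nEl hJ₁} = PP.parabolic {X.nEl hJ₂} :=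
    Subgroup.map_injective θ.injective (h₁.trans h₂.symm)
  have h4 := BN.parabolic_injective PP (Set.singleton_subset_iff.2 (hP.nEl_mem hJ₁))
    (Set.singleton_subset_iff.2 (hP.nEl_mem hJ₂)) h3
  exact X.nEl_inj hJ₁ hJ₂ (Set.singleton_eq_singleton_iff.mp h4)

/-- an automorphism mapping the class root subgroup of `-J` into that of `-J'` gives an injection
of the fields of the classes -/
theorem card_fix_le [Finite F] (X : TwGrp T φ cls G1) {θ : MulAut ↥G1} {J J' : List ℕ}
    (hJ : J ∈ cls) (hJ' : J' ∈ cls)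
    (h : ∀ (t : F) (ht : φ^[J.length] t = t), ∃ (t' : F) (ht' : φ^[J'.length] t' = t'),
      θ (X.clsEl hJ (f := fun j => D.neg (D.simple j)) (by simp) ht) =
        X.clsEl hJ' (f := fun j => D.neg (D.simple j)) (by simp) ht') :
    Nat.card {t : F // φ^[J.length] t = t} ≤ Nat.card {t : F // φ^[J'.length] t = t} := by
  choose g hg1 hg2 using h
  apply Nat.card_le_card_of_injective (fun t : {t : F // φ^[J.length] t = t} =>
    (⟨g t.1 t.2, hg1 t.1 t.2⟩ : {t : F // φ^[J'.length] t = t}))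
  intro a b hab
  have hab' : g a.1 a.2 = g b.1 b.2 := congrArg Subtype.val hab
  have h1 := hg2 a.1 a.2
  have h2 := hg2 b.1 b.2
  have h3 : X.clsEl hJ' (f := fun j => D.neg (D.simple j)) (by simp) (hg1 a.1 a.2) =
      X.clsEl hJ' (f := fun j => D.neg (D.simple j)) (by simp) (hg1 b.1 b.2) := by
    apply Subtype.ext
    show wG D F (clsWS (fun j => D.neg (D.simple j)) φ J' (g a.1 a.2)) =
      wG D F (clsWS (fun j => D.neg (D.simple j)) φ J' (g b.1 b.2))
    rw [hab']
  have h4 := θ.injective (h1.trans (h3.trans h2.symm))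
  have h5 : wG D F (clsWS (fun j => D.neg (D.simple j)) φ J a.1) =
      wG D F (clsWS (fun j => D.neg (D.simple j)) φ J b.1) :=
    congrArg (fun z : ↥G1 => (z : GL D.Idx F)) h4
  exact Subtype.ext (X.cls_neg_inj hJ a.2 b.2 h5)

end TwGrp

end Cfsg.Agent.Lib.Helper8.Chev
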