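import Cfsg.Agent.Lib.Helper8.ChevTa7

set_option autoImplicit false

/-! Automorphisms of `³D₄(q)` preserving `U¹`, `V¹` preserve each class root subgroup. -/

namespace Cfsg.Agent.Lib.Helper8.Chev

open Cfsg.Lie Matrix Cfsg.Agent.Lib.Helper3

namespace TwGrp

variable {F : Type*} [Field F] {φ : F →+* F} {G1 : Subgroup (GL chevD4.Idx F)}

/-- `³D₄`: the class root subgroups of negative roots are preserved -/
theorem negFix_D4 [Finite F] [Finite ↥G1] (X : TwGrp twOk_D4a φ clsD4 G1)
    {PP : Cfsg.BNPair ↥G1} (hP : X.IsBN PP)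
    (hlt : Nat.card {t : F // φ^[1] t = t} < Nat.card {t : F // φ^[3] t = t})
    (θ : MulAut ↥G1) (hU : PresT θ (chevD4.posUnipotent F)) (hV : PresT θ (chevD4.negUnipotent F))
    (J : List ℕ) (hJ : J ∈ clsD4) (t : F) (ht : φ^[J.length] t = t) :
    ∃ (t' : F) (ht' : φ^[J.length] t' = t'),
      θ (X.clsEl hJ (f := fun j => chevD4.neg (chevD4.simple j)) (by simp) ht) =
        X.clsEl hJ (f := fun j => chevD4.neg (chevD4.simple j)) (by simp) ht' := by
  have hb : ([0, 2, 3] : List ℕ) ∈ clsD4 := by decide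
  have ha : ([1] : List ℕ) ∈ clsD4 := by decide
  -- the big class is fixed
  obtain ⟨Jb, hJb, hmapb, helb⟩ := hP.neg_simple_perm hU hV hb
  have eb : Jb = [0, 2, 3] := by
    have h1 : Jb = [1] ∨ Jb = [0, 2, 3] := by
      have := hJb
      simp only [clsD4, List.mem_cons, List.not_mem_nil, or_false] at this
      exact this
    rcases h1 with rfl | h1
    · exfalso
      have := X.card_fix_le hb hJb helb
      simp only [List.length_cons, List.length_nil] at this
      have h2 : Nat.card {t : F // φ^[0 + 1 + 1 + 1] t = t} = Nat.card {t : F // φ^[3] t = t} := rfl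
      have h3 : Nat.card {t : F // φ^[0 + 1] t = t} = Nat.card {t : F // φ^[1] t = t} := rfl
      omega
    · exact h1
  subst eb
  obtain ⟨Ja, hJa, hmapa, hela⟩ := hP.neg_simple_perm hU hV ha
  have ea : Ja = [1] := by
    have h1 : Ja = [1] ∨ Ja = [0, 2, 3] := by
      have := hJa
      simp only [clsD4, List.mem_cons, List.not_mem_nil, or_false] at this
      exact this
    rcases h1 with h1 | rfl
    · exact h1
    · exfalso
      have := hP.perm_inj ha hb hJa hmapa hmapb
      exact absurd this (by decide)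
  subst ea
  have hJ' : J = [1] ∨ J = [0, 2, 3] := by
    have := hJ
    simp only [clsD4, List.mem_cons, List.not_mem_nil, or_false] at this
    exact this
  rcases hJ' with rfl | rfl
  · exact hela t ht
  · exact helb t ht

/-- `³D₄`: the class root subgroups of positive roots are preserved -/
theorem posFix_D4 [Finite F] [Finite ↥G1] (X : TwGrp twOk_D4a φ clsD4 G1)
    {PP : Cfsg.BNPair ↥G1} (hP : X.IsBN PP)
    (hlt : Nat.card {t : F // φ^[1] t = t} < Nat.card {t : F // φ^[3] t = t})
    (θ : MulAut ↥G1) (hU : PresT θ (chevD4.posUnipotent F)) (hV : PresT θ (chevD4.negUnipotent F))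
    (J : List ℕ) (hJ : J ∈ clsD4) (t : F) (ht : φ^[J.length] t = t) :
    ∃ (t' : F) (ht' : φ^[J.length] t' = t'),
      θ (X.clsEl hJ (f := chevD4.simple) (by simp) ht) =
        X.clsEl hJ (f := chevD4.simple) (by simp) ht' :=
  hP.pos_of_neg w0Cls_D4 (fun θ hU hV J hJ t ht => X.negFix_D4 hP hlt θ hU hV J hJ t ht) hU hV hJ ht

end TwGrp

end Cfsg.Agent.Lib.Helper8.Chev
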