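import Cfsg.Agent.Lib.Helper8.ChevTa8
import Cfsg.Agent.Lib.Helper8.ChevTw34
import Cfsg.Agent.Lib.Helper7.TwRankOne
import Cfsg.Agent.Lib.Helper27.TwPhiCls

set_option autoImplicit false

/-! The homomorphism from `SL₂` over the field of a class into the twisted group; the torus
elements `h_J(s)` and their action on the class elements. -/

namespace Cfsg.Agent.Lib.Helper8.Chev

open Cfsg.Lie Matrix Cfsg.Agent.Lib.Helper3 Cfsg.Agent.Lib.Helper7

section SL2

variable {k F : Type*} [Field k] [Field F]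

theorem map_upS' (ι : k →+* F) (t : k) :
    Matrix.SpecialLinearGroup.map ι (upS t) = upS (ι t) := by
  apply Subtype.ext
  rw [Matrix.SpecialLinearGroup.map_apply_coe, coe_upS, coe_upS]
  ext i j
  fin_cases i <;> fin_cases j <;> simp

theorem map_loS' (ι : k →+* F) (t : k) :
    Matrix.SpecialLinearGroup.map ι (loS t) = loS (ι t) := by
  apply Subtype.ext
  rw [Matrix.SpecialLinearGroup.map_apply_coe, coe_loS, coe_loS]
  ext i j
  fin_cases i <;> fin_cases j <;> simp

theorem dgS_mul_nS (t : k) :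
    dgS t * (upS 1 * loS (-(1 : k)⁻¹) * upS 1) = upS t * loS (-t⁻¹) * upS t := by
  unfold dgS
  have : upS (-1 : k) * loS (-(-1 : k)⁻¹) * upS (-1) * (upS 1 * loS (-(1 : k)⁻¹) * upS 1) = 1 := by
    ext i j
    simp only [Matrix.SpecialLinearGroup.coe_mul, coe_upS, coe_loS]
    fin_cases i <;> fin_cases j <;> simp [Matrix.mul_apply, Fin.sum_univ_two]
  rw [mul_assoc, this, mul_one]

theorem upS_eq (t : k) : TwRankOne.upS t = upS t := rfl

theorem loS_eq (t : k) : TwRankOne.loS t = loS t := rfl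

theorem dgS_eq (t : k) : TwRankOne.dgS t = dgS t := rfl

end SL2

section

variable {D : ChevalleyDatum} {F : Type*} [Field F]

theorem tupCls_one_ta (φ : F →+* F) : ∀ J : List ℕ, tupCls D φ J 1 = 1 := by
  intro J
  induction J with
  | nil => rfl
  | cons j J ih =>
    rw [tupCls, map_one, ih, mul_one]
    funext i
    unfold mulSingleN
    split_ifs <;> rfl

end

namespace TwGrp

variable {D : ChevalleyDatum} {F : Type*} [Field F] {ρ ρ' π π' : ℕ → ℕ} {ε : ℕ → ℤ}
  {T : TwOk D ρ ρ' π π' ε} {φ : F →+* F} {cls : List (List ℕ)} {G1 : Subgroup (GL D.Idx F)}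

/-- the homomorphism from `SL₂` over a field embedded in the field of a class -/
theorem exists_phiG (X : TwGrp T φ cls G1) {J : List ℕ} (hJ : J ∈ cls) {k : Type*} [Field k]
    (ι : k →+* F) (hι : ∀ s : k, φ^[J.length] (ι s) = ι s) :
    ∃ Φ : Matrix.SpecialLinearGroup (Fin 2) k →* ↥G1,
      (∀ s : k, Φ (upS s) = X.clsEl hJ (f := D.simple) (by simp) (hι s)) ∧
      (∀ s : k, Φ (loS s) =
        X.clsEl hJ (f := fun j => D.neg (D.simple j)) (by simp) (hι s)) ∧
      (∀ (s : k) (hs : ι s ≠ 0), ((Φ (dgS s) : ↥G1) : GL D.Idx F) =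
        torMap D F (tupCls D φ J (Units.mk0 (ι s) hs))) := by
  have hD := X.hD
  have VJ := validJ_of_mem hD
  have H := validH_of_mem hD
  have hO := (X.cd.ok J hJ).orthL
  obtain ⟨Φ₀, h1, h2⟩ := Cfsg.Agent.Lib.Helper27.TwPhiCls.exists_phiCls hD φ hO
  have e1 : ∀ s : k, Φ₀ (Matrix.SpecialLinearGroup.map ι (upS s)) =
      wG D F (clsWS D.simple φ J (ι s)) := by
    intro s
    apply Units.ext
    rw [map_upS', h1, X.coe_cls hJ (by simp)]
  have e2 : ∀ s : k, Φ₀ (Matrix.SpecialLinearGroup.map ι (loS s)) =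
      wG D F (clsWS (fun j => D.neg (D.simple j)) φ J (ι s)) := by
    intro s
    apply Units.ext
    rw [map_loS', h2, X.coe_cls hJ (by simp)]
  have hmem : ∀ A : Matrix.SpecialLinearGroup (Fin 2) k,
      (Φ₀.comp (Matrix.SpecialLinearGroup.map ι)) A ∈ G1 := by
    apply Cfsg.Agent.Lib.Helper27.TwPhiCls.sl2_gen_induction
    · intro s
      rw [MonoidHom.comp_apply, e1]
      exact (X.wG_cls_mem hJ (by simp) (hι s)).1
    · intro s
      rw [MonoidHom.comp_apply, e2]
      exact (X.wG_cls_mem hJ (by simp) (hι s)).1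
    · intro A B hA hB
      rw [map_mul]
      exact mul_mem hA hB
  let Φ : Matrix.SpecialLinearGroup (Fin 2) k →* ↥G1 :=
    (Φ₀.comp (Matrix.SpecialLinearGroup.map ι)).codRestrict G1 hmem
  have hΦ : ∀ A, ((Φ A : ↥G1) : GL D.Idx F) = Φ₀ (Matrix.SpecialLinearGroup.map ι A) :=
    fun _ => rfl
  have p1 : ∀ s : k, Φ (upS s) = X.clsEl hJ (f := D.simple) (by simp) (hι s) := by
    intro s
    apply Subtype.ext
    rw [hΦ, e1]
    rfl
  have p2 : ∀ s : k, Φ (loS s) =
      X.clsEl hJ (f := fun j => D.neg (D.simple j)) (by simp) (hι s) := by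
    intro s
    apply Subtype.ext
    rw [hΦ, e2]
    rfl
  refine ⟨Φ, p1, p2, fun s hs => ?_⟩
  -- the matrices of `Φ (n(t))`
  have hn : ∀ t : k, (((Φ (upS t * loS (-t⁻¹) * upS t) : ↥G1) : GL D.Idx F) :
      Matrix D.Idx D.Idx F) = nCls D φ J (ι t) := by
    intro t
    rw [map_mul, map_mul, p1, p2, nCls_eq hD φ hO]
    show ((wG D F (clsWS D.simple φ J (ι t)) *
      wG D F (clsWS (fun j => D.neg (D.simple j)) φ J (ι (-t⁻¹))) *
      wG D F (clsWS D.simple φ J (ι t)) : GL D.Idx F) : Matrix D.Idx D.Idx F) = _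
    rw [Units.val_mul, Units.val_mul, X.coe_cls hJ (by simp), X.coe_cls hJ (by simp), map_neg,
      map_inv₀]
  have h3 := congrArg (fun g : ↥G1 => ((g : GL D.Idx F) : Matrix D.Idx D.Idx F))
    (congrArg Φ (dgS_mul_nS s))
  simp only [map_mul] at h3
  have h4 : (((Φ (dgS s) : ↥G1) : GL D.Idx F) : Matrix D.Idx D.Idx F) *
      nCls D φ J (ι 1) = nCls D φ J (ι s) := by
    rw [← hn, ← hn, map_mul, map_mul, map_mul, map_mul]
    exact h3
  have hone : hCls D φ J (1 : F) = 1 := by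
    have := coe_torMap_tupCls VJ H φ J hO.lt (1 : Fˣ)
    rw [tupCls_one_ta, map_one, Units.val_one, Units.val_one] at this
    exact this.symm
  rw [nCls_eq_hCls hD φ hO, nCls_eq_hCls hD φ hO, map_one, hone, Matrix.one_mul] at h4
  have h5 : ((Φ (dgS s) : ↥G1) : GL D.Idx F) * nP D F J =
      torMap D F (tupCls D φ J (Units.mk0 (ι s) hs)) * nP D F J := by
    apply Units.ext
    rw [Units.val_mul, Units.val_mul, h4, coe_torMap_tupCls VJ H φ J hO.lt]
    rfl
  exact mul_right_cancel h5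

/-- a fixed torus element conjugates class elements to class elements, with an explicit
parameter -/
theorem torus_conj_cls_exp (X : TwGrp T φ cls G1) {c : Fin D.rank → Fˣ}
    (hfix : sg T.ga φ (torMap D F c) = torMap D F c) {j₀ : ℕ} {J' : List ℕ}
    (hJ : j₀ :: J' ∈ cls) :
    (∀ s : F, ((torMap D F c : GL D.Idx F) : Matrix D.Idx D.Idx F) *
        wN D F (clsWS D.simple φ (j₀ :: J') s) =
      wN D F (clsWS D.simple φ (j₀ :: J') ((chiT D c (D.simple j₀) : F) * s)) *
        ((torMap D F c : GL D.Idx F) : Matrix D.Idx D.Idx F)) ∧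
    (∀ s : F, ((torMap D F c : GL D.Idx F) : Matrix D.Idx D.Idx F) *
        wN D F (clsWS (fun j => D.neg (D.simple j)) φ (j₀ :: J') s) =
      wN D F (clsWS (fun j => D.neg (D.simple j)) φ (j₀ :: J')
          ((((chiT D c (D.simple j₀))⁻¹ : Fˣ) : F) * s)) *
        ((torMap D F c : GL D.Idx F) : Matrix D.Idx D.Idx F)) ∧
    φ^[(j₀ :: J').length] ((chiT D c (D.simple j₀) : Fˣ) : F) = chiT D c (D.simple j₀) := by
  have hD := X.hD
  have V := valid0_of_mem hD
  have VJ := validJ_of_mem hD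
  have H := validH_of_mem hD
  have hJok := X.cd.ok _ hJ
  obtain ⟨j₁, J'', e, hmap⟩ := hJok.rot
  obtain ⟨rfl, rfl⟩ := List.cons.inj e
  have hχ := isChar_chiT (F := F) VJ H c
  have hj₀ := hJok.lt j₀ List.mem_cons_self
  have h1 : ∀ j ∈ j₀ :: J', chiT D c (D.simple (ρ j)) =
      Units.map (φ : F →* F) (chiT D c (D.simple j)) := by
    intro j hj
    have hjr := hJok.lt j hj
    rw [← (hf_simple T.ga j hjr).1]
    exact chiT_fixed T.ga φ hfix (VJ.S j hjr).1
  have h2 : ∀ j ∈ j₀ :: J', chiT D c (D.neg (D.simple (ρ j))) =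
      Units.map (φ : F →* F) (chiT D c (D.neg (D.simple j))) := by
    intro j hj
    have hjr := hJok.lt j hj
    rw [← (hf_neg VJ T.ga j hjr).1]
    exact chiT_fixed T.ga φ hfix (V.neg_lt (VJ.S j hjr).1)
  refine ⟨fun s => ?_, fun s => ?_, ?_⟩
  rotate_left 2
  · have := (char_map_clsWS (ρ := ρ) φ (chiT D c) D.simple J' j₀ j₀ hmap h1 0).2
    exact this.symm
  · rw [torMap_apply, coe_diagU, diagC_mul_wN V hχ _
      (clsWS_lt V VJ (sgnF_simple D) φ hJok.lt s),
      (char_map_clsWS (ρ := ρ) φ (chiT D c) D.simple J' j₀ j₀ hmap h1 s).1]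
  · rw [torMap_apply, coe_diagU, diagC_mul_wN V hχ _
      (clsWS_lt V VJ (sgnF_neg D) φ hJok.lt s),
      (char_map_clsWS (ρ := ρ) φ (chiT D c) (fun j => D.neg (D.simple j)) J' j₀ j₀ hmap h2 s).1,
      chiT_neg VJ H c (VJ.S j₀ hj₀).1]

/-- the character of the torus element of a class -/
theorem chiT_tupCls (X : TwGrp T φ cls G1) {J : List ℕ} (hJ : J ∈ cls) (t : Fˣ) {s : ℕ}
    (hs : s < D.nroots) : ((chiT D (tupCls D φ J t) s : Fˣ) : F) = chiCls D φ J (t : F) s := by
  have hD := X.hD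
  have VJ := validJ_of_mem hD
  have H := validH_of_mem hD
  have hO := (X.cd.ok J hJ).orthL
  have h1 := coe_torMap_tupCls VJ H φ J hO.lt t
  rw [hCls_diag hD φ J hO.lt _ (Units.ne_zero t), torMap_apply, coe_diagU] at h1
  exact diagC_inj h1 hs

end TwGrp

end Cfsg.Agent.Lib.Helper8.Chev
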