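import Cfsg.Agent.Lib.Helper8.ChevTa16

set_option autoImplicit false

/-! `²E₆`: the standard form of an automorphism preserving `U¹` and `V¹`. -/

namespace Cfsg.Agent.Lib.Helper8.Chev

open Cfsg.Lie Matrix Cfsg.Agent.Lib.Helper3 Cfsg.Agent.Lib.Helper7

namespace TwGrp

variable {F : Type*} [Field F] {φ : F →+* F} {G1 : Subgroup (GL chevE6.Idx F)}

set_option maxRecDepth 1000000 in
theorem aco_E6_vals : aco chevE6 (chevE6.simple 1) (chevE6.simple 3) = -1 ∧
    aco chevE6 (chevE6.simple 3) (chevE6.simple 2) = -1 ∧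
    aco chevE6 (chevE6.simple 2) (chevE6.simple 0) = -1 ∧
    aco chevE6 (chevE6.simple 4) (chevE6.simple 0) = 0 := by decide +kernel

/-- the hypothesis that the class root subgroups of negative roots are preserved -/
def NegFix (X : TwGrp twOk_E6 φ clsE6 G1) : Prop :=
  ∀ (θ : MulAut ↥G1), PresT θ (chevE6.posUnipotent F) → PresT θ (chevE6.negUnipotent F) →
    ∀ (J : List ℕ) (hJ : J ∈ clsE6) (t : F) (ht : φ^[J.length] t = t),
    ∃ (t' : F) (ht' : φ^[J.length] t' = t'),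
      θ (X.clsEl hJ (f := fun j => chevE6.neg (chevE6.simple j)) (by simp) ht) =
        X.clsEl hJ (f := fun j => chevE6.neg (chevE6.simple j)) (by simp) ht'

/-- `²E₆`: every automorphism preserving `U¹` and `V¹` has a standard form -/
theorem exists_std_E6 [Finite F] [Finite ↥G1] (X : TwGrp twOk_E6 φ clsE6 G1)
    {PP : Cfsg.BNPair ↥G1} (hP : X.IsBN PP) (h2 : ∀ t : F, φ (φ t) = t) (hN : X.NegFix)
    {θ : MulAut ↥G1} (hU : PresT θ (chevE6.posUnipotent F)) (hV : PresT θ (chevE6.negUnipotent F)) :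
    ∃ (α : F ≃+* F) (d : List ℕ → F),
      (∀ J ∈ clsE6, d J ≠ 0 ∧ φ^[J.length] (d J) = d J) ∧ X.IsStd θ α d := by
  have h1 : ([1] : List ℕ) ∈ clsE6 := by decide
  have h3 : ([3] : List ℕ) ∈ clsE6 := by decide
  have h05 : ([0, 5] : List ℕ) ∈ clsE6 := by decide
  have h24 : ([2, 4] : List ℕ) ∈ clsE6 := by decide
  obtain ⟨a13, a32, a20, a40⟩ := aco_E6_vals
  have hpos : ∀ (J : List ℕ) (hJ : J ∈ clsE6) (t : F) (ht : φ^[J.length] t = t),
      ∃ (t' : F) (ht' : φ^[J.length] t' = t'),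
        θ (X.clsEl hJ (f := chevE6.simple) (by simp) ht) =
          X.clsEl hJ (f := chevE6.simple) (by simp) ht' :=
    fun J hJ t ht => hP.pos_of_neg w0Cls_E6 hN hU hV hJ ht
  -- the big classes
  obtain ⟨Φc, cc, αc, hcc, p1c, p2c, p3c, q1c, q2c, q3c⟩ :=
    X.rank_one_cls h05 (RingHom.id F) (fun s => h2 s) (fun t _ => ⟨t, rfl⟩)
      (fun t ht => hpos _ h05 t ht) (fun t ht => hN θ hU hV _ h05 t ht)
  obtain ⟨Φd, cd, αd, hcd, p1d, p2d, p3d, q1d, q2d, q3d⟩ :=
    X.rank_one_cls h24 (RingHom.id F) (fun s => h2 s) (fun t _ => ⟨t, rfl⟩)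
      (fun t ht => hpos _ h24 t ht) (fun t ht => hN θ hU hV _ h24 t ht)
  -- the small classes
  let F₀ : Subfield F := RingHom.eqLocusField φ (RingHom.id F)
  obtain ⟨Φa, ca, αa, hca, p1a, p2a, p3a, q1a, q2a, q3a⟩ :=
    X.rank_one_cls h1 F₀.subtype (fun s => s.2) (fun t ht => ⟨⟨t, ht⟩, rfl⟩)
      (fun t ht => hpos _ h1 t ht) (fun t ht => hN θ hU hV _ h1 t ht)
  obtain ⟨Φb, cb, αb, hcb, p1b, p2b, p3b, q1b, q2b, q3b⟩ :=
    X.rank_one_cls h3 F₀.subtype (fun s => s.2) (fun t ht => ⟨⟨t, ht⟩, rfl⟩)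
      (fun t ht => hpos _ h3 t ht) (fun t ht => hN θ hU hV _ h3 t ht)
  -- the ties
  have tie_ab := X.tie h1 h3 F₀.subtype F₀.subtype (fun s => s.2) Φa αa Φb cb αb hcb p3a p1b q3a
    q1b (by
      intro t ht
      simp only [chiCls, a13, mul_one]
      exact zpow_neg_one t)
  have tie_bd := X.tie h3 h24 F₀.subtype (RingHom.id F) (fun s => h2 s) Φb αb Φd cd αd hcd p3b p1d
    q3b q1d (by
      intro t ht
      simp only [chiCls, a32, mul_one]
      exact zpow_neg_one t)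
  have tie_dc := X.tie h24 h05 (RingHom.id F) (RingHom.id F) (fun s => h2 s) Φd αd Φc cc αc hcc p3d
    p1c q3d q1c (by
      intro t ht
      simp only [chiCls, a20, a40, mul_one, zpow_zero]
      exact zpow_neg_one t)
  obtain ⟨d, d1, d3, d05, d24⟩ : ∃ d : List ℕ → F, d [1] = (ca : F) ∧ d [3] = (cb : F) ∧
      d [0, 5] = cc ∧ d [2, 4] = cd :=
    ⟨fun J => if J = [1] then (ca : F) else if J = [3] then (cb : F) else
      if J = [0, 5] then cc else cd, if_pos rfl, by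
        beta_reduce
        rw [if_neg (by decide), if_pos rfl], by
        beta_reduce
        rw [if_neg (by decide), if_neg (by decide), if_pos rfl], by
        beta_reduce
        rw [if_neg (by decide), if_neg (by decide), if_neg (by decide)]⟩
  have hcases : ∀ J ∈ clsE6, J = [1] ∨ J = [3] ∨ J = [0, 5] ∨ J = [2, 4] := by
    intro J hJ
    have := hJ
    simp only [clsE6, List.mem_cons, List.not_mem_nil, or_false] at this
    exact this
  refine ⟨αd, d, ?_, ?_⟩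
  · intro J hJ
    rcases hcases J hJ with rfl | rfl | rfl | rfl
    · rw [d1]
      exact ⟨fun h => hca (Subtype.ext h), ca.2⟩
    · rw [d3]
      exact ⟨fun h => hcb (Subtype.ext h), cb.2⟩
    · rw [d05]
      exact ⟨hcc, h2 cc⟩
    · rw [d24]
      exact ⟨hcd, h2 cd⟩
  · intro J hJ t ht
    rcases hcases J hJ with rfl | rfl | rfl | rfl
    · rw [d1]
      have e1 : X.clsEl hJ (f := chevE6.simple) (by simp) ht = Φa (upS ⟨t, ht⟩) :=
        (p1a ⟨t, ht⟩).symm
      have e2 : X.clsEl hJ (f := fun j => chevE6.neg (chevE6.simple j)) (by simp) ht =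
          Φa (loS ⟨t, ht⟩) := (p2a ⟨t, ht⟩).symm
      have e3 : ((αa ⟨t, ht⟩ : ↥F₀) : F) = αd t :=
        (tie_ab ⟨t, ht⟩ ⟨t, ht⟩ rfl).trans (tie_bd ⟨t, ht⟩ t rfl)
      rw [e1, e2, q1a, q2a, p1a, p2a, ← e3]
      exact ⟨rfl, rfl⟩
    · rw [d3]
      have e1 : X.clsEl hJ (f := chevE6.simple) (by simp) ht = Φb (upS ⟨t, ht⟩) :=
        (p1b ⟨t, ht⟩).symm
      have e2 : X.clsEl hJ (f := fun j => chevE6.neg (chevE6.simple j)) (by simp) ht =
          Φb (loS ⟨t, ht⟩) := (p2b ⟨t, ht⟩).symm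
      have e3 : ((αb ⟨t, ht⟩ : ↥F₀) : F) = αd t := tie_bd ⟨t, ht⟩ t rfl
      rw [e1, e2, q1b, q2b, p1b, p2b, ← e3]
      exact ⟨rfl, rfl⟩
    · rw [d05]
      have e1 : X.clsEl hJ (f := chevE6.simple) (by simp) ht = Φc (upS t) := (p1c t).symm
      have e2 : X.clsEl hJ (f := fun j => chevE6.neg (chevE6.simple j)) (by simp) ht =
          Φc (loS t) := (p2c t).symm
      have e3 : αd t = αc t := tie_dc t t rfl
      rw [e1, e2, q1c, q2c, p1c, p2c, e3]
      exact ⟨rfl, rfl⟩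
    · rw [d24]
      have e1 : X.clsEl hJ (f := chevE6.simple) (by simp) ht = Φd (upS t) := (p1d t).symm
      have e2 : X.clsEl hJ (f := fun j => chevE6.neg (chevE6.simple j)) (by simp) ht =
          Φd (loS t) := (p2d t).symm
      rw [e1, e2, q1d, q2d, p1d, p2d]
      exact ⟨rfl, rfl⟩

end TwGrp

end Cfsg.Agent.Lib.Helper8.Chev
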