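import Cfsg.Agent.Lib.Helper8.ChevTb1

set_option autoImplicit false

/-! `|Out ²E₆(q)| = 2 gcd(3, q + 1) f`, from the fact that the class root subgroups of negative
roots are preserved. -/

namespace Cfsg.Agent.Lib.Helper8.Chev

open Cfsg.Lie Matrix Cfsg.Agent.Lib.Helper3

section E6

variable {K : Type*} [Field K] [Fintype K]

/-- `|Out ²E₆(q)| = 2 gcd(3, q + 1) f` -/
theorem card_out_twE6_of (p f : ℕ) [Fact p.Prime] [CharP K p]
    (hK : Fintype.card K = p ^ (2 * f)) (hf : 1 ≤ f)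
    (hN : ∀ (φ : K →+* K) (X : TwGrp twOk_E6 φ clsE6 (twistedE6 K (p ^ f)))
      (PP : Cfsg.BNPair ↥(twistedE6 K (p ^ f))), X.IsBN PP →
      Nat.card {t : K // φ^[1] t = t} < Nat.card {t : K // φ^[2] t = t} → X.NegFix) :
    Nat.card (Cfsg.Out ↥(twistedE6 K (p ^ f))) = 2 * Nat.gcd 3 (p ^ f + 1) * f := by
  have hp : p.Prime := Fact.out
  have hq : IsPrimePow (p ^ f) := ⟨p, f, hp.prime, hf, rfl⟩
  have hK' : Fintype.card K = (p ^ f) ^ 2 := by rw [hK, ← pow_mul, mul_comm]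
  have hq1 := hq.one_lt
  obtain ⟨φ, hφ, h2, X⟩ := exists_twGrp_E6 hq hK'
  obtain ⟨PP, hP⟩ := X.exists_isBN
  have hgen := twE6_gen φ hφ h2
  have hlt := card_fix_lt hq1 (by norm_num) hK' φ hφ (fun t => h2 t)
  have hcomm := ringAut_frob_comm φ hφ
  have hNF := hN φ X PP hP hlt
  have hA := X.card_presSubT hgen hcomm
    (fun θ hU hV => X.exists_std_E6 hP h2 hNF hU hV)
    (fun d hd => Cfsg.Agent.Lib.Helper27.TwOutD.exists_diagAutT X hgen d hd)
    (by
      intro d hd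
      have ha := hd [1] (by decide)
      have hb := hd [3] (by decide)
      have hc := hd [0, 5] (by decide)
      have hd' := hd [2, 4] (by decide)
      refine ⟨tupE6 φ (Units.mk0 _ ha.1) (Units.mk0 _ hb.1) (Units.mk0 _ hc.1) (Units.mk0 _ hd'.1),
        tupE6_mem_P0 φ h2 ?_ ?_, ?_⟩
      · apply Units.ext
        exact ha.2
      · apply Units.ext
        exact hb.2
      · obtain ⟨t0, t1, t2, t3, -, -⟩ := tupE6_apply φ (Units.mk0 _ ha.1) (Units.mk0 _ hb.1)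
          (Units.mk0 _ hc.1) (Units.mk0 _ hd'.1)
        intro j₀ J' hJ hj₀
        have hJ' : j₀ :: J' = [1] ∨ j₀ :: J' = [3] ∨ j₀ :: J' = [0, 5] ∨ j₀ :: J' = [2, 4] := by
          have := hJ
          simp only [clsE6, List.mem_cons, List.not_mem_nil, or_false] at this
          exact this
        rcases hJ' with e | e | e | e
        · obtain ⟨rfl, rfl⟩ := List.cons.inj e
          rw [t1]; rfl
        · obtain ⟨rfl, rfl⟩ := List.cons.inj e
          rw [t3]; rfl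
        · obtain ⟨rfl, rfl⟩ := List.cons.inj e
          rw [t0]; rfl
        · obtain ⟨rfl, rfl⟩ := List.cons.inj e
          rw [t2]; rfl)
    (by
      intro d hd d' hd' h
      obtain ⟨e, -⟩ := eq_tupE6 φ hd
      obtain ⟨e', -⟩ := eq_tupE6 φ hd'
      rw [e, e', h 1 [] (by decide) (by decide), h 3 [] (by decide) (by decide),
        h 0 [5] (by decide) (by decide), h 2 [4] (by decide) (by decide)])
    ⟨[0, 5], by decide, fun t => h2 t⟩
  have hO := X.card_out_mul_torus p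
    (Cfsg.Agent.Lib.Helper7.TwOutS.twE6_sylow_card p hq hK')
  have hT := twE6_torus hq hK'
  rw [hA, card_P0_E6 hq hK' φ hφ h2, card_ringAut_pf p (2 * f) hK] at hO
  -- arithmetic
  obtain ⟨n, hn⟩ : ∃ n, p ^ f = n + 1 := ⟨p ^ f - 1, by omega⟩
  rw [hn] at hO hT ⊢
  have e1 : (n + 1) ^ 2 - 1 = n * (n + 2) := by
    have : (n + 1) ^ 2 = n * (n + 2) + 1 := by ring
    omega
  rw [e1, Nat.add_sub_cancel] at hO
  rw [Nat.add_sub_cancel] at hT
  have hn0 : 0 < n := by omega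
  have hpos : 0 < n ^ 4 * (n + 1 + 1) ^ 2 := by positivity
  have e2 : Nat.card (Cfsg.Out ↥(twistedE6 K (n + 1))) * (n ^ 4 * (n + 1 + 1) ^ 2) =
      2 * Nat.gcd 3 (n + 1 + 1) * f * (n ^ 4 * (n + 1 + 1) ^ 2) := by
    rw [← hT]
    calc Nat.card (Cfsg.Out ↥(twistedE6 K (n + 1))) * (Nat.gcd 3 (n + 1 + 1) *
          Nat.card ↥(chevE6.diagonalSubgroup K ⊓ twistedE6 K (n + 1)))
        = Nat.gcd 3 (n + 1 + 1) * (Nat.card (Cfsg.Out ↥(twistedE6 K (n + 1))) *
          Nat.card ↥(chevE6.diagonalSubgroup K ⊓ twistedE6 K (n + 1))) := by ring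
      _ = Nat.gcd 3 (n + 1 + 1) * (n ^ 2 * (n * (n + 2)) ^ 2 * (2 * f)) := by rw [hO]
      _ = 2 * Nat.gcd 3 (n + 1 + 1) * f * (Nat.gcd 3 (n + 1 + 1) *
          Nat.card ↥(chevE6.diagonalSubgroup K ⊓ twistedE6 K (n + 1))) := by
        rw [hT]; ring
  exact Nat.eq_of_mul_eq_mul_right hpos e2

end E6

end Cfsg.Agent.Lib.Helper8.Chev
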