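import Cfsg.Agent.Lib.Helper8.ChevTb2
import Cfsg.Agent.Lib.Helper7.TwOutP

set_option autoImplicit false

/-! `|Out ²E₆(q)| = 2 gcd(3, q + 1) f`. -/

namespace Cfsg.Agent.Lib.Helper8.Chev

open Cfsg.Lie Matrix

section E6

variable {K : Type*} [Field K] [Fintype K]

/-- `|Out ²E₆(q)| = 2 gcd(3, q + 1) f` -/
theorem card_out_twE6 (p f : ℕ) [Fact p.Prime] [CharP K p]
    (hK : Fintype.card K = p ^ (2 * f)) (hf : 1 ≤ f) :
    Nat.card (Cfsg.Out ↥(twistedE6 K (p ^ f))) = 2 * Nat.gcd 3 (p ^ f + 1) * f :=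
  card_out_twE6_of p f hK hf (fun _ X _ hP hlt θ hU hV J hJ t ht =>
    Cfsg.Agent.Lib.Helper7.TwOutP.negFix_E6 X hP hlt θ hU hV J hJ t ht)

end E6

end Cfsg.Agent.Lib.Helper8.Chev
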