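import Cfsg.Agent.Lib.Helper8.ChevTc1
import Cfsg.Agent.H26.Rs5F

set_option autoImplicit false

/-! Generic facts for the automorphisms of abstract twisted groups (copies of facts of the
untwisted theory that avoid its imports). -/

namespace Cfsg.Agent.Lib.Helper8.Chev

open Cfsg.Lie Matrix

theorem card_ringAut_pfX {F : Type*} [Field F] [Fintype F] (p f : ℕ) [Fact p.Prime] [CharP F p]
    (hF : Fintype.card F = p ^ f) : Nat.card (F ≃+* F) = f := by
  letI : Algebra (ZMod p) F := ZMod.algebra F p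
  have hk : Module.finrank (ZMod p) F = f := by
    have := Module.card_eq_pow_finrank (K := ZMod p) (V := F)
    rw [hF, ZMod.card] at this
    exact (Nat.pow_right_injective (Fact.out : p.Prime).two_le this).symm
  rw [← hk, ← IsGalois.card_aut_eq_finrank (ZMod p) F]
  apply Nat.card_congr
  refine ⟨fun τ => AlgEquiv.ofRingEquiv (f := τ) (fun r => ?_), fun e => e.toRingEquiv,
    fun τ => rfl, fun e => rfl⟩
  exact RingHom.congr_fun (Subsingleton.elim ((τ : F →+* F).comp (algebraMap (ZMod p) F))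
    (algebraMap (ZMod p) F)) r

/-- the automorphisms preserving `U¹` and `V¹` -/
def presSubX (D : ChevalleyDatum) (F : Type*) [Field F] (G1 : Subgroup (GL D.Idx F))
    [Finite ↥G1] : Subgroup (MulAut ↥G1) where
  carrier := {θ | PresT θ (D.posUnipotent F) ∧ PresT θ (D.negUnipotent F)}
  one_mem' := ⟨fun _ hg => hg, fun _ hg => hg⟩
  mul_mem' := fun ha hb => ⟨ha.1.mul hb.1, ha.2.mul hb.2⟩
  inv_mem' := fun ha => ⟨ha.1.inv, ha.2.inv⟩

theorem mem_presSubX {D : ChevalleyDatum} {F : Type*} [Field F] {G1 : Subgroup (GL D.Idx F)}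
    [Finite ↥G1] {θ : MulAut ↥G1} :
    θ ∈ presSubX D F G1 ↔ PresT θ (D.posUnipotent F) ∧ PresT θ (D.negUnipotent F) := Iff.rfl

section

variable {D : ChevalleyDatum}

/-- a word making all the positive roots negative: it makes the negative roots positive, and so
does the reversed word -/
theorem full_propsX (hD : D ∈ [chevG2, chevB2, chevD4, chevF4, chevE6, chevE7, chevE8])
    {l : List ℕ} (hl : ∀ i ∈ l, i < D.rank)
    (hfull : ∀ r, D.nroots / 2 ≤ r → r < D.nroots → reflWord D l r < D.nroots / 2) :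
    (∀ r, r < D.nroots / 2 → D.nroots / 2 ≤ reflWord D l r) ∧
    (∀ r, D.nroots / 2 ≤ r → r < D.nroots → reflWord D l.reverse r < D.nroots / 2) ∧
    (∀ r, r < D.nroots / 2 → D.nroots / 2 ≤ reflWord D l.reverse r) := by
  have V := valid0_of_mem hD
  have VJ := validJ_of_mem hD
  have H := validH_of_mem hD
  have hI := checkInv_of_mem hD
  have hev := V.even
  have hlr : ∀ i ∈ l.reverse, i < D.rank := fun i hi => hl i (List.mem_reverse.mp hi)
  have key : ∀ l' : List ℕ, (∀ i ∈ l', i < D.rank) →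
      (∀ r, D.nroots / 2 ≤ r → r < D.nroots → reflWord D l' r < D.nroots / 2) →
      ∀ r, r < D.nroots / 2 → D.nroots / 2 ≤ reflWord D l' r := by
    intro l' hl' hf r hr
    have hr' : r < D.nroots := by omega
    have hn := V.neg_lt hr'
    have e1 : D.neg (D.neg r) = r := by
      rw [V.neg_eq _ hn, V.neg_eq _ hr']; omega
    have h1 := reflWord_neg VJ H.nS hl' hn
    rw [e1] at h1
    have h2 : D.nroots / 2 ≤ D.neg r := by rw [V.neg_eq _ hr']; omega
    have h3 := hf _ h2 hn
    have h4 := reflWord_lt VJ H.nS hl' hn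
    rw [h1, V.neg_eq _ h4]
    omega
  have hrev : ∀ r, D.nroots / 2 ≤ r → r < D.nroots →
      reflWord D l.reverse r < D.nroots / 2 := by
    intro r h1 h2
    by_contra hcon
    rw [not_lt] at hcon
    have h3 := hfull _ hcon (reflWord_lt VJ H.nS hlr h2)
    rw [reflWord_reverse_cancel VJ H.nS hI hl h2] at h3
    omega
  exact ⟨key l hl hfull, hrev, key _ hlr hrev⟩

/-- a word making all the fundamental roots negative makes all the positive roots negative -/
theorem all_neg_of_simple_negX (hD : D ∈ [chevG2, chevB2, chevD4, chevF4, chevE6, chevE7, chevE8])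
    {l₀ : List ℕ} (hl₀ : ∀ i ∈ l₀, i < D.rank)
    (hfull : ∀ r, D.nroots / 2 ≤ r → r < D.nroots → reflWord D l₀ r < D.nroots / 2)
    {l : List ℕ} (hl : ∀ i ∈ l, i < D.rank)
    (h : ∀ k < D.rank, ¬ D.nroots / 2 ≤ reflWord D l (D.simple k)) :
    ∀ r, D.nroots / 2 ≤ r → r < D.nroots → reflWord D l r < D.nroots / 2 := by
  have VJ := validJ_of_mem hD
  have H := validH_of_mem hD
  obtain ⟨hnp, -, -⟩ := full_propsX hD hl₀ hfull
  have hll : ∀ i ∈ l₀ ++ l, i < D.rank := by
    intro i hi
    rcases List.mem_append.mp hi with h | h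
    · exact hl₀ i h
    · exact hl i h
  have hz : lenL D (l₀ ++ l) = 0 := by
    by_contra hne
    obtain ⟨k, hk, hneg⟩ := exists_simple_neg hD hll (Nat.pos_of_ne_zero hne)
    apply hneg
    rw [reflWord_append]
    exact hnp _ (not_le.mp (h k hk))
  have htriv := reflWord_of_lenL_zero hD hll hz
  intro r h1 h2
  by_contra hcon
  rw [not_lt] at hcon
  have h3 := htriv r h2
  rw [reflWord_append] at h3
  have h4 := hfull _ hcon (reflWord_lt VJ H.nS hl h2)
  omega

variable {F : Type*} [Field F]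

/-- a conjugate of `U` by an element making all the positive roots negative is inside `V` -/
theorem conj_pos_le_negX (hD : D ∈ [chevG2, chevB2, chevD4, chevF4, chevE6, chevE7, chevE8])
    {n : GL D.Idx F} {σ : ℕ → ℕ} (hσ : RootPerm D F (n : Matrix D.Idx D.Idx F) σ)
    (hneg : ∀ r, D.nroots / 2 ≤ r → r < D.nroots → σ r < D.nroots / 2) :
    (D.posUnipotent F).map (MulAut.conj n).toMonoidHom ≤ D.negUnipotent F := by
  have P := posP_of_mem hD
  unfold ChevalleyDatum.posUnipotent
  rw [MonoidHom.map_closure, Subgroup.closure_le]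
  rintro _ ⟨g, ⟨r, t, hr, hg⟩, rfl⟩
  obtain ⟨ε, he⟩ := rootPerm_conj hσ hr.1 t g hg
  have hpos := (P r hr.1).1.mp hr
  have hlt := (hσ r hr.1).1
  have hn := (P _ hlt).2.mpr (hneg r hpos hr.1)
  exact Subgroup.subset_closure ⟨σ r, ε * t, hn, he⟩

/-- a conjugate of `V` by an element making all the negative roots positive is inside `U` -/
theorem conj_neg_le_posX (hD : D ∈ [chevG2, chevB2, chevD4, chevF4, chevE6, chevE7, chevE8])
    {n : GL D.Idx F} {σ : ℕ → ℕ} (hσ : RootPerm D F (n : Matrix D.Idx D.Idx F) σ)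
    (hpos : ∀ r, r < D.nroots / 2 → D.nroots / 2 ≤ σ r) :
    (D.negUnipotent F).map (MulAut.conj n).toMonoidHom ≤ D.posUnipotent F := by
  have P := posP_of_mem hD
  unfold ChevalleyDatum.negUnipotent
  rw [MonoidHom.map_closure, Subgroup.closure_le]
  rintro _ ⟨g, ⟨r, t, hr, hg⟩, rfl⟩
  obtain ⟨ε, he⟩ := rootPerm_conj hσ hr.1 t g hg
  have hneg := (P r hr.1).2.mp hr
  have hlt := (hσ r hr.1).1
  have hp := (P _ hlt).1.mpr (hpos r hneg)
  exact Subgroup.subset_closure ⟨σ r, ε * t, hp, he⟩

end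

end Cfsg.Agent.Lib.Helper8.Chev
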