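import Cfsg.Agent.Lib.Helper8.ChevXT10
import Cfsg.Agent.Lib.Helper8.ChevTa1

set_option autoImplicit false

/-! Automorphisms of abstract twisted groups: the normalizer of `U¹`. -/

namespace Cfsg.Agent.Lib.Helper8.Chev

open Cfsg.Lie Matrix Cfsg.Agent.Lib.Helper8.Weyl

section

variable {D : ChevalleyDatum}

/-- a word keeping the fundamental roots of a class positive keeps all the positive roots of the
class positive -/
theorem XCls.pos_of_simple_pos (hD : D ∈ [chevG2, chevB2, chevD4, chevF4, chevE6, chevE7, chevE8])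
    {F : Type*} [Field F] {ρ : ℕ → ℕ} {c : List ℕ} (hc : XCls D F ρ c) {l : List ℕ}
    (hl : ∀ i ∈ l, i < D.rank)
    (hpos : ∀ j ∈ c, D.nroots / 2 ≤ reflWord D l (D.simple j)) :
    ∀ r, D.nroots / 2 ≤ r → r < D.nroots → reflWord D c r < D.nroots / 2 →
      D.nroots / 2 ≤ reflWord D l r := by
  have hX := chevWD_ok_mem hD
  set J : Set (Fin D.rank) := {i | i.val ∈ c} with hJ
  obtain ⟨u, hu, eu⟩ := exists_perm_of_word hD hl
  obtain ⟨v, hv, ev⟩ := exists_perm_of_word_J hD J (l := c) (fun i hi => ⟨hc.lt i hi, hi⟩)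
  have hu' : u ∈ (chevWD D (validJ_of_mem hD) (validH_of_mem hD) (checkInv_of_mem hD)).WJ
      Set.univ := by
    rw [WData.WJ_univ]; exact hu
  have hup : ∀ j ∈ J, (chevWD D (validJ_of_mem hD) (validH_of_mem hD) (checkInv_of_mem hD)).pos
      (u ((chevWD D (validJ_of_mem hD) (validH_of_mem hD) (checkInv_of_mem hD)).p j)) := by
    intro j hj
    show D.nroots / 2 ≤ (u ⟨D.simple j.val, _⟩).val
    rw [eu]
    exact hpos j.val hj
  intro r hr1 hr2 hr3
  have hpr : (chevWD D (validJ_of_mem hD) (validH_of_mem hD) (checkInv_of_mem hD)).pos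
      (⟨r, hr2⟩ : Fin D.nroots) := hr1
  have hinJ : (chevWD D (validJ_of_mem hD) (validH_of_mem hD) (checkInv_of_mem hD)).inJ J
      (⟨r, hr2⟩ : Fin D.nroots) := by
    by_contra hn
    have h1 := WData.pos_WJ hX hv ⟨r, hr2⟩ hpr hn
    have h2 : D.nroots / 2 ≤ (v ⟨r, hr2⟩).val := h1
    rw [ev] at h2
    exact absurd h2 (by simpa using hr3)
  have h3 := WData.pos_of_inJ hX (WData.lin_of_mem hX hu') hup ⟨r, hr2⟩ hpr hinJ
  have h4 : D.nroots / 2 ≤ (u ⟨r, hr2⟩).val := h3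
  rw [eu] at h4
  exact h4

end

namespace XBN

variable {D : ChevalleyDatum} {F : Type*} [Field F] {σ : GL D.Idx F → GL D.Idx F}
  {bar ρ E : ℕ → ℕ} {X : XEnd D F σ bar ρ E} {cls : List (List ℕ)}
  {G1 : Subgroup (GL D.Idx F)}

/-- a representative keeping the fundamental roots of a class positive conjugates the class
subgroup into `U` -/
theorem conj_cls_pos (Y : XBN X cls G1) {c : List ℕ} (hc : c ∈ cls) {l : List ℕ}
    (hl : ∀ i ∈ l, i < D.rank)
    (hpos : ∀ j ∈ c, D.nroots / 2 ≤ reflWord D l (D.simple j)) {u : GL D.Idx F}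
    (hu : u ∈ UnegW D F c) : nP D F l * u * (nP D F l)⁻¹ ∈ D.posUnipotent F := by
  have hD := X.hD
  have V1 := valid1_of_mem hD
  have VJ := validJ_of_mem hD
  have H := validH_of_mem hD
  have P := posP_of_mem hD
  have hP := (rootPermN_nP (F := F) VJ V1 H.nS _ hl).rootPerm
  have hroot := (Y.cls_ok c hc).pos_of_simple_pos hD hl hpos
  have hle : UnegW D F c ≤ (D.posUnipotent F).comap (MulAut.conj (nP D F l)).toMonoidHom := by
    unfold UnegW
    rw [Subgroup.closure_le]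
    rintro g ⟨r, t, hr1, hr2, hr3, hg⟩
    rw [SetLike.mem_coe, Subgroup.mem_comap]
    obtain ⟨ε, he⟩ := rootPerm_conj hP hr2 t g hg
    have hlt := (hP r hr2).1
    refine Subgroup.subset_closure ⟨reflWord D l r, (ε : F) * t, ?_, he⟩
    rw [(P _ hlt).1]
    exact hroot r hr1 hr2 hr3
  exact hle hu

/-- a representative of a non-trivial element of the Weyl group conjugates some non-trivial
element of a class subgroup into `V` -/
theorem exists_cls_conj_neg (Y : XBN X cls G1) {Cs : List (List ℕ)}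
    (hCs : ∀ c ∈ Cs, c ∈ cls) (hg : GoodW D Cs.flatten) (hne : Cs ≠ []) :
    ∃ c ∈ cls, ∃ u ∈ UnegW D F c ⊓ G1, u ≠ 1 ∧
      nP D F Cs.flatten * u * (nP D F Cs.flatten)⁻¹ ∈ D.negUnipotent F := by
  have hD := X.hD
  obtain ⟨Cs', c, rfl⟩ := (List.eq_nil_or_concat Cs).resolve_left hne
  have hc : c ∈ cls := hCs c (by simp)
  have hcok := Y.cls_ok c hc
  obtain ⟨u, hu, hu1⟩ := Y.nontriv c hc
  refine ⟨c, hc, u, hu, hu1, ?_⟩
  rw [List.concat_eq_append, List.flatten_append, List.flatten_singleton] at hg ⊢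
  have h1 := unegW_le_append (F := F) hD hg hcok.good (Subgroup.mem_inf.mp hu).1
  exact conj_unegW_neg hD hg.lt h1

/-- an element of the twisted group conjugating `U¹` into `U` lies in `B` -/
theorem mem_borel_of_conj_pos (Y : XBN X cls G1) {g : GL D.Idx F} (hg : g ∈ G1)
    (hn : ∀ u ∈ D.posUnipotent F ⊓ G1, g * u * g⁻¹ ∈ D.posUnipotent F) :
    g ∈ D.borelSubgroup F := by
  have hD := X.hD
  have V1 := valid1_of_mem hD
  have VJ := validJ_of_mem hD
  have H := validH_of_mem hD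
  have Y' := Y.toXGrp
  obtain ⟨Cs, hCs, hgood, u₁, hu₁, h₁, hh₁, u, hu, e⟩ := Y'.bruhat hg
  have hu₁U := (Subgroup.mem_inf.mp hu₁).1
  have hh₁H := (Subgroup.mem_inf.mp hh₁).1
  have huU : u ∈ D.posUnipotent F := unegW_le_pos hD (Y'.flatten_lt hCs) (Subgroup.mem_inf.mp hu).1
  have huG := (Subgroup.mem_inf.mp hu).2
  by_cases hne : Cs = []
  · subst hne
    rw [List.flatten_nil, nP_nil, mul_one] at e
    rw [e]
    exact mul_mem (mul_mem (pos_le_borel hu₁U) (diagonal_le_borel hh₁H)) (pos_le_borel huU)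
  · exfalso
    obtain ⟨c, hc, x, hx, hx1, hneg⟩ := Y.exists_cls_conj_neg hCs hgood hne
    have hxU : x ∈ D.posUnipotent F :=
      unegW_le_pos hD (Y.cls_ok c hc).lt (Subgroup.mem_inf.mp hx).1
    have hxG := (Subgroup.mem_inf.mp hx).2
    have h1 : u⁻¹ * x * u ∈ D.posUnipotent F ⊓ G1 :=
      Subgroup.mem_inf.mpr ⟨mul_mem (mul_mem (inv_mem huU) hxU) huU,
        mul_mem (mul_mem (inv_mem huG) hxG) huG⟩
    have h2 := hn _ h1
    have hb : (u₁ * h₁)⁻¹ ∈ D.borelSubgroup F :=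
      inv_mem (mul_mem (pos_le_borel hu₁U) (diagonal_le_borel hh₁H))
    have h3 := (Subgroup.mem_normalizer_iff.mp (borel_le_normalizer_pos VJ V1 H hb) _).mp h2
    have e2 : (u₁ * h₁)⁻¹ * (g * (u⁻¹ * x * u) * g⁻¹) * (u₁ * h₁)⁻¹⁻¹ =
        nP D F Cs.flatten * x * (nP D F Cs.flatten)⁻¹ := by
      rw [e]; group
    rw [e2] at h3
    have h4 : nP D F Cs.flatten * x * (nP D F Cs.flatten)⁻¹ ∈
        D.posUnipotent F ⊓ D.negUnipotent F := Subgroup.mem_inf.mpr ⟨h3, hneg⟩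
    rw [pos_inf_neg hD, Subgroup.mem_bot] at h4
    apply hx1
    have : x = (nP D F Cs.flatten)⁻¹ * (nP D F Cs.flatten * x * (nP D F Cs.flatten)⁻¹) *
        nP D F Cs.flatten := by group
    rw [this, h4]; group

/-- an automorphism preserving `U¹` preserves `B¹` -/
theorem presT_borel [Finite ↥G1] (Y : XBN X cls G1) {θ : MulAut ↥G1}
    (h : PresT θ (D.posUnipotent F)) : PresT θ (D.borelSubgroup F) := by
  have hD := X.hD
  have V1 := valid1_of_mem hD
  have VJ := validJ_of_mem hD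
  have H := validH_of_mem hD
  intro b hb
  apply Y.mem_borel_of_conj_pos (θ b).2
  intro u hu
  obtain ⟨huU, huG⟩ := Subgroup.mem_inf.mp hu
  have h1 := h.inv ⟨u, huG⟩ huU
  have hbn := borel_le_normalizer_pos VJ V1 H hb
  have h2 : (b : GL D.Idx F) * ((θ⁻¹ : MulAut ↥G1) ⟨u, huG⟩ : ↥G1) * (b : GL D.Idx F)⁻¹ ∈
      D.posUnipotent F := (Subgroup.mem_normalizer_iff.mp hbn _).mp h1
  have h3 := h (b * (θ⁻¹ : MulAut ↥G1) ⟨u, huG⟩ * b⁻¹) h2
  rw [map_mul, map_mul, map_inv, MulAut.apply_inv_self] at h3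
  exact h3

end XBN

end Cfsg.Agent.Lib.Helper8.Chev
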