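import Cfsg.Agent.Lib.Helper8.ChevTc0

set_option autoImplicit false

/-! Automorphisms of abstract twisted groups: adjusting by an inner automorphism so that `U¹` and
`V¹` are preserved. -/

namespace Cfsg.Agent.Lib.Helper8.Chev

open Cfsg.Lie Matrix

section

variable {D : ChevalleyDatum} {F : Type*} [Field F] {G1 : Subgroup (GL D.Idx F)}

/-- conjugation by an element normalizing a subgroup preserves it -/
theorem presT_conj_normalizer {S : Subgroup (GL D.Idx F)} (x : ↥G1)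
    (hx : (x : GL D.Idx F) ∈ Subgroup.normalizer (S : Set (GL D.Idx F))) : PresT (MulAut.conj x : MulAut ↥G1) S := by
  intro g hg
  rw [MulAut.conj_apply]
  exact (Subgroup.mem_normalizer_iff.mp hx _).mp hg

end

namespace XBN

variable {D : ChevalleyDatum} {F : Type*} [Field F] {σ : GL D.Idx F → GL D.Idx F}
  {bar ρ E : ℕ → ℕ} {X : XEnd D F σ bar ρ E} {cls : List (List ℕ)}
  {G1 : Subgroup (GL D.Idx F)}

/-- symmetric words commute with the symmetry of the roots -/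
theorem flatten_bar (Y : XBN X cls G1) {Cs : List (List ℕ)} (hCs : ∀ c ∈ Cs, c ∈ cls) :
    ∀ r < D.nroots, bar (reflWord D Cs.flatten r) = reflWord D Cs.flatten (bar r) := by
  intro r hr
  rw [← X.reflWord_bar (Y.toXGrp.flatten_lt hCs) hr,
    X.reflWord_flatten_sym (Y.toXGrp.clsOk hCs) _ (X.bar_lt r hr)]

/-- the longest element, with all its properties -/
theorem w0_data (Y : XBN X cls G1) :
    ∃ n ∈ G1, ∃ σ τ : ℕ → ℕ,
      RootPerm D F (n : Matrix D.Idx D.Idx F) σ ∧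
      RootPerm D F ((n⁻¹ : GL D.Idx F) : Matrix D.Idx D.Idx F) τ ∧
      (∀ s, D.nroots / 2 ≤ s → s < D.nroots → σ s < D.nroots / 2) ∧
      (∀ s, s < D.nroots / 2 → D.nroots / 2 ≤ σ s) ∧
      (∀ s, D.nroots / 2 ≤ s → s < D.nroots → τ s < D.nroots / 2) ∧
      (∀ s, s < D.nroots / 2 → D.nroots / 2 ≤ τ s) := by
  have hD := X.hD
  have V1 := valid1_of_mem hD
  have VJ := validJ_of_mem hD
  have H := validH_of_mem hD
  have hI := checkInv_of_mem hD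
  obtain ⟨Cs, hCs, hg, hfull⟩ := Y.w0
  have hl := Y.toXGrp.flatten_lt hCs
  have hlr : ∀ i ∈ Cs.flatten.reverse, i < D.rank := fun i hi => hl i (List.mem_reverse.mp hi)
  obtain ⟨h1, h2, h3⟩ := full_propsX hD hl hfull
  have hP := (rootPermN_nP (F := F) VJ V1 H.nS _ hl).rootPerm
  refine ⟨nP D F Cs.flatten, Y.toXGrp.nP_mem hCs, reflWord D Cs.flatten,
    reflWord D Cs.flatten.reverse, hP, ?_, hfull, h1, h2, h3⟩
  apply hP.inv_unit
  intro s hs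
  exact ⟨reflWord_lt VJ H.nS hlr hs, reflWord_reverse_cancel VJ H.nS hI hl hs⟩

/-- every automorphism of a finite twisted group preserves `U¹` and `V¹` up to an inner
automorphism -/
theorem exists_adjust [Finite F] (Y : XBN X cls G1) (p : ℕ) [Fact p.Prime]
    (hcard : Nat.card ↥((D.posUnipotent F ⊓ G1).subgroupOf G1) =
      p ^ (Nat.card ↥G1).factorization p)
    (θ : MulAut ↥G1) :
    ∃ x : ↥G1, PresT (MulAut.conj x * θ : MulAut ↥G1) (D.posUnipotent F) ∧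
      PresT (MulAut.conj x * θ : MulAut ↥G1) (D.negUnipotent F) := by
  classical
  have hD := X.hD
  have V := valid0_of_mem hD
  have V1 := valid1_of_mem hD
  have VJ := validJ_of_mem hD
  have H := validH_of_mem hD
  have Y' := Y.toXGrp
  obtain ⟨x₁, hx₁⟩ := Cfsg.Agent.H26.Ro.exists_conj_preserve_sylow p _ hcard θ
  obtain ⟨θ₁, hθ₁⟩ : ∃ θ₁ : MulAut ↥G1, θ₁ = MulAut.conj x₁ * θ := ⟨_, rfl⟩
  rw [← hθ₁] at hx₁
  have hP₁ : PresT θ₁ (D.posUnipotent F) := fun g hg =>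
    (Subgroup.mem_inf.mp (Subgroup.mem_subgroupOf.mp
      (hx₁ g (Subgroup.mem_subgroupOf.mpr (Subgroup.mem_inf.mpr ⟨hg, g.2⟩))))).1
  -- the longest element
  obtain ⟨n₀, hn₀G, σ₀, τ₀, hσ₀, hτ₀, s1, s2, t1, t2⟩ := Y.w0_data
  have hleV : (D.posUnipotent F).map (MulAut.conj n₀).toMonoidHom ≤ D.negUnipotent F :=
    conj_pos_le_negX hD hσ₀ s1
  have hleU : (D.negUnipotent F).map (MulAut.conj n₀⁻¹).toMonoidHom ≤ D.posUnipotent F :=
    conj_neg_le_posX hD hτ₀ t2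
  set g : ↥G1 := θ₁ ⟨n₀, hn₀G⟩ with hg
  obtain ⟨Cs, hCs, hgood, u₁, hu₁, h₁, hh₁, u, hu, e⟩ := Y'.bruhat g.2
  have hl := Y'.flatten_lt hCs
  set n := nP D F Cs.flatten with hn
  have hnG : n ∈ G1 := Y'.nP_mem hCs
  have huU : u ∈ D.posUnipotent F := unegW_le_pos hD hl (Subgroup.mem_inf.mp hu).1
  have huG := (Subgroup.mem_inf.mp hu).2
  set b := u₁ * h₁ with hb
  have hbB : b ∈ D.borelSubgroup F :=
    mul_mem (pos_le_borel (Subgroup.mem_inf.mp hu₁).1) (diagonal_le_borel (Subgroup.mem_inf.mp hh₁).1)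
  have hbG : b ∈ G1 := mul_mem (Subgroup.mem_inf.mp hu₁).2 (Subgroup.mem_inf.mp hh₁).2
  have eg : (g : GL D.Idx F) = b * n * u := e
  -- the second adjustment
  obtain ⟨θ₂, hθ₂⟩ : ∃ θ₂ : MulAut ↥G1, θ₂ = MulAut.conj (⟨b⁻¹, inv_mem hbG⟩ : ↥G1) * θ₁ :=
    ⟨_, rfl⟩
  have hP₂ : PresT θ₂ (D.posUnipotent F) := by
    rw [hθ₂]
    exact (presT_conj_normalizer _ (borel_le_normalizer_pos VJ V1 H (inv_mem hbB))).mul hP₁
  have hθeq : MulAut.conj (⟨b⁻¹, inv_mem hbG⟩ * x₁) * θ = θ₂ := by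
    rw [hθ₂, hθ₁, map_mul, mul_assoc]
  refine ⟨⟨b⁻¹, inv_mem hbG⟩ * x₁, ?_, ?_⟩
  · rw [hθeq]
    exact hP₂
  rw [hθeq]
  -- the image of a conjugate of an element of `U¹` by `n₀`
  have key : ∀ z : ↥G1, ((θ₂ (⟨n₀, hn₀G⟩ * z * (⟨n₀, hn₀G⟩ : ↥G1)⁻¹) : ↥G1) : GL D.Idx F) =
      n * (u * ((θ₁ z : ↥G1) : GL D.Idx F) * u⁻¹) * n⁻¹ := by
    intro z
    rw [hθ₂, MulAut.mul_apply, MulAut.conj_apply, map_mul, map_mul, map_inv, ← hg]
    simp only [Subgroup.coe_mul, Subgroup.coe_inv]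
    rw [eg]
    group
  -- the action of `n` on the roots
  have hPn := (rootPermN_nP (F := F) VJ V1 H.nS _ hl).rootPerm
  obtain ⟨Cs₀, hCs₀, -, hfull₀⟩ := Y.w0
  have hneg : ∀ r, D.nroots / 2 ≤ r → r < D.nroots →
      reflWord D Cs.flatten r < D.nroots / 2 := by
    apply all_neg_of_simple_negX hD (Y'.flatten_lt hCs₀) hfull₀ hl
    intro k hk hpos
    obtain ⟨c, hc, hkc⟩ := Y.cover k hk
    have hcok := Y.cls_ok c hc
    have hposc : ∀ j ∈ c, D.nroots / 2 ≤ reflWord D Cs.flatten (D.simple j) := by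
      intro j hj
      by_contra hcon
      exact X.sym_neg_all hcok hl (Y.flatten_bar hCs) hj hcon k hkc hpos
    obtain ⟨x, hx, hx1⟩ := Y.nontriv c hc
    obtain ⟨hxc, hxG⟩ := Subgroup.mem_inf.mp hx
    have hxU : x ∈ D.posUnipotent F := unegW_le_pos hD hcok.lt hxc
    have hwU : n * x * n⁻¹ ∈ D.posUnipotent F := Y.conj_cls_pos hc hl hposc hxc
    have hwG : n * x * n⁻¹ ∈ G1 := mul_mem (mul_mem hnG hxG) (inv_mem hnG)
    -- a preimage in `V¹`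
    have hyG : u⁻¹ * x * u ∈ G1 := mul_mem (mul_mem (inv_mem huG) hxG) huG
    have hyU : u⁻¹ * x * u ∈ D.posUnipotent F := mul_mem (mul_mem (inv_mem huU) hxU) huU
    set z : ↥G1 := (θ₁⁻¹ : MulAut ↥G1) ⟨_, hyG⟩ with hzdef
    have hzU : (z : GL D.Idx F) ∈ D.posUnipotent F := hP₁.inv _ hyU
    have hθz : θ₁ z = ⟨_, hyG⟩ := by rw [hzdef, MulAut.apply_inv_self]
    set v : ↥G1 := ⟨n₀, hn₀G⟩ * z * (⟨n₀, hn₀G⟩ : ↥G1)⁻¹ with hvdef
    have hvV : (v : GL D.Idx F) ∈ D.negUnipotent F := hleV ⟨_, hzU, rfl⟩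
    have hθv : θ₂ v = ⟨_, hwG⟩ := by
      apply Subtype.ext
      rw [hvdef, key z, hθz]
      show n * (u * (u⁻¹ * x * u) * u⁻¹) * n⁻¹ = n * x * n⁻¹
      group
    -- a preimage in `U¹`
    set v' : ↥G1 := (θ₂⁻¹ : MulAut ↥G1) ⟨_, hwG⟩ with hv'def
    have hv'U : (v' : GL D.Idx F) ∈ D.posUnipotent F := hP₂.inv _ hwU
    have hθv' : θ₂ v' = ⟨_, hwG⟩ := by rw [hv'def, MulAut.apply_inv_self]
    have hvv' : v' = v := θ₂.injective (hθv'.trans hθv.symm)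
    rw [hvv'] at hv'U
    have hv1 : (v : GL D.Idx F) = 1 := by
      have : (v : GL D.Idx F) ∈ D.posUnipotent F ⊓ D.negUnipotent F := ⟨hv'U, hvV⟩
      rwa [pos_inf_neg hD, Subgroup.mem_bot] at this
    have hv1' : v = 1 := Subtype.ext hv1
    rw [hv1', map_one] at hθv
    have hw1 : n * x * n⁻¹ = 1 := by
      have := congrArg (fun z : ↥G1 => (z : GL D.Idx F)) hθv
      exact this.symm
    apply hx1
    have : x = n⁻¹ * (n * x * n⁻¹) * n := by group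
    rw [this, hw1]; group
  have hWV : (D.posUnipotent F).map (MulAut.conj n).toMonoidHom ≤ D.negUnipotent F :=
    conj_pos_le_negX hD hPn hneg
  intro v hv
  have hu₀ : n₀⁻¹ * (v : GL D.Idx F) * n₀⁻¹⁻¹ ∈ D.posUnipotent F := hleU ⟨_, hv, rfl⟩
  have hu₀G : n₀⁻¹ * (v : GL D.Idx F) * n₀⁻¹⁻¹ ∈ G1 :=
    mul_mem (mul_mem (inv_mem hn₀G) v.2) (inv_mem (inv_mem hn₀G))
  set u₀ : ↥G1 := ⟨_, hu₀G⟩ with hu₀def
  have hv' : v = ⟨n₀, hn₀G⟩ * u₀ * (⟨n₀, hn₀G⟩ : ↥G1)⁻¹ := by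
    apply Subtype.ext
    show (v : GL D.Idx F) = n₀ * (n₀⁻¹ * (v : GL D.Idx F) * n₀⁻¹⁻¹) * n₀⁻¹
    group
  have h3 := hP₁ u₀ hu₀
  have h4 : u * ((θ₁ u₀ : ↥G1) : GL D.Idx F) * u⁻¹ ∈ D.posUnipotent F :=
    mul_mem (mul_mem huU h3) (inv_mem huU)
  rw [hv', key u₀]
  exact hWV ⟨_, h4, rfl⟩

end XBN

end Cfsg.Agent.Lib.Helper8.Chev
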