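import Cfsg.Agent.Lib.Helper8.ChevTc4
import Cfsg.Agent.Lib.Helper27.OutCount

set_option autoImplicit false

/-! Abstract twisted groups: conjugation by the torus, and the order of the outer automorphism
group through the automorphisms preserving `U¹` and `V¹`. -/

namespace Cfsg.Agent.Lib.Helper8.Chev

open Cfsg.Lie Matrix

namespace XBN

variable {D : ChevalleyDatum} {F : Type*} [Field F] {σ : GL D.Idx F → GL D.Idx F}
  {bar ρ E : ℕ → ℕ} {X : XEnd D F σ bar ρ E} {cls : List (List ℕ)}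
  {G1 : Subgroup (GL D.Idx F)}

/-- an element of `G¹` whose conjugation preserves `U¹` and `V¹` lies in `H` -/
theorem mem_diagonal_of_pres [Finite F] (Y : XBN X cls G1) (x : ↥G1)
    (hU : PresT (MulAut.conj x : MulAut ↥G1) (D.posUnipotent F))
    (hV : PresT (MulAut.conj x : MulAut ↥G1) (D.negUnipotent F)) :
    (x : GL D.Idx F) ∈ D.diagonalSubgroup F := by
  have hD := X.hD
  have V := valid0_of_mem hD
  have V1 := valid1_of_mem hD
  have VJ := validJ_of_mem hD
  have H := validH_of_mem hD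
  have P := posP_of_mem hD
  have Tr := triP_of_mem hD
  have hI := checkInv_of_mem hD
  have Y' := Y.toXGrp
  obtain ⟨Cs, hCs, hgood, hfull⟩ := Y.w0
  have hl := Y'.flatten_lt hCs
  have hlr : ∀ i ∈ Cs.flatten.reverse, i < D.rank := fun i hi => hl i (List.mem_reverse.mp hi)
  obtain ⟨f1, f2, f3⟩ := full_propsX hD hl hfull
  set n := nP D F Cs.flatten with hn
  have hnG : n ∈ G1 := Y'.nP_mem hCs
  have hPn := (rootPermN_nP (F := F) VJ V1 H.nS _ hl).rootPerm
  have hPi : RootPerm D F ((n⁻¹ : GL D.Idx F) : Matrix D.Idx D.Idx F)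
      (reflWord D Cs.flatten.reverse) := by
    apply hPn.inv_unit
    intro s hs
    exact ⟨reflWord_lt VJ H.nS hlr hs, reflWord_reverse_cancel VJ H.nS hI hl hs⟩
  have hleV : (D.posUnipotent F).map (MulAut.conj n).toMonoidHom ≤ D.negUnipotent F :=
    conj_pos_le_negX hD hPn hfull
  have hleU : (D.negUnipotent F).map (MulAut.conj n⁻¹).toMonoidHom ≤ D.posUnipotent F :=
    conj_neg_le_posX hD hPi f3
  -- `x ∈ B`
  have hxB : (x : GL D.Idx F) ∈ D.borelSubgroup F := by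
    apply Y.mem_borel_of_conj_pos x.2
    intro u hu
    obtain ⟨huU, huG⟩ := Subgroup.mem_inf.mp hu
    have := hU ⟨u, huG⟩ huU
    rw [MulAut.conj_apply] at this
    simpa using this
  -- `n⁻¹ x n ∈ B`
  have hyG : n⁻¹ * (x : GL D.Idx F) * n ∈ G1 := mul_mem (mul_mem (inv_mem hnG) x.2) hnG
  have hyB : n⁻¹ * (x : GL D.Idx F) * n ∈ D.borelSubgroup F := by
    apply Y.mem_borel_of_conj_pos hyG
    intro u hu
    obtain ⟨huU, huG⟩ := Subgroup.mem_inf.mp hu
    have h1 : n * u * n⁻¹ ∈ D.negUnipotent F := hleV ⟨u, huU, rfl⟩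
    have h1G : n * u * n⁻¹ ∈ G1 := mul_mem (mul_mem hnG huG) (inv_mem hnG)
    have h2 := hV ⟨_, h1G⟩ h1
    rw [MulAut.conj_apply] at h2
    have h3 : (x : GL D.Idx F) * (n * u * n⁻¹) * (x : GL D.Idx F)⁻¹ ∈ D.negUnipotent F := by
      simpa using h2
    have h4 : n⁻¹ * ((x : GL D.Idx F) * (n * u * n⁻¹) * (x : GL D.Idx F)⁻¹) * n⁻¹⁻¹ ∈
        D.posUnipotent F := hleU ⟨_, h3, rfl⟩
    have e : n⁻¹ * (x : GL D.Idx F) * n * u * (n⁻¹ * (x : GL D.Idx F) * n)⁻¹ =
        n⁻¹ * ((x : GL D.Idx F) * (n * u * n⁻¹) * (x : GL D.Idx F)⁻¹) * n⁻¹⁻¹ := by group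
    rw [e]
    exact h4
  obtain ⟨u, hu, h, hh, e⟩ := Y'.borel_decomp (Subgroup.mem_inf.mpr ⟨hyB, hyG⟩)
  have hVn : n * u * n⁻¹ ∈ D.negUnipotent F := hleV ⟨u, (Subgroup.mem_inf.mp hu).1, rfl⟩
  have hH : n * h * n⁻¹ ∈ D.diagonalSubgroup F :=
    (Subgroup.mem_normalizer_iff.mp (monomial_le_normalizer hD (nP_mem_monomial hD hl)) _).mp
      (Subgroup.mem_inf.mp hh).1
  have e2 : (x : GL D.Idx F) = (n * u * n⁻¹) * (n * h * n⁻¹) := by
    have : (x : GL D.Idx F) = n * (n⁻¹ * (x : GL D.Idx F) * n) * n⁻¹ := by group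
    rw [this, e]; group
  rw [← borel_inf_neg_sup_diagonal VJ V1 H Tr P]
  refine Subgroup.mem_inf.mpr ⟨hxB, ?_⟩
  rw [e2]
  exact mul_mem (Subgroup.mem_sup_left hVn) (Subgroup.mem_sup_right hH)

/-- conjugation by an element of `H¹` preserves `U` and `V` -/
theorem pres_of_mem_diagonal (_ : XBN X cls G1) (x : ↥G1)
    (hx : (x : GL D.Idx F) ∈ D.diagonalSubgroup F) :
    PresT (MulAut.conj x : MulAut ↥G1) (D.posUnipotent F) ∧
      PresT (MulAut.conj x : MulAut ↥G1) (D.negUnipotent F) := by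
  have hD := X.hD
  have V1 := valid1_of_mem hD
  have VJ := validJ_of_mem hD
  have H := validH_of_mem hD
  exact ⟨presT_conj_normalizer x (diagonal_le_normalizer_pos VJ V1 H hx),
    presT_conj_normalizer x (diagonal_le_normalizer_neg VJ V1 H hx)⟩

/-- an automorphism preserving `U¹` and `V¹` preserves `H¹` -/
theorem presT_diagonal [Finite F] [Finite ↥G1] (Y : XBN X cls G1) {θ : MulAut ↥G1}
    (hU : PresT θ (D.posUnipotent F)) (hV : PresT θ (D.negUnipotent F)) :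
    PresT θ (D.diagonalSubgroup F) := by
  intro h hh
  obtain ⟨hcU, hcV⟩ := Y.pres_of_mem_diagonal h hh
  have e : (MulAut.conj (θ h) : MulAut ↥G1) = θ * MulAut.conj h * θ⁻¹ := by
    apply MulEquiv.ext
    intro g
    simp only [MulAut.mul_apply, MulAut.conj_apply, map_mul, map_inv, MulAut.apply_inv_self]
  apply Y.mem_diagonal_of_pres (θ h)
  · rw [e]
    exact (hU.mul hcU).mul hU.inv
  · rw [e]
    exact (hV.mul hcV).mul hV.inv

/-- `|Out G¹| |H¹| = |A₀|` -/
theorem card_out_mul_torus [Finite F] [Finite ↥G1] (Y : XBN X cls G1) (p : ℕ) [Fact p.Prime]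
    (hcard : Nat.card ↥((D.posUnipotent F ⊓ G1).subgroupOf G1) =
      p ^ (Nat.card ↥G1).factorization p)
    (hZ : ∀ x : ↥G1, (x : GL D.Idx F) ∈ D.diagonalSubgroup F →
      (MulAut.conj x : MulAut ↥G1) = 1 → x = 1) :
    Nat.card (Cfsg.Out ↥G1) * Nat.card ↥(D.diagonalSubgroup F ⊓ G1) =
      Nat.card ↥(presSubX D F G1) := by
  have key := Cfsg.Agent.Lib.Helper27.OutCount.card_out_mul (presSubX D F G1)
    ((D.diagonalSubgroup F ⊓ G1).subgroupOf G1)
    (fun θ => Y.exists_adjust p hcard θ)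
    (fun x hx => by
      rw [Subgroup.mem_subgroupOf]
      exact Subgroup.mem_inf.mpr ⟨Y.mem_diagonal_of_pres x hx.1 hx.2, x.2⟩)
    (fun x hx => by
      rw [Subgroup.mem_subgroupOf] at hx
      exact Y.pres_of_mem_diagonal x (Subgroup.mem_inf.mp hx).1)
    (fun x hx h => by
      rw [Subgroup.mem_subgroupOf] at hx
      exact hZ x (Subgroup.mem_inf.mp hx).1 h)
  rw [← key]
  congr 1
  exact (Nat.card_congr (Subgroup.subgroupOfEquivOfLe (inf_le_right)).toEquiv).symm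

end XBN

end Cfsg.Agent.Lib.Helper8.Chev
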