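import Cfsg.Agent.Lib.Helper8.ChevTc2
import Cfsg.Agent.Lib.Helper8.ChevAu1
import Cfsg.Agent.Lib.Helper8.ChevRF10

set_option autoImplicit false

/-! Abstract twisted groups: the cells `B¹ n_c B¹` of the classes. -/

namespace Cfsg.Agent.Lib.Helper8.Chev

open Cfsg.Lie Matrix Cfsg.Agent.Lib.Helper3

section

variable {D : ChevalleyDatum} {F : Type*} [Field F]

/-- an element of `N` in `B V` lies in `B` -/
theorem monomial_borel_negX (hD : D ∈ [chevG2, chevB2, chevD4, chevF4, chevE6, chevE7, chevE8])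
    {n b v : GL D.Idx F} (hn : n ∈ D.monomialSubgroup F) (hb : b ∈ D.borelSubgroup F)
    (hv : v ∈ D.negUnipotent F) (e : n = b * v) : n ∈ D.borelSubgroup F := by
  have P := posP_of_mem hD
  obtain ⟨n₀, hn₀, σ₀, τ₀, hσ₀, hτ₀, h1, h2⟩ := exists_w0 (F := F) hD
  have hVle : D.negUnipotent F ≤ (D.posUnipotent F).map (MulAut.conj n₀).toMonoidHom := by
    unfold ChevalleyDatum.negUnipotent
    rw [Subgroup.closure_le]
    rintro g ⟨s, t, hs, hg⟩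
    have hneg := (P s hs.1).2.mp hs
    obtain ⟨ε, he⟩ := rootPerm_conj hτ₀ hs.1 t g hg
    have hlt := (hτ₀ s hs.1).1
    have hpos := (P _ hlt).1.mpr (h2 s hneg)
    have hu : n₀⁻¹ * g * n₀⁻¹⁻¹ ∈ D.posUnipotent F :=
      Subgroup.subset_closure ⟨τ₀ s, ε * t, hpos, he⟩
    rw [SetLike.mem_coe, Subgroup.mem_map]
    refine ⟨n₀⁻¹ * g * n₀⁻¹⁻¹, hu, ?_⟩
    show n₀ * (n₀⁻¹ * g * n₀⁻¹⁻¹) * n₀⁻¹ = g
    group
  obtain ⟨u₀, hu₀, hv0⟩ := hVle hv
  have hv0' : v = n₀ * u₀ * n₀⁻¹ := hv0.symm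
  have hdc := dc_disjoint (x := n₀⁻¹ * n⁻¹) hD (inv_mem hn₀) (mul_mem (inv_mem hn₀) (inv_mem hn))
    ⟨u₀⁻¹, pos_le_borel (inv_mem hu₀), b⁻¹, inv_mem hb, by rw [e, hv0']; group⟩
    ⟨1, one_mem _, 1, one_mem _, by group⟩
  have e2 : n₀⁻¹⁻¹ * (n₀⁻¹ * n⁻¹) = n⁻¹ := by group
  rw [e2] at hdc
  have := inv_mem (diagonal_le_borel hdc)
  rwa [inv_inv] at this

end

namespace XBN

variable {D : ChevalleyDatum} {F : Type*} [Field F] {σ : GL D.Idx F → GL D.Idx F}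
  {bar ρ E : ℕ → ℕ} {X : XEnd D F σ bar ρ E} {cls : List (List ℕ)}
  {G1 : Subgroup (GL D.Idx F)}

/-- a symmetric reduced word of the longest element ending with a given class -/
theorem exists_w0_end (Y : XBN X cls G1) {c : List ℕ} (hc : c ∈ cls) :
    ∃ Cs' : List (List ℕ), (∀ c' ∈ Cs', c' ∈ cls) ∧ GoodW D (Cs'.flatten ++ c) ∧
      ∀ r, D.nroots / 2 ≤ r → r < D.nroots → reflWord D (Cs'.flatten ++ c) r < D.nroots / 2 := by
  have hD := X.hD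
  have VJ := validJ_of_mem hD
  have H := validH_of_mem hD
  have Y' := Y.toXGrp
  have hcok := Y.cls_ok c hc
  obtain ⟨Cs₀, hCs₀, hg₀, hfull⟩ := Y.w0
  have hl₀ := Y'.flatten_lt hCs₀
  have hCs₁ : ∀ c' ∈ Cs₀ ++ [c], c' ∈ cls := by
    intro c' hc'
    rw [List.mem_append, List.mem_singleton] at hc'
    rcases hc' with h | rfl
    · exact hCs₀ c' h
    · exact hc
  have hl₁ := Y'.flatten_lt hCs₁
  obtain ⟨Cs', hCs', hg', hact⟩ := X.sym_word Y.cls_ok Y.cover _ _ rfl hl₁ (Y.flatten_bar hCs₁)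
  rw [List.flatten_append, List.flatten_singleton] at hact
  have hl' := Y'.flatten_lt hCs'
  have hlt : ∀ i ∈ Cs'.flatten ++ c, i < D.rank := by
    intro i hi
    rw [List.mem_append] at hi
    rcases hi with hi | hi
    · exact hl' i hi
    · exact hcok.lt i hi
  have hact2 : ∀ r < D.nroots, reflWord D (Cs'.flatten ++ c) r = reflWord D Cs₀.flatten r := by
    intro r hr
    rw [reflWord_append, hact _ (reflWord_lt VJ H.nS hcok.lt hr), reflWord_append,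
      hcok.invol r hr]
  refine ⟨Cs', hCs', ?_, ?_⟩
  · apply goodW_of_lenL hD hlt
    have hneg : ∀ j ∈ c, ¬ D.nroots / 2 ≤ reflWord D Cs₀.flatten (D.simple j) := by
      intro j hj
      have hpj := (VJ.S j (hcok.lt j hj)).1
      have := hfull _ (refl_pos VJ (checkRP_of_mem hD) (hcok.lt j hj)).1 hpj
      omega
    have h1 := lenL_append_cls hD hcok hl₀ hneg
    rw [lenL_congr hact2, ← h1, lenL_congr (fun r hr => (hact r hr).symm), hg'.lenL_eq hD,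
      List.length_append]
  · intro r hr1 hr2
    rw [hact2 r hr2]
    exact hfull r hr1 hr2

/-- `U¹ = (U¹ ∩ n_c⁻¹ U n_c) X_c¹` -/
theorem pos_decomp (Y : XBN X cls G1) {c : List ℕ} (hc : c ∈ cls) {u : GL D.Idx F}
    (hu : u ∈ D.posUnipotent F ⊓ G1) :
    ∃ v ∈ D.posUnipotent F ⊓ G1, ∃ x ∈ UnegW D F c ⊓ G1,
      nP D F c * v * (nP D F c)⁻¹ ∈ D.posUnipotent F ∧ u = v * x := by
  have hD := X.hD
  have P := posP_of_mem hD
  have Y' := Y.toXGrp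
  have hcok := Y.cls_ok c hc
  obtain ⟨Cs', hCs', hg, hfull⟩ := Y.exists_w0_end hc
  obtain ⟨hu1, hu2⟩ := Subgroup.mem_inf.mp hu
  have hu1' := hu1
  rw [← unegW_eq_pos F P hfull] at hu1'
  obtain ⟨v, hv, hvf, x, hx, hxf, e⟩ :=
    X.fix_decomp (Y'.clsOk hCs') hcok hg hu1' (Y.le_fix hu2).2
  have hl' := Y'.flatten_lt hCs'
  have hvG : v ∈ G1 := Y'.unegW_fix_le hCs' hg.of_append
    (Subgroup.mem_inf.mpr ⟨hv, XEnd.unegW_le_group hD hl' hv, hvf⟩)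
  have hvU : v ∈ D.posUnipotent F := unegW_le_pos hD hl' hv
  have hxG : x ∈ G1 := Y.cls_fix c hc
    (Subgroup.mem_inf.mpr ⟨hx, XEnd.unegW_le_group hD hcok.lt hx, hxf⟩)
  have hxU : x ∈ D.posUnipotent F := unegW_le_pos hD hcok.lt hx
  have hnG := Y.cls_n c hc
  refine ⟨(nP D F c)⁻¹ * v * nP D F c, Subgroup.mem_inf.mpr ⟨?_, ?_⟩, x,
    Subgroup.mem_inf.mpr ⟨hx, hxG⟩, ?_, e⟩
  · have : (nP D F c)⁻¹ * v * nP D F c = u * x⁻¹ := by rw [e]; group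
    rw [this]
    exact mul_mem hu1 (inv_mem hxU)
  · exact mul_mem (mul_mem (inv_mem hnG) hvG) hnG
  · have : nP D F c * ((nP D F c)⁻¹ * v * nP D F c) * (nP D F c)⁻¹ = v := by group
    rw [this]
    exact hvU

/-- the representative of a class does not lie in `B` -/
theorem nP_cls_not_mem_borel (Y : XBN X cls G1) {c : List ℕ} (hc : c ∈ cls) :
    nP D F c ∉ D.borelSubgroup F := by
  have hD := X.hD
  have V := valid0_of_mem hD
  have VJ := validJ_of_mem hD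
  have hcok := Y.cls_ok c hc
  intro h
  obtain ⟨j, hj⟩ := List.exists_mem_of_ne_nil c hcok.ne
  have hlt := hcok.lt j hj
  have hp := (VJ.S j hlt).1
  have hpos := (refl_pos VJ (checkRP_of_mem hD) hlt).1
  have h1 := nP_pos_of_mem_borel hD hcok.lt h _ hpos hp
  obtain ⟨j', hj', e⟩ := hcok.long j hj
  have hp' := (VJ.S j' (hcok.lt j' hj')).1
  have hpos' := (refl_pos VJ (checkRP_of_mem hD) (hcok.lt j' hj')).1
  rw [e, V.neg_eq _ hp'] at h1
  have := V.even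
  omega

/-- the representative of a class does not lie in `V B` -/
theorem nP_cls_not_mem_neg_mul_borel (Y : XBN X cls G1) {c : List ℕ} (hc : c ∈ cls)
    {v b : GL D.Idx F} (hv : v ∈ D.negUnipotent F) (hb : b ∈ D.borelSubgroup F) :
    nP D F c ≠ v * b := by
  have hD := X.hD
  intro e
  have hm := nP_mem_monomial (F := F) hD (Y.cls_ok c hc).lt
  have e' : (nP D F c)⁻¹ = b⁻¹ * v⁻¹ := by rw [e]; group
  have := monomial_borel_negX hD (inv_mem hm) (inv_mem hb) (inv_mem hv) e'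
  have h2 := inv_mem this
  rw [inv_inv] at h2
  exact Y.nP_cls_not_mem_borel hc h2

/-- the normal form in the cell `B¹ n_c B¹` -/
theorem cell_form (Y : XBN X cls G1) {c : List ℕ} (hc : c ∈ cls) {b₁ b₂ : GL D.Idx F}
    (hb₁ : b₁ ∈ D.borelSubgroup F ⊓ G1) (hb₂ : b₂ ∈ D.borelSubgroup F ⊓ G1) :
    ∃ b ∈ D.borelSubgroup F ⊓ G1, ∃ x ∈ UnegW D F c ⊓ G1,
      b₁ * nP D F c * b₂ = b * nP D F c * x := by
  have hD := X.hD
  have hcok := Y.cls_ok c hc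
  obtain ⟨hb₁B, hb₁G⟩ := Subgroup.mem_inf.mp hb₁
  obtain ⟨u, hu, h, hh, rfl⟩ := Y.toXGrp.borel_decomp hb₂
  obtain ⟨hhH, hhG⟩ := Subgroup.mem_inf.mp hh
  obtain ⟨v, hv, x, hx, hvU, rfl⟩ := Y.pos_decomp hc hu
  obtain ⟨hvU', hvG⟩ := Subgroup.mem_inf.mp hv
  obtain ⟨hxc, hxG⟩ := Subgroup.mem_inf.mp hx
  have hnG := Y.cls_n c hc
  have hnM := nP_mem_monomial (F := F) hD hcok.lt
  have hH : nP D F c * h * (nP D F c)⁻¹ ∈ D.diagonalSubgroup F :=
    (Subgroup.mem_normalizer_iff.mp (monomial_le_normalizer hD hnM) _).mp hhH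
  have hx' : h⁻¹ * x * h⁻¹⁻¹ ∈ UnegW D F c := torus_conj_unegW hD c (inv_mem hhH) hxc
  refine ⟨b₁ * (nP D F c * v * (nP D F c)⁻¹) * (nP D F c * h * (nP D F c)⁻¹),
    Subgroup.mem_inf.mpr ⟨mul_mem (mul_mem hb₁B (pos_le_borel hvU)) (diagonal_le_borel hH),
      mul_mem (mul_mem hb₁G (mul_mem (mul_mem hnG hvG) (inv_mem hnG)))
        (mul_mem (mul_mem hnG hhG) (inv_mem hnG))⟩,
    h⁻¹ * x * h⁻¹⁻¹, Subgroup.mem_inf.mpr ⟨hx', mul_mem (mul_mem (inv_mem hhG) hxG)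
      (inv_mem (inv_mem hhG))⟩, ?_⟩
  group

/-- a non-trivial element of `n_c X_c¹ n_c⁻¹` lies in the cell `B¹ n_c B¹` -/
theorem conj_cls_mem_cell (Y : XBN X cls G1) {c : List ℕ} (hc : c ∈ cls) {x : GL D.Idx F}
    (hx : x ∈ UnegW D F c ⊓ G1) (hx1 : x ≠ 1) :
    ∃ b₁ ∈ D.borelSubgroup F ⊓ G1, ∃ b₂ ∈ D.borelSubgroup F ⊓ G1,
      nP D F c * x * (nP D F c)⁻¹ = b₁ * nP D F c * b₂ := by
  have hD := X.hD
  have V1 := valid1_of_mem hD
  have VJ := validJ_of_mem hD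
  have H := validH_of_mem hD
  have P := posP_of_mem hD
  have Tr := triP_of_mem hD
  have hcok := Y.cls_ok c hc
  obtain ⟨hxc, hxG⟩ := Subgroup.mem_inf.mp hx
  have hnG := Y.cls_n c hc
  obtain ⟨PP, hB, -, hS⟩ := Y.bnpair
  have memB : ∀ {g : ↥G1}, g ∈ PP.B ↔ (g : GL D.Idx F) ∈ D.borelSubgroup F := by
    intro g
    rw [hB, Subgroup.mem_subgroupOf, Subgroup.mem_inf]
    exact ⟨fun h => h.1, fun h => ⟨h, g.2⟩⟩
  set s : ↥G1 := ⟨nP D F c, hnG⟩ with hs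
  have hsS : s ∈ PP.S := by
    rw [hS]
    exact ⟨c, hc, rfl⟩
  have hsP : s ∈ PP.parabolic {s} :=
    (le_sup_right : Subgroup.closure {s} ≤ PP.parabolic {s}) (Subgroup.subset_closure rfl)
  have hxB : (⟨x, hxG⟩ : ↥G1) ∈ PP.parabolic {s} :=
    (le_sup_left : PP.B ≤ PP.parabolic {s}) (memB.mpr (pos_le_borel (unegW_le_pos hD hcok.lt hxc)))
  have hy : s * ⟨x, hxG⟩ * s⁻¹ ∈ (PP.parabolic {s} : Set ↥G1) :=
    mul_mem (mul_mem hsP hxB) (inv_mem hsP)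
  rw [BN.parabolic_singleton PP hsS] at hy
  rcases hy with hy | hy
  · exfalso
    have h1 : nP D F c * x * (nP D F c)⁻¹ ∈ D.borelSubgroup F := memB.mp hy
    have h2 : nP D F c * x * (nP D F c)⁻¹ ∈ D.borelSubgroup F ⊓ D.negUnipotent F :=
      Subgroup.mem_inf.mpr ⟨h1, conj_unegW_neg hD hcok.lt hxc⟩
    rw [borel_inf_neg VJ V1 H Tr P, Subgroup.mem_bot] at h2
    apply hx1
    have : x = (nP D F c)⁻¹ * (nP D F c * x * (nP D F c)⁻¹) * nP D F c := by group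
    rw [this, h2]; group
  · rw [BN.mem_C] at hy
    obtain ⟨b, hb, b', hb', e⟩ := hy
    refine ⟨b, Subgroup.mem_inf.mpr ⟨memB.mp hb, b.2⟩, b', Subgroup.mem_inf.mpr ⟨memB.mp hb', b'.2⟩,
      ?_⟩
    have := congrArg (fun z : ↥G1 => (z : GL D.Idx F)) e
    exact this

/-- `V ∩ B¹ n_c B¹ ⊆ n_c X_c¹ n_c⁻¹` -/
theorem neg_inf_cell (Y : XBN X cls G1) {c : List ℕ} (hc : c ∈ cls) {v b₁ b₂ : GL D.Idx F}
    (hv : v ∈ D.negUnipotent F) (hb₁ : b₁ ∈ D.borelSubgroup F ⊓ G1)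
    (hb₂ : b₂ ∈ D.borelSubgroup F ⊓ G1) (e : v = b₁ * nP D F c * b₂) :
    ∃ x ∈ UnegW D F c ⊓ G1, v = nP D F c * x * (nP D F c)⁻¹ := by
  have hD := X.hD
  have V1 := valid1_of_mem hD
  have VJ := validJ_of_mem hD
  have H := validH_of_mem hD
  have P := posP_of_mem hD
  have Tr := triP_of_mem hD
  have hcok := Y.cls_ok c hc
  have hnG := Y.cls_n c hc
  have hnM := nP_mem_monomial (F := F) hD hcok.lt
  obtain ⟨b, hb, x, hx, e1⟩ := Y.cell_form hc hb₁ hb₂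
  obtain ⟨hbB, hbG⟩ := Subgroup.mem_inf.mp hb
  rw [e1] at e
  by_cases hx1 : x = 1
  · exfalso
    rw [hx1, mul_one] at e
    have e2 : nP D F c = b⁻¹ * v := by rw [e]; group
    exact Y.nP_cls_not_mem_borel hc (monomial_borel_negX hD hnM (inv_mem hbB) hv e2)
  · obtain ⟨b₃, hb₃, b₄, hb₄, e3⟩ := Y.conj_cls_mem_cell hc hx hx1
    obtain ⟨b', hb', x', hx', e4⟩ := Y.cell_form hc hb₃ hb₄
    obtain ⟨hb'B, hb'G⟩ := Subgroup.mem_inf.mp hb'
    obtain ⟨hx'c, hx'G⟩ := Subgroup.mem_inf.mp hx'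
    rw [e4] at e3
    -- `t = n_c²`
    set t := nP D F c * nP D F c with ht
    have htH : t ∈ D.diagonalSubgroup F := Y.nP_cls_sq hc
    have htG : t ∈ G1 := mul_mem hnG hnG
    set y' := nP D F c * x' * (nP D F c)⁻¹ with hy'
    have hy'V : y' ∈ D.negUnipotent F := conj_unegW_neg hD hcok.lt hx'c
    have e5 : nP D F c * x = b' * y' * t := by
      have : nP D F c * x = (nP D F c * x * (nP D F c)⁻¹) * nP D F c := by group
      rw [this, e3, hy', ht]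
      group
    have hyt : t⁻¹ * y' * t⁻¹⁻¹ ∈ D.negUnipotent F :=
      (Subgroup.mem_normalizer_iff.mp (diagonal_le_normalizer_neg VJ V1 H (inv_mem htH)) _).mp hy'V
    have e6 : v = (b * b' * t) * (t⁻¹ * y' * t⁻¹⁻¹) := by
      rw [e, mul_assoc b, e5]
      group
    have hbt : b * b' * t ∈ D.borelSubgroup F ⊓ D.negUnipotent F := by
      refine Subgroup.mem_inf.mpr ⟨mul_mem (mul_mem hbB hb'B) (diagonal_le_borel htH), ?_⟩
      have : b * b' * t = v * (t⁻¹ * y' * t⁻¹⁻¹)⁻¹ := by rw [e6]; group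
      rw [this]
      exact mul_mem hv (inv_mem hyt)
    rw [borel_inf_neg VJ V1 H Tr P, Subgroup.mem_bot] at hbt
    rw [hbt, one_mul] at e6
    have hx'' : t⁻¹ * x' * t⁻¹⁻¹ ∈ UnegW D F c := torus_conj_unegW hD c (inv_mem htH) hx'c
    refine ⟨t⁻¹ * x' * t⁻¹⁻¹, Subgroup.mem_inf.mpr ⟨hx'',
      mul_mem (mul_mem (inv_mem htG) hx'G) (inv_mem (inv_mem htG))⟩, ?_⟩
    rw [e6, hy', ht]
    group

end XBN

end Cfsg.Agent.Lib.Helper8.Chev
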