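import Cfsg.Agent.Lib.Helper8.ChevTc3
import Cfsg.Agent.Lib.Helper8.ChevTd0

set_option autoImplicit false

/-! Abstract twisted groups: an automorphism preserving `U¹` and `V¹` preserves the negative class
subgroups, when the classes have different orders. -/

namespace Cfsg.Agent.Lib.Helper8.Chev

open Cfsg.Lie Matrix Cfsg.Agent.Lib.Helper3

namespace XBN

variable {D : ChevalleyDatum} {F : Type*} [Field F] {σ : GL D.Idx F → GL D.Idx F}
  {bar ρ E : ℕ → ℕ} {X : XEnd D F σ bar ρ E} {cls : List (List ℕ)}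
  {G1 : Subgroup (GL D.Idx F)}

/-- an automorphism preserving `U¹` and `V¹` maps the negative class subgroups to such
subgroups, as it maps the minimal parabolic subgroups -/
theorem exists_cls_map [Finite F] [Finite ↥G1] (Y : XBN X cls G1) {θ : MulAut ↥G1}
    (hU : PresT θ (D.posUnipotent F)) (hV : PresT θ (D.negUnipotent F))
    {c : List ℕ} (hc : c ∈ cls) :
    ∃ c' ∈ cls, (∀ y : ↥G1, (y : GL D.Idx F) ∈ YW D F c → ((θ y : ↥G1) : GL D.Idx F) ∈ YW D F c') ∧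
      (∀ y : ↥G1, (y : GL D.Idx F) ∈ YW D F c' →
        (((θ⁻¹ : MulAut ↥G1) y : ↥G1) : GL D.Idx F) ∈ YW D F c) := by
  have hD := X.hD
  have V1 := valid1_of_mem hD
  have VJ := validJ_of_mem hD
  have H := validH_of_mem hD
  have P := posP_of_mem hD
  have Tr := triP_of_mem hD
  obtain ⟨PP, hB, -, hS⟩ := Y.bnpair
  have memB : ∀ {g : ↥G1}, g ∈ PP.B ↔ (g : GL D.Idx F) ∈ D.borelSubgroup F := by
    intro g
    rw [hB, Subgroup.mem_subgroupOf, Subgroup.mem_inf]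
    exact ⟨fun h => h.1, fun h => ⟨h, g.2⟩⟩
  have memS : ∀ {c₀ : List ℕ} (hc₀ : c₀ ∈ cls), (⟨nP D F c₀, Y.cls_n c₀ hc₀⟩ : ↥G1) ∈ PP.S := by
    intro c₀ hc₀
    rw [hS]
    exact ⟨c₀, hc₀, rfl⟩
  -- the image of the class subgroup, from the image of the parabolic subgroup
  have main : ∀ (θ' : MulAut ↥G1), PresT θ' (D.negUnipotent F) →
      ∀ {c₁ c₂ : List ℕ} (hc₁ : c₁ ∈ cls) (hc₂ : c₂ ∈ cls),
      (PP.parabolic {(⟨nP D F c₁, Y.cls_n c₁ hc₁⟩ : ↥G1)}).map θ'.toMonoidHom =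
        PP.parabolic {(⟨nP D F c₂, Y.cls_n c₂ hc₂⟩ : ↥G1)} →
      ∀ y : ↥G1, (y : GL D.Idx F) ∈ YW D F c₁ → ((θ' y : ↥G1) : GL D.Idx F) ∈ YW D F c₂ := by
    intro θ' hV' c₁ c₂ hc₁ hc₂ hmap y hy
    have hcok := Y.cls_ok c₁ hc₁
    obtain ⟨u, hu, e⟩ := mem_YW.mp hy
    have hnG := Y.cls_n c₁ hc₁
    have huG : u ∈ G1 := by
      have : u = (nP D F c₁)⁻¹ * (y : GL D.Idx F) * nP D F c₁ := by rw [e]; group
      rw [this]
      exact mul_mem (mul_mem (inv_mem hnG) y.2) hnG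
    set s : ↥G1 := ⟨nP D F c₁, hnG⟩ with hs
    have hsP : s ∈ PP.parabolic {s} :=
      (le_sup_right : Subgroup.closure {s} ≤ PP.parabolic {s}) (Subgroup.subset_closure rfl)
    have huP : (⟨u, huG⟩ : ↥G1) ∈ PP.parabolic {s} :=
      (le_sup_left : PP.B ≤ PP.parabolic {s})
        (memB.mpr (pos_le_borel (unegW_le_pos hD hcok.lt hu)))
    have hyP : y ∈ PP.parabolic {s} := by
      have : y = s * ⟨u, huG⟩ * s⁻¹ := Subtype.ext e
      rw [this]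
      exact mul_mem (mul_mem hsP huP) (inv_mem hsP)
    have hyV : (y : GL D.Idx F) ∈ D.negUnipotent F := by
      rw [e]
      exact conj_unegW_neg hD hcok.lt hu
    have hθV := hV' y hyV
    have hθP : θ' y ∈ (PP.parabolic {(⟨nP D F c₂, Y.cls_n c₂ hc₂⟩ : ↥G1)} : Set ↥G1) := by
      rw [← hmap]
      exact ⟨y, hyP, rfl⟩
    rw [BN.parabolic_singleton PP (memS hc₂)] at hθP
    rcases hθP with h | h
    · have : ((θ' y : ↥G1) : GL D.Idx F) ∈ D.borelSubgroup F ⊓ D.negUnipotent F :=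
        ⟨memB.mp h, hθV⟩
      rw [borel_inf_neg VJ V1 H Tr P, Subgroup.mem_bot] at this
      rw [this]
      exact one_mem _
    · rw [BN.mem_C] at h
      obtain ⟨b, hb, b', hb', e'⟩ := h
      have e'' : ((θ' y : ↥G1) : GL D.Idx F) = (b : GL D.Idx F) * nP D F c₂ * (b' : GL D.Idx F) := by
        rw [e']
        rfl
      obtain ⟨x, hx, e3⟩ := Y.neg_inf_cell hc₂ hθV
        (Subgroup.mem_inf.mpr ⟨memB.mp hb, b.2⟩) (Subgroup.mem_inf.mpr ⟨memB.mp hb', b'.2⟩) e''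
      exact mem_YW.mpr ⟨x, (Subgroup.mem_inf.mp hx).1, e3⟩
  have hB' := Y.presT_borel hU
  have hBi := Y.presT_borel hU.inv
  have h1 : ∀ b ∈ PP.B, θ b ∈ PP.B := fun b hb => memB.mpr (hB' b (memB.mp hb))
  have h2 : ∀ b ∈ PP.B, (θ⁻¹ : MulAut ↥G1) b ∈ PP.B := fun b hb => memB.mpr (hBi b (memB.mp hb))
  obtain ⟨s', hs', hmap⟩ := aut_min_parabolic PP θ h1 h2 (memS hc)
  have hs'' := hs'
  rw [hS] at hs''
  obtain ⟨c', hc', e⟩ := hs''
  have es' : s' = ⟨nP D F c', Y.cls_n c' hc'⟩ := Subtype.ext e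
  rw [es'] at hmap
  refine ⟨c', hc', main θ hV hc hc' hmap, main θ⁻¹ hV.inv hc' hc ?_⟩
  rw [← hmap, Subgroup.map_map]
  have : (θ⁻¹ : MulAut ↥G1).toMonoidHom.comp θ.toMonoidHom = MonoidHom.id _ := by
    ext g
    simp
  rw [this, Subgroup.map_id]

/-- the conjugate class subgroup has the order of the class subgroup -/
theorem card_YW (Y : XBN X cls G1) {c : List ℕ} (hc : c ∈ cls) :
    Nat.card ↥(YW D F c ⊓ G1) = Nat.card ↥(UnegW D F c ⊓ G1) := by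
  have hnG := Y.cls_n c hc
  apply Nat.card_congr
  refine ⟨fun y => ⟨(nP D F c)⁻¹ * (y : GL D.Idx F) * nP D F c, ?_⟩,
    fun u => ⟨nP D F c * (u : GL D.Idx F) * (nP D F c)⁻¹, ?_⟩, ?_, ?_⟩
  · obtain ⟨hy1, hy2⟩ := Subgroup.mem_inf.mp y.2
    obtain ⟨u, hu, e⟩ := mem_YW.mp hy1
    refine Subgroup.mem_inf.mpr ⟨?_, mul_mem (mul_mem (inv_mem hnG) hy2) hnG⟩
    have : (nP D F c)⁻¹ * (y : GL D.Idx F) * nP D F c = u := by rw [e]; group
    rw [this]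
    exact hu
  · obtain ⟨hu1, hu2⟩ := Subgroup.mem_inf.mp u.2
    exact Subgroup.mem_inf.mpr ⟨mem_YW.mpr ⟨u, hu1, rfl⟩, mul_mem (mul_mem hnG hu2) (inv_mem hnG)⟩
  · intro y
    apply Subtype.ext
    show nP D F c * ((nP D F c)⁻¹ * (y : GL D.Idx F) * nP D F c) * (nP D F c)⁻¹ = y
    group
  · intro u
    apply Subtype.ext
    show (nP D F c)⁻¹ * (nP D F c * (u : GL D.Idx F) * (nP D F c)⁻¹) * nP D F c = u
    group

/-- an automorphism preserving `U¹` and `V¹` preserves the negative class subgroups, when the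
classes have different orders -/
theorem presT_neg_cls [Finite F] [Finite ↥G1] (Y : XBN X cls G1)
    (hsize : ∀ c ∈ cls, ∀ c' ∈ cls,
      Nat.card ↥(UnegW D F c ⊓ G1) = Nat.card ↥(UnegW D F c' ⊓ G1) → c = c')
    {θ : MulAut ↥G1} (hU : PresT θ (D.posUnipotent F)) (hV : PresT θ (D.negUnipotent F))
    {c : List ℕ} (hc : c ∈ cls) : PresT θ (YW D F c) := by
  obtain ⟨c', hc', h1, h2⟩ := Y.exists_cls_map hU hV hc
  have hle : Nat.card ↥(YW D F c ⊓ G1) ≤ Nat.card ↥(YW D F c' ⊓ G1) := by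
    apply Nat.card_le_card_of_injective
      (fun y : ↥(YW D F c ⊓ G1) => (⟨((θ ⟨y.1, (Subgroup.mem_inf.mp y.2).2⟩ : ↥G1) : GL D.Idx F),
        Subgroup.mem_inf.mpr ⟨h1 _ (Subgroup.mem_inf.mp y.2).1, (θ _).2⟩⟩ : ↥(YW D F c' ⊓ G1)))
    intro y y' e
    have e1 : ((θ ⟨y.1, (Subgroup.mem_inf.mp y.2).2⟩ : ↥G1) : GL D.Idx F) =
        ((θ ⟨y'.1, (Subgroup.mem_inf.mp y'.2).2⟩ : ↥G1) : GL D.Idx F) :=
      congrArg (fun z : ↥(YW D F c' ⊓ G1) => (z : GL D.Idx F)) e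
    have e2 := θ.injective (Subtype.ext e1)
    exact Subtype.ext (congrArg (fun z : ↥G1 => (z : GL D.Idx F)) e2)
  have hge : Nat.card ↥(YW D F c' ⊓ G1) ≤ Nat.card ↥(YW D F c ⊓ G1) := by
    apply Nat.card_le_card_of_injective
      (fun y : ↥(YW D F c' ⊓ G1) =>
        (⟨(((θ⁻¹ : MulAut ↥G1) ⟨y.1, (Subgroup.mem_inf.mp y.2).2⟩ : ↥G1) : GL D.Idx F),
        Subgroup.mem_inf.mpr ⟨h2 _ (Subgroup.mem_inf.mp y.2).1, ((θ⁻¹ : MulAut ↥G1) _).2⟩⟩ :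
          ↥(YW D F c ⊓ G1)))
    intro y y' e
    have e1 : (((θ⁻¹ : MulAut ↥G1) ⟨y.1, (Subgroup.mem_inf.mp y.2).2⟩ : ↥G1) : GL D.Idx F) =
        (((θ⁻¹ : MulAut ↥G1) ⟨y'.1, (Subgroup.mem_inf.mp y'.2).2⟩ : ↥G1) : GL D.Idx F) :=
      congrArg (fun z : ↥(YW D F c ⊓ G1) => (z : GL D.Idx F)) e
    have e2 := (θ⁻¹ : MulAut ↥G1).injective (Subtype.ext e1)
    exact Subtype.ext (congrArg (fun z : ↥G1 => (z : GL D.Idx F)) e2)
  rw [Y.card_YW hc, Y.card_YW hc'] at hle hge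
  have := hsize c hc c' hc' (le_antisymm hle hge)
  subst this
  exact h1

end XBN

end Cfsg.Agent.Lib.Helper8.Chev
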