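import Cfsg.Agent.Lib.Helper8.ChevTc5

set_option autoImplicit false

/-! Abstract twisted groups: an automorphism preserving `U¹` and `V¹` preserves the positive class
subgroups, when the longest element of the Weyl group is `-1`. -/

namespace Cfsg.Agent.Lib.Helper8.Chev

open Cfsg.Lie Matrix

namespace XBN

variable {D : ChevalleyDatum} {F : Type*} [Field F] {σ : GL D.Idx F → GL D.Idx F}
  {bar ρ E : ℕ → ℕ} {X : XEnd D F σ bar ρ E} {cls : List (List ℕ)}
  {G1 : Subgroup (GL D.Idx F)}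

/-- conjugation by `n₀ n_c` preserves the class subgroup, when `w₀ = -1` -/
theorem conj_w0_cls (Y : XBN X cls G1) {Cs₀ : List (List ℕ)} (hCs₀ : ∀ c ∈ Cs₀, c ∈ cls)
    (hw0 : ∀ r < D.nroots, reflWord D Cs₀.flatten r = D.neg r) {c : List ℕ} (hc : c ∈ cls) :
    (∀ u ∈ UnegW D F c,
      nP D F (Cs₀.flatten ++ c) * u * (nP D F (Cs₀.flatten ++ c))⁻¹ ∈ UnegW D F c) ∧
    (∀ u ∈ UnegW D F c,
      (nP D F (Cs₀.flatten ++ c))⁻¹ * u * (nP D F (Cs₀.flatten ++ c))⁻¹⁻¹ ∈ UnegW D F c) := by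
  have hD := X.hD
  have V := valid0_of_mem hD
  have V1 := valid1_of_mem hD
  have VJ := validJ_of_mem hD
  have H := validH_of_mem hD
  have hev := V.even
  have hcok := Y.cls_ok c hc
  have hl₀ := Y.toXGrp.flatten_lt hCs₀
  have hl : ∀ i ∈ Cs₀.flatten ++ c, i < D.rank := by
    intro i hi
    rw [List.mem_append] at hi
    rcases hi with hi | hi
    · exact hl₀ i hi
    · exact hcok.lt i hi
  have hP := (rootPermN_nP (F := F) VJ V1 H.nS _ hl).rootPerm
  -- the action on the roots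
  have hact : ∀ r < D.nroots, reflWord D (Cs₀.flatten ++ c) r = D.neg (reflWord D c r) := by
    intro r hr
    rw [reflWord_append, hw0 _ (reflWord_lt VJ H.nS hcok.lt hr)]
  have hnegneg : ∀ r < D.nroots, D.neg (D.neg r) = r := by
    intro r hr
    rw [V.neg_eq _ (V.neg_lt hr), V.neg_eq _ hr]
    omega
  have hinv : ∀ r < D.nroots, reflWord D (Cs₀.flatten ++ c) (reflWord D (Cs₀.flatten ++ c) r) = r := by
    intro r hr
    have h1 := reflWord_lt VJ H.nS hcok.lt hr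
    rw [hact r hr, hact _ (V.neg_lt h1), reflWord_neg VJ H.nS hcok.lt h1, hcok.invol r hr,
      hnegneg r hr]
  have hPi : RootPerm D F (((nP D F (Cs₀.flatten ++ c))⁻¹ : GL D.Idx F) : Matrix D.Idx D.Idx F)
      (reflWord D (Cs₀.flatten ++ c)) := by
    apply hP.inv_unit
    intro s hs
    exact ⟨reflWord_lt VJ H.nS hl hs, hinv s hs⟩
  -- the class roots are permuted
  have hroot : ∀ r, D.nroots / 2 ≤ r → r < D.nroots → reflWord D c r < D.nroots / 2 →
      D.nroots / 2 ≤ reflWord D (Cs₀.flatten ++ c) r ∧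
        reflWord D c (reflWord D (Cs₀.flatten ++ c) r) < D.nroots / 2 := by
    intro r hr1 hr2 hr3
    have h1 := reflWord_lt VJ H.nS hcok.lt hr2
    rw [hact r hr2]
    constructor
    · rw [V.neg_eq _ h1]
      omega
    · rw [reflWord_neg VJ H.nS hcok.lt h1, hcok.invol r hr2, V.neg_eq _ hr2]
      omega
  have gen : ∀ {n : GL D.Idx F},
      RootPerm D F (n : Matrix D.Idx D.Idx F) (reflWord D (Cs₀.flatten ++ c)) →
      ∀ u ∈ UnegW D F c, n * u * n⁻¹ ∈ UnegW D F c := by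
    intro n hn
    have hle : UnegW D F c ≤ (UnegW D F c).comap (MulAut.conj n).toMonoidHom := by
      conv_lhs => unfold UnegW
      rw [Subgroup.closure_le]
      rintro g ⟨r, t, hr1, hr2, hr3, hg⟩
      rw [SetLike.mem_coe, Subgroup.mem_comap]
      obtain ⟨ε, he⟩ := rootPerm_conj hn hr2 t g hg
      obtain ⟨h1, h2⟩ := hroot r hr1 hr2 hr3
      exact Subgroup.subset_closure ⟨_, (ε : F) * t, h1, (hn r hr2).1, h2, he⟩
    intro u hu
    exact hle hu
  exact ⟨gen hP, gen hPi⟩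

/-- an automorphism preserving `U¹` and `V¹` preserves the positive class subgroups, when the
classes have different orders and the longest element of the Weyl group is `-1` -/
theorem presT_pos_cls [Finite F] [Finite ↥G1] (Y : XBN X cls G1)
    (hsize : ∀ c ∈ cls, ∀ c' ∈ cls,
      Nat.card ↥(UnegW D F c ⊓ G1) = Nat.card ↥(UnegW D F c' ⊓ G1) → c = c')
    {Cs₀ : List (List ℕ)} (hCs₀ : ∀ c ∈ Cs₀, c ∈ cls)
    (hw0 : ∀ r < D.nroots, reflWord D Cs₀.flatten r = D.neg r)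
    {θ : MulAut ↥G1} (hU : PresT θ (D.posUnipotent F)) (hV : PresT θ (D.negUnipotent F))
    {c : List ℕ} (hc : c ∈ cls) : PresT θ (UnegW D F c) := by
  have hD := X.hD
  have V := valid0_of_mem hD
  have V1 := valid1_of_mem hD
  have VJ := validJ_of_mem hD
  have H := validH_of_mem hD
  have hI := checkInv_of_mem hD
  have hev := V.even
  have Y' := Y.toXGrp
  have hcok := Y.cls_ok c hc
  have hl := Y'.flatten_lt hCs₀
  have hlr : ∀ i ∈ Cs₀.flatten.reverse, i < D.rank := fun i hi => hl i (List.mem_reverse.mp hi)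
  have hfull : ∀ r, D.nroots / 2 ≤ r → r < D.nroots →
      reflWord D Cs₀.flatten r < D.nroots / 2 := by
    intro r h1 h2
    rw [hw0 r h2, V.neg_eq _ h2]
    omega
  obtain ⟨f1, f2, f3⟩ := full_propsX hD hl hfull
  set n₀ := nP D F Cs₀.flatten with hn₀
  have hn₀G : n₀ ∈ G1 := Y'.nP_mem hCs₀
  have hncG := Y.cls_n c hc
  have hPn := (rootPermN_nP (F := F) VJ V1 H.nS _ hl).rootPerm
  have hPi : RootPerm D F ((n₀⁻¹ : GL D.Idx F) : Matrix D.Idx D.Idx F)
      (reflWord D Cs₀.flatten.reverse) := by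
    apply hPn.inv_unit
    intro s hs
    exact ⟨reflWord_lt VJ H.nS hlr hs, reflWord_reverse_cancel VJ H.nS hI hl hs⟩
  have hUV : (D.posUnipotent F).map (MulAut.conj n₀).toMonoidHom ≤ D.negUnipotent F :=
    conj_pos_le_negX hD hPn hfull
  have hVU : (D.negUnipotent F).map (MulAut.conj n₀).toMonoidHom ≤ D.posUnipotent F :=
    conj_neg_le_posX hD hPn f1
  have hUV' : (D.posUnipotent F).map (MulAut.conj n₀⁻¹).toMonoidHom ≤ D.negUnipotent F :=
    conj_pos_le_negX hD hPi f2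
  have hVU' : (D.negUnipotent F).map (MulAut.conj n₀⁻¹).toMonoidHom ≤ D.posUnipotent F :=
    conj_neg_le_posX hD hPi f3
  -- the conjugate automorphism
  set ι : MulAut ↥G1 := MulAut.conj (⟨n₀, hn₀G⟩ : ↥G1) with hι
  obtain ⟨θ', hθ'⟩ : ∃ θ' : MulAut ↥G1, θ' = ι⁻¹ * θ * ι := ⟨_, rfl⟩
  have hιv : ∀ g : ↥G1, ((ι g : ↥G1) : GL D.Idx F) = n₀ * (g : GL D.Idx F) * n₀⁻¹ := by
    intro g
    rw [hι, MulAut.conj_apply]
    rfl
  have hιi : ∀ g : ↥G1, (((ι⁻¹ : MulAut ↥G1) g : ↥G1) : GL D.Idx F) =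
      n₀⁻¹ * (g : GL D.Idx F) * n₀⁻¹⁻¹ := by
    intro g
    rw [hι, ← map_inv, MulAut.conj_apply]
    rfl
  have hU' : PresT θ' (D.posUnipotent F) := by
    intro g hg
    rw [hθ', MulAut.mul_apply, MulAut.mul_apply, hιi]
    apply hVU' ⟨_, ?_, rfl⟩
    apply hV
    rw [hιv]
    exact hUV ⟨_, hg, rfl⟩
  have hV' : PresT θ' (D.negUnipotent F) := by
    intro g hg
    rw [hθ', MulAut.mul_apply, MulAut.mul_apply, hιi]
    apply hUV' ⟨_, ?_, rfl⟩
    apply hU
    rw [hιv]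
    exact hVU ⟨_, hg, rfl⟩
  have hY' := Y.presT_neg_cls hsize hU' hV' hc
  obtain ⟨hM, hM'⟩ := Y.conj_w0_cls hCs₀ hw0 hc
  rw [nP_append, ← hn₀] at hM hM'
  intro x hx
  -- `x = ι y` with `y` in the conjugate class subgroup
  set M := n₀ * nP D F c with hMdef
  have hMG : M ∈ G1 := mul_mem hn₀G hncG
  have hx' := hM' _ hx
  have hx'G : M⁻¹ * (x : GL D.Idx F) * M⁻¹⁻¹ ∈ G1 :=
    mul_mem (mul_mem (inv_mem hMG) x.2) (inv_mem (inv_mem hMG))
  set y : ↥G1 := ⟨nP D F c * (M⁻¹ * (x : GL D.Idx F) * M⁻¹⁻¹) * (nP D F c)⁻¹,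
    mul_mem (mul_mem hncG hx'G) (inv_mem hncG)⟩ with hy
  have hyY : (y : GL D.Idx F) ∈ YW D F c := mem_YW.mpr ⟨_, hx', rfl⟩
  have hxy : x = ι y := by
    apply Subtype.ext
    rw [hιv]
    show (x : GL D.Idx F) =
      n₀ * (nP D F c * (M⁻¹ * (x : GL D.Idx F) * M⁻¹⁻¹) * (nP D F c)⁻¹) * n₀⁻¹
    rw [hMdef]
    group
  have hθy := hY' y hyY
  obtain ⟨u, hu, e⟩ := mem_YW.mp hθy
  have e2 : θ x = ι (θ' y) := by
    rw [hθ', MulAut.mul_apply, MulAut.mul_apply, MulAut.apply_inv_self, ← hxy]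
  rw [e2, hιv, e]
  have := hM u hu
  have e3 : n₀ * (nP D F c * u * (nP D F c)⁻¹) * n₀⁻¹ = M * u * M⁻¹ := by
    rw [hMdef]
    group
  rw [e3]
  exact this

end XBN

end Cfsg.Agent.Lib.Helper8.Chev
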