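import Cfsg.Agent.Lib.Helper8.ChevTw33
import Cfsg.Agent.Lib.Helper8.ChevCz7

set_option autoImplicit false

namespace Cfsg.Agent.Lib.Helper8.Chev

open Cfsg.Lie Matrix

/-! ### The root elements of `D₄` as invertible matrices -/

section

variable {F : Type*} [Field F]

/-- the root element `x_k(t)` of `D₄` as an invertible matrix -/
noncomputable def X4 (F : Type*) [Field F] (k : ℕ) (t : F) : GL chevD4.Idx F :=
  wG chevD4 F [(k, t)]

theorem coe_X4 {k : ℕ} (hk : k < 24) (t : F) :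
    ((X4 F k t : GL chevD4.Idx F) : Matrix chevD4.Idx chevD4.Idx F) = chevD4.x F k t := by
  unfold X4
  rw [coe_wG (valid0_of_mem hDD4) (valid1_of_mem hDD4) _ (by
    intro p hp
    rw [List.mem_singleton] at hp
    subst hp
    exact hk), wN_cons, wN_nil, Matrix.mul_one, x_eq_xN]

theorem X4_mem_group {k : ℕ} (hk : k < 24) (t : F) : X4 F k t ∈ chevD4.group F :=
  x_mem_group (D := chevD4) hk t (X4 F k t) (coe_X4 hk t)

theorem X4_add {k : ℕ} (hk : k < 24) (t s : F) : X4 F k t * X4 F k s = X4 F k (t + s) := by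
  apply Units.ext
  rw [Units.val_mul, coe_X4 hk, coe_X4 hk, coe_X4 hk, x_eq_xN, x_eq_xN, x_eq_xN,
    xN_mul_xN F (valid0_of_mem hDD4) (valid1_of_mem hDD4) hk]

theorem X4_zero {k : ℕ} (hk : k < 24) : X4 F k (0 : F) = 1 := by
  apply Units.ext
  rw [coe_X4 hk, x_eq_xN, xN_zero (valid0_of_mem hDD4)]
  rfl

theorem X4_inv {k : ℕ} (hk : k < 24) (t : F) : (X4 F k t)⁻¹ = X4 F k (-t) := by
  rw [inv_eq_iff_mul_eq_one, X4_add hk, add_neg_cancel, X4_zero hk]

theorem X4_comm_of_nil {r s : ℕ} (hr : r < 24) (hs : s < 24) (h1 : s ≠ r) (h2 : s ≠ chevD4.neg r)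
    (h : chevD4.commTerms r s = []) (t u : F) : X4 F s u * X4 F r t = X4 F r t * X4 F s u := by
  apply Units.ext
  rw [Units.val_mul, Units.val_mul, coe_X4 hr, coe_X4 hs]
  exact x_commute_of_nil hDD4 hr hs h1 h2 h t u

theorem X4_rel_word {r s : ℕ} (hr : r < 24) (hs : s < 24) (h1 : s ≠ r) (h2 : s ≠ chevD4.neg r)
    (t u : F) (w : List (ℕ × F)) (hw : chevD4.commWord F r s t u = w)
    (hlt : ∀ p ∈ w, p.1 < 24) :
    X4 F s u * X4 F r t = X4 F r t * (X4 F s u * wG chevD4 F w) := by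
  apply Units.ext
  rw [Units.val_mul, Units.val_mul, Units.val_mul, coe_X4 hr, coe_X4 hs,
    coe_wG (valid0_of_mem hDD4) (valid1_of_mem hDD4) _ hlt, ← hw, ← wordMat_eq_wN,
    ← Matrix.mul_assoc]
  exact comm_formula hDD4 hr hs h1 h2 t u

theorem wG4_cons {k : ℕ} (hk : k < 24) (t : F) (w : List (ℕ × F)) (hlt : ∀ p ∈ w, p.1 < 24) :
    wG chevD4 F ((k, t) :: w) = X4 F k t * wG chevD4 F w := by
  apply Units.ext
  rw [Units.val_mul, coe_X4 hk, coe_wG (valid0_of_mem hDD4) (valid1_of_mem hDD4) _ hlt,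
    coe_wG (valid0_of_mem hDD4) (valid1_of_mem hDD4), wN_cons, x_eq_xN]
  intro p hp
  rw [List.mem_cons] at hp
  rcases hp with rfl | hp
  · exact hk
  · exact hlt p hp

theorem wG4_nil : wG chevD4 F ([] : List (ℕ × F)) = 1 := by
  apply Units.ext
  rw [coe_wG (valid0_of_mem hDD4) (valid1_of_mem hDD4) _ (by simp), wN_nil]
  rfl

variable [CharP F 2]

theorem d4c2_two : (2 : F) = 0 := CharTwo.two_eq_zero

/-- in characteristic two the commutator of two root elements of `D₄` whose roots add up to a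
root `k` -/
theorem X4_rel_one {r s k : ℕ} (hr : r < 24) (hs : s < 24) (hk : k < 24) (h1 : s ≠ r)
    (h2 : s ≠ chevD4.neg r) {c : ℤ} (hc : c = 1 ∨ c = -1)
    (h : chevD4.commTerms r s = [(k, c, 1, 1)]) (t u : F) :
    X4 F s u * X4 F r t = X4 F r t * (X4 F s u * X4 F k (t * u)) := by
  rw [X4_rel_word hr hs h1 h2 t u [(k, t * u)] ?_ (by simpa using hk)]
  · rw [wG4_cons hk _ _ (by simp), wG4_nil, mul_one]
  · unfold ChevalleyDatum.commWord
    rw [h]
    rcases hc with rfl | rfl <;>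
    simp only [List.map_cons, List.map_nil, CharTwo.neg_eq, Int.cast_one, Int.cast_neg,
      one_mul, pow_one]

end

end Cfsg.Agent.Lib.Helper8.Chev
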