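import Cfsg.Agent.Lib.Helper8.ChevTd9

set_option autoImplicit false
set_option linter.unusedSimpArgs false
set_option linter.unusedSectionVars false
set_option linter.unusedVariables false

namespace Cfsg.Agent.Lib.Helper8.Chev

open Cfsg.Lie Matrix

/-! ### Torus action on the root elements of `D₄` -/

section

variable {F : Type*} [Field F]

theorem torMap_X4 (c : Fin chevD4.rank → Fˣ) {r : ℕ} (hr : r < 24) (t : F) :
    torMap chevD4 F c * X4 F r t = X4 F r ((chiT chevD4 c r : Fˣ) * t) * torMap chevD4 F c := by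
  have V := valid0_of_mem hDD4
  have J := validJ_of_mem hDD4
  have H := validH_of_mem hDD4
  apply Units.ext
  rw [Units.val_mul, Units.val_mul, torMap_apply, coe_diagU, coe_X4 hr, coe_X4 hr, x_eq_xN, x_eq_xN]
  exact diagC_mul_xN V (isChar_chiT' J H c) hr t

theorem torMap_X4_tl (c : Fin chevD4.rank → Fˣ) {r : ℕ} (hr : r < 24) (t : F)
    (g : GL chevD4.Idx F) :
    torMap chevD4 F c * (X4 F r t * g) =
      X4 F r ((chiT chevD4 c r : Fˣ) * t) * (torMap chevD4 F c * g) := by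
  rw [← mul_assoc, torMap_X4 c hr, mul_assoc]

theorem chiT_D4_eq (c : Fin chevD4.rank → Fˣ) (s : ℕ) :
    chiT chevD4 c s = c ⟨0, by decide⟩ ^ chevD4.cartan 0 s * c ⟨1, by decide⟩ ^ chevD4.cartan 1 s *
      c ⟨2, by decide⟩ ^ chevD4.cartan 2 s * c ⟨3, by decide⟩ ^ chevD4.cartan 3 s := by
  unfold chiT
  exact Fin.prod_univ_four (fun i : Fin 4 => c i ^ chevD4.cartan i.val s)

theorem d4_cartan_vals : chevD4.cartan 0 23 = 0 ∧ chevD4.cartan 1 23 = 1 ∧ chevD4.cartan 2 23 = 0 ∧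
    chevD4.cartan 3 23 = 0 ∧ chevD4.cartan 0 18 = 2 ∧ chevD4.cartan 2 18 = 0 ∧
    chevD4.cartan 3 18 = 0 ∧ chevD4.cartan 0 13 = 0 ∧ chevD4.cartan 2 13 = 2 ∧
    chevD4.cartan 3 13 = 0 ∧ chevD4.cartan 0 12 = 0 ∧ chevD4.cartan 2 12 = 0 ∧
    chevD4.cartan 3 12 = 2 := by decide +kernel

theorem tupCls_b_apply (φ : F →+* F) (a : Fˣ) :
    tupCls chevD4 φ [1] a ⟨0, by decide⟩ = 1 ∧ tupCls chevD4 φ [1] a ⟨1, by decide⟩ = a ∧
      tupCls chevD4 φ [1] a ⟨2, by decide⟩ = 1 ∧ tupCls chevD4 φ [1] a ⟨3, by decide⟩ = 1 := by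
  simp [tupCls, mulSingleN]

theorem tupCls_a_apply (φ : F →+* F) (b : Fˣ) :
    tupCls chevD4 φ [0, 2, 3] b ⟨0, by decide⟩ = b ∧ tupCls chevD4 φ [0, 2, 3] b ⟨1, by decide⟩ = 1 ∧
      tupCls chevD4 φ [0, 2, 3] b ⟨2, by decide⟩ = Units.map (φ : F →* F) b ∧
      tupCls chevD4 φ [0, 2, 3] b ⟨3, by decide⟩ =
        Units.map (φ : F →* F) (Units.map (φ : F →* F) b) := by
  simp [tupCls, mulSingleN]

theorem chiT_b_23 (φ : F →+* F) (a : Fˣ) : chiT chevD4 (tupCls chevD4 φ [1] a) 23 = a := by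
  obtain ⟨e0, e1, e2, e3⟩ := tupCls_b_apply φ a
  obtain ⟨c1, c2, c3, c4, -⟩ := d4_cartan_vals
  rw [chiT_D4_eq, e0, e1, e2, e3, c1, c2, c3, c4]
  simp

theorem chiT_a_18 (φ : F →+* F) (b : Fˣ) :
    chiT chevD4 (tupCls chevD4 φ [0, 2, 3] b) 18 = b ^ 2 := by
  obtain ⟨e0, e1, e2, e3⟩ := tupCls_a_apply φ b
  obtain ⟨-, -, -, -, c1, c2, c3, -⟩ := d4_cartan_vals
  rw [chiT_D4_eq, e0, e1, e2, e3, c1, c2, c3]
  simp

theorem chiT_a_13 (φ : F →+* F) (b : Fˣ) :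
    chiT chevD4 (tupCls chevD4 φ [0, 2, 3] b) 13 = (Units.map (φ : F →* F) b) ^ 2 := by
  obtain ⟨e0, e1, e2, e3⟩ := tupCls_a_apply φ b
  obtain ⟨-, -, -, -, -, -, -, c1, c2, c3, -⟩ := d4_cartan_vals
  rw [chiT_D4_eq, e0, e1, e2, e3, c1, c2, c3]
  simp

theorem chiT_a_12 (φ : F →+* F) (b : Fˣ) :
    chiT chevD4 (tupCls chevD4 φ [0, 2, 3] b) 12 =
      (Units.map (φ : F →* F) (Units.map (φ : F →* F) b)) ^ 2 := by
  obtain ⟨e0, e1, e2, e3⟩ := tupCls_a_apply φ b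
  obtain ⟨-, -, -, -, -, -, -, -, -, -, c1, c2, c3⟩ := d4_cartan_vals
  rw [chiT_D4_eq, e0, e1, e2, e3, c1, c2, c3]
  simp

end

section

variable {K : Type*} [Field K] [CharP K 2] {φ : K →+* K}

theorem tw_Z_eq (z : K) : tw φ 0 0 0 0 0 z = X4 K 23 z := by
  unfold tw
  simp only [map_zero]
  exact (gw_single_23 z).symm

theorem tw_A_eq (t : K) :
    tw φ t 0 0 0 0 0 = X4 K 18 t * (X4 K 13 (φ t) * X4 K 12 (φ (φ t))) := by
  unfold tw gw
  simp only [map_zero, X4_zero (show 14 < 24 by decide), X4_zero (show 19 < 24 by decide),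
    X4_zero (show 16 < 24 by decide), X4_zero (show 15 < 24 by decide),
    X4_zero (show 21 < 24 by decide), X4_zero (show 17 < 24 by decide),
    X4_zero (show 20 < 24 by decide), X4_zero (show 22 < 24 by decide),
    X4_zero (show 23 < 24 by decide), mul_one]

/-- the torus element `h_b(a)` scales the highest root element -/
theorem tor_Z (a : Kˣ) (z : K) :
    torMap chevD4 K (tupCls chevD4 φ [1] a) * tw φ 0 0 0 0 0 z *
      (torMap chevD4 K (tupCls chevD4 φ [1] a))⁻¹ = tw φ 0 0 0 0 0 ((a : K) * z) := by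
  rw [mul_inv_eq_iff_eq_mul, tw_Z_eq, tw_Z_eq, torMap_X4 _ (show 23 < 24 by decide), chiT_b_23]

/-- the torus element `h_a(b)` scales `x_a(t)` by `b²` -/
theorem tor_A (b : Kˣ) (t : K) :
    torMap chevD4 K (tupCls chevD4 φ [0, 2, 3] b) * tw φ t 0 0 0 0 0 *
      (torMap chevD4 K (tupCls chevD4 φ [0, 2, 3] b))⁻¹ = tw φ ((b : K) ^ 2 * t) 0 0 0 0 0 := by
  rw [mul_inv_eq_iff_eq_mul, tw_A_eq, tw_A_eq, torMap_X4_tl _ (show 18 < 24 by decide),
    torMap_X4_tl _ (show 13 < 24 by decide), torMap_X4 _ (show 12 < 24 by decide),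
    chiT_a_18, chiT_a_13, chiT_a_12]
  simp only [mul_assoc, Units.val_pow_eq_pow_val, Units.coe_map, MonoidHom.coe_coe, map_mul,
    map_pow]

end

end Cfsg.Agent.Lib.Helper8.Chev
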