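import Cfsg.Agent.Lib.Helper8.ChevTd10

set_option autoImplicit false
set_option linter.unusedSimpArgs false
set_option linter.unusedSectionVars false
set_option linter.unusedVariables false
set_option linter.unusedTactic false
set_option linter.unnecessarySeqFocus false

namespace Cfsg.Agent.Lib.Helper8.Chev

open Cfsg.Lie Matrix

/-! ### Conjugacy in `³D₄(q)`, `q` even -/

section

variable {K : Type*} [Field K]

/-- conjugacy under a subgroup of `GL` -/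
def CJ3 (G1 : Subgroup (GL chevD4.Idx K)) (g g' : GL chevD4.Idx K) : Prop :=
  ∃ h ∈ G1, h * g * h⁻¹ = g'

variable {G1 : Subgroup (GL chevD4.Idx K)}

theorem CJ3.refl (g : GL chevD4.Idx K) : CJ3 G1 g g := ⟨1, one_mem _, by simp⟩

theorem CJ3.trans {g g' g'' : GL chevD4.Idx K} (h1 : CJ3 G1 g g') (h2 : CJ3 G1 g' g'') :
    CJ3 G1 g g'' := by
  obtain ⟨h, hh, e⟩ := h1
  obtain ⟨k, hk, e'⟩ := h2
  refine ⟨k * h, mul_mem hk hh, ?_⟩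
  rw [← e', ← e]
  group

theorem CJ3.symm {g g' : GL chevD4.Idx K} (h1 : CJ3 G1 g g') : CJ3 G1 g' g := by
  obtain ⟨h, hh, e⟩ := h1
  refine ⟨h⁻¹, inv_mem hh, ?_⟩
  rw [← e]
  group

theorem CJ3.ne_one {g g' : GL chevD4.Idx K} (h : CJ3 G1 g g') (hg : g ≠ 1) : g' ≠ 1 := by
  obtain ⟨k, _, e⟩ := h
  intro h1
  apply hg
  rw [h1, mul_inv_eq_one] at e
  have := mul_left_cancel (a := k) (b := g) (c := 1) (by rw [e, mul_one])
  exact this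

theorem CJ3.sq {g g' : GL chevD4.Idx K} (h : CJ3 G1 g g') (hg : g * g = 1) : g' * g' = 1 := by
  obtain ⟨k, _, e⟩ := h
  rw [← e]
  calc k * g * k⁻¹ * (k * g * k⁻¹) = k * (g * g) * k⁻¹ := by group
    _ = 1 := by rw [hg]; group

theorem CJ3.mem {g g' : GL chevD4.Idx K} (h : CJ3 G1 g g') (hg : g ∈ G1) : g' ∈ G1 := by
  obtain ⟨k, hk, e⟩ := h
  rw [← e]
  exact mul_mem (mul_mem hk hg) (inv_mem hk)

theorem CJ3.congr_right {g g' g'' : GL chevD4.Idx K} (h : CJ3 G1 g g') (e : g' = g'') :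
    CJ3 G1 g g'' := e ▸ h

theorem CJ3.of_invol {h : GL chevD4.Idx K} (hh : h ∈ G1) (h2 : h * h = 1) (g : GL chevD4.Idx K) :
    CJ3 G1 g (h * g * h) := by
  refine ⟨h, hh, ?_⟩
  rw [inv_eq_of_mul_eq_one_left h2]

end

section

variable {K : Type*} [Field K] [CharP K 2] {φ : K →+* K} {G1 : Subgroup (GL chevD4.Idx K)}

theorem tw_sq_B (h3 : ∀ t, φ (φ (φ t)) = t) {w : K} (hw : φ w = w) :
    tw φ 0 w 0 0 0 0 * tw φ 0 w 0 0 0 0 = 1 := by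
  have := mvB h3 (t1 := 0) (t2 := 0) (t3 := 0) (v2 := 0) (v3 := 0) hw
  rw [tw_zero, mul_one] at this
  rw [this, ← tw_zero φ]
  apply tw_congr <;> simp

theorem tw_sq_C (h3 : ∀ t, φ (φ (φ t)) = t) (s : K) :
    tw φ 0 0 s 0 0 0 * tw φ 0 0 s 0 0 0 = 1 := by
  have := mvC h3 (s := s) (t1 := 0) (t3 := 0) (v2 := 0) (v3 := 0)
  rw [tw_zero, mul_one] at this
  rw [this, ← tw_zero φ]
  apply tw_congr <;> simp

theorem tw_sq_D (h3 : ∀ t, φ (φ (φ t)) = t) (r : K) :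
    tw φ 0 0 0 r 0 0 * tw φ 0 0 0 r 0 0 = 1 := by
  have := mvD h3 (r := r) (t1 := 0) (v2 := 0) (v3 := 0)
  rw [tw_zero, mul_one] at this
  rw [this, ← tw_zero φ]
  apply tw_congr <;> simp

theorem tw_sq_A (h3 : ∀ t, φ (φ (φ t)) = t) (x : K) :
    tw φ x 0 0 0 0 0 * tw φ x 0 0 0 0 0 = 1 := by
  have := mvA h3 (x := x) (v1 := 0) (t2 := 0) (t3 := 0) (v2 := 0) (v3 := 0) (map_zero φ)
  rw [tw_zero, mul_one] at this
  rw [this, ← tw_zero φ]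
  apply tw_congr <;> simp

theorem tw_sq_E (h3 : ∀ t, φ (φ (φ t)) = t) (c : K) :
    tw φ 0 0 0 0 c 0 * tw φ 0 0 0 0 c 0 = 1 := by
  have := mvE h3 (c := c) (v1 := 0) (t3 := 0) (v2 := 0) (v3 := 0) (map_zero φ)
  rw [tw_zero, mul_one] at this
  rw [this, ← tw_zero φ]
  apply tw_congr <;> simp

variable (X : TwGrp twOk_D4a φ clsD4 G1) (h3 : ∀ t, φ (φ (φ t)) = t)
include X h3

theorem stepB {w : K} (hw : φ w = w) (t1 t2 t3 v2 v3 : K) :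
    CJ3 G1 (tw φ t1 0 t2 t3 v2 v3)
      (tw φ t1 0 (t2 + t1 * w) (t3 + t1 * φ t1 * w) (v2 + t1 * φ t1 * φ (φ t1) * w)
        (v3 + v2 * w + t1 * φ t1 * φ (φ t2) * w + t1 * φ (φ t1) * φ t2 * w +
          φ t1 * φ (φ t1) * t2 * w)) :=
  (CJ3.of_invol (tw_mem X h3 hw (map_zero φ) (map_zero φ) 0 0 0) (tw_sq_B h3 hw) _).congr_right
    (mvB h3 hw)

theorem stepC (s t1 t3 v2 v3 : K) :
    CJ3 G1 (tw φ t1 0 0 t3 v2 v3)
      (tw φ t1 0 0 (t3 + s * φ t1 + φ s * t1)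
        (v2 + s * φ t1 * φ (φ t1) + φ s * t1 * φ (φ t1) + φ (φ s) * t1 * φ t1)
        (v3 + s * φ t3 + φ s * φ (φ t3) + φ (φ s) * t3 + s * φ s * φ (φ t1) +
          s * φ (φ s) * φ t1 + φ s * φ (φ s) * t1)) :=
  (CJ3.of_invol (tw_mem X h3 (map_zero φ) (map_zero φ) (map_zero φ) 0 s 0) (tw_sq_C h3 s)
    _).congr_right (mvC h3)

theorem stepD (r t1 v2 v3 : K) :
    CJ3 G1 (tw φ t1 0 0 0 v2 v3)
      (tw φ t1 0 0 0 (v2 + r * φ (φ t1) + φ r * t1 + φ (φ r) * φ t1) v3) :=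
  (CJ3.of_invol (tw_mem X h3 (map_zero φ) (map_zero φ) (map_zero φ) 0 0 r) (tw_sq_D h3 r)
    _).congr_right (mvD h3)

theorem stepA (x : K) {v1 : K} (hv1 : φ v1 = v1) (t2 t3 v2 v3 : K) :
    ∃ t3' v2' v3' : K, CJ3 G1 (tw φ 0 v1 t2 t3 v2 v3) (tw φ 0 v1 (t2 + v1 * x) t3' v2' v3') :=
  ⟨_, _, _, (CJ3.of_invol (tw_mem X h3 (map_zero φ) (map_zero φ) (map_zero φ) x 0 0)
    (tw_sq_A h3 x) _).congr_right (mvA h3 hv1)⟩

theorem stepE {c : K} (hc : φ c = c) {v1 : K} (hv1 : φ v1 = v1) (t3 v2 v3 : K) :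
    CJ3 G1 (tw φ 0 v1 0 t3 v2 v3) (tw φ 0 v1 0 t3 v2 (v3 + c * v1)) :=
  (CJ3.of_invol (tw_mem X h3 (map_zero φ) hc (map_zero φ) 0 0 0) (tw_sq_E h3 c)
    _).congr_right (mvE h3 hv1)

theorem stepnb (t1 t2 t3 v2 v3 : K) :
    CJ3 G1 (tw φ t1 0 t2 t3 v2 v3)
      (tw φ t2 0 t1 (t3 + t1 * φ t2 + φ t1 * t2)
        (v3 + t1 * φ t2 * φ (φ t2) + φ t1 * φ (φ t2) * t2 + φ (φ t1) * t2 * φ t2)
        (v2 + t2 * φ t1 * φ (φ t1) + φ t2 * φ (φ t1) * t1 + φ (φ t2) * t1 * φ t1)) := by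
  refine ⟨nP chevD4 K [1], X.nP_cls_mem' (J := [1]) (by decide), ?_⟩
  unfold tw
  rw [mvnb]
  apply gw_congr <;> (try simp only [map_add, map_mul, h3]) <;> ring

theorem stepna (v1 t2 t3 v2 v3 : K) :
    CJ3 G1 (tw φ 0 v1 t2 t3 v2 v3)
      (tw φ 0 v2 (φ t3) (φ (φ t2)) v1
        (v3 + v1 * v2 + t2 * φ t3 + φ t2 * φ (φ t3) + φ (φ t2) * t3)) := by
  refine ⟨nP chevD4 K [0, 2, 3], X.nP_cls_mem' (J := [0, 2, 3]) (by decide), ?_⟩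
  unfold tw
  simp only [map_zero]
  rw [mvna]
  apply gw_congr <;> (try simp only [map_add, map_mul, h3]) <;> ring

theorem stepTZ {a : K} (ha : a ≠ 0) (hfa : φ a = a) (z : K) :
    CJ3 G1 (tw φ 0 0 0 0 0 z) (tw φ 0 0 0 0 0 (a * z)) := by
  refine ⟨torMap chevD4 K (tupCls chevD4 φ [1] (Units.mk0 a ha)),
    X.torMap_tupCls_mem (J := [1]) (by decide) (Units.mk0 a ha) (by simpa using hfa), ?_⟩
  rw [tor_Z]
  rfl

theorem stepTA {b : K} (hb : b ≠ 0) (t : K) :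
    CJ3 G1 (tw φ t 0 0 0 0 0) (tw φ (b ^ 2 * t) 0 0 0 0 0) := by
  refine ⟨torMap chevD4 K (tupCls chevD4 φ [0, 2, 3] (Units.mk0 b hb)),
    X.torMap_tupCls_mem (J := [0, 2, 3]) (by decide) (Units.mk0 b hb) (by simpa using h3 b), ?_⟩
  rw [tor_A]
  rfl

end

end Cfsg.Agent.Lib.Helper8.Chev
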