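import Cfsg.Agent.Lib.Helper8.ChevTd11

set_option autoImplicit false
set_option linter.unusedSimpArgs false
set_option linter.unusedSectionVars false
set_option linter.unusedVariables false
set_option linter.unusedTactic false
set_option linter.unnecessarySeqFocus false

namespace Cfsg.Agent.Lib.Helper8.Chev

open Cfsg.Lie Matrix

/-! ### Involutions of `U ∩ ³D₄(q)`, `q` even: reduction to two representatives -/

section

variable {K : Type*} [Field K] [CharP K 2] {φ : K →+* K}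

theorem d4c2_add_self (x : K) : x + x = 0 := CharTwo.add_self_eq_zero x

theorem d4c2_eq_of_add {x y : K} (h : x + y = 0) : x = y := CharTwo.add_eq_zero.mp h

theorem d4c2_sqrt [Fintype K] (x : K) : ∃ y : K, y ^ 2 = x := by
  obtain ⟨r, hr⟩ := FiniteField.isSquare_of_char_two (ringChar.eq K 2) x
  exact ⟨r, by rw [hr, sq]⟩

theorem d4c2_sqrt_fixed {x y : K} (hy : y ^ 2 = x) (hx : φ x = x) : φ y = y := by
  have h1 : (φ y + y) ^ 2 = 0 := by
    have : (φ y + y) ^ 2 = φ (y ^ 2) + y ^ 2 + 2 * (φ y * y) := by rw [map_pow]; ring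
    rw [this, hy, hx, d4c2_two, zero_mul, add_zero, d4c2_add_self]
  exact d4c2_eq_of_add (pow_eq_zero_iff (two_ne_zero)|>.mp h1)

theorem d4_norm_fixed (h3 : ∀ t, φ (φ (φ t)) = t) (t : K) :
    φ (t * φ t * φ (φ t)) = t * φ t * φ (φ t) := by
  rw [map_mul, map_mul, h3]
  ring

theorem d4_norm_ne {t : K} (ht : t ≠ 0) : t * φ t * φ (φ t) ≠ 0 :=
  mul_ne_zero (mul_ne_zero ht ((map_ne_zero φ).mpr ht))
    ((map_ne_zero φ).mpr ((map_ne_zero φ).mpr ht))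

/-- the trace equation `e + Tr(r φ²(t)) = 0` is solved by `r = e / φ²(t)` for `φ`-fixed `e` -/
theorem d4_killE (h3 : ∀ t, φ (φ (φ t)) = t) {e t : K} (he : φ e = e) (ht : t ≠ 0) :
    e + e / φ (φ t) * φ (φ t) + φ (e / φ (φ t)) * t + φ (φ (e / φ (φ t))) * φ t = 0 := by
  have h1 : φ t ≠ 0 := (map_ne_zero φ).mpr ht
  have h2 : φ (φ t) ≠ 0 := (map_ne_zero φ).mpr h1
  simp only [map_div₀, h3, he]
  rw [div_mul_cancel₀ _ h2, div_mul_cancel₀ _ ht,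
    div_mul_cancel₀ _ h1, d4c2_add_self, zero_add, d4c2_add_self]

end

section

variable {K : Type*} [Field K] [Fintype K] [CharP K 2] {φ : K →+* K}
  {G1 : Subgroup (GL chevD4.Idx K)}

theorem tw_fixed_of_mem (X : TwGrp twOk_D4a φ clsD4 G1) {t1 v1 t2 t3 v2 v3 : K}
    (h : tw φ t1 v1 t2 t3 v2 v3 ∈ G1) : φ v1 = v1 ∧ φ v2 = v2 ∧ φ v3 = v3 := by
  have hfix := (mem_fixS twOk_D4a.ga φ _).mp (X.le_fix h)
  unfold tw at hfix
  rw [sg_gw] at hfix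
  obtain ⟨k1, k2, k3, k4, k5, k6, k7, k8, k9, k10, k11, k12⟩ := gw_inj hfix
  exact ⟨k4, k11, k12⟩

variable (X : TwGrp twOk_D4a φ clsD4 G1) (h3 : ∀ t, φ (φ (φ t)) = t)
include X h3

/-- `x_a(t) x_{3a+2b}(z)` is conjugate to `x_a(1)` -/
theorem red_A {t1 v3 : K} (ht1 : t1 ≠ 0) (hmem : tw φ t1 0 0 0 0 v3 ∈ G1) :
    CJ3 G1 (tw φ t1 0 0 0 0 v3) (tw φ 1 0 0 0 0 0) := by
  obtain ⟨-, -, hv3⟩ := tw_fixed_of_mem X hmem
  have hN := d4_norm_ne (φ := φ) ht1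
  have hNf := d4_norm_fixed h3 t1
  obtain ⟨l, hl⟩ := d4c2_sqrt (v3 / (t1 * φ t1 * φ (φ t1)))
  have hlf : φ l = l := d4c2_sqrt_fixed hl (by rw [map_div₀, hv3, hNf])
  have hlN : l ^ 2 * (t1 * φ t1 * φ (φ t1)) = v3 := by rw [hl, div_mul_cancel₀ _ hN]
  have h1 := (stepC X h3 (l * t1) t1 0 0 v3).congr_right
    (tw_congr (s3 := 0) (w2 := l * (t1 * φ t1 * φ (φ t1))) (w3 := 0) φ rfl rfl rfl
      (by simp only [map_mul, hlf, map_zero]
          linear_combination (l * t1 * φ t1) * (d4c2_two (F := K)))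
      (by simp only [map_mul, hlf, map_zero]
          linear_combination (l * (t1 * φ t1 * φ (φ t1))) * (d4c2_two (F := K)))
      (by simp only [map_mul, hlf, map_zero]
          linear_combination (-1 : K) * hlN + (2 * l ^ 2 * (t1 * φ t1 * φ (φ t1))) *
            (d4c2_two (F := K))))
  have hm1 := h1.mem hmem
  obtain ⟨-, he, -⟩ := tw_fixed_of_mem X hm1
  have h2 := (stepD X h3 (l * (t1 * φ t1 * φ (φ t1)) / φ (φ t1)) t1
    (l * (t1 * φ t1 * φ (φ t1))) 0).congr_right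
    (tw_congr (w2 := 0) φ rfl rfl rfl rfl (d4_killE h3 he ht1) rfl)
  obtain ⟨b, hb⟩ := d4c2_sqrt t1⁻¹
  have hb0 : b ≠ 0 := by
    rintro rfl
    rw [zero_pow two_ne_zero] at hb
    exact inv_ne_zero ht1 hb.symm
  have h4 := (stepTA X h3 hb0 t1).congr_right
    (tw_congr (s1 := 1) φ (by rw [hb, inv_mul_cancel₀ ht1]) rfl rfl rfl rfl rfl)
  exact (h1.trans h2).trans h4

/-- involutions with `t₁ ≠ 0` -/
theorem red_t1 {t1 t2 t3 v2 v3 : K} (ht1 : t1 ≠ 0) (hmem : tw φ t1 0 t2 t3 v2 v3 ∈ G1)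
    (hsq : tw φ t1 0 t2 t3 v2 v3 * tw φ t1 0 t2 t3 v2 v3 = 1) :
    CJ3 G1 (tw φ t1 0 t2 t3 v2 v3) (tw φ 1 0 0 0 0 0) := by
  have hp1 : φ t1 ≠ 0 := (map_ne_zero φ).mpr ht1
  have hp2 : φ (φ t1) ≠ 0 := (map_ne_zero φ).mpr hp1
  have hsq' := hsq
  rw [tw_mul h3 (map_zero φ), ← tw_zero φ] at hsq'
  obtain ⟨-, -, -, e4, -, -⟩ := tw_inj hsq'
  have hD : t1 * φ t2 = t2 * φ t1 := by
    apply d4c2_eq_of_add
    linear_combination e4 - t3 * (d4c2_two (F := K))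
  have hw : φ (t2 / t1) = t2 / t1 := by
    rw [map_div₀, div_eq_div_iff hp1 ht1]
    linear_combination hD
  obtain ⟨t3', v2', v3', h1⟩ : ∃ t3' v2' v3' : K,
      CJ3 G1 (tw φ t1 0 t2 t3 v2 v3) (tw φ t1 0 0 t3' v2' v3') :=
    ⟨_, _, _, (stepB X h3 hw t1 t2 t3 v2 v3).congr_right
      (tw_congr φ rfl rfl (by rw [mul_div_cancel₀ _ ht1, d4c2_add_self]) rfl rfl rfl)⟩
  have hsq1 := h1.sq hsq
  rw [tw_mul h3 (map_zero φ), ← tw_zero φ] at hsq1
  obtain ⟨-, -, -, -, e5, -⟩ := tw_inj hsq1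
  simp only [map_zero, mul_zero, zero_mul, add_zero] at e5
  have hE : t1 * φ t3' + φ (φ t3') * φ t1 = t3' * φ (φ t1) := by
    apply d4c2_eq_of_add
    linear_combination e5 - v2' * (d4c2_two (F := K))
  obtain ⟨v2'', v3'', h2⟩ : ∃ v2'' v3'' : K,
      CJ3 G1 (tw φ t1 0 0 t3' v2' v3') (tw φ t1 0 0 0 v2'' v3'') := by
    refine ⟨_, _, (stepC X h3 (t1 * φ t3' / (φ t1 * φ (φ t1))) t1 t3' v2' v3').congr_right
      (tw_congr φ rfl rfl rfl ?_ rfl rfl)⟩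
    have hs1 : t1 * φ t3' / (φ t1 * φ (φ t1)) * φ t1 = t1 * φ t3' / φ (φ t1) := by
      field_simp
    have hs2 : φ (t1 * φ t3' / (φ t1 * φ (φ t1))) * t1 = φ (φ t3') * φ t1 / φ (φ t1) := by
      rw [map_div₀, map_mul, map_mul, h3]
      field_simp
    rw [hs1, hs2, add_assoc, ← add_div, hE, mul_div_cancel_right₀ _ hp2, d4c2_add_self]
  have h12 := h1.trans h2
  obtain ⟨-, hv2, -⟩ := tw_fixed_of_mem X (h12.mem hmem)
  have h3' := (stepD X h3 (v2'' / φ (φ t1)) t1 v2'' v3'').congr_right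
    (tw_congr (w2 := 0) φ rfl rfl rfl rfl (d4_killE h3 hv2 ht1) rfl)
  have h123 := h12.trans h3'
  exact h123.trans (red_A X h3 ht1 (h123.mem hmem))

/-- nontrivial elements of `X_{3a+b} X_{3a+2b}` -/
theorem red_Z {v2 v3 : K} (hmem : tw φ 0 0 0 0 v2 v3 ∈ G1) (hne : tw φ 0 0 0 0 v2 v3 ≠ 1) :
    CJ3 G1 (tw φ 0 0 0 0 v2 v3) (tw φ 0 0 0 0 0 1) := by
  obtain ⟨-, hv2, hv3⟩ := tw_fixed_of_mem X hmem
  by_cases h2 : v2 = 0
  · subst h2
    have hv30 : v3 ≠ 0 := by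
      rintro rfl
      exact hne (tw_zero φ)
    exact (stepTZ X h3 (inv_ne_zero hv30) (by rw [map_inv₀, hv3]) v3).congr_right
      (tw_congr φ rfl rfl rfl rfl rfl (inv_mul_cancel₀ hv30))
  · have hw : φ (v3 / v2) = v3 / v2 := by rw [map_div₀, hv2, hv3]
    have h1 := (stepB X h3 hw 0 0 0 v2 v3).congr_right
      (tw_congr (s2 := 0) (s3 := 0) (w2 := v2) (w3 := 0) φ rfl rfl
        (by simp only [map_zero, mul_zero, zero_mul, add_zero])
        (by simp only [map_zero, mul_zero, zero_mul, add_zero])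
        (by simp only [map_zero, mul_zero, zero_mul, add_zero])
        (by simp only [map_zero, mul_zero, zero_mul, add_zero]
            rw [mul_div_cancel₀ _ h2, d4c2_add_self]))
    have h2' := (stepnb X h3 0 0 0 v2 0).congr_right
      (tw_congr (s3 := 0) (w2 := 0) (w3 := v2) φ rfl rfl rfl
        (by simp only [map_zero, mul_zero, zero_mul, add_zero])
        (by simp only [map_zero, mul_zero, zero_mul, add_zero])
        (by simp only [map_zero, mul_zero, zero_mul, add_zero]))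
    have h3'' := (stepTZ X h3 (inv_ne_zero h2) (by rw [map_inv₀, hv2]) v2).congr_right
      (tw_congr φ rfl rfl rfl rfl rfl (inv_mul_cancel₀ h2))
    exact (h1.trans h2').trans h3''

/-- involutions with `t₁ = v₁ = 0`, `t₂ ≠ 0` -/
theorem red_t2 {t2 t3 v2 v3 : K} (ht2 : t2 ≠ 0) (hmem : tw φ 0 0 t2 t3 v2 v3 ∈ G1)
    (hsq : tw φ 0 0 t2 t3 v2 v3 * tw φ 0 0 t2 t3 v2 v3 = 1) :
    CJ3 G1 (tw φ 0 0 t2 t3 v2 v3) (tw φ 1 0 0 0 0 0) := by
  have h1 := stepnb X h3 0 t2 t3 v2 v3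
  exact h1.trans (red_t1 X h3 ht2 (h1.mem hmem) (h1.sq hsq))

/-- involutions with `t₁ = 0`, `v₁ ≠ 0` -/
theorem red_v1 {v1 t2 t3 v2 v3 : K} (hv1 : v1 ≠ 0) (hmem : tw φ 0 v1 t2 t3 v2 v3 ∈ G1)
    (hsq : tw φ 0 v1 t2 t3 v2 v3 * tw φ 0 v1 t2 t3 v2 v3 = 1) :
    CJ3 G1 (tw φ 0 v1 t2 t3 v2 v3) (tw φ 0 0 0 0 0 1) ∨
      CJ3 G1 (tw φ 0 v1 t2 t3 v2 v3) (tw φ 1 0 0 0 0 0) := by
  obtain ⟨hf1, -, -⟩ := tw_fixed_of_mem X hmem
  obtain ⟨t3', v2', v3', h1⟩ := stepA X h3 (t2 / v1) hf1 t2 t3 v2 v3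
  have h1' := h1.congr_right (tw_congr (s2 := 0) φ rfl rfl
    (by rw [mul_div_cancel₀ _ hv1, d4c2_add_self]) rfl rfl rfl)
  have hsq1 := h1'.sq hsq
  rw [tw_mul h3 hf1, ← tw_zero φ] at hsq1
  obtain ⟨-, -, -, -, -, e6⟩ := tw_inj hsq1
  simp only [map_zero, mul_zero, zero_mul, add_zero] at e6
  have hv2' : v2' = 0 := by
    have : v2' * v1 = 0 := by linear_combination e6 - v3' * (d4c2_two (F := K))
    rcases mul_eq_zero.mp this with h | h
    · exact h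
    · exact absurd h hv1
  subst hv2'
  obtain ⟨-, -, hf3⟩ := tw_fixed_of_mem X (h1'.mem hmem)
  have hc : φ (v3' / v1) = v3' / v1 := by rw [map_div₀, hf1, hf3]
  have h2 := (stepE X h3 hc hf1 t3' 0 v3').congr_right
    (tw_congr (w3 := 0) φ rfl rfl rfl rfl rfl (by rw [div_mul_cancel₀ _ hv1, d4c2_add_self]))
  have h3'' := (stepna X h3 v1 0 t3' 0 0).congr_right
    (tw_congr (s3 := 0) (w3 := 0) φ rfl rfl rfl
      (by simp only [map_zero])
      rfl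
      (by simp only [map_zero, mul_zero, zero_mul, add_zero]))
  have h123 := (h1'.trans h2).trans h3''
  by_cases ht : t3' = 0
  · subst ht
    left
    rw [map_zero] at h123
    exact h123.trans (red_Z X h3 (h123.mem hmem) (h123.ne_one (by
      intro h
      rw [← tw_zero φ] at h
      exact hv1 (tw_inj h).2.1)))
  · right
    exact h123.trans (red_t2 X h3 ((map_ne_zero φ).mpr ht) (h123.mem hmem) (h123.sq hsq))

/-- involutions with `t₁ = v₁ = t₂ = 0`, `t₃ ≠ 0` -/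
theorem red_t3 {t3 v2 v3 : K} (ht3 : t3 ≠ 0) (hmem : tw φ 0 0 0 t3 v2 v3 ∈ G1)
    (hsq : tw φ 0 0 0 t3 v2 v3 * tw φ 0 0 0 t3 v2 v3 = 1) :
    CJ3 G1 (tw φ 0 0 0 t3 v2 v3) (tw φ 0 0 0 0 0 1) ∨
      CJ3 G1 (tw φ 0 0 0 t3 v2 v3) (tw φ 1 0 0 0 0 0) := by
  have h1 := stepna X h3 0 0 t3 v2 v3
  by_cases h2 : v2 = 0
  · subst h2
    right
    exact h1.trans (red_t2 X h3 ((map_ne_zero φ).mpr ht3) (h1.mem hmem) (h1.sq hsq))
  · rcases red_v1 X h3 h2 (h1.mem hmem) (h1.sq hsq) with h | h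
    · exact Or.inl (h1.trans h)
    · exact Or.inr (h1.trans h)

/-- every involution of `U ∩ ³D₄(q)` is conjugate to `x_{3a+2b}(1)` or to `x_a(1)` -/
theorem red_all {t1 v1 t2 t3 v2 v3 : K} (hmem : tw φ t1 v1 t2 t3 v2 v3 ∈ G1)
    (hne : tw φ t1 v1 t2 t3 v2 v3 ≠ 1)
    (hsq : tw φ t1 v1 t2 t3 v2 v3 * tw φ t1 v1 t2 t3 v2 v3 = 1) :
    CJ3 G1 (tw φ t1 v1 t2 t3 v2 v3) (tw φ 0 0 0 0 0 1) ∨
      CJ3 G1 (tw φ t1 v1 t2 t3 v2 v3) (tw φ 1 0 0 0 0 0) := by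
  obtain ⟨hf1, -, -⟩ := tw_fixed_of_mem X hmem
  have hsq' := hsq
  rw [tw_mul h3 hf1, ← tw_zero φ] at hsq'
  obtain ⟨-, -, e3, -, -, -⟩ := tw_inj hsq'
  have h0 : t1 * v1 = 0 := by linear_combination e3 - t2 * (d4c2_two (F := K))
  by_cases ht1 : t1 = 0
  · subst ht1
    by_cases hv1 : v1 = 0
    · subst hv1
      by_cases ht2 : t2 = 0
      · subst ht2
        by_cases ht3 : t3 = 0
        · subst ht3
          exact Or.inl (red_Z X h3 hmem hne)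
        · exact red_t3 X h3 ht3 hmem hsq
      · exact Or.inr (red_t2 X h3 ht2 hmem hsq)
    · exact red_v1 X h3 hv1 hmem hsq
  · have hv1 : v1 = 0 := by
      rcases mul_eq_zero.mp h0 with h | h
      · exact absurd h ht1
      · exact h
    subst hv1
    exact Or.inr (red_t1 X h3 ht1 hmem hsq)

end

end Cfsg.Agent.Lib.Helper8.Chev
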