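import Cfsg.Agent.Lib.Helper8.ChevTd12

set_option autoImplicit false
set_option linter.unusedSimpArgs false
set_option linter.unusedSectionVars false
set_option linter.unusedVariables false
set_option linter.unusedTactic false
set_option linter.unnecessarySeqFocus false

namespace Cfsg.Agent.Lib.Helper8.Chev

open Cfsg.Lie Matrix

/-! ### The two involutions of `³D₄(q)` are not conjugate in `D₄(q³)` -/

section

variable {F : Type*} [Field F] [CharP F 2]

theorem X4_ne_one {k : ℕ} (hk : k < 24) {t : F} (ht : t ≠ 0) : X4 F k t ≠ 1 := by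
  intro h
  apply ht
  have := congrArg (fun g : GL chevD4.Idx F => (g : Matrix chevD4.Idx chevD4.Idx F)) h
  simp only [coe_X4 hk, x_eq_xN, Units.val_one] at this
  exact xN_eq_one (valid0_of_mem hDD4) (copP_of_mem hDD4) hk this

/-- no element of `U` intertwines a positive root element with `x_a(1)` -/
theorem d4_no_intertwine [Fintype F] {k : ℕ} (hk : k < 24) (hk12 : 12 ≤ k) (c : F)
    (a1 a3 a4 b c1 c3 c4 d1 d3 d4 e z : F)
    (e3 : gw a1 a3 a4 b c1 c3 c4 d1 d3 d4 e z * X4 F k c =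
      gw 1 1 1 0 0 0 0 0 0 0 0 0 * gw a1 a3 a4 b c1 c3 c4 d1 d3 d4 e z) : False := by
  have : k = 12 ∨ k = 13 ∨ k = 14 ∨ k = 15 ∨ k = 16 ∨ k = 17 ∨ k = 18 ∨ k = 19 ∨ k = 20 ∨ k = 21 ∨
      k = 22 ∨ k = 23 := by omega
  rcases this with rfl | rfl | rfl | rfl | rfl | rfl | rfl | rfl | rfl | rfl | rfl | rfl
  · rw [gw_single_12, gw_mul, gw_mul] at e3
    obtain ⟨h1, -⟩ := gw_inj e3
    apply one_ne_zero (α := F)
    linear_combination -h1
  · rw [gw_single_13, gw_mul, gw_mul] at e3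
    obtain ⟨h1, -⟩ := gw_inj e3
    apply one_ne_zero (α := F)
    linear_combination -h1
  · rw [gw_single_14, gw_mul, gw_mul] at e3
    obtain ⟨h1, -⟩ := gw_inj e3
    apply one_ne_zero (α := F)
    linear_combination -h1
  · rw [gw_single_15, gw_mul, gw_mul] at e3
    obtain ⟨h1, -⟩ := gw_inj e3
    apply one_ne_zero (α := F)
    linear_combination -h1
  · rw [gw_single_16, gw_mul, gw_mul] at e3
    obtain ⟨h1, -⟩ := gw_inj e3
    apply one_ne_zero (α := F)
    linear_combination -h1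
  · rw [gw_single_17, gw_mul, gw_mul] at e3
    obtain ⟨h1, -⟩ := gw_inj e3
    apply one_ne_zero (α := F)
    linear_combination -h1
  · rw [gw_single_18, gw_mul, gw_mul] at e3
    obtain ⟨-, h2, -⟩ := gw_inj e3
    apply one_ne_zero (α := F)
    linear_combination -h2
  · rw [gw_single_19, gw_mul, gw_mul] at e3
    obtain ⟨h1, -⟩ := gw_inj e3
    apply one_ne_zero (α := F)
    linear_combination -h1
  · rw [gw_single_20, gw_mul, gw_mul] at e3
    obtain ⟨h1, -⟩ := gw_inj e3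
    apply one_ne_zero (α := F)
    linear_combination -h1
  · rw [gw_single_21, gw_mul, gw_mul] at e3
    obtain ⟨h1, -⟩ := gw_inj e3
    apply one_ne_zero (α := F)
    linear_combination -h1
  · rw [gw_single_22, gw_mul, gw_mul] at e3
    obtain ⟨h1, -⟩ := gw_inj e3
    apply one_ne_zero (α := F)
    linear_combination -h1
  · rw [gw_single_23, gw_mul, gw_mul] at e3
    obtain ⟨h1, -⟩ := gw_inj e3
    apply one_ne_zero (α := F)
    linear_combination -h1

/-- the highest root element is not conjugate to `x_a(1)` in `D₄(F)` -/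
theorem hi_not_conj_A [Fintype F] :
    ¬ ∃ h ∈ chevD4.group F, h * X4 F 23 1 * h⁻¹ = gw 1 1 1 0 0 0 0 0 0 0 0 0 := by
  have V := valid0_of_mem hDD4
  have V1 := valid1_of_mem hDD4
  have J := validJ_of_mem hDD4
  have H := validH_of_mem hDD4
  have P := posP_of_mem hDD4
  have Tr := triP_of_mem hDD4
  rintro ⟨h, hh, e⟩
  obtain ⟨b, hb, l, hl, u, hu, rfl⟩ := bruhat_exists_word hDD4 hh
  have hl2 : ∀ i ∈ l, i < 4 := hl
  have huU : u ∈ chevD4.posUnipotent F := unegS_le_pos _ (unegW_le_unegS hDD4 hl hu)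
  have hcomm : u * X4 F 23 1 = X4 F 23 1 * u :=
    pos_centralizes_hi hDD4 huU (coe_X4 (show 23 < 24 by decide) 1)
  obtain ⟨hk, hn⟩ := nP_X4 (F := F) hl2 (show 23 < 24 by decide) 1
  set k := reflWord chevD4 l 23 with hkdef
  have e1 : b * X4 F k 1 * b⁻¹ = gw 1 1 1 0 0 0 0 0 0 0 0 0 := by
    rw [← e]
    have : b * nP chevD4 F l * u * X4 F 23 1 * (b * nP chevD4 F l * u)⁻¹ =
        b * (nP chevD4 F l * (u * X4 F 23 1 * u⁻¹) * (nP chevD4 F l)⁻¹) * b⁻¹ := by group
    rw [this, hcomm, mul_inv_cancel_right, hn, mul_inv_cancel_right]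
  by_cases hk12 : k < 12
  · -- a negative root element in `B`
    have hB : X4 F k 1 ∈ chevD4.borelSubgroup F := by
      have : X4 F k 1 = b⁻¹ * gw 1 1 1 0 0 0 0 0 0 0 0 0 * b := by rw [← e1]; group
      rw [this]
      exact mul_mem (mul_mem (inv_mem hb) (Subgroup.mem_sup_left (gw_mem_pos _ _ _ _ _ _ _ _ _ _ _ _)))
        hb
    have hV : X4 F k 1 ∈ chevD4.negUnipotent F := by
      apply Subgroup.subset_closure
      refine ⟨k, 1, (P k hk).2.mpr ?_, coe_X4 hk 1⟩
      have h6 : chevD4.nroots / 2 = 12 := by decide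
      omega
    have h1 : X4 F k 1 ∈ chevD4.borelSubgroup F ⊓ chevD4.negUnipotent F := ⟨hB, hV⟩
    rw [borel_inf_neg J V1 H Tr P, Subgroup.mem_bot] at h1
    exact X4_ne_one hk one_ne_zero h1
  · obtain ⟨u', hu', h', hh', rfl⟩ := borel_decomp J V1 H hb
    obtain ⟨c, hc⟩ := torus_conj_x V (torusLike_of_mem J V1 H hh') hk
    have e2 : h' * X4 F k 1 * h'⁻¹ = X4 F k c := by
      apply Units.ext
      rw [hc 1 _ (coe_X4 hk 1), coe_X4 hk, mul_one]
    have e3 : u' * X4 F k c = gw 1 1 1 0 0 0 0 0 0 0 0 0 * u' := by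
      rw [← e1, ← e2]
      group
    obtain ⟨a1, a3, a4, b, c1, c3, c4, d1, d3, d4, e, z, rfl⟩ := gw_of_mem_pos hu'
    exact d4_no_intertwine hk (not_lt.mp hk12) _ _ _ _ _ _ _ _ _ _ _ _ _ e3

end

end Cfsg.Agent.Lib.Helper8.Chev
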