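import Cfsg.Agent.Lib.Helper8.ChevTd13

set_option autoImplicit false
set_option linter.unusedSimpArgs false
set_option linter.unusedSectionVars false
set_option linter.unusedVariables false

namespace Cfsg.Agent.Lib.Helper8.Chev

open Cfsg.Lie Matrix

/-! ### `U ∩ ³D₄(q)` is a Sylow 2-subgroup of `³D₄(q)`, `q` even -/

section

variable {K : Type*} [Field K] [Fintype K] [CharP K 2] {q : ℕ}

/-- a field of characteristic two with `q³` elements has `q` a power of two -/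
theorem two_pow_of_card (hK : Fintype.card K = q ^ 3) : ∃ m : ℕ, 0 < m ∧ q = 2 ^ m := by
  have : Fact (Nat.Prime 2) := ⟨Nat.prime_two⟩
  obtain ⟨n, -, hn⟩ := FiniteField.card K 2
  have hdvd : q ∣ 2 ^ (n : ℕ) := by
    rw [← hn, hK]
    exact dvd_pow_self q (by norm_num)
  obtain ⟨m, -, hm⟩ := (Nat.dvd_prime_pow Nat.prime_two).mp hdvd
  refine ⟨m, ?_, hm⟩
  rcases Nat.eq_zero_or_pos m with h | h
  · exfalso
    rw [h, pow_zero] at hm
    rw [hm, one_pow] at hK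
    have := Fintype.one_lt_card (α := K)
    omega
  · exact h

theorem isPrimePow_of_card (hK : Fintype.card K = q ^ 3) : IsPrimePow q := by
  obtain ⟨m, hm, rfl⟩ := two_pow_of_card hK
  exact ⟨2, m, Nat.prime_two.prime, hm, rfl⟩

theorem sylow_twD4 (hK : Fintype.card K = q ^ 3) :
    ∃ P : Sylow 2 ↥(twistedD4 K q), (P : Subgroup ↥(twistedD4 K q)) =
      (chevD4.posUnipotent K ⊓ twistedD4 K q).subgroupOf (twistedD4 K q) := by
  have : Fact (Nat.Prime 2) := ⟨Nat.prime_two⟩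
  have hq := isPrimePow_of_card hK
  obtain ⟨m, hm, hqm⟩ := two_pow_of_card hK
  have h2q : 2 ∣ q := by
    rw [hqm]
    exact dvd_pow_self 2 hm.ne'
  have hq0 : 0 < q := by
    rw [hqm]
    positivity
  have hG := twD4_card hq hK
  have d2 : 2 ∣ q ^ 2 := dvd_pow h2q (by norm_num)
  have d6 : 2 ∣ q ^ 6 := dvd_pow h2q (by norm_num)
  have d8 : 2 ∣ q ^ 8 := dvd_pow h2q (by norm_num)
  have d4 : 2 ∣ q ^ 4 := dvd_pow h2q (by norm_num)
  have p2 : 0 < q ^ 2 := by positivity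
  have p6 : 0 < q ^ 6 := by positivity
  have o1 : ¬ 2 ∣ q ^ 2 - 1 := by omega
  have o2 : ¬ 2 ∣ q ^ 6 - 1 := by omega
  have o3 : ¬ 2 ∣ q ^ 8 + q ^ 4 + 1 := by omega
  have hodd : ¬ 2 ∣ (q ^ 2 - 1) * (q ^ 6 - 1) * (q ^ 8 + q ^ 4 + 1) := by
    intro h
    rcases Nat.prime_two.dvd_mul.mp h with h | h
    · rcases Nat.prime_two.dvd_mul.mp h with h | h
      · exact o1 h
      · exact o2 h
    · exact o3 h
  have hne : (q ^ 2 - 1) * (q ^ 6 - 1) * (q ^ 8 + q ^ 4 + 1) ≠ 0 := by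
    intro h
    rw [h] at hodd
    exact hodd (dvd_zero 2)
  have hfac : (Nat.card ↥(twistedD4 K q)).factorization 2 = m * 12 := by
    rw [hG, mul_assoc, mul_assoc, ← mul_assoc (q ^ 2 - 1),
      Nat.factorization_mul (pow_ne_zero _ hq0.ne') hne, hqm, ← pow_mul,
      Nat.Prime.factorization_pow Nat.prime_two, Finsupp.add_apply, Finsupp.single_eq_same,
      Nat.factorization_eq_zero_of_not_dvd (by rw [← hqm]; exact hodd), add_zero]
  have hU : Nat.card ↥((chevD4.posUnipotent K ⊓ twistedD4 K q).subgroupOf (twistedD4 K q)) =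
      2 ^ (Nat.card ↥(twistedD4 K q)).factorization 2 := by
    rw [hfac, Nat.card_congr (Subgroup.subgroupOfEquivOfLe
      (inf_le_right : chevD4.posUnipotent K ⊓ twistedD4 K q ≤ twistedD4 K q)).toEquiv,
      card_pos_twD4 hq hK, hqm, ← pow_mul]
  exact ⟨Sylow.ofCard _ hU, Sylow.coe_ofCard _ hU⟩

/-- every involution of `³D₄(q)` is conjugate into `U` -/
theorem conj_into_U3 (hK : Fintype.card K = q ^ 3) {g : GL chevD4.Idx K}
    (hg : g ∈ twistedD4 K q) (h2 : orderOf g = 2) :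
    ∃ k ∈ twistedD4 K q, k * g * k⁻¹ ∈ chevD4.posUnipotent K ⊓ twistedD4 K q := by
  have : Fact (Nat.Prime 2) := ⟨Nat.prime_two⟩
  obtain ⟨P, hP⟩ := sylow_twD4 hK
  set g' : ↥(twistedD4 K q) := ⟨g, hg⟩ with hg'
  have hord : orderOf g' = 2 := by
    rw [← h2]
    exact Subgroup.orderOf_mk g hg
  have hpg : IsPGroup 2 (Subgroup.zpowers g') := by
    apply IsPGroup.of_card (n := 1)
    rw [Nat.card_zpowers, hord, pow_one]
  obtain ⟨Q, hQ⟩ := hpg.exists_le_sylow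
  obtain ⟨k, hk⟩ := MulAction.exists_smul_eq ↥(twistedD4 K q) Q P
  have hgQ : g' ∈ Q := hQ (Subgroup.mem_zpowers g')
  have hmem : k * g' * k⁻¹ ∈ (P : Subgroup ↥(twistedD4 K q)) := by
    rw [← hk, Sylow.coe_subgroup_smul, Subgroup.mem_pointwise_smul_iff_inv_smul_mem,
      MulAut.smul_def, MulAut.conj_inv_apply]
    have : k⁻¹ * (k * g' * k⁻¹) * k = g' := by group
    rw [this]
    exact hgQ
  rw [hP, Subgroup.mem_subgroupOf] at hmem
  refine ⟨k, k.2, ?_⟩
  simpa using hmem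

/-- every involution of `³D₄(q)`, `q` even, is conjugate to `x_{3a+2b}(1)` or to `x_a(1)` -/
theorem inv_classes_twD4 (hK : Fintype.card K = q ^ 3) {φ : K →+* K}
    (h3 : ∀ t, φ (φ (φ t)) = t) (X : TwGrp twOk_D4a φ clsD4 (twistedD4 K q))
    {g : GL chevD4.Idx K} (hg : g ∈ twistedD4 K q) (h2 : orderOf g = 2) :
    CJ3 (twistedD4 K q) g (tw φ 0 0 0 0 0 1) ∨ CJ3 (twistedD4 K q) g (tw φ 1 0 0 0 0 0) := by
  obtain ⟨k, hk, hU⟩ := conj_into_U3 hK hg h2
  obtain ⟨t1, v1, t2, t3, v2, v3, -, -, -, htw⟩ := tw_of_mem X hU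
  have h01 : CJ3 (twistedD4 K q) g (tw φ t1 v1 t2 t3 v2 v3) := ⟨k, hk, htw⟩
  have hg1 : g ≠ 1 := by
    intro h
    rw [h, orderOf_one] at h2
    omega
  have hgsq : g * g = 1 := by
    rw [← pow_two, ← h2, pow_orderOf_eq_one]
  rcases red_all X h3 (h01.mem hg) (h01.ne_one hg1) (h01.sq hgsq) with h | h
  · exact Or.inl (h01.trans h)
  · exact Or.inr (h01.trans h)

end

end Cfsg.Agent.Lib.Helper8.Chev
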