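import Cfsg.Agent.Lib.Helper8.ChevTd1

set_option autoImplicit false
set_option linter.unusedSectionVars false

namespace Cfsg.Agent.Lib.Helper8.Chev

open Cfsg.Lie Matrix

/-! ### The relations of `U` for `D₄` in characteristic two (generated) -/

section

variable {F : Type*} [Field F] [CharP F 2]

theorem d4_nil_18_13 : chevD4.commTerms 18 13 = [] := by decide +kernel
theorem d4rel_18_13 (t u : F) : X4 F 13 u * X4 F 18 t = X4 F 18 t * X4 F 13 u :=
  X4_comm_of_nil (by decide) (by decide) (by decide) (by decide) d4_nil_18_13 t u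
theorem d4tl_18_13 (t u : F) (g : GL chevD4.Idx F) :
    X4 F 13 u * (X4 F 18 t * g) = X4 F 18 t * (X4 F 13 u * g) := by
  rw [← mul_assoc, d4rel_18_13, mul_assoc]

theorem d4_nil_18_12 : chevD4.commTerms 18 12 = [] := by decide +kernel
theorem d4rel_18_12 (t u : F) : X4 F 12 u * X4 F 18 t = X4 F 18 t * X4 F 12 u :=
  X4_comm_of_nil (by decide) (by decide) (by decide) (by decide) d4_nil_18_12 t u
theorem d4tl_18_12 (t u : F) (g : GL chevD4.Idx F) :
    X4 F 12 u * (X4 F 18 t * g) = X4 F 18 t * (X4 F 12 u * g) := by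
  rw [← mul_assoc, d4rel_18_12, mul_assoc]

theorem d4_ct_18_14 : chevD4.commTerms 18 14 = [(19, -1, 1, 1)] := by decide +kernel
theorem d4rel_18_14 (t u : F) : X4 F 14 u * X4 F 18 t = X4 F 18 t * (X4 F 14 u * X4 F 19 (t * u)) :=
  X4_rel_one (by decide) (by decide) (by decide) (by decide) (by decide) (Or.inr rfl) d4_ct_18_14 t u
theorem d4tl_18_14 (t u : F) (g : GL chevD4.Idx F) :
    X4 F 14 u * (X4 F 18 t * g) = X4 F 18 t * (X4 F 14 u * (X4 F 19 (t * u) * g)) := by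
  rw [← mul_assoc, d4rel_18_14, mul_assoc, mul_assoc]

theorem d4_nil_18_19 : chevD4.commTerms 18 19 = [] := by decide +kernel
theorem d4rel_18_19 (t u : F) : X4 F 19 u * X4 F 18 t = X4 F 18 t * X4 F 19 u :=
  X4_comm_of_nil (by decide) (by decide) (by decide) (by decide) d4_nil_18_19 t u
theorem d4tl_18_19 (t u : F) (g : GL chevD4.Idx F) :
    X4 F 19 u * (X4 F 18 t * g) = X4 F 18 t * (X4 F 19 u * g) := by
  rw [← mul_assoc, d4rel_18_19, mul_assoc]

theorem d4_ct_18_16 : chevD4.commTerms 18 16 = [(21, -1, 1, 1)] := by decide +kernel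
theorem d4rel_18_16 (t u : F) : X4 F 16 u * X4 F 18 t = X4 F 18 t * (X4 F 16 u * X4 F 21 (t * u)) :=
  X4_rel_one (by decide) (by decide) (by decide) (by decide) (by decide) (Or.inr rfl) d4_ct_18_16 t u
theorem d4tl_18_16 (t u : F) (g : GL chevD4.Idx F) :
    X4 F 16 u * (X4 F 18 t * g) = X4 F 18 t * (X4 F 16 u * (X4 F 21 (t * u) * g)) := by
  rw [← mul_assoc, d4rel_18_16, mul_assoc, mul_assoc]

theorem d4_ct_18_15 : chevD4.commTerms 18 15 = [(20, -1, 1, 1)] := by decide +kernel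
theorem d4rel_18_15 (t u : F) : X4 F 15 u * X4 F 18 t = X4 F 18 t * (X4 F 15 u * X4 F 20 (t * u)) :=
  X4_rel_one (by decide) (by decide) (by decide) (by decide) (by decide) (Or.inr rfl) d4_ct_18_15 t u
theorem d4tl_18_15 (t u : F) (g : GL chevD4.Idx F) :
    X4 F 15 u * (X4 F 18 t * g) = X4 F 18 t * (X4 F 15 u * (X4 F 20 (t * u) * g)) := by
  rw [← mul_assoc, d4rel_18_15, mul_assoc, mul_assoc]

theorem d4_nil_18_21 : chevD4.commTerms 18 21 = [] := by decide +kernel
theorem d4rel_18_21 (t u : F) : X4 F 21 u * X4 F 18 t = X4 F 18 t * X4 F 21 u :=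
  X4_comm_of_nil (by decide) (by decide) (by decide) (by decide) d4_nil_18_21 t u
theorem d4tl_18_21 (t u : F) (g : GL chevD4.Idx F) :
    X4 F 21 u * (X4 F 18 t * g) = X4 F 18 t * (X4 F 21 u * g) := by
  rw [← mul_assoc, d4rel_18_21, mul_assoc]

theorem d4_ct_18_17 : chevD4.commTerms 18 17 = [(22, -1, 1, 1)] := by decide +kernel
theorem d4rel_18_17 (t u : F) : X4 F 17 u * X4 F 18 t = X4 F 18 t * (X4 F 17 u * X4 F 22 (t * u)) :=
  X4_rel_one (by decide) (by decide) (by decide) (by decide) (by decide) (Or.inr rfl) d4_ct_18_17 t u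
theorem d4tl_18_17 (t u : F) (g : GL chevD4.Idx F) :
    X4 F 17 u * (X4 F 18 t * g) = X4 F 18 t * (X4 F 17 u * (X4 F 22 (t * u) * g)) := by
  rw [← mul_assoc, d4rel_18_17, mul_assoc, mul_assoc]

theorem d4_nil_18_20 : chevD4.commTerms 18 20 = [] := by decide +kernel
theorem d4rel_18_20 (t u : F) : X4 F 20 u * X4 F 18 t = X4 F 18 t * X4 F 20 u :=
  X4_comm_of_nil (by decide) (by decide) (by decide) (by decide) d4_nil_18_20 t u
theorem d4tl_18_20 (t u : F) (g : GL chevD4.Idx F) :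
    X4 F 20 u * (X4 F 18 t * g) = X4 F 18 t * (X4 F 20 u * g) := by
  rw [← mul_assoc, d4rel_18_20, mul_assoc]

theorem d4_nil_18_22 : chevD4.commTerms 18 22 = [] := by decide +kernel
theorem d4rel_18_22 (t u : F) : X4 F 22 u * X4 F 18 t = X4 F 18 t * X4 F 22 u :=
  X4_comm_of_nil (by decide) (by decide) (by decide) (by decide) d4_nil_18_22 t u
theorem d4tl_18_22 (t u : F) (g : GL chevD4.Idx F) :
    X4 F 22 u * (X4 F 18 t * g) = X4 F 18 t * (X4 F 22 u * g) := by
  rw [← mul_assoc, d4rel_18_22, mul_assoc]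

theorem d4_nil_18_23 : chevD4.commTerms 18 23 = [] := by decide +kernel
theorem d4rel_18_23 (t u : F) : X4 F 23 u * X4 F 18 t = X4 F 18 t * X4 F 23 u :=
  X4_comm_of_nil (by decide) (by decide) (by decide) (by decide) d4_nil_18_23 t u
theorem d4tl_18_23 (t u : F) (g : GL chevD4.Idx F) :
    X4 F 23 u * (X4 F 18 t * g) = X4 F 18 t * (X4 F 23 u * g) := by
  rw [← mul_assoc, d4rel_18_23, mul_assoc]

theorem d4_nil_13_12 : chevD4.commTerms 13 12 = [] := by decide +kernel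
theorem d4rel_13_12 (t u : F) : X4 F 12 u * X4 F 13 t = X4 F 13 t * X4 F 12 u :=
  X4_comm_of_nil (by decide) (by decide) (by decide) (by decide) d4_nil_13_12 t u
theorem d4tl_13_12 (t u : F) (g : GL chevD4.Idx F) :
    X4 F 12 u * (X4 F 13 t * g) = X4 F 13 t * (X4 F 12 u * g) := by
  rw [← mul_assoc, d4rel_13_12, mul_assoc]

theorem d4_ct_13_14 : chevD4.commTerms 13 14 = [(16, 1, 1, 1)] := by decide +kernel
theorem d4rel_13_14 (t u : F) : X4 F 14 u * X4 F 13 t = X4 F 13 t * (X4 F 14 u * X4 F 16 (t * u)) :=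
  X4_rel_one (by decide) (by decide) (by decide) (by decide) (by decide) (Or.inl rfl) d4_ct_13_14 t u
theorem d4tl_13_14 (t u : F) (g : GL chevD4.Idx F) :
    X4 F 14 u * (X4 F 13 t * g) = X4 F 13 t * (X4 F 14 u * (X4 F 16 (t * u) * g)) := by
  rw [← mul_assoc, d4rel_13_14, mul_assoc, mul_assoc]

theorem d4_ct_13_19 : chevD4.commTerms 13 19 = [(21, 1, 1, 1)] := by decide +kernel
theorem d4rel_13_19 (t u : F) : X4 F 19 u * X4 F 13 t = X4 F 13 t * (X4 F 19 u * X4 F 21 (t * u)) :=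
  X4_rel_one (by decide) (by decide) (by decide) (by decide) (by decide) (Or.inl rfl) d4_ct_13_19 t u
theorem d4tl_13_19 (t u : F) (g : GL chevD4.Idx F) :
    X4 F 19 u * (X4 F 13 t * g) = X4 F 13 t * (X4 F 19 u * (X4 F 21 (t * u) * g)) := by
  rw [← mul_assoc, d4rel_13_19, mul_assoc, mul_assoc]

theorem d4_nil_13_16 : chevD4.commTerms 13 16 = [] := by decide +kernel
theorem d4rel_13_16 (t u : F) : X4 F 16 u * X4 F 13 t = X4 F 13 t * X4 F 16 u :=
  X4_comm_of_nil (by decide) (by decide) (by decide) (by decide) d4_nil_13_16 t u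
theorem d4tl_13_16 (t u : F) (g : GL chevD4.Idx F) :
    X4 F 16 u * (X4 F 13 t * g) = X4 F 13 t * (X4 F 16 u * g) := by
  rw [← mul_assoc, d4rel_13_16, mul_assoc]

theorem d4_ct_13_15 : chevD4.commTerms 13 15 = [(17, 1, 1, 1)] := by decide +kernel
theorem d4rel_13_15 (t u : F) : X4 F 15 u * X4 F 13 t = X4 F 13 t * (X4 F 15 u * X4 F 17 (t * u)) :=
  X4_rel_one (by decide) (by decide) (by decide) (by decide) (by decide) (Or.inl rfl) d4_ct_13_15 t u
theorem d4tl_13_15 (t u : F) (g : GL chevD4.Idx F) :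
    X4 F 15 u * (X4 F 13 t * g) = X4 F 13 t * (X4 F 15 u * (X4 F 17 (t * u) * g)) := by
  rw [← mul_assoc, d4rel_13_15, mul_assoc, mul_assoc]

theorem d4_nil_13_21 : chevD4.commTerms 13 21 = [] := by decide +kernel
theorem d4rel_13_21 (t u : F) : X4 F 21 u * X4 F 13 t = X4 F 13 t * X4 F 21 u :=
  X4_comm_of_nil (by decide) (by decide) (by decide) (by decide) d4_nil_13_21 t u
theorem d4tl_13_21 (t u : F) (g : GL chevD4.Idx F) :
    X4 F 21 u * (X4 F 13 t * g) = X4 F 13 t * (X4 F 21 u * g) := by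
  rw [← mul_assoc, d4rel_13_21, mul_assoc]

theorem d4_nil_13_17 : chevD4.commTerms 13 17 = [] := by decide +kernel
theorem d4rel_13_17 (t u : F) : X4 F 17 u * X4 F 13 t = X4 F 13 t * X4 F 17 u :=
  X4_comm_of_nil (by decide) (by decide) (by decide) (by decide) d4_nil_13_17 t u
theorem d4tl_13_17 (t u : F) (g : GL chevD4.Idx F) :
    X4 F 17 u * (X4 F 13 t * g) = X4 F 13 t * (X4 F 17 u * g) := by
  rw [← mul_assoc, d4rel_13_17, mul_assoc]

theorem d4_ct_13_20 : chevD4.commTerms 13 20 = [(22, 1, 1, 1)] := by decide +kernel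
theorem d4rel_13_20 (t u : F) : X4 F 20 u * X4 F 13 t = X4 F 13 t * (X4 F 20 u * X4 F 22 (t * u)) :=
  X4_rel_one (by decide) (by decide) (by decide) (by decide) (by decide) (Or.inl rfl) d4_ct_13_20 t u
theorem d4tl_13_20 (t u : F) (g : GL chevD4.Idx F) :
    X4 F 20 u * (X4 F 13 t * g) = X4 F 13 t * (X4 F 20 u * (X4 F 22 (t * u) * g)) := by
  rw [← mul_assoc, d4rel_13_20, mul_assoc, mul_assoc]

theorem d4_nil_13_22 : chevD4.commTerms 13 22 = [] := by decide +kernel
theorem d4rel_13_22 (t u : F) : X4 F 22 u * X4 F 13 t = X4 F 13 t * X4 F 22 u :=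
  X4_comm_of_nil (by decide) (by decide) (by decide) (by decide) d4_nil_13_22 t u
theorem d4tl_13_22 (t u : F) (g : GL chevD4.Idx F) :
    X4 F 22 u * (X4 F 13 t * g) = X4 F 13 t * (X4 F 22 u * g) := by
  rw [← mul_assoc, d4rel_13_22, mul_assoc]

theorem d4_nil_13_23 : chevD4.commTerms 13 23 = [] := by decide +kernel
theorem d4rel_13_23 (t u : F) : X4 F 23 u * X4 F 13 t = X4 F 13 t * X4 F 23 u :=
  X4_comm_of_nil (by decide) (by decide) (by decide) (by decide) d4_nil_13_23 t u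
theorem d4tl_13_23 (t u : F) (g : GL chevD4.Idx F) :
    X4 F 23 u * (X4 F 13 t * g) = X4 F 13 t * (X4 F 23 u * g) := by
  rw [← mul_assoc, d4rel_13_23, mul_assoc]

theorem d4_ct_12_14 : chevD4.commTerms 12 14 = [(15, 1, 1, 1)] := by decide +kernel
theorem d4rel_12_14 (t u : F) : X4 F 14 u * X4 F 12 t = X4 F 12 t * (X4 F 14 u * X4 F 15 (t * u)) :=
  X4_rel_one (by decide) (by decide) (by decide) (by decide) (by decide) (Or.inl rfl) d4_ct_12_14 t u
theorem d4tl_12_14 (t u : F) (g : GL chevD4.Idx F) :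
    X4 F 14 u * (X4 F 12 t * g) = X4 F 12 t * (X4 F 14 u * (X4 F 15 (t * u) * g)) := by
  rw [← mul_assoc, d4rel_12_14, mul_assoc, mul_assoc]

theorem d4_ct_12_19 : chevD4.commTerms 12 19 = [(20, 1, 1, 1)] := by decide +kernel
theorem d4rel_12_19 (t u : F) : X4 F 19 u * X4 F 12 t = X4 F 12 t * (X4 F 19 u * X4 F 20 (t * u)) :=
  X4_rel_one (by decide) (by decide) (by decide) (by decide) (by decide) (Or.inl rfl) d4_ct_12_19 t u
theorem d4tl_12_19 (t u : F) (g : GL chevD4.Idx F) :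
    X4 F 19 u * (X4 F 12 t * g) = X4 F 12 t * (X4 F 19 u * (X4 F 20 (t * u) * g)) := by
  rw [← mul_assoc, d4rel_12_19, mul_assoc, mul_assoc]

theorem d4_ct_12_16 : chevD4.commTerms 12 16 = [(17, 1, 1, 1)] := by decide +kernel
theorem d4rel_12_16 (t u : F) : X4 F 16 u * X4 F 12 t = X4 F 12 t * (X4 F 16 u * X4 F 17 (t * u)) :=
  X4_rel_one (by decide) (by decide) (by decide) (by decide) (by decide) (Or.inl rfl) d4_ct_12_16 t u
theorem d4tl_12_16 (t u : F) (g : GL chevD4.Idx F) :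
    X4 F 16 u * (X4 F 12 t * g) = X4 F 12 t * (X4 F 16 u * (X4 F 17 (t * u) * g)) := by
  rw [← mul_assoc, d4rel_12_16, mul_assoc, mul_assoc]

theorem d4_nil_12_15 : chevD4.commTerms 12 15 = [] := by decide +kernel
theorem d4rel_12_15 (t u : F) : X4 F 15 u * X4 F 12 t = X4 F 12 t * X4 F 15 u :=
  X4_comm_of_nil (by decide) (by decide) (by decide) (by decide) d4_nil_12_15 t u
theorem d4tl_12_15 (t u : F) (g : GL chevD4.Idx F) :
    X4 F 15 u * (X4 F 12 t * g) = X4 F 12 t * (X4 F 15 u * g) := by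
  rw [← mul_assoc, d4rel_12_15, mul_assoc]

theorem d4_ct_12_21 : chevD4.commTerms 12 21 = [(22, 1, 1, 1)] := by decide +kernel
theorem d4rel_12_21 (t u : F) : X4 F 21 u * X4 F 12 t = X4 F 12 t * (X4 F 21 u * X4 F 22 (t * u)) :=
  X4_rel_one (by decide) (by decide) (by decide) (by decide) (by decide) (Or.inl rfl) d4_ct_12_21 t u
theorem d4tl_12_21 (t u : F) (g : GL chevD4.Idx F) :
    X4 F 21 u * (X4 F 12 t * g) = X4 F 12 t * (X4 F 21 u * (X4 F 22 (t * u) * g)) := by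
  rw [← mul_assoc, d4rel_12_21, mul_assoc, mul_assoc]

theorem d4_nil_12_17 : chevD4.commTerms 12 17 = [] := by decide +kernel
theorem d4rel_12_17 (t u : F) : X4 F 17 u * X4 F 12 t = X4 F 12 t * X4 F 17 u :=
  X4_comm_of_nil (by decide) (by decide) (by decide) (by decide) d4_nil_12_17 t u
theorem d4tl_12_17 (t u : F) (g : GL chevD4.Idx F) :
    X4 F 17 u * (X4 F 12 t * g) = X4 F 12 t * (X4 F 17 u * g) := by
  rw [← mul_assoc, d4rel_12_17, mul_assoc]

theorem d4_nil_12_20 : chevD4.commTerms 12 20 = [] := by decide +kernel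
theorem d4rel_12_20 (t u : F) : X4 F 20 u * X4 F 12 t = X4 F 12 t * X4 F 20 u :=
  X4_comm_of_nil (by decide) (by decide) (by decide) (by decide) d4_nil_12_20 t u
theorem d4tl_12_20 (t u : F) (g : GL chevD4.Idx F) :
    X4 F 20 u * (X4 F 12 t * g) = X4 F 12 t * (X4 F 20 u * g) := by
  rw [← mul_assoc, d4rel_12_20, mul_assoc]

theorem d4_nil_12_22 : chevD4.commTerms 12 22 = [] := by decide +kernel
theorem d4rel_12_22 (t u : F) : X4 F 22 u * X4 F 12 t = X4 F 12 t * X4 F 22 u :=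
  X4_comm_of_nil (by decide) (by decide) (by decide) (by decide) d4_nil_12_22 t u
theorem d4tl_12_22 (t u : F) (g : GL chevD4.Idx F) :
    X4 F 22 u * (X4 F 12 t * g) = X4 F 12 t * (X4 F 22 u * g) := by
  rw [← mul_assoc, d4rel_12_22, mul_assoc]

theorem d4_nil_12_23 : chevD4.commTerms 12 23 = [] := by decide +kernel
theorem d4rel_12_23 (t u : F) : X4 F 23 u * X4 F 12 t = X4 F 12 t * X4 F 23 u :=
  X4_comm_of_nil (by decide) (by decide) (by decide) (by decide) d4_nil_12_23 t u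
theorem d4tl_12_23 (t u : F) (g : GL chevD4.Idx F) :
    X4 F 23 u * (X4 F 12 t * g) = X4 F 12 t * (X4 F 23 u * g) := by
  rw [← mul_assoc, d4rel_12_23, mul_assoc]

theorem d4_nil_14_19 : chevD4.commTerms 14 19 = [] := by decide +kernel
theorem d4rel_14_19 (t u : F) : X4 F 19 u * X4 F 14 t = X4 F 14 t * X4 F 19 u :=
  X4_comm_of_nil (by decide) (by decide) (by decide) (by decide) d4_nil_14_19 t u
theorem d4tl_14_19 (t u : F) (g : GL chevD4.Idx F) :
    X4 F 19 u * (X4 F 14 t * g) = X4 F 14 t * (X4 F 19 u * g) := by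
  rw [← mul_assoc, d4rel_14_19, mul_assoc]

theorem d4_nil_14_16 : chevD4.commTerms 14 16 = [] := by decide +kernel
theorem d4rel_14_16 (t u : F) : X4 F 16 u * X4 F 14 t = X4 F 14 t * X4 F 16 u :=
  X4_comm_of_nil (by decide) (by decide) (by decide) (by decide) d4_nil_14_16 t u
theorem d4tl_14_16 (t u : F) (g : GL chevD4.Idx F) :
    X4 F 16 u * (X4 F 14 t * g) = X4 F 14 t * (X4 F 16 u * g) := by
  rw [← mul_assoc, d4rel_14_16, mul_assoc]

theorem d4_nil_14_15 : chevD4.commTerms 14 15 = [] := by decide +kernel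
theorem d4rel_14_15 (t u : F) : X4 F 15 u * X4 F 14 t = X4 F 14 t * X4 F 15 u :=
  X4_comm_of_nil (by decide) (by decide) (by decide) (by decide) d4_nil_14_15 t u
theorem d4tl_14_15 (t u : F) (g : GL chevD4.Idx F) :
    X4 F 15 u * (X4 F 14 t * g) = X4 F 14 t * (X4 F 15 u * g) := by
  rw [← mul_assoc, d4rel_14_15, mul_assoc]

theorem d4_nil_14_21 : chevD4.commTerms 14 21 = [] := by decide +kernel
theorem d4rel_14_21 (t u : F) : X4 F 21 u * X4 F 14 t = X4 F 14 t * X4 F 21 u :=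
  X4_comm_of_nil (by decide) (by decide) (by decide) (by decide) d4_nil_14_21 t u
theorem d4tl_14_21 (t u : F) (g : GL chevD4.Idx F) :
    X4 F 21 u * (X4 F 14 t * g) = X4 F 14 t * (X4 F 21 u * g) := by
  rw [← mul_assoc, d4rel_14_21, mul_assoc]

theorem d4_nil_14_17 : chevD4.commTerms 14 17 = [] := by decide +kernel
theorem d4rel_14_17 (t u : F) : X4 F 17 u * X4 F 14 t = X4 F 14 t * X4 F 17 u :=
  X4_comm_of_nil (by decide) (by decide) (by decide) (by decide) d4_nil_14_17 t u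
theorem d4tl_14_17 (t u : F) (g : GL chevD4.Idx F) :
    X4 F 17 u * (X4 F 14 t * g) = X4 F 14 t * (X4 F 17 u * g) := by
  rw [← mul_assoc, d4rel_14_17, mul_assoc]

theorem d4_nil_14_20 : chevD4.commTerms 14 20 = [] := by decide +kernel
theorem d4rel_14_20 (t u : F) : X4 F 20 u * X4 F 14 t = X4 F 14 t * X4 F 20 u :=
  X4_comm_of_nil (by decide) (by decide) (by decide) (by decide) d4_nil_14_20 t u
theorem d4tl_14_20 (t u : F) (g : GL chevD4.Idx F) :
    X4 F 20 u * (X4 F 14 t * g) = X4 F 14 t * (X4 F 20 u * g) := by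
  rw [← mul_assoc, d4rel_14_20, mul_assoc]

theorem d4_ct_14_22 : chevD4.commTerms 14 22 = [(23, 1, 1, 1)] := by decide +kernel
theorem d4rel_14_22 (t u : F) : X4 F 22 u * X4 F 14 t = X4 F 14 t * (X4 F 22 u * X4 F 23 (t * u)) :=
  X4_rel_one (by decide) (by decide) (by decide) (by decide) (by decide) (Or.inl rfl) d4_ct_14_22 t u
theorem d4tl_14_22 (t u : F) (g : GL chevD4.Idx F) :
    X4 F 22 u * (X4 F 14 t * g) = X4 F 14 t * (X4 F 22 u * (X4 F 23 (t * u) * g)) := by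
  rw [← mul_assoc, d4rel_14_22, mul_assoc, mul_assoc]

theorem d4_nil_14_23 : chevD4.commTerms 14 23 = [] := by decide +kernel
theorem d4rel_14_23 (t u : F) : X4 F 23 u * X4 F 14 t = X4 F 14 t * X4 F 23 u :=
  X4_comm_of_nil (by decide) (by decide) (by decide) (by decide) d4_nil_14_23 t u
theorem d4tl_14_23 (t u : F) (g : GL chevD4.Idx F) :
    X4 F 23 u * (X4 F 14 t * g) = X4 F 14 t * (X4 F 23 u * g) := by
  rw [← mul_assoc, d4rel_14_23, mul_assoc]

theorem d4_nil_19_16 : chevD4.commTerms 19 16 = [] := by decide +kernel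
theorem d4rel_19_16 (t u : F) : X4 F 16 u * X4 F 19 t = X4 F 19 t * X4 F 16 u :=
  X4_comm_of_nil (by decide) (by decide) (by decide) (by decide) d4_nil_19_16 t u
theorem d4tl_19_16 (t u : F) (g : GL chevD4.Idx F) :
    X4 F 16 u * (X4 F 19 t * g) = X4 F 19 t * (X4 F 16 u * g) := by
  rw [← mul_assoc, d4rel_19_16, mul_assoc]

theorem d4_nil_19_15 : chevD4.commTerms 19 15 = [] := by decide +kernel
theorem d4rel_19_15 (t u : F) : X4 F 15 u * X4 F 19 t = X4 F 19 t * X4 F 15 u :=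
  X4_comm_of_nil (by decide) (by decide) (by decide) (by decide) d4_nil_19_15 t u
theorem d4tl_19_15 (t u : F) (g : GL chevD4.Idx F) :
    X4 F 15 u * (X4 F 19 t * g) = X4 F 19 t * (X4 F 15 u * g) := by
  rw [← mul_assoc, d4rel_19_15, mul_assoc]

theorem d4_nil_19_21 : chevD4.commTerms 19 21 = [] := by decide +kernel
theorem d4rel_19_21 (t u : F) : X4 F 21 u * X4 F 19 t = X4 F 19 t * X4 F 21 u :=
  X4_comm_of_nil (by decide) (by decide) (by decide) (by decide) d4_nil_19_21 t u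
theorem d4tl_19_21 (t u : F) (g : GL chevD4.Idx F) :
    X4 F 21 u * (X4 F 19 t * g) = X4 F 19 t * (X4 F 21 u * g) := by
  rw [← mul_assoc, d4rel_19_21, mul_assoc]

theorem d4_ct_19_17 : chevD4.commTerms 19 17 = [(23, -1, 1, 1)] := by decide +kernel
theorem d4rel_19_17 (t u : F) : X4 F 17 u * X4 F 19 t = X4 F 19 t * (X4 F 17 u * X4 F 23 (t * u)) :=
  X4_rel_one (by decide) (by decide) (by decide) (by decide) (by decide) (Or.inr rfl) d4_ct_19_17 t u
theorem d4tl_19_17 (t u : F) (g : GL chevD4.Idx F) :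
    X4 F 17 u * (X4 F 19 t * g) = X4 F 19 t * (X4 F 17 u * (X4 F 23 (t * u) * g)) := by
  rw [← mul_assoc, d4rel_19_17, mul_assoc, mul_assoc]

theorem d4_nil_19_20 : chevD4.commTerms 19 20 = [] := by decide +kernel
theorem d4rel_19_20 (t u : F) : X4 F 20 u * X4 F 19 t = X4 F 19 t * X4 F 20 u :=
  X4_comm_of_nil (by decide) (by decide) (by decide) (by decide) d4_nil_19_20 t u
theorem d4tl_19_20 (t u : F) (g : GL chevD4.Idx F) :
    X4 F 20 u * (X4 F 19 t * g) = X4 F 19 t * (X4 F 20 u * g) := by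
  rw [← mul_assoc, d4rel_19_20, mul_assoc]

theorem d4_nil_19_22 : chevD4.commTerms 19 22 = [] := by decide +kernel
theorem d4rel_19_22 (t u : F) : X4 F 22 u * X4 F 19 t = X4 F 19 t * X4 F 22 u :=
  X4_comm_of_nil (by decide) (by decide) (by decide) (by decide) d4_nil_19_22 t u
theorem d4tl_19_22 (t u : F) (g : GL chevD4.Idx F) :
    X4 F 22 u * (X4 F 19 t * g) = X4 F 19 t * (X4 F 22 u * g) := by
  rw [← mul_assoc, d4rel_19_22, mul_assoc]

theorem d4_nil_19_23 : chevD4.commTerms 19 23 = [] := by decide +kernel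
theorem d4rel_19_23 (t u : F) : X4 F 23 u * X4 F 19 t = X4 F 19 t * X4 F 23 u :=
  X4_comm_of_nil (by decide) (by decide) (by decide) (by decide) d4_nil_19_23 t u
theorem d4tl_19_23 (t u : F) (g : GL chevD4.Idx F) :
    X4 F 23 u * (X4 F 19 t * g) = X4 F 19 t * (X4 F 23 u * g) := by
  rw [← mul_assoc, d4rel_19_23, mul_assoc]

theorem d4_nil_16_15 : chevD4.commTerms 16 15 = [] := by decide +kernel
theorem d4rel_16_15 (t u : F) : X4 F 15 u * X4 F 16 t = X4 F 16 t * X4 F 15 u :=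
  X4_comm_of_nil (by decide) (by decide) (by decide) (by decide) d4_nil_16_15 t u
theorem d4tl_16_15 (t u : F) (g : GL chevD4.Idx F) :
    X4 F 15 u * (X4 F 16 t * g) = X4 F 16 t * (X4 F 15 u * g) := by
  rw [← mul_assoc, d4rel_16_15, mul_assoc]

theorem d4_nil_16_21 : chevD4.commTerms 16 21 = [] := by decide +kernel
theorem d4rel_16_21 (t u : F) : X4 F 21 u * X4 F 16 t = X4 F 16 t * X4 F 21 u :=
  X4_comm_of_nil (by decide) (by decide) (by decide) (by decide) d4_nil_16_21 t u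
theorem d4tl_16_21 (t u : F) (g : GL chevD4.Idx F) :
    X4 F 21 u * (X4 F 16 t * g) = X4 F 16 t * (X4 F 21 u * g) := by
  rw [← mul_assoc, d4rel_16_21, mul_assoc]

theorem d4_nil_16_17 : chevD4.commTerms 16 17 = [] := by decide +kernel
theorem d4rel_16_17 (t u : F) : X4 F 17 u * X4 F 16 t = X4 F 16 t * X4 F 17 u :=
  X4_comm_of_nil (by decide) (by decide) (by decide) (by decide) d4_nil_16_17 t u
theorem d4tl_16_17 (t u : F) (g : GL chevD4.Idx F) :
    X4 F 17 u * (X4 F 16 t * g) = X4 F 16 t * (X4 F 17 u * g) := by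
  rw [← mul_assoc, d4rel_16_17, mul_assoc]

theorem d4_ct_16_20 : chevD4.commTerms 16 20 = [(23, -1, 1, 1)] := by decide +kernel
theorem d4rel_16_20 (t u : F) : X4 F 20 u * X4 F 16 t = X4 F 16 t * (X4 F 20 u * X4 F 23 (t * u)) :=
  X4_rel_one (by decide) (by decide) (by decide) (by decide) (by decide) (Or.inr rfl) d4_ct_16_20 t u
theorem d4tl_16_20 (t u : F) (g : GL chevD4.Idx F) :
    X4 F 20 u * (X4 F 16 t * g) = X4 F 16 t * (X4 F 20 u * (X4 F 23 (t * u) * g)) := by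
  rw [← mul_assoc, d4rel_16_20, mul_assoc, mul_assoc]

theorem d4_nil_16_22 : chevD4.commTerms 16 22 = [] := by decide +kernel
theorem d4rel_16_22 (t u : F) : X4 F 22 u * X4 F 16 t = X4 F 16 t * X4 F 22 u :=
  X4_comm_of_nil (by decide) (by decide) (by decide) (by decide) d4_nil_16_22 t u
theorem d4tl_16_22 (t u : F) (g : GL chevD4.Idx F) :
    X4 F 22 u * (X4 F 16 t * g) = X4 F 16 t * (X4 F 22 u * g) := by
  rw [← mul_assoc, d4rel_16_22, mul_assoc]

theorem d4_nil_16_23 : chevD4.commTerms 16 23 = [] := by decide +kernel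
theorem d4rel_16_23 (t u : F) : X4 F 23 u * X4 F 16 t = X4 F 16 t * X4 F 23 u :=
  X4_comm_of_nil (by decide) (by decide) (by decide) (by decide) d4_nil_16_23 t u
theorem d4tl_16_23 (t u : F) (g : GL chevD4.Idx F) :
    X4 F 23 u * (X4 F 16 t * g) = X4 F 16 t * (X4 F 23 u * g) := by
  rw [← mul_assoc, d4rel_16_23, mul_assoc]

theorem d4_ct_15_21 : chevD4.commTerms 15 21 = [(23, -1, 1, 1)] := by decide +kernel
theorem d4rel_15_21 (t u : F) : X4 F 21 u * X4 F 15 t = X4 F 15 t * (X4 F 21 u * X4 F 23 (t * u)) :=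
  X4_rel_one (by decide) (by decide) (by decide) (by decide) (by decide) (Or.inr rfl) d4_ct_15_21 t u
theorem d4tl_15_21 (t u : F) (g : GL chevD4.Idx F) :
    X4 F 21 u * (X4 F 15 t * g) = X4 F 15 t * (X4 F 21 u * (X4 F 23 (t * u) * g)) := by
  rw [← mul_assoc, d4rel_15_21, mul_assoc, mul_assoc]

theorem d4_nil_15_17 : chevD4.commTerms 15 17 = [] := by decide +kernel
theorem d4rel_15_17 (t u : F) : X4 F 17 u * X4 F 15 t = X4 F 15 t * X4 F 17 u :=
  X4_comm_of_nil (by decide) (by decide) (by decide) (by decide) d4_nil_15_17 t u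
theorem d4tl_15_17 (t u : F) (g : GL chevD4.Idx F) :
    X4 F 17 u * (X4 F 15 t * g) = X4 F 15 t * (X4 F 17 u * g) := by
  rw [← mul_assoc, d4rel_15_17, mul_assoc]

theorem d4_nil_15_20 : chevD4.commTerms 15 20 = [] := by decide +kernel
theorem d4rel_15_20 (t u : F) : X4 F 20 u * X4 F 15 t = X4 F 15 t * X4 F 20 u :=
  X4_comm_of_nil (by decide) (by decide) (by decide) (by decide) d4_nil_15_20 t u
theorem d4tl_15_20 (t u : F) (g : GL chevD4.Idx F) :
    X4 F 20 u * (X4 F 15 t * g) = X4 F 15 t * (X4 F 20 u * g) := by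
  rw [← mul_assoc, d4rel_15_20, mul_assoc]

theorem d4_nil_15_22 : chevD4.commTerms 15 22 = [] := by decide +kernel
theorem d4rel_15_22 (t u : F) : X4 F 22 u * X4 F 15 t = X4 F 15 t * X4 F 22 u :=
  X4_comm_of_nil (by decide) (by decide) (by decide) (by decide) d4_nil_15_22 t u
theorem d4tl_15_22 (t u : F) (g : GL chevD4.Idx F) :
    X4 F 22 u * (X4 F 15 t * g) = X4 F 15 t * (X4 F 22 u * g) := by
  rw [← mul_assoc, d4rel_15_22, mul_assoc]

theorem d4_nil_15_23 : chevD4.commTerms 15 23 = [] := by decide +kernel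
theorem d4rel_15_23 (t u : F) : X4 F 23 u * X4 F 15 t = X4 F 15 t * X4 F 23 u :=
  X4_comm_of_nil (by decide) (by decide) (by decide) (by decide) d4_nil_15_23 t u
theorem d4tl_15_23 (t u : F) (g : GL chevD4.Idx F) :
    X4 F 23 u * (X4 F 15 t * g) = X4 F 15 t * (X4 F 23 u * g) := by
  rw [← mul_assoc, d4rel_15_23, mul_assoc]

theorem d4_nil_21_17 : chevD4.commTerms 21 17 = [] := by decide +kernel
theorem d4rel_21_17 (t u : F) : X4 F 17 u * X4 F 21 t = X4 F 21 t * X4 F 17 u :=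
  X4_comm_of_nil (by decide) (by decide) (by decide) (by decide) d4_nil_21_17 t u
theorem d4tl_21_17 (t u : F) (g : GL chevD4.Idx F) :
    X4 F 17 u * (X4 F 21 t * g) = X4 F 21 t * (X4 F 17 u * g) := by
  rw [← mul_assoc, d4rel_21_17, mul_assoc]

theorem d4_nil_21_20 : chevD4.commTerms 21 20 = [] := by decide +kernel
theorem d4rel_21_20 (t u : F) : X4 F 20 u * X4 F 21 t = X4 F 21 t * X4 F 20 u :=
  X4_comm_of_nil (by decide) (by decide) (by decide) (by decide) d4_nil_21_20 t u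
theorem d4tl_21_20 (t u : F) (g : GL chevD4.Idx F) :
    X4 F 20 u * (X4 F 21 t * g) = X4 F 21 t * (X4 F 20 u * g) := by
  rw [← mul_assoc, d4rel_21_20, mul_assoc]

theorem d4_nil_21_22 : chevD4.commTerms 21 22 = [] := by decide +kernel
theorem d4rel_21_22 (t u : F) : X4 F 22 u * X4 F 21 t = X4 F 21 t * X4 F 22 u :=
  X4_comm_of_nil (by decide) (by decide) (by decide) (by decide) d4_nil_21_22 t u
theorem d4tl_21_22 (t u : F) (g : GL chevD4.Idx F) :
    X4 F 22 u * (X4 F 21 t * g) = X4 F 21 t * (X4 F 22 u * g) := by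
  rw [← mul_assoc, d4rel_21_22, mul_assoc]

theorem d4_nil_21_23 : chevD4.commTerms 21 23 = [] := by decide +kernel
theorem d4rel_21_23 (t u : F) : X4 F 23 u * X4 F 21 t = X4 F 21 t * X4 F 23 u :=
  X4_comm_of_nil (by decide) (by decide) (by decide) (by decide) d4_nil_21_23 t u
theorem d4tl_21_23 (t u : F) (g : GL chevD4.Idx F) :
    X4 F 23 u * (X4 F 21 t * g) = X4 F 21 t * (X4 F 23 u * g) := by
  rw [← mul_assoc, d4rel_21_23, mul_assoc]

theorem d4_nil_17_20 : chevD4.commTerms 17 20 = [] := by decide +kernel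
theorem d4rel_17_20 (t u : F) : X4 F 20 u * X4 F 17 t = X4 F 17 t * X4 F 20 u :=
  X4_comm_of_nil (by decide) (by decide) (by decide) (by decide) d4_nil_17_20 t u
theorem d4tl_17_20 (t u : F) (g : GL chevD4.Idx F) :
    X4 F 20 u * (X4 F 17 t * g) = X4 F 17 t * (X4 F 20 u * g) := by
  rw [← mul_assoc, d4rel_17_20, mul_assoc]

theorem d4_nil_17_22 : chevD4.commTerms 17 22 = [] := by decide +kernel
theorem d4rel_17_22 (t u : F) : X4 F 22 u * X4 F 17 t = X4 F 17 t * X4 F 22 u :=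
  X4_comm_of_nil (by decide) (by decide) (by decide) (by decide) d4_nil_17_22 t u
theorem d4tl_17_22 (t u : F) (g : GL chevD4.Idx F) :
    X4 F 22 u * (X4 F 17 t * g) = X4 F 17 t * (X4 F 22 u * g) := by
  rw [← mul_assoc, d4rel_17_22, mul_assoc]

theorem d4_nil_17_23 : chevD4.commTerms 17 23 = [] := by decide +kernel
theorem d4rel_17_23 (t u : F) : X4 F 23 u * X4 F 17 t = X4 F 17 t * X4 F 23 u :=
  X4_comm_of_nil (by decide) (by decide) (by decide) (by decide) d4_nil_17_23 t u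
theorem d4tl_17_23 (t u : F) (g : GL chevD4.Idx F) :
    X4 F 23 u * (X4 F 17 t * g) = X4 F 17 t * (X4 F 23 u * g) := by
  rw [← mul_assoc, d4rel_17_23, mul_assoc]

theorem d4_nil_20_22 : chevD4.commTerms 20 22 = [] := by decide +kernel
theorem d4rel_20_22 (t u : F) : X4 F 22 u * X4 F 20 t = X4 F 20 t * X4 F 22 u :=
  X4_comm_of_nil (by decide) (by decide) (by decide) (by decide) d4_nil_20_22 t u
theorem d4tl_20_22 (t u : F) (g : GL chevD4.Idx F) :
    X4 F 22 u * (X4 F 20 t * g) = X4 F 20 t * (X4 F 22 u * g) := by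
  rw [← mul_assoc, d4rel_20_22, mul_assoc]

theorem d4_nil_20_23 : chevD4.commTerms 20 23 = [] := by decide +kernel
theorem d4rel_20_23 (t u : F) : X4 F 23 u * X4 F 20 t = X4 F 20 t * X4 F 23 u :=
  X4_comm_of_nil (by decide) (by decide) (by decide) (by decide) d4_nil_20_23 t u
theorem d4tl_20_23 (t u : F) (g : GL chevD4.Idx F) :
    X4 F 23 u * (X4 F 20 t * g) = X4 F 20 t * (X4 F 23 u * g) := by
  rw [← mul_assoc, d4rel_20_23, mul_assoc]

theorem d4_nil_22_23 : chevD4.commTerms 22 23 = [] := by decide +kernel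
theorem d4rel_22_23 (t u : F) : X4 F 23 u * X4 F 22 t = X4 F 22 t * X4 F 23 u :=
  X4_comm_of_nil (by decide) (by decide) (by decide) (by decide) d4_nil_22_23 t u
theorem d4tl_22_23 (t u : F) (g : GL chevD4.Idx F) :
    X4 F 23 u * (X4 F 22 t * g) = X4 F 22 t * (X4 F 23 u * g) := by
  rw [← mul_assoc, d4rel_22_23, mul_assoc]

theorem d4ad_18 (t s : F) : X4 F 18 t * X4 F 18 s = X4 F 18 (t + s) := X4_add (by decide) t s
theorem d4adt_18 (t s : F) (g : GL chevD4.Idx F) : X4 F 18 t * (X4 F 18 s * g) = X4 F 18 (t + s) * g := by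
  rw [← mul_assoc, d4ad_18]
theorem d4ad_13 (t s : F) : X4 F 13 t * X4 F 13 s = X4 F 13 (t + s) := X4_add (by decide) t s
theorem d4adt_13 (t s : F) (g : GL chevD4.Idx F) : X4 F 13 t * (X4 F 13 s * g) = X4 F 13 (t + s) * g := by
  rw [← mul_assoc, d4ad_13]
theorem d4ad_12 (t s : F) : X4 F 12 t * X4 F 12 s = X4 F 12 (t + s) := X4_add (by decide) t s
theorem d4adt_12 (t s : F) (g : GL chevD4.Idx F) : X4 F 12 t * (X4 F 12 s * g) = X4 F 12 (t + s) * g := by
  rw [← mul_assoc, d4ad_12]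
theorem d4ad_14 (t s : F) : X4 F 14 t * X4 F 14 s = X4 F 14 (t + s) := X4_add (by decide) t s
theorem d4adt_14 (t s : F) (g : GL chevD4.Idx F) : X4 F 14 t * (X4 F 14 s * g) = X4 F 14 (t + s) * g := by
  rw [← mul_assoc, d4ad_14]
theorem d4ad_19 (t s : F) : X4 F 19 t * X4 F 19 s = X4 F 19 (t + s) := X4_add (by decide) t s
theorem d4adt_19 (t s : F) (g : GL chevD4.Idx F) : X4 F 19 t * (X4 F 19 s * g) = X4 F 19 (t + s) * g := by
  rw [← mul_assoc, d4ad_19]
theorem d4ad_16 (t s : F) : X4 F 16 t * X4 F 16 s = X4 F 16 (t + s) := X4_add (by decide) t s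
theorem d4adt_16 (t s : F) (g : GL chevD4.Idx F) : X4 F 16 t * (X4 F 16 s * g) = X4 F 16 (t + s) * g := by
  rw [← mul_assoc, d4ad_16]
theorem d4ad_15 (t s : F) : X4 F 15 t * X4 F 15 s = X4 F 15 (t + s) := X4_add (by decide) t s
theorem d4adt_15 (t s : F) (g : GL chevD4.Idx F) : X4 F 15 t * (X4 F 15 s * g) = X4 F 15 (t + s) * g := by
  rw [← mul_assoc, d4ad_15]
theorem d4ad_21 (t s : F) : X4 F 21 t * X4 F 21 s = X4 F 21 (t + s) := X4_add (by decide) t s
theorem d4adt_21 (t s : F) (g : GL chevD4.Idx F) : X4 F 21 t * (X4 F 21 s * g) = X4 F 21 (t + s) * g := by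
  rw [← mul_assoc, d4ad_21]
theorem d4ad_17 (t s : F) : X4 F 17 t * X4 F 17 s = X4 F 17 (t + s) := X4_add (by decide) t s
theorem d4adt_17 (t s : F) (g : GL chevD4.Idx F) : X4 F 17 t * (X4 F 17 s * g) = X4 F 17 (t + s) * g := by
  rw [← mul_assoc, d4ad_17]
theorem d4ad_20 (t s : F) : X4 F 20 t * X4 F 20 s = X4 F 20 (t + s) := X4_add (by decide) t s
theorem d4adt_20 (t s : F) (g : GL chevD4.Idx F) : X4 F 20 t * (X4 F 20 s * g) = X4 F 20 (t + s) * g := by
  rw [← mul_assoc, d4ad_20]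
theorem d4ad_22 (t s : F) : X4 F 22 t * X4 F 22 s = X4 F 22 (t + s) := X4_add (by decide) t s
theorem d4adt_22 (t s : F) (g : GL chevD4.Idx F) : X4 F 22 t * (X4 F 22 s * g) = X4 F 22 (t + s) * g := by
  rw [← mul_assoc, d4ad_22]
theorem d4ad_23 (t s : F) : X4 F 23 t * X4 F 23 s = X4 F 23 (t + s) := X4_add (by decide) t s
theorem d4adt_23 (t s : F) (g : GL chevD4.Idx F) : X4 F 23 t * (X4 F 23 s * g) = X4 F 23 (t + s) * g := by
  rw [← mul_assoc, d4ad_23]

end

end Cfsg.Agent.Lib.Helper8.Chev
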