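import Cfsg.Agent.Lib.Helper8.ChevTd2

set_option autoImplicit false
set_option linter.unusedSimpArgs false
set_option linter.unusedSectionVars false

namespace Cfsg.Agent.Lib.Helper8.Chev

open Cfsg.Lie Matrix

/-! ### The group law of `U` for `D₄` in characteristic two -/

section

variable {F : Type*} [Field F] [CharP F 2]

/-- the ordered product over the positive roots of `D₄`, in the order
`p₁, p₃, p₄, p₂, p₁+p₂, p₂+p₃, p₂+p₄, p₁+p₂+p₃, p₂+p₃+p₄, p₁+p₂+p₄, p₁+p₂+p₃+p₄, p₁+2p₂+p₃+p₄` -/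
noncomputable def gw (a1 a3 a4 b c1 c3 c4 d1 d3 d4 e z : F) : GL chevD4.Idx F :=
  X4 F 18 a1 * (X4 F 13 a3 * (X4 F 12 a4 * (X4 F 14 b * (X4 F 19 c1 * (X4 F 16 c3 * (X4 F 15 c4 *
    (X4 F 21 d1 * (X4 F 17 d3 * (X4 F 20 d4 * (X4 F 22 e * X4 F 23 z))))))))))

set_option maxHeartbeats 4000000 in
theorem gw_mul (a1 a3 a4 b c1 c3 c4 d1 d3 d4 e z a1' a3' a4' b' c1' c3' c4' d1' d3' d4' e' z' : F) :
    gw a1 a3 a4 b c1 c3 c4 d1 d3 d4 e z * gw a1' a3' a4' b' c1' c3' c4' d1' d3' d4' e' z' =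
      gw
        (a1 + a1')
        (a3 + a3')
        (a4 + a4')
        (b + b')
        (c1 + c1' + a1' * b)
        (c3 + c3' + a3' * b)
        (c4 + c4' + a4' * b)
        (d1 + d1' + a1' * c3 + a3' * c1 + a1' * a3' * b)
        (d3 + d3' + a3' * c4 + a4' * c3 + a3' * a4' * b)
        (d4 + d4' + a1' * c4 + a4' * c1 + a1' * a4' * b)
        (e + e' + a1' * d3 + a3' * d4 + a4' * d1 + a1' * a3' * c4 + a1' * a4' * c3 + a3' * a4' * c1 + a1' * a3' * a4' * b)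
        (z + z' + b' * e + c1' * d3 + c3' * d4 + c4' * d1 + a1' * b' * d3 + a1' * c3 * c4 + a1' * c3 * c4' + a1' * c3' * c4 + a3' * b' * d4 + a3' * c1 * c4 + a3' * c1 * c4' + a3' * c1' * c4 + a4' * b' * d1 + a4' * c1 * c3 + a4' * c1 * c3' + a4' * c1' * c3 + a1' * a3' * b * c4 + a1' * a3' * b * c4' + a1' * a3' * b' * c4 + a1' * a4' * b * c3 + a1' * a4' * b * c3' + a1' * a4' * b' * c3 + a3' * a4' * b * c1 + a3' * a4' * b * c1' + a3' * a4' * b' * c1 + a1' * a3' * a4' * b * b' + a1' * a3' * a4' * b ^ 2) := by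
  unfold gw
  simp only [mul_assoc, d4tl_18_13, d4rel_18_13, d4tl_18_12, d4rel_18_12, d4tl_18_14, d4rel_18_14, d4tl_18_19, d4rel_18_19, d4tl_18_16, d4rel_18_16, d4tl_18_15, d4rel_18_15, d4tl_18_21, d4rel_18_21, d4tl_18_17, d4rel_18_17, d4tl_18_20, d4rel_18_20, d4tl_18_22, d4rel_18_22, d4tl_18_23, d4rel_18_23, d4tl_13_12, d4rel_13_12, d4tl_13_14, d4rel_13_14, d4tl_13_19, d4rel_13_19, d4tl_13_16, d4rel_13_16, d4tl_13_15, d4rel_13_15, d4tl_13_21, d4rel_13_21, d4tl_13_17, d4rel_13_17, d4tl_13_20, d4rel_13_20, d4tl_13_22, d4rel_13_22, d4tl_13_23, d4rel_13_23, d4tl_12_14, d4rel_12_14, d4tl_12_19, d4rel_12_19, d4tl_12_16, d4rel_12_16, d4tl_12_15, d4rel_12_15, d4tl_12_21, d4rel_12_21, d4tl_12_17, d4rel_12_17, d4tl_12_20, d4rel_12_20, d4tl_12_22, d4rel_12_22, d4tl_12_23, d4rel_12_23, d4tl_14_19, d4rel_14_19, d4tl_14_16, d4rel_14_16, d4tl_14_15, d4rel_14_15, d4tl_14_21,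 d4rel_14_21, d4tl_14_17, d4rel_14_17, d4tl_14_20, d4rel_14_20, d4tl_14_22, d4rel_14_22, d4tl_14_23, d4rel_14_23, d4tl_19_16, d4rel_19_16, d4tl_19_15, d4rel_19_15, d4tl_19_21, d4rel_19_21, d4tl_19_17, d4rel_19_17, d4tl_19_20, d4rel_19_20, d4tl_19_22, d4rel_19_22, d4tl_19_23, d4rel_19_23, d4tl_16_15, d4rel_16_15, d4tl_16_21, d4rel_16_21, d4tl_16_17, d4rel_16_17, d4tl_16_20, d4rel_16_20, d4tl_16_22, d4rel_16_22, d4tl_16_23, d4rel_16_23, d4tl_15_21, d4rel_15_21, d4tl_15_17, d4rel_15_17, d4tl_15_20, d4rel_15_20, d4tl_15_22, d4rel_15_22, d4tl_15_23, d4rel_15_23, d4tl_21_17, d4rel_21_17, d4tl_21_20, d4rel_21_20, d4tl_21_22, d4rel_21_22, d4tl_21_23, d4rel_21_23, d4tl_17_20, d4rel_17_20, d4tl_17_22, d4rel_17_22, d4tl_17_23, d4rel_17_23, d4tl_20_22, d4rel_20_22, d4tl_20_23, d4rel_20_23, d4tl_22_23, d4rel_22_23, d4ad_18, d4adt_18, d4ad_13, d4adt_13, d4ad_12, d4adt_12,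 d4ad_14, d4adt_14, d4ad_19, d4adt_19, d4ad_16, d4adt_16, d4ad_15, d4adt_15, d4ad_21, d4adt_21, d4ad_17, d4adt_17, d4ad_20, d4adt_20, d4ad_22, d4adt_22, d4ad_23, d4adt_23]
  ring_nf

end

end Cfsg.Agent.Lib.Helper8.Chev
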