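import Cfsg.Agent.Lib.Helper8.ChevTd3

set_option autoImplicit false
set_option linter.unusedSimpArgs false
set_option linter.unusedSectionVars false

namespace Cfsg.Agent.Lib.Helper8.Chev

open Cfsg.Lie Matrix

/-! ### Normal forms in `U` for `D₄` in characteristic two -/

section

variable {F : Type*} [Field F] [CharP F 2]

theorem gw_zero : gw (0 : F) 0 0 0 0 0 0 0 0 0 0 0 = 1 := by
  unfold gw
  simp only [X4_zero (show 18 < 24 by decide), X4_zero (show 13 < 24 by decide), X4_zero (show 12 < 24 by decide), X4_zero (show 14 < 24 by decide), X4_zero (show 19 < 24 by decide), X4_zero (show 16 < 24 by decide), X4_zero (show 15 < 24 by decide), X4_zero (show 21 < 24 by decide), X4_zero (show 17 < 24 by decide), X4_zero (show 20 < 24 by decide), X4_zero (show 22 < 24 by decide), X4_zero (show 23 < 24 by decide), mul_one]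

theorem gw_congr {a1 a3 a4 b c1 c3 c4 d1 d3 d4 e z a1' a3' a4' b' c1' c3' c4' d1' d3' d4' e' z' : F}
    (h1 : a1 = a1') (h2 : a3 = a3') (h3 : a4 = a4') (h4 : b = b') (h5 : c1 = c1') (h6 : c3 = c3')
    (h7 : c4 = c4') (h8 : d1 = d1') (h9 : d3 = d3') (h10 : d4 = d4') (h11 : e = e') (h12 : z = z') :
    gw a1 a3 a4 b c1 c3 c4 d1 d3 d4 e z = gw a1' a3' a4' b' c1' c3' c4' d1' d3' d4' e' z' := by
  rw [h1, h2, h3, h4, h5, h6, h7, h8, h9, h10, h11, h12]

theorem gw_single_18 (t : F) : X4 F 18 t = gw t 0 0 0 0 0 0 0 0 0 0 0 := by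
  unfold gw
  simp only [X4_zero (show 18 < 24 by decide), X4_zero (show 13 < 24 by decide), X4_zero (show 12 < 24 by decide), X4_zero (show 14 < 24 by decide), X4_zero (show 19 < 24 by decide), X4_zero (show 16 < 24 by decide), X4_zero (show 15 < 24 by decide), X4_zero (show 21 < 24 by decide), X4_zero (show 17 < 24 by decide), X4_zero (show 20 < 24 by decide), X4_zero (show 22 < 24 by decide), X4_zero (show 23 < 24 by decide), mul_one, one_mul]

theorem gw_single_13 (t : F) : X4 F 13 t = gw 0 t 0 0 0 0 0 0 0 0 0 0 := by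
  unfold gw
  simp only [X4_zero (show 18 < 24 by decide), X4_zero (show 13 < 24 by decide), X4_zero (show 12 < 24 by decide), X4_zero (show 14 < 24 by decide), X4_zero (show 19 < 24 by decide), X4_zero (show 16 < 24 by decide), X4_zero (show 15 < 24 by decide), X4_zero (show 21 < 24 by decide), X4_zero (show 17 < 24 by decide), X4_zero (show 20 < 24 by decide), X4_zero (show 22 < 24 by decide), X4_zero (show 23 < 24 by decide), mul_one, one_mul]

theorem gw_single_12 (t : F) : X4 F 12 t = gw 0 0 t 0 0 0 0 0 0 0 0 0 := by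
  unfold gw
  simp only [X4_zero (show 18 < 24 by decide), X4_zero (show 13 < 24 by decide), X4_zero (show 12 < 24 by decide), X4_zero (show 14 < 24 by decide), X4_zero (show 19 < 24 by decide), X4_zero (show 16 < 24 by decide), X4_zero (show 15 < 24 by decide), X4_zero (show 21 < 24 by decide), X4_zero (show 17 < 24 by decide), X4_zero (show 20 < 24 by decide), X4_zero (show 22 < 24 by decide), X4_zero (show 23 < 24 by decide), mul_one, one_mul]

theorem gw_single_14 (t : F) : X4 F 14 t = gw 0 0 0 t 0 0 0 0 0 0 0 0 := by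
  unfold gw
  simp only [X4_zero (show 18 < 24 by decide), X4_zero (show 13 < 24 by decide), X4_zero (show 12 < 24 by decide), X4_zero (show 14 < 24 by decide), X4_zero (show 19 < 24 by decide), X4_zero (show 16 < 24 by decide), X4_zero (show 15 < 24 by decide), X4_zero (show 21 < 24 by decide), X4_zero (show 17 < 24 by decide), X4_zero (show 20 < 24 by decide), X4_zero (show 22 < 24 by decide), X4_zero (show 23 < 24 by decide), mul_one, one_mul]

theorem gw_single_19 (t : F) : X4 F 19 t = gw 0 0 0 0 t 0 0 0 0 0 0 0 := by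
  unfold gw
  simp only [X4_zero (show 18 < 24 by decide), X4_zero (show 13 < 24 by decide), X4_zero (show 12 < 24 by decide), X4_zero (show 14 < 24 by decide), X4_zero (show 19 < 24 by decide), X4_zero (show 16 < 24 by decide), X4_zero (show 15 < 24 by decide), X4_zero (show 21 < 24 by decide), X4_zero (show 17 < 24 by decide), X4_zero (show 20 < 24 by decide), X4_zero (show 22 < 24 by decide), X4_zero (show 23 < 24 by decide), mul_one, one_mul]

theorem gw_single_16 (t : F) : X4 F 16 t = gw 0 0 0 0 0 t 0 0 0 0 0 0 := by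
  unfold gw
  simp only [X4_zero (show 18 < 24 by decide), X4_zero (show 13 < 24 by decide), X4_zero (show 12 < 24 by decide), X4_zero (show 14 < 24 by decide), X4_zero (show 19 < 24 by decide), X4_zero (show 16 < 24 by decide), X4_zero (show 15 < 24 by decide), X4_zero (show 21 < 24 by decide), X4_zero (show 17 < 24 by decide), X4_zero (show 20 < 24 by decide), X4_zero (show 22 < 24 by decide), X4_zero (show 23 < 24 by decide), mul_one, one_mul]

theorem gw_single_15 (t : F) : X4 F 15 t = gw 0 0 0 0 0 0 t 0 0 0 0 0 := by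
  unfold gw
  simp only [X4_zero (show 18 < 24 by decide), X4_zero (show 13 < 24 by decide), X4_zero (show 12 < 24 by decide), X4_zero (show 14 < 24 by decide), X4_zero (show 19 < 24 by decide), X4_zero (show 16 < 24 by decide), X4_zero (show 15 < 24 by decide), X4_zero (show 21 < 24 by decide), X4_zero (show 17 < 24 by decide), X4_zero (show 20 < 24 by decide), X4_zero (show 22 < 24 by decide), X4_zero (show 23 < 24 by decide), mul_one, one_mul]

theorem gw_single_21 (t : F) : X4 F 21 t = gw 0 0 0 0 0 0 0 t 0 0 0 0 := by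
  unfold gw
  simp only [X4_zero (show 18 < 24 by decide), X4_zero (show 13 < 24 by decide), X4_zero (show 12 < 24 by decide), X4_zero (show 14 < 24 by decide), X4_zero (show 19 < 24 by decide), X4_zero (show 16 < 24 by decide), X4_zero (show 15 < 24 by decide), X4_zero (show 21 < 24 by decide), X4_zero (show 17 < 24 by decide), X4_zero (show 20 < 24 by decide), X4_zero (show 22 < 24 by decide), X4_zero (show 23 < 24 by decide), mul_one, one_mul]

theorem gw_single_17 (t : F) : X4 F 17 t = gw 0 0 0 0 0 0 0 0 t 0 0 0 := by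
  unfold gw
  simp only [X4_zero (show 18 < 24 by decide), X4_zero (show 13 < 24 by decide), X4_zero (show 12 < 24 by decide), X4_zero (show 14 < 24 by decide), X4_zero (show 19 < 24 by decide), X4_zero (show 16 < 24 by decide), X4_zero (show 15 < 24 by decide), X4_zero (show 21 < 24 by decide), X4_zero (show 17 < 24 by decide), X4_zero (show 20 < 24 by decide), X4_zero (show 22 < 24 by decide), X4_zero (show 23 < 24 by decide), mul_one, one_mul]

theorem gw_single_20 (t : F) : X4 F 20 t = gw 0 0 0 0 0 0 0 0 0 t 0 0 := by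
  unfold gw
  simp only [X4_zero (show 18 < 24 by decide), X4_zero (show 13 < 24 by decide), X4_zero (show 12 < 24 by decide), X4_zero (show 14 < 24 by decide), X4_zero (show 19 < 24 by decide), X4_zero (show 16 < 24 by decide), X4_zero (show 15 < 24 by decide), X4_zero (show 21 < 24 by decide), X4_zero (show 17 < 24 by decide), X4_zero (show 20 < 24 by decide), X4_zero (show 22 < 24 by decide), X4_zero (show 23 < 24 by decide), mul_one, one_mul]

theorem gw_single_22 (t : F) : X4 F 22 t = gw 0 0 0 0 0 0 0 0 0 0 t 0 := by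
  unfold gw
  simp only [X4_zero (show 18 < 24 by decide), X4_zero (show 13 < 24 by decide), X4_zero (show 12 < 24 by decide), X4_zero (show 14 < 24 by decide), X4_zero (show 19 < 24 by decide), X4_zero (show 16 < 24 by decide), X4_zero (show 15 < 24 by decide), X4_zero (show 21 < 24 by decide), X4_zero (show 17 < 24 by decide), X4_zero (show 20 < 24 by decide), X4_zero (show 22 < 24 by decide), X4_zero (show 23 < 24 by decide), mul_one, one_mul]

theorem gw_single_23 (t : F) : X4 F 23 t = gw 0 0 0 0 0 0 0 0 0 0 0 t := by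
  unfold gw
  simp only [X4_zero (show 18 < 24 by decide), X4_zero (show 13 < 24 by decide), X4_zero (show 12 < 24 by decide), X4_zero (show 14 < 24 by decide), X4_zero (show 19 < 24 by decide), X4_zero (show 16 < 24 by decide), X4_zero (show 15 < 24 by decide), X4_zero (show 21 < 24 by decide), X4_zero (show 17 < 24 by decide), X4_zero (show 20 < 24 by decide), X4_zero (show 22 < 24 by decide), X4_zero (show 23 < 24 by decide), mul_one, one_mul]

/-- the set of ordered products is closed under multiplication -/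
theorem gw_mul_ex {g h : GL chevD4.Idx F}
    (hg : ∃ a1 a3 a4 b c1 c3 c4 d1 d3 d4 e z : F, g = gw a1 a3 a4 b c1 c3 c4 d1 d3 d4 e z)
    (hh : ∃ a1 a3 a4 b c1 c3 c4 d1 d3 d4 e z : F, h = gw a1 a3 a4 b c1 c3 c4 d1 d3 d4 e z) :
    ∃ a1 a3 a4 b c1 c3 c4 d1 d3 d4 e z : F, g * h = gw a1 a3 a4 b c1 c3 c4 d1 d3 d4 e z := by
  obtain ⟨a1, a3, a4, b, c1, c3, c4, d1, d3, d4, e, z, rfl⟩ := hg
  obtain ⟨a1', a3', a4', b', c1', c3', c4', d1', d3', d4', e', z', rfl⟩ := hh
  rw [gw_mul]
  exact ⟨_, _, _, _, _, _, _, _, _, _, _, _, rfl⟩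

theorem X4_inv2 {k : ℕ} (hk : k < 24) (t : F) : (X4 F k t)⁻¹ = X4 F k t := by
  rw [X4_inv hk, CharTwo.neg_eq]

theorem X4_ex {k : ℕ} (hk : k < 24) (hk12 : 12 ≤ k) (t : F) :
    ∃ a1 a3 a4 b c1 c3 c4 d1 d3 d4 e z : F, X4 F k t = gw a1 a3 a4 b c1 c3 c4 d1 d3 d4 e z := by
  have : k = 12 ∨ k = 13 ∨ k = 14 ∨ k = 15 ∨ k = 16 ∨ k = 17 ∨ k = 18 ∨ k = 19 ∨ k = 20 ∨ k = 21 ∨
      k = 22 ∨ k = 23 := by omega
  rcases this with rfl | rfl | rfl | rfl | rfl | rfl | rfl | rfl | rfl | rfl | rfl | rfl
  · exact ⟨_, _, _, _, _, _, _, _, _, _, _, _, gw_single_12 t⟩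
  · exact ⟨_, _, _, _, _, _, _, _, _, _, _, _, gw_single_13 t⟩
  · exact ⟨_, _, _, _, _, _, _, _, _, _, _, _, gw_single_14 t⟩
  · exact ⟨_, _, _, _, _, _, _, _, _, _, _, _, gw_single_15 t⟩
  · exact ⟨_, _, _, _, _, _, _, _, _, _, _, _, gw_single_16 t⟩
  · exact ⟨_, _, _, _, _, _, _, _, _, _, _, _, gw_single_17 t⟩
  · exact ⟨_, _, _, _, _, _, _, _, _, _, _, _, gw_single_18 t⟩
  · exact ⟨_, _, _, _, _, _, _, _, _, _, _, _, gw_single_19 t⟩
  · exact ⟨_, _, _, _, _, _, _, _, _, _, _, _, gw_single_20 t⟩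
  · exact ⟨_, _, _, _, _, _, _, _, _, _, _, _, gw_single_21 t⟩
  · exact ⟨_, _, _, _, _, _, _, _, _, _, _, _, gw_single_22 t⟩
  · exact ⟨_, _, _, _, _, _, _, _, _, _, _, _, gw_single_23 t⟩

theorem gw_of_mem_pos {g : GL chevD4.Idx F} (hg : g ∈ chevD4.posUnipotent F) :
    ∃ a1 a3 a4 b c1 c3 c4 d1 d3 d4 e z : F, g = gw a1 a3 a4 b c1 c3 c4 d1 d3 d4 e z := by
  have P := posP_of_mem hDD4
  unfold ChevalleyDatum.posUnipotent at hg
  induction hg using Subgroup.closure_induction with
  | mem x hx =>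
    obtain ⟨r, t, hr, hx⟩ := hx
    have hr24 : r < 24 := hr.1
    have hr12 : 12 ≤ r := (P r hr.1).1.mp hr
    have : x = X4 F r t := Units.ext (by rw [hx, coe_X4 hr24])
    rw [this]
    exact X4_ex hr24 hr12 t
  | one => exact ⟨0, 0, 0, 0, 0, 0, 0, 0, 0, 0, 0, 0, gw_zero.symm⟩
  | mul x y _ _ hx hy => exact gw_mul_ex hx hy
  | inv x _ hx =>
    obtain ⟨a1, a3, a4, b, c1, c3, c4, d1, d3, d4, e, z, rfl⟩ := hx
    unfold gw
    simp only [_root_.mul_inv_rev, X4_inv2 (show 18 < 24 by decide), X4_inv2 (show 13 < 24 by decide), X4_inv2 (show 12 < 24 by decide), X4_inv2 (show 14 < 24 by decide), X4_inv2 (show 19 < 24 by decide), X4_inv2 (show 16 < 24 by decide), X4_inv2 (show 15 < 24 by decide), X4_inv2 (show 21 < 24 by decide), X4_inv2 (show 17 < 24 by decide), X4_inv2 (show 20 < 24 by decide), X4_inv2 (show 22 < 24 by decide), X4_inv2 (show 23 < 24 by decide)]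
    exact gw_mul_ex (gw_mul_ex (gw_mul_ex (gw_mul_ex (gw_mul_ex (gw_mul_ex (gw_mul_ex (gw_mul_ex (gw_mul_ex (gw_mul_ex (gw_mul_ex (X4_ex (show 23 < 24 by decide) (by decide) z) (X4_ex (show 22 < 24 by decide) (by decide) e)) (X4_ex (show 20 < 24 by decide) (by decide) d4)) (X4_ex (show 17 < 24 by decide) (by decide) d3)) (X4_ex (show 21 < 24 by decide) (by decide) d1)) (X4_ex (show 15 < 24 by decide) (by decide) c4)) (X4_ex (show 16 < 24 by decide) (by decide) c3)) (X4_ex (show 19 < 24 by decide) (by decide) c1)) (X4_ex (show 14 < 24 by decide) (by decide) b)) (X4_ex (show 12 < 24 by decide) (by decide) a4)) (X4_ex (show 13 < 24 by decide) (by decide) a3)) (X4_ex (show 18 < 24 by decide) (by decide) a1)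

theorem X4_mem_pos {k : ℕ} (hk : k < 24) (hk12 : 12 ≤ k) (t : F) :
    X4 F k t ∈ chevD4.posUnipotent F := by
  have P := posP_of_mem hDD4
  exact Subgroup.subset_closure ⟨k, t, (P k hk).1.mpr hk12, coe_X4 hk t⟩

theorem gw_mem_pos (a1 a3 a4 b c1 c3 c4 d1 d3 d4 e z : F) : gw a1 a3 a4 b c1 c3 c4 d1 d3 d4 e z ∈ chevD4.posUnipotent F := by
  unfold gw
  exact mul_mem (X4_mem_pos (show 18 < 24 by decide) (by decide) _) (mul_mem (X4_mem_pos (show 13 < 24 by decide) (by decide) _) (mul_mem (X4_mem_pos (show 12 < 24 by decide) (by decide) _) (mul_mem (X4_mem_pos (show 14 < 24 by decide) (by decide) _) (mul_mem (X4_mem_pos (show 19 < 24 by decide) (by decide) _) (mul_mem (X4_mem_pos (show 16 < 24 by decide) (by decide) _) (mul_mem (X4_mem_pos (show 15 < 24 by decide) (by decide) _) (mul_mem (X4_mem_pos (show 21 < 24 by decide) (by decide) _) (mul_mem (X4_mem_pos (show 17 < 24 by decide) (by decide) _) (mul_mem (X4_mem_pos (show 20 < 24 by decide) (by decide) _) (mul_mem (X4_mem_pos (show 22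 < 24 by decide) (by decide) _) (X4_mem_pos (show 23 < 24 by decide) (by decide) _)))))))))))

end

end Cfsg.Agent.Lib.Helper8.Chev
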