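import Cfsg.Agent.Lib.Helper8.ChevTd4

set_option autoImplicit false
set_option linter.unusedSimpArgs false
set_option linter.unusedSectionVars false

namespace Cfsg.Agent.Lib.Helper8.Chev

open Cfsg.Lie Matrix

/-! ### Uniqueness of the normal form in `U` for `D₄` over a finite field -/

section

variable {F : Type*} [Field F] [CharP F 2]

/-- the ordered product, as a function of the tuple of parameters -/
noncomputable def gwF (p : Fin 12 → F) : ↥(chevD4.posUnipotent F) :=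
  ⟨gw (p 0) (p 1) (p 2) (p 3) (p 4) (p 5) (p 6) (p 7) (p 8) (p 9) (p 10) (p 11), gw_mem_pos _ _ _ _ _ _ _ _ _ _ _ _⟩

theorem gwF_surjective : Function.Surjective (gwF (F := F)) := by
  rintro ⟨g, hg⟩
  obtain ⟨a1, a3, a4, b, c1, c3, c4, d1, d3, d4, e, z, rfl⟩ := gw_of_mem_pos hg
  refine ⟨![a1, a3, a4, b, c1, c3, c4, d1, d3, d4, e, z], ?_⟩
  apply Subtype.ext
  rfl

theorem gwF_injective [Fintype F] : Function.Injective (gwF (F := F)) := by
  apply (Function.Surjective.bijective_of_nat_card_le gwF_surjective ?_).1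
  rw [card_posUnipotent hDD4, Nat.card_fun, Nat.card_eq_fintype_card, Nat.card_eq_fintype_card,
    Fintype.card_fin]
  have : chevD4.nroots / 2 = 12 := by decide
  rw [this]

theorem gw_inj [Fintype F] {a1 a3 a4 b c1 c3 c4 d1 d3 d4 e z a1' a3' a4' b' c1' c3' c4' d1' d3' d4' e' z' : F}
    (h : gw a1 a3 a4 b c1 c3 c4 d1 d3 d4 e z = gw a1' a3' a4' b' c1' c3' c4' d1' d3' d4' e' z') :
    a1 = a1' ∧ a3 = a3' ∧ a4 = a4' ∧ b = b' ∧ c1 = c1' ∧ c3 = c3' ∧ c4 = c4' ∧ d1 = d1' ∧
      d3 = d3' ∧ d4 = d4' ∧ e = e' ∧ z = z' := by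
  have h1 : gwF ![a1, a3, a4, b, c1, c3, c4, d1, d3, d4, e, z] =
      gwF ![a1', a3', a4', b', c1', c3', c4', d1', d3', d4', e', z'] := Subtype.ext h
  have h2 := gwF_injective h1
  refine ⟨congrFun h2 0, congrFun h2 1, congrFun h2 2, congrFun h2 3, congrFun h2 4, congrFun h2 5,
    congrFun h2 6, congrFun h2 7, congrFun h2 8, congrFun h2 9, congrFun h2 10, congrFun h2 11⟩

end

end Cfsg.Agent.Lib.Helper8.Chev
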