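import Cfsg.Agent.Lib.Helper8.ChevTd5

set_option autoImplicit false
set_option linter.unusedSimpArgs false
set_option linter.unusedSectionVars false

namespace Cfsg.Agent.Lib.Helper8.Chev

open Cfsg.Lie Matrix

/-! ### The unipotent subgroup of `³D₄` in characteristic two -/

section

variable {K : Type*} [Field K] [CharP K 2] (φ : K →+* K)

/-- the twisted ordered product `x_a(t₁) x_b(v₁) x_{a+b}(t₂) x_{2a+b}(t₃) x_{3a+b}(v₂) x_{3a+2b}(v₃)` -/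
noncomputable def tw (t1 v1 t2 t3 v2 v3 : K) : GL chevD4.Idx K :=
  gw t1 (φ t1) (φ (φ t1)) v1 t2 (φ t2) (φ (φ t2)) t3 (φ t3) (φ (φ t3)) v2 v3

theorem tw_congr {t1 v1 t2 t3 v2 v3 s1 w1 s2 s3 w2 w3 : K} (h1 : t1 = s1) (h2 : v1 = w1)
    (h3 : t2 = s2) (h4 : t3 = s3) (h5 : v2 = w2) (h6 : v3 = w3) :
    tw φ t1 v1 t2 t3 v2 v3 = tw φ s1 w1 s2 s3 w2 w3 := by
  rw [h1, h2, h3, h4, h5, h6]

theorem tw_zero : tw φ 0 0 0 0 0 0 = 1 := by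
  unfold tw
  simp only [map_zero]
  exact gw_zero

variable {φ}

theorem tw_mul (h3 : ∀ t, φ (φ (φ t)) = t) {v1 : K} (hv : φ v1 = v1)
    (t1 t2 t3 v2 v3 s1 w1 s2 s3 w2 w3 : K) :
    tw φ t1 v1 t2 t3 v2 v3 * tw φ s1 w1 s2 s3 w2 w3 =
      tw φ (t1 + s1) (v1 + w1) (s2 + t2 + s1 * v1)
        (s3 + t3 + s1 * φ t2 + t2 * φ s1 + s1 * v1 * φ s1)
        (v2 + w2 + s1 * φ t3 + t3 * φ (φ s1) + φ (φ t3) * φ s1 + s1 * φ (φ s1) * φ t2 + s1 * φ (φ t2) * φ s1 + t2 * φ (φ s1) * φ s1 + s1 * v1 * φ (φ s1) * φ s1)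
        (v3 + w3 + s2 * φ t3 + t3 * φ (φ s2) + v2 * w1 + φ (φ t3) * φ s2 + s1 * w1 * φ t3 + s1 * φ (φ s2) * φ t2 + s1 * φ (φ t2) * φ s2 + s1 * φ (φ t2) * φ t2 + s2 * φ (φ s1) * φ t2 + s2 * φ (φ t2) * φ s1 + t2 * φ (φ s1) * φ s2 + t2 * φ (φ s1) * φ t2 + t2 * φ (φ s2) * φ s1 + t2 * φ (φ t2) * φ s1 + t3 * w1 * φ (φ s1) + w1 * φ (φ t3) * φ s1 + s1 * v1 * φ (φ s1) * φ s2 + s1 * v1 * φ (φ s1) * φ t2 + s1 * v1 * φ (φ s2) * φ s1 + s1 * v1 * φ (φ t2) * φ s1 + s1 * w1 * φ (φ s1) * φ t2 + s1 * w1 * φ (φ t2) * φ s1 + s2 * v1 * φ (φ s1) * φ s1 + t2 * v1 * φ (φ s1) * φ s1 + t2 * w1 * φ (φ s1) * φ s1 + s1 * v1 * w1 * φ (φ s1) * φ s1 + s1 * v1 ^ 2 * φ (φ s1) * φ s1) := by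
  unfold tw
  rw [gw_mul]
  apply gw_congr <;> (try simp only [map_add, map_mul, h3, hv]) <;> ring

theorem tw_inj [Fintype K] {t1 v1 t2 t3 v2 v3 s1 w1 s2 s3 w2 w3 : K}
    (h : tw φ t1 v1 t2 t3 v2 v3 = tw φ s1 w1 s2 s3 w2 w3) :
    t1 = s1 ∧ v1 = w1 ∧ t2 = s2 ∧ t3 = s3 ∧ v2 = w2 ∧ v3 = w3 := by
  unfold tw at h
  obtain ⟨h1, _, _, h4, h5, _, _, h8, _, _, h11, h12⟩ := gw_inj h
  exact ⟨h1, h4, h5, h8, h11, h12⟩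

end

end Cfsg.Agent.Lib.Helper8.Chev
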