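import Cfsg.Agent.Lib.Helper8.ChevTd6

set_option autoImplicit false
set_option linter.unusedSimpArgs false
set_option linter.unusedSectionVars false

namespace Cfsg.Agent.Lib.Helper8.Chev

open Cfsg.Lie Matrix

/-! ### The twisted ordered products lie in `³D₄` -/

section

variable {K : Type*} [Field K] [CharP K 2] {φ : K →+* K}

theorem sg_X4 {r : ℕ} (hr : r < 24) (t : K) :
    sg gaOk_D4a φ (X4 K r t) = X4 K (gaPi_D4a r) (φ t) := by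
  have V := valid0_of_mem hDD4
  have V1 := valid1_of_mem hDD4
  have hπ : gaPi_D4a r < 24 := (gaOk_D4a.hπ r hr).1
  apply Units.ext
  rw [sg_x V V1 gaOk_D4a φ hr (coe_X4 hr t), coe_X4 hπ]
  congr 1
  rcases gaOk_D4a.hε r hr with h | h <;> rw [h] <;> simp [CharTwo.neg_eq]

theorem gaPi_D4a_vals : gaPi_D4a 18 = 13 ∧ gaPi_D4a 13 = 12 ∧ gaPi_D4a 12 = 18 ∧ gaPi_D4a 14 = 14 ∧
    gaPi_D4a 19 = 16 ∧ gaPi_D4a 16 = 15 ∧ gaPi_D4a 15 = 19 ∧ gaPi_D4a 21 = 17 ∧ gaPi_D4a 17 = 20 ∧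
    gaPi_D4a 20 = 21 ∧ gaPi_D4a 22 = 22 ∧ gaPi_D4a 23 = 23 := by decide

theorem sg_gw (a1 a3 a4 b c1 c3 c4 d1 d3 d4 e z : K) :
    sg gaOk_D4a φ (gw a1 a3 a4 b c1 c3 c4 d1 d3 d4 e z) =
      gw (φ a4) (φ a1) (φ a3) (φ b) (φ c4) (φ c1) (φ c3) (φ d4) (φ d1) (φ d3) (φ e) (φ z) := by
  unfold gw
  obtain ⟨e1, e2, e3, e4, e5, e6, e7, e8, e9, e10, e11, e12⟩ := gaPi_D4a_vals
  simp only [map_mul, sg_X4 (show 18 < 24 by decide), sg_X4 (show 13 < 24 by decide),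
    sg_X4 (show 12 < 24 by decide), sg_X4 (show 14 < 24 by decide), sg_X4 (show 19 < 24 by decide),
    sg_X4 (show 16 < 24 by decide), sg_X4 (show 15 < 24 by decide), sg_X4 (show 21 < 24 by decide),
    sg_X4 (show 17 < 24 by decide), sg_X4 (show 20 < 24 by decide), sg_X4 (show 22 < 24 by decide),
    sg_X4 (show 23 < 24 by decide), e1, e2, e3, e4, e5, e6, e7, e8, e9, e10, e11, e12]
  simp only [mul_assoc, d4tl_18_13, d4rel_18_13, d4tl_18_12, d4rel_18_12, d4tl_18_14, d4rel_18_14, d4tl_18_19, d4rel_18_19, d4tl_18_16, d4rel_18_16, d4tl_18_15, d4rel_18_15, d4tl_18_21, d4rel_18_21, d4tl_18_17, d4rel_18_17, d4tl_18_20, d4rel_18_20, d4tl_18_22, d4rel_18_22, d4tl_18_23, d4rel_18_23, d4tl_13_12, d4rel_13_12, d4tl_13_14, d4rel_13_14, d4tl_13_19, d4rel_13_19, d4tl_13_16, d4rel_13_16, d4tl_13_15, d4rel_13_15, d4tl_13_21, d4rel_13_21, d4tl_13_17,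 d4rel_13_17, d4tl_13_20, d4rel_13_20, d4tl_13_22, d4rel_13_22, d4tl_13_23, d4rel_13_23, d4tl_12_14, d4rel_12_14, d4tl_12_19, d4rel_12_19, d4tl_12_16, d4rel_12_16, d4tl_12_15, d4rel_12_15, d4tl_12_21, d4rel_12_21, d4tl_12_17, d4rel_12_17, d4tl_12_20, d4rel_12_20, d4tl_12_22, d4rel_12_22, d4tl_12_23, d4rel_12_23, d4tl_14_19, d4rel_14_19, d4tl_14_16, d4rel_14_16, d4tl_14_15, d4rel_14_15, d4tl_14_21, d4rel_14_21, d4tl_14_17, d4rel_14_17, d4tl_14_20, d4rel_14_20, d4tl_14_22, d4rel_14_22, d4tl_14_23, d4rel_14_23, d4tl_19_16, d4rel_19_16, d4tl_19_15, d4rel_19_15, d4tl_19_21, d4rel_19_21, d4tl_19_17, d4rel_19_17, d4tl_19_20, d4rel_19_20, d4tl_19_22, d4rel_19_22, d4tl_19_23, d4rel_19_23, d4tl_16_15, d4rel_16_15, d4tl_16_21, d4rel_16_21, d4tl_16_17, d4rel_16_17, d4tl_16_20, d4rel_16_20, d4tl_16_22, d4rel_16_22, d4tl_16_23, d4rel_16_23, d4tl_15_21,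 d4rel_15_21, d4tl_15_17, d4rel_15_17, d4tl_15_20, d4rel_15_20, d4tl_15_22, d4rel_15_22, d4tl_15_23, d4rel_15_23, d4tl_21_17, d4rel_21_17, d4tl_21_20, d4rel_21_20, d4tl_21_22, d4rel_21_22, d4tl_21_23, d4rel_21_23, d4tl_17_20, d4rel_17_20, d4tl_17_22, d4rel_17_22, d4tl_17_23, d4rel_17_23, d4tl_20_22, d4rel_20_22, d4tl_20_23, d4rel_20_23, d4tl_22_23, d4rel_22_23, d4ad_18, d4adt_18, d4ad_13, d4adt_13, d4ad_12, d4adt_12, d4ad_14, d4adt_14, d4ad_19, d4adt_19, d4ad_16, d4adt_16, d4ad_15, d4adt_15, d4ad_21, d4adt_21, d4ad_17, d4adt_17, d4ad_20, d4adt_20, d4ad_22, d4adt_22, d4ad_23, d4adt_23]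

theorem tw_fix (h3 : ∀ t, φ (φ (φ t)) = t) {v1 v2 v3 : K} (hv1 : φ v1 = v1) (hv2 : φ v2 = v2)
    (hv3 : φ v3 = v3) (t1 t2 t3 : K) :
    sg gaOk_D4a φ (tw φ t1 v1 t2 t3 v2 v3) = tw φ t1 v1 t2 t3 v2 v3 := by
  unfold tw
  rw [sg_gw]
  apply gw_congr <;> simp only [h3, hv1, hv2, hv3]

theorem tw_mem {G1 : Subgroup (GL chevD4.Idx K)} (X : TwGrp twOk_D4a φ clsD4 G1)
    (h3 : ∀ t, φ (φ (φ t)) = t) {v1 v2 v3 : K} (hv1 : φ v1 = v1) (hv2 : φ v2 = v2)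
    (hv3 : φ v3 = v3) (t1 t2 t3 : K) : tw φ t1 v1 t2 t3 v2 v3 ∈ G1 := by
  apply X.pos_fix_le
  refine Subgroup.mem_inf.mpr ⟨gw_mem_pos _ _ _ _ _ _ _ _ _ _ _ _, ?_⟩
  rw [mem_fixS]
  exact tw_fix h3 hv1 hv2 hv3 t1 t2 t3

/-- the elements of `U ∩ ³D₄` are the twisted ordered products -/
theorem tw_of_mem [Fintype K] {G1 : Subgroup (GL chevD4.Idx K)} (X : TwGrp twOk_D4a φ clsD4 G1)
    {g : GL chevD4.Idx K} (hg : g ∈ chevD4.posUnipotent K ⊓ G1) :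
    ∃ t1 v1 t2 t3 v2 v3 : K, φ v1 = v1 ∧ φ v2 = v2 ∧ φ v3 = v3 ∧ g = tw φ t1 v1 t2 t3 v2 v3 := by
  obtain ⟨hgU, hgG⟩ := Subgroup.mem_inf.mp hg
  obtain ⟨a1, a3, a4, b, c1, c3, c4, d1, d3, d4, e, z, rfl⟩ := gw_of_mem_pos hgU
  have hfix := (mem_fixS twOk_D4a.ga φ _).mp (X.le_fix hgG)
  rw [sg_gw] at hfix
  obtain ⟨k1, k2, k3, k4, k5, k6, k7, k8, k9, k10, k11, k12⟩ := gw_inj hfix
  refine ⟨a1, b, c1, d1, e, z, k4, k11, k12, ?_⟩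
  unfold tw
  apply gw_congr <;> first | rfl | skip
  · exact k2.symm
  · rw [k2]; exact k3.symm
  · exact k6.symm
  · rw [k6]; exact k7.symm
  · exact k9.symm
  · rw [k9]; exact k10.symm

end

end Cfsg.Agent.Lib.Helper8.Chev
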