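import Cfsg.Agent.Lib.Helper8.ChevTd7

set_option autoImplicit false
set_option linter.unusedSimpArgs false
set_option linter.unusedSectionVars false
set_option linter.unnecessarySeqFocus false

namespace Cfsg.Agent.Lib.Helper8.Chev

open Cfsg.Lie Matrix

/-! ### Conjugation of `U` (type `D₄`, characteristic two) by the `n_i` and by the torus -/

section

variable {F : Type*} [Field F] [CharP F 2]

theorem nG_X4 {i : ℕ} (hi : i < 4) {s : ℕ} (hs : s < 24) (t : F) :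
    nG chevD4 F i * X4 F s t = X4 F (chevD4.reflectRoot i s) t * nG chevD4 F i := by
  have J := validJ_of_mem hDD4
  have V1 := valid1_of_mem hDD4
  have H := validH_of_mem hDD4
  have hs' : chevD4.reflectRoot i s < 24 := ((nS_props J H.nS hi).2.2 s hs).1
  apply Units.ext
  rw [Units.val_mul, Units.val_mul, coe_nG J V1 hi, coe_X4 hs, coe_X4 hs', nMat_one_eq, x_eq_xN,
    x_eq_xN, nS_conj J V1 H.nS hi hs (R := F) t]
  congr 2
  rcases ((nS_props J H.nS hi).2.2 s hs).2.1 with h | h <;> rw [h] <;> simp [CharTwo.neg_eq]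

theorem nP_X4 {l : List ℕ} (hl : ∀ i ∈ l, i < 4) {s : ℕ} (hs : s < 24) (t : F) :
    reflWord chevD4 l s < 24 ∧
      nP chevD4 F l * X4 F s t = X4 F (reflWord chevD4 l s) t * nP chevD4 F l := by
  have J := validJ_of_mem hDD4
  have H := validH_of_mem hDD4
  induction l with
  | nil =>
    refine ⟨hs, ?_⟩
    rw [nP_nil, one_mul, mul_one]
    rfl
  | cons i l ih =>
    obtain ⟨h1, h2⟩ := ih (fun j hj => hl j (List.mem_cons_of_mem _ hj))
    have hi : i < 4 := hl i List.mem_cons_self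
    refine ⟨((nS_props J H.nS hi).2.2 _ h1).1, ?_⟩
    rw [nP_cons, mul_assoc, h2, ← mul_assoc, nG_X4 hi h1, reflWord_cons, mul_assoc]

theorem nP_X4' {l : List ℕ} (hl : ∀ i ∈ l, i < 4) {s : ℕ} (hs : s < 24) (t : F) :
    nP chevD4 F l * X4 F s t = X4 F (reflWord chevD4 l s) t * nP chevD4 F l :=
  (nP_X4 hl hs t).2

theorem nP_X4_tl {l : List ℕ} (hl : ∀ i ∈ l, i < 4) {s : ℕ} (hs : s < 24) (t : F)
    (g : GL chevD4.Idx F) :
    nP chevD4 F l * (X4 F s t * g) = X4 F (reflWord chevD4 l s) t * (nP chevD4 F l * g) := by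
  rw [← mul_assoc, nP_X4' hl hs, mul_assoc]

theorem d4_reflb : reflWord chevD4 [1] 18 = 19 ∧ reflWord chevD4 [1] 13 = 16 ∧
    reflWord chevD4 [1] 12 = 15 ∧ reflWord chevD4 [1] 19 = 18 ∧ reflWord chevD4 [1] 16 = 13 ∧
    reflWord chevD4 [1] 15 = 12 ∧ reflWord chevD4 [1] 21 = 21 ∧ reflWord chevD4 [1] 17 = 17 ∧
    reflWord chevD4 [1] 20 = 20 ∧ reflWord chevD4 [1] 22 = 23 ∧ reflWord chevD4 [1] 23 = 22 := by
  decide +kernel

theorem d4_refla : reflWord chevD4 [0, 2, 3] 14 = 22 ∧ reflWord chevD4 [0, 2, 3] 19 = 17 ∧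
    reflWord chevD4 [0, 2, 3] 16 = 20 ∧ reflWord chevD4 [0, 2, 3] 15 = 21 ∧
    reflWord chevD4 [0, 2, 3] 21 = 15 ∧ reflWord chevD4 [0, 2, 3] 17 = 19 ∧
    reflWord chevD4 [0, 2, 3] 20 = 16 ∧ reflWord chevD4 [0, 2, 3] 22 = 14 ∧
    reflWord chevD4 [0, 2, 3] 23 = 23 := by
  decide +kernel

theorem l1_lt : ∀ i ∈ [1], i < 4 := by decide
theorem l023_lt : ∀ i ∈ [0, 2, 3], i < 4 := by decide

theorem mvnb_aux (n : GL chevD4.Idx F)
    (h18 : ∀ t, n * X4 F 18 t = X4 F 19 t * n) (h13 : ∀ t, n * X4 F 13 t = X4 F 16 t * n)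
    (h12 : ∀ t, n * X4 F 12 t = X4 F 15 t * n) (h19 : ∀ t, n * X4 F 19 t = X4 F 18 t * n)
    (h16 : ∀ t, n * X4 F 16 t = X4 F 13 t * n) (h15 : ∀ t, n * X4 F 15 t = X4 F 12 t * n)
    (h21 : ∀ t, n * X4 F 21 t = X4 F 21 t * n) (h17 : ∀ t, n * X4 F 17 t = X4 F 17 t * n)
    (h20 : ∀ t, n * X4 F 20 t = X4 F 20 t * n) (h22 : ∀ t, n * X4 F 22 t = X4 F 23 t * n)
    (h23 : ∀ t, n * X4 F 23 t = X4 F 22 t * n)
    (a1 a3 a4 c1 c3 c4 d1 d3 d4 e z : F) :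
    n * gw a1 a3 a4 0 c1 c3 c4 d1 d3 d4 e z * n⁻¹ =
      gw c1 c3 c4 0 a1 a3 a4 (d1 + a3 * c1 + c3 * a1) (d3 + a4 * c3 + a3 * c4)
        (d4 + a4 * c1 + c4 * a1) (z + a4 * c3 * c1 + a3 * c4 * c1 + c4 * c3 * a1)
        (e + a4 * a3 * c1 + a4 * c3 * a1 + a3 * c4 * a1) := by
  rw [mul_inv_eq_iff_eq_mul]
  have t18 : ∀ t g, n * (X4 F 18 t * g) = X4 F 19 t * (n * g) := fun t g => by
    rw [← mul_assoc, h18, mul_assoc]
  have t13 : ∀ t g, n * (X4 F 13 t * g) = X4 F 16 t * (n * g) := fun t g => by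
    rw [← mul_assoc, h13, mul_assoc]
  have t12 : ∀ t g, n * (X4 F 12 t * g) = X4 F 15 t * (n * g) := fun t g => by
    rw [← mul_assoc, h12, mul_assoc]
  have t19 : ∀ t g, n * (X4 F 19 t * g) = X4 F 18 t * (n * g) := fun t g => by
    rw [← mul_assoc, h19, mul_assoc]
  have t16 : ∀ t g, n * (X4 F 16 t * g) = X4 F 13 t * (n * g) := fun t g => by
    rw [← mul_assoc, h16, mul_assoc]
  have t15 : ∀ t g, n * (X4 F 15 t * g) = X4 F 12 t * (n * g) := fun t g => by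
    rw [← mul_assoc, h15, mul_assoc]
  have t21 : ∀ t g, n * (X4 F 21 t * g) = X4 F 21 t * (n * g) := fun t g => by
    rw [← mul_assoc, h21, mul_assoc]
  have t17 : ∀ t g, n * (X4 F 17 t * g) = X4 F 17 t * (n * g) := fun t g => by
    rw [← mul_assoc, h17, mul_assoc]
  have t20 : ∀ t g, n * (X4 F 20 t * g) = X4 F 20 t * (n * g) := fun t g => by
    rw [← mul_assoc, h20, mul_assoc]
  have t22 : ∀ t g, n * (X4 F 22 t * g) = X4 F 23 t * (n * g) := fun t g => by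
    rw [← mul_assoc, h22, mul_assoc]
  unfold gw
  rw [X4_zero (show 14 < 24 by decide), one_mul, t18, t13, t12, t19, t16, t15, t21, t17, t20, t22,
    h23]
  simp only [← mul_assoc]
  rw [mul_left_inj]
  simp only [mul_assoc, d4tl_18_13, d4rel_18_13, d4tl_18_12, d4rel_18_12, d4tl_18_14, d4rel_18_14, d4tl_18_19, d4rel_18_19, d4tl_18_16, d4rel_18_16, d4tl_18_15, d4rel_18_15, d4tl_18_21, d4rel_18_21, d4tl_18_17, d4rel_18_17, d4tl_18_20, d4rel_18_20, d4tl_18_22, d4rel_18_22, d4tl_18_23, d4rel_18_23, d4tl_13_12, d4rel_13_12, d4tl_13_14, d4rel_13_14, d4tl_13_19, d4rel_13_19, d4tl_13_16, d4rel_13_16, d4tl_13_15, d4rel_13_15, d4tl_13_21, d4rel_13_21, d4tl_13_17, d4rel_13_17, d4tl_13_20, d4rel_13_20, d4tl_13_22, d4rel_13_22, d4tl_13_23, d4rel_13_23, d4tl_12_14, d4rel_12_14, d4tl_12_19, d4rel_12_19, d4tl_12_16, d4rel_12_16, d4tl_12_15, d4rel_12_15, d4tl_12_21, d4rel_12_21, d4tl_12_17, d4rel_12_17,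 d4tl_12_20, d4rel_12_20, d4tl_12_22, d4rel_12_22, d4tl_12_23, d4rel_12_23, d4tl_14_19, d4rel_14_19, d4tl_14_16, d4rel_14_16, d4tl_14_15, d4rel_14_15, d4tl_14_21, d4rel_14_21, d4tl_14_17, d4rel_14_17, d4tl_14_20, d4rel_14_20, d4tl_14_22, d4rel_14_22, d4tl_14_23, d4rel_14_23, d4tl_19_16, d4rel_19_16, d4tl_19_15, d4rel_19_15, d4tl_19_21, d4rel_19_21, d4tl_19_17, d4rel_19_17, d4tl_19_20, d4rel_19_20, d4tl_19_22, d4rel_19_22, d4tl_19_23, d4rel_19_23, d4tl_16_15, d4rel_16_15, d4tl_16_21, d4rel_16_21, d4tl_16_17, d4rel_16_17, d4tl_16_20, d4rel_16_20, d4tl_16_22, d4rel_16_22, d4tl_16_23, d4rel_16_23, d4tl_15_21, d4rel_15_21, d4tl_15_17, d4rel_15_17, d4tl_15_20, d4rel_15_20, d4tl_15_22, d4rel_15_22, d4tl_15_23, d4rel_15_23, d4tl_21_17, d4rel_21_17, d4tl_21_20, d4rel_21_20, d4tl_21_22, d4rel_21_22, d4tl_21_23, d4rel_21_23, d4tl_17_20, d4rel_17_20, d4tl_17_22, d4rel_17_22, d4tl_17_23, d4rel_17_23,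 d4tl_20_22, d4rel_20_22, d4tl_20_23, d4rel_20_23, d4tl_22_23, d4rel_22_23, d4ad_18, d4adt_18, d4ad_13, d4adt_13, d4ad_12, d4adt_12, d4ad_14, d4adt_14, d4ad_19, d4adt_19, d4ad_16, d4adt_16, d4ad_15, d4adt_15, d4ad_21, d4adt_21, d4ad_17, d4adt_17, d4ad_20, d4adt_20, d4ad_22, d4adt_22, d4ad_23, d4adt_23]
  simp only [X4_zero (show 14 < 24 by decide), one_mul]
  ring_nf

/-- conjugation by `n_b` -/
theorem mvnb (a1 a3 a4 c1 c3 c4 d1 d3 d4 e z : F) :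
    nP chevD4 F [1] * gw a1 a3 a4 0 c1 c3 c4 d1 d3 d4 e z * (nP chevD4 F [1])⁻¹ =
      gw c1 c3 c4 0 a1 a3 a4 (d1 + a3 * c1 + c3 * a1) (d3 + a4 * c3 + a3 * c4)
        (d4 + a4 * c1 + c4 * a1) (z + a4 * c3 * c1 + a3 * c4 * c1 + c4 * c3 * a1)
        (e + a4 * a3 * c1 + a4 * c3 * a1 + a3 * c4 * a1) := by
  obtain ⟨e1, e2, e3, e4, e5, e6, e7, e8, e9, e10, e11⟩ := d4_reflb
  apply mvnb_aux
  · intro t; have := nP_X4' (F := F) l1_lt (show 18 < 24 by decide) t; rwa [e1] at this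
  · intro t; have := nP_X4' (F := F) l1_lt (show 13 < 24 by decide) t; rwa [e2] at this
  · intro t; have := nP_X4' (F := F) l1_lt (show 12 < 24 by decide) t; rwa [e3] at this
  · intro t; have := nP_X4' (F := F) l1_lt (show 19 < 24 by decide) t; rwa [e4] at this
  · intro t; have := nP_X4' (F := F) l1_lt (show 16 < 24 by decide) t; rwa [e5] at this
  · intro t; have := nP_X4' (F := F) l1_lt (show 15 < 24 by decide) t; rwa [e6] at this
  · intro t; have := nP_X4' (F := F) l1_lt (show 21 < 24 by decide) t; rwa [e7] at this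
  · intro t; have := nP_X4' (F := F) l1_lt (show 17 < 24 by decide) t; rwa [e8] at this
  · intro t; have := nP_X4' (F := F) l1_lt (show 20 < 24 by decide) t; rwa [e9] at this
  · intro t; have := nP_X4' (F := F) l1_lt (show 22 < 24 by decide) t; rwa [e10] at this
  · intro t; have := nP_X4' (F := F) l1_lt (show 23 < 24 by decide) t; rwa [e11] at this

theorem mvna_aux (n : GL chevD4.Idx F)
    (h14 : ∀ t, n * X4 F 14 t = X4 F 22 t * n) (h19 : ∀ t, n * X4 F 19 t = X4 F 17 t * n)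
    (h16 : ∀ t, n * X4 F 16 t = X4 F 20 t * n) (h15 : ∀ t, n * X4 F 15 t = X4 F 21 t * n)
    (h21 : ∀ t, n * X4 F 21 t = X4 F 15 t * n) (h17 : ∀ t, n * X4 F 17 t = X4 F 19 t * n)
    (h20 : ∀ t, n * X4 F 20 t = X4 F 16 t * n) (h22 : ∀ t, n * X4 F 22 t = X4 F 14 t * n)
    (h23 : ∀ t, n * X4 F 23 t = X4 F 23 t * n)
    (b c1 c3 c4 d1 d3 d4 e z : F) :
    n * gw 0 0 0 b c1 c3 c4 d1 d3 d4 e z * n⁻¹ =
      gw 0 0 0 e d3 d4 d1 c4 c1 c3 b (z + b * e + c4 * d1 + c3 * d4 + d3 * c1) := by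
  rw [mul_inv_eq_iff_eq_mul]
  have t14 : ∀ t g, n * (X4 F 14 t * g) = X4 F 22 t * (n * g) := fun t g => by
    rw [← mul_assoc, h14, mul_assoc]
  have t19 : ∀ t g, n * (X4 F 19 t * g) = X4 F 17 t * (n * g) := fun t g => by
    rw [← mul_assoc, h19, mul_assoc]
  have t16 : ∀ t g, n * (X4 F 16 t * g) = X4 F 20 t * (n * g) := fun t g => by
    rw [← mul_assoc, h16, mul_assoc]
  have t15 : ∀ t g, n * (X4 F 15 t * g) = X4 F 21 t * (n * g) := fun t g => by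
    rw [← mul_assoc, h15, mul_assoc]
  have t21 : ∀ t g, n * (X4 F 21 t * g) = X4 F 15 t * (n * g) := fun t g => by
    rw [← mul_assoc, h21, mul_assoc]
  have t17 : ∀ t g, n * (X4 F 17 t * g) = X4 F 19 t * (n * g) := fun t g => by
    rw [← mul_assoc, h17, mul_assoc]
  have t20 : ∀ t g, n * (X4 F 20 t * g) = X4 F 16 t * (n * g) := fun t g => by
    rw [← mul_assoc, h20, mul_assoc]
  have t22 : ∀ t g, n * (X4 F 22 t * g) = X4 F 14 t * (n * g) := fun t g => by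
    rw [← mul_assoc, h22, mul_assoc]
  unfold gw
  rw [X4_zero (show 18 < 24 by decide), X4_zero (show 13 < 24 by decide),
    X4_zero (show 12 < 24 by decide), one_mul, one_mul, one_mul,
    t14, t19, t16, t15, t21, t17, t20, t22, h23]
  simp only [← mul_assoc]
  rw [mul_left_inj]
  simp only [mul_assoc, d4tl_18_13, d4rel_18_13, d4tl_18_12, d4rel_18_12, d4tl_18_14, d4rel_18_14, d4tl_18_19, d4rel_18_19, d4tl_18_16, d4rel_18_16, d4tl_18_15, d4rel_18_15, d4tl_18_21, d4rel_18_21, d4tl_18_17, d4rel_18_17, d4tl_18_20, d4rel_18_20, d4tl_18_22, d4rel_18_22, d4tl_18_23, d4rel_18_23, d4tl_13_12, d4rel_13_12, d4tl_13_14, d4rel_13_14, d4tl_13_19, d4rel_13_19, d4tl_13_16, d4rel_13_16, d4tl_13_15, d4rel_13_15, d4tl_13_21, d4rel_13_21, d4tl_13_17, d4rel_13_17, d4tl_13_20, d4rel_13_20, d4tl_13_22, d4rel_13_22, d4tl_13_23, d4rel_13_23, d4tl_12_14, d4rel_12_14, d4tl_12_19, d4rel_12_19, d4tl_12_16, d4rel_12_16,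 d4tl_12_15, d4rel_12_15, d4tl_12_21, d4rel_12_21, d4tl_12_17, d4rel_12_17, d4tl_12_20, d4rel_12_20, d4tl_12_22, d4rel_12_22, d4tl_12_23, d4rel_12_23, d4tl_14_19, d4rel_14_19, d4tl_14_16, d4rel_14_16, d4tl_14_15, d4rel_14_15, d4tl_14_21, d4rel_14_21, d4tl_14_17, d4rel_14_17, d4tl_14_20, d4rel_14_20, d4tl_14_22, d4rel_14_22, d4tl_14_23, d4rel_14_23, d4tl_19_16, d4rel_19_16, d4tl_19_15, d4rel_19_15, d4tl_19_21, d4rel_19_21, d4tl_19_17, d4rel_19_17, d4tl_19_20, d4rel_19_20, d4tl_19_22, d4rel_19_22, d4tl_19_23, d4rel_19_23, d4tl_16_15, d4rel_16_15, d4tl_16_21, d4rel_16_21, d4tl_16_17, d4rel_16_17, d4tl_16_20, d4rel_16_20, d4tl_16_22, d4rel_16_22, d4tl_16_23, d4rel_16_23, d4tl_15_21, d4rel_15_21, d4tl_15_17, d4rel_15_17, d4tl_15_20, d4rel_15_20, d4tl_15_22, d4rel_15_22, d4tl_15_23, d4rel_15_23, d4tl_21_17, d4rel_21_17, d4tl_21_20, d4rel_21_20, d4tl_21_22, d4rel_21_22, d4tl_21_23, d4rel_21_23,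 d4tl_17_20, d4rel_17_20, d4tl_17_22, d4rel_17_22, d4tl_17_23, d4rel_17_23, d4tl_20_22, d4rel_20_22, d4tl_20_23, d4rel_20_23, d4tl_22_23, d4rel_22_23, d4ad_18, d4adt_18, d4ad_13, d4adt_13, d4ad_12, d4adt_12, d4ad_14, d4adt_14, d4ad_19, d4adt_19, d4ad_16, d4adt_16, d4ad_15, d4adt_15, d4ad_21, d4adt_21, d4ad_17, d4adt_17, d4ad_20, d4adt_20, d4ad_22, d4adt_22, d4ad_23, d4adt_23]
  simp only [X4_zero (show 18 < 24 by decide), X4_zero (show 13 < 24 by decide),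
    X4_zero (show 12 < 24 by decide), one_mul]
  ring_nf

/-- conjugation by `n_a` -/
theorem mvna (b c1 c3 c4 d1 d3 d4 e z : F) :
    nP chevD4 F [0, 2, 3] * gw 0 0 0 b c1 c3 c4 d1 d3 d4 e z * (nP chevD4 F [0, 2, 3])⁻¹ =
      gw 0 0 0 e d3 d4 d1 c4 c1 c3 b (z + b * e + c4 * d1 + c3 * d4 + d3 * c1) := by
  obtain ⟨e1, e2, e3, e4, e5, e6, e7, e8, e9⟩ := d4_refla
  apply mvna_aux
  · intro t; have := nP_X4' (F := F) l023_lt (show 14 < 24 by decide) t; rwa [e1] at this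
  · intro t; have := nP_X4' (F := F) l023_lt (show 19 < 24 by decide) t; rwa [e2] at this
  · intro t; have := nP_X4' (F := F) l023_lt (show 16 < 24 by decide) t; rwa [e3] at this
  · intro t; have := nP_X4' (F := F) l023_lt (show 15 < 24 by decide) t; rwa [e4] at this
  · intro t; have := nP_X4' (F := F) l023_lt (show 21 < 24 by decide) t; rwa [e5] at this
  · intro t; have := nP_X4' (F := F) l023_lt (show 17 < 24 by decide) t; rwa [e6] at this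
  · intro t; have := nP_X4' (F := F) l023_lt (show 20 < 24 by decide) t; rwa [e7] at this
  · intro t; have := nP_X4' (F := F) l023_lt (show 22 < 24 by decide) t; rwa [e8] at this
  · intro t; have := nP_X4' (F := F) l023_lt (show 23 < 24 by decide) t; rwa [e9] at this

end

end Cfsg.Agent.Lib.Helper8.Chev
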