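import Cfsg.Agent.Lib.Helper8.ChevTd8

set_option autoImplicit false
set_option linter.unusedSimpArgs false
set_option linter.unusedSectionVars false
set_option linter.unusedVariables false
set_option linter.unusedTactic false

namespace Cfsg.Agent.Lib.Helper8.Chev

open Cfsg.Lie Matrix

/-! ### Conjugation in the unipotent subgroup of `³D₄`, characteristic two (generated) -/

section

variable {K : Type*} [Field K] [CharP K 2] {φ : K →+* K}

/-- conjugation by `x_b(w)` -/
theorem mvB (h3 : ∀ t, φ (φ (φ t)) = t) {w t1 t2 t3 v2 v3 : K} (hw : φ w = w) :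
    tw φ 0 w 0 0 0 0 * tw φ t1 0 t2 t3 v2 v3 * tw φ 0 w 0 0 0 0 =
      tw φ
        (t1)
        (0)
        (t2 + t1 * w)
        (t3 + t1 * φ t1 * w)
        (v2 + t1 * φ t1 * φ (φ t1) * w)
        (v3 + v2 * w + t1 * φ t1 * φ (φ t2) * w + t1 * φ (φ t1) * φ t2 * w + φ t1 * φ (φ t1) * t2 * w) := by
  rw [tw_mul h3 hw, tw_mul h3 (show φ (w + 0) = w + 0 by
    simp only [map_add, map_zero, hw])]
  apply tw_congr
  · (try simp only [map_add, map_mul, map_zero, h3, hw])
    linear_combination (0) * (d4c2_two (F := K))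
  · (try simp only [map_add, map_mul, map_zero, h3, hw])
    linear_combination (w) * (d4c2_two (F := K))
  · (try simp only [map_add, map_mul, map_zero, h3, hw])
    linear_combination (0) * (d4c2_two (F := K))
  · (try simp only [map_add, map_mul, map_zero, h3, hw])
    linear_combination (0) * (d4c2_two (F := K))
  · (try simp only [map_add, map_mul, map_zero, h3, hw])
    linear_combination (0) * (d4c2_two (F := K))
  · (try simp only [map_add, map_mul, map_zero, h3, hw])
    linear_combination (t1 * φ t1 * φ (φ t1) * w ^ 2) * (d4c2_two (F := K))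

/-- conjugation by `x_{a+b}(s)` -/
theorem mvC (h3 : ∀ t, φ (φ (φ t)) = t) {s t1 t3 v2 v3 : K}  :
    tw φ 0 0 s 0 0 0 * tw φ t1 0 0 t3 v2 v3 * tw φ 0 0 s 0 0 0 =
      tw φ
        (t1)
        (0)
        (0)
        (t3 + s * φ t1 + φ s * t1)
        (v2 + s * φ t1 * φ (φ t1) + φ s * t1 * φ (φ t1) + φ (φ s) * t1 * φ t1)
        (v3 + s * φ t3 + φ s * φ (φ t3) + φ (φ s) * t3 + s * φ s * φ (φ t1) + s * φ (φ s) * φ t1 + φ s * φ (φ s) * t1) := by
  rw [tw_mul h3 (map_zero φ), tw_mul h3 (show φ (0 + 0) = 0 + 0 by
    simp only [map_add, map_zero])]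
  apply tw_congr
  · (try simp only [map_add, map_mul, map_zero, h3])
    linear_combination (0) * (d4c2_two (F := K))
  · (try simp only [map_add, map_mul, map_zero, h3])
    linear_combination (0) * (d4c2_two (F := K))
  · (try simp only [map_add, map_mul, map_zero, h3])
    linear_combination (s) * (d4c2_two (F := K))
  · (try simp only [map_add, map_mul, map_zero, h3])
    linear_combination (0) * (d4c2_two (F := K))
  · (try simp only [map_add, map_mul, map_zero, h3])
    linear_combination (0) * (d4c2_two (F := K))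
  · (try simp only [map_add, map_mul, map_zero, h3])
    linear_combination (s * φ s * φ (φ t1) + s * φ (φ s) * φ t1 + φ s * φ (φ s) * t1) * (d4c2_two (F := K))

/-- conjugation by `x_{2a+b}(r)` -/
theorem mvD (h3 : ∀ t, φ (φ (φ t)) = t) {r t1 v2 v3 : K}  :
    tw φ 0 0 0 r 0 0 * tw φ t1 0 0 0 v2 v3 * tw φ 0 0 0 r 0 0 =
      tw φ
        (t1)
        (0)
        (0)
        (0)
        (v2 + r * φ (φ t1) + φ r * t1 + φ (φ r) * φ t1)
        (v3) := by
  rw [tw_mul h3 (map_zero φ), tw_mul h3 (show φ (0 + 0) = 0 + 0 by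
    simp only [map_add, map_zero])]
  apply tw_congr
  · (try simp only [map_add, map_mul, map_zero, h3])
    linear_combination (0) * (d4c2_two (F := K))
  · (try simp only [map_add, map_mul, map_zero, h3])
    linear_combination (0) * (d4c2_two (F := K))
  · (try simp only [map_add, map_mul, map_zero, h3])
    linear_combination (0) * (d4c2_two (F := K))
  · (try simp only [map_add, map_mul, map_zero, h3])
    linear_combination (r) * (d4c2_two (F := K))
  · (try simp only [map_add, map_mul, map_zero, h3])
    linear_combination (0) * (d4c2_two (F := K))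
  · (try simp only [map_add, map_mul, map_zero, h3])
    linear_combination (0) * (d4c2_two (F := K))

/-- conjugation by `x_a(x)` -/
theorem mvA (h3 : ∀ t, φ (φ (φ t)) = t) {x v1 t2 t3 v2 v3 : K} (hv1 : φ v1 = v1) :
    tw φ x 0 0 0 0 0 * tw φ 0 v1 t2 t3 v2 v3 * tw φ x 0 0 0 0 0 =
      tw φ
        (0)
        (v1)
        (t2 + v1 * x)
        (t3 + t2 * φ x + φ t2 * x + v1 * x * φ x)
        (v2 + t3 * φ (φ x) + φ t3 * x + φ (φ t3) * φ x + t2 * φ x * φ (φ x) + φ t2 * x * φ (φ x) + φ (φ t2) * x * φ x + v1 * x * φ x * φ (φ x))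
        (v3 + t2 * φ t2 * φ (φ x) + t2 * φ (φ t2) * φ x + φ t2 * φ (φ t2) * x + t2 * v1 * φ x * φ (φ x) + φ t2 * v1 * x * φ (φ x) + φ (φ t2) * v1 * x * φ x + v1 ^ 2 * x * φ x * φ (φ x)) := by
  rw [tw_mul h3 (map_zero φ), tw_mul h3 (show φ (0 + v1) = 0 + v1 by
    simp only [map_add, map_zero, hv1])]
  apply tw_congr
  · (try simp only [map_add, map_mul, map_zero, h3, hv1])
    linear_combination (x) * (d4c2_two (F := K))
  · (try simp only [map_add, map_mul, map_zero, h3, hv1])
    linear_combination (0) * (d4c2_two (F := K))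
  · (try simp only [map_add, map_mul, map_zero, h3, hv1])
    linear_combination (0) * (d4c2_two (F := K))
  · (try simp only [map_add, map_mul, map_zero, h3, hv1])
    linear_combination (0) * (d4c2_two (F := K))
  · (try simp only [map_add, map_mul, map_zero, h3, hv1])
    linear_combination (0) * (d4c2_two (F := K))
  · (try simp only [map_add, map_mul, map_zero, h3, hv1])
    linear_combination (0) * (d4c2_two (F := K))

/-- conjugation by `x_{3a+b}(c)` -/
theorem mvE (h3 : ∀ t, φ (φ (φ t)) = t) {c v1 t3 v2 v3 : K} (hv1 : φ v1 = v1) :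
    tw φ 0 0 0 0 c 0 * tw φ 0 v1 0 t3 v2 v3 * tw φ 0 0 0 0 c 0 =
      tw φ
        (0)
        (v1)
        (0)
        (t3)
        (v2)
        (v3 + c * v1) := by
  rw [tw_mul h3 (map_zero φ), tw_mul h3 (show φ (0 + v1) = 0 + v1 by
    simp only [map_add, map_zero, hv1])]
  apply tw_congr
  · (try simp only [map_add, map_mul, map_zero, h3, hv1])
    linear_combination (0) * (d4c2_two (F := K))
  · (try simp only [map_add, map_mul, map_zero, h3, hv1])
    linear_combination (0) * (d4c2_two (F := K))
  · (try simp only [map_add, map_mul, map_zero, h3, hv1])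
    linear_combination (0) * (d4c2_two (F := K))
  · (try simp only [map_add, map_mul, map_zero, h3, hv1])
    linear_combination (0) * (d4c2_two (F := K))
  · (try simp only [map_add, map_mul, map_zero, h3, hv1])
    linear_combination (c) * (d4c2_two (F := K))
  · (try simp only [map_add, map_mul, map_zero, h3, hv1])
    linear_combination (0) * (d4c2_two (F := K))


end

end Cfsg.Agent.Lib.Helper8.Chev
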