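import Cfsg.Agent.Lib.Helper8.ChevTd0

set_option autoImplicit false

/-! The parametrization of the class subgroups of `²F₄(q)`. -/

namespace Cfsg.Agent.Lib.Helper8.Chev

open Cfsg.Lie Matrix

namespace RF

variable {K : Type*} [Field K] [Fintype K] [CharP K 2] {m : ℕ}
  {σ : GL chevF4.Idx K → GL chevF4.Idx K}

omit [Fintype K] in
theorem XA_add (m : ℕ) (s t : K) : XA m (s + t) = XA m s * XA m t := by
  have : Fact (Nat.Prime 2) := ⟨Nat.prime_two⟩
  unfold XA
  have e1 : (s + t) ^ 2 ^ m = s ^ 2 ^ m + t ^ 2 ^ m := add_pow_char_pow s t 2 m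
  have hc : Commute (XD chevF4 K 33 (t ^ 2 ^ m)) (XD chevF4 K 24 s) := by
    apply Units.ext
    rw [Units.val_mul, Units.val_mul, coe_XD hDF4 (by decide), coe_XD hDF4 (by decide), xA_comm]
  rw [e1, ← XD_add hDF4 (by decide), ← XD_add hDF4 (by decide)]
  exact (hc.mul_mul_mul_comm _ _).symm ▸ rfl

omit [Fintype K] in
theorem coe_XA' (m : ℕ) (t : K) :
    ((XA m t : GL chevF4.Idx K) : Matrix chevF4.Idx chevF4.Idx K) =
      chevF4.x K 24 t * chevF4.x K 33 (t ^ 2 ^ m) := by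
  rw [coe_XA, pairWord_mat, xA_comm]

omit [Fintype K] in
theorem XA_inj (m : ℕ) : Function.Injective (XA (K := K) m) := by
  intro s t h
  have h1 := congrArg (fun g : GL chevF4.Idx K => (g : Matrix chevF4.Idx chevF4.Idx K)) h
  simp only [coe_XA'] at h1
  exact (N2A_inj h1).1

omit [Fintype K] in
theorem XA_mem_unegW (m : ℕ) (t : K) : XA m t ∈ UnegW chevF4 K [0, 3] := by
  obtain ⟨g, hg, e⟩ := word_mem_unegW (K := K) [0, 3] (f4PairWord (2 ^ m) 33 24 t) (by
    intro p hp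
    unfold f4PairWord at hp
    simp only [List.mem_cons, List.not_mem_nil, or_false] at hp
    rcases hp with rfl | rfl
    · exact ⟨by norm_num, by norm_num, reflA_gen.2⟩
    · exact ⟨by norm_num, by norm_num, reflA_gen.1⟩)
  have : g = XA m t := Units.ext (e.trans (coe_XA m t).symm)
  rw [← this]
  exact hg

theorem XA_surj (hK : Fintype.card K = 2 ^ (2 * m + 1)) {g : GL chevF4.Idx K}
    (hg : g ∈ UnegW chevF4 K [0, 3] ⊓ twistedF4 K (2 ^ m)) : ∃ t, g = XA m t := by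
  obtain ⟨σ, X⟩ := exists_xEnd_F4 hK m
  obtain ⟨hg1, hg2⟩ := Subgroup.mem_inf.mp hg
  obtain ⟨t, e⟩ := clsA_fix_form X hg1 (twistedF4_le_fix hK X hg2).2
  exact ⟨t, Units.ext (e.trans (coe_XA m t).symm)⟩

omit [Fintype K] in
theorem XR_inj (m : ℕ) {t u t' u' : K} (h : XR m t u = XR m t' u') : t = t' ∧ u = u' := by
  have hB := b2Rel_pos (K := K)
  have h1 := congrArg (fun g : GL chevF4.Idx K => (g : Matrix chevF4.Idx chevF4.Idx K)) h
  simp only [coe_XR] at h1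
  rw [clsWordB_mat, clsWordB_mat, hB.word_eq_N4, hB.word_eq_N4] at h1
  obtain ⟨e1, -, e3, -⟩ := N4B_inj h1
  subst e1
  have e5 : t * t ^ 2 ^ m + (t ^ (2 ^ m + 1) + u) = u := by
    rw [pow_succ, mul_comm t, ← add_assoc, add_self', zero_add]
  have e6 : t * t ^ 2 ^ m + (t ^ (2 ^ m + 1) + u') = u' := by
    rw [pow_succ, mul_comm t, ← add_assoc, add_self', zero_add]
  rw [e5, e6] at e3
  exact ⟨rfl, e3⟩

omit [Fintype K] in
theorem XR_mem_unegW (m : ℕ) (t u : K) : XR m t u ∈ UnegW chevF4 K [1, 2, 1, 2] := by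
  obtain ⟨g, hg, e⟩ := word_mem_unegW (K := K) [1, 2, 1, 2]
    (b2ClassWord (2 ^ m) 27 25 28 30 t u) (by
    intro p hp
    unfold b2ClassWord at hp
    simp only [List.mem_cons, List.not_mem_nil, or_false] at hp
    rcases hp with rfl | rfl | rfl | rfl
    · exact ⟨by norm_num, by norm_num, reflB_gen.2.1⟩
    · exact ⟨by norm_num, by norm_num, reflB_gen.1⟩
    · exact ⟨by norm_num, by norm_num, reflB_gen.2.2.1⟩
    · exact ⟨by norm_num, by norm_num, reflB_gen.2.2.2⟩)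
  have : g = XR m t u := Units.ext (e.trans (coe_XR m t u).symm)
  rw [← this]
  exact hg

theorem XR_surj (hK : Fintype.card K = 2 ^ (2 * m + 1)) {g : GL chevF4.Idx K}
    (hg : g ∈ UnegW chevF4 K [1, 2, 1, 2] ⊓ twistedF4 K (2 ^ m)) : ∃ t u, g = XR m t u := by
  obtain ⟨σ, X⟩ := exists_xEnd_F4 hK m
  obtain ⟨hg1, hg2⟩ := Subgroup.mem_inf.mp hg
  obtain ⟨t, u, e⟩ := clsB_fix_form X hg1 (twistedF4_le_fix hK X hg2).2
  exact ⟨t, u, Units.ext (e.trans (coe_XR m t u).symm)⟩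

omit [Fintype K] in
/-- `n_A x_A(t) n_A⁻¹ = x_{-A}(t)` -/
theorem nP_A_conj (m : ℕ) (t : K) :
    nP chevF4 K [0, 3] * XA m t * (nP chevF4 K [0, 3])⁻¹ = XAm m t := by
  apply Units.ext
  rw [nP_conj_word2' hDF4 two_eq_zero' (by decide) [(33, t ^ 2 ^ m), (24, t)] (by
    intro p hp
    simp only [List.mem_cons, List.not_mem_nil, or_false] at hp
    rcases hp with rfl | rfl <;> (dsimp only; decide)) (XA m t) (by
    rw [coe_XA, wordMat_eq_wN]; rfl), coe_XAm, wordMat_eq_wN]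
  simp only [List.map_cons, List.map_nil]
  rw [reflA_simple.1, reflA_simple.2]
  rfl

omit [Fintype K] in
theorem XAm_mem_YW (m : ℕ) (t : K) : XAm m t ∈ YW chevF4 K [0, 3] :=
  mem_YW.mpr ⟨XA m t, XA_mem_unegW m t, (nP_A_conj m t).symm⟩

theorem reflB_pos : reflWord chevF4 [1, 2, 1, 2] 27 = 20 ∧ reflWord chevF4 [1, 2, 1, 2] 25 = 22 ∧
    reflWord chevF4 [1, 2, 1, 2] 28 = 19 ∧ reflWord chevF4 [1, 2, 1, 2] 30 = 17 := by decide

omit [Fintype K] in
/-- `n_R x_R(t, u) n_R⁻¹ = x_{-R}(t, u)` -/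
theorem nP_B_conj (m : ℕ) (t u : K) :
    nP chevF4 K [1, 2, 1, 2] * XR m t u * (nP chevF4 K [1, 2, 1, 2])⁻¹ = XRm m t u := by
  apply Units.ext
  rw [nP_conj_word2' hDF4 two_eq_zero' (by decide) (b2ClassWord (2 ^ m) 27 25 28 30 t u) (by
    intro p hp
    unfold b2ClassWord at hp
    simp only [List.mem_cons, List.not_mem_nil, or_false] at hp
    rcases hp with rfl | rfl | rfl | rfl <;> (dsimp only; decide)) (XR m t u) (by
    rw [coe_XR, wordMat_eq_wN]), coe_XRm, wordMat_eq_wN]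
  unfold b2ClassWord
  simp only [List.map_cons, List.map_nil]
  rw [reflB_pos.1, reflB_pos.2.1, reflB_pos.2.2.1, reflB_pos.2.2.2]

omit [Fintype K] in
theorem XRm_mem_YW (m : ℕ) (t u : K) : XRm m t u ∈ YW chevF4 K [1, 2, 1, 2] :=
  mem_YW.mpr ⟨XR m t u, XR_mem_unegW m t u, (nP_B_conj m t u).symm⟩

omit [Fintype K] [CharP K 2] in
theorem XD_mem_neg {r : ℕ} (hr : r < 24) (t : K) : XD chevF4 K r t ∈ chevF4.negUnipotent K := by
  have P := posP_of_mem hDF4
  have hr' : r < chevF4.nroots := by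
    have : chevF4.nroots = 48 := rfl
    omega
  refine Subgroup.subset_closure ⟨r, t, (P r hr').2.mpr ?_, coe_XD hDF4 hr' t⟩
  have : chevF4.nroots = 48 := rfl
  omega

omit [Fintype K] [CharP K 2] in
theorem XAm_mem_neg (m : ℕ) (t : K) : XAm m t ∈ chevF4.negUnipotent K :=
  mul_mem (XD_mem_neg (by norm_num) _) (XD_mem_neg (by norm_num) _)

omit [Fintype K] [CharP K 2] in
theorem XRm_mem_neg (m : ℕ) (t u : K) : XRm m t u ∈ chevF4.negUnipotent K := by
  unfold XRm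
  rw [N4G_eq]
  exact mul_mem (XD_mem_neg (by norm_num) _) (mul_mem (XD_mem_neg (by norm_num) _)
    (mul_mem (XD_mem_neg (by norm_num) _) (XD_mem_neg (by norm_num) _)))

omit [Fintype K] in
theorem nP_A_eq (m : ℕ) : nP chevF4 K [0, 3] = XA m 1 * XAm m 1 * XA m 1 := by
  apply Units.ext
  rw [nP_A_mat, ← f4_nA_mat two_eq_zero', Units.val_mul, Units.val_mul, coe_XA, coe_XAm,
    pairWord_mat, pairWord_mat, one_pow]
  simp only [wNF_cons, wN_nil, mul_one, Matrix.mul_assoc]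

omit [Fintype K] in
theorem nP_B_eq (m : ℕ) : nP chevF4 K [1, 2, 1, 2] = (XR m 1 1)⁻¹ * XRm m 0 1 * XR m 1 1 := by
  have hB := b2Rel_pos (K := K)
  have h2m : (2 : ℕ) ^ m ≠ 0 := pow_ne_zero _ (by norm_num)
  -- the inverse of `x_R(1, 1)`
  have a0 := hB.add 0 1 1
  have a1 := hB.add 1 1 1
  have a3 := hB.add 3 1 1
  rw [add_self', hB.zero] at a0 a1 a3
  have a0' : chevF4.x K 25 1 * chevF4.x K 25 1 = 1 := a0
  have a1' : chevF4.x K 27 1 * chevF4.x K 27 1 = 1 := a1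
  have a3' : chevF4.x K 30 1 * chevF4.x K 30 1 = 1 := a3
  have eXR : ((XR m 1 1 : GL chevF4.Idx K) : Matrix chevF4.Idx chevF4.Idx K) =
      chevF4.x K 27 1 * (chevF4.x K 25 1 * chevF4.x K 30 1) := by
    rw [coe_XR, clsWordB_mat, one_pow, one_pow, one_pow, add_self']
    show chevF4.x K 27 1 * (chevF4.x K 25 1 * (chevF4.x K 28 0 * chevF4.x K 30 1)) = _
    rw [xF_zero, one_mul]
  have eXRm : ((XRm m 0 1 : GL chevF4.Idx K) : Matrix chevF4.Idx chevF4.Idx K) =
      chevF4.x K 19 1 * chevF4.x K 17 1 := by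
    rw [coe_XRm, clsWordBm_mat, zero_pow h2m, zero_pow (Nat.succ_ne_zero _), zero_add, one_pow]
    show chevF4.x K 20 0 * (chevF4.x K 22 0 * (chevF4.x K 19 1 * chevF4.x K 17 1)) = _
    rw [xF_zero, xF_zero, one_mul, one_mul]
  obtain ⟨g', hg'⟩ := exists_unit_wN (valid0_of_mem hDF4) (valid1_of_mem hDF4) (F := K)
    [(30, (1 : K)), (25, 1), (27, 1)] (by
    intro p hp
    simp only [List.mem_cons, List.not_mem_nil, or_false] at hp
    rcases hp with rfl | rfl | rfl <;> (dsimp only; decide))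
  have hinv : g' = (XR m 1 1)⁻¹ := by
    apply eq_inv_of_mul_eq_one_left
    apply Units.ext
    rw [Units.val_mul, hg', eXR, Units.val_one]
    simp only [wNF_cons, wN_nil, mul_one]
    calc chevF4.x K 30 1 * (chevF4.x K 25 1 * chevF4.x K 27 1) *
          (chevF4.x K 27 1 * (chevF4.x K 25 1 * chevF4.x K 30 1))
        = chevF4.x K 30 1 * (chevF4.x K 25 1 * (chevF4.x K 27 1 * chevF4.x K 27 1) *
          chevF4.x K 25 1) * chevF4.x K 30 1 := by simp only [Matrix.mul_assoc]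
      _ = 1 := by rw [a1', mul_one, a0', mul_one, a3']
  rw [← hinv]
  apply Units.ext
  rw [nP_B_mat, ← f4_nB_mat two_eq_zero', Units.val_mul, Units.val_mul, hg', eXR, eXRm]
  simp only [wNF_cons, wN_nil, mul_one, Matrix.mul_assoc]

theorem w0_F4_neg : ∀ r < chevF4.nroots, reflWord chevF4 symW0_F4.flatten r = chevF4.neg r := by
  decide +kernel

end RF

end Cfsg.Agent.Lib.Helper8.Chev
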