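import Cfsg.Agent.Lib.Helper8.ChevTc3
import Cfsg.Agent.Lib.Helper8.ChevTc5
import Cfsg.Agent.Lib.Helper8.ChevTc6
import Cfsg.Agent.Lib.Helper8.ChevTe3
import Cfsg.Agent.Lib.Helper26.S2128_A2
import Cfsg.Agent.Lib.Helper27.S2128_F
import Cfsg.Agent.Lib.Helper27.S2128_S
import Cfsg.Agent.Lib.Helper26.S2128_R
import Cfsg.Agent.Lib.Helper29.S2128_T

set_option autoImplicit false

namespace Cfsg.Agent.Lib.Helper8.Chev

open Cfsg.Lie Matrix

namespace RF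

variable {K : Type*} [Field K] [Fintype K] [CharP K 2] {m : ℕ}
  {σ : GL chevF4.Idx K → GL chevF4.Idx K}

/-- the class subgroups of `²F₄` have different orders -/
theorem clsF4_size (hK : Fintype.card K = 2 ^ (2 * m + 1))
    (X : XEnd chevF4 K σ barF4 rhoF4 (expF4 m)) :
    ∀ c ∈ clsF4, ∀ c' ∈ clsF4,
      Nat.card ↥(UnegW chevF4 K c ⊓ twistedF4 K (2 ^ m)) =
        Nat.card ↥(UnegW chevF4 K c' ⊓ twistedF4 K (2 ^ m)) → c = c' := by
  have Y := xGrp_F4 hK X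
  have eA : UnegW chevF4 K [0, 3] ⊓ twistedF4 K (2 ^ m) = UnegW chevF4 K [0, 3] ⊓ X.fix := by
    have := Y.unegW_inf_eq (Cs := [[0, 3]]) (by decide) (by simpa using goodA_F4)
    simpa using this
  have eB : UnegW chevF4 K [1, 2, 1, 2] ⊓ twistedF4 K (2 ^ m) =
      UnegW chevF4 K [1, 2, 1, 2] ⊓ X.fix := by
    have := Y.unegW_inf_eq (Cs := [[1, 2, 1, 2]]) (by decide) (by simpa using goodB_F4)
    simpa using this
  have hq : 2 ≤ 2 ^ (2 * m + 1) := by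
    calc 2 = 2 ^ 1 := by norm_num
      _ ≤ 2 ^ (2 * m + 1) := Nat.pow_le_pow_right (by norm_num) (by omega)
  have hne : (2 ^ (2 * m + 1)) ^ 2 ≠ 2 ^ (2 * m + 1) := by
    intro h
    have : 2 ^ (2 * m + 1) * 2 ^ (2 * m + 1) = 2 ^ (2 * m + 1) * 1 := by rw [← sq, h, mul_one]
    have := Nat.eq_of_mul_eq_mul_left (by omega) this
    omega
  intro c hc c' hc' h
  simp only [clsF4, List.mem_cons, List.not_mem_nil, or_false] at hc hc'
  rcases hc with rfl | rfl <;> rcases hc' with rfl | rfl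
  · rfl
  · exfalso
    rw [eA, eB, card_clsA hK X, card_clsB hK X] at h
    exact hne h.symm
  · exfalso
    rw [eA, eB, card_clsA hK X, card_clsB hK X] at h
    exact hne h
  · rfl

/-- an element of `G` fixed by an automorphism as soon as the generators of a closure are -/
theorem fix_of_closure {G : Subgroup (GL chevF4.Idx K)} (θ : MulAut ↥G)
    {S : Set (GL chevF4.Idx K)}
    (hS : ∀ x ∈ S, ∃ hx : x ∈ G, θ ⟨x, hx⟩ = ⟨x, hx⟩) {g : GL chevF4.Idx K}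
    (hg : g ∈ Subgroup.closure S) : ∃ hx : g ∈ G, θ ⟨g, hx⟩ = ⟨g, hx⟩ := by
  induction hg using Subgroup.closure_induction with
  | mem x hx => exact hS x hx
  | one => exact ⟨one_mem _, map_one θ⟩
  | mul x y _ _ hx hy =>
    obtain ⟨hx1, hx2⟩ := hx
    obtain ⟨hy1, hy2⟩ := hy
    refine ⟨mul_mem hx1 hy1, ?_⟩
    have : (⟨x * y, mul_mem hx1 hy1⟩ : ↥G) = ⟨x, hx1⟩ * ⟨y, hy1⟩ := rfl
    rw [this, map_mul, hx2, hy2]
  | inv x _ hx =>
    obtain ⟨hx1, hx2⟩ := hx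
    refine ⟨inv_mem hx1, ?_⟩
    have : (⟨x⁻¹, inv_mem hx1⟩ : ↥G) = (⟨x, hx1⟩ : ↥G)⁻¹ := rfl
    rw [this, map_inv, hx2]

/-- the standard form of the automorphisms of `²F₄(q)` preserving `U¹` and `V¹` -/
theorem std_form (hm : 1 ≤ m) (hK : Fintype.card K = 2 ^ (2 * m + 1))
    (X : XEnd chevF4 K σ barF4 rhoF4 (expF4 m))
    (ψ : (K ≃+* K) → MulAut ↥(twistedF4 K (2 ^ m)))
    (hψ : ∀ (α : K ≃+* K) (g : ↥(twistedF4 K (2 ^ m))),
      ((ψ α g : ↥(twistedF4 K (2 ^ m))) : GL chevF4.Idx K) =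
        bc chevF4 (α : K →+* K) (g : GL chevF4.Idx K))
    {θ : MulAut ↥(twistedF4 K (2 ^ m))}
    (hU : PresT θ (chevF4.posUnipotent K)) (hV : PresT θ (chevF4.negUnipotent K)) :
    ∃ (h : ↥(twistedF4 K (2 ^ m))) (α : K ≃+* K),
      (h : GL chevF4.Idx K) ∈ chevF4.diagonalSubgroup K ∧ MulAut.conj h * ψ α * θ = 1 := by
  classical
  have Y := xBN_F4 hK X
  have hsize := clsF4_size hK X
  have hcA : ([0, 3] : List ℕ) ∈ clsF4 := by decide
  have hcB : ([1, 2, 1, 2] : List ℕ) ∈ clsF4 := by decide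
  -- the field automorphisms preserve `U¹` and `V¹`
  have hψU : ∀ α, PresT (ψ α) (chevF4.posUnipotent K) := fun α g hg => by
    rw [hψ]; exact bc_mem_pos _ hg
  have hψV : ∀ α, PresT (ψ α) (chevF4.negUnipotent K) := fun α g hg => by
    rw [hψ]; exact bc_mem_negX _ hg
  -- the generators as elements of the group
  let xa : K → ↥(twistedF4 K (2 ^ m)) := fun t => ⟨XA m t, XA_mem m t⟩
  let xr : K → K → ↥(twistedF4 K (2 ^ m)) := fun t u => ⟨XR m t u, XR_mem m t u⟩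
  have hxa_add : ∀ s t, xa (s + t) = xa s * xa t := fun s t => Subtype.ext (XA_add m s t)
  have hxa_inj : Function.Injective xa := fun s t h => XA_inj m (congrArg Subtype.val h)
  let θ₀ : K →+* K := iterateFrobenius K 2 m
  have hθ₀ : ∀ t, θ₀ t = t ^ 2 ^ m := fun t => iterateFrobenius_def 2 m t
  have hxr_law : SuzLaw θ₀ xr := fun t u t' u' => Subtype.ext (XR_law hK hθ₀ t u t' u')
  have hxr_inj : ∀ t u t' u', xr t u = xr t' u' → t = t' ∧ u = u' :=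
    fun t u t' u' h => XR_inj m (congrArg Subtype.val h)
  -- general facts on the automorphisms preserving `U¹` and `V¹`
  have key : ∀ θ' : MulAut ↥(twistedF4 K (2 ^ m)), PresT θ' (chevF4.posUnipotent K) →
      PresT θ' (chevF4.negUnipotent K) →
      (∀ t, ∃ t', θ' (xa t) = xa t') ∧ (∀ t u, ∃ t' u', θ' (xr t u) = xr t' u') ∧
      (∀ a : Kˣ, ∃ a' : Kˣ, ∀ t t', θ' (xa t) = xa t' →
        θ' (xa ((a : K) * t)) = xa ((a' : K) * t')) ∧
      (∀ b : Kˣ, ∃ b' : Kˣ, ∀ t u t' u', θ' (xr t u) = xr t' u' →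
        θ' (xr ((b : K) * t) ((b : K) * (b : K) ^ 2 ^ m * u)) =
          xr ((b' : K) * t') ((b' : K) * (b' : K) ^ 2 ^ m * u')) := by
    intro θ' hU' hV'
    have hXA := Y.presT_pos_cls hsize symW0_F4_cls w0_F4_neg hU' hV' hcA
    have hXB := Y.presT_pos_cls hsize symW0_F4_cls w0_F4_neg hU' hV' hcB
    have hH := Y.presT_diagonal hU' hV'
    refine ⟨fun t => ?_, fun t u => ?_, fun a => ?_, fun b => ?_⟩
    · obtain ⟨t', ht'⟩ := XA_surj hK (Subgroup.mem_inf.mpr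
        ⟨hXA (xa t) (XA_mem_unegW m t), (θ' (xa t)).2⟩)
      exact ⟨t', Subtype.ext ht'⟩
    · obtain ⟨t', u', ht'⟩ := XR_surj hK (Subgroup.mem_inf.mpr
        ⟨hXB (xr t u) (XR_mem_unegW m t u), (θ' (xr t u)).2⟩)
      exact ⟨t', u', Subtype.ext ht'⟩
    · obtain ⟨h, hh, hA, -⟩ := tor_surj hK a (1 : Kˣ)
      obtain ⟨hhH, hhG⟩ := Subgroup.mem_inf.mp hh
      have hh' : ((θ' ⟨h, hhG⟩ : ↥(twistedF4 K (2 ^ m))) : GL chevF4.Idx K) ∈
          chevF4.diagonalSubgroup K ⊓ twistedF4 K (2 ^ m) :=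
        Subgroup.mem_inf.mpr ⟨hH ⟨h, hhG⟩ hhH, (θ' ⟨h, hhG⟩).2⟩
      obtain ⟨a', -, hA', -⟩ := tor_act hK hh'
      refine ⟨a', fun t t' e => ?_⟩
      have e1 : xa ((a : K) * t) = ⟨h, hhG⟩ * xa t * (⟨h, hhG⟩ : ↥(twistedF4 K (2 ^ m)))⁻¹ :=
        Subtype.ext (hA t).symm
      rw [e1, map_mul, map_mul, map_inv, e]
      exact Subtype.ext (hA' t')
    · obtain ⟨h, hh, -, hB⟩ := tor_surj hK (1 : Kˣ) b
      obtain ⟨hhH, hhG⟩ := Subgroup.mem_inf.mp hh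
      have hh' : ((θ' ⟨h, hhG⟩ : ↥(twistedF4 K (2 ^ m))) : GL chevF4.Idx K) ∈
          chevF4.diagonalSubgroup K ⊓ twistedF4 K (2 ^ m) :=
        Subgroup.mem_inf.mpr ⟨hH ⟨h, hhG⟩ hhH, (θ' ⟨h, hhG⟩).2⟩
      obtain ⟨-, b', -, hB'⟩ := tor_act hK hh'
      refine ⟨b', fun t u t' u' e => ?_⟩
      have e1 : xr ((b : K) * t) ((b : K) * (b : K) ^ 2 ^ m * u) =
          ⟨h, hhG⟩ * xr t u * (⟨h, hhG⟩ : ↥(twistedF4 K (2 ^ m)))⁻¹ :=
        Subtype.ext (hB t u).symm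
      rw [e1, map_mul, map_mul, map_inv, e]
      exact Subtype.ext (hB' t' u')
  -- the class `A`
  obtain ⟨kA1, -, kA3, -⟩ := key θ hU hV
  obtain ⟨c, α, hc, hformA⟩ := add_aut_form hxa_add hxa_inj θ.toMonoidHom θ.injective kA1 kA3
  have hformA' : ∀ t, θ (xa t) = xa (c * α t) := hformA
  -- the first adjustment
  obtain ⟨θ₁, hθ₁⟩ : ∃ θ₁ : MulAut ↥(twistedF4 K (2 ^ m)), θ₁ = ψ α.symm * θ := ⟨_, rfl⟩
  have hU₁ : PresT θ₁ (chevF4.posUnipotent K) := by rw [hθ₁]; exact (hψU _).mul hU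
  have hV₁ : PresT θ₁ (chevF4.negUnipotent K) := by rw [hθ₁]; exact (hψV _).mul hV
  have hψxa : ∀ (β : K ≃+* K) t, ψ β (xa t) = xa (β t) := by
    intro β t
    apply Subtype.ext
    rw [hψ]
    exact bc_XA m _ t
  have hψxr : ∀ (β : K ≃+* K) t u, ψ β (xr t u) = xr (β t) (β u) := by
    intro β t u
    apply Subtype.ext
    rw [hψ]
    exact bc_XR m _ t u
  set c₁ : K := α.symm c with hc₁
  have hc₁0 : c₁ ≠ 0 := by
    rw [hc₁]
    intro h
    apply hc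
    have := congrArg α h
    rwa [α.apply_symm_apply, map_zero] at this
  have hA₁ : ∀ t, θ₁ (xa t) = xa (c₁ * t) := by
    intro t
    rw [hθ₁, MulAut.mul_apply, hformA', hψxa, map_mul, α.symm_apply_apply]
  -- the class `B`
  obtain ⟨-, kB2, -, kB4⟩ := key θ₁ hU₁ hV₁
  obtain ⟨cB, β, hcB0, hformB⟩ := suz_aut_form hm hK hθ₀ hxr_law hxr_inj θ₁.toMonoidHom
    θ₁.injective kB2 kB4
  have hformB' : ∀ t u, θ₁ (xr t u) = xr (cB * β t) (cB * cB ^ 2 ^ m * β u) := hformB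
  -- the second adjustment
  obtain ⟨h₀, hh₀, hA₀, hB₀⟩ := tor_surj hK (Units.mk0 c₁ hc₁0)⁻¹ (Units.mk0 cB hcB0)⁻¹
  obtain ⟨hh₀H, hh₀G⟩ := Subgroup.mem_inf.mp hh₀
  obtain ⟨θ₂, hθ₂⟩ : ∃ θ₂ : MulAut ↥(twistedF4 K (2 ^ m)),
      θ₂ = MulAut.conj (⟨h₀, hh₀G⟩ : ↥(twistedF4 K (2 ^ m))) * θ₁ := ⟨_, rfl⟩
  obtain ⟨hcU, hcV⟩ := Y.pres_of_mem_diagonal ⟨h₀, hh₀G⟩ hh₀H
  have hU₂ : PresT θ₂ (chevF4.posUnipotent K) := by rw [hθ₂]; exact hcU.mul hU₁
  have hV₂ : PresT θ₂ (chevF4.negUnipotent K) := by rw [hθ₂]; exact hcV.mul hV₁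
  have hA₂ : ∀ t, θ₂ (xa t) = xa t := by
    intro t
    rw [hθ₂, MulAut.mul_apply, hA₁, MulAut.conj_apply]
    apply Subtype.ext
    show h₀ * XA m (c₁ * t) * h₀⁻¹ = XA m t
    rw [hA₀]
    congr 1
    simp only [Units.val_inv_eq_inv_val, Units.val_mk0]
    field_simp
  have hB₂ : ∀ t u, θ₂ (xr t u) = xr (β t) (β u) := by
    intro t u
    rw [hθ₂, MulAut.mul_apply, hformB', MulAut.conj_apply]
    apply Subtype.ext
    show h₀ * XR m (cB * β t) (cB * cB ^ 2 ^ m * β u) * h₀⁻¹ = XR m (β t) (β u)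
    rw [hB₀]
    congr 1
    · simp only [Units.val_inv_eq_inv_val, Units.val_mk0]
      field_simp
    · simp only [Units.val_inv_eq_inv_val, Units.val_mk0, inv_pow]
      field_simp
  -- rigidity for the class `A`
  have hfixA : ∀ g : ↥(twistedF4 K (2 ^ m)), (g : GL chevF4.Idx K) ∈ UnegW chevF4 K [0, 3] →
      θ₂ g = g := by
    intro g hg
    obtain ⟨t, ht⟩ := XA_surj hK (Subgroup.mem_inf.mpr ⟨hg, g.2⟩)
    have : g = xa t := Subtype.ext ht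
    rw [this, hA₂]
  have hYA := Y.presT_neg_cls hsize hU₂ hV₂ hcA
  have hrigA := Y.rigid hU₂ hV₂ hcA hYA hfixA
    ⟨XA m 1, Subgroup.mem_inf.mpr ⟨XA_mem_unegW m 1, XA_mem m 1⟩, XA m 1,
      Subgroup.mem_inf.mpr ⟨XA_mem_unegW m 1, XA_mem m 1⟩, XAm m 1, XAm_mem_neg m 1, nP_A_eq m⟩
  -- the tie
  have hLA : ∀ g : GL chevF4.Idx K,
      g ∈ Subgroup.closure {g : GL chevF4.Idx K | ∃ t : K, g = XA m t ∨ g = XAm m t} →
      ∃ hx : g ∈ twistedF4 K (2 ^ m), θ₂ ⟨g, hx⟩ = ⟨g, hx⟩ := by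
    intro g hg
    apply fix_of_closure θ₂ _ hg
    rintro x ⟨t, rfl | rfl⟩
    · exact ⟨XA_mem m t, hA₂ t⟩
    · exact ⟨XAm_mem m t, hrigA ⟨XAm m t, XAm_mem m t⟩ (XAm_mem_YW m t)⟩
  have hβ : ∀ t, β t = t := by
    intro t
    by_cases ht : t = 0
    · rw [ht, map_zero]
    · obtain ⟨h, hhL, hact⟩ := tor_LA hK (Units.mk0 t ht)
      obtain ⟨hhG, hfix⟩ := hLA h hhL
      have e1 : xr ((Units.mk0 t ht : K) * 1)
          ((Units.mk0 t ht : K) * (Units.mk0 t ht : K) ^ 2 ^ m * 0) =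
          ⟨h, hhG⟩ * xr 1 0 * (⟨h, hhG⟩ : ↥(twistedF4 K (2 ^ m)))⁻¹ :=
        Subtype.ext (hact 1 0).symm
      have e2 := congrArg θ₂ e1
      rw [map_mul, map_mul, map_inv, hfix, hB₂, hB₂] at e2
      have e3 : (⟨h, hhG⟩ * xr (β 1) (β 0) * (⟨h, hhG⟩ : ↥(twistedF4 K (2 ^ m)))⁻¹ :
          ↥(twistedF4 K (2 ^ m))) = xr ((Units.mk0 t ht : K) * β 1)
            ((Units.mk0 t ht : K) * (Units.mk0 t ht : K) ^ 2 ^ m * β 0) :=
        Subtype.ext (hact (β 1) (β 0))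
      rw [e3] at e2
      have e4 := (hxr_inj _ _ _ _ e2).1
      rw [map_one, mul_one] at e4
      simpa using e4
  -- rigidity for the class `B`
  have hfixB : ∀ g : ↥(twistedF4 K (2 ^ m)),
      (g : GL chevF4.Idx K) ∈ UnegW chevF4 K [1, 2, 1, 2] → θ₂ g = g := by
    intro g hg
    obtain ⟨t, u, ht⟩ := XR_surj hK (Subgroup.mem_inf.mpr ⟨hg, g.2⟩)
    have : g = xr t u := Subtype.ext ht
    rw [this, hB₂, hβ, hβ]
  have hYB := Y.presT_neg_cls hsize hU₂ hV₂ hcB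
  have hrigB := Y.rigid hU₂ hV₂ hcB hYB hfixB
    ⟨(XR m 1 1)⁻¹, Subgroup.mem_inf.mpr ⟨inv_mem (XR_mem_unegW m 1 1), inv_mem (XR_mem m 1 1)⟩,
      XR m 1 1, Subgroup.mem_inf.mpr ⟨XR_mem_unegW m 1 1, XR_mem m 1 1⟩, XRm m 0 1,
      XRm_mem_neg m 0 1, nP_B_eq m⟩
  -- `θ₂` is trivial
  have hθ₂1 : θ₂ = 1 := by
    apply MulEquiv.ext
    intro g
    have hg : (g : GL chevF4.Idx K) ∈ Subgroup.closure {g | (∃ t : K, g = XA m t ∨ g = XAm m t) ∨
        ∃ t u : K, g = XR m t u ∨ g = XRm m t u} := by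
      rw [← twistedF4_eq_closure]
      exact g.2
    obtain ⟨hx, e⟩ := fix_of_closure θ₂ (by
      rintro x (⟨t, rfl | rfl⟩ | ⟨t, u, rfl | rfl⟩)
      · exact ⟨XA_mem m t, hA₂ t⟩
      · exact ⟨XAm_mem m t, hrigA ⟨XAm m t, XAm_mem m t⟩ (XAm_mem_YW m t)⟩
      · exact ⟨XR_mem m t u, by rw [show (⟨XR m t u, XR_mem m t u⟩ : ↥(twistedF4 K (2 ^ m))) =
          xr t u from rfl, hB₂, hβ, hβ]⟩
      · exact ⟨XRm_mem m t u, hrigB ⟨XRm m t u, XRm_mem m t u⟩ (XRm_mem_YW m t u)⟩) hg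
    rw [MulAut.one_apply]
    exact e
  refine ⟨⟨h₀, hh₀G⟩, α.symm, hh₀H, ?_⟩
  rw [mul_assoc, ← hθ₁, ← hθ₂, hθ₂1]

/-- a torus element of `²F₄(q)` inducing the trivial conjugation is trivial -/
theorem conj_eq_one_F4 (m : ℕ) (x : ↥(twistedF4 K (2 ^ m)))
    (hx : (x : GL chevF4.Idx K) ∈ chevF4.diagonalSubgroup K)
    (h : (MulAut.conj x : MulAut ↥(twistedF4 K (2 ^ m))) = 1) : x = 1 := by
  apply Subtype.ext
  rw [Subgroup.coe_one]
  apply cen_F4 m _ hx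
  intro u hu
  obtain ⟨-, huG⟩ := Subgroup.mem_inf.mp hu
  have h1 := congrArg (fun θ : MulAut ↥(twistedF4 K (2 ^ m)) => θ ⟨u, huG⟩) h
  simp only [MulAut.conj_apply, MulAut.one_apply] at h1
  have h2 := congrArg (fun z : ↥(twistedF4 K (2 ^ m)) => (z : GL chevF4.Idx K)) h1
  simp only [Subgroup.coe_mul, Subgroup.coe_inv] at h2
  calc (x : GL chevF4.Idx K) * u = ((x : GL chevF4.Idx K) * u * (x : GL chevF4.Idx K)⁻¹) * x := by
        group
    _ = u * x := by rw [h2]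

/-- the number of automorphisms of `²F₄(q)` preserving `U¹` and `V¹` -/
theorem card_presSubX_F4 (hm : 1 ≤ m) (hK : Fintype.card K = 2 ^ (2 * m + 1))
    (X : XEnd chevF4 K σ barF4 rhoF4 (expF4 m)) :
    Nat.card ↥(presSubX chevF4 K (twistedF4 K (2 ^ m))) =
      Nat.card ↥(chevF4.diagonalSubgroup K ⊓ twistedF4 K (2 ^ m)) * Nat.card (K ≃+* K) := by
  classical
  have Y := xBN_F4 hK X
  choose ψ hψ using fun α : K ≃+* K => exists_fieldAut_F4 (K := K) m α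
  have hψU : ∀ α, PresT (ψ α) (chevF4.posUnipotent K) := fun α g hg => by
    rw [hψ]; exact bc_mem_pos _ hg
  have hψV : ∀ α, PresT (ψ α) (chevF4.negUnipotent K) := fun α g hg => by
    rw [hψ]; exact bc_mem_negX _ hg
  let el : ↥(chevF4.diagonalSubgroup K ⊓ twistedF4 K (2 ^ m)) → ↥(twistedF4 K (2 ^ m)) :=
    fun h => ⟨h.1, (Subgroup.mem_inf.mp h.2).2⟩
  have hel : ∀ h, ((el h : ↥(twistedF4 K (2 ^ m))) : GL chevF4.Idx K) ∈ chevF4.diagonalSubgroup K :=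
    fun h => (Subgroup.mem_inf.mp h.2).1
  let Φ : ↥(chevF4.diagonalSubgroup K ⊓ twistedF4 K (2 ^ m)) × (K ≃+* K) →
      ↥(presSubX chevF4 K (twistedF4 K (2 ^ m))) := fun p =>
    ⟨MulAut.conj (el p.1) * ψ p.2,
      ⟨(Y.pres_of_mem_diagonal (el p.1) (hel p.1)).1.mul (hψU p.2),
        (Y.pres_of_mem_diagonal (el p.1) (hel p.1)).2.mul (hψV p.2)⟩⟩
  have hinj : Function.Injective Φ := by
    rintro ⟨h, α⟩ ⟨h', α'⟩ hxy
    have e : MulAut.conj (el h) * ψ α = MulAut.conj (el h') * ψ α' := congrArg Subtype.val hxy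
    obtain ⟨a, -, hA, -⟩ := tor_act hK h.2
    obtain ⟨a', -, hA', -⟩ := tor_act hK h'.2
    have key : ∀ t : K, (a : K) * α t = (a' : K) * α' t := by
      intro t
      have e1 := congrArg (fun θ : MulAut ↥(twistedF4 K (2 ^ m)) =>
        ((θ ⟨XA m t, XA_mem m t⟩ : ↥(twistedF4 K (2 ^ m))) : GL chevF4.Idx K)) e
      simp only [MulAut.mul_apply, MulAut.conj_apply, Subgroup.coe_mul, Subgroup.coe_inv, hψ] at e1
      rw [bc_XA, bc_XA] at e1
      have e2 : (h : GL chevF4.Idx K) * XA m (α t) * (h : GL chevF4.Idx K)⁻¹ =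
          (h' : GL chevF4.Idx K) * XA m (α' t) * (h' : GL chevF4.Idx K)⁻¹ := e1
      rw [hA, hA'] at e2
      exact XA_inj m e2
    have haa : (a : K) = (a' : K) := by
      have := key 1
      rwa [map_one, map_one, mul_one, mul_one] at this
    have hα : α = α' := by
      apply RingEquiv.ext
      intro t
      have := key t
      rw [haa] at this
      exact mul_left_cancel₀ (Units.ne_zero a') this
    subst hα
    have e3 : MulAut.conj (el h) = MulAut.conj (el h') := mul_right_cancel e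
    have e4 : (MulAut.conj ((el h')⁻¹ * el h) : MulAut ↥(twistedF4 K (2 ^ m))) = 1 := by
      rw [map_mul, map_inv, e3, inv_mul_cancel]
    have e5 := conj_eq_one_F4 m _ (mul_mem (inv_mem (hel h')) (hel h)) e4
    have e6 : el h = el h' := by
      rw [inv_mul_eq_one] at e5
      exact e5.symm
    have e7 : h = h' := by
      apply Subtype.ext
      have := congrArg (fun z : ↥(twistedF4 K (2 ^ m)) => (z : GL chevF4.Idx K)) e6
      exact this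
    rw [e7]
  have hsurj : Function.Surjective Φ := by
    rintro ⟨θ, hθ⟩
    have hθi := (presSubX chevF4 K (twistedF4 K (2 ^ m))).inv_mem hθ
    obtain ⟨h, α, hhH, e⟩ := std_form hm hK X ψ hψ hθi.1 hθi.2
    refine ⟨⟨⟨h.1, Subgroup.mem_inf.mpr ⟨hhH, h.2⟩⟩, α⟩, ?_⟩
    apply Subtype.ext
    show MulAut.conj h * ψ α = θ
    rw [mul_inv_eq_one] at e
    exact e
  rw [← Nat.card_prod]
  exact (Nat.card_congr (Equiv.ofBijective Φ ⟨hinj, hsurj⟩)).symm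

/-- `|Out ²F₄(q)| = 2m + 1` -/
theorem card_out_twF4 {K : Type*} [Field K] [Fintype K] {m : ℕ} (hm : 1 ≤ m)
    (hK : Fintype.card K = 2 ^ (2 * m + 1)) :
    Nat.card (Cfsg.Out ↥(twistedF4 K (2 ^ m))) = 2 * m + 1 := by
  have : CharP K 2 := charP_two_of_card hK
  have : Fact (Nat.Prime 2) := ⟨Nat.prime_two⟩
  obtain ⟨σ, X⟩ := exists_xEnd_F4 hK m
  have Y := xBN_F4 hK X
  have h1 := Y.card_out_mul_torus 2 (twF4_sylow_card hK X) (conj_eq_one_F4 m)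
  rw [card_presSubX_F4 hm hK X, card_ringAut_pfX 2 (2 * m + 1) hK, mul_comm] at h1
  have hpos : 0 < Nat.card ↥(chevF4.diagonalSubgroup K ⊓ twistedF4 K (2 ^ m)) := Nat.card_pos
  exact Nat.eq_of_mul_eq_mul_left hpos h1

end RF

end Cfsg.Agent.Lib.Helper8.Chev
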