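import Cfsg.Agent.Lib.Helper8.ChevTd14

set_option autoImplicit false
set_option linter.unusedSimpArgs false
set_option linter.unusedSectionVars false
set_option linter.unnecessarySeqFocus false

namespace Cfsg.Agent.Lib.Helper8.Chev

open Cfsg.Lie Matrix

/-! ### Conjugation of the root elements of `D₄` by the `n_w`, any characteristic -/

section

/-- the sign picked up by the root `s` under conjugation by `n_l` -/
noncomputable def etaW (D : ChevalleyDatum) : List ℕ → ℕ → ℤ
  | [], _ => 1
  | i :: l, s => etaF D i (reflWord D l s) * etaW D l s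

variable {F : Type*} [Field F]

theorem nG_X4g {i : ℕ} (hi : i < 4) {s : ℕ} (hs : s < 24) (t : F) :
    nG chevD4 F i * X4 F s t =
      X4 F (chevD4.reflectRoot i s) (((etaF chevD4 i s : ℤ) : F) * t) * nG chevD4 F i := by
  have J := validJ_of_mem hDD4
  have V1 := valid1_of_mem hDD4
  have H := validH_of_mem hDD4
  have hs' : chevD4.reflectRoot i s < 24 := ((nS_props J H.nS hi).2.2 s hs).1
  apply Units.ext
  rw [Units.val_mul, Units.val_mul, coe_nG J V1 hi, coe_X4 hs, coe_X4 hs', nMat_one_eq, x_eq_xN,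
    x_eq_xN, nS_conj J V1 H.nS hi hs (R := F) t]

theorem nP_X4g {l : List ℕ} (hl : ∀ i ∈ l, i < 4) {s : ℕ} (hs : s < 24) (t : F) :
    reflWord chevD4 l s < 24 ∧
      nP chevD4 F l * X4 F s t =
        X4 F (reflWord chevD4 l s) (((etaW chevD4 l s : ℤ) : F) * t) * nP chevD4 F l := by
  have J := validJ_of_mem hDD4
  have H := validH_of_mem hDD4
  induction l with
  | nil =>
    refine ⟨hs, ?_⟩
    rw [nP_nil, one_mul, mul_one]
    simp [etaW, reflWord]
  | cons i l ih =>
    obtain ⟨h1, h2⟩ := ih (fun j hj => hl j (List.mem_cons_of_mem _ hj))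
    have hi : i < 4 := hl i List.mem_cons_self
    refine ⟨((nS_props J H.nS hi).2.2 _ h1).1, ?_⟩
    rw [nP_cons, mul_assoc, h2, ← mul_assoc, nG_X4g hi h1, reflWord_cons, mul_assoc]
    congr 2
    simp only [etaW]
    push_cast
    ring

/-- conjugation form -/
theorem nP_X4g_conj {l : List ℕ} (hl : ∀ i ∈ l, i < 4) {s : ℕ} (hs : s < 24) (t : F) :
    nP chevD4 F l * X4 F s t * (nP chevD4 F l)⁻¹ =
      X4 F (reflWord chevD4 l s) (((etaW chevD4 l s : ℤ) : F) * t) := by
  rw [(nP_X4g hl hs t).2, mul_assoc, mul_inv_cancel, mul_one]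

end

end Cfsg.Agent.Lib.Helper8.Chev
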