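import Cfsg.Agent.Lib.Helper8.ChevTg9

set_option autoImplicit false
set_option linter.unusedSimpArgs false
set_option linter.unusedSectionVars false
set_option linter.unnecessarySeqFocus false

namespace Cfsg.Agent.Lib.Helper8.Chev

open Cfsg.Lie Matrix

/-! ### Commutator bookkeeping for root elements, and the torus of `²E₆` -/

section

variable {D : ChevalleyDatum} {F : Type*} [Field F]

/-- `B A = A B x_k(z)` -/
def RD (D : ChevalleyDatum) (k : ℕ) (B A : GL D.Idx F) (z : F) : Prop :=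
  B * A = A * B * XD D F k z

/-- `g` commutes with the root group `X_k` -/
def CD (D : ChevalleyDatum) (k : ℕ) (g : GL D.Idx F) : Prop :=
  ∀ w : F, g * XD D F k w = XD D F k w * g

theorem CD.mul {k : ℕ} {g h : GL D.Idx F} (hg : CD D k g) (hh : CD D k h) : CD D k (g * h) := by
  intro w
  rw [mul_assoc, hh w, ← mul_assoc, hg w, mul_assoc]

theorem RD.mul_left (hD : D ∈ [chevG2, chevB2, chevD4, chevF4, chevE6, chevE7, chevE8])
    {k : ℕ} (hk : k < D.nroots) {B1 B2 A : GL D.Idx F} {z1 z2 : F}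
    (h1 : RD D k B1 A z1) (h2 : RD D k B2 A z2) (hc : CD D k B2) :
    RD D k (B1 * B2) A (z1 + z2) := by
  unfold RD at *
  calc B1 * B2 * A = B1 * (B2 * A) := by group
    _ = B1 * (A * B2 * XD D F k z2) := by rw [h2]
    _ = (B1 * A) * B2 * XD D F k z2 := by group
    _ = A * B1 * XD D F k z1 * B2 * XD D F k z2 := by rw [h1]
    _ = A * B1 * (XD D F k z1 * B2) * XD D F k z2 := by group
    _ = A * B1 * (B2 * XD D F k z1) * XD D F k z2 := by rw [hc z1]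
    _ = A * (B1 * B2) * (XD D F k z1 * XD D F k z2) := by group
    _ = A * (B1 * B2) * XD D F k (z1 + z2) := by rw [XD_add hD hk]

theorem RD.mul_right (hD : D ∈ [chevG2, chevB2, chevD4, chevF4, chevE6, chevE7, chevE8])
    {k : ℕ} (hk : k < D.nroots) {B A1 A2 : GL D.Idx F} {z1 z2 : F}
    (h1 : RD D k B A1 z1) (h2 : RD D k B A2 z2) (hc : CD D k A2) :
    RD D k B (A1 * A2) (z1 + z2) := by
  unfold RD at *
  calc B * (A1 * A2) = (B * A1) * A2 := by group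
    _ = A1 * B * XD D F k z1 * A2 := by rw [h1]
    _ = A1 * B * (XD D F k z1 * A2) := by group
    _ = A1 * B * (A2 * XD D F k z1) := by rw [hc z1]
    _ = A1 * (B * A2) * XD D F k z1 := by group
    _ = A1 * (A2 * B * XD D F k z2) * XD D F k z1 := by rw [h2]
    _ = A1 * A2 * B * (XD D F k z2 * XD D F k z1) := by group
    _ = A1 * A2 * B * XD D F k (z1 + z2) := by rw [XD_add hD hk, add_comm]

theorem RD.of_comm (hD : D ∈ [chevG2, chevB2, chevD4, chevF4, chevE6, chevE7, chevE8])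
    {k : ℕ} (hk : k < D.nroots) {B A : GL D.Idx F} (h : B * A = A * B) : RD D k B A 0 := by
  unfold RD
  rw [XD_zero hD hk, mul_one, h]

theorem RD.of_nil (hD : D ∈ [chevG2, chevB2, chevD4, chevF4, chevE6, chevE7, chevE8])
    {k : ℕ} (hk : k < D.nroots) {r s : ℕ} (hr : r < D.nroots) (hs : s < D.nroots) (h1 : s ≠ r)
    (h2 : s ≠ D.neg r) (h : D.commTerms r s = []) (t u : F) :
    RD D k (XD D F s u) (XD D F r t) 0 :=
  RD.of_comm hD hk (XD_comm_of_nil hD hr hs h1 h2 h t u)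

theorem RD.of_one (hD : D ∈ [chevG2, chevB2, chevD4, chevF4, chevE6, chevE7, chevE8])
    {k : ℕ} (hk : k < D.nroots) {r s : ℕ} (hr : r < D.nroots) (hs : s < D.nroots) (h1 : s ≠ r)
    (h2 : s ≠ D.neg r) {c : ℤ} (h : D.commTerms r s = [(k, c, 1, 1)]) (t u : F) :
    RD D k (XD D F s u) (XD D F r t) ((c : F) * (-t) * u) := by
  unfold RD
  rw [XD_rel_oneg hD hr hs hk h1 h2 h t u, ← mul_assoc]

theorem CD.of_nil (hD : D ∈ [chevG2, chevB2, chevD4, chevF4, chevE6, chevE7, chevE8])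
    {k : ℕ} (hk : k < D.nroots) {r : ℕ} (hr : r < D.nroots) (h1 : r ≠ k)
    (h2 : r ≠ D.neg k) (h : D.commTerms k r = []) (t : F) : CD D k (XD D F r t) :=
  fun w => XD_comm_of_nil hD hk hr h1 h2 h w t

/-- two commuting one-parameter groups -/
theorem two_comm_add {G : Type*} [Group G] {a b : F → G}
    (ha : ∀ t s, a t * a s = a (t + s)) (hb : ∀ t s, b t * b s = b (t + s))
    (hab : ∀ t s, b s * a t = a t * b s) (t1 t2 s1 s2 : F) :
    (a t1 * b t2) * (a s1 * b s2) = a (t1 + s1) * b (t2 + s2) := by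
  rw [← ha, ← hb]
  calc a t1 * b t2 * (a s1 * b s2) = a t1 * (b t2 * a s1) * b s2 := by group
    _ = a t1 * (a s1 * b t2) * b s2 := by rw [hab]
    _ = a t1 * a s1 * (b t2 * b s2) := by group

end

section

variable {K : Type*} [Field K]

set_option maxRecDepth 1000000 in
theorem e6_nil_tg : chevE6.commTerms 56 36 = [] ∧ chevE6.commTerms 10 22 = [] ∧
    chevE6.commTerms 15 35 = [] ∧ chevE6.commTerms 29 34 = [] := by decide +kernel

theorem xE_add (φ : K →+* K) {r r' : ℕ} (hr : r < 72) (hr' : r' < 72) (h1 : r' ≠ r)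
    (h2 : r' ≠ chevE6.neg r) (h : chevE6.commTerms r r' = []) (e e' : ℤ) (t s : K) :
    xE φ r r' e e' t * xE φ r r' e e' s = xE φ r r' e e' (t + s) := by
  unfold xE
  rw [two_comm_add (a := XD chevE6 K r) (b := XD chevE6 K r') (XD_add hDE6 hr) (XD_add hDE6 hr')
    (XD_comm_of_nil hDE6 hr hr' h1 h2 h), map_add, mul_add, mul_add]

/-- the torus element `h_{S₀}(λ)` of `²E₆` -/
noncomputable def hE (φ : K →+* K) (l : Kˣ) : GL chevE6.Idx K :=
  torMap chevE6 K (tupCls chevE6 φ [0, 5] l)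

theorem chiT_E6_eq (c : Fin chevE6.rank → Kˣ) (s : ℕ) :
    chiT chevE6 c s = c ⟨0, by decide⟩ ^ chevE6.cartan 0 s * c ⟨1, by decide⟩ ^ chevE6.cartan 1 s *
      c ⟨2, by decide⟩ ^ chevE6.cartan 2 s * c ⟨3, by decide⟩ ^ chevE6.cartan 3 s *
      c ⟨4, by decide⟩ ^ chevE6.cartan 4 s * c ⟨5, by decide⟩ ^ chevE6.cartan 5 s := by
  unfold chiT
  exact Fin.prod_univ_six (fun i : Fin 6 => c i ^ chevE6.cartan i.val s)

theorem tupCls_E6_apply (φ : K →+* K) (b : Kˣ) :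
    tupCls chevE6 φ [0, 5] b ⟨0, by decide⟩ = b ∧ tupCls chevE6 φ [0, 5] b ⟨1, by decide⟩ = 1 ∧
      tupCls chevE6 φ [0, 5] b ⟨2, by decide⟩ = 1 ∧ tupCls chevE6 φ [0, 5] b ⟨3, by decide⟩ = 1 ∧
      tupCls chevE6 φ [0, 5] b ⟨4, by decide⟩ = 1 ∧
      tupCls chevE6 φ [0, 5] b ⟨5, by decide⟩ = Units.map (φ : K →* K) b := by
  simp [tupCls, mulSingleN]

set_option maxRecDepth 1000000 in
theorem e6_cartan_tg : chevE6.cartan 0 56 = 2 ∧ chevE6.cartan 5 56 = 0 ∧ chevE6.cartan 0 36 = 0 ∧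
    chevE6.cartan 5 36 = 2 ∧ chevE6.cartan 0 10 = -1 ∧ chevE6.cartan 5 10 = 0 ∧
    chevE6.cartan 0 22 = 0 ∧ chevE6.cartan 5 22 = -1 := by decide +kernel

theorem chiT_hE (φ : K →+* K) (l : Kˣ) (s : ℕ) :
    chiT chevE6 (tupCls chevE6 φ [0, 5] l) s =
      l ^ chevE6.cartan 0 s * (Units.map (φ : K →* K) l) ^ chevE6.cartan 5 s := by
  obtain ⟨e0, e1, e2, e3, e4, e5⟩ := tupCls_E6_apply φ l
  rw [chiT_E6_eq, e0, e1, e2, e3, e4, e5]
  simp

theorem tor_xE (φ : K →+* K) (l : Kˣ) (t : K) :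
    hE φ l * xE φ 56 36 1 1 t * (hE φ l)⁻¹ = xE φ 56 36 1 1 ((l : K) ^ 2 * t) := by
  obtain ⟨c1, c2, c3, c4, -⟩ := e6_cartan_tg
  unfold hE xE
  rw [conj_two, torMap_XD_conj hDE6 _ (by decide), torMap_XD_conj hDE6 _ (by decide), chiT_hE,
    chiT_hE, c1, c2, c3, c4]
  simp [map_mul, map_pow]

theorem tor_xE' (φ : K →+* K) (l : Kˣ) (t : K) :
    hE φ l * xE φ 10 22 (-1) 1 t * (hE φ l)⁻¹ = xE φ 10 22 (-1) 1 ((l : K)⁻¹ * t) := by
  obtain ⟨-, -, -, -, c1, c2, c3, c4⟩ := e6_cartan_tg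
  unfold hE xE
  rw [conj_two, torMap_XD_conj hDE6 _ (by decide), torMap_XD_conj hDE6 _ (by decide), chiT_hE,
    chiT_hE, c1, c2, c3, c4]
  simp [map_mul, map_inv₀]

theorem hE_comm_conj (φ : K →+* K) (l : Kˣ) :
    hE φ l * (cE K * hE φ l * (cE K)⁻¹) = (cE K * hE φ l * (cE K)⁻¹) * hE φ l := by
  unfold hE cE
  exact torMap_comm_conj hDE6 (by unfold cEL; decide) _ _

set_option maxRecDepth 1000000 in
theorem e6_ct_tg : chevE6.commTerms 56 9 = [(20, 1, 1, 1)] ∧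
    chevE6.commTerms 36 19 = [(20, -1, 1, 1)] ∧ chevE6.commTerms 56 19 = [] ∧
    chevE6.commTerms 36 9 = [] ∧ chevE6.commTerms 20 56 = [] ∧ chevE6.commTerms 20 36 = [] ∧
    chevE6.commTerms 20 19 = [] ∧ chevE6.commTerms 20 9 = [] := by decide +kernel

/-- the commutator of `x_{S}(t)` and `x_{c³S}(u)` is a long root element -/
theorem xE_comm (φ : K →+* K) (t u : K) :
    xE φ 19 9 (-1) 1 u * xE φ 56 36 1 1 t =
      xE φ 56 36 1 1 t * xE φ 19 9 (-1) 1 u * XD chevE6 K 20 (-(t * φ u + φ t * u)) := by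
  obtain ⟨h1, h2, h3, h4, n1, n2, n3, n4⟩ := e6_ct_tg
  have h20 : 20 < chevE6.nroots := by decide
  have C36 : ∀ a : K, CD chevE6 20 (XD chevE6 K 36 a) := fun a =>
    CD.of_nil hDE6 h20 (by decide) (by decide) (by decide) n2 a
  have C9 : ∀ a : K, CD chevE6 20 (XD chevE6 K 9 a) := fun a =>
    CD.of_nil hDE6 h20 (by decide) (by decide) (by decide) n4 a
  have hB : ∀ (r : ℕ) (a b1 b2 z1 z2 : K), RD chevE6 20 (XD chevE6 K 19 b1) (XD chevE6 K r a) z1 →
      RD chevE6 20 (XD chevE6 K 9 b2) (XD chevE6 K r a) z2 →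
      RD chevE6 20 (XD chevE6 K 19 b1 * XD chevE6 K 9 b2) (XD chevE6 K r a) (z1 + z2) :=
    fun r a b1 b2 z1 z2 e1 e2 => e1.mul_left hDE6 h20 e2 (C9 b2)
  have key : ∀ a1 a2 b1 b2 : K,
      RD chevE6 20 (XD chevE6 K 19 b1 * XD chevE6 K 9 b2) (XD chevE6 K 56 a1 * XD chevE6 K 36 a2)
        (0 + ((1 : ℤ) : K) * (-a1) * b2 + (((-1 : ℤ) : K) * (-a2) * b1 + 0)) := by
    intro a1 a2 b1 b2
    have e56 := hB 56 a1 b1 b2 _ _
      (RD.of_nil hDE6 h20 (by decide) (by decide) (by decide) (by decide) h3 a1 b1)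
      (RD.of_one hDE6 h20 (by decide) (by decide) (by decide) (by decide) h1 a1 b2)
    have e36 := hB 36 a2 b1 b2 _ _
      (RD.of_one hDE6 h20 (by decide) (by decide) (by decide) (by decide) h2 a2 b1)
      (RD.of_nil hDE6 h20 (by decide) (by decide) (by decide) (by decide) h4 a2 b2)
    exact e56.mul_right hDE6 h20 e36 (C36 a2)
  have := key ((1 : ℤ) * t) ((1 : ℤ) * φ t) ((-1 : ℤ) * u) ((1 : ℤ) * φ u)
  unfold RD at this
  unfold xE
  rw [this]
  congr 2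
  push_cast
  ring

end

end Cfsg.Agent.Lib.Helper8.Chev
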