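import Cfsg.Agent.Lib.Helper8.ChevTg10
import Cfsg.Agent.Lib.Helper8.ChevTg2

set_option autoImplicit false
set_option linter.unusedSimpArgs false
set_option linter.unusedSectionVars false
set_option linter.unnecessarySeqFocus false

namespace Cfsg.Agent.Lib.Helper8.Chev

open Cfsg.Lie Matrix

/-! ### `²E₆(q)` is generated by two elements -/

section

variable {K : Type*} [Field K]

theorem coe_wordE1 {r : ℕ} (hr : r < 72) (t : K) :
    ((XD chevE6 K r t : GL chevE6.Idx K) : Matrix chevE6.Idx chevE6.Idx K) =
      chevE6.wordMat K [(r, t)] := by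
  rw [coe_XD hDE6 hr]
  simp [ChevalleyDatum.wordMat]

theorem coe_wordE2 {r1 r2 : ℕ} (h1 : r1 < 72) (h2 : r2 < 72) (t1 t2 : K) :
    ((XD chevE6 K r1 t1 * XD chevE6 K r2 t2 : GL chevE6.Idx K) :
      Matrix chevE6.Idx chevE6.Idx K) = chevE6.wordMat K [(r1, t1), (r2, t2)] := by
  rw [Units.val_mul, coe_XD hDE6 h1, coe_XD hDE6 h2]
  simp [ChevalleyDatum.wordMat]

variable [Fintype K]

/-- the trace to the fixed field of `t ↦ t ^ q` is onto (degree two) -/
theorem trace_tg2 {q : ℕ} (hK : Fintype.card K = q ^ 2) {φ : K →+* K} (hφ : ∀ t, φ t = t ^ q)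
    (h2 : ∀ t, φ (φ t) = t) (s : K) (hs : φ s = s) :
    ∃ t : K, t + φ t = s := by
  classical
  have hq2 : 2 ≤ q := by
    by_contra h
    have hq : q = 0 ∨ q = 1 := by omega
    have h1 : 1 < Fintype.card K := Fintype.one_lt_card
    rcases hq with rfl | rfl
    · rw [hK] at h1
      simp at h1
    · rw [hK] at h1
      simp at h1
  have hex : ∃ t0 : K, t0 + φ t0 ≠ 0 := by
    by_contra hall
    push Not at hall
    let P : Polynomial K := Polynomial.X ^ q + Polynomial.X
    have hdeg : P.natDegree = q := by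
      show (Polynomial.X ^ q + Polynomial.X : Polynomial K).natDegree = _
      rw [Polynomial.natDegree_add_eq_left_of_natDegree_lt]
      · exact Polynomial.natDegree_X_pow _
      · rw [Polynomial.natDegree_X_pow, Polynomial.natDegree_X]
        omega
    have hP0 : P ≠ 0 := by
      intro h0
      rw [h0, Polynomial.natDegree_zero] at hdeg
      omega
    have hroots : (Finset.univ : Finset K).val ⊆ P.roots := by
      intro t _
      rw [Polynomial.mem_roots hP0, Polynomial.IsRoot]
      simp only [P, Polynomial.eval_add, Polynomial.eval_pow, Polynomial.eval_X]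
      have := hall t
      rw [hφ] at this
      rw [← this]
      ring
    have := Polynomial.card_le_degree_of_subset_roots hroots
    rw [hdeg, Finset.card_univ, hK] at this
    have : q < q ^ 2 := by nlinarith
    omega
  obtain ⟨t0, ht0⟩ := hex
  set T0 := t0 + φ t0 with hT0
  have hfix : φ T0 = T0 := by
    rw [hT0, map_add, h2]
    ring
  refine ⟨s / T0 * t0, ?_⟩
  have e1 : φ (s / T0 * t0) = s / T0 * φ t0 := by
    rw [map_mul, map_div₀, hs, hfix]
  rw [e1, ← mul_add, ← hT0, div_mul_cancel₀ _ ht0]

theorem twE6_two_gen {q : ℕ} (hq : IsPrimePow q) (hK : Fintype.card K = q ^ 2) :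
    ∃ a b : ↥(twistedE6 K q), Subgroup.closure ({a, b} : Set ↥(twistedE6 K q)) = ⊤ := by
  classical
  obtain ⟨φ, hφ, h2, X⟩ := exists_twGrp_E6 hq hK
  have hq2 : 2 ≤ q := hq.two_le
  obtain ⟨l, hl⟩ := IsCyclic.exists_generator (α := Kˣ)
  have hord : orderOf l = q ^ 2 - 1 := by
    rw [orderOf_eq_card_of_forall_mem_zpowers hl, Nat.card_eq_fintype_card, Fintype.card_units, hK]
  have hq4 : 4 ≤ q ^ 2 := by
    calc 4 = 2 ^ 2 := by norm_num
      _ ≤ q ^ 2 := Nat.pow_le_pow_left hq2 2
  -- membership in the twisted group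
  have hhm : hE φ l ∈ twistedE6 K q := by
    apply X.torMap_tupCls_mem (J := [0, 5]) (by simp [clsE6]) l
    show φ (φ (l : K)) = l
    exact h2 _
  have hcm : cE K ∈ twistedE6 K q := by
    have e : cE K = nP chevE6 K [1] * nP chevE6 K [3] * nP chevE6 K [2, 4] * nP chevE6 K [0, 5] := by
      unfold cE cEL
      rw [← nP_append, ← nP_append, ← nP_append]
      rfl
    rw [e]
    exact mul_mem (mul_mem (mul_mem (X.nP_cls_mem' (by simp [clsE6]))
      (X.nP_cls_mem' (by simp [clsE6]))) (X.nP_cls_mem' (by simp [clsE6])))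
      (X.nP_cls_mem' (by simp [clsE6]))
  have hxm : ∀ t, xE φ 56 36 1 1 t ∈ twistedE6 K q := by
    intro t
    apply Subgroup.subset_closure
    refine ⟨[(56, t), (36, t ^ q)], ?_, ?_⟩
    · right
      exact ⟨t, (e6p1, e6p6), by simp, rfl⟩
    · unfold xE
      rw [coe_wordE2 (by decide) (by decide), hφ]
      simp
  have hym : cE K * xE φ 56 36 1 1 1 ∈ twistedE6 K q := mul_mem hcm (hxm 1)
  -- the subgroup generated by the two elements
  set L : Subgroup (GL chevE6.Idx K) := Subgroup.closure {hE φ l, cE K * xE φ 56 36 1 1 1} with hL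
  have hhL : hE φ l ∈ L := Subgroup.subset_closure (by simp)
  have hyL : cE K * xE φ 56 36 1 1 1 ∈ L := Subgroup.subset_closure (by simp)
  have hα : (l : K) ^ 2 ≠ 1 := by
    intro h
    have h' : l ^ 2 = 1 := by
      apply Units.ext
      rw [Units.val_pow_eq_pow_val, h, Units.val_one]
    have := orderOf_dvd_of_pow_eq_one h'
    rw [hord] at this
    have := Nat.le_of_dvd (by norm_num) this
    omega
  have hμ : (l : K)⁻¹ ≠ 1 := by
    intro h
    have h' : l ^ 1 = 1 := by
      apply Units.ext
      rw [pow_one, Units.val_one]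
      exact inv_eq_one.mp h
    have := orderOf_dvd_of_pow_eq_one h'
    rw [hord] at this
    have := Nat.le_of_dvd (by norm_num) this
    omega
  have hgen : ∀ t : K, t ≠ 0 → ∃ j : ℕ, t = ((l : K)⁻¹) ^ j := by
    intro t ht
    have hmem : Units.mk0 t ht ∈ Subgroup.zpowers l⁻¹ := by
      rw [Subgroup.zpowers_inv]
      exact hl _
    rw [← mem_powers_iff_mem_zpowers] at hmem
    obtain ⟨j, hj⟩ := hmem
    refine ⟨j, ?_⟩
    have := congrArg (fun u : Kˣ => (u : K)) hj
    simp only [Units.val_pow_eq_pow_val, Units.val_mk0, Units.val_inv_eq_inv_val] at this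
    exact this.symm
  obtain ⟨n1, n2, n3, n4⟩ := e6_nil_tg
  obtain ⟨hcL, hxL, hxL'⟩ := two_gen_trick (x := xE φ 56 36 1 1) (x' := xE φ 10 22 (-1) 1)
    (h := hE φ l) (c := cE K)
    (xE_add φ (by decide) (by decide) (by decide) (by decide) n1 1 1)
    (xE_add φ (by decide) (by decide) (by decide) (by decide) n2 (-1) 1)
    (cE1_xE φ) (tor_xE φ l) (tor_xE' φ l) (hE_comm_conj φ l) hα hμ hgen L hhL hyL
  have hcpL : ∀ k : ℕ, cE K ^ k ∈ L := fun k => pow_mem hcL k
  have hconj : ∀ (k : ℕ) (g : GL chevE6.Idx K), g ∈ L → cE K ^ k * g * (cE K ^ k)⁻¹ ∈ L :=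
    fun k g hg => mul_mem (mul_mem (hcpL k) hg) (inv_mem (hcpL k))
  -- the long root groups
  have h20L : ∀ s : K, φ s = s → XD chevE6 K 20 s ∈ L := by
    intro s hs
    obtain ⟨w, hw⟩ := trace_tg2 hK hφ h2 (-s) (by rw [map_neg, hs])
    have e := xE_comm φ w 1
    rw [map_one, mul_one, mul_one, hw, neg_neg] at e
    have e2 : XD chevE6 K 20 s =
        (xE φ 56 36 1 1 w * xE φ 19 9 (-1) 1 1)⁻¹ * (xE φ 19 9 (-1) 1 1 * xE φ 56 36 1 1 w) := by
      rw [e]
      group
    have h3L : xE φ 19 9 (-1) 1 1 ∈ L := by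
      rw [← cE3_xE]
      exact hconj 3 _ (hxL 1)
    rw [e2]
    exact mul_mem (inv_mem (mul_mem (hxL w) h3L)) (mul_mem h3L (hxL w))
  -- the twisted group is contained in `L`
  have hle : twistedE6 K q ≤ L := by
    unfold twistedE6 ChevalleyDatum.genSubgroup
    rw [Subgroup.closure_le]
    rintro g ⟨w, hw, hg⟩
    rcases hw with ⟨t, ht, r, hr, rfl⟩ | ⟨t, rs, hrs, rfl⟩
    · have hft : φ t = t := by rw [hφ, ht]
      have hft' : φ (-t) = -t := by rw [map_neg, hft]
      simp only [List.mem_cons, List.not_mem_nil, or_false] at hr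
      rcases hr with rfl | rfl | rfl | rfl
      · have : g = XD chevE6 K 46 t := by
          apply Units.ext
          rw [hg, coe_wordE1 (by decide)]
          rfl
        rw [this, ← cE4_X20]
        exact hconj 4 _ (h20L t hft)
      · have : g = XD chevE6 K 25 t := by
          apply Units.ext
          rw [hg, coe_wordE1 (by decide)]
          rfl
        have e := cE10_X20 (K := K) (-t)
        rw [neg_neg] at e
        rw [this, ← e]
        exact hconj 10 _ (h20L _ hft')
      · have : g = XD chevE6 K 39 t := by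
          apply Units.ext
          rw [hg, coe_wordE1 (by decide)]
          rfl
        rw [this, ← cE5_X20]
        exact hconj 5 _ (h20L t hft)
      · have : g = XD chevE6 K 32 t := by
          apply Units.ext
          rw [hg, coe_wordE1 (by decide)]
          rfl
        have e := cE11_X20 (K := K) (-t)
        rw [neg_neg] at e
        rw [this, ← e]
        exact hconj 11 _ (h20L _ hft')
    · simp only [List.mem_cons, List.not_mem_nil, or_false] at hrs
      rcases hrs with rfl | rfl | rfl | rfl
      · have : g = xE φ 56 36 1 1 t := by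
          apply Units.ext
          unfold xE
          rw [hg, coe_wordE2 (by decide) (by decide), hφ]
          simp
          rfl
        rw [this]
        exact hxL t
      · -- `(e6m1, e6m6) = (15, 35)`
        have : g = xE φ 35 15 (-1) (-1) (-(φ t)) := by
          apply Units.ext
          unfold xE
          rw [hg, XD_comm_of_nil hDE6 (by decide) (by decide) (by decide) (by decide) n3,
            coe_wordE2 (by decide) (by decide), map_neg, h2, hφ]
          simp
          rfl
        rw [this, ← cE6_xE]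
        exact hconj 6 _ (hxL _)
      · have : g = xE φ 42 37 1 1 t := by
          apply Units.ext
          unfold xE
          rw [hg, coe_wordE2 (by decide) (by decide), hφ]
          simp
          rfl
        rw [this, ← cE11_xE]
        exact hconj 11 _ (hxL _)
      · -- `(e6m3, e6m5) = (29, 34)`
        have : g = xE φ 34 29 (-1) (-1) (-(φ t)) := by
          apply Units.ext
          unfold xE
          rw [hg, XD_comm_of_nil hDE6 (by decide) (by decide) (by decide) (by decide) n4,
            coe_wordE2 (by decide) (by decide), map_neg, h2, hφ]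
          simp
          rfl
        rw [this, ← cE5_xE]
        exact hconj 5 _ (hxL _)
  refine ⟨⟨hE φ l, hhm⟩, ⟨cE K * xE φ 56 36 1 1 1, hym⟩, ?_⟩
  rw [eq_top_iff]
  intro x _
  have hxL0 : (x : GL chevE6.Idx K) ∈ L := hle x.2
  have hmap : (Subgroup.closure ({⟨hE φ l, hhm⟩, ⟨cE K * xE φ 56 36 1 1 1, hym⟩} :
      Set ↥(twistedE6 K q))).map (twistedE6 K q).subtype = L := by
    rw [MonoidHom.map_closure, hL]
    congr 1
    ext z
    simp [Set.image_insert_eq]
  rw [← hmap] at hxL0
  obtain ⟨x', hx', e⟩ := hxL0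
  have : x' = x := Subtype.ext e
  rw [← this]
  exact hx'

end

end Cfsg.Agent.Lib.Helper8.Chev
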