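import Mathlib

set_option autoImplicit false

namespace Cfsg.Agent.Lib.Helper8.Chev

/-! ### Finite field facts for the two-generation of `³D₄(q)` -/

section

theorem coprime_tg (q : ℕ) (hq : 1 ≤ q) : Nat.Coprime (q ^ 2 + q - 1) (q ^ 3 - 1) := by
  have h1 : 1 ≤ q ^ 2 + q := by nlinarith
  have h3 : 1 ≤ q ^ 3 := Nat.one_le_pow _ _ hq
  set d := Nat.gcd (q ^ 2 + q - 1) (q ^ 3 - 1) with hd
  have hdn : (d : ℤ) ∣ ((q ^ 2 + q - 1 : ℕ) : ℤ) := Int.natCast_dvd_natCast.mpr (Nat.gcd_dvd_left _ _)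
  have hdm : (d : ℤ) ∣ ((q ^ 3 - 1 : ℕ) : ℤ) := Int.natCast_dvd_natCast.mpr (Nat.gcd_dvd_right _ _)
  rw [Nat.cast_sub h1] at hdn
  rw [Nat.cast_sub h3] at hdm
  push_cast at hdn hdm
  have h2 : (d : ℤ) ∣ 2 := by
    have e : (2 : ℤ) = (2 + ((q : ℤ) + 2) * ((q : ℤ) - 1)) * ((q : ℤ) ^ 2 + q - 1) -
        ((q : ℤ) + 2) * ((q : ℤ) ^ 3 - 1) := by ring
    rw [e]
    exact dvd_sub (Dvd.dvd.mul_left hdn _) (Dvd.dvd.mul_left hdm _)
  have h2' : d ∣ 2 := by exact_mod_cast h2
  have hodd : ¬ 2 ∣ (q ^ 2 + q - 1) := by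
    have hev : Even (q * (q + 1)) := Nat.even_mul_succ_self q
    obtain ⟨k, hk⟩ := hev
    have : q ^ 2 + q = k + k := by rw [← hk]; ring
    omega
  have hdle : d ≤ 2 := Nat.le_of_dvd (by norm_num) h2'
  have hd0 : d ≠ 0 := by
    intro h0
    rw [h0] at h2'
    simp at h2'
  have hd2 : d ≠ 2 := by
    intro h
    apply hodd
    have h4 : d ∣ q ^ 2 + q - 1 := Nat.gcd_dvd_left _ _
    rw [h] at h4
    exact h4
  show d = 1
  omega

variable {K : Type*} [Field K] [Fintype K]

/-- `μ = λ ^ (q² + q - 1)` is again a generator of the multiplicative group -/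
theorem gen_tg {q : ℕ} (hK : Fintype.card K = q ^ 3) {l : Kˣ}
    (hl : ∀ u : Kˣ, u ∈ Subgroup.zpowers l) (t : K) (ht : t ≠ 0) :
    ∃ j : ℕ, t = ((l ^ (q ^ 2 + q - 1) : Kˣ) : K) ^ j := by
  classical
  have hq1 : 1 ≤ q := by
    rcases Nat.eq_zero_or_pos q with h | h
    · subst h
      have : 0 < Fintype.card K := Fintype.card_pos
      rw [hK] at this
      simp at this
    · exact h
  have hord : orderOf l = q ^ 3 - 1 := by
    rw [orderOf_eq_card_of_forall_mem_zpowers hl, Nat.card_eq_fintype_card, Fintype.card_units, hK]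
  have hord' : orderOf (l ^ (q ^ 2 + q - 1)) = q ^ 3 - 1 := by
    rw [Nat.Coprime.orderOf_pow, hord]
    rw [hord]
    exact (coprime_tg q hq1).symm
  have hcard : Nat.card Kˣ = q ^ 3 - 1 := by
    rw [Nat.card_eq_fintype_card, Fintype.card_units, hK]
  have htop : Subgroup.zpowers (l ^ (q ^ 2 + q - 1)) = ⊤ := by
    apply Subgroup.eq_top_of_card_eq
    rw [Nat.card_zpowers, hord', hcard]
  have hmem : Units.mk0 t ht ∈ Subgroup.zpowers (l ^ (q ^ 2 + q - 1)) := by
    rw [htop]
    exact Subgroup.mem_top _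
  rw [← mem_powers_iff_mem_zpowers] at hmem
  obtain ⟨j, hj⟩ := hmem
  refine ⟨j, ?_⟩
  have := congrArg (fun u : Kˣ => (u : K)) hj
  simp only [Units.val_pow_eq_pow_val, Units.val_mk0] at this
  rw [← this]
  simp

/-- the trace to the fixed field of `t ↦ t ^ q` is onto -/
theorem trace_tg {q : ℕ} (hK : Fintype.card K = q ^ 3) {φ : K →+* K} (hφ : ∀ t, φ t = t ^ q)
    (h3 : ∀ t, φ (φ (φ t)) = t) (s : K) (hs : φ s = s) :
    ∃ t : K, t + φ t + φ (φ t) = s := by
  classical
  have hq2 : 2 ≤ q := by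
    by_contra h
    have hq : q = 0 ∨ q = 1 := by omega
    have h1 : 1 < Fintype.card K := Fintype.one_lt_card
    rcases hq with rfl | rfl
    · rw [hK] at h1
      simp at h1
    · rw [hK] at h1
      simp at h1
  have hex : ∃ t0 : K, t0 + φ t0 + φ (φ t0) ≠ 0 := by
    by_contra hall
    push Not at hall
    let P : Polynomial K := Polynomial.X ^ (q ^ 2) + Polynomial.X ^ q + Polynomial.X
    have hqq : q < q ^ 2 := by nlinarith
    have hdeg : P.natDegree = q ^ 2 := by
      have e1 : (Polynomial.X ^ q + Polynomial.X : Polynomial K).natDegree < q ^ 2 := by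
        refine lt_of_le_of_lt (Polynomial.natDegree_add_le _ _) ?_
        rw [Polynomial.natDegree_X_pow, Polynomial.natDegree_X]
        exact max_lt hqq (by omega)
      show (Polynomial.X ^ (q ^ 2) + Polynomial.X ^ q + Polynomial.X : Polynomial K).natDegree = _
      rw [add_assoc, Polynomial.natDegree_add_eq_left_of_natDegree_lt]
      · exact Polynomial.natDegree_X_pow _
      · rw [Polynomial.natDegree_X_pow]
        exact e1
    have hP0 : P ≠ 0 := by
      intro h0
      rw [h0, Polynomial.natDegree_zero] at hdeg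
      have : 0 < q ^ 2 := by positivity
      omega
    have hroots : (Finset.univ : Finset K).val ⊆ P.roots := by
      intro t _
      rw [Polynomial.mem_roots hP0, Polynomial.IsRoot]
      simp only [P, Polynomial.eval_add, Polynomial.eval_pow, Polynomial.eval_X]
      have := hall t
      rw [hφ, hφ, ← pow_mul, ← sq] at this
      rw [← this]
      ring
    have := Polynomial.card_le_degree_of_subset_roots hroots
    rw [hdeg, Finset.card_univ, hK] at this
    have : q ^ 2 < q ^ 3 := by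
      have : q ^ 3 = q * q ^ 2 := by ring
      nlinarith [Nat.pos_of_ne_zero (by omega : q ^ 2 ≠ 0)]
    omega
  obtain ⟨t0, ht0⟩ := hex
  set T0 := t0 + φ t0 + φ (φ t0) with hT0
  have hfix : φ T0 = T0 := by
    rw [hT0, map_add, map_add, h3]
    ring
  refine ⟨s / T0 * t0, ?_⟩
  have e1 : φ (s / T0 * t0) = s / T0 * φ t0 := by
    rw [map_mul, map_div₀, hs, hfix]
  have e2 : φ (φ (s / T0 * t0)) = s / T0 * φ (φ t0) := by
    rw [e1, map_mul, map_div₀, hs, hfix]
  rw [e2, e1, ← mul_add, ← mul_add, ← hT0, div_mul_cancel₀ _ ht0]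

end

end Cfsg.Agent.Lib.Helper8.Chev
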