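import Cfsg.Agent.Lib.Helper8.ChevTg1

set_option autoImplicit false
set_option linter.unusedSimpArgs false
set_option linter.unusedSectionVars false
set_option linter.unnecessarySeqFocus false

namespace Cfsg.Agent.Lib.Helper8.Chev

open Cfsg.Lie Matrix

/-! ### The short root elements `x_a(t)` and `x_{-(a+b)}(t)` of `³D₄`, any characteristic -/

section

variable {K : Type*} [Field K]

/-- the element `x_a(t)` -/
noncomputable def xA (φ : K →+* K) (t : K) : GL chevD4.Idx K :=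
  X4 K 18 t * X4 K 13 (φ t) * X4 K 12 (φ (φ t))

/-- the element `x_{-(a+b)}(t)`, the conjugate of `x_a(t)` under the twisted Coxeter element -/
noncomputable def xA' (φ : K →+* K) (t : K) : GL chevD4.Idx K :=
  X4 K 4 (-t) * X4 K 7 (φ t) * X4 K 8 (φ (φ t))

/-- the element `x_{-a}(-t)` -/
noncomputable def xAm (φ : K →+* K) (t : K) : GL chevD4.Idx K :=
  X4 K 5 (-t) * X4 K 10 (-φ t) * X4 K 11 (-φ (φ t))

/-- the twisted Coxeter element -/
noncomputable def cTg (K : Type*) [Field K] : GL chevD4.Idx K := nP chevD4 K [1, 0, 2, 3]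

set_option maxRecDepth 100000 in
theorem d4_nil_tg : chevD4.commTerms 18 13 = [] ∧ chevD4.commTerms 18 12 = [] ∧
    chevD4.commTerms 13 12 = [] ∧ chevD4.commTerms 4 7 = [] ∧ chevD4.commTerms 4 8 = [] ∧
    chevD4.commTerms 7 8 = [] := by decide +kernel

theorem three_comm_add {G : Type*} [Group G] {a b c : K → G}
    (ha : ∀ t s, a t * a s = a (t + s)) (hb : ∀ t s, b t * b s = b (t + s))
    (hc : ∀ t s, c t * c s = c (t + s)) (hab : ∀ t s, b s * a t = a t * b s)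
    (hac : ∀ t s, c s * a t = a t * c s) (hbc : ∀ t s, c s * b t = b t * c s)
    (t1 t2 t3 s1 s2 s3 : K) :
    (a t1 * b t2 * c t3) * (a s1 * b s2 * c s3) = a (t1 + s1) * b (t2 + s2) * c (t3 + s3) := by
  rw [← ha, ← hb, ← hc]
  calc a t1 * b t2 * c t3 * (a s1 * b s2 * c s3)
      = a t1 * b t2 * (c t3 * a s1) * b s2 * c s3 := by group
    _ = a t1 * b t2 * (a s1 * c t3) * b s2 * c s3 := by rw [hac]
    _ = a t1 * (b t2 * a s1) * (c t3 * b s2) * c s3 := by group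
    _ = a t1 * (a s1 * b t2) * (b s2 * c t3) * c s3 := by rw [hab, hbc]
    _ = a t1 * a s1 * (b t2 * b s2) * (c t3 * c s3) := by group

theorem xA_add (φ : K →+* K) (t s : K) : xA φ t * xA φ s = xA φ (t + s) := by
  obtain ⟨n1, n2, n3, -⟩ := d4_nil_tg
  unfold xA
  rw [three_comm_add (a := X4 K 18) (b := X4 K 13) (c := X4 K 12)
    (X4_add (by decide)) (X4_add (by decide)) (X4_add (by decide))
    (X4_comm_of_nil (by decide) (by decide) (by decide) (by decide) n1)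
    (X4_comm_of_nil (by decide) (by decide) (by decide) (by decide) n2)
    (X4_comm_of_nil (by decide) (by decide) (by decide) (by decide) n3)]
  simp only [map_add]

theorem xA'_add (φ : K →+* K) (t s : K) : xA' φ t * xA' φ s = xA' φ (t + s) := by
  obtain ⟨-, -, -, n1, n2, n3⟩ := d4_nil_tg
  unfold xA'
  rw [three_comm_add (a := X4 K 4) (b := X4 K 7) (c := X4 K 8)
    (X4_add (by decide)) (X4_add (by decide)) (X4_add (by decide))
    (X4_comm_of_nil (by decide) (by decide) (by decide) (by decide) n1)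
    (X4_comm_of_nil (by decide) (by decide) (by decide) (by decide) n2)
    (X4_comm_of_nil (by decide) (by decide) (by decide) (by decide) n3)]
  simp only [map_add, neg_add]

set_option maxRecDepth 100000 in
theorem d4_c1_vals : reflWord chevD4 [1, 0, 2, 3] 18 = 4 ∧ reflWord chevD4 [1, 0, 2, 3] 13 = 7 ∧
    reflWord chevD4 [1, 0, 2, 3] 12 = 8 ∧ etaW chevD4 [1, 0, 2, 3] 18 = -1 ∧
    etaW chevD4 [1, 0, 2, 3] 13 = 1 ∧ etaW chevD4 [1, 0, 2, 3] 12 = 1 := by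
  decide +kernel

set_option maxRecDepth 100000 in
theorem d4_c3_vals :
    reflWord chevD4 [1, 0, 2, 3, 1, 0, 2, 3, 1, 0, 2, 3] 18 = 5 ∧
    reflWord chevD4 [1, 0, 2, 3, 1, 0, 2, 3, 1, 0, 2, 3] 13 = 10 ∧
    reflWord chevD4 [1, 0, 2, 3, 1, 0, 2, 3, 1, 0, 2, 3] 12 = 11 ∧
    reflWord chevD4 [1, 0, 2, 3, 1, 0, 2, 3, 1, 0, 2, 3] 9 = 14 ∧
    etaW chevD4 [1, 0, 2, 3, 1, 0, 2, 3, 1, 0, 2, 3] 18 = -1 ∧
    etaW chevD4 [1, 0, 2, 3, 1, 0, 2, 3, 1, 0, 2, 3] 13 = -1 ∧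
    etaW chevD4 [1, 0, 2, 3, 1, 0, 2, 3, 1, 0, 2, 3] 12 = -1 ∧
    etaW chevD4 [1, 0, 2, 3, 1, 0, 2, 3, 1, 0, 2, 3] 9 = -1 := by
  decide +kernel

theorem l1023_lt : ∀ i ∈ [1, 0, 2, 3], i < 4 := by decide
theorem l1023c_lt : ∀ i ∈ [1, 0, 2, 3, 1, 0, 2, 3, 1, 0, 2, 3], i < 4 := by decide

theorem conj_three {G : Type*} [Group G] (c x y z : G) :
    c * (x * y * z) * c⁻¹ = (c * x * c⁻¹) * (c * y * c⁻¹) * (c * z * c⁻¹) := by group

theorem cTg_xA (φ : K →+* K) (t : K) : cTg K * xA φ t * (cTg K)⁻¹ = xA' φ t := by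
  obtain ⟨r1, r2, r3, e1, e2, e3⟩ := d4_c1_vals
  unfold cTg xA xA'
  rw [conj_three, nP_X4g_conj l1023_lt (by decide), nP_X4g_conj l1023_lt (by decide),
    nP_X4g_conj l1023_lt (by decide), r1, r2, r3, e1, e2, e3]
  simp

theorem cTg_cube : cTg K * cTg K * cTg K = nP chevD4 K [1, 0, 2, 3, 1, 0, 2, 3, 1, 0, 2, 3] := by
  unfold cTg
  rw [← nP_append, ← nP_append]
  rfl

theorem cTg3_xA (φ : K →+* K) (t : K) :
    (cTg K * cTg K * cTg K) * xA φ t * (cTg K * cTg K * cTg K)⁻¹ = xAm φ t := by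
  obtain ⟨r1, r2, r3, -, e1, e2, e3, -⟩ := d4_c3_vals
  rw [cTg_cube]
  unfold xA xAm
  rw [conj_three, nP_X4g_conj l1023c_lt (by decide), nP_X4g_conj l1023c_lt (by decide),
    nP_X4g_conj l1023c_lt (by decide), r1, r2, r3, e1, e2, e3]
  simp

theorem cTg3_X9 (s : K) :
    (cTg K * cTg K * cTg K) * X4 K 9 s * (cTg K * cTg K * cTg K)⁻¹ = X4 K 14 (-s) := by
  obtain ⟨-, -, -, r1, -, -, -, e1⟩ := d4_c3_vals
  rw [cTg_cube, nP_X4g_conj l1023c_lt (by decide), r1, e1]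
  simp

end

end Cfsg.Agent.Lib.Helper8.Chev
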