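import Cfsg.Agent.Lib.Helper8.ChevTg4

set_option autoImplicit false
set_option linter.unusedSimpArgs false
set_option linter.unusedSectionVars false
set_option linter.unnecessarySeqFocus false

namespace Cfsg.Agent.Lib.Helper8.Chev

open Cfsg.Lie Matrix

/-! ### The torus element `h_a(λ)` of `³D₄` and its action on `x_a`, `x_{-(a+b)}` -/

section

variable {K : Type*} [Field K]

/-- the torus element `h_a(λ)` -/
noncomputable def hTg (φ : K →+* K) (l : Kˣ) : GL chevD4.Idx K :=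
  torMap chevD4 K (tupCls chevD4 φ [0, 2, 3] l)

theorem torMap_X4_conj (c : Fin chevD4.rank → Kˣ) {r : ℕ} (hr : r < 24) (t : K) :
    torMap chevD4 K c * X4 K r t * (torMap chevD4 K c)⁻¹ =
      X4 K r ((chiT chevD4 c r : Kˣ) * t) := by
  rw [torMap_X4 c hr, mul_assoc, mul_inv_cancel, mul_one]

theorem tor_xA (φ : K →+* K) (l : Kˣ) (t : K) :
    hTg φ l * xA φ t * (hTg φ l)⁻¹ = xA φ ((l : K) ^ 2 * t) := by
  unfold hTg xA
  rw [conj_three, torMap_X4_conj _ (by decide), torMap_X4_conj _ (by decide),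
    torMap_X4_conj _ (by decide), chiT_a_18, chiT_a_13, chiT_a_12]
  simp [map_mul, map_pow]

set_option maxRecDepth 100000 in
theorem d4_cartan_tg : chevD4.cartan 0 4 = -1 ∧ chevD4.cartan 1 4 = -1 ∧ chevD4.cartan 2 4 = 1 ∧
    chevD4.cartan 3 4 = 1 ∧ chevD4.cartan 0 7 = 1 ∧ chevD4.cartan 1 7 = -1 ∧
    chevD4.cartan 2 7 = -1 ∧ chevD4.cartan 3 7 = 1 ∧ chevD4.cartan 0 8 = 1 ∧
    chevD4.cartan 1 8 = -1 ∧ chevD4.cartan 2 8 = 1 ∧ chevD4.cartan 3 8 = -1 := by decide +kernel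

theorem chiT_tg_4 (φ : K →+* K) (l : Kˣ) :
    chiT chevD4 (tupCls chevD4 φ [0, 2, 3] l) 4 =
      l⁻¹ * Units.map (φ : K →* K) l * Units.map (φ : K →* K) (Units.map (φ : K →* K) l) := by
  obtain ⟨e0, e1, e2, e3⟩ := tupCls_a_apply φ l
  obtain ⟨c0, c1, c2, c3, -⟩ := d4_cartan_tg
  rw [chiT_D4_eq, e0, e1, e2, e3, c0, c1, c2, c3]
  simp

theorem chiT_tg_7 (φ : K →+* K) (l : Kˣ) :
    chiT chevD4 (tupCls chevD4 φ [0, 2, 3] l) 7 =
      l * (Units.map (φ : K →* K) l)⁻¹ * Units.map (φ : K →* K) (Units.map (φ : K →* K) l) := by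
  obtain ⟨e0, e1, e2, e3⟩ := tupCls_a_apply φ l
  obtain ⟨-, -, -, -, c0, c1, c2, c3, -⟩ := d4_cartan_tg
  rw [chiT_D4_eq, e0, e1, e2, e3, c0, c1, c2, c3]
  simp

theorem chiT_tg_8 (φ : K →+* K) (l : Kˣ) :
    chiT chevD4 (tupCls chevD4 φ [0, 2, 3] l) 8 =
      l * Units.map (φ : K →* K) l * (Units.map (φ : K →* K) (Units.map (φ : K →* K) l))⁻¹ := by
  obtain ⟨e0, e1, e2, e3⟩ := tupCls_a_apply φ l
  obtain ⟨-, -, -, -, -, -, -, -, c0, c1, c2, c3⟩ := d4_cartan_tg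
  rw [chiT_D4_eq, e0, e1, e2, e3, c0, c1, c2, c3]
  simp

/-- the scalar through which `h_a(λ)` acts on `x_{-(a+b)}` -/
noncomputable def muTg (φ : K →+* K) (l : Kˣ) : K := (l : K)⁻¹ * φ l * φ (φ l)

theorem tor_xA' {φ : K →+* K} (h3 : ∀ t, φ (φ (φ t)) = t) (l : Kˣ) (t : K) :
    hTg φ l * xA' φ t * (hTg φ l)⁻¹ = xA' φ (muTg φ l * t) := by
  unfold hTg xA' muTg
  rw [conj_three, torMap_X4_conj _ (by decide), torMap_X4_conj _ (by decide),
    torMap_X4_conj _ (by decide), chiT_tg_4, chiT_tg_7, chiT_tg_8]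
  have e1 : ((l⁻¹ * Units.map (φ : K →* K) l * Units.map (φ : K →* K) (Units.map (φ : K →* K) l) :
      Kˣ) : K) * -t = -((l : K)⁻¹ * φ l * φ (φ l) * t) := by
    simp
  have e2 : ((l * (Units.map (φ : K →* K) l)⁻¹ * Units.map (φ : K →* K) (Units.map (φ : K →* K) l) :
      Kˣ) : K) * φ t = φ ((l : K)⁻¹ * φ l * φ (φ l) * t) := by
    simp only [Units.val_mul, Units.val_inv_eq_inv_val, Units.coe_map, MonoidHom.coe_coe, map_mul,
      map_inv₀, h3]
    ring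
  have e3 : ((l * Units.map (φ : K →* K) l * (Units.map (φ : K →* K) (Units.map (φ : K →* K) l))⁻¹ :
      Kˣ) : K) * φ (φ t) = φ (φ ((l : K)⁻¹ * φ l * φ (φ l) * t)) := by
    simp only [Units.val_mul, Units.val_inv_eq_inv_val, Units.coe_map, MonoidHom.coe_coe, map_mul,
      map_inv₀, h3]
    ring
  rw [e1, e2, e3]

theorem muTg_eq {φ : K →+* K} {q : ℕ} (hq1 : 1 ≤ q) (hφ : ∀ t, φ t = t ^ q) (l : Kˣ) :
    muTg φ l = ((l ^ (q ^ 2 + q - 1) : Kˣ) : K) := by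
  unfold muTg
  have hl : (l : K) ≠ 0 := Units.ne_zero l
  rw [hφ, hφ, Units.val_pow_eq_pow_val]
  apply mul_right_cancel₀ hl
  rw [← pow_succ]
  have : q ^ 2 + q - 1 + 1 = q + q * q := by
    have : 1 ≤ q ^ 2 + q := by nlinarith
    rw [Nat.sub_add_cancel this]
    ring
  rw [this, pow_add, pow_mul]
  field_simp

/-- the conjugate of `h_a(λ)` under the Coxeter element commutes with `h_a(λ)` -/
theorem hTg_comm_conj (φ : K →+* K) (l : Kˣ) :
    hTg φ l * (cTg K * hTg φ l * (cTg K)⁻¹) = (cTg K * hTg φ l * (cTg K)⁻¹) * hTg φ l := by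
  have J := validJ_of_mem hDD4
  have V1 := valid1_of_mem hDD4
  have H := validH_of_mem hDD4
  have hI := checkInv_of_mem hDD4
  have hn : cTg K ∈ Subgroup.normalizer (chevD4.diagonalSubgroup K : Set (GL chevD4.Idx K)) :=
    N0_le_normalizer J V1 H hI (nP_mem_N0 l1023_lt)
  have hh : hTg φ l ∈ chevD4.diagonalSubgroup K := torMap_mem J H _
  have hc : cTg K * hTg φ l * (cTg K)⁻¹ ∈ chevD4.diagonalSubgroup K :=
    (Subgroup.mem_normalizer_iff.mp hn _).mp hh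
  rw [diagonal_eq_range J V1 H] at hc
  obtain ⟨T', hT'⟩ := hc
  rw [← hT']
  unfold hTg
  rw [← map_mul, ← map_mul, mul_comm]

end

end Cfsg.Agent.Lib.Helper8.Chev
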