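import Cfsg.Agent.Lib.Helper8.ChevTg5

set_option autoImplicit false
set_option linter.unusedSimpArgs false
set_option linter.unusedSectionVars false
set_option linter.unnecessarySeqFocus false

namespace Cfsg.Agent.Lib.Helper8.Chev

open Cfsg.Lie Matrix

/-! ### The commutator `[x_a(t), x_{-(a+b)}(u)] = x_{-b}(Tr(tu))` in `³D₄`, any characteristic -/

section

variable {F : Type*} [Field F]

/-- the commutator of two root elements of `D₄` whose roots add up to a root `k` -/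
theorem X4_rel_oneg {r s k : ℕ} (hr : r < 24) (hs : s < 24) (hk : k < 24) (h1 : s ≠ r)
    (h2 : s ≠ chevD4.neg r) {c : ℤ}
    (h : chevD4.commTerms r s = [(k, c, 1, 1)]) (t u : F) :
    X4 F s u * X4 F r t = X4 F r t * (X4 F s u * X4 F k ((c : F) * (-t) * u)) := by
  rw [X4_rel_word hr hs h1 h2 t u [(k, (c : F) * (-t) * u)] ?_ (by simpa using hk)]
  · rw [wG4_cons hk _ _ (by simp), wG4_nil, mul_one]
  · unfold ChevalleyDatum.commWord
    rw [h]
    simp only [List.map_cons, List.map_nil, pow_one]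

/-- `B A = A B x₉(z)` -/
def R9 (B A : GL chevD4.Idx F) (z : F) : Prop := B * A = A * B * X4 F 9 z

/-- `g` commutes with the root group `X₉` -/
def C9 (g : GL chevD4.Idx F) : Prop := ∀ w : F, g * X4 F 9 w = X4 F 9 w * g

theorem C9.mul {g h : GL chevD4.Idx F} (hg : C9 g) (hh : C9 h) : C9 (g * h) := by
  intro w
  rw [mul_assoc, hh w, ← mul_assoc, hg w, mul_assoc]

theorem R9.mul_left {B1 B2 A : GL chevD4.Idx F} {z1 z2 : F} (h1 : R9 B1 A z1) (h2 : R9 B2 A z2)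
    (hc : C9 B2) : R9 (B1 * B2) A (z1 + z2) := by
  unfold R9 at *
  calc B1 * B2 * A = B1 * (B2 * A) := by group
    _ = B1 * (A * B2 * X4 F 9 z2) := by rw [h2]
    _ = (B1 * A) * B2 * X4 F 9 z2 := by group
    _ = A * B1 * X4 F 9 z1 * B2 * X4 F 9 z2 := by rw [h1]
    _ = A * B1 * (X4 F 9 z1 * B2) * X4 F 9 z2 := by group
    _ = A * B1 * (B2 * X4 F 9 z1) * X4 F 9 z2 := by rw [hc z1]
    _ = A * (B1 * B2) * (X4 F 9 z1 * X4 F 9 z2) := by group
    _ = A * (B1 * B2) * X4 F 9 (z1 + z2) := by rw [X4_add (by decide)]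

theorem R9.mul_right {B A1 A2 : GL chevD4.Idx F} {z1 z2 : F} (h1 : R9 B A1 z1) (h2 : R9 B A2 z2)
    (hc : C9 A2) : R9 B (A1 * A2) (z1 + z2) := by
  unfold R9 at *
  calc B * (A1 * A2) = (B * A1) * A2 := by group
    _ = A1 * B * X4 F 9 z1 * A2 := by rw [h1]
    _ = A1 * B * (X4 F 9 z1 * A2) := by group
    _ = A1 * B * (A2 * X4 F 9 z1) := by rw [hc z1]
    _ = A1 * (B * A2) * X4 F 9 z1 := by group
    _ = A1 * (A2 * B * X4 F 9 z2) * X4 F 9 z1 := by rw [h2]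
    _ = A1 * A2 * B * (X4 F 9 z2 * X4 F 9 z1) := by group
    _ = A1 * A2 * B * X4 F 9 (z1 + z2) := by rw [X4_add (by decide), add_comm]

theorem R9.of_comm {B A : GL chevD4.Idx F} (h : B * A = A * B) : R9 B A 0 := by
  unfold R9
  rw [X4_zero (by decide), mul_one, h]

set_option maxRecDepth 100000 in
theorem d4_ct_tg : chevD4.commTerms 18 4 = [(9, 1, 1, 1)] ∧ chevD4.commTerms 13 7 = [(9, -1, 1, 1)] ∧
    chevD4.commTerms 12 8 = [(9, -1, 1, 1)] ∧ chevD4.commTerms 18 7 = [] ∧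
    chevD4.commTerms 18 8 = [] ∧ chevD4.commTerms 13 4 = [] ∧ chevD4.commTerms 13 8 = [] ∧
    chevD4.commTerms 12 4 = [] ∧ chevD4.commTerms 12 7 = [] := by decide +kernel

set_option maxRecDepth 100000 in
theorem d4_nil9_tg : chevD4.commTerms 9 18 = [] ∧ chevD4.commTerms 9 13 = [] ∧
    chevD4.commTerms 9 12 = [] ∧ chevD4.commTerms 9 4 = [] ∧ chevD4.commTerms 9 7 = [] ∧
    chevD4.commTerms 9 8 = [] := by decide +kernel

theorem C9_18 (t : F) : C9 (X4 F 18 t) := fun w =>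
  X4_comm_of_nil (by decide) (by decide) (by decide) (by decide) d4_nil9_tg.1 w t
theorem C9_13 (t : F) : C9 (X4 F 13 t) := fun w =>
  X4_comm_of_nil (by decide) (by decide) (by decide) (by decide) d4_nil9_tg.2.1 w t
theorem C9_12 (t : F) : C9 (X4 F 12 t) := fun w =>
  X4_comm_of_nil (by decide) (by decide) (by decide) (by decide) d4_nil9_tg.2.2.1 w t
theorem C9_4 (t : F) : C9 (X4 F 4 t) := fun w =>
  X4_comm_of_nil (by decide) (by decide) (by decide) (by decide) d4_nil9_tg.2.2.2.1 w t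
theorem C9_7 (t : F) : C9 (X4 F 7 t) := fun w =>
  X4_comm_of_nil (by decide) (by decide) (by decide) (by decide) d4_nil9_tg.2.2.2.2.1 w t
theorem C9_8 (t : F) : C9 (X4 F 8 t) := fun w =>
  X4_comm_of_nil (by decide) (by decide) (by decide) (by decide) d4_nil9_tg.2.2.2.2.2 w t

theorem R9_18_4 (t u : F) : R9 (X4 F 4 u) (X4 F 18 t) (-(t * u)) := by
  unfold R9
  rw [X4_rel_oneg (by decide) (by decide) (by decide) (by decide) (by decide) d4_ct_tg.1 t u,
    ← mul_assoc]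
  congr 2
  push_cast
  ring

theorem R9_13_7 (t u : F) : R9 (X4 F 7 u) (X4 F 13 t) (t * u) := by
  unfold R9
  rw [X4_rel_oneg (by decide) (by decide) (by decide) (by decide) (by decide) d4_ct_tg.2.1 t u,
    ← mul_assoc]
  congr 2
  push_cast
  ring

theorem R9_12_8 (t u : F) : R9 (X4 F 8 u) (X4 F 12 t) (t * u) := by
  unfold R9
  rw [X4_rel_oneg (by decide) (by decide) (by decide) (by decide) (by decide) d4_ct_tg.2.2.1 t u,
    ← mul_assoc]
  congr 2
  push_cast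
  ring

theorem R9_18_7 (t u : F) : R9 (X4 F 7 u) (X4 F 18 t) 0 :=
  R9.of_comm (X4_comm_of_nil (by decide) (by decide) (by decide) (by decide) d4_ct_tg.2.2.2.1 t u)
theorem R9_18_8 (t u : F) : R9 (X4 F 8 u) (X4 F 18 t) 0 :=
  R9.of_comm (X4_comm_of_nil (by decide) (by decide) (by decide) (by decide) d4_ct_tg.2.2.2.2.1 t u)
theorem R9_13_4 (t u : F) : R9 (X4 F 4 u) (X4 F 13 t) 0 :=
  R9.of_comm (X4_comm_of_nil (by decide) (by decide) (by decide) (by decide)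
    d4_ct_tg.2.2.2.2.2.1 t u)
theorem R9_13_8 (t u : F) : R9 (X4 F 8 u) (X4 F 13 t) 0 :=
  R9.of_comm (X4_comm_of_nil (by decide) (by decide) (by decide) (by decide)
    d4_ct_tg.2.2.2.2.2.2.1 t u)
theorem R9_12_4 (t u : F) : R9 (X4 F 4 u) (X4 F 12 t) 0 :=
  R9.of_comm (X4_comm_of_nil (by decide) (by decide) (by decide) (by decide)
    d4_ct_tg.2.2.2.2.2.2.2.1 t u)
theorem R9_12_7 (t u : F) : R9 (X4 F 7 u) (X4 F 12 t) 0 :=
  R9.of_comm (X4_comm_of_nil (by decide) (by decide) (by decide) (by decide)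
    d4_ct_tg.2.2.2.2.2.2.2.2 t u)

/-- the three by three commutator -/
theorem R9_three (a1 a2 a3 b1 b2 b3 : F) :
    R9 (X4 F 4 b1 * X4 F 7 b2 * X4 F 8 b3) (X4 F 18 a1 * X4 F 13 a2 * X4 F 12 a3)
      (-(a1 * b1) + a2 * b2 + a3 * b3) := by
  have hB : ∀ {A : GL chevD4.Idx F} {z1 z2 z3 : F}, R9 (X4 F 4 b1) A z1 → R9 (X4 F 7 b2) A z2 →
      R9 (X4 F 8 b3) A z3 → R9 (X4 F 4 b1 * X4 F 7 b2 * X4 F 8 b3) A (z1 + z2 + z3) :=
    fun h1 h2 h3 => ((h1.mul_left h2 (C9_7 b2)).mul_left h3 (C9_8 b3))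
  have h18 := hB (R9_18_4 a1 b1) (R9_18_7 a1 b2) (R9_18_8 a1 b3)
  have h13 := hB (R9_13_4 a2 b1) (R9_13_7 a2 b2) (R9_13_8 a2 b3)
  have h12 := hB (R9_12_4 a3 b1) (R9_12_7 a3 b2) (R9_12_8 a3 b3)
  have := (h18.mul_right h13 (C9_13 a2)).mul_right h12 (C9_12 a3)
  have e : -(a1 * b1) + 0 + 0 + (0 + a2 * b2 + 0) + (0 + 0 + a3 * b3) =
      -(a1 * b1) + a2 * b2 + a3 * b3 := by ring
  rw [e] at this
  exact this

end

section

variable {K : Type*} [Field K]

theorem xA_xA'_comm (φ : K →+* K) (t u : K) :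
    xA' φ u * xA φ t = xA φ t * xA' φ u * X4 K 9 (t * u + φ (t * u) + φ (φ (t * u))) := by
  have := R9_three t (φ t) (φ (φ t)) (-u) (φ u) (φ (φ u))
  unfold R9 at this
  unfold xA xA'
  rw [this]
  congr 2
  simp only [map_mul]
  ring

end

end Cfsg.Agent.Lib.Helper8.Chev
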