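import Cfsg.Agent.Lib.Helper8.ChevTg6
import Cfsg.Agent.Lib.Helper8.ChevTg2
import Cfsg.Agent.Lib.Helper8.ChevTg3

set_option autoImplicit false
set_option linter.unusedSimpArgs false
set_option linter.unusedSectionVars false
set_option linter.unnecessarySeqFocus false

namespace Cfsg.Agent.Lib.Helper8.Chev

open Cfsg.Lie Matrix

/-! ### `³D₄(q)` is generated by two elements -/

section

variable {K : Type*} [Field K]

theorem coe_word1 {r : ℕ} (hr : r < 24) (t : K) :
    ((X4 K r t : GL chevD4.Idx K) : Matrix chevD4.Idx chevD4.Idx K) =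
      chevD4.wordMat K [(r, t)] := by
  rw [coe_X4 hr]
  simp [ChevalleyDatum.wordMat]

theorem coe_word3 {r1 r2 r3 : ℕ} (h1 : r1 < 24) (h2 : r2 < 24) (h3 : r3 < 24) (t1 t2 t3 : K) :
    ((X4 K r1 t1 * X4 K r2 t2 * X4 K r3 t3 : GL chevD4.Idx K) :
      Matrix chevD4.Idx chevD4.Idx K) = chevD4.wordMat K [(r1, t1), (r2, t2), (r3, t3)] := by
  rw [Units.val_mul, Units.val_mul, coe_X4 h1, coe_X4 h2, coe_X4 h3]
  simp [ChevalleyDatum.wordMat, Matrix.mul_assoc]

variable [Fintype K]

theorem orderOf_gen_tg {q : ℕ} (hK : Fintype.card K = q ^ 3) {l : Kˣ}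
    (hl : ∀ u : Kˣ, u ∈ Subgroup.zpowers l) : orderOf l = q ^ 3 - 1 := by
  classical
  rw [orderOf_eq_card_of_forall_mem_zpowers hl, Nat.card_eq_fintype_card, Fintype.card_units, hK]

theorem twD4_two_gen {q : ℕ} (hq : IsPrimePow q) (hK : Fintype.card K = q ^ 3) :
    ∃ a b : ↥(twistedD4 K q), Subgroup.closure ({a, b} : Set ↥(twistedD4 K q)) = ⊤ := by
  classical
  obtain ⟨φ, hφ, h3, X⟩ := exists_twGrp_D4 hq hK
  have hq2 : 2 ≤ q := hq.two_le
  have hq1 : 1 ≤ q := by omega
  obtain ⟨l, hl⟩ := IsCyclic.exists_generator (α := Kˣ)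
  have hord := orderOf_gen_tg hK hl
  have hq3 : 8 ≤ q ^ 3 := by
    calc 8 = 2 ^ 3 := by norm_num
      _ ≤ q ^ 3 := Nat.pow_le_pow_left hq2 3
  -- membership in the twisted group
  have hhm : hTg φ l ∈ twistedD4 K q := by
    apply X.torMap_tupCls_mem (J := [0, 2, 3]) (by simp [clsD4]) l
    show φ (φ (φ (l : K))) = l
    exact h3 _
  have hcm : cTg K ∈ twistedD4 K q := by
    have e : cTg K = nP chevD4 K [1] * nP chevD4 K [0, 2, 3] := by
      unfold cTg
      rw [← nP_append]
      rfl
    rw [e]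
    exact mul_mem (X.nP_cls_mem' (by simp [clsD4])) (X.nP_cls_mem' (by simp [clsD4]))
  have hxm : ∀ t, xA φ t ∈ twistedD4 K q := by
    intro t
    apply Subgroup.subset_closure
    refine ⟨[(18, t), (13, t ^ q), (12, t ^ (q ^ 2))], ?_, ?_⟩
    · right
      exact ⟨t, (d4p1, d4p3, d4p4), by simp, rfl⟩
    · unfold xA
      rw [coe_word3 (by decide) (by decide) (by decide), hφ, hφ, ← pow_mul, ← sq]
  have hym : cTg K * xA φ 1 ∈ twistedD4 K q := mul_mem hcm (hxm 1)
  -- the subgroup generated by the two elements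
  set L : Subgroup (GL chevD4.Idx K) := Subgroup.closure {hTg φ l, cTg K * xA φ 1} with hL
  have hhL : hTg φ l ∈ L := Subgroup.subset_closure (by simp)
  have hyL : cTg K * xA φ 1 ∈ L := Subgroup.subset_closure (by simp)
  have hα : (l : K) ^ 2 ≠ 1 := by
    intro h
    have h' : l ^ 2 = 1 := by
      apply Units.ext
      rw [Units.val_pow_eq_pow_val, h, Units.val_one]
    have := orderOf_dvd_of_pow_eq_one h'
    rw [hord] at this
    have := Nat.le_of_dvd (by norm_num) this
    omega
  have hμ : muTg φ l ≠ 1 := by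
    intro h
    rw [muTg_eq hq1 hφ] at h
    have h' : l ^ (q ^ 2 + q - 1) = 1 := by
      apply Units.ext
      rw [h, Units.val_one]
    have := orderOf_dvd_of_pow_eq_one h'
    rw [hord] at this
    have hlt : q ^ 2 + q < q ^ 3 := by
      have e1 : 2 * q ^ 2 ≤ q * q ^ 2 := Nat.mul_le_mul_right (q ^ 2) hq2
      have e2 : 2 * q ≤ q * q := Nat.mul_le_mul_right q hq2
      have e3 : q ^ 3 = q * q ^ 2 := by ring
      have e4 : q ^ 2 = q * q := by ring
      omega
    have hpos : 0 < q ^ 2 + q - 1 := by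
      have : 2 ≤ q ^ 2 + q := by nlinarith
      omega
    have := Nat.le_of_dvd hpos this
    omega
  have hgen : ∀ t : K, t ≠ 0 → ∃ j : ℕ, t = muTg φ l ^ j := by
    intro t ht
    rw [muTg_eq hq1 hφ]
    exact gen_tg hK hl t ht
  obtain ⟨hcL, hxL, hxL'⟩ := two_gen_trick (x := xA φ) (x' := xA' φ) (h := hTg φ l) (c := cTg K)
    (xA_add φ) (xA'_add φ) (cTg_xA φ) (tor_xA φ l) (tor_xA' h3 l) (hTg_comm_conj φ l) hα hμ hgen
    L hhL hyL
  have hc3L : cTg K * cTg K * cTg K ∈ L := mul_mem (mul_mem hcL hcL) hcL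
  -- the long root groups
  have h9L : ∀ s : K, φ s = s → X4 K 9 s ∈ L := by
    intro s hs
    obtain ⟨w, hw⟩ := trace_tg hK hφ h3 s hs
    have e := xA_xA'_comm φ w 1
    rw [mul_one, hw] at e
    have e2 : X4 K 9 s = (xA φ w * xA' φ 1)⁻¹ * (xA' φ 1 * xA φ w) := by
      rw [e]
      group
    rw [e2]
    exact mul_mem (inv_mem (mul_mem (hxL w) (hxL' 1))) (mul_mem (hxL' 1) (hxL w))
  have h14L : ∀ s : K, φ s = s → X4 K 14 s ∈ L := by
    intro s hs
    have e := cTg3_X9 (K := K) (-s)
    rw [neg_neg] at e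
    rw [← e]
    refine mul_mem (mul_mem hc3L (h9L _ ?_)) (inv_mem hc3L)
    rw [map_neg, hs]
  have hmL : ∀ t : K, xAm φ t ∈ L := by
    intro t
    rw [← cTg3_xA]
    exact mul_mem (mul_mem hc3L (hxL t)) (inv_mem hc3L)
  -- the twisted group is contained in `L`
  have hle : twistedD4 K q ≤ L := by
    unfold twistedD4 ChevalleyDatum.genSubgroup
    rw [Subgroup.closure_le]
    rintro g ⟨w, hw, hg⟩
    rcases hw with ⟨t, ht, r, hr, rfl⟩ | ⟨t, rs, hrs, rfl⟩
    · have hft : φ t = t := by rw [hφ, ht]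
      simp only [List.mem_cons, List.not_mem_nil, or_false] at hr
      rcases hr with rfl | rfl
      · have : g = X4 K 14 t := by
          apply Units.ext
          rw [hg, coe_word1 (by decide)]
          rfl
        rw [this]
        exact h14L t hft
      · have : g = X4 K 9 t := by
          apply Units.ext
          rw [hg, coe_word1 (by decide)]
          rfl
        rw [this]
        exact h9L t hft
    · simp only [List.mem_cons, List.not_mem_nil, or_false] at hrs
      rcases hrs with rfl | rfl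
      · have : g = xA φ t := by
          apply Units.ext
          unfold xA
          rw [hg, coe_word3 (by decide) (by decide) (by decide), hφ, hφ, ← pow_mul, ← sq]
          rfl
        rw [this]
        exact hxL t
      · have : g = xAm φ (-t) := by
          apply Units.ext
          unfold xAm
          rw [hg, coe_word3 (by decide) (by decide) (by decide), map_neg, map_neg, neg_neg, neg_neg,
            neg_neg, hφ, hφ, ← pow_mul, ← sq]
          rfl
        rw [this]
        exact hmL _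
  refine ⟨⟨hTg φ l, hhm⟩, ⟨cTg K * xA φ 1, hym⟩, ?_⟩
  rw [eq_top_iff]
  intro x _
  have hxL0 : (x : GL chevD4.Idx K) ∈ L := hle x.2
  have hmap : (Subgroup.closure ({⟨hTg φ l, hhm⟩, ⟨cTg K * xA φ 1, hym⟩} :
      Set ↥(twistedD4 K q))).map (twistedD4 K q).subtype = L := by
    rw [MonoidHom.map_closure, hL]
    congr 1
    ext z
    simp [Set.image_insert_eq]
  rw [← hmap] at hxL0
  obtain ⟨x', hx', e⟩ := hxL0
  have : x' = x := Subtype.ext e
  rw [← this]
  exact hx'

end

end Cfsg.Agent.Lib.Helper8.Chev
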