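import Cfsg.Agent.Lib.Helper8.ChevTg1

set_option autoImplicit false
set_option linter.unusedSimpArgs false
set_option linter.unusedSectionVars false
set_option linter.unnecessarySeqFocus false

namespace Cfsg.Agent.Lib.Helper8.Chev

open Cfsg.Lie Matrix

/-! ### Root elements of a Chevalley datum as invertible matrices, any characteristic -/

section

variable {D : ChevalleyDatum} {F : Type*} [Field F]

/-- the root element `x_k(t)` as an invertible matrix -/
noncomputable def XD (D : ChevalleyDatum) (F : Type*) [Field F] (k : ℕ) (t : F) : GL D.Idx F :=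
  wG D F [(k, t)]

theorem coe_XD (hD : D ∈ [chevG2, chevB2, chevD4, chevF4, chevE6, chevE7, chevE8])
    {k : ℕ} (hk : k < D.nroots) (t : F) :
    ((XD D F k t : GL D.Idx F) : Matrix D.Idx D.Idx F) = D.x F k t := by
  unfold XD
  rw [coe_wG (valid0_of_mem hD) (valid1_of_mem hD) _ (by
    intro p hp
    rw [List.mem_singleton] at hp
    subst hp
    exact hk), wN_cons, wN_nil, Matrix.mul_one, x_eq_xN]

theorem XD_add (hD : D ∈ [chevG2, chevB2, chevD4, chevF4, chevE6, chevE7, chevE8])
    {k : ℕ} (hk : k < D.nroots) (t s : F) : XD D F k t * XD D F k s = XD D F k (t + s) := by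
  apply Units.ext
  rw [Units.val_mul, coe_XD hD hk, coe_XD hD hk, coe_XD hD hk, x_eq_xN, x_eq_xN, x_eq_xN,
    xN_mul_xN F (valid0_of_mem hD) (valid1_of_mem hD) hk]

theorem XD_zero (hD : D ∈ [chevG2, chevB2, chevD4, chevF4, chevE6, chevE7, chevE8])
    {k : ℕ} (hk : k < D.nroots) : XD D F k (0 : F) = 1 := by
  apply Units.ext
  rw [coe_XD hD hk, x_eq_xN, xN_zero (valid0_of_mem hD)]
  rfl

theorem XD_inv (hD : D ∈ [chevG2, chevB2, chevD4, chevF4, chevE6, chevE7, chevE8])
    {k : ℕ} (hk : k < D.nroots) (t : F) : (XD D F k t)⁻¹ = XD D F k (-t) := by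
  rw [inv_eq_iff_mul_eq_one, XD_add hD hk, add_neg_cancel, XD_zero hD hk]

theorem XD_comm_of_nil (hD : D ∈ [chevG2, chevB2, chevD4, chevF4, chevE6, chevE7, chevE8])
    {r s : ℕ} (hr : r < D.nroots) (hs : s < D.nroots) (h1 : s ≠ r) (h2 : s ≠ D.neg r)
    (h : D.commTerms r s = []) (t u : F) : XD D F s u * XD D F r t = XD D F r t * XD D F s u := by
  apply Units.ext
  rw [Units.val_mul, Units.val_mul, coe_XD hD hr, coe_XD hD hs]
  exact x_commute_of_nil hD hr hs h1 h2 h t u

theorem wGD_cons (hD : D ∈ [chevG2, chevB2, chevD4, chevF4, chevE6, chevE7, chevE8])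
    {k : ℕ} (hk : k < D.nroots) (t : F) (w : List (ℕ × F)) (hlt : ∀ p ∈ w, p.1 < D.nroots) :
    wG D F ((k, t) :: w) = XD D F k t * wG D F w := by
  apply Units.ext
  rw [Units.val_mul, coe_XD hD hk, coe_wG (valid0_of_mem hD) (valid1_of_mem hD) _ hlt,
    coe_wG (valid0_of_mem hD) (valid1_of_mem hD), wN_cons, x_eq_xN]
  intro p hp
  rw [List.mem_cons] at hp
  rcases hp with rfl | hp
  · exact hk
  · exact hlt p hp

theorem wGD_nil (hD : D ∈ [chevG2, chevB2, chevD4, chevF4, chevE6, chevE7, chevE8]) :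
    wG D F ([] : List (ℕ × F)) = 1 := by
  apply Units.ext
  rw [coe_wG (valid0_of_mem hD) (valid1_of_mem hD) _ (by simp), wN_nil]
  rfl

theorem XD_rel_word (hD : D ∈ [chevG2, chevB2, chevD4, chevF4, chevE6, chevE7, chevE8])
    {r s : ℕ} (hr : r < D.nroots) (hs : s < D.nroots) (h1 : s ≠ r) (h2 : s ≠ D.neg r)
    (t u : F) (w : List (ℕ × F)) (hw : D.commWord F r s t u = w)
    (hlt : ∀ p ∈ w, p.1 < D.nroots) :
    XD D F s u * XD D F r t = XD D F r t * (XD D F s u * wG D F w) := by
  apply Units.ext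
  rw [Units.val_mul, Units.val_mul, Units.val_mul, coe_XD hD hr, coe_XD hD hs,
    coe_wG (valid0_of_mem hD) (valid1_of_mem hD) _ hlt, ← hw, ← wordMat_eq_wN,
    ← Matrix.mul_assoc]
  exact comm_formula hD hr hs h1 h2 t u

/-- the commutator of two root elements whose roots add up to a root `k` (simply laced case) -/
theorem XD_rel_oneg (hD : D ∈ [chevG2, chevB2, chevD4, chevF4, chevE6, chevE7, chevE8])
    {r s k : ℕ} (hr : r < D.nroots) (hs : s < D.nroots) (hk : k < D.nroots) (h1 : s ≠ r)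
    (h2 : s ≠ D.neg r) {c : ℤ} (h : D.commTerms r s = [(k, c, 1, 1)]) (t u : F) :
    XD D F s u * XD D F r t = XD D F r t * (XD D F s u * XD D F k ((c : F) * (-t) * u)) := by
  rw [XD_rel_word hD hr hs h1 h2 t u [(k, (c : F) * (-t) * u)] ?_ (by simpa using hk)]
  · rw [wGD_cons hD hk _ _ (by simp), wGD_nil hD, mul_one]
  · unfold ChevalleyDatum.commWord
    rw [h]
    simp only [List.map_cons, List.map_nil, pow_one]

theorem torMap_XD_conj (hD : D ∈ [chevG2, chevB2, chevD4, chevF4, chevE6, chevE7, chevE8])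
    (c : Fin D.rank → Fˣ) {r : ℕ} (hr : r < D.nroots) (t : F) :
    torMap D F c * XD D F r t * (torMap D F c)⁻¹ = XD D F r ((chiT D c r : Fˣ) * t) := by
  have V := valid0_of_mem hD
  have J := validJ_of_mem hD
  have H := validH_of_mem hD
  have e : torMap D F c * XD D F r t = XD D F r ((chiT D c r : Fˣ) * t) * torMap D F c := by
    apply Units.ext
    rw [Units.val_mul, Units.val_mul, torMap_apply, coe_diagU, coe_XD hD hr, coe_XD hD hr, x_eq_xN,
      x_eq_xN]
    exact diagC_mul_xN V (isChar_chiT' J H c) hr t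
  rw [e, mul_assoc, mul_inv_cancel, mul_one]

theorem nG_XDg (hD : D ∈ [chevG2, chevB2, chevD4, chevF4, chevE6, chevE7, chevE8])
    {i : ℕ} (hi : i < D.rank) {s : ℕ} (hs : s < D.nroots) (t : F) :
    nG D F i * XD D F s t =
      XD D F (D.reflectRoot i s) (((etaF D i s : ℤ) : F) * t) * nG D F i := by
  have J := validJ_of_mem hD
  have V1 := valid1_of_mem hD
  have H := validH_of_mem hD
  have hs' : D.reflectRoot i s < D.nroots := ((nS_props J H.nS hi).2.2 s hs).1
  apply Units.ext
  rw [Units.val_mul, Units.val_mul, coe_nG J V1 hi, coe_XD hD hs, coe_XD hD hs', nMat_one_eq,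
    x_eq_xN, x_eq_xN, nS_conj J V1 H.nS hi hs (R := F) t]

theorem nP_XDg (hD : D ∈ [chevG2, chevB2, chevD4, chevF4, chevE6, chevE7, chevE8])
    {l : List ℕ} (hl : ∀ i ∈ l, i < D.rank) {s : ℕ} (hs : s < D.nroots) (t : F) :
    reflWord D l s < D.nroots ∧
      nP D F l * XD D F s t =
        XD D F (reflWord D l s) (((etaW D l s : ℤ) : F) * t) * nP D F l := by
  have J := validJ_of_mem hD
  have H := validH_of_mem hD
  induction l with
  | nil =>
    refine ⟨hs, ?_⟩
    rw [nP_nil, one_mul, mul_one]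
    simp [etaW, reflWord]
  | cons i l ih =>
    obtain ⟨h1, h2⟩ := ih (fun j hj => hl j (List.mem_cons_of_mem _ hj))
    have hi : i < D.rank := hl i List.mem_cons_self
    refine ⟨((nS_props J H.nS hi).2.2 _ h1).1, ?_⟩
    rw [nP_cons, mul_assoc, h2, ← mul_assoc, nG_XDg hD hi h1, reflWord_cons, mul_assoc]
    congr 2
    simp only [etaW]
    push_cast
    ring

/-- conjugation form -/
theorem nP_XDg_conj (hD : D ∈ [chevG2, chevB2, chevD4, chevF4, chevE6, chevE7, chevE8])
    {l : List ℕ} (hl : ∀ i ∈ l, i < D.rank) {s : ℕ} (hs : s < D.nroots) (t : F) :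
    nP D F l * XD D F s t * (nP D F l)⁻¹ =
      XD D F (reflWord D l s) (((etaW D l s : ℤ) : F) * t) := by
  rw [(nP_XDg hD hl hs t).2, mul_assoc, mul_inv_cancel, mul_one]

/-- the conjugate of a torus element under `n_w` commutes with any torus element -/
theorem torMap_comm_conj (hD : D ∈ [chevG2, chevB2, chevD4, chevF4, chevE6, chevE7, chevE8])
    {l : List ℕ} (hl : ∀ i ∈ l, i < D.rank) (c c' : Fin D.rank → Fˣ) :
    torMap D F c * (nP D F l * torMap D F c' * (nP D F l)⁻¹) =
      (nP D F l * torMap D F c' * (nP D F l)⁻¹) * torMap D F c := by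
  have J := validJ_of_mem hD
  have V1 := valid1_of_mem hD
  have H := validH_of_mem hD
  have hI := checkInv_of_mem hD
  have hn : nP D F l ∈ Subgroup.normalizer (D.diagonalSubgroup F : Set (GL D.Idx F)) :=
    N0_le_normalizer J V1 H hI (nP_mem_N0 hl)
  have hh : torMap D F c' ∈ D.diagonalSubgroup F := torMap_mem J H _
  have hc : nP D F l * torMap D F c' * (nP D F l)⁻¹ ∈ D.diagonalSubgroup F :=
    (Subgroup.mem_normalizer_iff.mp hn _).mp hh
  rw [diagonal_eq_range J V1 H] at hc
  obtain ⟨T', hT'⟩ := hc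
  rw [← hT', ← map_mul, ← map_mul, mul_comm]

end

end Cfsg.Agent.Lib.Helper8.Chev
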