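import Cfsg.Agent.Lib.Helper8.ChevTg8

set_option autoImplicit false
set_option linter.unusedSimpArgs false
set_option linter.unusedSectionVars false
set_option linter.unnecessarySeqFocus false

namespace Cfsg.Agent.Lib.Helper8.Chev

open Cfsg.Lie Matrix

/-! ### Short root elements of `²E₆` and the twisted Coxeter element, any characteristic -/

section

variable {K : Type*} [Field K]

/-- the word of the twisted Coxeter element of `²E₆` -/
def cEL : List ℕ := [1, 3, 2, 4, 0, 5]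

/-- the twisted Coxeter element of `²E₆` -/
noncomputable def cE (K : Type*) [Field K] : GL chevE6.Idx K := nP chevE6 K cEL

/-- the short root element with roots `r`, `r'` and signs `e`, `e'` -/
noncomputable def xE (φ : K →+* K) (r r' : ℕ) (e e' : ℤ) (t : K) : GL chevE6.Idx K :=
  XD chevE6 K r ((e : K) * t) * XD chevE6 K r' ((e' : K) * φ t)

theorem nP_pow {D : ChevalleyDatum} (l : List ℕ) (k : ℕ) :
    nP D K l ^ k = nP D K (List.replicate k l).flatten := by
  induction k with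
  | zero => simp [nP_nil]
  | succ k ih =>
    rw [pow_succ', ih, List.replicate_succ, List.flatten_cons, nP_append]

theorem cEL_pow_lt (k : ℕ) : ∀ i ∈ (List.replicate k cEL).flatten, i < chevE6.rank := by
  intro i hi
  rw [List.mem_flatten] at hi
  obtain ⟨l, hl, hil⟩ := hi
  rw [List.eq_of_mem_replicate hl] at hil
  revert i
  decide

theorem conj_two {G : Type*} [Group G] (c x y : G) :
    c * (x * y) * c⁻¹ = (c * x * c⁻¹) * (c * y * c⁻¹) := by group

/-- conjugating `x_S(t)` by a power of the Coxeter element -/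
theorem cE_pow_xE (φ : K →+* K) (k : ℕ) {r r' : ℕ} (hr : r < 72) (hr' : r' < 72) (e e' : ℤ) (t : K) :
    cE K ^ k * xE φ r r' e e' t * (cE K ^ k)⁻¹ =
      xE φ (reflWord chevE6 (List.replicate k cEL).flatten r)
        (reflWord chevE6 (List.replicate k cEL).flatten r')
        (etaW chevE6 (List.replicate k cEL).flatten r * e)
        (etaW chevE6 (List.replicate k cEL).flatten r' * e') t := by
  unfold cE xE
  rw [nP_pow, conj_two, nP_XDg_conj hDE6 (cEL_pow_lt k) hr, nP_XDg_conj hDE6 (cEL_pow_lt k) hr']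
  push_cast
  rw [mul_assoc, mul_assoc]

theorem cE_pow_XD (k : ℕ) {r : ℕ} (hr : r < 72) (t : K) :
    cE K ^ k * XD chevE6 K r t * (cE K ^ k)⁻¹ =
      XD chevE6 K (reflWord chevE6 (List.replicate k cEL).flatten r)
        ((etaW chevE6 (List.replicate k cEL).flatten r : ℤ) * t) := by
  unfold cE
  rw [nP_pow, nP_XDg_conj hDE6 (cEL_pow_lt k) hr]

set_option maxRecDepth 1000000 in
theorem e6_c_vals :
    (reflWord chevE6 (List.replicate 1 cEL).flatten 56 = 10 ∧
      reflWord chevE6 (List.replicate 1 cEL).flatten 36 = 22 ∧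
      etaW chevE6 (List.replicate 1 cEL).flatten 56 = -1 ∧
      etaW chevE6 (List.replicate 1 cEL).flatten 36 = 1) ∧
    (reflWord chevE6 (List.replicate 3 cEL).flatten 56 = 19 ∧
      reflWord chevE6 (List.replicate 3 cEL).flatten 36 = 9 ∧
      etaW chevE6 (List.replicate 3 cEL).flatten 56 = -1 ∧
      etaW chevE6 (List.replicate 3 cEL).flatten 36 = 1) ∧
    (reflWord chevE6 (List.replicate 5 cEL).flatten 56 = 34 ∧
      reflWord chevE6 (List.replicate 5 cEL).flatten 36 = 29 ∧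
      etaW chevE6 (List.replicate 5 cEL).flatten 56 = -1 ∧
      etaW chevE6 (List.replicate 5 cEL).flatten 36 = -1) ∧
    (reflWord chevE6 (List.replicate 6 cEL).flatten 56 = 35 ∧
      reflWord chevE6 (List.replicate 6 cEL).flatten 36 = 15 ∧
      etaW chevE6 (List.replicate 6 cEL).flatten 56 = -1 ∧
      etaW chevE6 (List.replicate 6 cEL).flatten 36 = -1) ∧
    (reflWord chevE6 (List.replicate 11 cEL).flatten 56 = 42 ∧
      reflWord chevE6 (List.replicate 11 cEL).flatten 36 = 37 ∧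
      etaW chevE6 (List.replicate 11 cEL).flatten 56 = 1 ∧
      etaW chevE6 (List.replicate 11 cEL).flatten 36 = 1) := by
  decide +kernel

set_option maxRecDepth 1000000 in
theorem e6_c_long :
    (reflWord chevE6 (List.replicate 4 cEL).flatten 20 = 46 ∧
      etaW chevE6 (List.replicate 4 cEL).flatten 20 = 1) ∧
    (reflWord chevE6 (List.replicate 5 cEL).flatten 20 = 39 ∧
      etaW chevE6 (List.replicate 5 cEL).flatten 20 = 1) ∧
    (reflWord chevE6 (List.replicate 10 cEL).flatten 20 = 25 ∧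
      etaW chevE6 (List.replicate 10 cEL).flatten 20 = -1) ∧
    (reflWord chevE6 (List.replicate 11 cEL).flatten 20 = 32 ∧
      etaW chevE6 (List.replicate 11 cEL).flatten 20 = -1) := by
  decide +kernel

theorem cE1_xE (φ : K →+* K) (t : K) :
    cE K * xE φ 56 36 1 1 t * (cE K)⁻¹ = xE φ 10 22 (-1) 1 t := by
  obtain ⟨⟨r1, r2, e1, e2⟩, -⟩ := e6_c_vals
  have := cE_pow_xE φ 1 (by decide : 56 < 72) (by decide : 36 < 72) 1 1 t
  rw [pow_one, r1, r2, e1, e2] at this
  exact this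

theorem cE3_xE (φ : K →+* K) (t : K) :
    cE K ^ 3 * xE φ 56 36 1 1 t * (cE K ^ 3)⁻¹ = xE φ 19 9 (-1) 1 t := by
  obtain ⟨-, ⟨r1, r2, e1, e2⟩, -⟩ := e6_c_vals
  have := cE_pow_xE φ 3 (by decide : 56 < 72) (by decide : 36 < 72) 1 1 t
  rw [r1, r2, e1, e2] at this
  exact this

theorem cE5_xE (φ : K →+* K) (t : K) :
    cE K ^ 5 * xE φ 56 36 1 1 t * (cE K ^ 5)⁻¹ = xE φ 34 29 (-1) (-1) t := by
  obtain ⟨-, -, ⟨r1, r2, e1, e2⟩, -⟩ := e6_c_vals
  have := cE_pow_xE φ 5 (by decide : 56 < 72) (by decide : 36 < 72) 1 1 t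
  rw [r1, r2, e1, e2] at this
  exact this

theorem cE6_xE (φ : K →+* K) (t : K) :
    cE K ^ 6 * xE φ 56 36 1 1 t * (cE K ^ 6)⁻¹ = xE φ 35 15 (-1) (-1) t := by
  obtain ⟨-, -, -, ⟨r1, r2, e1, e2⟩, -⟩ := e6_c_vals
  have := cE_pow_xE φ 6 (by decide : 56 < 72) (by decide : 36 < 72) 1 1 t
  rw [r1, r2, e1, e2] at this
  exact this

theorem cE11_xE (φ : K →+* K) (t : K) :
    cE K ^ 11 * xE φ 56 36 1 1 t * (cE K ^ 11)⁻¹ = xE φ 42 37 1 1 t := by
  obtain ⟨-, -, -, -, ⟨r1, r2, e1, e2⟩⟩ := e6_c_vals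
  have := cE_pow_xE φ 11 (by decide : 56 < 72) (by decide : 36 < 72) 1 1 t
  rw [r1, r2, e1, e2] at this
  exact this

theorem cE4_X20 (t : K) :
    cE K ^ 4 * XD chevE6 K 20 t * (cE K ^ 4)⁻¹ = XD chevE6 K 46 t := by
  obtain ⟨⟨r1, e1⟩, -⟩ := e6_c_long
  rw [cE_pow_XD 4 (by decide), r1, e1]
  simp

theorem cE5_X20 (t : K) :
    cE K ^ 5 * XD chevE6 K 20 t * (cE K ^ 5)⁻¹ = XD chevE6 K 39 t := by
  obtain ⟨-, ⟨r1, e1⟩, -⟩ := e6_c_long
  rw [cE_pow_XD 5 (by decide), r1, e1]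
  simp

theorem cE10_X20 (t : K) :
    cE K ^ 10 * XD chevE6 K 20 t * (cE K ^ 10)⁻¹ = XD chevE6 K 25 (-t) := by
  obtain ⟨-, -, ⟨r1, e1⟩, -⟩ := e6_c_long
  rw [cE_pow_XD 10 (by decide), r1, e1]
  simp

theorem cE11_X20 (t : K) :
    cE K ^ 11 * XD chevE6 K 20 t * (cE K ^ 11)⁻¹ = XD chevE6 K 32 (-t) := by
  obtain ⟨-, -, -, ⟨r1, e1⟩⟩ := e6_c_long
  rw [cE_pow_XD 11 (by decide), r1, e1]
  simp

end

end Cfsg.Agent.Lib.Helper8.Chev
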