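import Cfsg.Agent.Lib.Helper8.ChevRF22
import Cfsg.Agent.Lib.Helper8.ChevTg12

set_option autoImplicit false
set_option linter.unusedSimpArgs false
set_option linter.unusedSectionVars false
set_option linter.unnecessarySeqFocus false

namespace Cfsg.Agent.Lib.Helper8.Chev

open Cfsg.Lie Matrix

namespace RF

/-- the sign picked up by the root `s` under conjugation by `n_l` -/
noncomputable def etaW (D : ChevalleyDatum) : List ℕ → ℕ → ℤ
  | [], _ => 1
  | i :: l, s => etaF D i (reflWord D l s) * etaW D l s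

/-! ### Root elements of a Chevalley datum as invertible matrices, any characteristic -/

section

variable {D : ChevalleyDatum} {F : Type*} [Field F]

/-- the root element `x_k(t)` as an invertible matrix -/
noncomputable def XD (D : ChevalleyDatum) (F : Type*) [Field F] (k : ℕ) (t : F) : GL D.Idx F :=
  wG D F [(k, t)]

theorem coe_XD (hD : D ∈ [chevG2, chevB2, chevD4, chevF4, chevE6, chevE7, chevE8])
    {k : ℕ} (hk : k < D.nroots) (t : F) :
    ((XD D F k t : GL D.Idx F) : Matrix D.Idx D.Idx F) = D.x F k t := by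
  unfold XD
  rw [coe_wG (valid0_of_mem hD) (valid1_of_mem hD) _ (by
    intro p hp
    rw [List.mem_singleton] at hp
    subst hp
    exact hk), wN_cons, wN_nil, Matrix.mul_one, x_eq_xN]

theorem XD_add (hD : D ∈ [chevG2, chevB2, chevD4, chevF4, chevE6, chevE7, chevE8])
    {k : ℕ} (hk : k < D.nroots) (t s : F) : XD D F k t * XD D F k s = XD D F k (t + s) := by
  apply Units.ext
  rw [Units.val_mul, coe_XD hD hk, coe_XD hD hk, coe_XD hD hk, x_eq_xN, x_eq_xN, x_eq_xN,
    xN_mul_xN F (valid0_of_mem hD) (valid1_of_mem hD) hk]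

theorem XD_zero (hD : D ∈ [chevG2, chevB2, chevD4, chevF4, chevE6, chevE7, chevE8])
    {k : ℕ} (hk : k < D.nroots) : XD D F k (0 : F) = 1 := by
  apply Units.ext
  rw [coe_XD hD hk, x_eq_xN, xN_zero (valid0_of_mem hD)]
  rfl

theorem XD_inv (hD : D ∈ [chevG2, chevB2, chevD4, chevF4, chevE6, chevE7, chevE8])
    {k : ℕ} (hk : k < D.nroots) (t : F) : (XD D F k t)⁻¹ = XD D F k (-t) := by
  rw [inv_eq_iff_mul_eq_one, XD_add hD hk, add_neg_cancel, XD_zero hD hk]

theorem XD_comm_of_nil (hD : D ∈ [chevG2, chevB2, chevD4, chevF4, chevE6, chevE7, chevE8])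
    {r s : ℕ} (hr : r < D.nroots) (hs : s < D.nroots) (h1 : s ≠ r) (h2 : s ≠ D.neg r)
    (h : D.commTerms r s = []) (t u : F) : XD D F s u * XD D F r t = XD D F r t * XD D F s u := by
  apply Units.ext
  rw [Units.val_mul, Units.val_mul, coe_XD hD hr, coe_XD hD hs]
  exact x_commute_of_nil hD hr hs h1 h2 h t u

theorem wGD_cons (hD : D ∈ [chevG2, chevB2, chevD4, chevF4, chevE6, chevE7, chevE8])
    {k : ℕ} (hk : k < D.nroots) (t : F) (w : List (ℕ × F)) (hlt : ∀ p ∈ w, p.1 < D.nroots) :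
    wG D F ((k, t) :: w) = XD D F k t * wG D F w := by
  apply Units.ext
  rw [Units.val_mul, coe_XD hD hk, coe_wG (valid0_of_mem hD) (valid1_of_mem hD) _ hlt,
    coe_wG (valid0_of_mem hD) (valid1_of_mem hD), wN_cons, x_eq_xN]
  intro p hp
  rw [List.mem_cons] at hp
  rcases hp with rfl | hp
  · exact hk
  · exact hlt p hp

theorem wGD_nil (hD : D ∈ [chevG2, chevB2, chevD4, chevF4, chevE6, chevE7, chevE8]) :
    wG D F ([] : List (ℕ × F)) = 1 := by
  apply Units.ext
  rw [coe_wG (valid0_of_mem hD) (valid1_of_mem hD) _ (by simp), wN_nil]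
  rfl

theorem XD_rel_word (hD : D ∈ [chevG2, chevB2, chevD4, chevF4, chevE6, chevE7, chevE8])
    {r s : ℕ} (hr : r < D.nroots) (hs : s < D.nroots) (h1 : s ≠ r) (h2 : s ≠ D.neg r)
    (t u : F) (w : List (ℕ × F)) (hw : D.commWord F r s t u = w)
    (hlt : ∀ p ∈ w, p.1 < D.nroots) :
    XD D F s u * XD D F r t = XD D F r t * (XD D F s u * wG D F w) := by
  apply Units.ext
  rw [Units.val_mul, Units.val_mul, Units.val_mul, coe_XD hD hr, coe_XD hD hs,
    coe_wG (valid0_of_mem hD) (valid1_of_mem hD) _ hlt, ← hw, ← wordMat_eq_wN,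
    ← Matrix.mul_assoc]
  exact comm_formula hD hr hs h1 h2 t u

/-- the commutator of two root elements whose roots add up to a root `k` (simply laced case) -/
theorem XD_rel_oneg (hD : D ∈ [chevG2, chevB2, chevD4, chevF4, chevE6, chevE7, chevE8])
    {r s k : ℕ} (hr : r < D.nroots) (hs : s < D.nroots) (hk : k < D.nroots) (h1 : s ≠ r)
    (h2 : s ≠ D.neg r) {c : ℤ} (h : D.commTerms r s = [(k, c, 1, 1)]) (t u : F) :
    XD D F s u * XD D F r t = XD D F r t * (XD D F s u * XD D F k ((c : F) * (-t) * u)) := by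
  rw [XD_rel_word hD hr hs h1 h2 t u [(k, (c : F) * (-t) * u)] ?_ (by simpa using hk)]
  · rw [wGD_cons hD hk _ _ (by simp), wGD_nil hD, mul_one]
  · unfold ChevalleyDatum.commWord
    rw [h]
    simp only [List.map_cons, List.map_nil, pow_one]

theorem torMap_XD_conj (hD : D ∈ [chevG2, chevB2, chevD4, chevF4, chevE6, chevE7, chevE8])
    (c : Fin D.rank → Fˣ) {r : ℕ} (hr : r < D.nroots) (t : F) :
    torMap D F c * XD D F r t * (torMap D F c)⁻¹ = XD D F r ((chiT D c r : Fˣ) * t) := by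
  have V := valid0_of_mem hD
  have J := validJ_of_mem hD
  have H := validH_of_mem hD
  have e : torMap D F c * XD D F r t = XD D F r ((chiT D c r : Fˣ) * t) * torMap D F c := by
    apply Units.ext
    rw [Units.val_mul, Units.val_mul, torMap_apply, coe_diagU, coe_XD hD hr, coe_XD hD hr, x_eq_xN,
      x_eq_xN]
    exact diagC_mul_xN V (isChar_chiT J H c) hr t
  rw [e, mul_assoc, mul_inv_cancel, mul_one]

theorem nG_XDg (hD : D ∈ [chevG2, chevB2, chevD4, chevF4, chevE6, chevE7, chevE8])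
    {i : ℕ} (hi : i < D.rank) {s : ℕ} (hs : s < D.nroots) (t : F) :
    nG D F i * XD D F s t =
      XD D F (D.reflectRoot i s) (((etaF D i s : ℤ) : F) * t) * nG D F i := by
  have J := validJ_of_mem hD
  have V1 := valid1_of_mem hD
  have H := validH_of_mem hD
  have hs' : D.reflectRoot i s < D.nroots := ((nS_props J H.nS hi).2.2 s hs).1
  apply Units.ext
  rw [Units.val_mul, Units.val_mul, coe_nG J V1 hi, coe_XD hD hs, coe_XD hD hs', nMat_one_eq,
    x_eq_xN, x_eq_xN, nS_conj J V1 H.nS hi hs (R := F) t]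

theorem nP_XDg (hD : D ∈ [chevG2, chevB2, chevD4, chevF4, chevE6, chevE7, chevE8])
    {l : List ℕ} (hl : ∀ i ∈ l, i < D.rank) {s : ℕ} (hs : s < D.nroots) (t : F) :
    reflWord D l s < D.nroots ∧
      nP D F l * XD D F s t =
        XD D F (reflWord D l s) (((etaW D l s : ℤ) : F) * t) * nP D F l := by
  have J := validJ_of_mem hD
  have H := validH_of_mem hD
  induction l with
  | nil =>
    refine ⟨hs, ?_⟩
    rw [nP_nil, one_mul, mul_one]
    simp [etaW, reflWord]
  | cons i l ih =>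
    obtain ⟨h1, h2⟩ := ih (fun j hj => hl j (List.mem_cons_of_mem _ hj))
    have hi : i < D.rank := hl i List.mem_cons_self
    refine ⟨((nS_props J H.nS hi).2.2 _ h1).1, ?_⟩
    rw [nP_cons, mul_assoc, h2, ← mul_assoc, nG_XDg hD hi h1, reflWord_cons, mul_assoc]
    congr 2
    simp only [etaW]
    push_cast
    ring

/-- conjugation form -/
theorem nP_XDg_conj (hD : D ∈ [chevG2, chevB2, chevD4, chevF4, chevE6, chevE7, chevE8])
    {l : List ℕ} (hl : ∀ i ∈ l, i < D.rank) {s : ℕ} (hs : s < D.nroots) (t : F) :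
    nP D F l * XD D F s t * (nP D F l)⁻¹ =
      XD D F (reflWord D l s) (((etaW D l s : ℤ) : F) * t) := by
  rw [(nP_XDg hD hl hs t).2, mul_assoc, mul_inv_cancel, mul_one]

/-- the conjugate of a torus element under `n_w` commutes with any torus element -/
theorem torMap_comm_conj (hD : D ∈ [chevG2, chevB2, chevD4, chevF4, chevE6, chevE7, chevE8])
    {l : List ℕ} (hl : ∀ i ∈ l, i < D.rank) (c c' : Fin D.rank → Fˣ) :
    torMap D F c * (nP D F l * torMap D F c' * (nP D F l)⁻¹) =
      (nP D F l * torMap D F c' * (nP D F l)⁻¹) * torMap D F c := by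
  have J := validJ_of_mem hD
  have V1 := valid1_of_mem hD
  have H := validH_of_mem hD
  have hI := checkInv_of_mem hD
  have hn : nP D F l ∈ Subgroup.normalizer (D.diagonalSubgroup F : Set (GL D.Idx F)) :=
    N0_le_normalizer J V1 H hI (nP_mem_N0 hl)
  have hh : torMap D F c' ∈ D.diagonalSubgroup F := torMap_mem J H _
  have hc : nP D F l * torMap D F c' * (nP D F l)⁻¹ ∈ D.diagonalSubgroup F :=
    (Subgroup.mem_normalizer_iff.mp hn _).mp hh
  rw [diagonal_eq_range J V1 H] at hc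
  obtain ⟨T', hT'⟩ := hc
  rw [← hT', ← map_mul, ← map_mul, mul_comm]

end

/-! ### Commutator bookkeeping for root elements, and the torus of `²E₆` -/

section

variable {D : ChevalleyDatum} {F : Type*} [Field F]

/-- `B A = A B x_k(z)` -/
def RD (D : ChevalleyDatum) (k : ℕ) (B A : GL D.Idx F) (z : F) : Prop :=
  B * A = A * B * XD D F k z

/-- `g` commutes with the root group `X_k` -/
def CD (D : ChevalleyDatum) (k : ℕ) (g : GL D.Idx F) : Prop :=
  ∀ w : F, g * XD D F k w = XD D F k w * g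

theorem CD.mul {k : ℕ} {g h : GL D.Idx F} (hg : CD D k g) (hh : CD D k h) : CD D k (g * h) := by
  intro w
  rw [mul_assoc, hh w, ← mul_assoc, hg w, mul_assoc]

theorem RD.mul_left (hD : D ∈ [chevG2, chevB2, chevD4, chevF4, chevE6, chevE7, chevE8])
    {k : ℕ} (hk : k < D.nroots) {B1 B2 A : GL D.Idx F} {z1 z2 : F}
    (h1 : RD D k B1 A z1) (h2 : RD D k B2 A z2) (hc : CD D k B2) :
    RD D k (B1 * B2) A (z1 + z2) := by
  unfold RD at *
  calc B1 * B2 * A = B1 * (B2 * A) := by group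
    _ = B1 * (A * B2 * XD D F k z2) := by rw [h2]
    _ = (B1 * A) * B2 * XD D F k z2 := by group
    _ = A * B1 * XD D F k z1 * B2 * XD D F k z2 := by rw [h1]
    _ = A * B1 * (XD D F k z1 * B2) * XD D F k z2 := by group
    _ = A * B1 * (B2 * XD D F k z1) * XD D F k z2 := by rw [hc z1]
    _ = A * (B1 * B2) * (XD D F k z1 * XD D F k z2) := by group
    _ = A * (B1 * B2) * XD D F k (z1 + z2) := by rw [XD_add hD hk]

theorem RD.mul_right (hD : D ∈ [chevG2, chevB2, chevD4, chevF4, chevE6, chevE7, chevE8])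
    {k : ℕ} (hk : k < D.nroots) {B A1 A2 : GL D.Idx F} {z1 z2 : F}
    (h1 : RD D k B A1 z1) (h2 : RD D k B A2 z2) (hc : CD D k A2) :
    RD D k B (A1 * A2) (z1 + z2) := by
  unfold RD at *
  calc B * (A1 * A2) = (B * A1) * A2 := by group
    _ = A1 * B * XD D F k z1 * A2 := by rw [h1]
    _ = A1 * B * (XD D F k z1 * A2) := by group
    _ = A1 * B * (A2 * XD D F k z1) := by rw [hc z1]
    _ = A1 * (B * A2) * XD D F k z1 := by group
    _ = A1 * (A2 * B * XD D F k z2) * XD D F k z1 := by rw [h2]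
    _ = A1 * A2 * B * (XD D F k z2 * XD D F k z1) := by group
    _ = A1 * A2 * B * XD D F k (z1 + z2) := by rw [XD_add hD hk, add_comm]

theorem RD.of_comm (hD : D ∈ [chevG2, chevB2, chevD4, chevF4, chevE6, chevE7, chevE8])
    {k : ℕ} (hk : k < D.nroots) {B A : GL D.Idx F} (h : B * A = A * B) : RD D k B A 0 := by
  unfold RD
  rw [XD_zero hD hk, mul_one, h]

theorem RD.of_nil (hD : D ∈ [chevG2, chevB2, chevD4, chevF4, chevE6, chevE7, chevE8])
    {k : ℕ} (hk : k < D.nroots) {r s : ℕ} (hr : r < D.nroots) (hs : s < D.nroots) (h1 : s ≠ r)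
    (h2 : s ≠ D.neg r) (h : D.commTerms r s = []) (t u : F) :
    RD D k (XD D F s u) (XD D F r t) 0 :=
  RD.of_comm hD hk (XD_comm_of_nil hD hr hs h1 h2 h t u)

theorem RD.of_one (hD : D ∈ [chevG2, chevB2, chevD4, chevF4, chevE6, chevE7, chevE8])
    {k : ℕ} (hk : k < D.nroots) {r s : ℕ} (hr : r < D.nroots) (hs : s < D.nroots) (h1 : s ≠ r)
    (h2 : s ≠ D.neg r) {c : ℤ} (h : D.commTerms r s = [(k, c, 1, 1)]) (t u : F) :
    RD D k (XD D F s u) (XD D F r t) ((c : F) * (-t) * u) := by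
  unfold RD
  rw [XD_rel_oneg hD hr hs hk h1 h2 h t u, ← mul_assoc]

theorem CD.of_nil (hD : D ∈ [chevG2, chevB2, chevD4, chevF4, chevE6, chevE7, chevE8])
    {k : ℕ} (hk : k < D.nroots) {r : ℕ} (hr : r < D.nroots) (h1 : r ≠ k)
    (h2 : r ≠ D.neg k) (h : D.commTerms k r = []) (t : F) : CD D k (XD D F r t) :=
  fun w => XD_comm_of_nil hD hk hr h1 h2 h w t

/-- two commuting one-parameter groups -/
theorem two_comm_add {G : Type*} [Group G] {a b : F → G}
    (ha : ∀ t s, a t * a s = a (t + s)) (hb : ∀ t s, b t * b s = b (t + s))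
    (hab : ∀ t s, b s * a t = a t * b s) (t1 t2 s1 s2 : F) :
    (a t1 * b t2) * (a s1 * b s2) = a (t1 + s1) * b (t2 + s2) := by
  rw [← ha, ← hb]
  calc a t1 * b t2 * (a s1 * b s2) = a t1 * (b t2 * a s1) * b s2 := by group
    _ = a t1 * (a s1 * b t2) * b s2 := by rw [hab]
    _ = a t1 * a s1 * (b t2 * b s2) := by group

end


end RF

end Cfsg.Agent.Lib.Helper8.Chev
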