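import Cfsg.Agent.Lib.Helper8.ChevTh1

set_option autoImplicit false
set_option linter.unusedSimpArgs false
set_option linter.unusedSectionVars false
set_option linter.unnecessarySeqFocus false

namespace Cfsg.Agent.Lib.Helper8.Chev

open Cfsg.Lie Matrix

namespace RF

/-! ### The root group of type `B₂` of `²F₄` as a group of Suzuki type -/

section

variable {D : ChevalleyDatum} {F : Type*} [Field F]

theorem etaW_pm (hD : D ∈ [chevG2, chevB2, chevD4, chevF4, chevE6, chevE7, chevE8])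
    {l : List ℕ} (hl : ∀ i ∈ l, i < D.rank) {s : ℕ} (hs : s < D.nroots) :
    reflWord D l s < D.nroots ∧ (etaW D l s = 1 ∨ etaW D l s = -1) := by
  have J := validJ_of_mem hD
  have H := validH_of_mem hD
  induction l with
  | nil => exact ⟨hs, Or.inl rfl⟩
  | cons i l ih =>
    obtain ⟨h1, h2⟩ := ih (fun j hj => hl j (List.mem_cons_of_mem _ hj))
    have hi : i < D.rank := hl i List.mem_cons_self
    obtain ⟨h3, h4, -⟩ := (nS_props J H.nS hi).2.2 _ h1
    refine ⟨by rw [reflWord_cons]; exact h3, ?_⟩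
    simp only [etaW]
    rcases h2 with h2 | h2 <;> rcases h4 with h4 | h4 <;> rw [h2, h4] <;> simp

/-- conjugation by `n_w` in characteristic two -/
theorem nP_XD2_conj (hD : D ∈ [chevG2, chevB2, chevD4, chevF4, chevE6, chevE7, chevE8])
    (h2 : (2 : F) = 0) {l : List ℕ} (hl : ∀ i ∈ l, i < D.rank) {s : ℕ} (hs : s < D.nroots)
    (t : F) :
    nP D F l * XD D F s t * (nP D F l)⁻¹ = XD D F (reflWord D l s) t := by
  rw [nP_XDg_conj hD hl hs]
  congr 1
  have hneg : -t = t := by linear_combination (-t) * h2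
  rcases (etaW_pm hD hl hs).2 with h | h <;> rw [h] <;> simp [hneg]

theorem conj_four {G : Type*} [Group G] (c x y z w : G) :
    c * (x * (y * (z * w))) * c⁻¹ =
      (c * x * c⁻¹) * ((c * y * c⁻¹) * ((c * z * c⁻¹) * (c * w * c⁻¹))) := by group

end

section

variable {K : Type*} [Field K]

/-- the four root groups of a class of type `B₂`, as invertible matrices -/
noncomputable def yG (K : Type*) [Field K] (rs : List ℕ) (i : ℕ) (c : K) : GL chevF4.Idx K :=
  XD chevF4 K (rs.getD i 0) c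

/-- the element `x_b(t) x_a(s) x_{a+b}(p) x_{2a+b}(r)` for the class with roots `rs` -/
noncomputable def N4G (rs : List ℕ) (t s p r : K) : GL chevF4.Idx K :=
  B2Rel.N4 (yG K rs) t s p r

theorem N4G_eq (b a ab aab : ℕ) (t s p r : K) :
    N4G [b, a, ab, aab] t s p r =
      XD chevF4 K b t * (XD chevF4 K a s * (XD chevF4 K ab p * XD chevF4 K aab r)) := rfl

theorem getD_lt_B : ∀ i : ℕ, [25, 27, 28, 30].getD i 0 < 48 := by
  intro i
  rcases i with _ | _ | _ | _ | i <;> simp

theorem coe_yG_B (i : ℕ) (c : K) :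
    ((yG K [25, 27, 28, 30] i c : GL chevF4.Idx K) : Matrix chevF4.Idx chevF4.Idx K) =
      yB K i c := coe_XD hDF4 (getD_lt_B i) c

variable [CharP K 2]

theorem b2RelG : B2Rel (yG K [25, 27, 28, 30]) := by
  have hR := b2Rel_pos (K := K)
  refine ⟨?_, ?_, ?_, ?_, ?_, ?_, ?_, ?_⟩
  · intro i s t
    apply Units.ext
    simp only [Units.val_mul, coe_yG_B]
    exact hR.add i s t
  · intro i
    apply Units.ext
    simp only [coe_yG_B, Units.val_one]
    exact hR.zero i
  · intro t u
    apply Units.ext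
    simp only [Units.val_mul, coe_yG_B]
    exact hR.c1 t u
  · intro s t
    apply Units.ext
    simp only [Units.val_mul, coe_yG_B]
    exact hR.c02 s t
  · intro s t
    apply Units.ext
    simp only [Units.val_mul, coe_yG_B]
    exact hR.c03 s t
  · intro s t
    apply Units.ext
    simp only [Units.val_mul, coe_yG_B]
    exact hR.c12 s t
  · intro s t
    apply Units.ext
    simp only [Units.val_mul, coe_yG_B]
    exact hR.c13 s t
  · intro s t
    apply Units.ext
    simp only [Units.val_mul, coe_yG_B]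
    exact hR.c23 s t

/-- the element `x_R(t, u)` of the positive root group of type `B₂` of `²F₄` -/
noncomputable def XR (m : ℕ) (t u : K) : GL chevF4.Idx K :=
  N4G [25, 27, 28, 30] t (t ^ 2 ^ m) u (t * (t ^ 2 ^ m) ^ 2 + u ^ (2 * 2 ^ m))

theorem coe_XR (m : ℕ) (t u : K) :
    ((XR m t u : GL chevF4.Idx K) : Matrix chevF4.Idx chevF4.Idx K) =
      chevF4.wordMat K (b2ClassWord (2 ^ m) 27 25 28 30 t u) := by
  rw [clsWordB_N4]
  unfold XR N4G B2Rel.N4
  simp only [Units.val_mul, coe_yG_B]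

variable [Fintype K]

theorem XR_law {m : ℕ} (hK : Fintype.card K = 2 ^ (2 * m + 1)) {θ : K →+* K}
    (hθ : ∀ t, θ t = t ^ 2 ^ m) : SuzLaw θ (XR (K := K) m) := by
  intro t u t' u'
  have h2 : (2 : K) = 0 := two_eq_zero'
  unfold XR N4G
  rw [b2RelG.N4_mul]
  have e1 : (t + t') ^ 2 ^ m = t ^ 2 ^ m + t' ^ 2 ^ m := by
    have : Fact (Nat.Prime 2) := ⟨Nat.prime_two⟩
    exact add_pow_char_pow t t' 2 m
  have e2 : (θ t * t') ^ (2 * 2 ^ m) = t * t' ^ (2 * 2 ^ m) := by
    rw [mul_pow, hθ, pow_theta hK]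
  rw [hθ, e1, add_pow_two_theta, add_pow_two_theta, ← hθ t, e2, hθ]
  congr 1
  · ring
  · have e3 : ∀ x : K, x ^ (2 * 2 ^ m) = (x ^ 2 ^ m) ^ 2 := by
      intro x
      rw [← pow_mul, mul_comm]
    rw [e3 t']
    linear_combination (-(t * (t' ^ 2 ^ m) ^ 2) - t' * t ^ 2 ^ m * t' ^ 2 ^ m - t * t ^ 2 ^ m * t' ^ 2 ^ m) * h2

end

end RF

end Cfsg.Agent.Lib.Helper8.Chev
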