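import Cfsg.Agent.Lib.Helper8.ChevTh2

set_option autoImplicit false
set_option linter.unusedSimpArgs false
set_option linter.unusedSectionVars false
set_option linter.unnecessarySeqFocus false

namespace Cfsg.Agent.Lib.Helper8.Chev

open Cfsg.Lie Matrix

namespace RF

/-! ### The twisted Coxeter element and the torus of `²F₄` acting on the root groups -/

section

variable {K : Type*} [Field K]

/-- the word of the twisted Coxeter element of `²F₄` -/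
def cFL : List ℕ := [0, 3, 1, 2, 1, 2]

/-- the twisted Coxeter element of `²F₄` -/
noncomputable def cF (K : Type*) [Field K] : GL chevF4.Idx K := nP chevF4 K cFL

theorem nP_pow' {D : ChevalleyDatum} (l : List ℕ) (k : ℕ) :
    nP D K l ^ k = nP D K (List.replicate k l).flatten := by
  induction k with
  | zero => simp [nP_nil]
  | succ k ih =>
    rw [pow_succ', ih, List.replicate_succ, List.flatten_cons, nP_append]

theorem cFL_pow_lt (k : ℕ) : ∀ i ∈ (List.replicate k cFL).flatten, i < chevF4.rank := by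
  intro i hi
  rw [List.mem_flatten] at hi
  obtain ⟨l, hl, hil⟩ := hi
  rw [List.eq_of_mem_replicate hl] at hil
  revert i
  decide

variable [CharP K 2]

/-- conjugating a normal form by a power of the Coxeter element -/
theorem cF_pow_N4G (k : ℕ) {b a ab aab : ℕ} (hb : b < 48) (ha : a < 48) (hab : ab < 48)
    (haab : aab < 48) (t s p r : K) :
    cF K ^ k * N4G [b, a, ab, aab] t s p r * (cF K ^ k)⁻¹ =
      N4G [reflWord chevF4 (List.replicate k cFL).flatten b,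
        reflWord chevF4 (List.replicate k cFL).flatten a,
        reflWord chevF4 (List.replicate k cFL).flatten ab,
        reflWord chevF4 (List.replicate k cFL).flatten aab] t s p r := by
  have h2 : (2 : K) = 0 := two_eq_zero'
  rw [N4G_eq, N4G_eq]
  unfold cF
  rw [nP_pow', conj_four, nP_XD2_conj hDF4 h2 (cFL_pow_lt k) hb,
    nP_XD2_conj hDF4 h2 (cFL_pow_lt k) ha, nP_XD2_conj hDF4 h2 (cFL_pow_lt k) hab,
    nP_XD2_conj hDF4 h2 (cFL_pow_lt k) haab]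

/-- conjugating a pair by a power of the Coxeter element -/
theorem cF_pow_pair (k : ℕ) {r r' : ℕ} (hr : r < 48) (hr' : r' < 48) (t s : K) :
    cF K ^ k * (XD chevF4 K r t * XD chevF4 K r' s) * (cF K ^ k)⁻¹ =
      XD chevF4 K (reflWord chevF4 (List.replicate k cFL).flatten r) t *
        XD chevF4 K (reflWord chevF4 (List.replicate k cFL).flatten r') s := by
  have h2 : (2 : K) = 0 := two_eq_zero'
  have e : ∀ c x y : GL chevF4.Idx K, c * (x * y) * c⁻¹ = (c * x * c⁻¹) * (c * y * c⁻¹) := by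
    intro c x y
    group
  unfold cF
  rw [nP_pow', e, nP_XD2_conj hDF4 h2 (cFL_pow_lt k) hr, nP_XD2_conj hDF4 h2 (cFL_pow_lt k) hr']

theorem f4_c_vals :
    (reflWord chevF4 (List.replicate 1 cFL).flatten 25 = 21 ∧
      reflWord chevF4 (List.replicate 1 cFL).flatten 27 = 13 ∧
      reflWord chevF4 (List.replicate 1 cFL).flatten 28 = 11 ∧
      reflWord chevF4 (List.replicate 1 cFL).flatten 30 = 5) ∧
    (reflWord chevF4 (List.replicate 4 cFL).flatten 25 = 22 ∧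
      reflWord chevF4 (List.replicate 4 cFL).flatten 27 = 20 ∧
      reflWord chevF4 (List.replicate 4 cFL).flatten 28 = 19 ∧
      reflWord chevF4 (List.replicate 4 cFL).flatten 30 = 17) ∧
    (reflWord chevF4 (List.replicate 7 cFL).flatten 25 = 31 ∧
      reflWord chevF4 (List.replicate 7 cFL).flatten 27 = 35 ∧
      reflWord chevF4 (List.replicate 7 cFL).flatten 28 = 40 ∧
      reflWord chevF4 (List.replicate 7 cFL).flatten 30 = 46) ∧
    (reflWord chevF4 (List.replicate 1 cFL).flatten 37 = 14 ∧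
      reflWord chevF4 (List.replicate 1 cFL).flatten 32 = 23) ∧
    (reflWord chevF4 (List.replicate 5 cFL).flatten 37 = 33 ∧
      reflWord chevF4 (List.replicate 5 cFL).flatten 32 = 24) := by
  decide +kernel

/-- conjugating a normal form by a torus element -/
theorem torMap_N4G (c : Fin chevF4.rank → Kˣ) {b a ab aab : ℕ} (hb : b < 48) (ha : a < 48)
    (hab : ab < 48) (haab : aab < 48) (t s p r : K) :
    torMap chevF4 K c * N4G [b, a, ab, aab] t s p r * (torMap chevF4 K c)⁻¹ =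
      N4G [b, a, ab, aab] ((chiT chevF4 c b : Kˣ) * t) ((chiT chevF4 c a : Kˣ) * s)
        ((chiT chevF4 c ab : Kˣ) * p) ((chiT chevF4 c aab : Kˣ) * r) := by
  rw [N4G_eq, N4G_eq, conj_four, torMap_XD_conj hDF4 c hb, torMap_XD_conj hDF4 c ha,
    torMap_XD_conj hDF4 c hab, torMap_XD_conj hDF4 c haab]

theorem f4_cartan_tg :
    (chevF4.cartan 0 25 = 0 ∧ chevF4.cartan 3 25 = -1 ∧ chevF4.cartan 0 27 = -1 ∧
      chevF4.cartan 3 27 = 0 ∧ chevF4.cartan 0 28 = -1 ∧ chevF4.cartan 3 28 = -1 ∧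
      chevF4.cartan 0 30 = -2 ∧ chevF4.cartan 3 30 = -1) ∧
    (chevF4.cartan 0 21 = 0 ∧ chevF4.cartan 3 21 = -1 ∧ chevF4.cartan 0 13 = -1 ∧
      chevF4.cartan 3 13 = 0 ∧ chevF4.cartan 0 11 = -1 ∧ chevF4.cartan 3 11 = -1 ∧
      chevF4.cartan 0 5 = -2 ∧ chevF4.cartan 3 5 = -1) := by decide +kernel

theorem chiT_hA (m : ℕ) (a : Kˣ) (r : ℕ) :
    chiT chevF4 (tup4 (a ^ 2 ^ m) 1 1 a) r =
      (a ^ 2 ^ m) ^ chevF4.cartan 0 r * a ^ chevF4.cartan 3 r := by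
  rw [chiT_tup4]
  simp

variable [Fintype K]

/-- the normal form of the scaled element -/
theorem N4G_scale {m : ℕ} (hK : Fintype.card K = 2 ^ (2 * m + 1)) (rs : List ℕ) (α t u : K) :
    N4G rs (α * t) ((α ^ 2 ^ m) * t ^ 2 ^ m) (α * α ^ 2 ^ m * u)
        (α * (α ^ 2 ^ m) ^ 2 * (t * (t ^ 2 ^ m) ^ 2 + u ^ (2 * 2 ^ m))) =
      N4G rs (α * t) ((α * t) ^ 2 ^ m) (α * α ^ 2 ^ m * u)
        ((α * t) * ((α * t) ^ 2 ^ m) ^ 2 + (α * α ^ 2 ^ m * u) ^ (2 * 2 ^ m)) := by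
  congr 1
  · rw [mul_pow]
  · have e3 : α ^ (2 * 2 ^ m) = (α ^ 2 ^ m) ^ 2 := by rw [← pow_mul, mul_comm]
    have e4 : (α * α ^ 2 ^ m * u) ^ (2 * 2 ^ m) = (α ^ 2 ^ m) ^ 2 * α * u ^ (2 * 2 ^ m) := by
      rw [mul_pow, mul_pow, pow_theta hK, e3]
    rw [e4, mul_pow]
    ring

theorem hA_vals (m : ℕ) (a : Kˣ) :
    ((((a ^ 2 ^ m) ^ (0 : ℤ) * a ^ (-1 : ℤ) : Kˣ) : K) = (a : K)⁻¹) ∧
    ((((a ^ 2 ^ m) ^ (-1 : ℤ) * a ^ (0 : ℤ) : Kˣ) : K) = ((a : K)⁻¹) ^ 2 ^ m) ∧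
    ((((a ^ 2 ^ m) ^ (-1 : ℤ) * a ^ (-1 : ℤ) : Kˣ) : K) = (a : K)⁻¹ * ((a : K)⁻¹) ^ 2 ^ m) ∧
    ((((a ^ 2 ^ m) ^ (-2 : ℤ) * a ^ (-1 : ℤ) : Kˣ) : K) =
      (a : K)⁻¹ * (((a : K)⁻¹) ^ 2 ^ m) ^ 2) := by
  refine ⟨by simp, by simp [inv_pow], by simp [inv_pow, mul_comm], ?_⟩
  have : ((a ^ 2 ^ m) ^ (-2 : ℤ) : Kˣ) = ((a ^ 2 ^ m)⁻¹) ^ 2 := by
    rw [_root_.zpow_neg, ← inv_pow]
    rfl
  rw [this]
  simp [inv_pow, mul_comm]

/-- the torus element `h_A(a)` acts on `x_R(t, u)` -/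
theorem tor_XR {m : ℕ} (hK : Fintype.card K = 2 ^ (2 * m + 1)) (a : Kˣ) (t u : K) :
    hA m a * XR m t u * (hA m a)⁻¹ =
      XR m ((a : K)⁻¹ * t) ((a : K)⁻¹ * ((a : K)⁻¹) ^ 2 ^ m * u) := by
  obtain ⟨⟨c1, c2, c3, c4, c5, c6, c7, c8⟩, -⟩ := f4_cartan_tg
  unfold XR hA
  rw [torMap_N4G _ (by decide) (by decide) (by decide) (by decide), chiT_hA, chiT_hA, chiT_hA,
    chiT_hA, c1, c2, c3, c4, c5, c6, c7, c8, ← N4G_scale hK]
  obtain ⟨v1, v2, v3, v4⟩ := hA_vals (K := K) m a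
  rw [v1, v2, v3, v4]

/-- the conjugate `x'_R(t, u)` of `x_R(t, u)` under the Coxeter element -/
noncomputable def XR' (m : ℕ) (t u : K) : GL chevF4.Idx K := cF K * XR m t u * (cF K)⁻¹

theorem XR'_eq (m : ℕ) (t u : K) :
    XR' m t u = N4G [21, 13, 11, 5] t (t ^ 2 ^ m) u (t * (t ^ 2 ^ m) ^ 2 + u ^ (2 * 2 ^ m)) := by
  obtain ⟨⟨r1, r2, r3, r4⟩, -⟩ := f4_c_vals
  have := cF_pow_N4G (K := K) 1 (by decide : 25 < 48) (by decide : 27 < 48) (by decide : 28 < 48)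
    (by decide : 30 < 48) t (t ^ 2 ^ m) u (t * (t ^ 2 ^ m) ^ 2 + u ^ (2 * 2 ^ m))
  rw [pow_one, r1, r2, r3, r4] at this
  exact this

theorem tor_XR' {m : ℕ} (hK : Fintype.card K = 2 ^ (2 * m + 1)) (a : Kˣ) (t u : K) :
    hA m a * XR' m t u * (hA m a)⁻¹ =
      XR' m ((a : K)⁻¹ * t) ((a : K)⁻¹ * ((a : K)⁻¹) ^ 2 ^ m * u) := by
  obtain ⟨-, ⟨c1, c2, c3, c4, c5, c6, c7, c8⟩⟩ := f4_cartan_tg
  rw [XR'_eq, XR'_eq]
  unfold hA
  rw [torMap_N4G _ (by decide) (by decide) (by decide) (by decide), chiT_hA, chiT_hA, chiT_hA,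
    chiT_hA, c1, c2, c3, c4, c5, c6, c7, c8, ← N4G_scale hK]
  obtain ⟨v1, v2, v3, v4⟩ := hA_vals (K := K) m a
  rw [v1, v2, v3, v4]

theorem XR'_law {m : ℕ} (hK : Fintype.card K = 2 ^ (2 * m + 1)) {θ : K →+* K}
    (hθ : ∀ t, θ t = t ^ 2 ^ m) : SuzLaw θ (XR' (K := K) m) := by
  intro t u t' u'
  unfold XR'
  rw [← XR_law hK hθ]
  group

theorem hA_comm_conj (m : ℕ) (a : Kˣ) :
    hA m a * (cF K * hA m a * (cF K)⁻¹) = (cF K * hA m a * (cF K)⁻¹) * hA m a := by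
  unfold hA cF
  exact torMap_comm_conj hDF4 (by unfold cFL; decide) _ _

end

end RF

end Cfsg.Agent.Lib.Helper8.Chev
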