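import Cfsg.Agent.Lib.Helper8.ChevTh3

set_option autoImplicit false
set_option linter.unusedSimpArgs false
set_option linter.unusedSectionVars false
set_option linter.unnecessarySeqFocus false

namespace Cfsg.Agent.Lib.Helper8.Chev

open Cfsg.Lie Matrix

namespace RF

/-! ### The commutator of two adjacent root groups of type `B₂` in `²F₄` -/

section

variable {G : Type*} [Group G]

/-- `B A = A B Z` -/
def RZ (B A Z : G) : Prop := B * A = A * B * Z

theorem RZ.of_comm {B A : G} (h : Commute B A) : RZ B A 1 := by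
  unfold RZ
  rw [mul_one]
  exact h

theorem RZ.mul_left {B1 B2 A Z1 Z2 : G} (h1 : RZ B1 A Z1) (h2 : RZ B2 A Z2)
    (hc : Commute Z1 B2) : RZ (B1 * B2) A (Z1 * Z2) := by
  unfold RZ at *
  calc B1 * B2 * A = B1 * (B2 * A) := by group
    _ = B1 * (A * B2 * Z2) := by rw [h2]
    _ = (B1 * A) * B2 * Z2 := by group
    _ = A * B1 * Z1 * B2 * Z2 := by rw [h1]
    _ = A * B1 * (Z1 * B2) * Z2 := by group
    _ = A * B1 * (B2 * Z1) * Z2 := by rw [hc.eq]
    _ = A * (B1 * B2) * (Z1 * Z2) := by group

theorem RZ.mul_right {B A1 A2 Z1 Z2 : G} (h1 : RZ B A1 Z1) (h2 : RZ B A2 Z2)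
    (hc : Commute Z1 A2) : RZ B (A1 * A2) (Z2 * Z1) := by
  unfold RZ at *
  calc B * (A1 * A2) = (B * A1) * A2 := by group
    _ = A1 * B * Z1 * A2 := by rw [h1]
    _ = A1 * B * (Z1 * A2) := by group
    _ = A1 * B * (A2 * Z1) := by rw [hc.eq]
    _ = A1 * (B * A2) * Z1 := by group
    _ = A1 * (A2 * B * Z2) * Z1 := by rw [h2]
    _ = A1 * A2 * B * (Z2 * Z1) := by group

/-- the commutator of two products of four factors, only two pairs interacting -/
theorem RZ_four {A1 A2 A3 A4 B1 B2 B3 B4 Z1 Z2 : G}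
    (h11 : RZ B1 A1 Z1) (h22 : RZ B2 A2 Z2)
    (h12 : Commute B1 A2) (h13 : Commute B1 A3) (h14 : Commute B1 A4)
    (h21 : Commute B2 A1) (h23 : Commute B2 A3) (h24 : Commute B2 A4)
    (h31 : Commute B3 A1) (h32 : Commute B3 A2) (h33 : Commute B3 A3) (h34 : Commute B3 A4)
    (h41 : Commute B4 A1) (h42 : Commute B4 A2) (h43 : Commute B4 A3) (h44 : Commute B4 A4)
    (hZ1A : ∀ X ∈ [A2, A3, A4, B2, B3, B4], Commute Z1 X)
    (hZ2A : ∀ X ∈ [A3, A4, B3, B4], Commute Z2 X) :
    RZ (B1 * (B2 * (B3 * B4))) (A1 * (A2 * (A3 * A4))) (Z1 * Z2) := by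
  have c1 : ∀ {B : G}, Commute B A1 → Commute B A2 → Commute B A3 → Commute B A4 →
      RZ B (A1 * (A2 * (A3 * A4))) 1 := by
    intro B k1 k2 k3 k4
    have := RZ.of_comm (k1.mul_right (k2.mul_right (k3.mul_right k4)))
    exact this
  have r1 : RZ B1 (A1 * (A2 * (A3 * A4))) Z1 := by
    have e := h11.mul_right (RZ.of_comm (h12.mul_right (h13.mul_right h14)))
      ((hZ1A A2 (by simp)).mul_right ((hZ1A A3 (by simp)).mul_right (hZ1A A4 (by simp))))
    rw [one_mul] at e
    exact e
  have r2 : RZ B2 (A1 * (A2 * (A3 * A4))) Z2 := by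
    have e2 := h22.mul_right (RZ.of_comm (h23.mul_right h24))
      ((hZ2A A3 (by simp)).mul_right (hZ2A A4 (by simp)))
    rw [one_mul] at e2
    have e := (RZ.of_comm h21).mul_right e2 (Commute.one_left _)
    rw [mul_one] at e
    exact e
  have r3 := c1 h31 h32 h33 h34
  have r4 := c1 h41 h42 h43 h44
  have r34 := r3.mul_left r4 (Commute.one_left _)
  rw [mul_one] at r34
  have r234 := r2.mul_left r34 ((hZ2A B3 (by simp)).mul_right (hZ2A B4 (by simp)))
  rw [mul_one] at r234
  exact r1.mul_left r234
    ((hZ1A B2 (by simp)).mul_right ((hZ1A B3 (by simp)).mul_right (hZ1A B4 (by simp))))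

end

section

variable {K : Type*} [Field K]

set_option maxRecDepth 100000 in
theorem f4_nil_tg :
    (∀ r ∈ [25, 27, 28, 30], ∀ s ∈ [31, 35, 40, 46], (r, s) ≠ (25, 31) → (r, s) ≠ (27, 35) →
      chevF4.commTerms r s = []) ∧
    (∀ r ∈ [25, 27, 28, 30, 31, 35, 40, 46],
      chevF4.commTerms r 37 = [] ∧ chevF4.commTerms r 32 = []) ∧
    chevF4.commTerms 25 31 = [(32, 1, 1, 1)] ∧ chevF4.commTerms 27 35 = [(37, 1, 1, 1)] ∧
    chevF4.commTerms 37 32 = [] ∧ chevF4.commTerms 33 24 = [] ∧ chevF4.commTerms 14 23 = [] := by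
  decide +kernel

theorem cmXD {r s : ℕ} (hr : r < 48) (hs : s < 48) (h1 : s ≠ r) (h2 : s ≠ chevF4.neg r)
    (h : chevF4.commTerms r s = []) (t u : K) :
    Commute (XD chevF4 K s u) (XD chevF4 K r t) :=
  XD_comm_of_nil hDF4 hr hs h1 h2 h t u

variable [CharP K 2]

/-- the commutator of `x_{r₆}` and `x_{r₈}` -/
theorem comm_r6_r8 (t s p r t' s' p' r' : K) :
    N4G [31, 35, 40, 46] t' s' p' r' * N4G [25, 27, 28, 30] t s p r =
      N4G [25, 27, 28, 30] t s p r * N4G [31, 35, 40, 46] t' s' p' r' *
        (XD chevF4 K 32 (t * t') * XD chevF4 K 37 (s * s')) := by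
  obtain ⟨hn, hz, h1, h2, -⟩ := f4_nil_tg
  have hneg : ∀ x : K, -x = x := neg_eq_self'
  have hc : ∀ {a b : ℕ}, a ∈ [25, 27, 28, 30] → b ∈ [31, 35, 40, 46] → (a, b) ≠ (25, 31) →
      (a, b) ≠ (27, 35) → ∀ x y : K, Commute (XD chevF4 K b y) (XD chevF4 K a x) := by
    intro a b ha hb n1 n2 x y
    have hnil := hn a ha b hb n1 n2
    have ha' : a < 48 := by
      simp only [List.mem_cons, List.not_mem_nil, or_false] at ha
      omega
    have hb' : b < 48 := by
      simp only [List.mem_cons, List.not_mem_nil, or_false] at hb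
      omega
    refine cmXD ha' hb' ?_ ?_ hnil x y
    · simp only [List.mem_cons, List.not_mem_nil, or_false] at ha hb
      omega
    · simp only [List.mem_cons, List.not_mem_nil, or_false] at ha hb
      rcases ha with rfl | rfl | rfl | rfl <;> rcases hb with rfl | rfl | rfl | rfl <;> decide
  have hz37 : ∀ {a : ℕ}, a ∈ [25, 27, 28, 30, 31, 35, 40, 46] → ∀ x y : K,
      Commute (XD chevF4 K 37 y) (XD chevF4 K a x) := by
    intro a ha x y
    have hnil := (hz a ha).1
    have ha' : a < 48 := by
      simp only [List.mem_cons, List.not_mem_nil, or_false] at ha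
      omega
    refine cmXD ha' (by decide) ?_ ?_ hnil x y
    · simp only [List.mem_cons, List.not_mem_nil, or_false] at ha
      omega
    · simp only [List.mem_cons, List.not_mem_nil, or_false] at ha
      rcases ha with rfl | rfl | rfl | rfl | rfl | rfl | rfl | rfl <;> decide
  have hz32 : ∀ {a : ℕ}, a ∈ [25, 27, 28, 30, 31, 35, 40, 46] → ∀ x y : K,
      Commute (XD chevF4 K 32 y) (XD chevF4 K a x) := by
    intro a ha x y
    have hnil := (hz a ha).2
    have ha' : a < 48 := by
      simp only [List.mem_cons, List.not_mem_nil, or_false] at ha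
      omega
    refine cmXD ha' (by decide) ?_ ?_ hnil x y
    · simp only [List.mem_cons, List.not_mem_nil, or_false] at ha
      omega
    · simp only [List.mem_cons, List.not_mem_nil, or_false] at ha
      rcases ha with rfl | rfl | rfl | rfl | rfl | rfl | rfl | rfl <;> decide
  have h11 : RZ (XD chevF4 K 31 t') (XD chevF4 K 25 t) (XD chevF4 K 32 (t * t')) := by
    unfold RZ
    rw [XD_rel_oneg hDF4 (by decide) (by decide) (by decide) (by decide) (by decide) h1 t t',
      ← mul_assoc]
    congr 2
    push_cast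
    rw [one_mul, hneg]
  have h22 : RZ (XD chevF4 K 35 s') (XD chevF4 K 27 s) (XD chevF4 K 37 (s * s')) := by
    unfold RZ
    rw [XD_rel_oneg hDF4 (by decide) (by decide) (by decide) (by decide) (by decide) h2 s s',
      ← mul_assoc]
    congr 2
    push_cast
    rw [one_mul, hneg]
  have key := RZ_four h11 h22
    (hc (a := 27) (b := 31) (by simp) (by simp) (by decide) (by decide) s t')
    (hc (a := 28) (b := 31) (by simp) (by simp) (by decide) (by decide) p t')
    (hc (a := 30) (b := 31) (by simp) (by simp) (by decide) (by decide) r t')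
    (hc (a := 25) (b := 35) (by simp) (by simp) (by decide) (by decide) t s')
    (hc (a := 28) (b := 35) (by simp) (by simp) (by decide) (by decide) p s')
    (hc (a := 30) (b := 35) (by simp) (by simp) (by decide) (by decide) r s')
    (hc (a := 25) (b := 40) (by simp) (by simp) (by decide) (by decide) t p')
    (hc (a := 27) (b := 40) (by simp) (by simp) (by decide) (by decide) s p')
    (hc (a := 28) (b := 40) (by simp) (by simp) (by decide) (by decide) p p')
    (hc (a := 30) (b := 40) (by simp) (by simp) (by decide) (by decide) r p')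
    (hc (a := 25) (b := 46) (by simp) (by simp) (by decide) (by decide) t r')
    (hc (a := 27) (b := 46) (by simp) (by simp) (by decide) (by decide) s r')
    (hc (a := 28) (b := 46) (by simp) (by simp) (by decide) (by decide) p r')
    (hc (a := 30) (b := 46) (by simp) (by simp) (by decide) (by decide) r r')
    (by
      intro X hX
      simp only [List.mem_cons, List.not_mem_nil, or_false] at hX
      rcases hX with rfl | rfl | rfl | rfl | rfl | rfl
      · exact hz32 (by simp) _ _
      · exact hz32 (by simp) _ _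
      · exact hz32 (by simp) _ _
      · exact hz32 (by simp) _ _
      · exact hz32 (by simp) _ _
      · exact hz32 (by simp) _ _)
    (by
      intro X hX
      simp only [List.mem_cons, List.not_mem_nil, or_false] at hX
      rcases hX with rfl | rfl | rfl | rfl
      · exact hz37 (by simp) _ _
      · exact hz37 (by simp) _ _
      · exact hz37 (by simp) _ _
      · exact hz37 (by simp) _ _)
  unfold RZ at key
  rw [N4G_eq, N4G_eq]
  exact key

end

end RF

end Cfsg.Agent.Lib.Helper8.Chev
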