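import Cfsg.Agent.Lib.Helper8.ChevTg10
import Cfsg.Agent.Lib.Helper8.ChevGen1

set_option autoImplicit false
set_option linter.unusedSimpArgs false
set_option linter.unusedSectionVars false
set_option linter.unnecessarySeqFocus false

namespace Cfsg.Agent.Lib.Helper8.Chev

open Cfsg.Lie Matrix

/-! ### Root subgroups inside a subgroup: closure certificates -/

section

variable {D : ChevalleyDatum} {F : Type*} [Field F]

theorem etaW_sign (hD : D ∈ [chevG2, chevB2, chevD4, chevF4, chevE6, chevE7, chevE8])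
    {l : List ℕ} (hl : ∀ i ∈ l, i < D.rank) {s : ℕ} (hs : s < D.nroots) :
    reflWord D l s < D.nroots ∧ (etaW D l s = 1 ∨ etaW D l s = -1) := by
  have J := validJ_of_mem hD
  have H := validH_of_mem hD
  induction l with
  | nil => exact ⟨hs, Or.inl rfl⟩
  | cons i l ih =>
    obtain ⟨h1, h2⟩ := ih (fun j hj => hl j (List.mem_cons_of_mem _ hj))
    have hi : i < D.rank := hl i List.mem_cons_self
    obtain ⟨h3, h4, -⟩ := (nS_props J H.nS hi).2.2 _ h1
    refine ⟨by rw [reflWord_cons]; exact h3, ?_⟩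
    simp only [etaW]
    rcases h2 with h2 | h2 <;> rcases h4 with h4 | h4 <;> rw [h2, h4] <;> simp

/-- the root subgroup `X_r` lies in `L` -/
def GoodR (D : ChevalleyDatum) (F : Type*) [Field F] (L : Subgroup (GL D.Idx F)) (r : ℕ) : Prop :=
  ∀ t : F, XD D F r t ∈ L

theorem GoodR.conj (hD : D ∈ [chevG2, chevB2, chevD4, chevF4, chevE6, chevE7, chevE8])
    {L : Subgroup (GL D.Idx F)} {l : List ℕ} (hl : ∀ i ∈ l, i < D.rank) (hn : nP D F l ∈ L)
    {s : ℕ} (hs : s < D.nroots) (h : GoodR D F L s) : GoodR D F L (reflWord D l s) := by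
  intro t
  have e := nP_XDg_conj hD hl hs (F := F) (((etaW D l s : ℤ) : F) * t)
  have e2 : ((etaW D l s : ℤ) : F) * (((etaW D l s : ℤ) : F) * t) = t := by
    rcases (etaW_sign hD hl hs).2 with h' | h' <;> rw [h'] <;> simp
  rw [e2] at e
  rw [← e]
  exact mul_mem (mul_mem hn (h _)) (inv_mem hn)

theorem GoodR.sum (hD : D ∈ [chevG2, chevB2, chevD4, chevF4, chevE6, chevE7, chevE8])
    {L : Subgroup (GL D.Idx F)} {r s k : ℕ} (hr : r < D.nroots) (hs : s < D.nroots)
    (hk : k < D.nroots) (h1 : s ≠ r) (h2 : s ≠ D.neg r) {c : ℤ}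
    (hc : D.commTerms r s = [(k, c, 1, 1)]) (hcF : ((c : ℤ) : F) ≠ 0)
    (gr : GoodR D F L r) (gs : GoodR D F L s) : GoodR D F L k := by
  intro t
  have e := XD_rel_oneg hD hr hs hk h1 h2 hc (-(t / (c : F))) (1 : F)
  have e2 : (c : F) * (-(-(t / (c : F)))) * 1 = t := by
    field_simp
  rw [e2] at e
  have : XD D F k t = (XD D F r (-(t / (c : F))) * XD D F s 1)⁻¹ *
      (XD D F s 1 * XD D F r (-(t / (c : F)))) := by
    rw [e]
    group
  rw [this]
  exact mul_mem (inv_mem (mul_mem (gr _) (gs _))) (mul_mem (gs _) (gr _))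

theorem nG_mem_of_good (hD : D ∈ [chevG2, chevB2, chevD4, chevF4, chevE6, chevE7, chevE8])
    {L : Subgroup (GL D.Idx F)} {i : ℕ} (hi : i < D.rank) (h1 : GoodR D F L (D.simple i))
    (h2 : GoodR D F L (D.neg (D.simple i))) : nG D F i ∈ L := by
  have J := validJ_of_mem hD
  have hp := (J.S i hi).1
  have hn := J.V.neg_lt hp
  unfold nG ChevalleyDatum.nWord
  rw [wGD_cons hD hp, wGD_cons hD hn, wGD_cons hD hp, wGD_nil hD, mul_one]
  · exact mul_mem (h1 _) (mul_mem (h2 _) (h1 _))
  · simp
  · intro p h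
    simp only [List.mem_cons, List.not_mem_nil, or_false] at h
    rw [h]
    exact hp
  · intro p h
    simp only [List.mem_cons, List.not_mem_nil, or_false] at h
    rcases h with rfl | rfl
    · exact hn
    · exact hp

/-- all fundamental root subgroups and their opposites lie in `L` -/
theorem group_le_of_goodR (hD : D ∈ [chevG2, chevB2, chevD4, chevF4, chevE6, chevE7, chevE8])
    {L : Subgroup (GL D.Idx F)}
    (h : ∀ i < D.rank, GoodR D F L (D.simple i) ∧ GoodR D F L (D.neg (D.simple i))) :
    D.group F ≤ L := by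
  have J := validJ_of_mem hD
  rw [group_eq_closure_fund hD, Subgroup.closure_le]
  rintro g ⟨i, hi, t, hg | hg⟩
  · have : g = XD D F (D.simple i) t := by
      apply Units.ext
      rw [hg, coe_XD hD (J.S i hi).1]
    rw [this]
    exact (h i hi).1 t
  · have : g = XD D F (D.neg (D.simple i)) t := by
      apply Units.ext
      rw [hg, coe_XD hD (J.V.neg_lt (J.S i hi).1)]
    rw [this]
    exact (h i hi).2 t

/-! #### certificates -/

/-- one step: `(0, w, r)` conjugates the root `r` by the `w`-th word, `(1, r, s)` takes the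
commutator of `X_r` and `X_s`, `(2, i, _)` adds the fundamental reflection `i` to the words -/
def certStep (D : ChevalleyDatum) (us : List ℤ) (st : List ℕ × List (List ℕ))
    (p : ℕ × ℕ × ℕ) : Option (List ℕ × List (List ℕ)) :=
  if p.1 = 0 then
    (if p.2.2 ∈ st.1 ∧ p.2.1 < st.2.length then
      some (reflWord D (st.2.getD p.2.1 []) p.2.2 :: st.1, st.2) else none)
  else if p.1 = 1 then
    (if p.2.1 ∈ st.1 ∧ p.2.2 ∈ st.1 ∧ p.2.2 ≠ p.2.1 ∧ p.2.2 ≠ D.neg p.2.1 then
      (match D.commTerms p.2.1 p.2.2 with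
        | [(k, c, 1, 1)] => if c ∈ us ∧ k < D.nroots then some (k :: st.1, st.2) else none
        | _ => none)
      else none)
  else
    (if p.2.1 < D.rank ∧ D.simple p.2.1 ∈ st.1 ∧ D.neg (D.simple p.2.1) ∈ st.1 then
      some (st.1, st.2 ++ [[p.2.1]]) else none)

def certRun (D : ChevalleyDatum) (us : List ℤ) :
    List (ℕ × ℕ × ℕ) → List ℕ × List (List ℕ) → Option (List ℕ × List (List ℕ))
  | [], st => some st
  | p :: ps, st => (certStep D us st p).bind (certRun D us ps)

/-- the certificate reaches all fundamental roots and their opposites -/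
def certOk (D : ChevalleyDatum) (us : List ℤ) (steps : List (ℕ × ℕ × ℕ)) (good : List ℕ)
    (words : List (List ℕ)) : Bool :=
  match certRun D us steps (good, words) with
  | some st => (List.range D.rank).all fun i => decide (D.simple i ∈ st.1 ∧ D.neg (D.simple i) ∈ st.1)
  | none => false

/-- the invariant of the run -/
def CertInv (D : ChevalleyDatum) (F : Type*) [Field F] (L : Subgroup (GL D.Idx F))
    (st : List ℕ × List (List ℕ)) : Prop :=
  (∀ r ∈ st.1, r < D.nroots ∧ GoodR D F L r) ∧
    ∀ l ∈ st.2, (∀ i ∈ l, i < D.rank) ∧ nP D F l ∈ L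

theorem certStep_inv (hD : D ∈ [chevG2, chevB2, chevD4, chevF4, chevE6, chevE7, chevE8])
    {L : Subgroup (GL D.Idx F)} {us : List ℤ} (hus : ∀ c ∈ us, ((c : ℤ) : F) ≠ 0)
    {st st' : List ℕ × List (List ℕ)} {p : ℕ × ℕ × ℕ} (h : certStep D us st p = some st')
    (hI : CertInv D F L st) : CertInv D F L st' := by
  obtain ⟨hg, hw⟩ := hI
  unfold certStep at h
  split_ifs at h with h0 h1 h2 h3 h4
  · -- conjugation
    obtain ⟨hr, hlen⟩ := h1
    simp only [Option.some.injEq] at h
    subst h
    have hmem : st.2.getD p.2.1 [] ∈ st.2 := by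
      rw [List.getD_eq_getElem _ _ hlen]
      exact List.getElem_mem hlen
    obtain ⟨hl, hn⟩ := hw _ hmem
    obtain ⟨hlt, hgood⟩ := hg _ hr
    refine ⟨?_, hw⟩
    intro r hr'
    rw [List.mem_cons] at hr'
    rcases hr' with rfl | hr'
    · exact ⟨(etaW_sign hD hl hlt).1, hgood.conj hD hl hn hlt⟩
    · exact hg r hr'
  · -- commutator
    obtain ⟨hr, hs, hne1, hne2⟩ := h3
    obtain ⟨hrlt, hrg⟩ := hg _ hr
    obtain ⟨hslt, hsg⟩ := hg _ hs
    split at h
    · rename_i k c hct
      split_ifs at h with h5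
      obtain ⟨hc, hk⟩ := h5
      simp only [Option.some.injEq] at h
      subst h
      refine ⟨?_, hw⟩
      intro r hr'
      rw [List.mem_cons] at hr'
      rcases hr' with rfl | hr'
      · exact ⟨hk, GoodR.sum hD hrlt hslt hk hne1 hne2 hct (hus c hc) hrg hsg⟩
      · exact hg r hr'
    · exact absurd h (by simp)
  · -- a new word
    obtain ⟨hi, hs1, hs2⟩ := h4
    simp only [Option.some.injEq] at h
    subst h
    refine ⟨hg, ?_⟩
    intro l hl
    rw [List.mem_append, List.mem_singleton] at hl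
    rcases hl with hl | rfl
    · exact hw l hl
    · refine ⟨?_, ?_⟩
      · intro i hi'
        rw [List.mem_singleton] at hi'
        rw [hi']
        exact hi
      · rw [nP_cons, nP_nil, mul_one]
        exact nG_mem_of_good hD hi (hg _ hs1).2 (hg _ hs2).2

theorem certRun_inv (hD : D ∈ [chevG2, chevB2, chevD4, chevF4, chevE6, chevE7, chevE8])
    {L : Subgroup (GL D.Idx F)} {us : List ℤ} (hus : ∀ c ∈ us, ((c : ℤ) : F) ≠ 0)
    (steps : List (ℕ × ℕ × ℕ)) :
    ∀ {st st' : List ℕ × List (List ℕ)}, certRun D us steps st = some st' →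
      CertInv D F L st → CertInv D F L st' := by
  induction steps with
  | nil =>
    intro st st' h hI
    simp only [certRun, Option.some.injEq] at h
    rw [← h]
    exact hI
  | cons p ps ih =>
    intro st st' h hI
    simp only [certRun] at h
    cases h1 : certStep D us st p with
    | none => rw [h1] at h; simp at h
    | some st1 =>
      rw [h1] at h
      simp only [Option.bind_some] at h
      exact ih h (certStep_inv hD hus h1 hI)

/-- a valid certificate proves generation -/
theorem group_le_of_cert (hD : D ∈ [chevG2, chevB2, chevD4, chevF4, chevE6, chevE7, chevE8])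
    {L : Subgroup (GL D.Idx F)} {us : List ℤ} (hus : ∀ c ∈ us, ((c : ℤ) : F) ≠ 0)
    {steps : List (ℕ × ℕ × ℕ)} {good : List ℕ} {words : List (List ℕ)}
    (hok : certOk D us steps good words = true)
    (hgood : ∀ r ∈ good, r < D.nroots ∧ GoodR D F L r)
    (hwords : ∀ l ∈ words, (∀ i ∈ l, i < D.rank) ∧ nP D F l ∈ L) : D.group F ≤ L := by
  unfold certOk at hok
  split at hok
  · rename_i st hst
    have hI := certRun_inv hD hus steps hst ⟨hgood, hwords⟩
    rw [List.all_eq_true] at hok
    apply group_le_of_goodR hD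
    intro i hi
    have := hok i (List.mem_range.mpr hi)
    rw [decide_eq_true_eq] at this
    exact ⟨(hI.1 _ this.1).2, (hI.1 _ this.2).2⟩
  · exact absurd hok (by simp)

end

end Cfsg.Agent.Lib.Helper8.Chev
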