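import Cfsg.Agent.Lib.Helper8.ChevTi1
import Cfsg.Agent.Lib.Helper8.ChevTg2

set_option autoImplicit false
set_option linter.unusedSimpArgs false
set_option linter.unusedSectionVars false
set_option linter.unnecessarySeqFocus false

namespace Cfsg.Agent.Lib.Helper8.Chev

open Cfsg.Lie Matrix

/-! ### The two-generation tricks for an untwisted Chevalley group -/

section

variable {D : ChevalleyDatum} {F : Type*} [Field F]

theorem XD_mem_group (hD : D ∈ [chevG2, chevB2, chevD4, chevF4, chevE6, chevE7, chevE8])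
    {r : ℕ} (hr : r < D.nroots) (t : F) : XD D F r t ∈ D.group F := by
  apply mem_group_of_word (valid0_of_mem hD) (valid1_of_mem hD) [(r, t)]
  · intro p hp
    rw [List.mem_singleton] at hp
    rw [hp]
    exact hr
  · rw [coe_XD hD hr, wN_cons, wN_nil, Matrix.mul_one, x_eq_xN]

theorem nP_mem_group (hD : D ∈ [chevG2, chevB2, chevD4, chevF4, chevE6, chevE7, chevE8])
    {l : List ℕ} (hl : ∀ i ∈ l, i < D.rank) : nP D F l ∈ D.group F :=
  monomial_le_group (valid0_of_mem hD) (valid1_of_mem hD) (nP_mem_monomial hD hl)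

theorem torMap_mem_groupD (hD : D ∈ [chevG2, chevB2, chevD4, chevF4, chevE6, chevE7, chevE8])
    (c : Fin D.rank → Fˣ) : torMap D F c ∈ D.group F :=
  monomial_le_group (valid0_of_mem hD) (valid1_of_mem hD)
    (le_sup_left (a := D.diagonalSubgroup F) (torMap_mem (validJ_of_mem hD) (validH_of_mem hD) c))

/-- the conjugate of a torus element under `n_w` is a torus element -/
theorem exists_torMap_conj (hD : D ∈ [chevG2, chevB2, chevD4, chevF4, chevE6, chevE7, chevE8])
    {l : List ℕ} (hl : ∀ i ∈ l, i < D.rank) (c : Fin D.rank → Fˣ) :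
    ∃ c' : Fin D.rank → Fˣ, nP D F l * torMap D F c * (nP D F l)⁻¹ = torMap D F c' := by
  have J := validJ_of_mem hD
  have V1 := valid1_of_mem hD
  have H := validH_of_mem hD
  have hI := checkInv_of_mem hD
  have hn : nP D F l ∈ Subgroup.normalizer (D.diagonalSubgroup F : Set (GL D.Idx F)) :=
    N0_le_normalizer J V1 H hI (nP_mem_N0 hl)
  have hh : torMap D F c ∈ D.diagonalSubgroup F := torMap_mem J H _
  have hc : nP D F l * torMap D F c * (nP D F l)⁻¹ ∈ D.diagonalSubgroup F :=
    (Subgroup.mem_normalizer_iff.mp hn _).mp hh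
  rw [diagonal_eq_range J V1 H] at hc
  obtain ⟨T', hT'⟩ := hc
  exact ⟨T', hT'.symm⟩

/-- the action of the conjugate torus element on a root subgroup -/
theorem conjTor_XD (hD : D ∈ [chevG2, chevB2, chevD4, chevF4, chevE6, chevE7, chevE8])
    {l : List ℕ} (hl : ∀ i ∈ l, i < D.rank) (c : Fin D.rank → Fˣ) {s : ℕ} (hs : s < D.nroots)
    (t : F) :
    (nP D F l * torMap D F c * (nP D F l)⁻¹) * XD D F (reflWord D l s) t *
        (nP D F l * torMap D F c * (nP D F l)⁻¹)⁻¹ =
      XD D F (reflWord D l s) ((chiT D c s : Fˣ) * t) := by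
  have hsq : ∀ u : F, ((etaW D l s : ℤ) : F) * (((etaW D l s : ℤ) : F) * u) = u := by
    intro u
    rcases (etaW_sign hD hl hs).2 with h' | h' <;> rw [h'] <;> simp
  have e1 : ∀ u : F, XD D F (reflWord D l s) u =
      nP D F l * XD D F s (((etaW D l s : ℤ) : F) * u) * (nP D F l)⁻¹ := by
    intro u
    rw [nP_XDg_conj hD hl hs, hsq]
  rw [e1 t]
  have e2 : (nP D F l * torMap D F c * (nP D F l)⁻¹) *
      (nP D F l * XD D F s (((etaW D l s : ℤ) : F) * t) * (nP D F l)⁻¹) *
        (nP D F l * torMap D F c * (nP D F l)⁻¹)⁻¹ =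
      nP D F l * (torMap D F c * XD D F s (((etaW D l s : ℤ) : F) * t) * (torMap D F c)⁻¹) *
        (nP D F l)⁻¹ := by group
  rw [e2, torMap_XD_conj hD c hs, nP_XDg_conj hD hl hs]
  congr 1
  rw [mul_left_comm, hsq]

/-- the trick with a single root -/
theorem trick_one (hD : D ∈ [chevG2, chevB2, chevD4, chevF4, chevE6, chevE7, chevE8])
    {l : List ℕ} (hl : ∀ i ∈ l, i < D.rank) {a : ℕ} (ha : a < D.nroots)
    (c : Fin D.rank → Fˣ) (hα : chiT D c a ≠ 1) (hμ : chiT D c (reflWord D l a) ≠ 1)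
    (hgen : ∀ t : F, t ≠ 0 → ∃ j : ℕ, t = ((chiT D c (reflWord D l a) : Fˣ) : F) ^ j)
    (L : Subgroup (GL D.Idx F)) (hh : torMap D F c ∈ L) (hy : nP D F l * XD D F a 1 ∈ L) :
    nP D F l ∈ L ∧ GoodR D F L a := by
  have ha' := (etaW_sign hD hl ha).1
  have hη : ((etaW D l a : ℤ) : F) * ((etaW D l a : ℤ) : F) = 1 := by
    rcases (etaW_sign hD hl ha).2 with h' | h' <;> rw [h'] <;> simp
  obtain ⟨h1, h2, -⟩ := two_gen_trick (x := XD D F a)
    (x' := fun t => XD D F (reflWord D l a) (((etaW D l a : ℤ) : F) * t))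
    (h := torMap D F c) (c := nP D F l) (α := ((chiT D c a : Fˣ) : F))
    (μ := ((chiT D c (reflWord D l a) : Fˣ) : F))
    (XD_add hD ha)
    (by intro t s; show XD D F _ _ * XD D F _ _ = _; rw [XD_add hD ha', mul_add])
    (fun t => nP_XDg_conj hD hl ha t)
    (fun t => torMap_XD_conj hD c ha t)
    (by intro t; show torMap D F c * XD D F _ _ * _ = XD D F _ _
        rw [torMap_XD_conj hD c ha', mul_left_comm])
    (torMap_comm_conj hD hl c c)
    (by intro h; apply hα; exact Units.ext (by rw [h, Units.val_one]))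
    (by intro h; apply hμ; exact Units.ext (by rw [h, Units.val_one]))
    hgen L hh hy
  exact ⟨h1, h2⟩

/-- the trick with two commuting roots -/
theorem trick_two (hD : D ∈ [chevG2, chevB2, chevD4, chevF4, chevE6, chevE7, chevE8])
    {l : List ℕ} (hl : ∀ i ∈ l, i < D.rank) {a b b' : ℕ} (ha : a < D.nroots)
    (hb : b < D.nroots) (hb' : b' < D.nroots) (hbb : reflWord D l b' = b)
    (hne1 : b ≠ a) (hne2 : b ≠ D.neg a) (hnil : D.commTerms a b = [])
    (c : Fin D.rank → Fˣ) (hχb : chiT D c b = 1)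
    (hα : chiT D c a ≠ 1) (hμ : chiT D c (reflWord D l a) ≠ 1)
    (hgen : ∀ t : F, t ≠ 0 → ∃ j : ℕ, t = ((chiT D c (reflWord D l a) : Fˣ) : F) ^ j)
    (hα2 : chiT D c b' ≠ 1) (hμ2 : chiT D c (reflWord D l b) ≠ 1)
    (hgen2 : ∀ t : F, t ≠ 0 → ∃ j : ℕ, t = ((chiT D c (reflWord D l b) : Fˣ) : F) ^ j)
    (L : Subgroup (GL D.Idx F)) (hh : torMap D F c ∈ L)
    (hy : nP D F l * XD D F b 1 * XD D F a 1 ∈ L) :
    nP D F l ∈ L ∧ GoodR D F L a ∧ GoodR D F L b := by
  have ha' := (etaW_sign hD hl ha).1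
  have hb'' := (etaW_sign hD hl hb).1
  -- `x_b(1)` commutes with the torus element
  have hbh : XD D F b 1 * torMap D F c * (XD D F b 1)⁻¹ = torMap D F c := by
    have e := torMap_XD_conj hD c hb (1 : F)
    rw [hχb, Units.val_one, one_mul] at e
    have e' : torMap D F c * XD D F b 1 = XD D F b 1 * torMap D F c := by
      calc torMap D F c * XD D F b 1
          = (torMap D F c * XD D F b 1 * (torMap D F c)⁻¹) * torMap D F c := by group
        _ = XD D F b 1 * torMap D F c := by rw [e]
    rw [← e']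
    group
  have hba : ∀ t : F, XD D F b 1 * XD D F a t * (XD D F b 1)⁻¹ = XD D F a t := by
    intro t
    rw [XD_comm_of_nil hD ha hb hne1 hne2 hnil]
    group
  have hcc : (nP D F l * XD D F b 1) * torMap D F c * (nP D F l * XD D F b 1)⁻¹ =
      nP D F l * torMap D F c * (nP D F l)⁻¹ := by
    have : (nP D F l * XD D F b 1) * torMap D F c * (nP D F l * XD D F b 1)⁻¹ =
        nP D F l * (XD D F b 1 * torMap D F c * (XD D F b 1)⁻¹) * (nP D F l)⁻¹ := by group
    rw [this, hbh]
  obtain ⟨h1, h2, -⟩ := two_gen_trick (x := XD D F a)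
    (x' := fun t => XD D F (reflWord D l a) (((etaW D l a : ℤ) : F) * t))
    (h := torMap D F c) (c := nP D F l * XD D F b 1) (α := ((chiT D c a : Fˣ) : F))
    (μ := ((chiT D c (reflWord D l a) : Fˣ) : F))
    (XD_add hD ha)
    (by intro t s; show XD D F _ _ * XD D F _ _ = _; rw [XD_add hD ha', mul_add])
    (by
      intro t
      have : (nP D F l * XD D F b 1) * XD D F a t * (nP D F l * XD D F b 1)⁻¹ =
          nP D F l * (XD D F b 1 * XD D F a t * (XD D F b 1)⁻¹) * (nP D F l)⁻¹ := by group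
      rw [this, hba, nP_XDg_conj hD hl ha])
    (fun t => torMap_XD_conj hD c ha t)
    (by intro t; show torMap D F c * XD D F _ _ * _ = XD D F _ _
        rw [torMap_XD_conj hD c ha', mul_left_comm])
    (by rw [hcc]; exact torMap_comm_conj hD hl c c)
    (by intro h; apply hα; exact Units.ext (by rw [h, Units.val_one]))
    (by intro h; apply hμ; exact Units.ext (by rw [h, Units.val_one]))
    hgen L hh hy
  -- the second torus element
  obtain ⟨c', hc'⟩ := exists_torMap_conj hD hl c
  have hh2 : torMap D F (c * c') ∈ L := by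
    rw [map_mul, ← hc', ← hcc]
    exact mul_mem hh (mul_mem (mul_mem h1 hh) (inv_mem h1))
  have hact : ∀ {s : ℕ} (hs : s < D.nroots) (t : F),
      torMap D F (c * c') * XD D F (reflWord D l s) t * (torMap D F (c * c'))⁻¹ =
        XD D F (reflWord D l s) (((chiT D c (reflWord D l s) : Fˣ) : F) *
          (((chiT D c s : Fˣ) : F) * t)) := by
    intro s hs t
    have hs' := (etaW_sign hD hl hs).1
    have : torMap D F (c * c') * XD D F (reflWord D l s) t * (torMap D F (c * c'))⁻¹ =
        torMap D F c * (torMap D F c' * XD D F (reflWord D l s) t * (torMap D F c')⁻¹) *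
          (torMap D F c)⁻¹ := by
      rw [map_mul]
      group
    rw [this, ← hc', conjTor_XD hD hl c hs, torMap_XD_conj hD c hs']
  obtain ⟨h3, h4, -⟩ := two_gen_trick (x := XD D F b)
    (x' := fun t => XD D F (reflWord D l b) (((etaW D l b : ℤ) : F) * t))
    (h := torMap D F (c * c')) (c := nP D F l) (α := ((chiT D c b' : Fˣ) : F))
    (μ := ((chiT D c (reflWord D l b) : Fˣ) : F))
    (XD_add hD hb)
    (by intro t s; show XD D F _ _ * XD D F _ _ = _; rw [XD_add hD hb'', mul_add])
    (fun t => nP_XDg_conj hD hl hb t)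
    (by
      intro t
      have e := hact hb' t
      rw [hbb, hχb, Units.val_one, one_mul] at e
      exact e)
    (by
      intro t
      show torMap D F (c * c') * XD D F _ _ * _ = XD D F _ _
      rw [hact hb, hχb, Units.val_one, one_mul, mul_left_comm])
    (torMap_comm_conj hD hl _ _)
    (by intro h; apply hα2; exact Units.ext (by rw [h, Units.val_one]))
    (by intro h; apply hμ2; exact Units.ext (by rw [h, Units.val_one]))
    hgen2 L hh2 h1
  exact ⟨h3, h2, h4⟩

end

end Cfsg.Agent.Lib.Helper8.Chev
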