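import Mathlib

set_option autoImplicit false
set_option linter.unusedSectionVars false

namespace Cfsg.Agent.Lib.Helper8.Chev

/-! ### Generalities for two-generation -/

section

/-- two elements of a subgroup generating a subgroup containing it generate it -/
theorem two_gen_of_le {G : Type*} [Group G] (H : Subgroup G) {g1 g2 : G} (h1 : g1 ∈ H)
    (h2 : g2 ∈ H) (hle : H ≤ Subgroup.closure {g1, g2}) :
    ∃ a b : ↥H, Subgroup.closure ({a, b} : Set ↥H) = ⊤ := by
  refine ⟨⟨g1, h1⟩, ⟨g2, h2⟩, ?_⟩
  rw [eq_top_iff]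
  intro x _
  have hxL0 : (x : G) ∈ Subgroup.closure {g1, g2} := hle x.2
  have hmap : (Subgroup.closure ({⟨g1, h1⟩, ⟨g2, h2⟩} : Set ↥H)).map H.subtype =
      Subgroup.closure {g1, g2} := by
    rw [MonoidHom.map_closure]
    congr 1
    ext z
    simp [Set.image_insert_eq]
  rw [← hmap] at hxL0
  obtain ⟨x', hx', e⟩ := hxL0
  have : x' = x := Subtype.ext e
  rw [← this]
  exact hx'

variable {F : Type*} [Field F] [Fintype F]

/-- a generator of the multiplicative group -/
def IsGenU (u : Fˣ) : Prop := ∀ v : Fˣ, v ∈ Subgroup.zpowers u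

theorem exists_isGenU : ∃ u : Fˣ, IsGenU u := IsCyclic.exists_generator (α := Fˣ)

theorem IsGenU.inv {u : Fˣ} (h : IsGenU u) : IsGenU u⁻¹ := by
  intro v
  rw [Subgroup.zpowers_inv]
  exact h v

theorem IsGenU.orderOf_eq {u : Fˣ} (h : IsGenU u) : orderOf u = Fintype.card F - 1 := by
  classical
  rw [orderOf_eq_card_of_forall_mem_zpowers h, Nat.card_eq_fintype_card, Fintype.card_units]

theorem IsGenU.ne_one {u : Fˣ} (h : IsGenU u) (hq : 3 ≤ Fintype.card F) : u ≠ 1 := by
  intro h1
  have := h.orderOf_eq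
  rw [h1, orderOf_one] at this
  omega

theorem IsGenU.exists_pow {u : Fˣ} (h : IsGenU u) (t : F) (ht : t ≠ 0) :
    ∃ j : ℕ, t = ((u : Fˣ) : F) ^ j := by
  have hmem : Units.mk0 t ht ∈ Subgroup.zpowers u := h _
  rw [← mem_powers_iff_mem_zpowers] at hmem
  obtain ⟨j, hj⟩ := hmem
  refine ⟨j, ?_⟩
  have := congrArg (fun u : Fˣ => (u : F)) hj
  simp only [Units.val_pow_eq_pow_val, Units.val_mk0] at this
  exact this.symm

theorem IsGenU.zpow_one {u : Fˣ} (h : IsGenU u) : IsGenU (u ^ (1 : ℤ)) := by
  rw [_root_.zpow_one]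
  exact h

theorem IsGenU.zpow_neg_one {u : Fˣ} (h : IsGenU u) : IsGenU (u ^ (-1 : ℤ)) := by
  rw [_root_.zpow_neg_one]
  exact h.inv

/-- in even characteristic the square of a generator is a generator -/
theorem IsGenU.sq {u : Fˣ} (h : IsGenU u) (h2 : Even (Fintype.card F)) : IsGenU (u ^ 2) := by
  classical
  have hord := h.orderOf_eq
  have hcard : 1 ≤ Fintype.card F := Fintype.card_pos
  have hodd : Nat.Coprime (orderOf u) 2 := by
    rw [hord, Nat.coprime_two_right]
    obtain ⟨k, hk⟩ := h2
    exact ⟨k - 1, by omega⟩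
  have hord2 : orderOf (u ^ 2) = orderOf u := hodd.orderOf_pow
  have htop : Subgroup.zpowers (u ^ 2) = ⊤ := by
    apply Subgroup.eq_top_of_card_eq
    rw [Nat.card_zpowers, hord2, hord, Nat.card_eq_fintype_card, Fintype.card_units]
  intro v
  rw [htop]
  exact Subgroup.mem_top _

theorem IsGenU.sq_ne_one {u : Fˣ} (h : IsGenU u) (hq : 4 ≤ Fintype.card F) : u ^ 2 ≠ 1 := by
  intro h1
  have := orderOf_dvd_of_pow_eq_one h1
  rw [h.orderOf_eq] at this
  have := Nat.le_of_dvd (by norm_num) this
  omega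

/-- a field with two elements -/
theorem eq_zero_or_one_of_card {t : F} (h : Fintype.card F = 2) : t = 0 ∨ t = 1 := by
  classical
  by_contra hne
  push Not at hne
  have h3 : ({0, 1, t} : Finset F).card = 3 := by
    rw [Finset.card_insert_of_notMem, Finset.card_insert_of_notMem, Finset.card_singleton]
    · simp only [Finset.mem_singleton]
      exact fun h => hne.2 h.symm
    · simp only [Finset.mem_insert, Finset.mem_singleton, not_or]
      exact ⟨zero_ne_one, fun h => hne.1 h.symm⟩
  have := Finset.card_le_univ ({0, 1, t} : Finset F)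
  omega

theorem two_eq_zero_of_card (h : Fintype.card F = 2) : (2 : F) = 0 := by
  rcases eq_zero_or_one_of_card (t := (1 + 1 : F)) h with h0 | h1
  · rw [← h0]; norm_num
  · exfalso
    have : (1 : F) = 0 := by linear_combination h1
    exact one_ne_zero this

end

end Cfsg.Agent.Lib.Helper8.Chev
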