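import Cfsg.Agent.Lib.Helper8.ChevTi2
import Cfsg.Agent.Lib.Helper8.ChevTi3

set_option autoImplicit false
set_option linter.unusedSimpArgs false
set_option linter.unusedSectionVars false
set_option linter.unnecessarySeqFocus false

namespace Cfsg.Agent.Lib.Helper8.Chev

open Cfsg.Lie Matrix

/-! ### Two-generation of an untwisted Chevalley group from a certificate -/

section

variable {D : ChevalleyDatum} {F : Type*} [Field F]

/-- the torus parameters `u ^ m_i` -/
def torC (D : ChevalleyDatum) (u : Fˣ) (m : List ℤ) : Fin D.rank → Fˣ :=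
  fun i => u ^ (m.getD i.val 0)

/-- the exponent of the character of the root `s` on `torC` -/
def expT (D : ChevalleyDatum) (m : List ℤ) (s : ℕ) : ℤ :=
  ∑ i : Fin D.rank, m.getD i.val 0 * D.cartan i.val s

theorem chiT_torC (u : Fˣ) (m : List ℤ) (s : ℕ) :
    chiT D (torC D u m) s = u ^ expT D m s := by
  unfold chiT torC expT
  have : ∀ (S : Finset (Fin D.rank)) (f : Fin D.rank → ℤ),
      ∏ i ∈ S, u ^ f i = u ^ ∑ i ∈ S, f i := by
    intro S f
    induction S using Finset.induction_on with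
    | empty => simp
    | insert a S ha ih => rw [Finset.prod_insert ha, Finset.sum_insert ha, _root_.zpow_add, ih]
  rw [← this]
  apply Finset.prod_congr rfl
  intro i _
  rw [← _root_.zpow_mul]

variable [Fintype F]

/-- the single-root version -/
theorem two_gen_one (hD : D ∈ [chevG2, chevB2, chevD4, chevF4, chevE6, chevE7, chevE8])
    {l : List ℕ} (hl : ∀ i ∈ l, i < D.rank) {a : ℕ} (ha : a < D.nroots) (m : List ℤ)
    (es : List ℤ) (hes : ∀ u : Fˣ, IsGenU u → ∀ e ∈ es, u ^ e ≠ 1 ∧ IsGenU (u ^ e))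
    (he1 : expT D m a ∈ es) (he2 : expT D m (reflWord D l a) ∈ es)
    {us : List ℤ} (hus : ∀ c ∈ us, ((c : ℤ) : F) ≠ 0) {steps : List (ℕ × ℕ × ℕ)}
    (hok : certOk D us steps [a] [l] = true) :
    ∃ x y : ↥(D.group F), Subgroup.closure ({x, y} : Set ↥(D.group F)) = ⊤ := by
  obtain ⟨u, hu⟩ := exists_isGenU (F := F)
  apply two_gen_of_le (D.group F) (g1 := torMap D F (torC D u m)) (g2 := nP D F l * XD D F a 1)
    (torMap_mem_groupD hD _) (mul_mem (nP_mem_group hD hl) (XD_mem_group hD ha 1))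
  set L := Subgroup.closure {torMap D F (torC D u m), nP D F l * XD D F a 1} with hL
  have hhL : torMap D F (torC D u m) ∈ L := Subgroup.subset_closure (by simp)
  have hyL : nP D F l * XD D F a 1 ∈ L := Subgroup.subset_closure (by simp)
  obtain ⟨h1, h2⟩ := trick_one hD hl ha (torC D u m)
    (by rw [chiT_torC]; exact (hes u hu _ he1).1)
    (by rw [chiT_torC]; exact (hes u hu _ he2).1)
    (by rw [chiT_torC]; exact (hes u hu _ he2).2.exists_pow) L hhL hyL
  apply group_le_of_cert hD hus hok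
  · intro r hr
    rw [List.mem_singleton] at hr
    rw [hr]
    exact ⟨ha, h2⟩
  · intro w hw
    rw [List.mem_singleton] at hw
    rw [hw]
    exact ⟨hl, h1⟩

/-- the two-root version -/
theorem two_gen_two (hD : D ∈ [chevG2, chevB2, chevD4, chevF4, chevE6, chevE7, chevE8])
    {l : List ℕ} (hl : ∀ i ∈ l, i < D.rank) {a b b' : ℕ} (ha : a < D.nroots)
    (hb : b < D.nroots) (hb' : b' < D.nroots) (hbb : reflWord D l b' = b)
    (hne1 : b ≠ a) (hne2 : b ≠ D.neg a) (hnil : D.commTerms a b = []) (m : List ℤ)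
    (es : List ℤ) (hes : ∀ u : Fˣ, IsGenU u → ∀ e ∈ es, u ^ e ≠ 1 ∧ IsGenU (u ^ e))
    (he0 : expT D m b = 0)
    (he1 : expT D m a ∈ es) (he2 : expT D m (reflWord D l a) ∈ es)
    (he3 : expT D m b' ∈ es) (he4 : expT D m (reflWord D l b) ∈ es)
    {us : List ℤ} (hus : ∀ c ∈ us, ((c : ℤ) : F) ≠ 0) {steps : List (ℕ × ℕ × ℕ)}
    (hok : certOk D us steps [a, b] [l] = true) :
    ∃ x y : ↥(D.group F), Subgroup.closure ({x, y} : Set ↥(D.group F)) = ⊤ := by
  obtain ⟨u, hu⟩ := exists_isGenU (F := F)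
  apply two_gen_of_le (D.group F) (g1 := torMap D F (torC D u m))
    (g2 := nP D F l * XD D F b 1 * XD D F a 1)
    (torMap_mem_groupD hD _)
    (mul_mem (mul_mem (nP_mem_group hD hl) (XD_mem_group hD hb 1)) (XD_mem_group hD ha 1))
  set L := Subgroup.closure {torMap D F (torC D u m), nP D F l * XD D F b 1 * XD D F a 1}
    with hL
  have hhL : torMap D F (torC D u m) ∈ L := Subgroup.subset_closure (by simp)
  have hyL : nP D F l * XD D F b 1 * XD D F a 1 ∈ L := Subgroup.subset_closure (by simp)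
  obtain ⟨h1, h2, h3⟩ := trick_two hD hl ha hb hb' hbb hne1 hne2 hnil (torC D u m)
    (by rw [chiT_torC, he0, zpow_zero])
    (by rw [chiT_torC]; exact (hes u hu _ he1).1)
    (by rw [chiT_torC]; exact (hes u hu _ he2).1)
    (by rw [chiT_torC]; exact (hes u hu _ he2).2.exists_pow)
    (by rw [chiT_torC]; exact (hes u hu _ he3).1)
    (by rw [chiT_torC]; exact (hes u hu _ he4).1)
    (by rw [chiT_torC]; exact (hes u hu _ he4).2.exists_pow) L hhL hyL
  apply group_le_of_cert hD hus hok
  · intro r hr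
    simp only [List.mem_cons, List.not_mem_nil, or_false] at hr
    rcases hr with rfl | rfl
    · exact ⟨ha, h2⟩
    · exact ⟨hb, h3⟩
  · intro w hw
    rw [List.mem_singleton] at hw
    rw [hw]
    exact ⟨hl, h1⟩

/-- the exponents `±1` over a field with at least three elements -/
theorem hes_pm (hq : 3 ≤ Fintype.card F) :
    ∀ u : Fˣ, IsGenU u → ∀ e ∈ ([1, -1] : List ℤ), u ^ e ≠ 1 ∧ IsGenU (u ^ e) := by
  intro u hu e he
  simp only [List.mem_cons, List.not_mem_nil, or_false] at he
  rcases he with rfl | rfl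
  · exact ⟨hu.zpow_one.ne_one hq, hu.zpow_one⟩
  · exact ⟨hu.zpow_neg_one.ne_one hq, hu.zpow_neg_one⟩

/-- the exponents `±2` over a field of even order at least four -/
theorem hes_two (hq : 4 ≤ Fintype.card F) (h2 : Even (Fintype.card F)) :
    ∀ u : Fˣ, IsGenU u → ∀ e ∈ ([2, -2] : List ℤ), u ^ e ≠ 1 ∧ IsGenU (u ^ e) := by
  intro u hu e he
  simp only [List.mem_cons, List.not_mem_nil, or_false] at he
  have e2 : u ^ (2 : ℤ) = u ^ 2 := by norm_cast
  have en2 : u ^ (-2 : ℤ) = (u⁻¹) ^ 2 := by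
    rw [_root_.zpow_neg, e2, inv_pow]
  rcases he with rfl | rfl
  · rw [e2]
    exact ⟨hu.sq_ne_one hq, hu.sq h2⟩
  · rw [en2]
    exact ⟨hu.inv.sq_ne_one hq, hu.inv.sq h2⟩

/-- the single-root version over the field with two elements -/
theorem two_gen_one_F2 (hD : D ∈ [chevG2, chevB2, chevD4, chevF4, chevE6, chevE7, chevE8])
    {l : List ℕ} (hl : ∀ i ∈ l, i < D.rank) {a : ℕ} (ha : a < D.nroots)
    (hq : Fintype.card F = 2)
    {us : List ℤ} (hus : ∀ c ∈ us, ((c : ℤ) : F) ≠ 0) {steps : List (ℕ × ℕ × ℕ)}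
    (hok : certOk D us steps [a] [l] = true) :
    ∃ x y : ↥(D.group F), Subgroup.closure ({x, y} : Set ↥(D.group F)) = ⊤ := by
  apply two_gen_of_le (D.group F) (g1 := nP D F l) (g2 := XD D F a 1)
    (nP_mem_group hD hl) (XD_mem_group hD ha 1)
  set L := Subgroup.closure {nP D F l, XD D F a 1} with hL
  have h1 : nP D F l ∈ L := Subgroup.subset_closure (by simp)
  have h2 : XD D F a 1 ∈ L := Subgroup.subset_closure (by simp)
  apply group_le_of_cert hD hus hok
  · intro r hr
    rw [List.mem_singleton] at hr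
    rw [hr]
    refine ⟨ha, ?_⟩
    intro t
    rcases eq_zero_or_one_of_card (t := t) hq with rfl | rfl
    · rw [XD_zero hD ha]
      exact one_mem _
    · exact h2
  · intro w hw
    rw [List.mem_singleton] at hw
    rw [hw]
    exact ⟨hl, h1⟩

end

end Cfsg.Agent.Lib.Helper8.Chev
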