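import Cfsg.Agent.Lib.Helper8.ChevTi4

set_option autoImplicit false
set_option linter.unusedSimpArgs false
set_option linter.unusedSectionVars false
set_option linter.unnecessarySeqFocus false

namespace Cfsg.Agent.Lib.Helper8.Chev

open Cfsg.Lie Matrix

/-! ### Products of two root elements over the field with two elements -/

section

variable {D : ChevalleyDatum} {F : Type*} [Field F]

theorem cast_pm_char2 (h2 : (2 : F) = 0) {c : ℤ} (hc : c = 1 ∨ c = -1) : ((c : ℤ) : F) = 1 := by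
  rcases hc with rfl | rfl
  · simp
  · push_cast
    linear_combination (-1 : F) * h2

theorem goodR_of_one [Fintype F] (hD : D ∈ [chevG2, chevB2, chevD4, chevF4, chevE6, chevE7, chevE8])
    (hq : Fintype.card F = 2) {L : Subgroup (GL D.Idx F)} {r : ℕ} (hr : r < D.nroots)
    (h : XD D F r 1 ∈ L) : GoodR D F L r := by
  intro t
  rcases eq_zero_or_one_of_card (t := t) hq with rfl | rfl
  · rw [XD_zero hD hr]
    exact one_mem _
  · exact h

/-- conjugating a product of two root elements by `n_w`, characteristic two -/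
theorem pair_conj2 (hD : D ∈ [chevG2, chevB2, chevD4, chevF4, chevE6, chevE7, chevE8])
    (h2 : (2 : F) = 0) {L : Subgroup (GL D.Idx F)} {l : List ℕ} (hl : ∀ i ∈ l, i < D.rank)
    (hn : nP D F l ∈ L) {r1 r2 : ℕ} (hr1 : r1 < D.nroots) (hr2 : r2 < D.nroots)
    (h : XD D F r1 1 * XD D F r2 1 ∈ L) :
    XD D F (reflWord D l r1) 1 * XD D F (reflWord D l r2) 1 ∈ L := by
  have e := conj_two (nP D F l) (XD D F r1 1) (XD D F r2 1)
  rw [nP_XDg_conj hD hl hr1, nP_XDg_conj hD hl hr2,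
    cast_pm_char2 h2 (etaW_sign hD hl hr1).2, cast_pm_char2 h2 (etaW_sign hD hl hr2).2,
    one_mul] at e
  rw [← e]
  exact mul_mem (mul_mem hn h) (inv_mem hn)

theorem pure_conj2 (hD : D ∈ [chevG2, chevB2, chevD4, chevF4, chevE6, chevE7, chevE8])
    (h2 : (2 : F) = 0) {L : Subgroup (GL D.Idx F)} {l : List ℕ} (hl : ∀ i ∈ l, i < D.rank)
    (hn : nP D F l ∈ L) {r : ℕ} (hr : r < D.nroots) (h : XD D F r 1 ∈ L) :
    XD D F (reflWord D l r) 1 ∈ L := by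
  have e := nP_XDg_conj hD hl hr (F := F) 1
  rw [cast_pm_char2 h2 (etaW_sign hD hl hr).2, one_mul] at e
  rw [← e]
  exact mul_mem (mul_mem hn h) (inv_mem hn)

/-- the commutator of two products of two root elements, only one pair of roots interacting -/
theorem pair_pair (hD : D ∈ [chevG2, chevB2, chevD4, chevF4, chevE6, chevE7, chevE8])
    (h2 : (2 : F) = 0) {L : Subgroup (GL D.Idx F)} {r1 r2 s1 s2 k : ℕ} {c : ℤ}
    (hr1 : r1 < D.nroots) (hr2 : r2 < D.nroots) (hs1 : s1 < D.nroots) (hs2 : s2 < D.nroots)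
    (hk : k < D.nroots)
    (n11 : s1 ≠ r1 ∧ s1 ≠ D.neg r1 ∧ D.commTerms r1 s1 = [(k, c, 1, 1)])
    (n12 : s2 ≠ r1 ∧ s2 ≠ D.neg r1 ∧ D.commTerms r1 s2 = [])
    (n21 : s1 ≠ r2 ∧ s1 ≠ D.neg r2 ∧ D.commTerms r2 s1 = [])
    (n22 : s2 ≠ r2 ∧ s2 ≠ D.neg r2 ∧ D.commTerms r2 s2 = [])
    (nk1 : r2 ≠ k ∧ r2 ≠ D.neg k ∧ D.commTerms k r2 = [])
    (nk2 : s2 ≠ k ∧ s2 ≠ D.neg k ∧ D.commTerms k s2 = [])
    (hc : c = 1 ∨ c = -1)
    (hA : XD D F r1 1 * XD D F r2 1 ∈ L) (hB : XD D F s1 1 * XD D F s2 1 ∈ L) :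
    XD D F k 1 ∈ L := by
  have Cs2 : CD D k (XD D F s2 (1 : F)) := CD.of_nil hD hk hs2 nk2.1 nk2.2.1 nk2.2.2 1
  have Cr2 : CD D k (XD D F r2 (1 : F)) := CD.of_nil hD hk hr2 nk1.1 nk1.2.1 nk1.2.2 1
  have e1 : RD D k (XD D F s1 1 * XD D F s2 1) (XD D F r1 (1 : F)) (_ + _) :=
    (RD.of_one hD hk hr1 hs1 n11.1 n11.2.1 n11.2.2 (1 : F) 1).mul_left hD hk
      (RD.of_nil hD hk hr1 hs2 n12.1 n12.2.1 n12.2.2 (1 : F) 1) Cs2
  have e2 : RD D k (XD D F s1 1 * XD D F s2 1) (XD D F r2 (1 : F)) (_ + _) :=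
    (RD.of_nil hD hk hr2 hs1 n21.1 n21.2.1 n21.2.2 (1 : F) 1).mul_left hD hk
      (RD.of_nil hD hk hr2 hs2 n22.1 n22.2.1 n22.2.2 (1 : F) 1) Cs2
  have e3 := e1.mul_right hD hk e2 Cr2
  unfold RD at e3
  have hz : ((c : ℤ) : F) * (-1) * 1 + 0 + (0 + 0) = 1 := by
    rw [cast_pm_char2 h2 hc]
    linear_combination (-1 : F) * h2
  rw [hz] at e3
  have : XD D F k 1 = (XD D F r1 1 * XD D F r2 1 * (XD D F s1 1 * XD D F s2 1))⁻¹ *
      (XD D F s1 1 * XD D F s2 1 * (XD D F r1 1 * XD D F r2 1)) := by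
    rw [e3]
    group
  rw [this]
  exact mul_mem (inv_mem (mul_mem hA hB)) (mul_mem hB hA)

/-- the commutator of a root element and a product of two root elements -/
theorem pure_pair (hD : D ∈ [chevG2, chevB2, chevD4, chevF4, chevE6, chevE7, chevE8])
    (h2 : (2 : F) = 0) {L : Subgroup (GL D.Idx F)} {p r1 r2 k : ℕ} {c : ℤ}
    (hp : p < D.nroots) (hr1 : r1 < D.nroots) (hr2 : r2 < D.nroots) (hk : k < D.nroots)
    (n1 : p ≠ r1 ∧ p ≠ D.neg r1 ∧ D.commTerms r1 p = [(k, c, 1, 1)])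
    (n2 : p ≠ r2 ∧ p ≠ D.neg r2 ∧ D.commTerms r2 p = [])
    (nk : r2 ≠ k ∧ r2 ≠ D.neg k ∧ D.commTerms k r2 = [])
    (hc : c = 1 ∨ c = -1)
    (hP : XD D F p 1 ∈ L) (hA : XD D F r1 1 * XD D F r2 1 ∈ L) :
    XD D F k 1 ∈ L := by
  have Cr2 : CD D k (XD D F r2 (1 : F)) := CD.of_nil hD hk hr2 nk.1 nk.2.1 nk.2.2 1
  have e3 : RD D k (XD D F p 1) (XD D F r1 (1 : F) * XD D F r2 1) (_ + _) :=
    (RD.of_one hD hk hr1 hp n1.1 n1.2.1 n1.2.2 (1 : F) 1).mul_right hD hk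
      (RD.of_nil hD hk hr2 hp n2.1 n2.2.1 n2.2.2 (1 : F) 1) Cr2
  unfold RD at e3
  have hz : ((c : ℤ) : F) * (-1) * 1 + 0 = 1 := by
    rw [cast_pm_char2 h2 hc]
    linear_combination (-1 : F) * h2
  rw [hz] at e3
  have : XD D F k 1 = (XD D F r1 1 * XD D F r2 1 * XD D F p 1)⁻¹ *
      (XD D F p 1 * (XD D F r1 1 * XD D F r2 1)) := by
    rw [e3]
    group
  rw [this]
  exact mul_mem (inv_mem (mul_mem hA hP)) (mul_mem hP hA)

/-- the square of a product of two non-commuting root elements -/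
theorem sq_pair (hD : D ∈ [chevG2, chevB2, chevD4, chevF4, chevE6, chevE7, chevE8])
    (h2 : (2 : F) = 0) {L : Subgroup (GL D.Idx F)} {a b k : ℕ} {c : ℤ}
    (ha : a < D.nroots) (hb : b < D.nroots) (hk : k < D.nroots)
    (n1 : b ≠ a ∧ b ≠ D.neg a ∧ D.commTerms a b = [(k, c, 1, 1)])
    (nk : b ≠ k ∧ b ≠ D.neg k ∧ D.commTerms k b = [])
    (hc : c = 1 ∨ c = -1)
    (hA : XD D F a 1 * XD D F b 1 ∈ L) : XD D F k 1 ∈ L := by
  have e := XD_rel_oneg hD ha hb hk n1.1 n1.2.1 n1.2.2 (1 : F) (1 : F)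
  have hz : ((c : ℤ) : F) * (-1) * 1 = 1 := by
    rw [cast_pm_char2 h2 hc]
    linear_combination (-1 : F) * h2
  rw [hz] at e
  have Cb := XD_comm_of_nil hD hk hb nk.1 nk.2.1 nk.2.2 (1 : F) (1 : F)
  have haa : XD D F a 1 * XD D F a 1 = 1 := by
    rw [XD_add hD ha]
    have : (1 : F) + 1 = 0 := by linear_combination h2
    rw [this, XD_zero hD ha]
  have hbb : XD D F b 1 * XD D F b 1 = 1 := by
    rw [XD_add hD hb]
    have : (1 : F) + 1 = 0 := by linear_combination h2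
    rw [this, XD_zero hD hb]
  have : XD D F k 1 = (XD D F a 1 * XD D F b 1) * (XD D F a 1 * XD D F b 1) := by
    calc XD D F k 1 = (XD D F a 1 * XD D F a 1) * (XD D F b 1 * XD D F b 1) * XD D F k 1 := by
          rw [haa, hbb, one_mul, one_mul]
      _ = XD D F a 1 * (XD D F a 1 * (XD D F b 1 * (XD D F b 1 * XD D F k 1))) := by group
      _ = XD D F a 1 * (XD D F a 1 * (XD D F b 1 * (XD D F k 1 * XD D F b 1))) := by rw [Cb]
      _ = XD D F a 1 * (XD D F a 1 * (XD D F b 1 * XD D F k 1)) * XD D F b 1 := by group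
      _ = XD D F a 1 * (XD D F b 1 * XD D F a 1) * XD D F b 1 := by rw [← e]
      _ = (XD D F a 1 * XD D F b 1) * (XD D F a 1 * XD D F b 1) := by group
  rw [this]
  exact mul_mem hA hA

theorem pure_div {L : Subgroup (GL D.Idx F)} {r1 r2 : ℕ} (h1 : XD D F r1 (1 : F) ∈ L)
    (h : XD D F r1 (1 : F) * XD D F r2 1 ∈ L) : XD D F r2 (1 : F) ∈ L := by
  have : XD D F r2 (1 : F) = (XD D F r1 1)⁻¹ * (XD D F r1 1 * XD D F r2 1) := by group
  rw [this]
  exact mul_mem (inv_mem h1) h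

end

end Cfsg.Agent.Lib.Helper8.Chev
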