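import Cfsg.Agent.Lib.Helper8.ChevTi5

set_option autoImplicit false
set_option linter.unusedSimpArgs false
set_option linter.unusedSectionVars false
set_option linter.unnecessarySeqFocus false

namespace Cfsg.Agent.Lib.Helper8.Chev

open Cfsg.Lie Matrix

/-! ### Two-generation of `F₄(q)` and `D₄(q)` -/

section

variable {F : Type*} [Field F] [Fintype F]

theorem tiF4 : chevF4 ∈ [chevG2, chevB2, chevD4, chevF4, chevE6, chevE7, chevE8] := by simp

theorem flatten_lt {D : ChevalleyDatum} {l : List ℕ} (hl : ∀ i ∈ l, i < D.rank) (k : ℕ) :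
    ∀ i ∈ (List.replicate k l).flatten, i < D.rank := by
  intro i hi
  rw [List.mem_flatten] at hi
  obtain ⟨l', hl', hil⟩ := hi
  rw [List.eq_of_mem_replicate hl'] at hil
  exact hl i hil

theorem hus_pm : ∀ c ∈ ([1, -1] : List ℤ), ((c : ℤ) : F) ≠ 0 := by
  intro c hc
  simp only [List.mem_cons, List.not_mem_nil, or_false] at hc
  rcases hc with rfl | rfl <;> simp

theorem three_le_card (hq : Fintype.card F ≠ 2) : 3 ≤ Fintype.card F := by
  have := Fintype.one_lt_card (α := F)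
  omega

/-- the Coxeter word of `F₄` -/
def cF4 : List ℕ := [0, 1, 2, 3]

theorem cF4_lt : ∀ i ∈ cF4, i < chevF4.rank := by decide

set_option maxRecDepth 1000000 in
theorem f4_cert : certOk chevF4 [1, -1] [(0, 0, 0), (0, 0, 9), (1, 9, 19), (0, 0, 7), (0, 0, 15), (0, 0, 19), (0, 0, 8), (0, 0, 11), (0, 0, 21), (0, 0, 18), (0, 0, 33), (0, 0, 41), (0, 0, 27), (0, 0, 34), (0, 0, 45), (1, 0, 46), (0, 0, 23), (0, 0, 35), (0, 0, 37), (0, 0, 46), (0, 0, 38), (0, 0, 42), (0, 0, 44), (0, 0, 47), (1, 0, 32), (0, 0, 28), (0, 0, 30), (0, 0, 40), (1, 0, 43), (1, 5, 43), (1, 7, 39), (0, 0, 16), (0, 0, 25), (0, 0, 36)] [0, 9] [cF4] = true := by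
  decide +kernel

set_option maxRecDepth 1000000 in
theorem f4_data : reflWord chevF4 cF4 12 = 9 ∧ chevF4.commTerms 0 9 = [] ∧
    expT chevF4 [1, 0, 1, 1] 9 = 0 ∧
    expT chevF4 [1, 0, 1, 1] 0 ∈ ([1, -1] : List ℤ) ∧
    expT chevF4 [1, 0, 1, 1] (reflWord chevF4 cF4 0) ∈ ([1, -1] : List ℤ) ∧
    expT chevF4 [1, 0, 1, 1] 12 ∈ ([1, -1] : List ℤ) ∧
    expT chevF4 [1, 0, 1, 1] (reflWord chevF4 cF4 9) ∈ ([1, -1] : List ℤ) ∧
    (9 : ℕ) ≠ chevF4.neg 0 := by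
  decide +kernel

set_option maxRecDepth 1000000 in
theorem f4_pairs :
    (reflWord chevF4 (List.replicate 2 cF4).flatten 0 = 21 ∧
      reflWord chevF4 (List.replicate 2 cF4).flatten 9 = 11) ∧
    (reflWord chevF4 (List.replicate 9 cF4).flatten 0 = 6 ∧
      reflWord chevF4 (List.replicate 9 cF4).flatten 9 = 14) ∧
    (reflWord chevF4 (List.replicate 3 cF4).flatten 0 = 41 ∧
      reflWord chevF4 (List.replicate 3 cF4).flatten 9 = 33) ∧
    (reflWord chevF4 (List.replicate 10 cF4).flatten 0 = 2 ∧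
      reflWord chevF4 (List.replicate 10 cF4).flatten 9 = 20) := by
  decide +kernel

set_option maxRecDepth 1000000 in
theorem f4_comm1 :
    ((6 : ℕ) ≠ 21 ∧ 6 ≠ chevF4.neg 21 ∧ chevF4.commTerms 21 6 = [(4, 1, 1, 1)]) ∧
    ((14 : ℕ) ≠ 21 ∧ 14 ≠ chevF4.neg 21 ∧ chevF4.commTerms 21 14 = []) ∧
    ((6 : ℕ) ≠ 11 ∧ 6 ≠ chevF4.neg 11 ∧ chevF4.commTerms 11 6 = []) ∧
    ((14 : ℕ) ≠ 11 ∧ 14 ≠ chevF4.neg 11 ∧ chevF4.commTerms 11 14 = []) ∧
    ((11 : ℕ) ≠ 4 ∧ 11 ≠ chevF4.neg 4 ∧ chevF4.commTerms 4 11 = []) ∧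
    ((14 : ℕ) ≠ 4 ∧ 14 ≠ chevF4.neg 4 ∧ chevF4.commTerms 4 14 = []) := by
  decide +kernel

set_option maxRecDepth 1000000 in
theorem f4_comm2 :
    ((2 : ℕ) ≠ 41 ∧ 2 ≠ chevF4.neg 41 ∧ chevF4.commTerms 41 2 = [(16, 1, 1, 1)]) ∧
    ((20 : ℕ) ≠ 41 ∧ 20 ≠ chevF4.neg 41 ∧ chevF4.commTerms 41 20 = []) ∧
    ((2 : ℕ) ≠ 33 ∧ 2 ≠ chevF4.neg 33 ∧ chevF4.commTerms 33 2 = []) ∧
    ((20 : ℕ) ≠ 33 ∧ 20 ≠ chevF4.neg 33 ∧ chevF4.commTerms 33 20 = []) ∧
    ((33 : ℕ) ≠ 16 ∧ 33 ≠ chevF4.neg 16 ∧ chevF4.commTerms 16 33 = []) ∧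
    ((20 : ℕ) ≠ 16 ∧ 20 ≠ chevF4.neg 16 ∧ chevF4.commTerms 16 20 = []) := by
  decide +kernel

set_option maxRecDepth 1000000 in
theorem f4_comm3 : (16 : ℕ) ≠ 4 ∧ 16 ≠ chevF4.neg 4 ∧ chevF4.commTerms 4 16 = [(0, -1, 1, 1)] := by
  decide +kernel

theorem two_gen_F4 :
    ∃ x y : ↥(chevF4.group F), Subgroup.closure ({x, y} : Set ↥(chevF4.group F)) = ⊤ := by
  obtain ⟨d1, d2, d3, d4, d5, d6, d7, d8⟩ := f4_data
  by_cases hq : Fintype.card F = 2
  · have h2 : (2 : F) = 0 := two_eq_zero_of_card hq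
    apply two_gen_of_le (chevF4.group F) (g1 := nP chevF4 F cF4)
      (g2 := XD chevF4 F 0 1 * XD chevF4 F 9 1) (nP_mem_group tiF4 cF4_lt)
      (mul_mem (XD_mem_group tiF4 (by decide) 1) (XD_mem_group tiF4 (by decide) 1))
    set L := Subgroup.closure {nP chevF4 F cF4, XD chevF4 F 0 1 * XD chevF4 F 9 1} with hL
    have hn : nP chevF4 F cF4 ∈ L := Subgroup.subset_closure (by simp)
    have hu : XD chevF4 F 0 1 * XD chevF4 F 9 1 ∈ L := Subgroup.subset_closure (by simp)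
    have hnk : ∀ k : ℕ, nP chevF4 F (List.replicate k cF4).flatten ∈ L := by
      intro k
      rw [← nP_pow]
      exact pow_mem hn k
    have hP : ∀ k : ℕ, XD chevF4 F (reflWord chevF4 (List.replicate k cF4).flatten 0) 1 *
        XD chevF4 F (reflWord chevF4 (List.replicate k cF4).flatten 9) 1 ∈ L :=
      fun k => pair_conj2 tiF4 h2 (flatten_lt cF4_lt k) (hnk k) (by decide) (by decide) hu
    obtain ⟨⟨a2, b2⟩, ⟨a9, b9⟩, ⟨a3, b3⟩, ⟨a10, b10⟩⟩ := f4_pairs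
    have P2 := hP 2
    have P9 := hP 9
    have P3 := hP 3
    have P10 := hP 10
    rw [a2, b2] at P2
    rw [a9, b9] at P9
    rw [a3, b3] at P3
    rw [a10, b10] at P10
    obtain ⟨c1, c2, c3, c4, c5, c6⟩ := f4_comm1
    have g4 : XD chevF4 F 4 1 ∈ L :=
      pair_pair tiF4 h2 (by decide) (by decide) (by decide) (by decide) (by decide)
        c1 c2 c3 c4 c5 c6 (Or.inl rfl) P2 P9
    obtain ⟨e1, e2, e3, e4, e5, e6⟩ := f4_comm2
    have g16 : XD chevF4 F 16 1 ∈ L :=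
      pair_pair tiF4 h2 (by decide) (by decide) (by decide) (by decide) (by decide)
        e1 e2 e3 e4 e5 e6 (Or.inl rfl) P3 P10
    have G4 := goodR_of_one tiF4 hq (by decide) g4
    have G16 := goodR_of_one tiF4 hq (by decide) g16
    obtain ⟨f1, f2, f3⟩ := f4_comm3
    have G0 : GoodR chevF4 F L 0 :=
      GoodR.sum tiF4 (by decide) (by decide) (by decide) f1 f2 f3 (by simp) G4 G16
    have G9 : GoodR chevF4 F L 9 := goodR_of_one tiF4 hq (by decide) (pure_div (G0 1) hu)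
    apply group_le_of_cert tiF4 hus_pm f4_cert
    · intro r hr
      simp only [List.mem_cons, List.not_mem_nil, or_false] at hr
      rcases hr with rfl | rfl
      · exact ⟨by decide, G0⟩
      · exact ⟨by decide, G9⟩
    · intro w hw
      rw [List.mem_singleton] at hw
      rw [hw]
      exact ⟨cF4_lt, hn⟩
  · exact two_gen_two tiF4 cF4_lt (a := 0) (b := 9) (b' := 12) (by decide) (by decide) (by decide)
      d1 (by decide) d8 d2 [1, 0, 1, 1] [1, -1] (hes_pm (three_le_card hq)) d3 d4 d5 d6 d7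
      hus_pm f4_cert

/-- the Coxeter word of `D₄` -/
def cD4 : List ℕ := [0, 1, 2, 3]

theorem cD4_lt : ∀ i ∈ cD4, i < chevD4.rank := by decide

/-- a word of order four in `W(D₄)` -/
def vD4 : List ℕ := [2, 1, 0]

theorem vD4_lt : ∀ i ∈ vD4, i < chevD4.rank := by decide

set_option maxRecDepth 1000000 in
theorem d4_cert : certOk chevD4 [1, -1] [(0, 0, 1), (0, 0, 2), (1, 1, 18), (1, 2, 8), (1, 2, 18), (0, 0, 6), (0, 0, 7), (0, 0, 8), (0, 0, 18), (0, 0, 14), (0, 0, 19), (1, 0, 22), (1, 2, 22), (1, 2, 23), (0, 0, 15), (0, 0, 22)] [1, 2] [cD4] = true := by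
  decide +kernel

set_option maxRecDepth 1000000 in
theorem d4_cert2 : certOk chevD4 [1, -1] [(0, 0, 0), (0, 0, 15), (1, 0, 22), (1, 3, 15), (1, 3, 22), (1, 15, 9), (0, 0, 3), (0, 0, 5), (0, 0, 13), (0, 0, 14), (0, 0, 21)] [0, 15] [vD4] = true := by
  decide +kernel

set_option maxRecDepth 1000000 in
theorem d4_data : reflWord chevD4 cD4 13 = 2 ∧ chevD4.commTerms 1 2 = [] ∧
    expT chevD4 [0, 1, 0, 0] 2 = 0 ∧
    expT chevD4 [0, 1, 0, 0] 1 ∈ ([1, -1] : List ℤ) ∧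
    expT chevD4 [0, 1, 0, 0] (reflWord chevD4 cD4 1) ∈ ([1, -1] : List ℤ) ∧
    expT chevD4 [0, 1, 0, 0] 13 ∈ ([1, -1] : List ℤ) ∧
    expT chevD4 [0, 1, 0, 0] (reflWord chevD4 cD4 2) ∈ ([1, -1] : List ℤ) ∧
    (2 : ℕ) ≠ chevD4.neg 1 := by
  decide +kernel

set_option maxRecDepth 1000000 in
theorem d4_comm :
    ((15 : ℕ) ≠ 0 ∧ 15 ≠ chevD4.neg 0 ∧ chevD4.commTerms 0 15 = [(2, -1, 1, 1)]) ∧
    ((15 : ℕ) ≠ 2 ∧ 15 ≠ chevD4.neg 2 ∧ chevD4.commTerms 2 15 = []) ∧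
    reflWord chevD4 vD4 2 = 13 ∧
    (reflWord chevD4 (List.replicate 3 vD4).flatten 0 = 6 ∧
      reflWord chevD4 (List.replicate 3 vD4).flatten 15 = 22) ∧
    ((13 : ℕ) ≠ 6 ∧ 13 ≠ chevD4.neg 6 ∧ chevD4.commTerms 6 13 = [(8, 1, 1, 1)]) ∧
    ((13 : ℕ) ≠ 22 ∧ 13 ≠ chevD4.neg 22 ∧ chevD4.commTerms 22 13 = []) ∧
    ((22 : ℕ) ≠ 8 ∧ 22 ≠ chevD4.neg 8 ∧ chevD4.commTerms 8 22 = []) ∧
    ((8 : ℕ) ≠ 2 ∧ 8 ≠ chevD4.neg 2 ∧ chevD4.commTerms 2 8 = [(0, -1, 1, 1)]) := by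
  decide +kernel

theorem two_gen_D4 :
    ∃ x y : ↥(chevD4.group F), Subgroup.closure ({x, y} : Set ↥(chevD4.group F)) = ⊤ := by
  obtain ⟨d1, d2, d3, d4, d5, d6, d7, d8⟩ := d4_data
  by_cases hq : Fintype.card F = 2
  · have h2 : (2 : F) = 0 := two_eq_zero_of_card hq
    apply two_gen_of_le (chevD4.group F) (g1 := nP chevD4 F vD4)
      (g2 := XD chevD4 F 0 1 * XD chevD4 F 15 1) (nP_mem_group hDD4 vD4_lt)
      (mul_mem (XD_mem_group hDD4 (by decide) 1) (XD_mem_group hDD4 (by decide) 1))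
    set L := Subgroup.closure {nP chevD4 F vD4, XD chevD4 F 0 1 * XD chevD4 F 15 1} with hL
    have hn : nP chevD4 F vD4 ∈ L := Subgroup.subset_closure (by simp)
    have hu : XD chevD4 F 0 1 * XD chevD4 F 15 1 ∈ L := Subgroup.subset_closure (by simp)
    obtain ⟨c1, c2, c3, ⟨c4, c5⟩, c6, c7, c8, c9⟩ := d4_comm
    have g2 : XD chevD4 F 2 1 ∈ L :=
      sq_pair hDD4 h2 (by decide) (by decide) (by decide) c1 c2 (Or.inr rfl) hu
    have g13 : XD chevD4 F 13 1 ∈ L := by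
      have := pure_conj2 hDD4 h2 vD4_lt hn (by decide) g2
      rw [c3] at this
      exact this
    have P3 : XD chevD4 F 6 1 * XD chevD4 F 22 1 ∈ L := by
      have hn3 : nP chevD4 F (List.replicate 3 vD4).flatten ∈ L := by
        rw [← nP_pow]
        exact pow_mem hn 3
      have := pair_conj2 hDD4 h2 (flatten_lt vD4_lt 3) hn3 (by decide) (by decide) hu
      rw [c4, c5] at this
      exact this
    have g8 : XD chevD4 F 8 1 ∈ L :=
      pure_pair hDD4 h2 (by decide) (by decide) (by decide) (by decide) c6 c7 c8 (Or.inl rfl)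
        g13 P3
    have G2 := goodR_of_one hDD4 hq (by decide) g2
    have G8 := goodR_of_one hDD4 hq (by decide) g8
    have G0 : GoodR chevD4 F L 0 :=
      GoodR.sum hDD4 (by decide) (by decide) (by decide) c9.1 c9.2.1 c9.2.2 (by simp) G2 G8
    have G15 : GoodR chevD4 F L 15 := goodR_of_one hDD4 hq (by decide) (pure_div (G0 1) hu)
    apply group_le_of_cert hDD4 hus_pm d4_cert2
    · intro r hr
      simp only [List.mem_cons, List.not_mem_nil, or_false] at hr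
      rcases hr with rfl | rfl
      · exact ⟨by decide, G0⟩
      · exact ⟨by decide, G15⟩
    · intro w hw
      rw [List.mem_singleton] at hw
      rw [hw]
      exact ⟨vD4_lt, hn⟩
  · exact two_gen_two hDD4 cD4_lt (a := 1) (b := 2) (b' := 13) (by decide) (by decide) (by decide)
      d1 (by decide) d8 d2 [0, 1, 0, 0] [1, -1] (hes_pm (three_le_card hq)) d3 d4 d5 d6 d7
      hus_pm d4_cert

end

end Cfsg.Agent.Lib.Helper8.Chev
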