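import Cfsg.Agent.Lib.Helper8.ChevTi6

set_option autoImplicit false
set_option linter.unusedSimpArgs false
set_option linter.unusedSectionVars false
set_option linter.unnecessarySeqFocus false

namespace Cfsg.Agent.Lib.Helper8.Chev

open Cfsg.Lie Matrix

/-! ### Two-generation of `G₂(q)`, `B₂(q)`, `E₆(q)`, `E₇(q)`, `E₈(q)` -/

section

variable {F : Type*} [Field F] [Fintype F]

theorem tiG2 : chevG2 ∈ [chevG2, chevB2, chevD4, chevF4, chevE6, chevE7, chevE8] := by simp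
theorem tiB2 : chevB2 ∈ [chevG2, chevB2, chevD4, chevF4, chevE6, chevE7, chevE8] := by simp
theorem tiE7 : chevE7 ∈ [chevG2, chevB2, chevD4, chevF4, chevE6, chevE7, chevE8] := by simp
theorem tiE8 : chevE8 ∈ [chevG2, chevB2, chevD4, chevF4, chevE6, chevE7, chevE8] := by simp

/-- the Coxeter word in rank two -/
def c2W : List ℕ := [0, 1]

theorem c2W_ltG : ∀ i ∈ c2W, i < chevG2.rank := by decide
theorem c2W_ltB : ∀ i ∈ c2W, i < chevB2.rank := by decide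

theorem g2_cert : certOk chevG2 [1, -1] [(0, 0, 0), (0, 0, 3), (0, 0, 5), (0, 0, 7), (0, 0, 9), (0, 0, 10), (0, 0, 8), (0, 0, 11)] [0, 3] [c2W] = true := by
  decide +kernel

theorem g2_data : reflWord chevG2 c2W 2 = 3 ∧ chevG2.commTerms 0 3 = [] ∧
    expT chevG2 [1, 1] 3 = 0 ∧
    expT chevG2 [1, 1] 0 ∈ ([1, -1] : List ℤ) ∧
    expT chevG2 [1, 1] (reflWord chevG2 c2W 0) ∈ ([1, -1] : List ℤ) ∧
    expT chevG2 [1, 1] 2 ∈ ([1, -1] : List ℤ) ∧
    expT chevG2 [1, 1] (reflWord chevG2 c2W 3) ∈ ([1, -1] : List ℤ) ∧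
    (3 : ℕ) ≠ chevG2.neg 0 := by
  decide +kernel

theorem two_gen_G2 (hq : 3 ≤ Fintype.card F) :
    ∃ x y : ↥(chevG2.group F), Subgroup.closure ({x, y} : Set ↥(chevG2.group F)) = ⊤ := by
  obtain ⟨d1, d2, d3, d4, d5, d6, d7, d8⟩ := g2_data
  exact two_gen_two tiG2 c2W_ltG (a := 0) (b := 3) (b' := 2) (by decide) (by decide) (by decide)
    d1 (by decide) d8 d2 [1, 1] [1, -1] (hes_pm hq) d3 d4 d5 d6 d7 hus_pm g2_cert

theorem b2_cert1 : certOk chevB2 [1, -1, 2, -2] [(0, 0, 1), (1, 1, 5), (0, 0, 3), (0, 0, 5), (0, 0, 6), (0, 0, 7)] [1] [c2W] = true := by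
  decide +kernel

theorem b2_cert2 : certOk chevB2 [1, -1] [(0, 0, 3), (0, 0, 5), (0, 0, 6), (0, 0, 7)] [3, 5] [c2W] = true := by
  decide +kernel

theorem b2_data1 : expT chevB2 [1, 1] 1 ∈ ([1, -1] : List ℤ) ∧
    expT chevB2 [1, 1] (reflWord chevB2 c2W 1) ∈ ([1, -1] : List ℤ) := by
  decide +kernel

theorem b2_data2 : reflWord chevB2 c2W 1 = 5 ∧ chevB2.commTerms 3 5 = [] ∧
    expT chevB2 [1, 2] 5 = 0 ∧
    expT chevB2 [1, 2] 3 ∈ ([2, -2] : List ℤ) ∧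
    expT chevB2 [1, 2] (reflWord chevB2 c2W 3) ∈ ([2, -2] : List ℤ) ∧
    expT chevB2 [1, 2] 1 ∈ ([2, -2] : List ℤ) ∧
    expT chevB2 [1, 2] (reflWord chevB2 c2W 5) ∈ ([2, -2] : List ℤ) ∧
    (5 : ℕ) ≠ chevB2.neg 3 := by
  decide +kernel

theorem two_gen_B2 (hq : 3 ≤ Fintype.card F) :
    ∃ x y : ↥(chevB2.group F), Subgroup.closure ({x, y} : Set ↥(chevB2.group F)) = ⊤ := by
  by_cases hc : ringChar F = 2
  · have hev : Fintype.card F % 2 = 0 := FiniteField.even_card_of_char_two hc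
    have hq4 : 4 ≤ Fintype.card F := by omega
    obtain ⟨d1, d2, d3, d4, d5, d6, d7, d8⟩ := b2_data2
    exact two_gen_two tiB2 c2W_ltB (a := 3) (b := 5) (b' := 1) (by decide) (by decide) (by decide)
      d1 (by decide) d8 d2 [1, 2] [2, -2] (hes_two hq4 (Nat.even_iff.mpr hev)) d3 d4 d5 d6 d7
      hus_pm b2_cert2
  · have h2 : (2 : F) ≠ 0 := Ring.two_ne_zero hc
    have hus : ∀ c ∈ ([1, -1, 2, -2] : List ℤ), ((c : ℤ) : F) ≠ 0 := by
      intro c hc'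
      simp only [List.mem_cons, List.not_mem_nil, or_false] at hc'
      rcases hc' with rfl | rfl | rfl | rfl
      · simp
      · simp
      · simpa using h2
      · simpa using h2
    exact two_gen_one tiB2 c2W_ltB (a := 1) (by decide) [1, 1] [1, -1] (hes_pm hq) b2_data1.1
      b2_data1.2 hus b2_cert1

/-- the Coxeter words of `E₆`, `E₇`, `E₈` -/
def cE6W : List ℕ := [0, 1, 2, 3, 4, 5]
def cE7W : List ℕ := [0, 1, 2, 3, 4, 5, 6]
def cE8W : List ℕ := [0, 1, 2, 3, 4, 5, 6, 7]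

theorem cE6W_lt : ∀ i ∈ cE6W, i < chevE6.rank := by decide
theorem cE7W_lt : ∀ i ∈ cE7W, i < chevE7.rank := by decide
theorem cE8W_lt : ∀ i ∈ cE8W, i < chevE8.rank := by decide

set_option maxRecDepth 1000000 in
theorem e6_certW : certOk chevE6 [1, -1] [(0, 0, 29), (1, 24, 29), (0, 0, 21), (0, 0, 24), (1, 7, 29), (0, 0, 7), (0, 0, 12), (0, 0, 2), (0, 0, 19), (1, 29, 32), (0, 0, 17), (0, 0, 28), (0, 0, 32), (1, 28, 34), (0, 0, 23), (0, 0, 27), (0, 0, 31), (0, 0, 34), (0, 0, 11), (0, 0, 22), (0, 0, 33), (0, 0, 35), (0, 0, 56), (0, 0, 62), (0, 0, 63), (1, 4, 68), (1, 21, 43), (1, 21, 68), (1, 29, 43), (0, 0, 39), (0, 0, 60)] [29] [cE6W] = true := by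
  decide +kernel

set_option maxRecDepth 1000000 in
theorem e6_expW : expT chevE6 [0, 0, 0, 1, 0, 0] 29 ∈ ([1, -1] : List ℤ) ∧
    expT chevE6 [0, 0, 0, 1, 0, 0] (reflWord chevE6 cE6W 29) ∈ ([1, -1] : List ℤ) := by
  decide +kernel

theorem two_gen_E6 :
    ∃ x y : ↥(chevE6.group F), Subgroup.closure ({x, y} : Set ↥(chevE6.group F)) = ⊤ := by
  by_cases hq : Fintype.card F = 2
  · exact two_gen_one_F2 hDE6 cE6W_lt (a := 29) (by decide) hq hus_pm e6_certW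
  · exact two_gen_one hDE6 cE6W_lt (a := 29) (by decide) [0, 0, 0, 1, 0, 0] [1, -1]
      (hes_pm (three_le_card hq)) e6_expW.1 e6_expW.2 hus_pm e6_certW

set_option maxRecDepth 1000000 in
theorem e7_certW : certOk chevE7 [1, -1] [(0, 0, 37), (1, 18, 37), (0, 0, 2), (0, 0, 18), (0, 0, 7), (0, 0, 49), (0, 0, 33), (0, 0, 43), (0, 0, 53), (0, 0, 78), (0, 0, 95), (0, 0, 99), (0, 0, 84), (0, 0, 109), (1, 2, 104), (1, 37, 104), (1, 37, 119), (0, 0, 93), (0, 0, 100), (0, 0, 104), (0, 0, 119), (0, 0, 110), (0, 0, 113), (0, 0, 125), (0, 0, 88), (0, 0, 120), (0, 0, 124), (0, 0, 107), (0, 0, 115), (0, 0, 123), (1, 2, 118), (1, 2, 122), (1, 34, 118), (0, 0, 46), (0, 0, 56), (0, 0, 76), (0, 0, 97), (0, 0, 122), (1, 29, 97), (1, 37, 117), (0, 0, 59), (0, 0, 64), (0, 0, 82), (0, 0, 86), (0, 0, 98), (0, 0, 32), (0, 0, 61), (0, 0, 69)] [37] [cE7W] = true := by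
  decide +kernel

set_option maxRecDepth 1000000 in
theorem e7_expW : expT chevE7 [1, 0, 0, 0, 0, 0, 0] 37 ∈ ([1, -1] : List ℤ) ∧
    expT chevE7 [1, 0, 0, 0, 0, 0, 0] (reflWord chevE7 cE7W 37) ∈ ([1, -1] : List ℤ) := by
  decide +kernel

theorem two_gen_E7 :
    ∃ x y : ↥(chevE7.group F), Subgroup.closure ({x, y} : Set ↥(chevE7.group F)) = ⊤ := by
  by_cases hq : Fintype.card F = 2
  · exact two_gen_one_F2 tiE7 cE7W_lt (a := 37) (by decide) hq hus_pm e7_certW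
  · exact two_gen_one tiE7 cE7W_lt (a := 37) (by decide) [1, 0, 0, 0, 0, 0, 0] [1, -1]
      (hes_pm (three_le_card hq)) e7_expW.1 e7_expW.2 hus_pm e7_certW

set_option maxRecDepth 1000000 in
theorem e8_certW : certOk chevE8 [1, -1] [(0, 0, 14), (0, 0, 8), (0, 0, 16), (0, 0, 22), (0, 0, 37), (0, 0, 79), (0, 0, 106), (0, 0, 110), (0, 0, 170), (0, 0, 185), (0, 0, 205), (0, 0, 227), (1, 14, 219), (0, 0, 93), (0, 0, 219), (1, 14, 141), (1, 14, 233), (1, 93, 233), (0, 0, 162), (0, 0, 226), (0, 0, 233), (0, 0, 135), (0, 0, 232), (0, 0, 234), (0, 0, 142), (0, 0, 225), (0, 0, 235), (0, 0, 165), (0, 0, 231), (0, 0, 236), (1, 14, 149), (1, 15, 223), (0, 0, 109), (0, 0, 223), (0, 0, 237), (1, 14, 238), (1, 23, 217), (0, 0, 113), (0, 0, 123), (0, 0, 167), (0, 0, 238), (1, 14, 239), (0, 0, 116), (0, 0, 121), (0, 0, 151), (0, 0, 168), (0, 0, 239), (1, 14, 224), (0, 0, 77), (0, 0, 118), (0, 0, 130)] [14]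 [cE8W] = true := by
  decide +kernel

set_option maxRecDepth 1000000 in
theorem e8_expW : expT chevE8 [1, 0, 0, 0, 0, 0, 0, 0] 14 ∈ ([1, -1] : List ℤ) ∧
    expT chevE8 [1, 0, 0, 0, 0, 0, 0, 0] (reflWord chevE8 cE8W 14) ∈ ([1, -1] : List ℤ) := by
  decide +kernel

theorem two_gen_E8 :
    ∃ x y : ↥(chevE8.group F), Subgroup.closure ({x, y} : Set ↥(chevE8.group F)) = ⊤ := by
  by_cases hq : Fintype.card F = 2
  · exact two_gen_one_F2 tiE8 cE8W_lt (a := 14) (by decide) hq hus_pm e8_certW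
  · exact two_gen_one tiE8 cE8W_lt (a := 14) (by decide) [1, 0, 0, 0, 0, 0, 0, 0] [1, -1]
      (hes_pm (three_le_card hq)) e8_expW.1 e8_expW.2 hus_pm e8_certW

end

end Cfsg.Agent.Lib.Helper8.Chev
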