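import Cfsg.Agent.Lib.Helper8.ChevGA3
import Cfsg.Agent.Lib.Helper8.ChevFld1

set_option autoImplicit false

/-! The twisting endomorphism `σ = (graph automorphism) ∘ (field endomorphism)` of the general
linear group containing a Chevalley group, and its action on the standard subgroups. -/

namespace Cfsg.Agent.Lib.Helper8.Chev

open Cfsg.Lie Matrix

/-- the conditions on a graph automorphism needed for twisting -/
structure TwOk (D : ChevalleyDatum) (ρ ρ' π π' : ℕ → ℕ) (ε : ℕ → ℤ) : Prop where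
  ga : GAOk D ρ ρ' π π' ε
  refl : ∀ i < D.rank, ∀ r < D.nroots, π (D.reflectRoot i r) = D.reflectRoot (ρ i) (π r)
  pos : ∀ r < D.nroots, D.nroots / 2 ≤ r → D.nroots / 2 ≤ π r

section

variable {D : ChevalleyDatum} {F : Type*} [Field F] {ρ ρ' π π' : ℕ → ℕ} {ε : ℕ → ℤ}

/-- the twisting endomorphism -/
noncomputable def sg (h : GAOk D ρ ρ' π π' ε) (φ : F →+* F) : GL D.Idx F →* GL D.Idx F :=
  (MulAut.conj (gaU F h)).toMonoidHom.comp (bc D φ)

theorem sg_apply (h : GAOk D ρ ρ' π π' ε) (φ : F →+* F) (g : GL D.Idx F) :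
    sg h φ g = gaU F h * bc D φ g * (gaU F h)⁻¹ := rfl

theorem sg_injective (h : GAOk D ρ ρ' π π' ε) (φ : F →+* F) : Function.Injective (sg h φ) := by
  intro a b hab
  rw [sg_apply, sg_apply] at hab
  have : bc D φ a = bc D φ b := by
    have := congrArg (fun x => (gaU F h)⁻¹ * x * gaU F h) hab
    simpa [mul_assoc] using this
  exact bc_injective φ this

theorem sg_x (V : Valid0 D) (V1 : Valid1 D) (h : GAOk D ρ ρ' π π' ε) (φ : F →+* F)
    {g : GL D.Idx F} {r : ℕ} (hr : r < D.nroots) {t : F}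
    (hg : (g : Matrix D.Idx D.Idx F) = D.x F r t) :
    ((sg h φ g : GL D.Idx F) : Matrix D.Idx D.Idx F) = D.x F (π r) (((ε r : ℤ) : F) * φ t) := by
  rw [sg_apply]
  exact gaU_conj_x V V1 h hr (φ t) _ (bc_x φ hg)

theorem pi_neg_iff (V : Valid0 D) (T : TwOk D ρ ρ' π π' ε) {r : ℕ} (hr : r < D.nroots) :
    D.nroots / 2 ≤ π r ↔ D.nroots / 2 ≤ r := by
  constructor
  · intro h1
    by_contra h2
    rw [not_le] at h2
    -- `neg r` is positive, so `π (neg r) = neg (π r)` is positive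
    have hn := V.neg_lt hr
    have h3 : D.nroots / 2 ≤ D.neg r := by
      rw [V.neg_eq r hr]
      have := V.even
      omega
    have h4 := T.pos _ hn h3
    rw [(T.ga.hneg r hr).1, V.neg_eq _ (T.ga.hπ r hr).1] at h4
    have := V.even
    omega
  · exact T.pos r hr

theorem sg_mem_group (V : Valid0 D) (V1 : Valid1 D) (h : GAOk D ρ ρ' π π' ε) (φ : F →+* F)
    {g : GL D.Idx F} (hg : g ∈ D.group F) : sg h φ g ∈ D.group F :=
  gaU_conj_mem V V1 h (bc_mem_group φ hg)

theorem sg_mem_pos (V : Valid0 D) (V1 : Valid1 D) (P : PosP D) (T : TwOk D ρ ρ' π π' ε)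
    (φ : F →+* F) {g : GL D.Idx F} (hg : g ∈ D.posUnipotent F) :
    sg T.ga φ g ∈ D.posUnipotent F := by
  have hle : D.posUnipotent F ≤ (D.posUnipotent F).comap (sg T.ga φ) := by
    unfold ChevalleyDatum.posUnipotent
    rw [Subgroup.closure_le]
    rintro x ⟨r, t, hr, hx⟩
    rw [SetLike.mem_coe, Subgroup.mem_comap]
    have hlt := (T.ga.hπ r hr.1).1
    exact Subgroup.subset_closure ⟨π r, _, (P _ hlt).1.mpr (T.pos r hr.1 ((P r hr.1).1.mp hr)),
      sg_x V V1 T.ga φ hr.1 hx⟩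
  exact hle hg

theorem sg_mem_neg (V : Valid0 D) (V1 : Valid1 D) (P : PosP D) (T : TwOk D ρ ρ' π π' ε)
    (φ : F →+* F) {g : GL D.Idx F} (hg : g ∈ D.negUnipotent F) :
    sg T.ga φ g ∈ D.negUnipotent F := by
  have hle : D.negUnipotent F ≤ (D.negUnipotent F).comap (sg T.ga φ) := by
    unfold ChevalleyDatum.negUnipotent
    rw [Subgroup.closure_le]
    rintro x ⟨r, t, hr, hx⟩
    rw [SetLike.mem_coe, Subgroup.mem_comap]
    have hlt := (T.ga.hπ r hr.1).1
    have hneg := (P r hr.1).2.mp hr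
    have hneg' : π r < D.nroots / 2 := by
      by_contra h1
      rw [not_lt] at h1
      have := (pi_neg_iff V T hr.1).mp h1
      omega
    exact Subgroup.subset_closure ⟨π r, _, (P _ hlt).2.mpr hneg', sg_x V V1 T.ga φ hr.1 hx⟩
  exact hle hg

/-- the image of a word under the twisting endomorphism -/
def sgW (π : ℕ → ℕ) (ε : ℕ → ℤ) (φ : F →+* F) (w : List (ℕ × F)) : List (ℕ × F) :=
  w.map fun p => (π p.1, ((ε p.1 : ℤ) : F) * φ p.2)

theorem sg_word (V : Valid0 D) (V1 : Valid1 D) (h : GAOk D ρ ρ' π π' ε) (φ : F →+* F)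
    (w : List (ℕ × F)) (hw : ∀ p ∈ w, p.1 < D.nroots) :
    ∀ g : GL D.Idx F, (g : Matrix D.Idx D.Idx F) = wN D F w →
      ((sg h φ g : GL D.Idx F) : Matrix D.Idx D.Idx F) = wN D F (sgW π ε φ w) := by
  induction w with
  | nil =>
    intro g hg
    have : g = 1 := Units.ext (by rw [hg, wN_nil, Units.val_one])
    rw [this, map_one, Units.val_one]
    rfl
  | cons p w ih =>
    intro g hg
    have hp := hw p List.mem_cons_self
    obtain ⟨gx, hgx⟩ := exists_unit_x V V1 hp p.2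
    obtain ⟨gw, hgw⟩ := exists_unit_wN V V1 w (fun q hq => hw q (List.mem_cons_of_mem _ hq))
    have e : g = gx * gw := Units.ext (by rw [hg, Units.val_mul, hgx, hgw, wN_cons, x_eq_xN])
    rw [e, map_mul, Units.val_mul, sg_x V V1 h φ hp hgx,
      ih (fun q hq => hw q (List.mem_cons_of_mem _ hq)) gw hgw]
    show _ = wN D F ((π p.1, ((ε p.1 : ℤ) : F) * φ p.2) :: sgW π ε φ w)
    rw [wN_cons, x_eq_xN]

theorem sg_nG (J : ValidJ D) (V1 : Valid1 D) (h : GAOk D ρ ρ' π π' ε) (φ : F →+* F) {i : ℕ}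
    (hi : i < D.rank) : sg h φ (nG D F i) = nG D F (ρ i) := by
  have hp := (J.S i hi).1
  have hρi := (h.hρ i hi).1
  apply Units.ext
  have h1 := sg_word J.V V1 h φ (D.nWord (D.simple i) (1 : F)) (nWord_lt J.V hp 1) (nG D F i)
    (by rw [coe_nG J V1 hi, nMat_eq_wN])
  rw [h1, coe_nG J V1 hρi, nMat_eq_wN]
  congr 1
  have hs := h.hsimple i hi
  have hn := h.hneg (D.simple i) hp
  simp only [sgW, ChevalleyDatum.nWord, List.map_cons, List.map_nil, hs.1, hs.2, hn.1, hn.2,
    Int.cast_one, one_mul, map_one, map_neg, inv_one]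

theorem sg_nP (J : ValidJ D) (V1 : Valid1 D) (h : GAOk D ρ ρ' π π' ε) (φ : F →+* F)
    {l : List ℕ} (hl : ∀ i ∈ l, i < D.rank) : sg h φ (nP D F l) = nP D F (l.map ρ) := by
  induction l with
  | nil => rw [nP_nil, List.map_nil, nP_nil, map_one]
  | cons i l ih =>
    rw [nP_cons, List.map_cons, nP_cons, map_mul, sg_nG J V1 h φ (hl i List.mem_cons_self),
      ih (fun j hj => hl j (List.mem_cons_of_mem _ hj))]

theorem pi_reflWord (J : ValidJ D) (hN : checkNS D = true) (T : TwOk D ρ ρ' π π' ε)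
    {l : List ℕ} (hl : ∀ i ∈ l, i < D.rank) {r : ℕ} (hr : r < D.nroots) :
    π (reflWord D l r) = reflWord D (l.map ρ) (π r) := by
  induction l with
  | nil => rfl
  | cons i l ih =>
    have hl' : ∀ j ∈ l, j < D.rank := fun j hj => hl j (List.mem_cons_of_mem _ hj)
    rw [reflWord_cons, List.map_cons, reflWord_cons, ← ih hl',
      T.refl i (hl i List.mem_cons_self) _ (reflWord_lt J hN hl' hr)]

theorem sg_mem_unegW (J : ValidJ D) (V1 : Valid1 D) (hN : checkNS D = true)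
    (T : TwOk D ρ ρ' π π' ε) (φ : F →+* F) {l : List ℕ} (hl : ∀ i ∈ l, i < D.rank)
    {g : GL D.Idx F} (hg : g ∈ UnegW D F l) : sg T.ga φ g ∈ UnegW D F (l.map ρ) := by
  have V := J.V
  have hle : UnegW D F l ≤ (UnegW D F (l.map ρ)).comap (sg T.ga φ) := by
    unfold UnegW
    rw [Subgroup.closure_le]
    rintro x ⟨r, t, h1, h2, h3, hx⟩
    rw [SetLike.mem_coe, Subgroup.mem_comap]
    refine Subgroup.subset_closure ⟨π r, _, T.pos r h2 h1, (T.ga.hπ r h2).1, ?_,
      sg_x V V1 T.ga φ h2 hx⟩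
    rw [← pi_reflWord J hN T hl h2]
    have hlt := reflWord_lt J hN hl h2
    by_contra h4
    rw [not_lt] at h4
    have := (pi_neg_iff V T hlt).mp h4
    omega
  exact hle hg

end

end Cfsg.Agent.Lib.Helper8.Chev
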