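import Cfsg.Agent.Lib.Helper8.ChevTw9

set_option autoImplicit false

/-! The fixed points of the twisting endomorphism on `U_{w s_J}⁻`. -/

namespace Cfsg.Agent.Lib.Helper8.Chev

open Cfsg.Lie Matrix

section

variable {D : ChevalleyDatum} {F : Type*} [Field F] {ρ ρ' π π' : ℕ → ℕ} {ε : ℕ → ℤ}

/-- the subgroup of fixed points of the twisting endomorphism -/
noncomputable def fixS (h : GAOk D ρ ρ' π π' ε) (φ : F →+* F) : Subgroup (GL D.Idx F) :=
  MonoidHom.eqLocus (sg h φ) (MonoidHom.id _)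

theorem mem_fixS (h : GAOk D ρ ρ' π π' ε) (φ : F →+* F) (g : GL D.Idx F) :
    g ∈ fixS h φ ↔ sg h φ g = g := Iff.rfl

/-- class elements lie in `U_{w s_J}⁻` -/
theorem cls_mem_unegW (hD : D ∈ [chevG2, chevB2, chevD4, chevF4, chevE6, chevE7, chevE8])
    {l : List ℕ} : ∀ {J : List ℕ}, OrthL D J → GoodW D (l ++ J) → ∀ (τ : ℕ → F)
      (gx : GL D.Idx F), (gx : Matrix D.Idx D.Idx F) = wN D F (xwS D.simple J τ) →
      gx ∈ UnegW D F (l ++ J) := by
  have V := valid0_of_mem hD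
  have V1 := valid1_of_mem hD
  have VJ := validJ_of_mem hD
  have H := validH_of_mem hD
  intro J
  induction J using List.reverseRecOn with
  | nil =>
    intro _ _ τ gx hgx
    have : gx = 1 := Units.ext (by rw [hgx, Units.val_one]; rfl)
    rw [this]
    exact one_mem _
  | append_singleton J₀ k ih =>
    intro hO hg τ gx hgx
    obtain ⟨hO₀, hk, hkn, hok⟩ := hO.of_append
    rw [← List.append_assoc] at hg ⊢
    obtain ⟨hg1, _, hpos⟩ := hg.of_concat
    have hpk := (VJ.S k hk).1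
    obtain ⟨g₀, hg₀⟩ := exists_unit_wN V V1 (xwS D.simple J₀ τ) (by
      intro p hp
      obtain ⟨j, hj, e⟩ := xwS_letters J₀ τ p hp
      rw [e]
      exact (VJ.S j (hO₀.lt j hj)).1)
    obtain ⟨gk, hgk⟩ := exists_unit_x V V1 hpk (τ k)
    have e : gx = g₀ * gk := by
      apply Units.ext
      rw [hgx, Units.val_mul, hg₀, hgk, xwS_append, wN_append, wN_cons, wN_nil, Matrix.mul_one,
        x_eq_xN]
    have h1 := ih hO₀ hg1 τ g₀ hg₀
    have hcomm := word_comm_nG hD hk (fun j hj => ⟨hO₀.lt j hj, hok j hj⟩) (sgnF_simple D) τ hg₀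
    have h2 := conj_unegW_le (F := F) hD hg1.lt hk hpos ⟨_, h1, rfl⟩
    have e2 : (MulAut.conj (nG D F k)⁻¹).toMonoidHom g₀ = g₀ := by
      show (nG D F k)⁻¹ * g₀ * (nG D F k)⁻¹⁻¹ = g₀
      rw [inv_inv, mul_assoc, hcomm, ← mul_assoc, inv_mul_cancel, one_mul]
    rw [e2] at h2
    have h3 : gk ∈ UnegW D F (l ++ J₀ ++ [k]) := by
      apply Subgroup.subset_closure
      refine ⟨D.simple k, τ k, (refl_pos VJ (checkRP_of_mem hD) hk).1, hpk, ?_, hgk⟩
      rw [reflWord_append]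
      have h2 : reflWord D [k] (D.simple k) = D.neg (D.simple k) := reflectRoot_simple k
      have hσlt := reflWord_lt VJ H.nS hg1.lt hpk
      rw [h2, reflWord_neg VJ H.nS hg1.lt hpk, V.neg_eq _ hσlt]
      have := V.even
      omega
    rw [e]
    exact mul_mem h2 h3

/-- `n_J X_J n_J⁻¹ ≤ V` -/
theorem conj_cls_neg (hD : D ∈ [chevG2, chevB2, chevD4, chevF4, chevE6, chevE7, chevE8])
    {J : List ℕ} (hO : OrthL D J) (hg : GoodW D J) (τ : ℕ → F) (gx : GL D.Idx F)
    (hgx : (gx : Matrix D.Idx D.Idx F) = wN D F (xwS D.simple J τ)) :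
    nP D F J * gx * (nP D F J)⁻¹ ∈ D.negUnipotent F := by
  have h1 : gx ∈ UnegW D F ([] ++ J) := cls_mem_unegW hD hO (by simpa using hg) τ gx hgx
  rw [List.nil_append] at h1
  exact conj_unegS_le_neg _ ⟨gx, unegW_le_unegS hD hO.lt h1, rfl⟩

end

end Cfsg.Agent.Lib.Helper8.Chev
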