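import Cfsg.Agent.Lib.Helper8.ChevTw10

set_option autoImplicit false

/-! Symmetric words (lists of classes) and the fixed points on `U_w⁻`. -/

namespace Cfsg.Agent.Lib.Helper8.Chev

open Cfsg.Lie Matrix

section

variable {D : ChevalleyDatum} {F : Type*} [Field F] {ρ ρ' π π' : ℕ → ℕ} {ε : ℕ → ℤ}

/-- the reflection in `p_j` fixes `p_k` when the two roots are orthogonal -/
theorem reflectRoot_orth (hD : D ∈ [chevG2, chevB2, chevD4, chevF4, chevE6, chevE7, chevE8])
    {j k : ℕ} (hj : j < D.rank) (hk : k < D.rank) (h : OrthJ D k j) :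
    D.reflectRoot j (D.simple k) = D.simple k := by
  have V := valid0_of_mem hD
  have V1 := valid1_of_mem hD
  have VJ := validJ_of_mem hD
  have H := validH_of_mem hD
  have C := copP_of_mem hD
  have hpk := (VJ.S k hk).1
  obtain ⟨hlt, e, he⟩ := rootPerm_nG (F := ℚ) VJ V1 H hj (D.simple k) hpk
  obtain ⟨g, hg⟩ := exists_unit_x (F := ℚ) V V1 hpk 1
  have hc := nG_comm_x hD hk hj h (a := D.simple k) (by simp) hg
  have h1 := he 1
  have h2 : ((nG D ℚ j : GL D.Idx ℚ) : Matrix D.Idx D.Idx ℚ) * xN D ℚ (D.simple k) 1 =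
      xN D ℚ (D.simple k) 1 * (nG D ℚ j : GL D.Idx ℚ) := by
    have := congrArg (fun u : GL D.Idx ℚ => (u : Matrix D.Idx D.Idx ℚ)) hc
    simp only [Units.val_mul, hg, x_eq_xN] at this
    exact this.symm
  rw [h2] at h1
  have h3 : xN D ℚ (D.simple k) 1 = xN D ℚ (D.reflectRoot j (D.simple k)) ((e : ℚ) * 1) := by
    have := congrArg (fun M => M * (((nG D ℚ j)⁻¹ : GL D.Idx ℚ) : Matrix D.Idx D.Idx ℚ)) h1
    simp only [Matrix.mul_assoc, ← Units.val_mul, mul_inv_cancel, Units.val_one,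
      Matrix.mul_one] at this
    exact this
  exact (xN_inj_root V C hpk hlt one_ne_zero h3).symm

theorem reflWord_orth (hD : D ∈ [chevG2, chevB2, chevD4, chevF4, chevE6, chevE7, chevE8])
    {k : ℕ} (hk : k < D.rank) : ∀ {J : List ℕ}, (∀ j ∈ J, j < D.rank ∧ OrthJ D k j) →
      reflWord D J (D.simple k) = D.simple k := by
  intro J
  induction J with
  | nil => intro _; rfl
  | cons j J ih =>
    intro hJ
    rw [reflWord_cons, ih (fun i hi => hJ i (List.mem_cons_of_mem _ hi))]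
    exact reflectRoot_orth hD (hJ j List.mem_cons_self).1 hk (hJ j List.mem_cons_self).2

/-- a list of pairwise orthogonal fundamental roots is a good word -/
theorem OrthL.good (hD : D ∈ [chevG2, chevB2, chevD4, chevF4, chevE6, chevE7, chevE8]) :
    ∀ {J : List ℕ}, OrthL D J → GoodW D J := by
  have VJ := validJ_of_mem hD
  intro J
  induction J using List.reverseRecOn with
  | nil => intro _; exact GoodW.nil
  | append_singleton J k ih =>
    intro hO
    obtain ⟨hO₀, hk, hkn, hok⟩ := hO.of_append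
    refine GoodW.concat (ih hO₀) hk ?_
    rw [reflWord_orth hD hk (fun j hj => ⟨hO₀.lt j hj, hok j hj⟩)]
    exact (refl_pos VJ (checkRP_of_mem hD) hk).1

/-- class words are coordinate words -/
theorem clsWS_eq_xwS (f : ℕ → ℕ) (φ : F → F) : ∀ {J : List ℕ}, J.Nodup → ∀ t : F,
    ∃ τ : ℕ → F, clsWS f φ J t = xwS f J τ := by
  intro J
  induction J with
  | nil => intro _ t; exact ⟨fun _ => 0, rfl⟩
  | cons j J ih =>
    intro hnd t
    rw [List.nodup_cons] at hnd
    obtain ⟨τ, hτ⟩ := ih hnd.2 (φ t)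
    refine ⟨Function.update τ j t, ?_⟩
    show (f j, t) :: clsWS f φ J (φ t) = (f j, Function.update τ j t j) :: xwS f J _
    rw [Function.update_self, xwS_update hnd.1, hτ]

/-- the product of the reflections of a symmetric word is symmetric -/
theorem reflWord_sym (hD : D ∈ [chevG2, chevB2, chevD4, chevF4, chevE6, chevE7, chevE8])
    (h : GAOk D ρ ρ' π π' ε) : ∀ {Js : List (List ℕ)}, (∀ J ∈ Js, ClsOk D ρ J) →
      ∀ r < D.nroots, reflWord D (Js.flatten.map ρ) r = reflWord D Js.flatten r := by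
  have VJ := validJ_of_mem hD
  have H := validH_of_mem hD
  intro Js
  induction Js with
  | nil => intro _ r _; rfl
  | cons J Js ih =>
    intro hJs r hr
    have hJ := hJs J List.mem_cons_self
    have hJs' : ∀ J' ∈ Js, ClsOk D ρ J' := fun J' hJ' => hJs J' (List.mem_cons_of_mem _ hJ')
    have hlt : ∀ i ∈ Js.flatten, i < D.rank := by
      intro i hi
      rw [List.mem_flatten] at hi
      obtain ⟨J', hJ', hi⟩ := hi
      exact (hJs' J' hJ').lt i hi
    rw [List.flatten_cons, List.map_append, reflWord_append, reflWord_append, ih hJs' r hr,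
      reflWord_cls hD ℚ h hJ (reflWord_lt VJ H.nS hlt hr)]

theorem sym_lt {Js : List (List ℕ)} (hJs : ∀ J ∈ Js, ClsOk D ρ J) :
    ∀ i ∈ Js.flatten, i < D.rank := by
  intro i hi
  rw [List.mem_flatten] at hi
  obtain ⟨J', hJ', hi⟩ := hi
  exact (hJs J' hJ').lt i hi

/-- the twisting endomorphism preserves `U_w⁻` for a symmetric word -/
theorem sg_unegW_sym (hD : D ∈ [chevG2, chevB2, chevD4, chevF4, chevE6, chevE7, chevE8])
    (T : TwOk D ρ ρ' π π' ε) (φ : F →+* F) {Js : List (List ℕ)} (hJs : ∀ J ∈ Js, ClsOk D ρ J)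
    {g : GL D.Idx F} (hg : g ∈ UnegW D F Js.flatten) : sg T.ga φ g ∈ UnegW D F Js.flatten := by
  have V1 := valid1_of_mem hD
  have VJ := validJ_of_mem hD
  have H := validH_of_mem hD
  have := sg_mem_unegW VJ V1 H.nS T φ (sym_lt hJs) hg
  rwa [unegW_congr (reflWord_sym hD T.ga hJs)] at this


theorem unegW_le_pos (hD : D ∈ [chevG2, chevB2, chevD4, chevF4, chevE6, chevE7, chevE8])
    {l : List ℕ} (hl : ∀ i ∈ l, i < D.rank) : UnegW D F l ≤ D.posUnipotent F :=
  (unegW_le_unegS hD hl).trans (unegS_le_pos _)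

/-- the fixed points of `U_{w s_J}⁻` -/
theorem fix_decomp (hD : D ∈ [chevG2, chevB2, chevD4, chevF4, chevE6, chevE7, chevE8])
    (T : TwOk D ρ ρ' π π' ε) (φ : F →+* F) {Js : List (List ℕ)} (hJs : ∀ J ∈ Js, ClsOk D ρ J)
    {J : List ℕ} (hJ : ClsOk D ρ J) (hg : GoodW D (Js.flatten ++ J)) {u : GL D.Idx F}
    (hu : u ∈ UnegW D F (Js.flatten ++ J)) (hfix : sg T.ga φ u = u) :
    ∃ v ∈ UnegW D F Js.flatten, sg T.ga φ v = v ∧ ∃ t : F, φ^[J.length] t = t ∧
      ∃ gx : GL D.Idx F, (gx : Matrix D.Idx D.Idx F) = wN D F (clsWS D.simple φ J t) ∧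
        u = (nP D F J)⁻¹ * v * nP D F J * gx := by
  obtain ⟨v, hv, τ, gx, hgx, e⟩ := unegW_cls_decomp hD hJ.orthL hg u hu
  have e' : u = (nP D F J)⁻¹ * sg T.ga φ v * nP D F J * sg T.ga φ gx := by
    have := congrArg (sg T.ga φ) e
    rw [hfix, map_mul, map_mul, map_mul, map_inv, sg_nP_cls hD T.ga φ hJ] at this
    exact this
  have hlt := sym_lt hJs
  have hsv := sg_unegW_sym hD T φ hJs hv
  have hx := conj_cls_neg hD hJ.orthL (hJ.orthL.good hD) τ gx hgx
  have hx' := conj_cls_neg hD hJ.orthL (hJ.orthL.good hD) _ _ (sg_xwS hD T.ga φ hJ τ hgx)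
  obtain ⟨e1, e2⟩ := unegW_concat_unique hD (unegW_le_pos hD hlt hv) (unegW_le_pos hD hlt hsv)
    hx hx' (e.symm.trans e')
  obtain ⟨t, ht, hw⟩ := fixed_xwS hD T.ga φ hJ τ hgx e2.symm
  exact ⟨v, hv, e1.symm, t, ht, gx, by rw [hgx, hw], e⟩

theorem reorder_aux {M : Type*} [Monoid M] {a b X Y : M} (h1 : Commute a X) (h2 : Commute a Y)
    (h3 : Commute b X) :
    (a * b * a) * (X * Y * X) = (a * X) * (b * Y) * (a * X) := by
  calc (a * b * a) * (X * Y * X) = a * b * (a * X) * Y * X := by simp only [mul_assoc]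
    _ = a * b * (X * a) * Y * X := by rw [h1.eq]
    _ = a * (b * X) * (a * Y) * X := by simp only [mul_assoc]
    _ = a * (X * b) * (Y * a) * X := by rw [h3.eq, h2.eq]
    _ = (a * X) * (b * Y) * (a * X) := by simp only [mul_assoc]

/-- `n_J` is a product of three class elements -/
theorem nP_cls_eq (hD : D ∈ [chevG2, chevB2, chevD4, chevF4, chevE6, chevE7, chevE8])
    (φ : F →+* F) : ∀ {J : List ℕ}, OrthL D J →
      ((nP D F J : GL D.Idx F) : Matrix D.Idx D.Idx F) =
        wN D F (clsWS D.simple φ J 1) * wN D F (clsWS (fun j => D.neg (D.simple j)) φ J (-1)) *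
          wN D F (clsWS D.simple φ J 1) := by
  have V1 := valid1_of_mem hD
  have VJ := validJ_of_mem hD
  intro J
  induction J with
  | nil =>
    intro _
    rw [nP_nil]
    simp [clsWS, wN_nil]
  | cons j J ih =>
    intro hO
    have hj := hO.lt j List.mem_cons_self
    have hnd := hO.nodup
    rw [List.nodup_cons] at hnd
    have hO' : OrthL D J := ⟨fun i hi => hO.lt i (List.mem_cons_of_mem _ hi), hnd.2,
      fun i hi i' hi' hne => hO.orth i (List.mem_cons_of_mem _ hi) i' (List.mem_cons_of_mem _ hi')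
        hne⟩
    have hw : ∀ (f : ℕ → ℕ), SgnF D f → ∀ (t : F), ∀ p ∈ clsWS f φ J t,
        ∃ j', j' < D.rank ∧ OrthJ D j j' ∧ p.1 ∈ [D.simple j', D.neg (D.simple j')] := by
      intro f hf t p hp
      obtain ⟨j', hj', e⟩ := clsWS_letters f φ J t p hp
      refine ⟨j', hO'.lt j' hj', hO.orth j List.mem_cons_self j' (List.mem_cons_of_mem _ hj')
        (by rintro rfl; exact hnd.1 hj'), ?_⟩
      rw [e]
      exact hf j'
    rw [nP_cons, Units.val_mul, ih hO', coe_nG VJ V1 hj, nMat_eq_wN]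
    simp only [clsWS, ChevalleyDatum.nWord, wN_cons, wN_nil, Matrix.mul_one, map_one, map_neg,
      inv_one]
    have c1 := fun c => xN_comm_word hD hj (a := D.simple j) (by simp) _
      (hw D.simple (sgnF_simple D) (1 : F)) c
    have c2 := fun c => xN_comm_word hD hj (a := D.simple j) (by simp) _
      (hw _ (sgnF_neg D) (-1 : F)) c
    have c3 := fun c => xN_comm_word hD hj (a := D.neg (D.simple j)) (by simp) _
      (hw D.simple (sgnF_simple D) (1 : F)) c
    have := reorder_aux (M := Matrix D.Idx D.Idx F) (c1 1) (c2 1) (c3 (-1))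
    simp only [Matrix.mul_assoc] at this ⊢
    exact this

theorem iterate_fix_of_fix {α : Type*} (f : α → α) {a : α} (h : f a = a) (n : ℕ) :
    f^[n] a = a := Function.iterate_fixed h n

/-- `n_J` lies in any subgroup containing the class elements -/
theorem nP_cls_mem (hD : D ∈ [chevG2, chevB2, chevD4, chevF4, chevE6, chevE7, chevE8])
    (φ : F →+* F) {J : List ℕ} (hO : OrthL D J) {G1 : Subgroup (GL D.Idx F)}
    (hG : ∀ f ∈ [D.simple, fun j => D.neg (D.simple j)], ∀ t : F, φ^[J.length] t = t →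
      ∀ g : GL D.Idx F, (g : Matrix D.Idx D.Idx F) = wN D F (clsWS f φ J t) → g ∈ G1) :
    nP D F J ∈ G1 := by
  have V := valid0_of_mem hD
  have V1 := valid1_of_mem hD
  have VJ := validJ_of_mem hD
  have hlt : ∀ (f : ℕ → ℕ), SgnF D f → ∀ t : F, ∀ p ∈ clsWS f φ J t, p.1 < D.nroots := by
    intro f hf t p hp
    obtain ⟨j, hj, e⟩ := clsWS_letters f φ J t p hp
    rw [e]
    have := hf j
    simp only [List.mem_cons, List.not_mem_nil, or_false] at this
    rcases this with h | h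
    · rw [h]; exact (VJ.S j (hO.lt j hj)).1
    · rw [h]; exact V.neg_lt (VJ.S j (hO.lt j hj)).1
  have h1 := coe_wG V V1 _ (hlt D.simple (sgnF_simple D) (1 : F))
  have h2 := coe_wG V V1 _ (hlt _ (sgnF_neg D) (-1 : F))
  have e : nP D F J = wG D F (clsWS D.simple φ J 1) *
      wG D F (clsWS (fun j => D.neg (D.simple j)) φ J (-1)) * wG D F (clsWS D.simple φ J 1) := by
    apply Units.ext
    rw [Units.val_mul, Units.val_mul, h1, h2, nP_cls_eq hD φ hO]
  rw [e]
  have f1 : φ^[J.length] (1 : F) = 1 := Function.iterate_fixed (map_one φ) _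
  have f2 : φ^[J.length] (-1 : F) = -1 :=
    Function.iterate_fixed (by rw [map_neg, map_one]) _
  exact mul_mem (mul_mem (hG _ (by simp) 1 f1 _ h1) (hG _ (by simp) (-1) f2 _ h2))
    (hG _ (by simp) 1 f1 _ h1)

/-- the fixed points of `U_w⁻` lie in any subgroup containing the class elements -/
theorem fix_le (hD : D ∈ [chevG2, chevB2, chevD4, chevF4, chevE6, chevE7, chevE8])
    (T : TwOk D ρ ρ' π π' ε) (φ : F →+* F) {G1 : Subgroup (GL D.Idx F)} :
    ∀ {Js : List (List ℕ)}, (∀ J ∈ Js, ClsOk D ρ J) → GoodW D Js.flatten →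
      (∀ J ∈ Js, ∀ f ∈ [D.simple, fun j => D.neg (D.simple j)], ∀ t : F, φ^[J.length] t = t →
        ∀ g : GL D.Idx F, (g : Matrix D.Idx D.Idx F) = wN D F (clsWS f φ J t) → g ∈ G1) →
      UnegW D F Js.flatten ⊓ fixS T.ga φ ≤ G1 := by
  intro Js
  induction Js using List.reverseRecOn with
  | nil =>
    intro _ _ _ u hu
    have h1 := (Subgroup.mem_inf.mp hu).1
    have : UnegW D F ([] : List (List ℕ)).flatten = ⊥ := by
      unfold UnegW
      rw [Subgroup.closure_eq_bot_iff]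
      rintro x ⟨r, t, h1, h2, h3, _⟩
      exfalso
      change r < D.nroots / 2 at h3
      omega
    rw [this, Subgroup.mem_bot] at h1
    rw [h1]
    exact one_mem _
  | append_singleton Js J ih =>
    intro hJs hg hG u hu
    rw [List.flatten_append, List.flatten_singleton] at hg hu
    have hJs' : ∀ J' ∈ Js, ClsOk D ρ J' := fun J' hJ' => hJs J' (by simp [hJ'])
    have hJ := hJs J (by simp)
    obtain ⟨hu1, hu2⟩ := Subgroup.mem_inf.mp hu
    obtain ⟨v, hv, hvf, t, ht, gx, hgx, e⟩ := fix_decomp hD T φ hJs' hJ hg hu1 hu2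
    have hv' := ih hJs' hg.of_append (fun J' hJ' => hG J' (by simp [hJ']))
      (Subgroup.mem_inf.mpr ⟨hv, hvf⟩)
    have hn := nP_cls_mem hD φ hJ.orthL (hG J (by simp))
    rw [e]
    exact mul_mem (mul_mem (mul_mem (inv_mem hn) hv') hn) (hG J (by simp) _ (by simp) t ht gx hgx)


theorem clsWS_lt (V : Valid0 D) (VJ : ValidJ D) {f : ℕ → ℕ} (hf : SgnF D f) (φ : F → F)
    {J : List ℕ} (hJ : ∀ j ∈ J, j < D.rank) (t : F) : ∀ p ∈ clsWS f φ J t, p.1 < D.nroots := by
  intro p hp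
  obtain ⟨j, hj, e⟩ := clsWS_letters f φ J t p hp
  rw [e]
  have := hf j
  simp only [List.mem_cons, List.not_mem_nil, or_false] at this
  rcases this with h | h
  · rw [h]; exact (VJ.S j (hJ j hj)).1
  · rw [h]; exact V.neg_lt (VJ.S j (hJ j hj)).1

/-- the number of fixed points of `U_{w s_J}⁻` -/
theorem card_fix_step (hD : D ∈ [chevG2, chevB2, chevD4, chevF4, chevE6, chevE7, chevE8])
    (T : TwOk D ρ ρ' π π' ε) (φ : F →+* F) {Js : List (List ℕ)} (hJs : ∀ J ∈ Js, ClsOk D ρ J)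
    {J : List ℕ} (hJ : ClsOk D ρ J) (hg : GoodW D (Js.flatten ++ J)) :
    Nat.card ↥(UnegW D F (Js.flatten ++ J) ⊓ fixS T.ga φ) =
      Nat.card ↥(UnegW D F Js.flatten ⊓ fixS T.ga φ) *
        Nat.card {t : F // φ^[J.length] t = t} := by
  have V := valid0_of_mem hD
  have V1 := valid1_of_mem hD
  have VJ := validJ_of_mem hD
  have hlt := sym_lt hJs
  have hne : J ≠ [] := by
    obtain ⟨j₀, J', e, _⟩ := hJ.rot
    rw [e]; simp
  have hc : ∀ t : F, ((wG D F (clsWS D.simple φ J t) : GL D.Idx F) : Matrix D.Idx D.Idx F) =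
      wN D F (clsWS D.simple φ J t) := fun t =>
    coe_wG V V1 _ (clsWS_lt V VJ (sgnF_simple D) φ hJ.lt t)
  have hmem : ∀ (p : ↥(UnegW D F Js.flatten ⊓ fixS T.ga φ) × {t : F // φ^[J.length] t = t}),
      (nP D F J)⁻¹ * (p.1 : GL D.Idx F) * nP D F J * wG D F (clsWS D.simple φ J p.2.1) ∈
        UnegW D F (Js.flatten ++ J) ⊓ fixS T.ga φ := by
    rintro ⟨⟨v, hv⟩, ⟨t, ht⟩⟩
    obtain ⟨hv1, hv2⟩ := Subgroup.mem_inf.mp hv
    obtain ⟨τ, hτ⟩ := clsWS_eq_xwS D.simple φ hJ.nodup t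
    refine Subgroup.mem_inf.mpr ⟨mul_mem (conj_unegW_le_cls hD hg v hv1)
      (cls_mem_unegW hD hJ.orthL hg τ _ (by rw [hc, hτ])), ?_⟩
    rw [mem_fixS, map_mul, map_mul, map_mul, map_inv, sg_nP_cls hD T.ga φ hJ,
      (mem_fixS _ _ _).mp hv2, sg_cls hD T.ga φ (sgnF_simple D) (hf_simple T.ga) hJ ht (hc t)]
  rw [← Nat.card_prod]
  symm
  apply Nat.card_eq_of_bijective (fun p => ⟨_, hmem p⟩)
  constructor
  · rintro ⟨⟨v, hv⟩, ⟨t, ht⟩⟩ ⟨⟨v', hv'⟩, ⟨t', ht'⟩⟩ e
    have e' := congrArg Subtype.val e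
    simp only at e'
    obtain ⟨hv1, hv2⟩ := Subgroup.mem_inf.mp hv
    obtain ⟨hv1', hv2'⟩ := Subgroup.mem_inf.mp hv'
    obtain ⟨τ, hτ⟩ := clsWS_eq_xwS D.simple φ hJ.nodup t
    obtain ⟨τ', hτ'⟩ := clsWS_eq_xwS D.simple φ hJ.nodup t'
    have hx := conj_cls_neg hD hJ.orthL (hJ.orthL.good hD) τ _ (by rw [hc, hτ])
    have hx' := conj_cls_neg hD hJ.orthL (hJ.orthL.good hD) τ' _ (by rw [hc, hτ'])
    obtain ⟨e1, e2⟩ := unegW_concat_unique hD (unegW_le_pos hD hlt hv1)
      (unegW_le_pos hD hlt hv1') hx hx' e'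
    have e3 : t = t' := by
      apply clsWS_inj hD φ hJ.orthL hne
      rw [← hc, ← hc, e2]
    subst e1
    subst e3
    rfl
  · rintro ⟨u, hu⟩
    obtain ⟨hu1, hu2⟩ := Subgroup.mem_inf.mp hu
    obtain ⟨v, hv, hvf, t, ht, gx, hgx, e⟩ := fix_decomp hD T φ hJs hJ hg hu1 hu2
    refine ⟨⟨⟨v, Subgroup.mem_inf.mpr ⟨hv, hvf⟩⟩, ⟨t, ht⟩⟩, ?_⟩
    apply Subtype.ext
    simp only
    rw [e]
    congr 1
    apply Units.ext
    rw [hc, hgx]

/-- the number of fixed points of `U_w⁻` for a symmetric good word -/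
theorem card_fix (hD : D ∈ [chevG2, chevB2, chevD4, chevF4, chevE6, chevE7, chevE8])
    (T : TwOk D ρ ρ' π π' ε) (φ : F →+* F) (q : ℕ) :
    ∀ {Js : List (List ℕ)}, (∀ J ∈ Js, ClsOk D ρ J) → GoodW D Js.flatten →
      (∀ J ∈ Js, Nat.card {t : F // φ^[J.length] t = t} = q ^ J.length) →
      Nat.card ↥(UnegW D F Js.flatten ⊓ fixS T.ga φ) = q ^ Js.flatten.length := by
  intro Js
  induction Js using List.reverseRecOn with
  | nil =>
    intro _ _ _
    have : UnegW D F ([] : List (List ℕ)).flatten = ⊥ := by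
      unfold UnegW
      rw [Subgroup.closure_eq_bot_iff]
      rintro x ⟨r, t, h1, h2, h3, _⟩
      exfalso
      change r < D.nroots / 2 at h3
      omega
    rw [this, bot_inf_eq]
    simp
  | append_singleton Js J ih =>
    intro hJs hg hq
    rw [List.flatten_append, List.flatten_singleton] at hg ⊢
    have hJs' : ∀ J' ∈ Js, ClsOk D ρ J' := fun J' hJ' => hJs J' (by simp [hJ'])
    rw [card_fix_step hD T φ hJs' (hJs J (by simp)) hg, ih hJs' hg.of_append
      (fun J' hJ' => hq J' (by simp [hJ'])), hq J (by simp), List.length_append, pow_add]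

end

end Cfsg.Agent.Lib.Helper8.Chev
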