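import Cfsg.Agent.Lib.Helper8.ChevTw12

set_option autoImplicit false

/-! Frobenius maps of finite fields, and the unipotent subgroup of a twisted group. -/

namespace Cfsg.Agent.Lib.Helper8.Chev

open Cfsg.Lie Matrix

/-- the `q`-th power map of a finite field of order `q ^ m` is a ring homomorphism -/
theorem exists_frob {K : Type*} [Field K] [Fintype K] {q m : ℕ} (hq : IsPrimePow q)
    (hK : Fintype.card K = q ^ m) : ∃ φ : K →+* K, ∀ t, φ t = t ^ q := by
  obtain ⟨p, k, hp, hk, rfl⟩ := hq
  have hp' : p.Prime := Nat.prime_iff.mpr hp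
  have hchar : CharP K (ringChar K) := ringChar.charP K
  obtain ⟨n, hr, hcard⟩ := FiniteField.card K (ringChar K)
  have hdvd : ringChar K ∣ p := by
    have h1 : ringChar K ∣ (p ^ k) ^ m := by
      rw [← hK, hcard]
      exact dvd_pow_self _ n.ne_zero
    exact hr.dvd_of_dvd_pow (hr.dvd_of_dvd_pow h1)
  have heq : ringChar K = p := (Nat.prime_dvd_prime_iff_eq hr hp').mp hdvd
  have : Fact p.Prime := ⟨hp'⟩
  have : CharP K p := heq ▸ hchar
  exact ⟨iterateFrobenius K p k, fun t => rfl⟩

/-- the fixed field of the `q`-th power map of a field of order `q ^ m` has `q` elements -/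
theorem card_frob_fix {K : Type*} [Field K] [Fintype K] {q m : ℕ} (hq : 1 < q)
    (hK : Fintype.card K = q ^ m) : Nat.card {t : K // t ^ q = t} = q := by
  classical
  have hker := IsCyclic.card_powMonoidHom_ker Kˣ (q - 1)
  have hcu : Nat.card Kˣ = q ^ m - 1 := by
    rw [Nat.card_eq_fintype_card, Fintype.card_units, hK]
  have hgcd : (q ^ m - 1).gcd (q - 1) = q - 1 := by
    apply Nat.gcd_eq_right
    have := Nat.sub_dvd_pow_sub_pow q 1 m
    rwa [one_pow] at this
  rw [hcu, hgcd] at hker
  have e : {t : K // t ^ q = t} ≃ Option ↥(powMonoidHom (q - 1) : Kˣ →* Kˣ).ker :=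
    { toFun := fun t => if h : t.1 = 0 then none else some ⟨Units.mk0 t.1 h, by
        rw [MonoidHom.mem_ker, powMonoidHom_apply]
        apply Units.ext
        rw [Units.val_pow_eq_pow_val, Units.val_mk0, Units.val_one]
        have h1 : t.1 ^ (q - 1) * t.1 = t.1 := by
          rw [← pow_succ, Nat.sub_add_cancel hq.le]
          exact t.2
        exact mul_right_cancel₀ h (by rw [h1, one_mul])⟩
      invFun := fun o => match o with
        | none => ⟨0, zero_pow (by omega)⟩
        | some u => ⟨(u.1 : K), by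
            have h1 := u.2
            rw [MonoidHom.mem_ker, powMonoidHom_apply] at h1
            have h2 : (u.1 : K) ^ (q - 1) = 1 := by
              rw [← Units.val_pow_eq_pow_val, h1, Units.val_one]
            calc (u.1 : K) ^ q = (u.1 : K) ^ (q - 1) * (u.1 : K) := by
                  rw [← pow_succ, Nat.sub_add_cancel hq.le]
              _ = (u.1 : K) := by rw [h2, one_mul]⟩
      left_inv := by
        rintro ⟨t, ht⟩
        by_cases h : t = 0
        · simp [h]
        · simp [h]
      right_inv := by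
        rintro (_ | u)
        · simp
        · simp }
  rw [Nat.card_congr e, Nat.card_eq_fintype_card, Fintype.card_option,
    ← Nat.card_eq_fintype_card, hker]
  omega

section

variable {D : ChevalleyDatum} {F : Type*} [Field F] {ρ ρ' π π' : ℕ → ℕ} {ε : ℕ → ℤ}

/-- the positive unipotent part of a twisted group is the group of fixed points of `U` -/
theorem pos_inf_tw (hD : D ∈ [chevG2, chevB2, chevD4, chevF4, chevE6, chevE7, chevE8])
    (T : TwOk D ρ ρ' π π' ε) (φ : F →+* F) {G1 : Subgroup (GL D.Idx F)} {Js : List (List ℕ)}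
    (hJs : ∀ J ∈ Js, ClsOk D ρ J) (hg : GoodW D Js.flatten)
    (hfull : ∀ r, D.nroots / 2 ≤ r → r < D.nroots → reflWord D Js.flatten r < D.nroots / 2)
    (hG : G1 ≤ fixS T.ga φ)
    (hcls : ∀ J ∈ Js, ∀ f ∈ [D.simple, fun j => D.neg (D.simple j)], ∀ t : F,
      φ^[J.length] t = t → ∀ g : GL D.Idx F,
        (g : Matrix D.Idx D.Idx F) = wN D F (clsWS f φ J t) → g ∈ G1) :
    D.posUnipotent F ⊓ G1 = D.posUnipotent F ⊓ fixS T.ga φ := by
  apply le_antisymm
  · exact inf_le_inf_left _ hG
  · apply le_inf inf_le_left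
    rw [← unegW_eq_pos F (posP_of_mem hD) hfull]
    exact fix_le hD T φ hJs hg hcls

theorem card_pos_tw (hD : D ∈ [chevG2, chevB2, chevD4, chevF4, chevE6, chevE7, chevE8])
    (T : TwOk D ρ ρ' π π' ε) (φ : F →+* F) {G1 : Subgroup (GL D.Idx F)} {Js : List (List ℕ)}
    (hJs : ∀ J ∈ Js, ClsOk D ρ J) (hg : GoodW D Js.flatten)
    (hfull : ∀ r, D.nroots / 2 ≤ r → r < D.nroots → reflWord D Js.flatten r < D.nroots / 2)
    (hG : G1 ≤ fixS T.ga φ)
    (hcls : ∀ J ∈ Js, ∀ f ∈ [D.simple, fun j => D.neg (D.simple j)], ∀ t : F,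
      φ^[J.length] t = t → ∀ g : GL D.Idx F,
        (g : Matrix D.Idx D.Idx F) = wN D F (clsWS f φ J t) → g ∈ G1) (q : ℕ)
    (hq : ∀ J ∈ Js, Nat.card {t : F // φ^[J.length] t = t} = q ^ J.length) :
    Nat.card ↥(D.posUnipotent F ⊓ G1) = q ^ Js.flatten.length := by
  rw [pos_inf_tw hD T φ hJs hg hfull hG hcls, ← unegW_eq_pos F (posP_of_mem hD) hfull]
  exact card_fix hD T φ q hJs hg hq

end

end Cfsg.Agent.Lib.Helper8.Chev
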