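import Cfsg.Agent.Lib.Helper8.ChevTw13
import Cfsg.Prelude.Def_LieTwisted

set_option autoImplicit false

/-! The generators of `²E₆` and `³D₄` are the class elements. -/

namespace Cfsg.Agent.Lib.Helper8.Chev

open Cfsg.Lie Matrix

section E6

variable {K : Type*} [Field K] {q : ℕ}

theorem e6_word_cases (φ : K →+* K) (hφ : ∀ t, φ t = t ^ q) (w : List (ℕ × K))
    (hw : w ∈ e6Words K q) :
    ∃ J ∈ clsE6, ∃ f ∈ [chevE6.simple, fun j => chevE6.neg (chevE6.simple j)], ∃ t : K,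
      (J.length = 1 → φ t = t) ∧ w = clsWS f φ J t := by
  rcases hw with ⟨t, ht, r, hr, rfl⟩ | ⟨t, rs, hrs, rfl⟩
  · simp only [List.mem_cons, List.not_mem_nil, or_false] at hr
    rcases hr with rfl | rfl | rfl | rfl
    · exact ⟨[1], by simp [clsE6], _, List.mem_cons_self, t, fun _ => by rw [hφ, ht], rfl⟩
    · exact ⟨[1], by simp [clsE6], _, List.mem_cons_of_mem _ List.mem_cons_self, t,
        fun _ => by rw [hφ, ht], rfl⟩
    · exact ⟨[3], by simp [clsE6], _, List.mem_cons_self, t, fun _ => by rw [hφ, ht], rfl⟩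
    · exact ⟨[3], by simp [clsE6], _, List.mem_cons_of_mem _ List.mem_cons_self, t,
        fun _ => by rw [hφ, ht], rfl⟩
  · simp only [List.mem_cons, List.not_mem_nil, or_false] at hrs
    rcases hrs with rfl | rfl | rfl | rfl
    · refine ⟨[0, 5], by simp [clsE6], _, List.mem_cons_self, t, fun h => by simp at h, ?_⟩
      simp only [clsWS, hφ]; rfl
    · refine ⟨[0, 5], by simp [clsE6], _, List.mem_cons_of_mem _ List.mem_cons_self, t,
        fun h => by simp at h, ?_⟩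
      simp only [clsWS, hφ]; rfl
    · refine ⟨[2, 4], by simp [clsE6], _, List.mem_cons_self, t, fun h => by simp at h, ?_⟩
      simp only [clsWS, hφ]; rfl
    · refine ⟨[2, 4], by simp [clsE6], _, List.mem_cons_of_mem _ List.mem_cons_self, t,
        fun h => by simp at h, ?_⟩
      simp only [clsWS, hφ]; rfl

theorem e6_cls_word (φ : K →+* K) (hφ : ∀ t, φ t = t ^ q) {J : List ℕ} (hJ : J ∈ clsE6)
    {f : ℕ → ℕ} (hf : f ∈ [chevE6.simple, fun j => chevE6.neg (chevE6.simple j)]) (t : K)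
    (ht : J.length = 1 → φ t = t) : clsWS f φ J t ∈ e6Words K q := by
  simp only [clsE6, List.mem_cons, List.not_mem_nil, or_false] at hJ
  simp only [List.mem_cons, List.not_mem_nil, or_false] at hf
  rcases hJ with rfl | rfl | rfl | rfl
  · have ht' : t ^ q = t := by rw [← hφ]; exact ht rfl
    rcases hf with rfl | rfl
    · exact Or.inl ⟨t, ht', e6p2, by simp, rfl⟩
    · exact Or.inl ⟨t, ht', e6m2, by simp, rfl⟩
  · have ht' : t ^ q = t := by rw [← hφ]; exact ht rfl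
    rcases hf with rfl | rfl
    · exact Or.inl ⟨t, ht', e6p4, by simp, rfl⟩
    · exact Or.inl ⟨t, ht', e6m4, by simp, rfl⟩
  · rcases hf with rfl | rfl
    · refine Or.inr ⟨t, (e6p1, e6p6), by simp, ?_⟩
      simp only [clsWS, hφ]; rfl
    · refine Or.inr ⟨t, (e6m1, e6m6), by simp, ?_⟩
      simp only [clsWS, hφ]; rfl
  · rcases hf with rfl | rfl
    · refine Or.inr ⟨t, (e6p3, e6p5), by simp, ?_⟩
      simp only [clsWS, hφ]; rfl
    · refine Or.inr ⟨t, (e6m3, e6m5), by simp, ?_⟩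
      simp only [clsWS, hφ]; rfl


theorem hDE6 : chevE6 ∈ [chevG2, chevB2, chevD4, chevF4, chevE6, chevE7, chevE8] := by simp

theorem iter_len_E6 (φ : K →+* K) (h2 : ∀ t : K, φ (φ t) = t) {J : List ℕ} (hJ : J ∈ clsE6)
    (t : K) : φ^[J.length] t = t ↔ (J.length = 1 → φ t = t) := by
  simp only [clsE6, List.mem_cons, List.not_mem_nil, or_false] at hJ
  rcases hJ with rfl | rfl | rfl | rfl
  · simp
  · simp
  · simp [h2]
  · simp [h2]

/-- `²E₆` consists of fixed points of the twisting endomorphism -/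
theorem twE6_le_fix (φ : K →+* K) (hφ : ∀ t, φ t = t ^ q) (h2 : ∀ t : K, φ (φ t) = t) :
    twistedE6 K q ≤ fixS gaOk_E6 φ := by
  unfold twistedE6 ChevalleyDatum.genSubgroup
  rw [Subgroup.closure_le]
  rintro g ⟨w, hw, hg⟩
  obtain ⟨J, hJ, f, hf, t, ht, rfl⟩ := e6_word_cases φ hφ w hw
  rw [wordMat_eq_wN] at hg
  have hs : SgnF chevE6 f ∧ ∀ j < chevE6.rank, gaPi_E6 (f j) = f (gaRho_E6 j) ∧
      gaEps_E6 (f j) = 1 := by
    simp only [List.mem_cons, List.not_mem_nil, or_false] at hf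
    rcases hf with rfl | rfl
    · exact ⟨sgnF_simple _, hf_simple gaOk_E6⟩
    · exact ⟨sgnF_neg _, hf_neg (validJ_of_mem hDE6) gaOk_E6⟩
  exact sg_cls hDE6 gaOk_E6 φ hs.1 hs.2 (clsOk_E6 J hJ) ((iter_len_E6 φ h2 hJ t).mpr ht) hg

/-- the class elements lie in `²E₆` -/
theorem twE6_cls_mem (φ : K →+* K) (hφ : ∀ t, φ t = t ^ q) (h2 : ∀ t : K, φ (φ t) = t)
    {J : List ℕ} (hJ : J ∈ clsE6) {f : ℕ → ℕ}
    (hf : f ∈ [chevE6.simple, fun j => chevE6.neg (chevE6.simple j)]) {t : K}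
    (ht : φ^[J.length] t = t) {g : GL chevE6.Idx K}
    (hg : (g : Matrix chevE6.Idx chevE6.Idx K) = wN chevE6 K (clsWS f φ J t)) :
    g ∈ twistedE6 K q := by
  apply Subgroup.subset_closure
  exact ⟨_, e6_cls_word φ hφ hJ hf t ((iter_len_E6 φ h2 hJ t).mp ht), by rw [wordMat_eq_wN, hg]⟩

/-- `|U ∩ ²E₆(q)| = q ^ 36` -/
theorem card_pos_twE6 [Fintype K] (hq : IsPrimePow q) (hK : Fintype.card K = q ^ 2) :
    Nat.card ↥(chevE6.posUnipotent K ⊓ twistedE6 K q) = q ^ 36 := by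
  obtain ⟨φ, hφ⟩ := exists_frob hq hK
  have h2 : ∀ t : K, φ (φ t) = t := by
    intro t
    rw [hφ, hφ, ← pow_mul, ← sq, ← hK, FiniteField.pow_card]
  have hJs : ∀ J ∈ symW0_E6, ClsOk chevE6 gaRho_E6 J := fun J hJ =>
    clsOk_E6 J (symW0_E6_cls J hJ)
  rw [← symW0_E6_length]
  apply card_pos_tw hDE6 twOk_E6 φ hJs symW0_E6_good symW0_E6_full (twE6_le_fix φ hφ h2)
  · intro J hJ f hf t ht g hg
    exact twE6_cls_mem φ hφ h2 (symW0_E6_cls J hJ) hf ht hg
  · intro J hJ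
    have hJ' := symW0_E6_cls J hJ
    simp only [clsE6, List.mem_cons, List.not_mem_nil, or_false] at hJ'
    have h1 : Nat.card {t : K // φ^[1] t = t} = q ^ 1 := by
      simp only [Function.iterate_one, hφ, pow_one]
      exact card_frob_fix hq.one_lt hK
    have h2' : Nat.card {t : K // φ^[2] t = t} = q ^ 2 := by
      have : ∀ t : K, φ^[2] t = t := fun t => h2 t
      simp only [this]
      rw [Nat.card_eq_fintype_card, Fintype.card_subtype_true, hK]
    rcases hJ' with rfl | rfl | rfl | rfl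
    · exact h1
    · exact h1
    · exact h2'
    · exact h2'

end E6

section D4

variable {K : Type*} [Field K] {q : ℕ}

theorem d4_word_cases (φ : K →+* K) (hφ : ∀ t, φ t = t ^ q) (w : List (ℕ × K))
    (hw : w ∈ d4Words K q) :
    ∃ J ∈ clsD4, ∃ f ∈ [chevD4.simple, fun j => chevD4.neg (chevD4.simple j)], ∃ t : K,
      (J.length = 1 → φ t = t) ∧ w = clsWS f φ J t := by
  have hφ2 : ∀ t : K, (t ^ q) ^ q = t ^ (q ^ 2) := fun t => by rw [← pow_mul, ← sq]
  rcases hw with ⟨t, ht, r, hr, rfl⟩ | ⟨t, rs, hrs, rfl⟩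
  · simp only [List.mem_cons, List.not_mem_nil, or_false] at hr
    rcases hr with rfl | rfl
    · exact ⟨[1], by simp [clsD4], _, List.mem_cons_self, t, fun _ => by rw [hφ, ht], rfl⟩
    · exact ⟨[1], by simp [clsD4], _, List.mem_cons_of_mem _ List.mem_cons_self, t,
        fun _ => by rw [hφ, ht], rfl⟩
  · simp only [List.mem_cons, List.not_mem_nil, or_false] at hrs
    rcases hrs with rfl | rfl
    · refine ⟨[0, 2, 3], by simp [clsD4], _, List.mem_cons_self, t, fun h => by simp at h, ?_⟩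
      simp only [clsWS, hφ, hφ2]; rfl
    · refine ⟨[0, 2, 3], by simp [clsD4], _, List.mem_cons_of_mem _ List.mem_cons_self, t,
        fun h => by simp at h, ?_⟩
      simp only [clsWS, hφ, hφ2]; rfl

theorem d4_cls_word (φ : K →+* K) (hφ : ∀ t, φ t = t ^ q) {J : List ℕ} (hJ : J ∈ clsD4)
    {f : ℕ → ℕ} (hf : f ∈ [chevD4.simple, fun j => chevD4.neg (chevD4.simple j)]) (t : K)
    (ht : J.length = 1 → φ t = t) : clsWS f φ J t ∈ d4Words K q := by
  have hφ2 : ∀ t : K, (t ^ q) ^ q = t ^ (q ^ 2) := fun t => by rw [← pow_mul, ← sq]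
  simp only [clsD4, List.mem_cons, List.not_mem_nil, or_false] at hJ
  simp only [List.mem_cons, List.not_mem_nil, or_false] at hf
  rcases hJ with rfl | rfl
  · have ht' : t ^ q = t := by rw [← hφ]; exact ht rfl
    rcases hf with rfl | rfl
    · exact Or.inl ⟨t, ht', d4p2, by simp, rfl⟩
    · exact Or.inl ⟨t, ht', d4m2, by simp, rfl⟩
  · rcases hf with rfl | rfl
    · refine Or.inr ⟨t, (d4p1, d4p3, d4p4), by simp, ?_⟩
      simp only [clsWS, hφ, hφ2]; rfl
    · refine Or.inr ⟨t, (d4m1, d4m3, d4m4), by simp, ?_⟩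
      simp only [clsWS, hφ, hφ2]; rfl

theorem hDD4 : chevD4 ∈ [chevG2, chevB2, chevD4, chevF4, chevE6, chevE7, chevE8] := by simp

theorem iter_len_D4 (φ : K →+* K) (h3 : ∀ t : K, φ (φ (φ t)) = t) {J : List ℕ} (hJ : J ∈ clsD4)
    (t : K) : φ^[J.length] t = t ↔ (J.length = 1 → φ t = t) := by
  simp only [clsD4, List.mem_cons, List.not_mem_nil, or_false] at hJ
  rcases hJ with rfl | rfl
  · simp
  · simp [h3]

/-- `³D₄` consists of fixed points of the twisting endomorphism -/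
theorem twD4_le_fix (φ : K →+* K) (hφ : ∀ t, φ t = t ^ q) (h3 : ∀ t : K, φ (φ (φ t)) = t) :
    twistedD4 K q ≤ fixS gaOk_D4a φ := by
  unfold twistedD4 ChevalleyDatum.genSubgroup
  rw [Subgroup.closure_le]
  rintro g ⟨w, hw, hg⟩
  obtain ⟨J, hJ, f, hf, t, ht, rfl⟩ := d4_word_cases φ hφ w hw
  rw [wordMat_eq_wN] at hg
  have hs : SgnF chevD4 f ∧ ∀ j < chevD4.rank, gaPi_D4a (f j) = f (gaRho_D4a j) ∧
      gaEps_D4a (f j) = 1 := by
    simp only [List.mem_cons, List.not_mem_nil, or_false] at hf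
    rcases hf with rfl | rfl
    · exact ⟨sgnF_simple _, hf_simple gaOk_D4a⟩
    · exact ⟨sgnF_neg _, hf_neg (validJ_of_mem hDD4) gaOk_D4a⟩
  exact sg_cls hDD4 gaOk_D4a φ hs.1 hs.2 (clsOk_D4 J hJ) ((iter_len_D4 φ h3 hJ t).mpr ht) hg

/-- the class elements lie in `³D₄` -/
theorem twD4_cls_mem (φ : K →+* K) (hφ : ∀ t, φ t = t ^ q) (h3 : ∀ t : K, φ (φ (φ t)) = t)
    {J : List ℕ} (hJ : J ∈ clsD4) {f : ℕ → ℕ}
    (hf : f ∈ [chevD4.simple, fun j => chevD4.neg (chevD4.simple j)]) {t : K}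
    (ht : φ^[J.length] t = t) {g : GL chevD4.Idx K}
    (hg : (g : Matrix chevD4.Idx chevD4.Idx K) = wN chevD4 K (clsWS f φ J t)) :
    g ∈ twistedD4 K q := by
  apply Subgroup.subset_closure
  exact ⟨_, d4_cls_word φ hφ hJ hf t ((iter_len_D4 φ h3 hJ t).mp ht), by rw [wordMat_eq_wN, hg]⟩

theorem frob3 [Fintype K] (hK : Fintype.card K = q ^ 3) (φ : K →+* K) (hφ : ∀ t, φ t = t ^ q) :
    ∀ t : K, φ (φ (φ t)) = t := by
  intro t
  rw [hφ, hφ, hφ, ← pow_mul, ← pow_mul, ← hK.trans (by ring : q ^ 3 = q * (q * q)),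
    FiniteField.pow_card]

/-- `|U ∩ ³D₄(q)| = q ^ 12` -/
theorem card_pos_twD4 [Fintype K] (hq : IsPrimePow q) (hK : Fintype.card K = q ^ 3) :
    Nat.card ↥(chevD4.posUnipotent K ⊓ twistedD4 K q) = q ^ 12 := by
  obtain ⟨φ, hφ⟩ := exists_frob hq hK
  have h3 := frob3 hK φ hφ
  have hJs : ∀ J ∈ symW0_D4, ClsOk chevD4 gaRho_D4a J := fun J hJ =>
    clsOk_D4 J (symW0_D4_cls J hJ)
  rw [← symW0_D4_length]
  apply card_pos_tw hDD4 twOk_D4a φ hJs symW0_D4_good symW0_D4_full (twD4_le_fix φ hφ h3)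
  · intro J hJ f hf t ht g hg
    exact twD4_cls_mem φ hφ h3 (symW0_D4_cls J hJ) hf ht hg
  · intro J hJ
    have hJ' := symW0_D4_cls J hJ
    simp only [clsD4, List.mem_cons, List.not_mem_nil, or_false] at hJ'
    have h1 : Nat.card {t : K // φ^[1] t = t} = q ^ 1 := by
      simp only [Function.iterate_one, hφ, pow_one]
      exact card_frob_fix hq.one_lt hK
    have h2' : Nat.card {t : K // φ^[3] t = t} = q ^ 3 := by
      have : ∀ t : K, φ^[3] t = t := fun t => h3 t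
      simp only [this]
      rw [Nat.card_eq_fintype_card, Fintype.card_subtype_true, hK]
    rcases hJ' with rfl | rfl
    · exact h1
    · exact h2'

end D4

end Cfsg.Agent.Lib.Helper8.Chev
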