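import Cfsg.Agent.Lib.Helper8.ChevTw14
import Cfsg.Agent.Lib.Helper8.ChevPar3

set_option autoImplicit false

/-! Lengths of words, and symmetric words for symmetric elements of the Weyl group. -/

namespace Cfsg.Agent.Lib.Helper8.Chev

open Cfsg.Lie Matrix Cfsg.Agent.Lib.Helper8.Weyl

section

variable {D : ChevalleyDatum}

/-- the number of positive roots made negative by a word -/
def lenL (D : ChevalleyDatum) (l : List ℕ) : ℕ :=
  (Finset.univ.filter fun r : Fin D.nroots =>
    D.nroots / 2 ≤ r.val ∧ ¬ D.nroots / 2 ≤ reflWord D l r.val).card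

theorem lenL_eq_lenD {l : List ℕ} {w : Equiv.Perm (Fin D.nroots)}
    (e : ∀ r : Fin D.nroots, (w r).val = reflWord D l r.val) : lenD D w = lenL D l := by
  unfold lenD lenL
  congr 1
  ext r
  simp only [Finset.mem_filter, Finset.mem_univ, true_and, e r]

theorem lenL_congr {l l' : List ℕ} (h : ∀ r < D.nroots, reflWord D l r = reflWord D l' r) :
    lenL D l = lenL D l' := by
  unfold lenL
  congr 1
  ext r
  simp only [Finset.mem_filter, Finset.mem_univ, true_and, h r.val r.isLt]

/-- appending a letter changes the length by one -/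
theorem lenL_concat (hD : D ∈ [chevG2, chevB2, chevD4, chevF4, chevE6, chevE7, chevE8])
    {l : List ℕ} (hl : ∀ i ∈ l, i < D.rank) {j : ℕ} (hj : j < D.rank) :
    (D.nroots / 2 ≤ reflWord D l (D.simple j) → lenL D (l ++ [j]) = lenL D l + 1) ∧
      (¬ D.nroots / 2 ≤ reflWord D l (D.simple j) → lenL D (l ++ [j]) + 1 = lenL D l) := by
  have hX := chevWD_ok_mem hD
  obtain ⟨w, hw, e⟩ := exists_perm_of_word hD hl
  have hw' : w ∈ (chevWD D (validJ_of_mem hD) (validH_of_mem hD) (checkInv_of_mem hD)).WJ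
      Set.univ := by
    rw [WData.WJ_univ]; exact hw
  have h := WData.len_mul_s hX w (WData.w_ng hX hw') ⟨j, hj⟩
  have e' : ∀ r : Fin D.nroots,
      ((w * sPerm (validJ_of_mem hD) (validH_of_mem hD) (checkInv_of_mem hD) ⟨j, hj⟩) r).val =
        reflWord D (l ++ [j]) r.val := by
    intro r
    rw [Equiv.Perm.mul_apply, e, sPerm_val, reflWord_append]
    rfl
  have h1 : (chevWD D (validJ_of_mem hD) (validH_of_mem hD) (checkInv_of_mem hD)).len w =
      lenL D l := lenL_eq_lenD e
  have h2 : (chevWD D (validJ_of_mem hD) (validH_of_mem hD) (checkInv_of_mem hD)).len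
      (w * sPerm (validJ_of_mem hD) (validH_of_mem hD) (checkInv_of_mem hD) ⟨j, hj⟩) =
      lenL D (l ++ [j]) := lenL_eq_lenD e'
  have h3 : (chevWD D (validJ_of_mem hD) (validH_of_mem hD) (checkInv_of_mem hD)).pos
      (w ((chevWD D (validJ_of_mem hD) (validH_of_mem hD) (checkInv_of_mem hD)).p ⟨j, hj⟩)) ↔
      D.nroots / 2 ≤ reflWord D l (D.simple j) := by
    have := e ⟨D.simple j, ((validJ_of_mem hD).S j hj).1⟩
    show D.nroots / 2 ≤ (w ⟨D.simple j, _⟩).val ↔ _
    rw [this]
  rw [← h1, ← h2, ← h3]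
  exact h

/-- a word of length zero acts trivially -/
theorem reflWord_of_lenL_zero (hD : D ∈ [chevG2, chevB2, chevD4, chevF4, chevE6, chevE7, chevE8])
    {l : List ℕ} (hl : ∀ i ∈ l, i < D.rank) (h : lenL D l = 0) :
    ∀ r < D.nroots, reflWord D l r = r := by
  have hX := chevWD_ok_mem hD
  obtain ⟨w, hw, e⟩ := exists_perm_of_word hD hl
  have h1 : w = 1 := by
    apply hX.triv w hw
    intro (r : Fin D.nroots) (hr : D.nroots / 2 ≤ r.val)
    show D.nroots / 2 ≤ (w r).val
    rw [e]
    by_contra hn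
    have : r ∈ (Finset.univ.filter fun r : Fin D.nroots =>
        D.nroots / 2 ≤ r.val ∧ ¬ D.nroots / 2 ≤ reflWord D l r.val) :=
      Finset.mem_filter.mpr ⟨Finset.mem_univ _, hr, hn⟩
    unfold lenL at h
    rw [Finset.card_eq_zero] at h
    rw [h] at this
    simp at this
  intro r hr
  have := e ⟨r, hr⟩
  rw [h1] at this
  exact this.symm

/-- a word of positive length makes some fundamental root negative -/
theorem exists_simple_neg (hD : D ∈ [chevG2, chevB2, chevD4, chevF4, chevE6, chevE7, chevE8])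
    {l : List ℕ} (hl : ∀ i ∈ l, i < D.rank) (h : 0 < lenL D l) :
    ∃ k < D.rank, ¬ D.nroots / 2 ≤ reflWord D l (D.simple k) := by
  have hX := chevWD_ok_mem hD
  obtain ⟨w, hw, e⟩ := exists_perm_of_word hD hl
  have hw' : w ∈ (chevWD D (validJ_of_mem hD) (validH_of_mem hD) (checkInv_of_mem hD)).WJ
      Set.univ := by
    rw [WData.WJ_univ]; exact hw
  by_contra hcon
  push Not at hcon
  have hpos := WData.pos_of_inJ hX (J := Set.univ) (WData.lin_of_mem hX hw') (by
    intro (j : Fin D.rank) _
    have := e ⟨D.simple j.val, ((validJ_of_mem hD).S j.val j.isLt).1⟩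
    show D.nroots / 2 ≤ (w ⟨D.simple j.val, _⟩).val
    rw [this]
    exact hcon j.val j.isLt)
  have : lenL D l = 0 := by
    unfold lenL
    rw [Finset.card_eq_zero]
    ext r
    simp only [Finset.mem_filter, Finset.mem_univ, true_and, Finset.notMem_empty, iff_false,
      not_and, not_not]
    intro hr
    have := hpos r hr (fun k hk => absurd (Set.mem_univ k) hk)
    have h2 : D.nroots / 2 ≤ (w r).val := this
    rwa [e] at h2
  omega

end

end Cfsg.Agent.Lib.Helper8.Chev
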