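import Cfsg.Agent.Lib.Helper8.ChevTw15

set_option autoImplicit false

/-! Symmetric elements of the Weyl group have symmetric reduced words. -/

namespace Cfsg.Agent.Lib.Helper8.Chev

open Cfsg.Lie Matrix

/-- the classes of fundamental roots of a twisting -/
structure ClsData (D : ChevalleyDatum) (ρ π : ℕ → ℕ) (cls : List (List ℕ)) : Prop where
  ok : ∀ J ∈ cls, ClsOk D ρ J
  cover : ∀ k < D.rank, ∃ J ∈ cls, k ∈ J
  orb : ∀ J ∈ cls, ∀ k ∈ J, ∀ j ∈ J, ∃ m, ρ^[m] k = j
  inj : ∀ J ∈ cls, ∀ J' ∈ cls, (∀ r < D.nroots, reflWord D J r = reflWord D J' r) → J = J'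
  sub : ∀ J ∈ cls, ∀ I ∈ J.sublists,
    (∀ r < D.nroots, π (reflWord D I r) = reflWord D I (π r)) → I = [] ∨ I = J

section

variable {D : ChevalleyDatum} {F : Type*} [Field F] {ρ ρ' π π' : ℕ → ℕ} {ε : ℕ → ℤ}

/-- `n_J²` lies in the torus -/
theorem nP_cls_sq_mem (hD : D ∈ [chevG2, chevB2, chevD4, chevF4, chevE6, chevE7, chevE8]) :
    ∀ {J : List ℕ}, OrthL D J → nP D F J * nP D F J ∈ D.diagonalSubgroup F := by
  have V1 := valid1_of_mem hD
  have VJ := validJ_of_mem hD
  have H := validH_of_mem hD
  intro J
  induction J with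
  | nil => intro _; rw [nP_nil, mul_one]; exact one_mem _
  | cons j J ih =>
    intro hO
    have hj := hO.lt j List.mem_cons_self
    have hnd := hO.nodup
    rw [List.nodup_cons] at hnd
    have hO' : OrthL D J := ⟨fun i hi => hO.lt i (List.mem_cons_of_mem _ hi), hnd.2,
      fun i hi i' hi' hne => hO.orth i (List.mem_cons_of_mem _ hi) i' (List.mem_cons_of_mem _ hi')
        hne⟩
    have hc := nG_comm_nP (F := F) hD hj J (fun i hi => ⟨hO'.lt i hi,
      hO.orth j List.mem_cons_self i (List.mem_cons_of_mem _ hi) (by rintro rfl; exact hnd.1 hi)⟩)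
    have e : nP D F (j :: J) * nP D F (j :: J) = (nG D F j * nG D F j) * (nP D F J * nP D F J) := by
      rw [nP_cons]
      calc nG D F j * nP D F J * (nG D F j * nP D F J)
          = nG D F j * (nP D F J * nG D F j) * nP D F J := by group
        _ = nG D F j * (nG D F j * nP D F J) * nP D F J := by rw [hc]
        _ = _ := by group
    rw [e]
    exact mul_mem (nG_sq_mem VJ V1 H hj) (ih hO')

/-- the product of the reflections of a class is an involution -/
theorem reflWord_cls_sq (hD : D ∈ [chevG2, chevB2, chevD4, chevF4, chevE6, chevE7, chevE8])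
    {J : List ℕ} (hO : OrthL D J) {r : ℕ} (hr : r < D.nroots) :
    reflWord D J (reflWord D J r) = r := by
  have V := valid0_of_mem hD
  have V1 := valid1_of_mem hD
  have VJ := validJ_of_mem hD
  have H := validH_of_mem hD
  have C := copP_of_mem hD
  have hlt : ∀ i ∈ J ++ J, i < D.rank := by
    intro i hi
    rw [List.mem_append] at hi
    rcases hi with hi | hi <;> exact hO.lt i hi
  have hmem := nP_cls_sq_mem (F := ℚ) hD hO
  rw [← nP_append] at hmem
  have hP1 := (rootPermN_nP (F := ℚ) VJ V1 H.nS (J ++ J) hlt).rootPerm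
  have hP2 := rootPerm_torus V (torusLike_of_mem VJ V1 H hmem)
  have hinv : ((nP D ℚ (J ++ J) : GL D.Idx ℚ) : Matrix D.Idx D.Idx ℚ) *
      (((nP D ℚ (J ++ J))⁻¹ : GL D.Idx ℚ) : Matrix D.Idx D.Idx ℚ) = 1 := by
    rw [← Units.val_mul, mul_inv_cancel, Units.val_one]
  have := rootPerm_unique V C hinv hP1 hP2 hr
  rw [reflWord_append] at this
  exact this

/-- `s_J` maps `p_j` to `-p_j` for `j ∈ J` -/
theorem reflWord_cls_simple (hD : D ∈ [chevG2, chevB2, chevD4, chevF4, chevE6, chevE7, chevE8]) :
    ∀ {J : List ℕ}, OrthL D J → ∀ j ∈ J, reflWord D J (D.simple j) = D.neg (D.simple j) := by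
  have VJ := validJ_of_mem hD
  have H := validH_of_mem hD
  intro J
  induction J with
  | nil => intro _ j hj; simp at hj
  | cons i J ih =>
    intro hO j hj
    have hi := hO.lt i List.mem_cons_self
    have hnd := hO.nodup
    rw [List.nodup_cons] at hnd
    have hO' : OrthL D J := ⟨fun i hi => hO.lt i (List.mem_cons_of_mem _ hi), hnd.2,
      fun i hi i' hi' hne => hO.orth i (List.mem_cons_of_mem _ hi) i' (List.mem_cons_of_mem _ hi')
        hne⟩
    rw [reflWord_cons]
    rw [List.mem_cons] at hj
    rcases hj with rfl | hj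
    · rw [reflWord_orth hD hi (fun i' hi' => ⟨hO'.lt i' hi',
        hO.orth j List.mem_cons_self i' (List.mem_cons_of_mem _ hi')
          (by rintro rfl; exact hnd.1 hi')⟩)]
      exact reflectRoot_simple j
    · have hjlt := hO'.lt j hj
      have hne : i ≠ j := by rintro rfl; exact hnd.1 hj
      rw [ih hO' j hj]
      have h1 : reflWord D [i] (D.neg (D.simple j)) = D.neg (reflWord D [i] (D.simple j)) :=
        reflWord_neg VJ H.nS (by simpa using hi) (VJ.S j hjlt).1
      have h2 : reflWord D [i] (D.simple j) = D.simple j :=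
        reflWord_orth hD hjlt (J := [i]) (by
          intro i' hi'
          rw [List.mem_singleton] at hi'
          subst hi'
          exact ⟨hi, hO.orth j (List.mem_cons_of_mem _ hj) i' List.mem_cons_self (Ne.symm hne)⟩)
      rw [h2] at h1
      exact h1

/-- appending pairwise orthogonal letters which stay positive keeps a word good -/
theorem good_append_orth (hD : D ∈ [chevG2, chevB2, chevD4, chevF4, chevE6, chevE7, chevE8])
    {l : List ℕ} (hg : GoodW D l) : ∀ {J : List ℕ}, OrthL D J →
      (∀ j ∈ J, D.nroots / 2 ≤ reflWord D l (D.simple j)) → GoodW D (l ++ J) := by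
  intro J
  induction J using List.reverseRecOn with
  | nil => intro _ _; rw [List.append_nil]; exact hg
  | append_singleton J k ih =>
    intro hO hpos
    obtain ⟨hO₀, hk, hkn, hok⟩ := hO.of_append
    rw [← List.append_assoc]
    refine GoodW.concat (ih hO₀ (fun j hj => hpos j (by simp [hj]))) hk ?_
    rw [reflWord_append, reflWord_orth hD hk (fun j hj => ⟨hO₀.lt j hj, hok j hj⟩)]
    exact hpos k (by simp)

/-- appending pairwise orthogonal letters which are made negative shortens a word -/
theorem lenL_append_orth (hD : D ∈ [chevG2, chevB2, chevD4, chevF4, chevE6, chevE7, chevE8])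
    {l : List ℕ} (hl : ∀ i ∈ l, i < D.rank) : ∀ {J : List ℕ}, OrthL D J →
      (∀ j ∈ J, ¬ D.nroots / 2 ≤ reflWord D l (D.simple j)) →
      lenL D (l ++ J) + J.length = lenL D l := by
  intro J
  induction J using List.reverseRecOn with
  | nil => intro _ _; rw [List.append_nil]; rfl
  | append_singleton J k ih =>
    intro hO hneg
    obtain ⟨hO₀, hk, hkn, hok⟩ := hO.of_append
    have ih' := ih hO₀ (fun j hj => hneg j (by simp [hj]))
    have hlJ : ∀ i ∈ l ++ J, i < D.rank := by
      intro i hi
      rw [List.mem_append] at hi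
      rcases hi with hi | hi
      · exact hl i hi
      · exact hO₀.lt i hi
    have h1 := (lenL_concat hD hlJ hk).2 (by
      rw [reflWord_append, reflWord_orth hD hk (fun j hj => ⟨hO₀.lt j hj, hok j hj⟩)]
      exact hneg k (by simp))
    rw [← List.append_assoc, List.length_append, List.length_singleton]
    omega


/-- the twisting permutation preserves negative roots -/
theorem TwOk.neg_of_neg (V : Valid0 D) (T : TwOk D ρ ρ' π π' ε) {r : ℕ} (hr : r < D.nroots)
    (h : ¬ D.nroots / 2 ≤ r) : ¬ D.nroots / 2 ≤ π r := fun h1 => h ((pi_neg_iff V T hr).mp h1)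

/-- a symmetric word makes all the roots of a class negative as soon as one of them -/
theorem sym_neg_all (hD : D ∈ [chevG2, chevB2, chevD4, chevF4, chevE6, chevE7, chevE8])
    (T : TwOk D ρ ρ' π π' ε) {cls : List (List ℕ)} (hC : ClsData D ρ π cls) {l : List ℕ}
    (hl : ∀ i ∈ l, i < D.rank)
    (hsym : ∀ r < D.nroots, π (reflWord D l r) = reflWord D l (π r)) {J : List ℕ} (hJ : J ∈ cls)
    {k : ℕ} (hk : k ∈ J) (hneg : ¬ D.nroots / 2 ≤ reflWord D l (D.simple k)) :
    ∀ j ∈ J, ¬ D.nroots / 2 ≤ reflWord D l (D.simple j) := by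
  have V := valid0_of_mem hD
  have VJ := validJ_of_mem hD
  have H := validH_of_mem hD
  have hiter : ∀ m : ℕ, ρ^[m] k < D.rank ∧
      ¬ D.nroots / 2 ≤ reflWord D l (D.simple (ρ^[m] k)) := by
    intro m
    induction m with
    | zero => exact ⟨(hC.ok J hJ).lt k hk, hneg⟩
    | succ m ih =>
      rw [Function.iterate_succ_apply']
      obtain ⟨h1, h2⟩ := ih
      refine ⟨(T.ga.hρ _ h1).1, ?_⟩
      have hp := (VJ.S _ h1).1
      rw [← (T.ga.hsimple _ h1).1, ← hsym _ hp]
      exact T.neg_of_neg V (reflWord_lt VJ H.nS hl hp) h2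
  intro j hj
  obtain ⟨m, rfl⟩ := hC.orb J hJ k hk j hj
  exact (hiter m).2

/-- a symmetric element of the Weyl group has a symmetric good word -/
theorem sym_word (hD : D ∈ [chevG2, chevB2, chevD4, chevF4, chevE6, chevE7, chevE8])
    (T : TwOk D ρ ρ' π π' ε) {cls : List (List ℕ)} (hC : ClsData D ρ π cls) :
    ∀ (n : ℕ) (l : List ℕ), lenL D l = n → (∀ i ∈ l, i < D.rank) →
      (∀ r < D.nroots, π (reflWord D l r) = reflWord D l (π r)) →
      ∃ Js : List (List ℕ), (∀ J ∈ Js, J ∈ cls) ∧ GoodW D Js.flatten ∧
        ∀ r < D.nroots, reflWord D Js.flatten r = reflWord D l r := by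
  have V := valid0_of_mem hD
  have VJ := validJ_of_mem hD
  have H := validH_of_mem hD
  intro n
  induction n using Nat.strong_induction_on with
  | _ n ih =>
    intro l hn hl hsym
    by_cases h0 : n = 0
    · refine ⟨[], by simp, GoodW.nil, fun r hr => ?_⟩
      rw [reflWord_of_lenL_zero hD hl (hn.trans h0) r hr]
      rfl
    · obtain ⟨k, hk, hneg⟩ := exists_simple_neg hD hl (by omega)
      obtain ⟨J, hJ, hkJ⟩ := hC.cover k hk
      have hJok := hC.ok J hJ
      have hO := hJok.orthL
      have hall := sym_neg_all hD T hC hl hsym hJ hkJ hneg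
      have hlen := lenL_append_orth hD hl hO hall
      have hJne : 0 < J.length := List.length_pos_of_mem hkJ
      have hlJ : ∀ i ∈ l ++ J, i < D.rank := by
        intro i hi
        rw [List.mem_append] at hi
        rcases hi with hi | hi
        · exact hl i hi
        · exact hO.lt i hi
      have hsym' : ∀ r < D.nroots, π (reflWord D (l ++ J) r) = reflWord D (l ++ J) (π r) := by
        intro r hr
        rw [reflWord_append, reflWord_append, hsym _ (reflWord_lt VJ H.nS hO.lt hr),
          pi_reflWord VJ H.nS T hO.lt hr, reflWord_cls hD ℚ T.ga hJok (T.ga.hπ r hr).1]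
      obtain ⟨Js, hJs, hg, he⟩ := ih (lenL D (l ++ J)) (by omega) (l ++ J) rfl hlJ hsym'
      refine ⟨Js ++ [J], ?_, ?_, ?_⟩
      · intro J' hJ'
        rw [List.mem_append, List.mem_singleton] at hJ'
        rcases hJ' with hJ' | rfl
        · exact hJs J' hJ'
        · exact hJ
      · rw [List.flatten_append, List.flatten_singleton]
        apply good_append_orth hD hg hO
        intro j hj
        have hp := (VJ.S j (hO.lt j hj)).1
        rw [he _ hp, reflWord_append, reflWord_cls_simple hD hO j hj, reflWord_neg VJ H.nS hl hp,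
          V.neg_eq _ (reflWord_lt VJ H.nS hl hp)]
        have h1 := hall j hj
        have h2 := reflWord_lt VJ H.nS hl hp
        have := V.even
        omega
      · intro r hr
        rw [List.flatten_append, List.flatten_singleton, reflWord_append,
          he _ (reflWord_lt VJ H.nS hO.lt hr), reflWord_append, reflWord_cls_sq hD hO hr]

end

end Cfsg.Agent.Lib.Helper8.Chev
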