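import Cfsg.Agent.Lib.Helper8.ChevTw17

set_option autoImplicit false

/-! Twisted groups: the subgroup generated by the class elements, and its Bruhat decomposition. -/

namespace Cfsg.Agent.Lib.Helper8.Chev

open Cfsg.Lie Matrix

/-- `G1` is the twisted group of the twisting `T`, `φ` with classes `cls` -/
structure TwGrp {D : ChevalleyDatum} {F : Type*} [Field F] {ρ ρ' π π' : ℕ → ℕ} {ε : ℕ → ℤ}
    (T : TwOk D ρ ρ' π π' ε) (φ : F →+* F) (cls : List (List ℕ))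
    (G1 : Subgroup (GL D.Idx F)) : Prop where
  hD : D ∈ [chevG2, chevB2, chevD4, chevF4, chevE6, chevE7, chevE8]
  cd : ClsData D ρ π cls
  le_fix : G1 ≤ fixS T.ga φ
  le_grp : G1 ≤ D.group F
  cls_mem : ∀ J ∈ cls, ∀ f ∈ [D.simple, fun j => D.neg (D.simple j)], ∀ t : F,
    φ^[J.length] t = t → ∀ g : GL D.Idx F,
      (g : Matrix D.Idx D.Idx F) = wN D F (clsWS f φ J t) → g ∈ G1
  w0 : ∃ Js : List (List ℕ), (∀ J ∈ Js, J ∈ cls) ∧ GoodW D Js.flatten ∧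
    ∀ r, D.nroots / 2 ≤ r → r < D.nroots → reflWord D Js.flatten r < D.nroots / 2

namespace TwGrp

variable {D : ChevalleyDatum} {F : Type*} [Field F] {ρ ρ' π π' : ℕ → ℕ} {ε : ℕ → ℤ}
  {T : TwOk D ρ ρ' π π' ε} {φ : F →+* F} {cls : List (List ℕ)} {G1 : Subgroup (GL D.Idx F)}

theorem clsOk (X : TwGrp T φ cls G1) {Js : List (List ℕ)} (hJs : ∀ J ∈ Js, J ∈ cls) :
    ∀ J ∈ Js, ClsOk D ρ J := fun J hJ => X.cd.ok J (hJs J hJ)

theorem unegW_fix_le (X : TwGrp T φ cls G1) {Js : List (List ℕ)} (hJs : ∀ J ∈ Js, J ∈ cls)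
    (hg : GoodW D Js.flatten) : UnegW D F Js.flatten ⊓ fixS T.ga φ ≤ G1 :=
  fix_le X.hD T φ (X.clsOk hJs) hg (fun J hJ => X.cls_mem J (hJs J hJ))

theorem pos_fix_le (X : TwGrp T φ cls G1) : D.posUnipotent F ⊓ fixS T.ga φ ≤ G1 := by
  obtain ⟨Js, hJs, hg, hfull⟩ := X.w0
  rw [← unegW_eq_pos F (posP_of_mem X.hD) hfull]
  exact X.unegW_fix_le hJs hg

theorem nP_cls_mem' (X : TwGrp T φ cls G1) {J : List ℕ} (hJ : J ∈ cls) : nP D F J ∈ G1 :=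
  nP_cls_mem X.hD φ (X.cd.ok J hJ).orthL (X.cls_mem J hJ)

theorem nP_mem (X : TwGrp T φ cls G1) : ∀ {Js : List (List ℕ)}, (∀ J ∈ Js, J ∈ cls) →
    nP D F Js.flatten ∈ G1 := by
  intro Js
  induction Js with
  | nil => intro _; rw [List.flatten_nil, nP_nil]; exact one_mem _
  | cons J Js ih =>
    intro hJs
    rw [List.flatten_cons, nP_append]
    exact mul_mem (X.nP_cls_mem' (hJs J List.mem_cons_self))
      (ih (fun J' hJ' => hJs J' (List.mem_cons_of_mem _ hJ')))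

/-- the Bruhat decomposition of the twisted group -/
theorem bruhat (X : TwGrp T φ cls G1) {g : GL D.Idx F} (hg : g ∈ G1) :
    ∃ Js : List (List ℕ), (∀ J ∈ Js, J ∈ cls) ∧ GoodW D Js.flatten ∧
      ∃ u₁ ∈ D.posUnipotent F ⊓ G1, ∃ h₁ ∈ D.diagonalSubgroup F ⊓ G1,
        ∃ u ∈ UnegW D F Js.flatten ⊓ G1, g = u₁ * h₁ * nP D F Js.flatten * u := by
  obtain ⟨Js, hJs, hgood, u₁, hu₁, h₁, hh₁, u, hu, e⟩ :=
    tw_bruhat X.hD T φ X.cd (X.le_grp hg) (X.le_fix hg)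
  have h1 := X.pos_fix_le hu₁
  have h2 := X.unegW_fix_le hJs hgood hu
  have h3 := X.nP_mem hJs
  have h4 : h₁ ∈ G1 := by
    have : h₁ = u₁⁻¹ * g * u⁻¹ * (nP D F Js.flatten)⁻¹ := by rw [e]; group
    rw [this]
    exact mul_mem (mul_mem (mul_mem (inv_mem h1) hg) (inv_mem h2)) (inv_mem h3)
  exact ⟨Js, hJs, hgood, u₁, Subgroup.mem_inf.mpr ⟨(Subgroup.mem_inf.mp hu₁).1, h1⟩, h₁,
    Subgroup.mem_inf.mpr ⟨(Subgroup.mem_inf.mp hh₁).1, h4⟩, u,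
    Subgroup.mem_inf.mpr ⟨(Subgroup.mem_inf.mp hu).1, h2⟩, e⟩

/-- `B ∩ G¹ = (U ∩ G¹)(H ∩ G¹)` -/
theorem borel_decomp (X : TwGrp T φ cls G1) {b : GL D.Idx F}
    (hb : b ∈ D.borelSubgroup F ⊓ G1) :
    ∃ u₁ ∈ D.posUnipotent F ⊓ G1, ∃ h₁ ∈ D.diagonalSubgroup F ⊓ G1, b = u₁ * h₁ := by
  obtain ⟨hb1, hb2⟩ := Subgroup.mem_inf.mp hb
  obtain ⟨u₁, hu₁, h₁, hh₁, e⟩ := borel_fix_decomp X.hD T φ hb1 (X.le_fix hb2)
  have h1 := X.pos_fix_le hu₁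
  have h4 : h₁ ∈ G1 := by
    have : h₁ = u₁⁻¹ * b := by rw [e]; group
    rw [this]
    exact mul_mem (inv_mem h1) hb2
  exact ⟨u₁, Subgroup.mem_inf.mpr ⟨(Subgroup.mem_inf.mp hu₁).1, h1⟩, h₁,
    Subgroup.mem_inf.mpr ⟨(Subgroup.mem_inf.mp hh₁).1, h4⟩, e⟩

end TwGrp

end Cfsg.Agent.Lib.Helper8.Chev
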