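import Cfsg.Agent.Lib.Helper8.ChevTw1

set_option autoImplicit false

/-! The twisting endomorphism on the torus. -/

namespace Cfsg.Agent.Lib.Helper8.Chev

open Cfsg.Lie Matrix

section

variable {D : ChevalleyDatum} {F : Type*} [Field F] {ρ ρ' π π' : ℕ → ℕ} {ε : ℕ → ℤ}

theorem diagC_mulVec_E {R : Type*} [CommRing R] (f : ℕ → R) {u : ℕ} (hu : u < D.nroots) :
    diagC D f *ᵥ E D R u = f u • E D R u := by
  have := diagC_mulVec_Bv (D := D) f u
  rw [Bv_of_lt hu] at this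
  rw [this]
  unfold extC
  rw [if_pos hu]

theorem diagC_mulVec_Hb {R : Type*} [CommRing R] (f : ℕ → R) (i : ℕ) :
    diagC D f *ᵥ Hb D R i = Hb D R i := by
  have := diagC_mulVec_Bv (D := D) f (D.nroots + i)
  rw [Bv_add] at this
  rw [this]
  unfold extC
  rw [if_neg (by omega), one_smul]

/-- conjugating a diagonal matrix by the signed permutation matrix of a graph automorphism -/
theorem gaM_mul_diagC (h : GAOk D ρ ρ' π π' ε) (f : ℕ → F) :
    gaM D F ρ π ε * diagC D f = diagC D (fun s => f (π' s)) * gaM D F ρ π ε := by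
  apply ext_mulVec
  · intro i hi
    rw [← Matrix.mulVec_mulVec, ← Matrix.mulVec_mulVec, diagC_mulVec_Hb, gaM_mulVec_Hb F ρ π ε hi,
      diagC_mulVec_Hb]
  · intro u hu
    rw [← Matrix.mulVec_mulVec, ← Matrix.mulVec_mulVec, diagC_mulVec_E f hu, Matrix.mulVec_smul,
      gaM_mulVec_E F ρ π ε hu, Matrix.mulVec_smul, diagC_mulVec_E _ (h.hπ u hu).1, (h.hπ u hu).2,
      smul_smul, smul_smul, mul_comm]

/-- the permutation `ρ'` of the fundamental roots on `Fin` -/
def rhoF (h : GAOk D ρ ρ' π π' ε) (i : Fin D.rank) : Fin D.rank := ⟨ρ' i.val, (h.hρ' i.val i.isLt).1⟩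

/-- the permutation `ρ` of the fundamental roots on `Fin` -/
def rhoF' (h : GAOk D ρ ρ' π π' ε) (i : Fin D.rank) : Fin D.rank := ⟨ρ i.val, (h.hρ i.val i.isLt).1⟩

theorem rhoF_rhoF' (h : GAOk D ρ ρ' π π' ε) (i : Fin D.rank) : rhoF h (rhoF' h i) = i :=
  Fin.ext (h.hρ i.val i.isLt).2

theorem rhoF'_rhoF (h : GAOk D ρ ρ' π π' ε) (i : Fin D.rank) : rhoF' h (rhoF h i) = i :=
  Fin.ext (h.hρ' i.val i.isLt).2

/-- `ρ` as a permutation of `Fin rank` -/
def rhoE (h : GAOk D ρ ρ' π π' ε) : Equiv.Perm (Fin D.rank) where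
  toFun := rhoF' h
  invFun := rhoF h
  left_inv := rhoF_rhoF' h
  right_inv := rhoF'_rhoF h

theorem chiT_comp (h : GAOk D ρ ρ' π π' ε) (c : Fin D.rank → Fˣ) {s : ℕ} (hs : s < D.nroots) :
    chiT D c (π' s) = chiT D (fun i => c (rhoF h i)) s := by
  unfold chiT
  have e := Equiv.prod_comp (rhoE h) (fun i : Fin D.rank => c (rhoF h i) ^ D.cartan i.val s)
  rw [← e]
  apply Finset.prod_congr rfl
  intro i _
  have h1 : rhoF h (rhoE h i) = i := rhoF_rhoF' h i
  rw [h1]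
  congr 1
  have h2 := h.hcart i.val i.isLt (π' s) (h.hπ' s hs).1
  rw [(h.hπ' s hs).2] at h2
  exact h2.symm

theorem sg_torMap (h : GAOk D ρ ρ' π π' ε) (φ : F →+* F) (c : Fin D.rank → Fˣ) :
    sg h φ (torMap D F c) =
      torMap D F (fun i => Units.map (φ : F →* F) (c (rhoF h i))) := by
  rw [sg_apply, bc_torMap]
  rw [mul_inv_eq_iff_eq_mul]
  apply Units.ext
  rw [Units.val_mul, Units.val_mul, coe_gaU, torMap_apply, torMap_apply, coe_diagU, coe_diagU,
    gaM_mul_diagC h]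
  congr 1
  apply diagC_congr
  intro s hs
  rw [chiT_comp h _ hs]

theorem sg_mem_diagonal (J : ValidJ D) (V1 : Valid1 D) (H : ValidH D) (h : GAOk D ρ ρ' π π' ε)
    (φ : F →+* F) {g : GL D.Idx F} (hg : g ∈ D.diagonalSubgroup F) :
    sg h φ g ∈ D.diagonalSubgroup F := by
  rw [diagonal_eq_range J V1 H] at hg
  obtain ⟨c, rfl⟩ := hg
  rw [sg_torMap]
  exact torMap_mem J H _

theorem sg_mem_borel (J : ValidJ D) (V1 : Valid1 D) (H : ValidH D) (P : PosP D)
    (T : TwOk D ρ ρ' π π' ε) (φ : F →+* F) {g : GL D.Idx F} (hg : g ∈ D.borelSubgroup F) :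
    sg T.ga φ g ∈ D.borelSubgroup F := by
  have hle : D.borelSubgroup F ≤ (D.borelSubgroup F).comap (sg T.ga φ) := by
    unfold ChevalleyDatum.borelSubgroup
    rw [sup_le_iff]
    constructor
    · intro x hx
      exact Subgroup.mem_sup_left (sg_mem_pos J.V V1 P T φ hx)
    · intro x hx
      exact Subgroup.mem_sup_right (sg_mem_diagonal J V1 H T.ga φ hx)
  exact hle hg

end

end Cfsg.Agent.Lib.Helper8.Chev
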