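import Cfsg.Agent.Lib.Helper8.ChevTw19

set_option autoImplicit false
set_option maxRecDepth 100000

/-! `²E₆(q)` and `³D₄(q)` as twisted groups. -/

namespace Cfsg.Agent.Lib.Helper8.Chev

open Cfsg.Lie Matrix

theorem clsData_E6 : ClsData chevE6 gaRho_E6 gaPi_E6 clsE6 where
  ok := clsOk_E6
  cover := by decide
  orb := by
    have : ∀ J ∈ clsE6, ∀ k ∈ J, ∀ j ∈ J, ∃ m ∈ List.range 2, gaRho_E6^[m] k = j := by decide
    intro J hJ k hk j hj
    obtain ⟨m, _, e⟩ := this J hJ k hk j hj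
    exact ⟨m, e⟩
  inj := by decide +kernel
  sub := by decide +kernel

theorem clsData_D4 : ClsData chevD4 gaRho_D4a gaPi_D4a clsD4 where
  ok := clsOk_D4
  cover := by decide
  orb := by
    have : ∀ J ∈ clsD4, ∀ k ∈ J, ∀ j ∈ J, ∃ m ∈ List.range 3, gaRho_D4a^[m] k = j := by decide
    intro J hJ k hk j hj
    obtain ⟨m, _, e⟩ := this J hJ k hk j hj
    exact ⟨m, e⟩
  inj := by decide +kernel
  sub := by decide +kernel

section

variable {K : Type*} [Field K] {q : ℕ}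

theorem twE6_le_group (φ : K →+* K) (hφ : ∀ t, φ t = t ^ q) :
    twistedE6 K q ≤ chevE6.group K := by
  have V := valid0_of_mem hDE6
  have V1 := valid1_of_mem hDE6
  have VJ := validJ_of_mem hDE6
  unfold twistedE6 ChevalleyDatum.genSubgroup
  rw [Subgroup.closure_le]
  rintro g ⟨w, hw, hg⟩
  obtain ⟨J, hJ, f, hf, t, ht, rfl⟩ := e6_word_cases φ hφ w hw
  rw [wordMat_eq_wN] at hg
  have hs : SgnF chevE6 f := by
    simp only [List.mem_cons, List.not_mem_nil, or_false] at hf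
    rcases hf with rfl | rfl
    · exact sgnF_simple _
    · exact sgnF_neg _
  obtain ⟨g', hg', e⟩ := word_mem_group (F := K) V V1 _
    (clsWS_lt V VJ hs φ (clsOk_E6 J hJ).lt t)
  have : g = g' := Units.ext (by rw [hg, e])
  rw [SetLike.mem_coe, this]
  exact hg'

theorem twGrp_E6 (φ : K →+* K) (hφ : ∀ t, φ t = t ^ q) (h2 : ∀ t : K, φ (φ t) = t) :
    TwGrp twOk_E6 φ clsE6 (twistedE6 K q) where
  hD := hDE6
  cd := clsData_E6
  le_fix := twE6_le_fix φ hφ h2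
  le_grp := twE6_le_group φ hφ
  cls_mem := fun _ hJ _ hf _ ht _ hg => twE6_cls_mem φ hφ h2 hJ hf ht hg
  w0 := ⟨symW0_E6, symW0_E6_cls, symW0_E6_good, symW0_E6_full⟩

theorem twD4_le_group (φ : K →+* K) (hφ : ∀ t, φ t = t ^ q) :
    twistedD4 K q ≤ chevD4.group K := by
  have V := valid0_of_mem hDD4
  have V1 := valid1_of_mem hDD4
  have VJ := validJ_of_mem hDD4
  unfold twistedD4 ChevalleyDatum.genSubgroup
  rw [Subgroup.closure_le]
  rintro g ⟨w, hw, hg⟩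
  obtain ⟨J, hJ, f, hf, t, ht, rfl⟩ := d4_word_cases φ hφ w hw
  rw [wordMat_eq_wN] at hg
  have hs : SgnF chevD4 f := by
    simp only [List.mem_cons, List.not_mem_nil, or_false] at hf
    rcases hf with rfl | rfl
    · exact sgnF_simple _
    · exact sgnF_neg _
  obtain ⟨g', hg', e⟩ := word_mem_group (F := K) V V1 _
    (clsWS_lt V VJ hs φ (clsOk_D4 J hJ).lt t)
  have : g = g' := Units.ext (by rw [hg, e])
  rw [SetLike.mem_coe, this]
  exact hg'

theorem twGrp_D4 (φ : K →+* K) (hφ : ∀ t, φ t = t ^ q) (h3 : ∀ t : K, φ (φ (φ t)) = t) :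
    TwGrp twOk_D4a φ clsD4 (twistedD4 K q) where
  hD := hDD4
  cd := clsData_D4
  le_fix := twD4_le_fix φ hφ h3
  le_grp := twD4_le_group φ hφ
  cls_mem := fun _ hJ _ hf _ ht _ hg => twD4_cls_mem φ hφ h3 hJ hf ht hg
  w0 := ⟨symW0_D4, symW0_D4_cls, symW0_D4_good, symW0_D4_full⟩

/-- the twisted group of type `²E₆` over a field of order `q ^ 2` -/
theorem exists_twGrp_E6 [Fintype K] (hq : IsPrimePow q) (hK : Fintype.card K = q ^ 2) :
    ∃ φ : K →+* K, (∀ t, φ t = t ^ q) ∧ (∀ t : K, φ (φ t) = t) ∧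
      TwGrp twOk_E6 φ clsE6 (twistedE6 K q) := by
  obtain ⟨φ, hφ⟩ := exists_frob hq hK
  have h2 : ∀ t : K, φ (φ t) = t := by
    intro t
    rw [hφ, hφ, ← pow_mul, ← sq, ← hK, FiniteField.pow_card]
  exact ⟨φ, hφ, h2, twGrp_E6 φ hφ h2⟩

/-- the twisted group of type `³D₄` over a field of order `q ^ 3` -/
theorem exists_twGrp_D4 [Fintype K] (hq : IsPrimePow q) (hK : Fintype.card K = q ^ 3) :
    ∃ φ : K →+* K, (∀ t, φ t = t ^ q) ∧ (∀ t : K, φ (φ (φ t)) = t) ∧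
      TwGrp twOk_D4a φ clsD4 (twistedD4 K q) := by
  obtain ⟨φ, hφ⟩ := exists_frob hq hK
  have h3 := frob3 hK φ hφ
  exact ⟨φ, hφ, h3, twGrp_D4 φ hφ h3⟩

end

end Cfsg.Agent.Lib.Helper8.Chev
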