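import Cfsg.Agent.Lib.Helper8.ChevTw21
import Cfsg.Agent.Lib.Helper8.BNCox

set_option autoImplicit false

/-! From a `(B, N)`-pair with known orders of the products of two generators of the Weyl group to
a homomorphism of `N` onto a Coxeter group. -/

namespace Cfsg.Agent.Lib.Helper8.BNCox

open Cfsg.Agent.Lib.Helper3 Cfsg.Agent.Lib.Helper8.Weyl

variable {G : Type*} [Group G] (P : Cfsg.BNPair G)

/-- `B ∩ N` is normal in `N` -/
theorem T_normal : (T P).Normal := by
  constructor
  intro n hn g
  rw [Subgroup.mem_subgroupOf, Subgroup.mem_inf] at hn ⊢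
  have := P.conj_mem g g.2 n ⟨hn.1, n.2⟩
  exact ⟨by simpa using this, (g * n * g⁻¹).2⟩

variable [hN : (T P).Normal]

theorem wp_map {ι : Type*} (idx : ι → P.S) (l : List ι) :
    wp (fun i => sW P (idx i)) l = wp (sW P) (l.map idx) := by
  unfold wp
  rw [List.map_map]
  rfl

/-- the data of the exchange condition, indexed through a map onto the generators -/
theorem exData_idx {ι : Type*} (M : CoxeterMatrix ι) (idx : ι → P.S)
    (hM : ∀ i j, M i j = orderOf (sW P (idx i) * sW P (idx j))) :
    ExData M (fun i => sW P (idx i)) (fun w => ell P w⁻¹) where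
  sq := fun i => (exData P).sq (idx i)
  N_one := (exData P).N_one
  N_right := fun w i => (exData P).N_right w (idx i)
  N_left := fun w i => (exData P).N_left w (idx i)
  exch := by
    intro l i h1 h2
    rw [wp_map] at h1 h2
    obtain ⟨l1, j, l2, e, hc⟩ := (exData P).exch (l.map idx) (idx i)
      (by rw [List.length_map]; exact h1) h2
    rw [List.map_eq_append_iff] at e
    obtain ⟨m1, m2, rfl, rfl, e2⟩ := e
    rw [List.map_eq_cons_iff] at e2
    obtain ⟨k, m3, rfl, rfl, rfl⟩ := e2
    refine ⟨m1, k, m3, rfl, ?_⟩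
    rw [wp_map]
    exact hc
  rel := by
    intro i j
    show (sW P (idx i) * sW P (idx j)) ^ M i j = 1
    rw [hM]
    exact pow_orderOf_eq_one _
  ord := by
    intro i j k _ h
    rw [hM]
    exact orderOf_dvd_of_pow_eq_one h

/-- a homomorphism of `N` onto the Coxeter group with kernel `B ∩ N` -/
theorem exists_hom_of_bn {ι : Type*} (M : CoxeterMatrix ι) (idx : ι → P.S)
    (hsurj : Function.Surjective idx)
    (hM : ∀ i j, M i j = orderOf (sW P (idx i) * sW P (idx j))) :
    ∃ ψ : P.N →* M.Group, Function.Surjective ψ ∧ ψ.ker = T P := by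
  have hgen : Subgroup.closure (Set.range fun i => sW P (idx i)) = ⊤ := by
    have : (Set.range fun i => sW P (idx i)) = Set.range (sW P) := by
      ext w
      constructor
      · rintro ⟨i, rfl⟩; exact ⟨idx i, rfl⟩
      · rintro ⟨s, rfl⟩
        obtain ⟨i, rfl⟩ := hsurj s
        exact ⟨i, rfl⟩
    rw [this]
    exact closure_range_sW P
  let e : M.Group ≃* WG P := (exData_idx P M idx hM).equiv M.toCoxeterSystem hgen
  refine ⟨e.symm.toMonoidHom.comp (QuotientGroup.mk' (T P)), ?_, ?_⟩
  · exact e.symm.surjective.comp (QuotientGroup.mk'_surjective _)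
  · ext n
    rw [MonoidHom.mem_ker, MonoidHom.comp_apply]
    show e.symm (QuotientGroup.mk' (T P) n) = 1 ↔ _
    rw [MulEquiv.map_eq_one_iff, QuotientGroup.mk'_apply, QuotientGroup.eq_one_iff]

end Cfsg.Agent.Lib.Helper8.BNCox
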