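import Cfsg.Agent.Lib.Helper8.ChevTw23
import Cfsg.Agent.Lib.Helper8.ChevCox3

set_option autoImplicit false
set_option maxRecDepth 100000

/-! The Weyl groups of `²E₆(q)` and `³D₄(q)`. -/

namespace Cfsg.Agent.Lib.Helper8.Chev

open Cfsg.Lie Matrix

theorem ClsData.perm {D : ChevalleyDatum} {ρ π : ℕ → ℕ} {cls cls' : List (List ℕ)}
    (h : ClsData D ρ π cls) (hp : ∀ J, J ∈ cls' ↔ J ∈ cls) : ClsData D ρ π cls' where
  ok := fun J hJ => h.ok J ((hp J).mp hJ)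
  cover := fun k hk => by
    obtain ⟨J, hJ, hkJ⟩ := h.cover k hk
    exact ⟨J, (hp J).mpr hJ, hkJ⟩
  orb := fun J hJ => h.orb J ((hp J).mp hJ)
  inj := fun J hJ J' hJ' => h.inj J ((hp J).mp hJ) J' ((hp J').mp hJ')
  sub := fun J hJ => h.sub J ((hp J).mp hJ)

theorem TwGrp.perm {D : ChevalleyDatum} {F : Type*} [Field F] {ρ ρ' π π' : ℕ → ℕ} {ε : ℕ → ℤ}
    {T : TwOk D ρ ρ' π π' ε} {φ : F →+* F} {cls cls' : List (List ℕ)}
    {G1 : Subgroup (GL D.Idx F)} (X : TwGrp T φ cls G1) (hp : ∀ J, J ∈ cls' ↔ J ∈ cls) :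
    TwGrp T φ cls' G1 where
  hD := X.hD
  cd := X.cd.perm hp
  le_fix := X.le_fix
  le_grp := X.le_grp
  cls_mem := fun J hJ => X.cls_mem J ((hp J).mp hJ)
  w0 := by
    obtain ⟨Js, hJs, h1, h2⟩ := X.w0
    exact ⟨Js, fun J hJ => (hp J).mpr (hJs J hJ), h1, h2⟩

/-- the classes of `E₆` in the order of the diagram of `F₄` -/
def clsE6' : List (List ℕ) := [[1], [3], [2, 4], [0, 5]]

theorem clsE6'_perm : ∀ J, J ∈ clsE6' ↔ J ∈ clsE6 := by
  intro J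
  simp only [clsE6', clsE6, List.mem_cons, List.not_mem_nil, or_false]
  tauto

theorem ordW_E6 : ∀ i j : Fin 4, OrdW chevE6 (clsE6'.getD i [] ++ clsE6'.getD j [])
    ((MtF4.getD i.val []).getD j.val 0) := by decide +kernel

theorem ordW_D4 : ∀ i j : Fin 2, OrdW chevD4 (clsD4.getD i [] ++ clsD4.getD j [])
    ((MtG2.getD i.val []).getD j.val 0) := by decide +kernel

section

variable {K : Type*} [Field K] [Fintype K] {q : ℕ}

/-- `N¹ / H¹ ≅ W(F₄)` for `²E₆(q)` -/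
theorem exists_hom_E6 (hq : IsPrimePow q) (hK : Fintype.card K = q ^ 2) :
    ∃ ψ : ↥(chevE6.monomialSubgroup K ⊓ twistedE6 K q) →* (CoxeterMatrix.F₄).Group,
      Function.Surjective ψ ∧ ψ.ker = (chevE6.diagonalSubgroup K ⊓ twistedE6 K q).subgroupOf
        (chevE6.monomialSubgroup K ⊓ twistedE6 K q) := by
  obtain ⟨φ, _, _, X⟩ := exists_twGrp_E6 hq hK
  apply (X.perm clsE6'_perm).exists_hom_cox CoxeterMatrix.F₄ rfl
  intro i j
  rw [hM_F4]
  exact ordW_E6 i j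

/-- `N¹ / H¹ ≅ W(G₂)` for `³D₄(q)` -/
theorem exists_hom_D4 (hq : IsPrimePow q) (hK : Fintype.card K = q ^ 3) :
    ∃ ψ : ↥(chevD4.monomialSubgroup K ⊓ twistedD4 K q) →* (CoxeterMatrix.G₂).Group,
      Function.Surjective ψ ∧ ψ.ker = (chevD4.diagonalSubgroup K ⊓ twistedD4 K q).subgroupOf
        (chevD4.monomialSubgroup K ⊓ twistedD4 K q) := by
  obtain ⟨φ, _, _, X⟩ := exists_twGrp_D4 hq hK
  apply X.exists_hom_cox CoxeterMatrix.G₂ rfl
  intro i j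
  rw [hM_G2]
  exact ordW_D4 i j

end

end Cfsg.Agent.Lib.Helper8.Chev
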