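import Cfsg.Agent.Lib.Helper8.ChevTw21
import Cfsg.Agent.Lib.Helper8.ChevPf2

set_option autoImplicit false

/-! Twisted groups: the elements `n_J(t)`, `h_J(t)` of a class, and the torus of the twisted group. -/

namespace Cfsg.Agent.Lib.Helper8.Chev

open Cfsg.Lie Matrix

/-- `∏ n_{p_j}(φ^k t)` over a class -/
noncomputable def nCls (D : ChevalleyDatum) {F : Type*} [Field F] (φ : F → F) :
    List ℕ → F → Matrix D.Idx D.Idx F
  | [], _ => 1
  | j :: J, t => D.nMat F (D.simple j) t * nCls D φ J (φ t)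

/-- `∏ h_{p_j}(φ^k t)` over a class -/
noncomputable def hCls (D : ChevalleyDatum) {F : Type*} [Field F] (φ : F → F) :
    List ℕ → F → Matrix D.Idx D.Idx F
  | [], _ => 1
  | j :: J, t => D.hMat F (D.simple j) t * hCls D φ J (φ t)

/-- the character of `h_J(t)` -/
def chiCls (D : ChevalleyDatum) {F : Type*} [Field F] (φ : F → F) : List ℕ → F → ℕ → F
  | [], _, _ => 1
  | j :: J, t, s => t ^ aco D (D.simple j) s * chiCls D φ J (φ t) s

section

variable {D : ChevalleyDatum} {F : Type*} [Field F]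

/-- `n_J(t)` is a product of three class elements -/
theorem nCls_eq (hD : D ∈ [chevG2, chevB2, chevD4, chevF4, chevE6, chevE7, chevE8])
    (φ : F →+* F) : ∀ {J : List ℕ}, OrthL D J → ∀ t : F,
      nCls D φ J t =
        wN D F (clsWS D.simple φ J t) *
          wN D F (clsWS (fun j => D.neg (D.simple j)) φ J (-t⁻¹)) *
          wN D F (clsWS D.simple φ J t) := by
  have V1 := valid1_of_mem hD
  have VJ := validJ_of_mem hD
  intro J
  induction J with
  | nil =>
    intro _ t
    simp [nCls, clsWS, wN_nil]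
  | cons j J ih =>
    intro hO t
    have hj := hO.lt j List.mem_cons_self
    have hnd := hO.nodup
    rw [List.nodup_cons] at hnd
    have hO' : OrthL D J := ⟨fun i hi => hO.lt i (List.mem_cons_of_mem _ hi), hnd.2,
      fun i hi i' hi' hne => hO.orth i (List.mem_cons_of_mem _ hi) i' (List.mem_cons_of_mem _ hi')
        hne⟩
    have hw : ∀ (f : ℕ → ℕ), SgnF D f → ∀ (t : F), ∀ p ∈ clsWS f φ J t,
        ∃ j', j' < D.rank ∧ OrthJ D j j' ∧ p.1 ∈ [D.simple j', D.neg (D.simple j')] := by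
      intro f hf t p hp
      obtain ⟨j', hj', e⟩ := clsWS_letters f φ J t p hp
      refine ⟨j', hO'.lt j' hj', hO.orth j List.mem_cons_self j' (List.mem_cons_of_mem _ hj')
        (by rintro rfl; exact hnd.1 hj'), ?_⟩
      rw [e]
      exact hf j'
    rw [nCls, ih hO' (φ t), nMat_eq_wN]
    simp only [clsWS, ChevalleyDatum.nWord, wN_cons, wN_nil, Matrix.mul_one, map_neg, map_inv₀]
    have c1 := fun c => xN_comm_word hD hj (a := D.simple j) (by simp) _
      (hw D.simple (sgnF_simple D) (φ t)) c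
    have c2 := fun c => xN_comm_word hD hj (a := D.simple j) (by simp) _
      (hw _ (sgnF_neg D) (-(φ t)⁻¹)) c
    have c3 := fun c => xN_comm_word hD hj (a := D.neg (D.simple j)) (by simp) _
      (hw D.simple (sgnF_simple D) (φ t)) c
    have := reorder_aux (M := Matrix D.Idx D.Idx F) (c1 t) (c2 t) (c3 (-t⁻¹))
    simp only [Matrix.mul_assoc] at this ⊢
    exact this

/-- root elements of `±p_j` commute with `h_J(s)` when `j` is orthogonal to `J` -/
theorem hCls_comm (hD : D ∈ [chevG2, chevB2, chevD4, chevF4, chevE6, chevE7, chevE8])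
    (φ : F → F) {j : ℕ} (hj : j < D.rank) : ∀ (J : List ℕ), (∀ i ∈ J, i < D.rank ∧ OrthJ D j i) →
      ∀ a ∈ [D.simple j, D.neg (D.simple j)], ∀ s u : F,
        hCls D φ J s * xN D F a u = xN D F a u * hCls D φ J s := by
  intro J
  induction J with
  | nil => intro _ a _ s u; simp [hCls]
  | cons i J ih =>
    intro hJ a ha s u
    obtain ⟨hi, ho⟩ := hJ i List.mem_cons_self
    have h1 := ih (fun k hk => hJ k (List.mem_cons_of_mem _ hk)) a ha (φ s) u
    have h2 : xN D F a u * D.hMat F (D.simple i) s = D.hMat F (D.simple i) s * xN D F a u := by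
      rw [hMat_eq_wN]
      apply xN_comm_word hD hj ha
      intro p hp
      refine ⟨i, hi, ho, ?_⟩
      simp only [ChevalleyDatum.hWord, ChevalleyDatum.nWord, List.mem_append, List.mem_cons,
        List.not_mem_nil, or_false] at hp
      rcases hp with (rfl | rfl | rfl) | (rfl | rfl | rfl) <;> simp
    rw [hCls, Matrix.mul_assoc, h1, ← Matrix.mul_assoc, ← h2, Matrix.mul_assoc]

/-- `n_J(t) = h_J(t) n_J` -/
theorem nCls_eq_hCls (hD : D ∈ [chevG2, chevB2, chevD4, chevF4, chevE6, chevE7, chevE8])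
    (φ : F → F) : ∀ {J : List ℕ}, OrthL D J → ∀ t : F,
      nCls D φ J t = hCls D φ J t * ((nP D F J : GL D.Idx F) : Matrix D.Idx D.Idx F) := by
  have V := valid0_of_mem hD
  have V1 := valid1_of_mem hD
  have VJ := validJ_of_mem hD
  intro J
  induction J with
  | nil =>
    intro _ t
    simp [nCls, hCls, nP_nil]
  | cons j J ih =>
    intro hO t
    have hj := hO.lt j List.mem_cons_self
    have hnd := hO.nodup
    rw [List.nodup_cons] at hnd
    have hO' : OrthL D J := ⟨fun i hi => hO.lt i (List.mem_cons_of_mem _ hi), hnd.2,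
      fun i hi i' hi' hne => hO.orth i (List.mem_cons_of_mem _ hi) i' (List.mem_cons_of_mem _ hi')
        hne⟩
    have hc : hCls D φ J (φ t) * D.nMat F (D.simple j) 1 =
        D.nMat F (D.simple j) 1 * hCls D φ J (φ t) := by
      apply comm_nMat_of_comm
      intro a ha u
      exact hCls_comm hD φ hj J (fun i hi => ⟨hO'.lt i hi,
        hO.orth j List.mem_cons_self i (List.mem_cons_of_mem _ hi)
          (by rintro rfl; exact hnd.1 hi)⟩) a ha (φ t) u
    rw [nCls, hCls, ih hO' (φ t), nP_cons, Units.val_mul, coe_nG VJ V1 hj,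
      nMat_eq_hMat_mul V V1 (VJ.S j hj).1 t]
    calc D.hMat F (D.simple j) t * D.nMat F (D.simple j) 1 *
          (hCls D φ J (φ t) * ((nP D F J : GL D.Idx F) : Matrix D.Idx D.Idx F))
        = D.hMat F (D.simple j) t * (D.nMat F (D.simple j) 1 * hCls D φ J (φ t)) *
            ((nP D F J : GL D.Idx F) : Matrix D.Idx D.Idx F) := by
          simp only [Matrix.mul_assoc]
      _ = _ := by rw [← hc]; simp only [Matrix.mul_assoc]

/-- `h_J(t)` is diagonal -/
theorem hCls_diag (hD : D ∈ [chevG2, chevB2, chevD4, chevF4, chevE6, chevE7, chevE8])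
    (φ : F →+* F) : ∀ (J : List ℕ), (∀ j ∈ J, j < D.rank) → ∀ t : F, t ≠ 0 →
      hCls D φ J t = diagC D (chiCls D φ J t) := by
  have V1 := valid1_of_mem hD
  have VJ := validJ_of_mem hD
  have H := validH_of_mem hD
  intro J
  induction J with
  | nil =>
    intro _ t _
    rw [hCls]
    exact (diagC_one (D := D) (R := F)).symm
  | cons j J ih =>
    intro hJ t ht
    have hj := hJ j List.mem_cons_self
    rw [hCls, ih (fun i hi => hJ i (List.mem_cons_of_mem _ hi)) (φ t)
      ((map_ne_zero φ).mpr ht), hMat_diag VJ V1 H (VJ.S j hj).1 ht, diagC_mul_diagC]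
    rfl

theorem isChar_chiCls (hD : D ∈ [chevG2, chevB2, chevD4, chevF4, chevE6, chevE7, chevE8])
    (φ : F →+* F) : ∀ (J : List ℕ), (∀ j ∈ J, j < D.rank) → ∀ t : F, t ≠ 0 →
      IsChar D (chiCls D φ J t) := by
  have VJ := validJ_of_mem hD
  have H := validH_of_mem hD
  intro J
  induction J with
  | nil =>
    intro _ t _
    exact isChar_one
  | cons j J ih =>
    intro hJ t ht
    have hj := hJ j List.mem_cons_self
    have h1 := isChar_of_isWt VJ.V (isWt_aco VJ.V VJ.T H.hsz H.wt (D.simple j)) (Units.mk0 t ht)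
    have h2 := ih (fun i hi => hJ i (List.mem_cons_of_mem _ hi)) (φ t) ((map_ne_zero φ).mpr ht)
    have := h1.mul h2
    have e : (fun s => ((Units.mk0 t ht ^ aco D (D.simple j) s : Fˣ) : F) *
        chiCls D φ J (φ t) s) = chiCls D φ (j :: J) t := by
      funext s
      rw [Units.val_zpow_eq_zpow_val, Units.val_mk0]
      rfl
    rw [e] at this
    exact this

/-- roots on which all `p_i^∨`, `i ∈ J`, vanish -/
theorem chiCls_off (φ : F → F) : ∀ (J : List ℕ) (t : F) (r : ℕ),
    (∀ i ∈ J, aco D (D.simple i) r = 0) → chiCls D φ J t r = 1 := by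
  intro J
  induction J with
  | nil => intro t r _; rfl
  | cons j J ih =>
    intro t r h
    rw [chiCls, h j List.mem_cons_self, zpow_zero, one_mul,
      ih (φ t) r (fun i hi => h i (List.mem_cons_of_mem _ hi))]

/-- `h_J(t)` acts on the class elements of `J` through `t ^ e` -/
theorem chiCls_map_clsWS (φ : F →+* F) {f : ℕ → ℕ} {e : ℤ} : ∀ (J : List ℕ), J.Nodup →
    (∀ j ∈ J, aco D (D.simple j) (f j) = e) →
    (∀ i ∈ J, ∀ j ∈ J, i ≠ j → aco D (D.simple i) (f j) = 0) → ∀ t s : F,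
      (clsWS f φ J s).map (fun p => (p.1, chiCls D φ J t p.1 * p.2)) =
        clsWS f φ J (t ^ e * s) := by
  intro J
  induction J with
  | nil => intro _ _ _ t s; rfl
  | cons j J ih =>
    intro hnd h1 h0 t s
    rw [List.nodup_cons] at hnd
    have ih' := ih hnd.2 (fun i hi => h1 i (List.mem_cons_of_mem _ hi))
      (fun i hi k hk hne => h0 i (List.mem_cons_of_mem _ hi) k (List.mem_cons_of_mem _ hk) hne)
      (φ t) (φ s)
    show (f j, chiCls D φ (j :: J) t (f j) * s) ::
      (clsWS f φ J (φ s)).map (fun p => (p.1, chiCls D φ (j :: J) t p.1 * p.2)) =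
      (f j, t ^ e * s) :: clsWS f φ J (φ (t ^ e * s))
    have hhead : chiCls D φ (j :: J) t (f j) = t ^ e := by
      rw [chiCls, h1 j List.mem_cons_self, chiCls_off φ J (φ t) (f j) (fun i hi =>
        h0 i (List.mem_cons_of_mem _ hi) j List.mem_cons_self
          (by rintro rfl; exact hnd.1 hi)), mul_one]
    have htail : (clsWS f φ J (φ s)).map (fun p => (p.1, chiCls D φ (j :: J) t p.1 * p.2)) =
        (clsWS f φ J (φ s)).map (fun p => (p.1, chiCls D φ J (φ t) p.1 * p.2)) := by
      apply List.map_congr_left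
      intro p hp
      obtain ⟨i, hi, ep⟩ := clsWS_letters f φ J (φ s) p hp
      have : aco D (D.simple j) p.1 = 0 := by
        rw [ep]
        exact h0 j List.mem_cons_self i (List.mem_cons_of_mem _ hi)
          (by rintro rfl; exact hnd.1 hi)
      show (p.1, chiCls D φ (j :: J) t p.1 * p.2) = _
      rw [chiCls, this, zpow_zero, one_mul]
    rw [hhead, htail, ih', map_mul, map_zpow₀]

/-- class elements multiply by adding the parameters -/
theorem wN_clsWS_add (hD : D ∈ [chevG2, chevB2, chevD4, chevF4, chevE6, chevE7, chevE8])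
    (φ : F →+* F) {f : ℕ → ℕ} (hf : SgnF D f) : ∀ {J : List ℕ}, OrthL D J → ∀ a b : F,
      wN D F (clsWS f φ J (a + b)) = wN D F (clsWS f φ J a) * wN D F (clsWS f φ J b) := by
  have V := valid0_of_mem hD
  have V1 := valid1_of_mem hD
  have VJ := validJ_of_mem hD
  intro J
  induction J with
  | nil => intro _ a b; simp [clsWS, wN_nil]
  | cons j J ih =>
    intro hO a b
    have hj := hO.lt j List.mem_cons_self
    have hnd := hO.nodup
    rw [List.nodup_cons] at hnd
    have hO' : OrthL D J := ⟨fun i hi => hO.lt i (List.mem_cons_of_mem _ hi), hnd.2,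
      fun i hi i' hi' hne => hO.orth i (List.mem_cons_of_mem _ hi) i' (List.mem_cons_of_mem _ hi')
        hne⟩
    have hw : ∀ (t : F), ∀ p ∈ clsWS f φ J t,
        ∃ j', j' < D.rank ∧ OrthJ D j j' ∧ p.1 ∈ [D.simple j', D.neg (D.simple j')] := by
      intro t p hp
      obtain ⟨j', hj', e⟩ := clsWS_letters f φ J t p hp
      refine ⟨j', hO'.lt j' hj', hO.orth j List.mem_cons_self j' (List.mem_cons_of_mem _ hj')
        (by rintro rfl; exact hnd.1 hj'), ?_⟩
      rw [e]
      exact hf j'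
    have hfj := sgnF_lt V VJ hf hj
    simp only [clsWS, wN_cons, map_add]
    rw [ih hO' (φ a) (φ b), ← xN_mul_xN F V V1 hfj a b]
    have c1 := xN_comm_word hD hj (hf j) _ (hw (φ a)) b
    calc xN D F (f j) a * xN D F (f j) b * (wN D F (clsWS f φ J (φ a)) * wN D F (clsWS f φ J (φ b)))
        = xN D F (f j) a * (xN D F (f j) b * wN D F (clsWS f φ J (φ a))) *
            wN D F (clsWS f φ J (φ b)) := by simp only [Matrix.mul_assoc]
      _ = _ := by rw [c1]; simp only [Matrix.mul_assoc]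

end

section

open scoped commutatorElement

theorem conj_mem_commutator {Γ : Type*} [Group Γ] (G : Subgroup Γ) {n g : Γ} (hn : n ∈ G)
    (hg : g ∈ ⁅G, G⁆) : n * g * n⁻¹ ∈ ⁅G, G⁆ := by
  have h1 := Subgroup.map_subtype_commutator G
  rw [← h1] at hg ⊢
  obtain ⟨g', hg', rfl⟩ := hg
  have hN : (commutator ↥G).Normal := inferInstance
  exact ⟨⟨n, hn⟩ * g' * ⟨n, hn⟩⁻¹, hN.conj_mem g' hg' ⟨n, hn⟩, rfl⟩

variable {D : ChevalleyDatum} {F : Type*} [Field F]

/-- transporting a root subgroup (with parameters in `S`) by a representative `n_l` -/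
theorem x_conj_mem (hD : D ∈ [chevG2, chevB2, chevD4, chevF4, chevE6, chevE7, chevE8])
    {Kk : Subgroup (GL D.Idx F)} {l : List ℕ} (hl : ∀ i ∈ l, i < D.rank)
    (hn : ∀ g ∈ Kk, nP D F l * g * (nP D F l)⁻¹ ∈ Kk) {S : Set F} (hS : ∀ t ∈ S, -t ∈ S)
    {r : ℕ} (hr : r < D.nroots)
    (h : ∀ t ∈ S, ∀ g : GL D.Idx F, (g : Matrix D.Idx D.Idx F) = D.x F r t → g ∈ Kk) :
    ∀ t ∈ S, ∀ g : GL D.Idx F, (g : Matrix D.Idx D.Idx F) = D.x F (reflWord D l r) t → g ∈ Kk := by
  have V := valid0_of_mem hD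
  have V1 := valid1_of_mem hD
  have VJ := validJ_of_mem hD
  have H := validH_of_mem hD
  obtain ⟨hlt, _, ε, hε, e1, _⟩ := rootPermN_nP (F := F) VJ V1 H.nS l hl r hr
  intro t ht g hg
  have hεt : ε * t ∈ S := by
    rcases hε with rfl | rfl
    · rw [one_mul]; exact ht
    · rw [neg_one_mul]; exact hS t ht
  have hεε : ε * (ε * t) = t := by
    rcases hε with rfl | rfl <;> simp
  obtain ⟨g₀, hg₀⟩ := exists_unit_x V V1 hr (ε * t)
  have hmem := hn g₀ (h _ hεt g₀ hg₀)
  have e : g = nP D F l * g₀ * (nP D F l)⁻¹ := by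
    rw [eq_mul_inv_iff_mul_eq]
    apply Units.ext
    rw [Units.val_mul, Units.val_mul, hg, hg₀, x_eq_xN, x_eq_xN, e1 (ε * t), hεε]
  rw [e]
  exact hmem

/-- a commutator of two root subgroups (parameters in `S`) with a single term -/
theorem x_mem_comm_tw (hD : D ∈ [chevG2, chevB2, chevD4, chevF4, chevE6, chevE7, chevE8])
    {G1 : Subgroup (GL D.Idx F)} {a b q : ℕ} (ha : a < D.nroots) (hb : b < D.nroots)
    (h1 : b ≠ a) (h2 : b ≠ D.neg a) {c : ℤ} (hL : D.commTerms a b = [(q, c, 1, 1)])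
    (hc : c = 1 ∨ c = -1) {S : Set F} (hS1 : (1 : F) ∈ S) (hSn : ∀ t ∈ S, -t ∈ S)
    (hA : ∀ t ∈ S, ∀ g : GL D.Idx F, (g : Matrix D.Idx D.Idx F) = D.x F a t → g ∈ G1)
    (hB : ∀ t ∈ S, ∀ g : GL D.Idx F, (g : Matrix D.Idx D.Idx F) = D.x F b t → g ∈ G1) :
    ∀ v ∈ S, ∀ g : GL D.Idx F, (g : Matrix D.Idx D.Idx F) = D.x F q v → g ∈ ⁅G1, G1⁆ := by
  have V := valid0_of_mem hD
  have V1 := valid1_of_mem hD
  intro v hv g hg
  have hcc : ((c : ℤ) : F) * ((c : ℤ) : F) = 1 := by
    rcases hc with rfl | rfl <;> simp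
  have hcv : ((c : ℤ) : F) * v ∈ S := by
    rcases hc with rfl | rfl
    · simpa using hv
    · simpa using hSn v hv
  obtain ⟨ga, hga⟩ := exists_unit_x V V1 ha (-(((c : ℤ) : F) * v))
  obtain ⟨gb, hgb⟩ := exists_unit_x V V1 hb (1 : F)
  have hgaG := hA _ (hSn _ hcv) ga hga
  have hgbG := hB _ hS1 gb hgb
  have hcf := comm_formula hD (F := F) ha hb h1 h2 (-(((c : ℤ) : F) * v)) 1
  have hword : D.wordMat F (D.commWord F a b (-(((c : ℤ) : F) * v)) 1) = D.x F q v := by
    rw [wordMat_eq_wN]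
    unfold ChevalleyDatum.commWord
    rw [hL, List.map_cons, List.map_nil, wN_cons, wN_nil, Matrix.mul_one, x_eq_xN]
    congr 1
    simp only [neg_neg, pow_one, mul_one]
    rw [← mul_assoc, hcc, one_mul]
  have hW : (((ga * gb)⁻¹ * (gb * ga) : GL D.Idx F) : Matrix D.Idx D.Idx F) = D.x F q v := by
    rw [Units.val_mul, Units.val_mul gb ga, hgb, hga, hcf, ← hga, ← hgb, ← Units.val_mul,
      ← Matrix.mul_assoc, ← Units.val_mul, inv_mul_cancel, Units.val_one, Matrix.one_mul, hword]
  have e : g = ⁅gb⁻¹, ga⁻¹⁆ := by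
    have : g = (ga * gb)⁻¹ * (gb * ga) := Units.ext (by rw [hg, hW])
    rw [this, commutatorElement_def]; group
  rw [e]
  exact Subgroup.commutator_mem_commutator (inv_mem hgbG) (inv_mem hgaG)

end

end Cfsg.Agent.Lib.Helper8.Chev
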