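import Cfsg.Agent.Lib.Helper8.ChevTw25

set_option autoImplicit false

/-! Twisted groups: the torus elements `h_J(t)` and the derived subgroup. -/

namespace Cfsg.Agent.Lib.Helper8.Chev

open Cfsg.Lie Matrix
open scoped commutatorElement

namespace TwGrp

variable {D : ChevalleyDatum} {F : Type*} [Field F] {ρ ρ' π π' : ℕ → ℕ} {ε : ℕ → ℤ}
  {T : TwOk D ρ ρ' π π' ε} {φ : F →+* F} {cls : List (List ℕ)} {G1 : Subgroup (GL D.Idx F)}

theorem iterate_ringHom (φ : F →+* F) (n : ℕ) (t : F) : φ^[n] t = (φ ^ n) t := by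
  rw [RingHom.coe_pow]

/-- the class elements as elements of the twisted group -/
theorem wG_cls_mem (X : TwGrp T φ cls G1) {J : List ℕ} (hJ : J ∈ cls) {f : ℕ → ℕ}
    (hf : f ∈ [D.simple, fun j => D.neg (D.simple j)]) {t : F} (ht : φ^[J.length] t = t) :
    wG D F (clsWS f φ J t) ∈ G1 ∧
      ((wG D F (clsWS f φ J t) : GL D.Idx F) : Matrix D.Idx D.Idx F) = wN D F (clsWS f φ J t) := by
  have V := valid0_of_mem X.hD
  have V1 := valid1_of_mem X.hD
  have VJ := validJ_of_mem X.hD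
  have hs : SgnF D f := by
    simp only [List.mem_cons, List.not_mem_nil, or_false] at hf
    rcases hf with rfl | rfl
    · exact sgnF_simple _
    · exact sgnF_neg _
  have h1 := coe_wG (F := F) V V1 _ (clsWS_lt V VJ hs φ (X.cd.ok J hJ).lt t)
  exact ⟨X.cls_mem J hJ f hf t ht _ h1, h1⟩

/-- the torus element `h_J(t)` lies in the twisted group -/
theorem hCls_mem (X : TwGrp T φ cls G1) {J : List ℕ} (hJ : J ∈ cls) {t : F} (ht : t ≠ 0)
    (hfix : φ^[J.length] t = t) :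
    ∃ h ∈ G1, (h : Matrix D.Idx D.Idx F) = diagC D (chiCls D φ J t) := by
  have hD := X.hD
  have hO := (X.cd.ok J hJ).orthL
  have hfix' : φ^[J.length] (-t⁻¹) = -t⁻¹ := by
    rw [iterate_ringHom, map_neg, map_inv₀, ← iterate_ringHom, hfix]
  obtain ⟨ha, ea⟩ := X.wG_cls_mem hJ (f := D.simple) (by simp) hfix
  obtain ⟨hb, eb⟩ := X.wG_cls_mem hJ (f := fun j => D.neg (D.simple j)) (by simp) hfix'
  have hn := X.nP_cls_mem' hJ
  refine ⟨wG D F (clsWS D.simple φ J t) * wG D F (clsWS (fun j => D.neg (D.simple j)) φ J (-t⁻¹)) *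
    wG D F (clsWS D.simple φ J t) * (nP D F J)⁻¹,
    mul_mem (mul_mem (mul_mem ha hb) ha) (inv_mem hn), ?_⟩
  rw [Units.val_mul, Units.val_mul, Units.val_mul, ea, eb, ← nCls_eq hD φ hO t,
    nCls_eq_hCls hD φ hO t, Matrix.mul_assoc, ← Units.val_mul, mul_inv_cancel, Units.val_one,
    Matrix.mul_one, hCls_diag hD φ J hO.lt t ht]

/-- class elements on which a torus element `h_J(u)` acts non-trivially are commutators -/
theorem cls_mem_comm (X : TwGrp T φ cls G1) {J : List ℕ} (hJ : J ∈ cls)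
    (hfull : ∀ t : F, φ^[J.length] t = t) {u : F} (hu0 : u ≠ 0) (hu1 : u ^ 2 ≠ 1)
    {f : ℕ → ℕ} (hf : f ∈ [D.simple, fun j => D.neg (D.simple j)]) {e : ℤ}
    (he : e = 2 ∨ e = -2) (h1 : ∀ j ∈ J, aco D (D.simple j) (f j) = e)
    (h0 : ∀ i ∈ J, ∀ j ∈ J, i ≠ j → aco D (D.simple i) (f j) = 0) :
    ∀ (t : F) (g : GL D.Idx F), (g : Matrix D.Idx D.Idx F) = wN D F (clsWS f φ J t) →
      g ∈ ⁅G1, G1⁆ := by
  have hD := X.hD
  have V := valid0_of_mem hD
  have VJ := validJ_of_mem hD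
  have hO := (X.cd.ok J hJ).orthL
  have hs : SgnF D f := by
    simp only [List.mem_cons, List.not_mem_nil, or_false] at hf
    rcases hf with rfl | rfl
    · exact sgnF_simple _
    · exact sgnF_neg _
  intro t g hg
  have hv : u ^ e ≠ 1 := by
    rcases he with rfl | rfl
    · exact_mod_cast hu1
    · rw [_root_.zpow_neg, ne_eq, inv_eq_one]
      exact_mod_cast hu1
  have hv1 : u ^ e - 1 ≠ 0 := sub_ne_zero.mpr hv
  obtain ⟨h, hh, eh⟩ := X.hCls_mem hJ hu0 (hfull u)
  obtain ⟨hc, ec⟩ := X.wG_cls_mem hJ hf (hfull (t / (u ^ e - 1)))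
  set s := t / (u ^ e - 1) with hsdef
  have hχ := isChar_chiCls hD φ J hO.lt u hu0
  have key : g * wG D F (clsWS f φ J s) * h = h * wG D F (clsWS f φ J s) := by
    apply Units.ext
    rw [Units.val_mul, Units.val_mul, Units.val_mul, hg, ec, eh,
      diagC_mul_wN V hχ _ (clsWS_lt V VJ hs φ hO.lt s),
      chiCls_map_clsWS φ J hO.nodup h1 h0 u s, ← wN_clsWS_add hD φ hs hO]
    congr 3
    rw [hsdef]
    field_simp
    ring
  have e : g = ⁅h, wG D F (clsWS f φ J s)⁆ := by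
    rw [commutatorElement_def, ← key]
    group
  rw [e]
  exact Subgroup.commutator_mem_commutator hh hc

end TwGrp

end Cfsg.Agent.Lib.Helper8.Chev
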