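import Cfsg.Agent.Lib.Helper8.ChevTw26

set_option autoImplicit false
set_option maxRecDepth 100000

/-! `²E₆(q)` and `³D₄(q)` are perfect. -/

namespace Cfsg.Agent.Lib.Helper8.Chev

open Cfsg.Lie Matrix
open scoped commutatorElement

theorem exists_sq_ne_one {K : Type*} [Field K] [Fintype K] (h : 4 ≤ Fintype.card K) :
    ∃ u : K, u ≠ 0 ∧ u ^ 2 ≠ 1 := by
  classical
  by_contra hcon
  push Not at hcon
  have hsub : (Finset.univ : Finset K) ⊆ {0, 1, -1} := by
    intro u _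
    by_cases h0 : u = 0
    · simp [h0]
    · have := hcon u h0
      have h1 : (u - 1) * (u + 1) = 0 := by ring_nf; rw [this]; ring
      rcases mul_eq_zero.mp h1 with h | h
      · have : u = 1 := sub_eq_zero.mp h
        simp [this]
      · have : u = -1 := eq_neg_of_add_eq_zero_left h
        simp [this]
  have := Finset.card_le_card hsub
  have h3 : ({0, 1, -1} : Finset K).card ≤ 3 := Finset.card_le_three
  rw [Finset.card_univ] at this
  omega

section

variable {D : ChevalleyDatum} {F : Type*} [Field F]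

theorem wN_cls_single (f : ℕ → ℕ) (φ : F → F) (j : ℕ) (t : F) :
    wN D F (clsWS f φ [j] t) = D.x F (f j) t := by
  simp [clsWS, wN_cons, wN_nil, x_eq_xN]

end

section E6

variable {K : Type*} [Field K] {q : ℕ}

theorem twE6_perfect [Fintype K] (hq : IsPrimePow q) (hK : Fintype.card K = q ^ 2) :
    twistedE6 K q ≤ ⁅twistedE6 K q, twistedE6 K q⁆ := by
  obtain ⟨φ, hφ, h2, X⟩ := exists_twGrp_E6 hq hK
  have hq1 := hq.one_lt
  have hcard : 4 ≤ Fintype.card K := by rw [hK]; nlinarith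
  obtain ⟨u, hu0, hu1⟩ := exists_sq_ne_one hcard
  set G1 := twistedE6 K q with hG1
  -- the fixed field
  let S : Set K := {t | φ t = t}
  have hS1 : (1 : K) ∈ S := map_one φ
  have hSn : ∀ t ∈ S, -t ∈ S := fun t ht => by
    show φ (-t) = -t
    rw [map_neg, ht]
  -- the single classes
  have single : ∀ j, [j] ∈ clsE6 → ∀ f ∈ [chevE6.simple, fun j => chevE6.neg (chevE6.simple j)],
      ∀ t ∈ S, ∀ g : GL chevE6.Idx K, (g : Matrix chevE6.Idx chevE6.Idx K) = chevE6.x K (f j) t →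
        g ∈ G1 := by
    intro j hj f hf t ht g hg
    exact X.cls_mem [j] hj f hf t ht g (by rw [wN_cls_single, hg])
  have hP2 := single 1 (by decide) chevE6.simple (by simp)
  have hP4 := single 3 (by decide) chevE6.simple (by simp)
  have hn1 : ∀ g ∈ ⁅G1, G1⁆, nP chevE6 K [1] * g * (nP chevE6 K [1])⁻¹ ∈ ⁅G1, G1⁆ :=
    fun g hg => conj_mem_commutator G1 (X.nP_cls_mem' (J := [1]) (by decide)) hg
  have hn3 : ∀ g ∈ ⁅G1, G1⁆, nP chevE6 K [3] * g * (nP chevE6 K [3])⁻¹ ∈ ⁅G1, G1⁆ :=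
    fun g hg => conj_mem_commutator G1 (X.nP_cls_mem' (J := [3]) (by decide)) hg
  have x47 := x_mem_comm_tw hDE6 (G1 := G1) (a := 46) (b := 39) (q := 47) (c := -1)
    (by decide) (by decide) (by decide) (by decide) (by decide +kernel) (Or.inr rfl) hS1 hSn hP2 hP4
  have c2 := x_conj_mem hDE6 (Kk := ⁅G1, G1⁆) (l := [3]) (by decide) hn3 hSn (r := 47)
    (by decide) x47
  rw [show reflWord chevE6 [3] 47 = 46 by decide +kernel] at c2
  have c4 := x_conj_mem hDE6 (Kk := ⁅G1, G1⁆) (l := [1]) (by decide) hn1 hSn (r := 47)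
    (by decide) x47
  rw [show reflWord chevE6 [1] 47 = 39 by decide +kernel] at c4
  have m2 := x_conj_mem hDE6 (Kk := ⁅G1, G1⁆) (l := [1]) (by decide) hn1 hSn (r := 46)
    (by decide) c2
  rw [show reflWord chevE6 [1] 46 = 25 by decide +kernel] at m2
  have m4 := x_conj_mem hDE6 (Kk := ⁅G1, G1⁆) (l := [3]) (by decide) hn3 hSn (r := 39)
    (by decide) c4
  rw [show reflWord chevE6 [3] 39 = 32 by decide +kernel] at m4
  -- the classes of two roots
  have hfull : ∀ J ∈ [[0, 5], [2, 4]], ∀ t : K, φ^[(J : List ℕ).length] t = t := by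
    intro J hJ t
    simp only [List.mem_cons, List.not_mem_nil, or_false] at hJ
    rcases hJ with rfl | rfl <;> exact h2 t
  have a1 : ∀ J ∈ [[0, 5], [2, 4]], ∀ j ∈ J, aco chevE6 (chevE6.simple j) (chevE6.simple j) = 2 := by
    decide +kernel
  have a2 : ∀ J ∈ [[0, 5], [2, 4]], ∀ j ∈ J,
      aco chevE6 (chevE6.simple j) (chevE6.neg (chevE6.simple j)) = -2 := by
    decide +kernel
  have a3 : ∀ J ∈ [[0, 5], [2, 4]], ∀ i ∈ J, ∀ j ∈ J, i ≠ j →
      aco chevE6 (chevE6.simple i) (chevE6.simple j) = 0 := by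
    decide +kernel
  have a4 : ∀ J ∈ [[0, 5], [2, 4]], ∀ i ∈ J, ∀ j ∈ J, i ≠ j →
      aco chevE6 (chevE6.simple i) (chevE6.neg (chevE6.simple j)) = 0 := by
    decide +kernel
  have multi : ∀ J ∈ [[0, 5], [2, 4]], ∀ f ∈ [chevE6.simple, fun j => chevE6.neg (chevE6.simple j)],
      ∀ (t : K) (g : GL chevE6.Idx K),
        (g : Matrix chevE6.Idx chevE6.Idx K) = wN chevE6 K (clsWS f φ J t) → g ∈ ⁅G1, G1⁆ := by
    intro J hJ f hf t g hg
    have hJc : J ∈ clsE6 := by
      simp only [List.mem_cons, List.not_mem_nil, or_false] at hJ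
      rcases hJ with rfl | rfl <;> decide
    have hf' := hf
    simp only [List.mem_cons, List.not_mem_nil, or_false] at hf'
    rcases hf' with rfl | rfl
    · exact X.cls_mem_comm hJc (hfull J hJ) hu0 hu1 hf (Or.inl rfl) (a1 J hJ) (a3 J hJ) t g hg
    · exact X.cls_mem_comm hJc (hfull J hJ) hu0 hu1 hf (Or.inr rfl) (a2 J hJ) (a4 J hJ) t g hg
  -- all generators
  conv_lhs => rw [hG1]; unfold twistedE6 ChevalleyDatum.genSubgroup
  rw [Subgroup.closure_le]
  rintro g ⟨w, hw, hg⟩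
  obtain ⟨J, hJ, f, hf, t, ht, rfl⟩ := e6_word_cases φ hφ w hw
  rw [wordMat_eq_wN] at hg
  have hJ' := hJ
  simp only [clsE6, List.mem_cons, List.not_mem_nil, or_false] at hJ'
  have hf' := hf
  simp only [List.mem_cons, List.not_mem_nil, or_false] at hf'
  rcases hJ' with rfl | rfl | rfl | rfl
  · rw [wN_cls_single] at hg
    rcases hf' with rfl | rfl
    · exact c2 t (ht rfl) g hg
    · exact m2 t (ht rfl) g hg
  · rw [wN_cls_single] at hg
    rcases hf' with rfl | rfl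
    · exact c4 t (ht rfl) g hg
    · exact m4 t (ht rfl) g hg
  · exact multi _ (by simp) f hf t g hg
  · exact multi _ (by simp) f hf t g hg

end E6

section D4

variable {K : Type*} [Field K] {q : ℕ}

theorem twD4_perfect [Fintype K] (hq : IsPrimePow q) (hK : Fintype.card K = q ^ 3) :
    twistedD4 K q ≤ ⁅twistedD4 K q, twistedD4 K q⁆ := by
  obtain ⟨φ, hφ, h3, X⟩ := exists_twGrp_D4 hq hK
  have hq1 := hq.one_lt
  have hcard : 4 ≤ Fintype.card K := by
    rw [hK]
    have : 2 ^ 3 ≤ q ^ 3 := Nat.pow_le_pow_left hq1 3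
    omega
  obtain ⟨u, hu0, hu1⟩ := exists_sq_ne_one hcard
  set G1 := twistedD4 K q with hG1
  -- the fixed field
  let S : Set K := {t | φ t = t}
  have hS1 : (1 : K) ∈ S := map_one φ
  have hSn : ∀ t ∈ S, -t ∈ S := fun t ht => by
    show φ (-t) = -t
    rw [map_neg, ht]
  -- the single class
  have hP2 : ∀ t ∈ S, ∀ g : GL chevD4.Idx K,
      (g : Matrix chevD4.Idx chevD4.Idx K) = chevD4.x K 14 t → g ∈ G1 := by
    intro t ht g hg
    exact X.cls_mem [1] (by decide) chevD4.simple (by simp) t ht g (by rw [wN_cls_single, hg]; rfl)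
  have hn1 : ∀ g ∈ ⁅G1, G1⁆, nP chevD4 K [1] * g * (nP chevD4 K [1])⁻¹ ∈ ⁅G1, G1⁆ :=
    fun g hg => conj_mem_commutator G1 (X.nP_cls_mem' (J := [1]) (by decide)) hg
  have hn3 : ∀ g ∈ G1, nP chevD4 K [0, 2, 3] * g * (nP chevD4 K [0, 2, 3])⁻¹ ∈ G1 :=
    fun g hg => mul_mem (mul_mem (X.nP_cls_mem' (J := [0, 2, 3]) (by decide)) hg)
      (inv_mem (X.nP_cls_mem' (J := [0, 2, 3]) (by decide)))
  have hn4 : ∀ g ∈ ⁅G1, G1⁆,
      nP chevD4 K [0, 2, 3, 1] * g * (nP chevD4 K [0, 2, 3, 1])⁻¹ ∈ ⁅G1, G1⁆ := by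
    intro g hg
    have := X.nP_mem (Js := [[0, 2, 3], [1]]) (by decide)
    exact conj_mem_commutator G1 this hg
  have hB := x_conj_mem hDD4 (Kk := G1) (l := [0, 2, 3]) (by decide) hn3 hSn (r := 14)
    (by decide) hP2
  rw [show reflWord chevD4 [0, 2, 3] 14 = 22 by decide +kernel] at hB
  have x23 := x_mem_comm_tw hDD4 (G1 := G1) (a := 14) (b := 22) (q := 23) (c := 1)
    (by decide) (by decide) (by decide) (by decide) (by decide +kernel) (Or.inl rfl) hS1 hSn hP2 hB
  have c2 := x_conj_mem hDD4 (Kk := ⁅G1, G1⁆) (l := [0, 2, 3, 1]) (by decide) hn4 hSn (r := 23)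
    (by decide) x23
  rw [show reflWord chevD4 [0, 2, 3, 1] 23 = 14 by decide +kernel] at c2
  have m2 := x_conj_mem hDD4 (Kk := ⁅G1, G1⁆) (l := [1]) (by decide) hn1 hSn (r := 14)
    (by decide) c2
  rw [show reflWord chevD4 [1] 14 = 9 by decide +kernel] at m2
  -- the class of three roots
  have a1 : ∀ j ∈ [0, 2, 3], aco chevD4 (chevD4.simple j) (chevD4.simple j) = 2 := by
    decide +kernel
  have a2 : ∀ j ∈ [0, 2, 3],
      aco chevD4 (chevD4.simple j) (chevD4.neg (chevD4.simple j)) = -2 := by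
    decide +kernel
  have a3 : ∀ i ∈ [0, 2, 3], ∀ j ∈ [0, 2, 3], i ≠ j →
      aco chevD4 (chevD4.simple i) (chevD4.simple j) = 0 := by
    decide +kernel
  have a4 : ∀ i ∈ [0, 2, 3], ∀ j ∈ [0, 2, 3], i ≠ j →
      aco chevD4 (chevD4.simple i) (chevD4.neg (chevD4.simple j)) = 0 := by
    decide +kernel
  have multi : ∀ f ∈ [chevD4.simple, fun j => chevD4.neg (chevD4.simple j)],
      ∀ (t : K) (g : GL chevD4.Idx K),
        (g : Matrix chevD4.Idx chevD4.Idx K) = wN chevD4 K (clsWS f φ [0, 2, 3] t) →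
          g ∈ ⁅G1, G1⁆ := by
    intro f hf t g hg
    have hJc : [0, 2, 3] ∈ clsD4 := by decide
    have hf' := hf
    simp only [List.mem_cons, List.not_mem_nil, or_false] at hf'
    rcases hf' with rfl | rfl
    · exact X.cls_mem_comm hJc h3 hu0 hu1 hf (Or.inl rfl) a1 a3 t g hg
    · exact X.cls_mem_comm hJc h3 hu0 hu1 hf (Or.inr rfl) a2 a4 t g hg
  -- all generators
  conv_lhs => rw [hG1]; unfold twistedD4 ChevalleyDatum.genSubgroup
  rw [Subgroup.closure_le]
  rintro g ⟨w, hw, hg⟩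
  obtain ⟨J, hJ, f, hf, t, ht, rfl⟩ := d4_word_cases φ hφ w hw
  rw [wordMat_eq_wN] at hg
  have hJ' := hJ
  simp only [clsD4, List.mem_cons, List.not_mem_nil, or_false] at hJ'
  have hf' := hf
  simp only [List.mem_cons, List.not_mem_nil, or_false] at hf'
  rcases hJ' with rfl | rfl
  · rw [wN_cls_single] at hg
    rcases hf' with rfl | rfl
    · exact c2 t (ht rfl) g hg
    · exact m2 t (ht rfl) g hg
  · exact multi f hf t g hg

end D4

end Cfsg.Agent.Lib.Helper8.Chev
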