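import Cfsg.Agent.Lib.Helper8.ChevTw28

set_option autoImplicit false
set_option maxRecDepth 100000

/-! `²E₆(q)` and `³D₄(q)` are simple. -/

namespace Cfsg.Agent.Lib.Helper8.Chev

open Cfsg.Lie Matrix

variable {K : Type*} [Field K] {q : ℕ}

theorem twE6_simple [Fintype K] (hq : IsPrimePow q) (hK : Fintype.card K = q ^ 2) :
    IsSimpleGroup ↥(twistedE6 K q) ∧ ¬ IsMulCommutative ↥(twistedE6 K q) := by
  obtain ⟨φ, hφ, h2, X⟩ := exists_twGrp_E6 hq hK
  apply X.simple (twE6_perfect hq hK) [[1], [3], [2, 4], [0, 5]]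
  · intro J
    simp only [clsE6, List.mem_cons, List.not_mem_nil, or_false]
    tauto
  intro i h
  have hi : i = 0 ∨ i = 1 ∨ i = 2 := by
    simp only [List.length_cons, List.length_nil] at h
    omega
  rcases hi with rfl | rfl | rfl
  · refine ⟨46, by decide, ?_⟩
    show reflWord chevE6 [1] (reflWord chevE6 [3] (reflWord chevE6 [1].reverse
      (reflWord chevE6 [3].reverse 46))) ≠ 46
    decide +kernel
  · refine ⟨39, by decide, ?_⟩
    show reflWord chevE6 [3] (reflWord chevE6 [2, 4] (reflWord chevE6 [3].reverse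
      (reflWord chevE6 [2, 4].reverse 39))) ≠ 39
    decide +kernel
  · refine ⟨42, by decide, ?_⟩
    show reflWord chevE6 [2, 4] (reflWord chevE6 [0, 5] (reflWord chevE6 [2, 4].reverse
      (reflWord chevE6 [0, 5].reverse 42))) ≠ 42
    decide +kernel

theorem twD4_simple [Fintype K] (hq : IsPrimePow q) (hK : Fintype.card K = q ^ 3) :
    IsSimpleGroup ↥(twistedD4 K q) ∧ ¬ IsMulCommutative ↥(twistedD4 K q) := by
  obtain ⟨φ, hφ, h3, X⟩ := exists_twGrp_D4 hq hK
  apply X.simple (twD4_perfect hq hK) [[1], [0, 2, 3]]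
  · intro J
    simp only [clsD4, List.mem_cons, List.not_mem_nil, or_false]
  intro i h
  have hi : i = 0 := by
    simp only [List.length_cons, List.length_nil] at h
    omega
  subst hi
  refine ⟨14, by decide, ?_⟩
  show reflWord chevD4 [1] (reflWord chevD4 [0, 2, 3] (reflWord chevD4 [1].reverse
    (reflWord chevD4 [0, 2, 3].reverse 14))) ≠ 14
  decide +kernel

end Cfsg.Agent.Lib.Helper8.Chev
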