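import Cfsg.Agent.Lib.Helper8.ChevTw29

set_option autoImplicit false

/-! Twisted groups: the torus `H ∩ G¹` through parameters. -/

namespace Cfsg.Agent.Lib.Helper8.Chev

open Cfsg.Lie Matrix

section

variable {D : ChevalleyDatum} {F : Type*} [Field F] {ρ ρ' π π' : ℕ → ℕ} {ε : ℕ → ℤ}

/-- the twisting on parameter tuples -/
def sgT (h : GAOk D ρ ρ' π π' ε) (φ : F →+* F) : (Fin D.rank → Fˣ) →* (Fin D.rank → Fˣ) where
  toFun c := fun i => Units.map (φ : F →* F) (c (rhoF h i))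
  map_one' := by funext i; simp
  map_mul' c c' := by funext i; simp

theorem sgT_apply (h : GAOk D ρ ρ' π π' ε) (φ : F →+* F) (c : Fin D.rank → Fˣ) (i : Fin D.rank) :
    sgT h φ c i = Units.map (φ : F →* F) (c (rhoF h i)) := rfl

theorem sg_torMap' (h : GAOk D ρ ρ' π π' ε) (φ : F →+* F) (c : Fin D.rank → Fˣ) :
    sg h φ (torMap D F c) = torMap D F (sgT h φ c) := sg_torMap h φ c

/-- the fixed parameter tuples -/
def P0 (h : GAOk D ρ ρ' π π' ε) (φ : F →+* F) : Subgroup (Fin D.rank → Fˣ) :=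
  MonoidHom.eqLocus (sgT h φ) (MonoidHom.id _)

theorem mem_P0 (h : GAOk D ρ ρ' π π' ε) (φ : F →+* F) (c : Fin D.rank → Fˣ) :
    c ∈ P0 h φ ↔ sgT h φ c = c := Iff.rfl

theorem sgT_mem_ker (h : GAOk D ρ ρ' π π' ε) (φ : F →+* F) {c : Fin D.rank → Fˣ}
    (hc : c ∈ (torMap D F).ker) : sgT h φ c ∈ (torMap D F).ker := by
  rw [MonoidHom.mem_ker] at hc ⊢
  rw [← sg_torMap', hc, map_one]

/-- if the twisting has no fixed points on the kernel of the parametrisation, every fixed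
element of the torus has a fixed parameter tuple -/
theorem fix_torus_of_trivial [Finite F] (J : ValidJ D) (V1 : Valid1 D) (H : ValidH D)
    (h : GAOk D ρ ρ' π π' ε) (φ : F →+* F)
    (hZ : ∀ z ∈ (torMap D F).ker, sgT h φ z = z → z = 1) {g : GL D.Idx F}
    (hg : g ∈ D.diagonalSubgroup F) (hfix : sg h φ g = g) :
    ∃ c ∈ P0 h φ, torMap D F c = g := by
  rw [diagonal_eq_range J V1 H] at hg
  obtain ⟨c, rfl⟩ := hg
  rw [sg_torMap'] at hfix
  -- the endomorphism `y ↦ σ(y) y⁻¹` of the kernel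
  let ψ : ↥(torMap D F).ker →* ↥(torMap D F).ker :=
    { toFun := fun y => ⟨sgT h φ y.1 * y.1⁻¹, mul_mem (sgT_mem_ker h φ y.2) (inv_mem y.2)⟩
      map_one' := by
        apply Subtype.ext
        simp
      map_mul' := fun y y' => by
        apply Subtype.ext
        show sgT h φ (y.1 * y'.1) * (y.1 * y'.1)⁻¹ =
          sgT h φ y.1 * y.1⁻¹ * (sgT h φ y'.1 * y'.1⁻¹)
        rw [map_mul, mul_inv, mul_mul_mul_comm] }
  have hinj : Function.Injective ψ := by
    rw [injective_iff_map_eq_one]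
    intro y hy
    have h1 : sgT h φ y.1 * y.1⁻¹ = 1 := congrArg Subtype.val hy
    rw [mul_inv_eq_one] at h1
    exact Subtype.ext (hZ y.1 y.2 h1)
  have hsurj : Function.Surjective ψ := Finite.injective_iff_surjective.mp hinj
  have hz : (sgT h φ c * c⁻¹)⁻¹ ∈ (torMap D F).ker := by
    rw [MonoidHom.mem_ker, map_inv, map_mul, map_inv, hfix, mul_inv_cancel, inv_one]
  obtain ⟨y, hy⟩ := hsurj ⟨_, hz⟩
  have hy' : sgT h φ y.1 * y.1⁻¹ = (sgT h φ c * c⁻¹)⁻¹ := congrArg Subtype.val hy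
  refine ⟨c * y.1, ?_, ?_⟩
  · rw [mem_P0, map_mul]
    have e1 : sgT h φ y.1 = (sgT h φ c * c⁻¹)⁻¹ * y.1 := by
      rw [← hy']; group
    rw [e1, _root_.mul_inv_rev, inv_inv, mul_assoc, mul_left_comm, mul_inv_cancel_left]
  · rw [map_mul, MonoidHom.mem_ker.mp y.2, mul_one]

/-- the tuple with `t` at the place `j` -/
def mulSingleN (D : ChevalleyDatum) {F : Type*} [Field F] (j : ℕ) (t : Fˣ) : Fin D.rank → Fˣ :=
  fun i => if i.val = j then t else 1

theorem mulSingleN_eq {j : ℕ} (hj : j < D.rank) (t : Fˣ) :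
    mulSingleN D j t = Pi.mulSingle (⟨j, hj⟩ : Fin D.rank) t := by
  funext i
  unfold mulSingleN
  by_cases hi : i.val = j
  · rw [if_pos hi]
    have : i = ⟨j, hj⟩ := Fin.ext hi
    rw [this, Pi.mulSingle_eq_same]
  · rw [if_neg hi]
    have : i ≠ ⟨j, hj⟩ := fun e => hi (congrArg Fin.val e)
    rw [Pi.mulSingle_eq_of_ne this]

/-- the tuple of a class: `φ^k t` at the `k`-th place of the class -/
def tupCls (D : ChevalleyDatum) {F : Type*} [Field F] (φ : F →+* F) : List ℕ → Fˣ → Fin D.rank → Fˣ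
  | [], _ => 1
  | j :: J, t => mulSingleN D j t * tupCls D φ J (Units.map (φ : F →* F) t)

theorem coe_torMap_tupCls (VJ : ValidJ D) (H : ValidH D) (φ : F →+* F) :
    ∀ (J : List ℕ), (∀ j ∈ J, j < D.rank) → ∀ t : Fˣ,
      ((torMap D F (tupCls D φ J t) : GL D.Idx F) : Matrix D.Idx D.Idx F) =
        hCls D φ J (t : F) := by
  intro J
  induction J with
  | nil =>
    intro _ t
    rw [tupCls, map_one, Units.val_one, hCls]
  | cons j J ih =>
    intro hJ t
    have hj := hJ j List.mem_cons_self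
    rw [tupCls, map_mul, Units.val_mul, ih (fun i hi => hJ i (List.mem_cons_of_mem _ hi)),
      mulSingleN_eq hj, torMap_mulSingle VJ H, hCls]
    rfl

end

namespace TwGrp

variable {D : ChevalleyDatum} {F : Type*} [Field F] {ρ ρ' π π' : ℕ → ℕ} {ε : ℕ → ℤ}
  {T : TwOk D ρ ρ' π π' ε} {φ : F →+* F} {cls : List (List ℕ)} {G1 : Subgroup (GL D.Idx F)}

/-- the torus element of a class lies in the twisted group -/
theorem torMap_tupCls_mem (X : TwGrp T φ cls G1) {J : List ℕ} (hJ : J ∈ cls) (t : Fˣ)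
    (hfix : φ^[J.length] (t : F) = t) : torMap D F (tupCls D φ J t) ∈ G1 := by
  have hD := X.hD
  have VJ := validJ_of_mem hD
  have H := validH_of_mem hD
  have hO := (X.cd.ok J hJ).orthL
  obtain ⟨h, hh, eh⟩ := X.hCls_mem hJ (Units.ne_zero t) hfix
  have : torMap D F (tupCls D φ J t) = h := by
    apply Units.ext
    rw [coe_torMap_tupCls VJ H φ J hO.lt, eh, hCls_diag hD φ J hO.lt _ (Units.ne_zero t)]
  rw [this]
  exact hh

end TwGrp

end Cfsg.Agent.Lib.Helper8.Chev
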