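import Cfsg.Agent.Lib.Helper8.ChevTw3

set_option autoImplicit false

/-! Classes of fundamental roots (orbits of the graph automorphism consisting of pairwise
commuting roots) and their class elements. -/

namespace Cfsg.Agent.Lib.Helper8.Chev

open Cfsg.Lie Matrix

/-- the fundamental roots `p_j`, `p_{j'}` (and their negatives) have commuting root elements -/
def OrthJ (D : ChevalleyDatum) (j j' : ℕ) : Prop :=
  ∀ a ∈ [D.simple j, D.neg (D.simple j)], ∀ b ∈ [D.simple j', D.neg (D.simple j')],
    b ≠ a ∧ b ≠ D.neg a ∧ D.commTerms a b = []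

instance (D : ChevalleyDatum) (j j' : ℕ) : Decidable (OrthJ D j j') := by
  unfold OrthJ; infer_instance

/-- a class: the list `j₀, ρ j₀, ρ² j₀, …` of an orbit of pairwise orthogonal fundamental roots -/
structure ClsOk (D : ChevalleyDatum) (ρ : ℕ → ℕ) (J : List ℕ) : Prop where
  lt : ∀ j ∈ J, j < D.rank
  rot : ∃ j₀ J', J = j₀ :: J' ∧ J.map ρ = J' ++ [j₀]
  nodup : J.Nodup
  orth : ∀ j ∈ J, ∀ j' ∈ J, j ≠ j' → OrthJ D j j'

section

variable {D : ChevalleyDatum} {F : Type*} [Field F]

theorem orth_comm (hD : D ∈ [chevG2, chevB2, chevD4, chevF4, chevE6, chevE7, chevE8])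
    {j j' : ℕ} (hj : j < D.rank) (hj' : j' < D.rank) (h : OrthJ D j j')
    {a b : ℕ} (ha : a ∈ [D.simple j, D.neg (D.simple j)])
    (hb : b ∈ [D.simple j', D.neg (D.simple j')]) (t u : F) :
    xN D F a t * xN D F b u = xN D F b u * xN D F a t := by
  have V := valid0_of_mem hD
  have J := validJ_of_mem hD
  have hpj := (J.S j hj).1
  have hpj' := (J.S j' hj').1
  have halt : a < D.nroots := by
    simp only [List.mem_cons, List.not_mem_nil, or_false] at ha
    rcases ha with rfl | rfl
    · exact hpj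
    · exact V.neg_lt hpj
  have hblt : b < D.nroots := by
    simp only [List.mem_cons, List.not_mem_nil, or_false] at hb
    rcases hb with rfl | rfl
    · exact hpj'
    · exact V.neg_lt hpj'
  obtain ⟨h1, h2, h3⟩ := h a ha b hb
  have := x_commute_of_nil hD halt hblt h1 h2 h3 t u
  rw [x_eq_xN, x_eq_xN] at this
  exact this.symm

/-- a matrix commuting with the three letters of `n_{p_j}(1)` commutes with it -/
theorem comm_nMat_of_comm {j : ℕ} {M : Matrix D.Idx D.Idx F}
    (h : ∀ a ∈ [D.simple j, D.neg (D.simple j)], ∀ u : F, M * xN D F a u = xN D F a u * M) :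
    M * D.nMat F (D.simple j) 1 = D.nMat F (D.simple j) 1 * M := by
  rw [nMat_eq_wN]
  simp only [ChevalleyDatum.nWord, wN_cons, wN_nil, Matrix.mul_one]
  have h1 := h (D.simple j) (by simp)
  have h2 := h (D.neg (D.simple j)) (by simp)
  calc M * (xN D F (D.simple j) 1 * (xN D F (D.neg (D.simple j)) (-(1 : F)⁻¹) * xN D F (D.simple j) 1))
      = (M * xN D F (D.simple j) 1) * xN D F (D.neg (D.simple j)) (-(1 : F)⁻¹) *
          xN D F (D.simple j) 1 := by simp only [Matrix.mul_assoc]
    _ = xN D F (D.simple j) 1 * (M * xN D F (D.neg (D.simple j)) (-(1 : F)⁻¹)) *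
          xN D F (D.simple j) 1 := by rw [h1]; simp only [Matrix.mul_assoc]
    _ = xN D F (D.simple j) 1 * xN D F (D.neg (D.simple j)) (-(1 : F)⁻¹) *
          (M * xN D F (D.simple j) 1) := by rw [h2]; simp only [Matrix.mul_assoc]
    _ = _ := by rw [h1]; simp only [Matrix.mul_assoc]

/-- `n_{j'}` commutes with the root elements of `±p_j` for orthogonal `j`, `j'` -/
theorem nG_comm_x (hD : D ∈ [chevG2, chevB2, chevD4, chevF4, chevE6, chevE7, chevE8])
    {j j' : ℕ} (hj : j < D.rank) (hj' : j' < D.rank) (h : OrthJ D j j')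
    {a : ℕ} (ha : a ∈ [D.simple j, D.neg (D.simple j)]) {t : F} {g : GL D.Idx F}
    (hg : (g : Matrix D.Idx D.Idx F) = D.x F a t) : g * nG D F j' = nG D F j' * g := by
  have V1 := valid1_of_mem hD
  have J := validJ_of_mem hD
  apply Units.ext
  rw [Units.val_mul, Units.val_mul, coe_nG J V1 hj', hg, x_eq_xN]
  apply comm_nMat_of_comm
  intro b hb u
  exact orth_comm hD hj hj' h ha hb t u

/-- `n_j` and `n_{j'}` commute for orthogonal `j`, `j'` -/
theorem nG_comm_nG (hD : D ∈ [chevG2, chevB2, chevD4, chevF4, chevE6, chevE7, chevE8])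
    {j j' : ℕ} (hj : j < D.rank) (hj' : j' < D.rank) (h : OrthJ D j j') :
    nG D F j * nG D F j' = nG D F j' * nG D F j := by
  have V1 := valid1_of_mem hD
  have J := validJ_of_mem hD
  apply Units.ext
  rw [Units.val_mul, Units.val_mul, coe_nG J V1 hj, coe_nG J V1 hj']
  symm
  apply comm_nMat_of_comm
  intro a ha u
  symm
  apply comm_nMat_of_comm
  intro b hb u'
  exact orth_comm hD hj hj' h ha hb u u'

end

end Cfsg.Agent.Lib.Helper8.Chev
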