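import Cfsg.Agent.Lib.Helper8.ChevTw45

set_option autoImplicit false

/-! A checker for systems of representatives of the twisted Weyl group. -/

namespace Cfsg.Agent.Lib.Helper8.Chev

open Cfsg.Lie

universe u

/-- `l.getD k d` through the recursors -/
noncomputable def getF {α : Type u} (l : List α) (d : α) : ℕ → α :=
  @List.rec α (fun _ => ℕ → α) (fun _ => d)
    (fun a _ ih k => @Nat.rec (fun _ => α) a (fun k' _ => ih k') k) l

theorem getF_eq {α : Type u} (l : List α) (d : α) (k : ℕ) : getF l d k = l.getD k d := by
  induction l generalizing k with
  | nil => rfl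
  | cons a l ih =>
    cases k with
    | zero => rfl
    | succ k => exact ih k

/-- pairwise distinct natural numbers, through the recursors -/
noncomputable def pairwiseNeF (l : List ℕ) : Bool :=
  @List.rec ℕ (fun _ => Bool) true (fun a l ih => and (allF (fun b => !Nat.beq a b) l) ih) l

theorem pairwiseNeF_nodup {l : List ℕ} (h : pairwiseNeF l = true) : l.Nodup := by
  induction l with
  | nil => exact List.nodup_nil
  | cons a l ih =>
    have h' : (allF (fun b => !Nat.beq a b) l && pairwiseNeF l) = true := h
    rw [Bool.and_eq_true, allF_eq_true] at h'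
    rw [List.nodup_cons]
    refine ⟨fun ha => ?_, ih h'.2⟩
    have := h'.1 a ha
    simp at this

/-- the entry `r` of a packed table -/
def entP (P r : ℕ) : ℕ := P / 128 ^ r % 128

/-- repacking the first `n` entries of a packed table -/
noncomputable def packF (P : ℕ) (n : ℕ) : ℕ :=
  @Nat.rec (fun _ => ℕ) 0 (fun k ih => ih + entP P k * 128 ^ k) n

theorem packF_congr {P P' : ℕ} {n : ℕ} (h : ∀ r < n, entP P r = entP P' r) :
    packF P n = packF P' n := by
  induction n with
  | zero => rfl
  | succ n ih =>
    show packF P n + entP P n * 128 ^ n = packF P' n + entP P' n * 128 ^ n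
    rw [ih (fun r hr => h r (Nat.lt_succ_of_lt hr)), h n (Nat.lt_succ_self n)]

/-- a certificate for a system of representatives: the words as lists of indices of classes,
the packed permutations of the roots, the parents, the table of right multiplication by the
classes and the packed permutations of the classes -/
structure RepCert where
  codes : List (List ℕ)
  perms : List ℕ
  par : List ℕ
  next : List ℕ
  clsT : List ℕ

noncomputable def checkRoot (n : ℕ) (C : RepCert) : Bool :=
  Nat.blt 0 C.codes.length && decide (getF C.codes [] 0 = []) &&
    withNat (getF C.perms 0 0) fun P => forallLtF (fun r => Nat.beq (entP P r) r) n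

noncomputable def checkEdge (D : ChevalleyDatum) (cls : List (List ℕ)) (C : RepCert) (i : ℕ) :
    Bool :=
  withNat (getF C.par 0 i) fun p =>
  withNat ((getF C.codes [] i).getLastD 0) fun c =>
  Nat.blt p i && Nat.blt c cls.length &&
    decide (getF C.codes [] i = getF C.codes [] p ++ [c]) &&
    withNat (getF C.perms 0 i) fun P => withNat (getF C.perms 0 p) fun Pp =>
    withNat (getF C.clsT 0 c) fun S =>
      allF (fun j => Nat.ble (D.nroots / 2) (entP Pp (D.simple j))) (getF cls [] c) &&
      forallLtF (fun r => Nat.beq (entP P r) (entP Pp (entP S r))) D.nroots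

noncomputable def checkClosed (D : ChevalleyDatum) (cls : List (List ℕ)) (C : RepCert) (i : ℕ) :
    Bool :=
  withNat (getF C.perms 0 i) fun P =>
  forallLtF (fun c => withNat (getF C.next 0 (cls.length * i + c)) fun k =>
    withNat (getF C.perms 0 k) fun Pk => withNat (getF C.clsT 0 c) fun S =>
      Nat.blt k C.codes.length &&
        forallLtF (fun r => Nat.beq (entP Pk r) (entP P (entP S r))) D.nroots) cls.length

noncomputable def checkClsT (D : ChevalleyDatum) (cls : List (List ℕ)) (C : RepCert) : Bool :=
  allIdxF (fun c J => withNat (getF C.clsT 0 c) fun S =>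
    forallLtF (fun r => Nat.beq (entP S r) (reflWord D J r)) D.nroots) cls 0

/-- the checks which do not depend on the nodes -/
noncomputable def checkBase (D : ChevalleyDatum) (cls : List (List ℕ)) (C : RepCert) : Bool :=
  Nat.beq C.perms.length C.codes.length && checkRoot D.nroots C && checkClsT D cls C

/-- the packed permutations are canonical -/
noncomputable def checkCanon (D : ChevalleyDatum) (C : RepCert) : Bool :=
  allF (fun P => Nat.beq (packF P D.nroots) P) C.perms

/-- the checks of the nodes `a ≤ i < a + n` -/
noncomputable def checkRange (D : ChevalleyDatum) (cls : List (List ℕ)) (C : RepCert)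
    (a n : ℕ) : Bool :=
  forallLtF (fun j => (Nat.beq (a + j) 0 || checkEdge D cls C (a + j)) &&
    checkClosed D cls C (a + j)) n

theorem checkRange_spec {D : ChevalleyDatum} {cls : List (List ℕ)} {C : RepCert} {a n : ℕ}
    (h : checkRange D cls C a n = true) {i : ℕ} (h1 : a ≤ i) (h2 : i < a + n) :
    ((Nat.beq i 0 || checkEdge D cls C i) && checkClosed D cls C i) = true := by
  unfold checkRange at h
  rw [forallLtF_eq_true] at h
  have := h (i - a) (by omega)
  rwa [Nat.add_sub_cancel' h1] at this

end Cfsg.Agent.Lib.Helper8.Chev
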