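import Cfsg.Agent.Lib.Helper8.ChevTw46

set_option autoImplicit false

/-! Soundness of the checker for systems of representatives of the twisted Weyl group. -/

namespace Cfsg.Agent.Lib.Helper8.Chev

open Cfsg.Lie

/-- decoding a word of indices of classes -/
def decW (cls : List (List ℕ)) (w : List ℕ) : List (List ℕ) := w.map fun c => cls.getD c []

/-- the representatives of a certificate -/
def certReps (cls : List (List ℕ)) (C : RepCert) : List (List (List ℕ)) :=
  C.codes.map (decW cls)

/-- the specification of the checker -/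
structure CertOk (D : ChevalleyDatum) (cls : List (List ℕ)) (C : RepCert) : Prop where
  len : C.perms.length = C.codes.length
  pos : 0 < C.codes.length
  root : C.codes.getD 0 [] = []
  rootP : ∀ r < D.nroots, entP (C.perms.getD 0 0) r = r
  edge : ∀ i < C.codes.length, i ≠ 0 →
    C.par.getD i 0 < i ∧ (C.codes.getD i []).getLastD 0 < cls.length ∧
    C.codes.getD i [] = C.codes.getD (C.par.getD i 0) [] ++ [(C.codes.getD i []).getLastD 0] ∧
    (∀ j ∈ cls.getD ((C.codes.getD i []).getLastD 0) [],
      D.nroots / 2 ≤ entP (C.perms.getD (C.par.getD i 0) 0) (D.simple j)) ∧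
    ∀ r < D.nroots, entP (C.perms.getD i 0) r =
      entP (C.perms.getD (C.par.getD i 0) 0)
        (entP (C.clsT.getD ((C.codes.getD i []).getLastD 0) 0) r)
  closed : ∀ i < C.codes.length, ∀ c < cls.length,
    C.next.getD (cls.length * i + c) 0 < C.codes.length ∧
    ∀ r < D.nroots, entP (C.perms.getD (C.next.getD (cls.length * i + c) 0) 0) r =
      entP (C.perms.getD i 0) (entP (C.clsT.getD c 0) r)
  canon : ∀ P ∈ C.perms, packF P D.nroots = P
  nodup : C.perms.Nodup
  clsT : ∀ (c : ℕ) (J : List ℕ), cls[c]? = some J →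
    ∀ r < D.nroots, entP (C.clsT.getD c 0) r = reflWord D J r

theorem certOk_of_check {D : ChevalleyDatum} {cls : List (List ℕ)} {C : RepCert}
    (hb : checkBase D cls C = true) (hc : checkCanon D C = true)
    (hd : pairwiseNeF C.perms = true)
    (hn : ∀ i < C.codes.length,
      ((Nat.beq i 0 || checkEdge D cls C i) && checkClosed D cls C i) = true) :
    CertOk D cls C := by
  simp only [checkBase, checkRoot, checkClsT, withNat_eq, getF_eq,
    Bool.and_eq_true, forallLtF_eq_true, allIdxF_eq_true,
    Nat.beq_eq, Nat.blt_eq, decide_eq_true_eq, zero_add] at hb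
  simp only [checkCanon, allF_eq_true, Nat.beq_eq] at hc
  simp only [checkEdge, checkClosed, withNat_eq, getF_eq,
    Bool.and_eq_true, Bool.or_eq_true, forallLtF_eq_true, allF_eq_true,
    Nat.beq_eq, Nat.blt_eq, Nat.ble_eq, decide_eq_true_eq] at hn
  obtain ⟨⟨h1, ⟨⟨h2, h3⟩, h4⟩⟩, h8⟩ := hb
  refine ⟨h1, h2, h3, h4, ?_, ?_, hc, pairwiseNeF_nodup hd, h8⟩
  · intro i hi hi0
    obtain ⟨h9, _⟩ := hn i hi
    rcases h9 with h9 | h9
    · exact absurd h9 hi0
    · obtain ⟨⟨⟨ha, hb⟩, hc⟩, hd, he⟩ := h9
      exact ⟨ha, hb, hc, hd, he⟩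
  · intro i hi c hc
    obtain ⟨_, h9⟩ := hn i hi
    exact h9 c hc

/-- the invariant of a node of a certificate -/
structure NodeInv (D : ChevalleyDatum) (cls : List (List ℕ)) (C : RepCert) (i : ℕ) : Prop where
  sym : ∀ J ∈ decW cls (C.codes.getD i []), J ∈ cls
  good : GoodW D (decW cls (C.codes.getD i [])).flatten
  perm : ∀ r < D.nroots,
    entP (C.perms.getD i 0) r = reflWord D (decW cls (C.codes.getD i [])).flatten r

theorem getD_mem_cls {cls : List (List ℕ)} {c : ℕ} (hc : c < cls.length) :
    cls.getD c [] ∈ cls ∧ cls[c]? = some (cls.getD c []) := by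
  rw [List.getD_eq_getElem _ _ hc]
  exact ⟨List.getElem_mem hc, List.getElem?_eq_getElem hc⟩

theorem nodeInv {D : ChevalleyDatum} (hD : D ∈ [chevG2, chevB2, chevD4, chevF4, chevE6, chevE7, chevE8])
    {cls : List (List ℕ)} (hcls : ∀ J ∈ cls, OrthL D J) {C : RepCert} (h : CertOk D cls C) :
    ∀ i < C.codes.length, NodeInv D cls C i := by
  have VJ := validJ_of_mem hD
  have H := validH_of_mem hD
  intro i
  induction i using Nat.strong_induction_on with
  | _ i ih =>
    intro hi
    by_cases hi0 : i = 0
    · subst hi0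
      refine ⟨?_, ?_, ?_⟩
      · rw [h.root]; intro J hJ; simp [decW] at hJ
      · rw [h.root]; exact GoodW.nil
      · intro r hr
        rw [h.root, h.rootP r hr]
        rfl
    · obtain ⟨hp, hc, hcode, hgood, hperm⟩ := h.edge i hi hi0
      have IH := ih _ hp (lt_trans hp hi)
      obtain ⟨hJ, hJ'⟩ := getD_mem_cls hc
      have hO := hcls _ hJ
      have hdec : decW cls (C.codes.getD i []) =
          decW cls (C.codes.getD (C.par.getD i 0) []) ++
            [cls.getD ((C.codes.getD i []).getLastD 0) []] := by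
        conv_lhs => rw [hcode]
        simp [decW]
      have hflat : (decW cls (C.codes.getD i [])).flatten =
          (decW cls (C.codes.getD (C.par.getD i 0) [])).flatten ++
            cls.getD ((C.codes.getD i []).getLastD 0) [] := by
        rw [hdec, List.flatten_append, List.flatten_singleton]
      refine ⟨?_, ?_, ?_⟩
      · intro J' hJ''
        rw [hdec, List.mem_append, List.mem_singleton] at hJ''
        rcases hJ'' with h1 | rfl
        · exact IH.sym J' h1
        · exact hJ
      · rw [hflat]
        apply good_append_orth hD IH.good hO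
        intro j hj
        rw [← IH.perm _ (VJ.S j (hO.lt j hj)).1]
        exact hgood j hj
      · intro r hr
        rw [hflat, reflWord_append, hperm r hr, h.clsT _ _ hJ' r hr,
          IH.perm _ (reflWord_lt VJ H.nS hO.lt hr)]

theorem mem_certReps {cls : List (List ℕ)} {C : RepCert} {Js : List (List ℕ)} :
    Js ∈ certReps cls C ↔ ∃ i < C.codes.length, Js = decW cls (C.codes.getD i []) := by
  unfold certReps
  rw [List.mem_map]
  constructor
  · rintro ⟨w, hw, rfl⟩
    obtain ⟨i, hi, rfl⟩ := List.mem_iff_getElem.mp hw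
    exact ⟨i, hi, by rw [List.getD_eq_getElem _ _ hi]⟩
  · rintro ⟨i, hi, rfl⟩
    exact ⟨C.codes.getD i [], by rw [List.getD_eq_getElem _ _ hi]; exact List.getElem_mem hi, rfl⟩

theorem cert_idx_inj {D : ChevalleyDatum}
    (hD : D ∈ [chevG2, chevB2, chevD4, chevF4, chevE6, chevE7, chevE8])
    {cls : List (List ℕ)} (hcls : ∀ J ∈ cls, OrthL D J) {C : RepCert} (h : CertOk D cls C)
    {i j : ℕ} (hi : i < C.codes.length) (hj : j < C.codes.length)
    (he : ∀ r < D.nroots, reflWord D (decW cls (C.codes.getD i [])).flatten r =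
      reflWord D (decW cls (C.codes.getD j [])).flatten r) : i = j := by
  have Ii := nodeInv hD hcls h i hi
  have Ij := nodeInv hD hcls h j hj
  have hi' : i < C.perms.length := by rw [h.len]; exact hi
  have hj' : j < C.perms.length := by rw [h.len]; exact hj
  have e1 : packF (C.perms.getD i 0) D.nroots = packF (C.perms.getD j 0) D.nroots :=
    packF_congr (fun r hr => by rw [Ii.perm r hr, Ij.perm r hr, he r hr])
  rw [List.getD_eq_getElem _ _ hi', List.getD_eq_getElem _ _ hj',
    h.canon _ (List.getElem_mem hi'), h.canon _ (List.getElem_mem hj')] at e1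
  exact (h.nodup.getElem_inj_iff).mp e1

/-- a checked certificate gives a system of representatives -/
theorem twReps_of_cert {D : ChevalleyDatum}
    (hD : D ∈ [chevG2, chevB2, chevD4, chevF4, chevE6, chevE7, chevE8])
    {cls : List (List ℕ)} (hcls : ∀ J ∈ cls, OrthL D J) {C : RepCert} (h : CertOk D cls C) :
    TwReps D cls (certReps cls C) := by
  have VJ := validJ_of_mem hD
  have H := validH_of_mem hD
  refine ⟨?_, ?_, ?_, ?_, ?_, ?_⟩
  · intro Js hJs
    obtain ⟨i, hi, rfl⟩ := mem_certReps.mp hJs
    exact (nodeInv hD hcls h i hi).sym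
  · intro Js hJs
    obtain ⟨i, hi, rfl⟩ := mem_certReps.mp hJs
    exact (nodeInv hD hcls h i hi).good
  · refine ⟨decW cls (C.codes.getD 0 []), mem_certReps.mpr ⟨0, h.pos, rfl⟩, ?_⟩
    intro r _
    rw [h.root]
    rfl
  · intro Js hJs J hJ
    obtain ⟨i, hi, rfl⟩ := mem_certReps.mp hJs
    obtain ⟨c, hc, rfl⟩ := List.mem_iff_getElem.mp hJ
    obtain ⟨hk, hkr⟩ := h.closed i hi c hc
    refine ⟨_, mem_certReps.mpr ⟨_, hk, rfl⟩, ?_⟩
    intro r hr
    have hO := hcls _ hJ
    rw [reflWord_append, ← (nodeInv hD hcls h i hi).perm _ (reflWord_lt VJ H.nS hO.lt hr),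
      ← h.clsT c _ (List.getElem?_eq_getElem hc) r hr, ← hkr r hr,
      (nodeInv hD hcls h _ hk).perm r hr]
  · intro Js hJs Js' hJs' he
    obtain ⟨i, hi, rfl⟩ := mem_certReps.mp hJs
    obtain ⟨j, hj, rfl⟩ := mem_certReps.mp hJs'
    rw [cert_idx_inj hD hcls h hi hj he]
  · rw [List.nodup_iff_injective_get]
    intro a b hab
    have ha : a.val < C.codes.length := by
      have := a.isLt
      simpa [certReps] using this
    have hb : b.val < C.codes.length := by
      have := b.isLt
      simpa [certReps] using this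
    have ea : (certReps cls C).get a = decW cls (C.codes.getD a.val []) := by
      rw [List.getD_eq_getElem _ _ ha, List.get_eq_getElem]
      exact List.getElem_map _
    have eb : (certReps cls C).get b = decW cls (C.codes.getD b.val []) := by
      rw [List.getD_eq_getElem _ _ hb, List.get_eq_getElem]
      exact List.getElem_map _
    apply Fin.ext
    apply cert_idx_inj hD hcls h ha hb
    intro r _
    rw [← ea, ← eb, hab]

end Cfsg.Agent.Lib.Helper8.Chev
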