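import Cfsg.Agent.Lib.Helper8.ChevTw47

set_option autoImplicit false
set_option maxRecDepth 1000000

/-! The certificate for the twisted Weyl group of `²E₆`: the nodes from 432. -/

namespace Cfsg.Agent.Lib.Helper8.Chev

open Cfsg.Lie

theorem certE6_range3 : checkRange chevE6 clsE6 certE6 432 144 = true := by decide +kernel

end Cfsg.Agent.Lib.Helper8.Chev
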