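import Cfsg.Agent.Lib.Helper8.ChevTw49a
import Cfsg.Agent.Lib.Helper8.ChevTw49b
import Cfsg.Agent.Lib.Helper8.ChevTw49c
import Cfsg.Agent.Lib.Helper8.ChevTw49d
import Cfsg.Agent.Lib.Helper8.ChevTw49e
import Cfsg.Agent.Lib.Helper8.ChevTw49f
import Cfsg.Agent.Lib.Helper8.ChevTw49g
import Cfsg.Agent.Lib.Helper8.ChevTw49h
import Cfsg.Agent.Lib.Helper8.ChevTw49i
import Cfsg.Agent.Lib.Helper8.ChevTw49j
import Cfsg.Agent.Lib.Helper8.ChevTw48

set_option autoImplicit false

/-! The certificate for the twisted Weyl group of `²E₆` is correct. -/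

namespace Cfsg.Agent.Lib.Helper8.Chev

open Cfsg.Lie

theorem certE6_nodes : ∀ i < certE6.codes.length,
    ((Nat.beq i 0 || checkEdge chevE6 clsE6 certE6 i) && checkClosed chevE6 clsE6 certE6 i) =
      true := by
  intro i hi
  rw [certE6_length] at hi
  by_cases h1 : i < 144
  · exact checkRange_spec certE6_range0 (Nat.zero_le _) (by omega)
  by_cases h2 : i < 288
  · exact checkRange_spec certE6_range1 (by omega) (by omega)
  by_cases h3 : i < 432
  · exact checkRange_spec certE6_range2 (by omega) (by omega)
  by_cases h4 : i < 576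
  · exact checkRange_spec certE6_range3 (by omega) (by omega)
  by_cases h5 : i < 720
  · exact checkRange_spec certE6_range4 (by omega) (by omega)
  by_cases h6 : i < 864
  · exact checkRange_spec certE6_range5 (by omega) (by omega)
  by_cases h7 : i < 1008
  · exact checkRange_spec certE6_range6 (by omega) (by omega)
  · exact checkRange_spec certE6_range7 (by omega) (by omega)

/-- the representatives of the twisted Weyl group of `²E₆` -/
def repsE6 : List (List (List ℕ)) := certReps clsE6 certE6

theorem twReps_E6 : TwReps chevE6 clsE6 repsE6 :=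
  twReps_of_cert hDE6 (fun J hJ => (clsOk_E6 J hJ).orthL)
    (certOk_of_check certE6_base certE6_canon certE6_distinct certE6_nodes)

end Cfsg.Agent.Lib.Helper8.Chev
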