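import Cfsg.Agent.Lib.Helper8.ChevTw47

set_option autoImplicit false
set_option maxRecDepth 1000000

/-! The certificate for the twisted Weyl group of `²E₆`: the checks which do not depend on the nodes. -/

namespace Cfsg.Agent.Lib.Helper8.Chev

open Cfsg.Lie

theorem certE6_base : checkBase chevE6 clsE6 certE6 = true := by decide +kernel

theorem certE6_canon : checkCanon chevE6 certE6 = true := by decide +kernel

theorem certE6_length : certE6.codes.length = 1152 := by decide +kernel

end Cfsg.Agent.Lib.Helper8.Chev
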