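import Cfsg.Agent.Lib.Helper8.ChevTw49

set_option autoImplicit false
set_option maxRecDepth 1000000

/-! The order of `²E₆(q)`. -/

namespace Cfsg.Agent.Lib.Helper8.Chev

open Cfsg.Lie

/-- the lengths of the representatives -/
def lensE6 : List ℕ := repsE6.map fun Js => Js.flatten.length

/-- the coefficients of the Poincaré polynomial -/
def coefE6 : List ℕ := [1, 2, 4, 6, 9, 13, 17, 22, 26, 32, 37, 43, 47, 51, 55, 58, 61, 61, 62, 61,
  61, 58, 55, 51, 47, 43, 37, 32, 26, 22, 17, 13, 9, 6, 4, 2, 1]

theorem lensE6_lt : ∀ x ∈ lensE6, x < 37 := by decide +kernel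

theorem lensE6_count : ∀ k < 37, lensE6.count k = coefE6.getD k 0 := by decide +kernel

theorem sum_pow_count (q m : ℕ) : ∀ (L : List ℕ), (∀ x ∈ L, x < m) →
    (L.map (q ^ ·)).sum = ∑ k ∈ Finset.range m, L.count k * q ^ k := by
  intro L
  induction L with
  | nil => intro _; simp
  | cons x L ih =>
    intro hL
    have hx : x < m := hL x List.mem_cons_self
    rw [List.map_cons, List.sum_cons, ih (fun y hy => hL y (List.mem_cons_of_mem _ hy))]
    have : ∀ k ∈ Finset.range m, (x :: L).count k * q ^ k =
        L.count k * q ^ k + if x = k then q ^ k else 0 := by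
      intro k _
      rw [List.count_cons]
      by_cases hxk : x = k
      · subst hxk; simp [add_mul]
      · simp [hxk]
    rw [Finset.sum_congr rfl this, Finset.sum_add_distrib, Finset.sum_ite_eq,
      if_pos (Finset.mem_range.mpr hx), add_comm]

/-- the Poincaré polynomial of the twisted Weyl group of `²E₆` -/
theorem poincare_E6 (q : ℕ) :
    (repsE6.map fun Js => q ^ Js.flatten.length).sum =
      ∑ k ∈ Finset.range 37, coefE6.getD k 0 * q ^ k := by
  have : (repsE6.map fun Js => q ^ Js.flatten.length) = lensE6.map (q ^ ·) := by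
    unfold lensE6
    rw [List.map_map]
    rfl
  rw [this, sum_pow_count q 37 lensE6 lensE6_lt]
  apply Finset.sum_congr rfl
  intro k hk
  rw [lensE6_count k (Finset.mem_range.mp hk)]

end Cfsg.Agent.Lib.Helper8.Chev
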