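import Cfsg.Agent.Lib.Helper8.ChevTw5

set_option autoImplicit false

/-! The product `n_J` of a class, and the decomposition of `U_{w s_J}⁻` along a class. -/

namespace Cfsg.Agent.Lib.Helper8.Chev

open Cfsg.Lie Matrix

section

variable {D : ChevalleyDatum} {F : Type*} [Field F] {ρ ρ' π π' : ℕ → ℕ} {ε : ℕ → ℤ}

/-- `n_{j₀}` commutes with `n_{J'}` when `j₀` is orthogonal to `J'` -/
theorem nG_comm_nP (hD : D ∈ [chevG2, chevB2, chevD4, chevF4, chevE6, chevE7, chevE8])
    {j₀ : ℕ} (hj₀ : j₀ < D.rank) (J' : List ℕ)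
    (hJ' : ∀ j ∈ J', j < D.rank ∧ OrthJ D j₀ j) :
    nG D F j₀ * nP D F J' = nP D F J' * nG D F j₀ := by
  induction J' with
  | nil => rw [nP_nil, mul_one, one_mul]
  | cons i J' ih =>
    obtain ⟨hi, ho⟩ := hJ' i List.mem_cons_self
    rw [nP_cons, ← mul_assoc, nG_comm_nG hD hj₀ hi ho, mul_assoc,
      ih (fun j hj => hJ' j (List.mem_cons_of_mem _ hj)), mul_assoc]

theorem cls_head_orth {J : List ℕ} (hJ : ClsOk D ρ J) {j₀ : ℕ} {J' : List ℕ} (e : J = j₀ :: J') :
    j₀ < D.rank ∧ ∀ j ∈ J', j < D.rank ∧ OrthJ D j₀ j := by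
  have hj₀ : j₀ ∈ J := by rw [e]; exact List.mem_cons_self
  refine ⟨hJ.lt j₀ hj₀, fun j hj => ?_⟩
  have hjJ : j ∈ J := by rw [e]; exact List.mem_cons_of_mem _ hj
  have hne : j₀ ≠ j := by
    have := hJ.nodup
    rw [e, List.nodup_cons] at this
    rintro rfl
    exact this.1 hj
  exact ⟨hJ.lt j hjJ, hJ.orth j₀ hj₀ j hjJ hne⟩

/-- `n_J` is fixed by the twisting endomorphism -/
theorem sg_nP_cls (hD : D ∈ [chevG2, chevB2, chevD4, chevF4, chevE6, chevE7, chevE8])
    (h : GAOk D ρ ρ' π π' ε) (φ : F →+* F) {J : List ℕ} (hJ : ClsOk D ρ J) :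
    sg h φ (nP D F J) = nP D F J := by
  have V1 := valid1_of_mem hD
  have VJ := validJ_of_mem hD
  obtain ⟨j₀, J', e, hmap⟩ := hJ.rot
  obtain ⟨hj₀, hJ'⟩ := cls_head_orth hJ e
  rw [sg_nP VJ V1 h φ hJ.lt, hmap, nP_append, nP_cons, nP_nil, mul_one, e, nP_cons,
    nG_comm_nP hD hj₀ J' hJ']

/-- the reflections of `J.map ρ` and of `J` have the same product -/
theorem reflWord_cls (hD : D ∈ [chevG2, chevB2, chevD4, chevF4, chevE6, chevE7, chevE8])
    (F : Type*) [Field F]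
    (h : GAOk D ρ ρ' π π' ε) {J : List ℕ} (hJ : ClsOk D ρ J) {r : ℕ} (hr : r < D.nroots) :
    reflWord D (J.map ρ) r = reflWord D J r := by
  have V := valid0_of_mem hD
  have V1 := valid1_of_mem hD
  have VJ := validJ_of_mem hD
  have H := validH_of_mem hD
  have C := copP_of_mem hD
  have hlt : ∀ i ∈ J.map ρ, i < D.rank := by
    intro i hi
    rw [List.mem_map] at hi
    obtain ⟨j, hj, rfl⟩ := hi
    exact (h.hρ j (hJ.lt j hj)).1
  have e : nP D F (J.map ρ) = nP D F J := by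
    have := sg_nP_cls (F := F) hD h (RingHom.id F) hJ
    rw [sg_nP VJ V1 h _ hJ.lt] at this
    exact this
  have h1 := (rootPermN_nP (F := F) VJ V1 H.nS _ hlt).rootPerm
  have h2 := (rootPermN_nP (F := F) VJ V1 H.nS _ hJ.lt).rootPerm
  rw [e] at h1
  exact rootPerm_unique V C (M := ((nP D F J : GL D.Idx F) : Matrix D.Idx D.Idx F))
    (Mi := (((nP D F J)⁻¹ : GL D.Idx F) : Matrix D.Idx D.Idx F))
    (by rw [← Units.val_mul, mul_inv_cancel, Units.val_one]) h1 h2 hr

/-- conjugation by `n_k⁻¹` maps `U_w⁻` into `U_{w s_k}⁻` when `w(p_k) > 0` -/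
theorem conj_unegW_le (hD : D ∈ [chevG2, chevB2, chevD4, chevF4, chevE6, chevE7, chevE8])
    {l0 : List ℕ} (hl0 : ∀ i ∈ l0, i < D.rank) {k : ℕ} (hk : k < D.rank)
    (hpos : D.nroots / 2 ≤ reflWord D l0 (D.simple k)) :
    (UnegW D F l0).map (MulAut.conj (nG D F k)⁻¹).toMonoidHom ≤ UnegW D F (l0 ++ [k]) := by
  have V1 := valid1_of_mem hD
  have J := validJ_of_mem hD
  have H := validH_of_mem hD
  have hI := checkInv_of_mem hD
  have hRP := checkRP_of_mem hD
  unfold UnegW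
  rw [MonoidHom.map_closure, Subgroup.closure_le]
  rintro _ ⟨y, ⟨r, t', hr1, hr2, hr3, hy⟩, rfl⟩
  obtain ⟨ε, he⟩ := rootPerm_conj (rootPerm_nG_inv J V1 H hI hk) hr2 t' y hy
  have hne : r ≠ D.simple k := by
    rintro rfl
    omega
  apply Subgroup.subset_closure
  refine ⟨D.reflectRoot k r, ε * t', (refl_pos J hRP hk).2 r hr2 hr1 hne,
    ((nS_props J H.nS hk).2.2 r hr2).1, ?_, he⟩
  rw [reflWord_append]
  have h2 : reflWord D [k] (D.reflectRoot k r) = D.reflectRoot k (D.reflectRoot k r) := rfl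
  rw [h2, refl_invol J hI hk hr2]
  exact hr3

theorem GoodW.of_concat {l : List ℕ} {k : ℕ} (h : GoodW D (l ++ [k])) :
    GoodW D l ∧ k < D.rank ∧ D.nroots / 2 ≤ reflWord D l (D.simple k) := by
  generalize e : l ++ [k] = m at h
  cases h with
  | nil => simp at e
  | @concat l' k' h1 h2 h3 =>
    have := List.append_inj' e (by simp)
    obtain ⟨rfl, e2⟩ := this
    simp only [List.cons.injEq, and_true] at e2
    subst e2
    exact ⟨h1, h2, h3⟩

theorem GoodW.of_append {l : List ℕ} : ∀ {J : List ℕ}, GoodW D (l ++ J) → GoodW D l := by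
  intro J
  induction J using List.reverseRecOn with
  | nil => intro h; simpa using h
  | append_singleton J k ih =>
    intro h
    rw [← List.append_assoc] at h
    exact ih h.of_concat.1

/-- conjugation by `n_J⁻¹` maps `U_w⁻` into `U_{w s_J}⁻` when `l ++ J` is good -/
theorem conj_unegW_le_cls (hD : D ∈ [chevG2, chevB2, chevD4, chevF4, chevE6, chevE7, chevE8])
    {l : List ℕ} : ∀ {J : List ℕ}, GoodW D (l ++ J) → ∀ v ∈ UnegW D F l,
      (nP D F J)⁻¹ * v * nP D F J ∈ UnegW D F (l ++ J) := by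
  intro J
  induction J using List.reverseRecOn with
  | nil =>
    intro _ v hv
    rw [nP_nil, inv_one, one_mul, mul_one, List.append_nil]
    exact hv
  | append_singleton J k ih =>
    intro hg v hv
    rw [← List.append_assoc] at hg ⊢
    obtain ⟨hg1, hk, hpos⟩ := hg.of_concat
    have h1 := ih hg1 v hv
    have h2 := conj_unegW_le (F := F) hD hg1.lt hk hpos ⟨_, h1, rfl⟩
    have e : (MulAut.conj (nG D F k)⁻¹).toMonoidHom ((nP D F J)⁻¹ * v * nP D F J) =
        (nP D F (J ++ [k]))⁻¹ * v * nP D F (J ++ [k]) := by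
      rw [nP_append, nP_cons, nP_nil, mul_one]
      show (nG D F k)⁻¹ * ((nP D F J)⁻¹ * v * nP D F J) * (nG D F k)⁻¹⁻¹ = _
      group
    rw [e] at h2
    exact h2

end

end Cfsg.Agent.Lib.Helper8.Chev
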