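import Cfsg.Agent.Lib.Helper8.ChevTw6

set_option autoImplicit false

/-! The decomposition of `U_{w s_J}⁻` along a class `J`, and coordinates on `X_J`. -/

namespace Cfsg.Agent.Lib.Helper8.Chev

open Cfsg.Lie Matrix

section

variable {D : ChevalleyDatum} {F : Type*} [Field F] {ρ ρ' π π' : ℕ → ℕ} {ε : ℕ → ℤ}

/-- pairwise orthogonal fundamental roots -/
structure OrthL (D : ChevalleyDatum) (J : List ℕ) : Prop where
  lt : ∀ j ∈ J, j < D.rank
  nodup : J.Nodup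
  orth : ∀ j ∈ J, ∀ j' ∈ J, j ≠ j' → OrthJ D j j'

theorem ClsOk.orthL {J : List ℕ} (h : ClsOk D ρ J) : OrthL D J := ⟨h.lt, h.nodup, h.orth⟩

theorem OrthL.of_append {J₀ : List ℕ} {k : ℕ} (h : OrthL D (J₀ ++ [k])) :
    OrthL D J₀ ∧ k < D.rank ∧ k ∉ J₀ ∧ ∀ j ∈ J₀, OrthJ D k j := by
  have hnd := h.nodup
  rw [List.nodup_append] at hnd
  have hk : k ∈ J₀ ++ [k] := by simp
  have hkn : k ∉ J₀ := fun hk' => hnd.2.2 k hk' k (by simp) rfl
  refine ⟨⟨fun j hj => h.lt j (by simp [hj]), hnd.1,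
    fun j hj j' hj' hne => h.orth j (by simp [hj]) j' (by simp [hj']) hne⟩, h.lt k hk, hkn, ?_⟩
  intro j hj
  exact h.orth k hk j (by simp [hj]) (by rintro rfl; exact hkn hj)

theorem xwS_append {f : ℕ → ℕ} (J₀ : List ℕ) (k : ℕ) (τ : ℕ → F) :
    xwS f (J₀ ++ [k]) τ = xwS f J₀ τ ++ [(f k, τ k)] := by
  simp [xwS]

theorem xwS_update {f : ℕ → ℕ} {J₀ : List ℕ} {k : ℕ} (hk : k ∉ J₀) (τ : ℕ → F) (t : F) :
    xwS f J₀ (Function.update τ k t) = xwS f J₀ τ := by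
  unfold xwS
  apply List.map_congr_left
  intro j hj
  have : j ≠ k := by rintro rfl; exact hk hj
  rw [Function.update_of_ne this]

theorem xwS_letters {f : ℕ → ℕ} (J : List ℕ) (τ : ℕ → F) :
    ∀ p ∈ xwS f J τ, ∃ j ∈ J, p.1 = f j := by
  intro p hp
  unfold xwS at hp
  rw [List.mem_map] at hp
  obtain ⟨j, hj, rfl⟩ := hp
  exact ⟨j, hj, rfl⟩

/-- the word of pairwise orthogonal roots commutes with `n_k` for `k` orthogonal to all of them -/
theorem word_comm_nG (hD : D ∈ [chevG2, chevB2, chevD4, chevF4, chevE6, chevE7, chevE8])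
    {k : ℕ} (hk : k < D.rank) {J₀ : List ℕ} (hJ₀ : ∀ j ∈ J₀, j < D.rank ∧ OrthJ D k j)
    {f : ℕ → ℕ} (hf : SgnF D f) (τ : ℕ → F) {gx : GL D.Idx F}
    (hgx : (gx : Matrix D.Idx D.Idx F) = wN D F (xwS f J₀ τ)) :
    gx * nG D F k = nG D F k * gx := by
  have V1 := valid1_of_mem hD
  have VJ := validJ_of_mem hD
  apply Units.ext
  rw [Units.val_mul, Units.val_mul, coe_nG VJ V1 hk, hgx]
  apply comm_nMat_of_comm
  intro a ha u
  symm
  apply xN_comm_word hD hk ha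
  intro p hp
  obtain ⟨j, hj, e⟩ := xwS_letters J₀ τ p hp
  refine ⟨j, (hJ₀ j hj).1, (hJ₀ j hj).2, ?_⟩
  rw [e]
  exact hf j

/-- `U_{w s_J}⁻ = n_J⁻¹ U_w⁻ n_J · X_J` -/
theorem unegW_cls_decomp (hD : D ∈ [chevG2, chevB2, chevD4, chevF4, chevE6, chevE7, chevE8])
    {l : List ℕ} : ∀ {J : List ℕ}, OrthL D J → GoodW D (l ++ J) → ∀ u ∈ UnegW D F (l ++ J),
      ∃ v ∈ UnegW D F l, ∃ (τ : ℕ → F) (gx : GL D.Idx F),
        (gx : Matrix D.Idx D.Idx F) = wN D F (xwS D.simple J τ) ∧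
        u = (nP D F J)⁻¹ * v * nP D F J * gx := by
  intro J
  induction J using List.reverseRecOn with
  | nil =>
    intro _ _ u hu
    rw [List.append_nil] at hu
    refine ⟨u, hu, fun _ => 0, 1, ?_, ?_⟩
    · rw [Units.val_one]; rfl
    · rw [nP_nil]; group
  | append_singleton J₀ k ih =>
    intro hO hg u hu
    obtain ⟨hO₀, hk, hkn, hok⟩ := hO.of_append
    rw [← List.append_assoc] at hg hu
    obtain ⟨hg1, _, hpos⟩ := hg.of_concat
    obtain ⟨v₁, hv₁, g, t, hgm, e1⟩ := unegW_concat_decomp hD hg1 hk hpos hu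
    obtain ⟨v, hv, τ, gx₀, hgx₀, e2⟩ := ih hO₀ hg1 v₁ hv₁
    have hcomm := word_comm_nG hD hk (fun j hj => ⟨hO₀.lt j hj, hok j hj⟩) (sgnF_simple D) τ hgx₀
    refine ⟨v, hv, Function.update τ k t, gx₀ * g, ?_, ?_⟩
    · rw [Units.val_mul, hgx₀, hgm, xwS_append, wN_append, xwS_update hkn, wN_cons, wN_nil,
        Matrix.mul_one, Function.update_self, x_eq_xN]
    · rw [e1, e2, nP_append, nP_cons, nP_nil, mul_one]
      calc (nG D F k)⁻¹ * ((nP D F J₀)⁻¹ * v * nP D F J₀ * gx₀) * nG D F k * g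
          = (nG D F k)⁻¹ * (nP D F J₀)⁻¹ * v * nP D F J₀ * (gx₀ * nG D F k) * g := by group
        _ = (nG D F k)⁻¹ * (nP D F J₀)⁻¹ * v * nP D F J₀ * (nG D F k * gx₀) * g := by rw [hcomm]
        _ = (nP D F J₀ * nG D F k)⁻¹ * v * (nP D F J₀ * nG D F k) * (gx₀ * g) := by group

end

end Cfsg.Agent.Lib.Helper8.Chev
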