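import Cfsg.Agent.Lib.Helper8.ChevTw7

set_option autoImplicit false

/-! Coordinates on `X_J`, and the fixed points of the twisting endomorphism on `X_J`. -/

namespace Cfsg.Agent.Lib.Helper8.Chev

open Cfsg.Lie Matrix

section

variable {D : ChevalleyDatum} {F : Type*} [Field F] {ρ ρ' π π' : ℕ → ℕ} {ε : ℕ → ℤ}

/-- words in positive roots other than `p_j` give elements of `U_j` -/
theorem word_mem_genPar (hD : D ∈ [chevG2, chevB2, chevD4, chevF4, chevE6, chevE7, chevE8])
    (j : ℕ) (w : List (ℕ × F)) (hw : ∀ p ∈ w, D.IsPosRoot p.1 ∧ p.1 ≠ D.simple j) :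
    ∃ g ∈ Subgroup.closure (genPar D F j), (g : Matrix D.Idx D.Idx F) = wN D F w :=
  word_mem_closure (valid0_of_mem hD) (valid1_of_mem hD) (S := genPar D F j)
    (Q := fun s => D.IsPosRoot s ∧ s ≠ D.simple j) (fun s h => h.1.1)
    (fun s t g hQ hg => ⟨s, t, hQ.1, hQ.2, hg⟩) w hw

/-- the first letter lemma: `x_{p_j}(a) y = x_{p_j}(a') y'` with `y, y' ∈ U_j` forces `a = a'` -/
theorem first_letter (hD : D ∈ [chevG2, chevB2, chevD4, chevF4, chevE6, chevE7, chevE8])
    {j : ℕ} (hj : j < D.rank) {a a' : F} {y y' : GL D.Idx F}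
    (hy : y ∈ Subgroup.closure (genPar D F j)) (hy' : y' ∈ Subgroup.closure (genPar D F j))
    (e : xN D F (D.simple j) a * (y : Matrix D.Idx D.Idx F) =
      xN D F (D.simple j) a' * (y' : Matrix D.Idx D.Idx F)) : a = a' ∧ y = y' := by
  have V := valid0_of_mem hD
  have V1 := valid1_of_mem hD
  have J := validJ_of_mem hD
  have H := validH_of_mem hD
  have P := posP_of_mem hD
  have C := copP_of_mem hD
  have hp := (J.S j hj).1
  obtain ⟨gc, hgc⟩ := exists_unit_x V V1 hp (a - a')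
  obtain ⟨ga, hga⟩ := exists_unit_x V V1 hp a
  obtain ⟨ga', hga'⟩ := exists_unit_x V V1 hp a'
  have e1 : ga * y = ga' * y' := by
    apply Units.ext
    rw [Units.val_mul, Units.val_mul, hga, hga', x_eq_xN, x_eq_xN]
    exact e
  have e2 : gc = ga'⁻¹ * ga := by
    apply Units.ext
    rw [Units.val_mul, x_inv V V1 hp a' ga' hga', hga, hgc, x_eq_xN, x_eq_xN, x_eq_xN,
      xN_mul_xN F V V1 hp]
    congr 1
    ring
  have e3 : gc = y' * y⁻¹ := by
    rw [e2]
    have : ga'⁻¹ * ga = ga'⁻¹ * (ga * y) * y⁻¹ := by group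
    rw [this, e1]
    group
  -- conjugate by `n_j`
  have h1 : nG D F j * gc * (nG D F j)⁻¹ ∈ D.negUnipotent F := by
    obtain ⟨ε', he⟩ := rootPerm_conj (rootPerm_nG J V1 H hj) hp (a - a') gc hgc
    apply Subgroup.subset_closure
    refine ⟨D.reflectRoot j (D.simple j), _, ?_, he⟩
    rw [reflectRoot_simple]
    have hlt := V.neg_lt hp
    refine (P _ hlt).2.mpr ?_
    rw [V.neg_eq _ hp]
    have := (refl_pos J (checkRP_of_mem hD) hj).1
    have := V.even
    omega
  have h2 : nG D F j * gc * (nG D F j)⁻¹ ∈ D.posUnipotent F := by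
    rw [e3]
    exact genPar_le_pos ((Subgroup.mem_normalizer_iff.mp (nG_normalizes_par hD hj) _).mp
      (mul_mem hy' (inv_mem hy)))
  have h3 : nG D F j * gc * (nG D F j)⁻¹ ∈ D.posUnipotent F ⊓ D.negUnipotent F :=
    Subgroup.mem_inf.mpr ⟨h2, h1⟩
  rw [pos_inf_neg hD, Subgroup.mem_bot] at h3
  have h4 : gc = 1 := by
    have : gc = (nG D F j)⁻¹ * (nG D F j * gc * (nG D F j)⁻¹) * nG D F j := by group
    rw [this, h3]
    group
  have h5 : a - a' = 0 := by
    apply xN_eq_one V C hp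
    rw [← x_eq_xN, ← hgc, h4, Units.val_one]
  have haa : a = a' := sub_eq_zero.mp h5
  refine ⟨haa, ?_⟩
  rw [h4] at e3
  have : y' = y := by
    have := congrArg (· * y) e3
    simpa using this.symm
  exact this.symm

theorem xwS_genPar (hD : D ∈ [chevG2, chevB2, chevD4, chevF4, chevE6, chevE7, chevE8])
    {j : ℕ} (hj : j < D.rank) {J' : List ℕ} (hJ' : ∀ i ∈ J', i < D.rank ∧ i ≠ j) (w : List (ℕ × F))
    (hw : ∀ p ∈ w, ∃ i ∈ J', p.1 = D.simple i) :
    ∃ g ∈ Subgroup.closure (genPar D F j), (g : Matrix D.Idx D.Idx F) = wN D F w := by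
  have J := validJ_of_mem hD
  have P := posP_of_mem hD
  apply word_mem_genPar hD
  intro p hp
  obtain ⟨i, hi, e⟩ := hw p hp
  obtain ⟨hi1, hi2⟩ := hJ' i hi
  rw [e]
  refine ⟨(P _ (J.S i hi1).1).1.mpr (refl_pos J (checkRP_of_mem hD) hi1).1, ?_⟩
  intro h
  exact hi2 (simple_inj J hi1 hj h)

/-- the coordinates of an element of `X_J` are unique -/
theorem xwS_inj (hD : D ∈ [chevG2, chevB2, chevD4, chevF4, chevE6, chevE7, chevE8])
    {J : List ℕ} (hJ : OrthL D J) {τ τ' : ℕ → F}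
    (e : wN D F (xwS D.simple J τ) = wN D F (xwS D.simple J τ')) : ∀ j ∈ J, τ j = τ' j := by
  induction J with
  | nil => intro j hj; simp at hj
  | cons j J' ih =>
    have hj : j < D.rank := hJ.lt j List.mem_cons_self
    have hnd := hJ.nodup
    rw [List.nodup_cons] at hnd
    have hJ' : ∀ i ∈ J', i < D.rank ∧ i ≠ j := fun i hi =>
      ⟨hJ.lt i (List.mem_cons_of_mem _ hi), by rintro rfl; exact hnd.1 hi⟩
    obtain ⟨y, hy, hym⟩ := xwS_genPar hD hj hJ' (xwS D.simple J' τ) (xwS_letters J' τ)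
    obtain ⟨y', hy', hym'⟩ := xwS_genPar hD hj hJ' (xwS D.simple J' τ') (xwS_letters J' τ')
    have e' : xN D F (D.simple j) (τ j) * (y : Matrix D.Idx D.Idx F) =
        xN D F (D.simple j) (τ' j) * (y' : Matrix D.Idx D.Idx F) := by
      rw [hym, hym']
      exact e
    obtain ⟨h1, h2⟩ := first_letter hD hj hy hy' e'
    have hO' : OrthL D J' := ⟨fun i hi => hJ.lt i (List.mem_cons_of_mem _ hi), hnd.2,
      fun a ha b hb hne => hJ.orth a (List.mem_cons_of_mem _ ha) b (List.mem_cons_of_mem _ hb) hne⟩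
    have e'' : wN D F (xwS D.simple J' τ) = wN D F (xwS D.simple J' τ') := by
      rw [← hym, ← hym', h2]
    intro i hi
    rw [List.mem_cons] at hi
    rcases hi with rfl | hi
    · exact h1
    · exact ih hO' e'' i hi

/-- the parameter of a class element is unique -/
theorem clsWS_inj (hD : D ∈ [chevG2, chevB2, chevD4, chevF4, chevE6, chevE7, chevE8])
    (φ : F → F) {J : List ℕ} (hJ : OrthL D J) (hne : J ≠ []) {t t' : F}
    (e : wN D F (clsWS D.simple φ J t) = wN D F (clsWS D.simple φ J t')) : t = t' := by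
  cases J with
  | nil => exact absurd rfl hne
  | cons j J' =>
    have hj : j < D.rank := hJ.lt j List.mem_cons_self
    have hnd := hJ.nodup
    rw [List.nodup_cons] at hnd
    have hJ' : ∀ i ∈ J', i < D.rank ∧ i ≠ j := fun i hi =>
      ⟨hJ.lt i (List.mem_cons_of_mem _ hi), by rintro rfl; exact hnd.1 hi⟩
    obtain ⟨y, hy, hym⟩ := xwS_genPar hD hj hJ' (clsWS D.simple φ J' (φ t))
      (clsWS_letters D.simple φ J' (φ t))
    obtain ⟨y', hy', hym'⟩ := xwS_genPar hD hj hJ' (clsWS D.simple φ J' (φ t'))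
      (clsWS_letters D.simple φ J' (φ t'))
    have e' : xN D F (D.simple j) t * (y : Matrix D.Idx D.Idx F) =
        xN D F (D.simple j) t' * (y' : Matrix D.Idx D.Idx F) := by
      rw [hym, hym']
      exact e
    exact (first_letter hD hj hy hy' e').1

end

end Cfsg.Agent.Lib.Helper8.Chev
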