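import Cfsg.Agent.Lib.Helper8.ChevTw8

set_option autoImplicit false

/-! The fixed points of the twisting endomorphism on `X_J`. -/

namespace Cfsg.Agent.Lib.Helper8.Chev

open Cfsg.Lie Matrix

section

variable {D : ChevalleyDatum} {F : Type*} [Field F] {ρ ρ' π π' : ℕ → ℕ} {ε : ℕ → ℤ}

theorem sgW_xwS (h : GAOk D ρ ρ' π π' ε) (φ : F →+* F) (J : List ℕ) (hJ : ∀ j ∈ J, j < D.rank)
    (τ : ℕ → F) :
    sgW π ε φ (xwS D.simple J τ) = xwS D.simple (J.map ρ) (fun j => φ (τ (ρ' j))) := by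
  unfold sgW xwS
  rw [List.map_map, List.map_map]
  apply List.map_congr_left
  intro j hj
  have h1 := h.hsimple j (hJ j hj)
  have h2 := (h.hρ j (hJ j hj)).2
  simp only [Function.comp, h1.1, h1.2, h2, Int.cast_one, one_mul]

/-- the twisting endomorphism on `X_J` in coordinates -/
theorem sg_xwS (hD : D ∈ [chevG2, chevB2, chevD4, chevF4, chevE6, chevE7, chevE8])
    (h : GAOk D ρ ρ' π π' ε) (φ : F →+* F) {J : List ℕ} (hJ : ClsOk D ρ J) (τ : ℕ → F)
    {gx : GL D.Idx F} (hgx : (gx : Matrix D.Idx D.Idx F) = wN D F (xwS D.simple J τ)) :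
    ((sg h φ gx : GL D.Idx F) : Matrix D.Idx D.Idx F) =
      wN D F (xwS D.simple J (fun j => φ (τ (ρ' j)))) := by
  have V := valid0_of_mem hD
  have V1 := valid1_of_mem hD
  have VJ := validJ_of_mem hD
  obtain ⟨j₀, J', e, hmap⟩ := hJ.rot
  obtain ⟨hj₀, hJ'⟩ := cls_head_orth hJ e
  have hlt : ∀ p ∈ xwS D.simple J τ, p.1 < D.nroots := by
    intro p hp
    obtain ⟨j, hj, e⟩ := xwS_letters J τ p hp
    rw [e]
    exact (VJ.S j (hJ.lt j hj)).1
  rw [sg_word V V1 h φ _ hlt gx hgx, sgW_xwS h φ J hJ.lt, hmap, xwS_append, wN_append, wN_cons,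
    wN_nil, Matrix.mul_one, e]
  show _ = wN D F ((D.simple j₀, φ (τ (ρ' j₀))) :: xwS D.simple J' _)
  rw [wN_cons]
  symm
  apply xN_comm_word hD hj₀ (sgnF_simple D j₀)
  intro p hp
  obtain ⟨j, hj, ep⟩ := xwS_letters J' _ p hp
  refine ⟨j, (hJ' j hj).1, (hJ' j hj).2, ?_⟩
  rw [ep]
  exact sgnF_simple D j

/-- a chain `a, ρ a, ρ² a, …` with `τ (ρ j) = φ (τ j)` along it -/
theorem xwS_eq_clsWS (φ : F → F) (τ : ℕ → F) : ∀ (J' : List ℕ) (a b : ℕ),
    (a :: J').map ρ = J' ++ [b] → (∀ j ∈ a :: J', τ (ρ j) = φ (τ j)) →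
      xwS D.simple (a :: J') τ = clsWS D.simple φ (a :: J') (τ a) ∧
        τ b = φ^[J'.length + 1] (τ a) := by
  intro J'
  induction J' with
  | nil =>
    intro a b hmap hτ
    simp only [List.map_cons, List.map_nil, List.nil_append, List.cons.injEq, and_true] at hmap
    refine ⟨rfl, ?_⟩
    rw [← hmap, hτ a List.mem_cons_self]
    rfl
  | cons c J'' ih =>
    intro a b hmap hτ
    simp only [List.map_cons, List.cons_append, List.cons.injEq] at hmap
    obtain ⟨hc, hmap'⟩ := hmap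
    have hmap'' : (c :: J'').map ρ = J'' ++ [b] := by
      simp only [List.map_cons]
      exact hmap'
    obtain ⟨h1, h2⟩ := ih c b hmap'' (fun j hj => hτ j (List.mem_cons_of_mem _ hj))
    have hτc : τ c = φ (τ a) := by rw [← hc]; exact hτ a List.mem_cons_self
    constructor
    · show (D.simple a, τ a) :: xwS D.simple (c :: J'') τ =
        (D.simple a, τ a) :: clsWS D.simple φ (c :: J'') (φ (τ a))
      rw [h1, hτc]
    · rw [h2, hτc, ← Function.iterate_succ_apply]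
      rfl

/-- the fixed elements of `X_J` are the class elements -/
theorem fixed_xwS (hD : D ∈ [chevG2, chevB2, chevD4, chevF4, chevE6, chevE7, chevE8])
    (h : GAOk D ρ ρ' π π' ε) (φ : F →+* F) {J : List ℕ} (hJ : ClsOk D ρ J) (τ : ℕ → F)
    {gx : GL D.Idx F} (hgx : (gx : Matrix D.Idx D.Idx F) = wN D F (xwS D.simple J τ))
    (hfix : sg h φ gx = gx) :
    ∃ t : F, φ^[J.length] t = t ∧ xwS D.simple J τ = clsWS D.simple φ J t := by
  have h1 := sg_xwS hD h φ hJ τ hgx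
  rw [hfix, hgx] at h1
  have h2 := xwS_inj hD hJ.orthL h1
  obtain ⟨j₀, J', e, hmap⟩ := hJ.rot
  -- `τ (ρ j) = φ (τ j)` on `J`
  have hτ : ∀ j ∈ J, τ (ρ j) = φ (τ j) := by
    intro j hj
    have hρj : ρ j ∈ J := by
      have : ρ j ∈ J.map ρ := List.mem_map_of_mem hj
      rw [hmap] at this
      rw [e]
      rw [List.mem_append, List.mem_singleton] at this
      rcases this with h | h
      · exact List.mem_cons_of_mem _ h
      · rw [h]; exact List.mem_cons_self
    have := h2 (ρ j) hρj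
    rw [this, (h.hρ j (hJ.lt j hj)).2]
  subst e
  obtain ⟨h3, h4⟩ := xwS_eq_clsWS (D := D) (φ : F → F) τ J' j₀ j₀ hmap hτ
  exact ⟨τ j₀, h4.symm, h3⟩

end

end Cfsg.Agent.Lib.Helper8.Chev
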