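import Cfsg.Agent.Lib.Helper8.ChevH
import Cfsg.Agent.Lib.Helper8.ChevT1

set_option autoImplicit false

namespace Cfsg.Agent.Lib.Helper8.Chev

open Cfsg.Lie Matrix

/-! ### Triangularity of the root elements of positive roots -/

section Defs

variable (D : ChevalleyDatum) (R : Type*) [CommRing R]

/-- position of a basis vector: the negative roots, then the fundamental coroots, then the positive roots -/
def ord : D.Idx → ℕ
  | Sum.inl i => D.nroots / 2 + i.val
  | Sum.inr s => if s.val < D.nroots / 2 then s.val else s.val + D.rank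

/-- matrices all of whose non-zero entries lie at least `k` steps below the diagonal -/
def LowK (k : ℕ) : Set (Matrix D.Idx D.Idx R) := {M | ∀ i j, M i j ≠ 0 → ord D j + k ≤ ord D i}

end Defs

section Basic

variable {D : ChevalleyDatum} {R : Type*} [CommRing R]

theorem ord_lt (i : D.Idx) : ord D i < D.nroots + D.rank := by
  rcases i with i | s
  · have := i.isLt; simp only [ord]; omega
  · have := s.isLt; simp only [ord]; split_ifs <;> omega

theorem zero_mem_LowK (k : ℕ) : (0 : Matrix D.Idx D.Idx R) ∈ LowK D R k := by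
  intro i j h; simp at h

theorem one_mem_LowK : (1 : Matrix D.Idx D.Idx R) ∈ LowK D R 0 := by
  intro i j h
  by_cases hij : i = j
  · subst hij; simp
  · simp [Matrix.one_apply_ne hij] at h

theorem LowK_mono {a b : ℕ} (hab : a ≤ b) {M : Matrix D.Idx D.Idx R} (h : M ∈ LowK D R b) :
    M ∈ LowK D R a := by
  intro i j hij; have := h i j hij; omega

theorem LowK_add {k : ℕ} {M N : Matrix D.Idx D.Idx R} (hM : M ∈ LowK D R k) (hN : N ∈ LowK D R k) :
    M + N ∈ LowK D R k := by
  intro i j hij
  by_cases h1 : M i j = 0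
  · apply hN i j; intro h2; apply hij; simp [h1, h2]
  · exact hM i j h1

theorem LowK_neg {k : ℕ} {M : Matrix D.Idx D.Idx R} (hM : M ∈ LowK D R k) : -M ∈ LowK D R k := by
  intro i j hij; apply hM i j; intro h; apply hij; simp [h]

theorem LowK_sub {k : ℕ} {M N : Matrix D.Idx D.Idx R} (hM : M ∈ LowK D R k) (hN : N ∈ LowK D R k) :
    M - N ∈ LowK D R k := by
  rw [sub_eq_add_neg]; exact LowK_add hM (LowK_neg hN)

theorem LowK_mul {a b : ℕ} {M N : Matrix D.Idx D.Idx R} (hM : M ∈ LowK D R a) (hN : N ∈ LowK D R b) :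
    M * N ∈ LowK D R (a + b) := by
  intro i j hij
  rw [Matrix.mul_apply] at hij
  obtain ⟨k, _, hk⟩ := Finset.exists_ne_zero_of_sum_ne_zero hij
  have h1 := hM i k (left_ne_zero_of_mul hk)
  have h2 := hN k j (right_ne_zero_of_mul hk)
  omega

theorem LowK_pow {M : Matrix D.Idx D.Idx R} (hM : M ∈ LowK D R 1) (k : ℕ) : M ^ k ∈ LowK D R k := by
  induction k with
  | zero => rw [pow_zero]; exact one_mem_LowK
  | succ k ih => rw [pow_succ]; exact LowK_mul ih hM

theorem eq_zero_of_mem_LowK {k : ℕ} (hk : D.nroots + D.rank ≤ k) {M : Matrix D.Idx D.Idx R}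
    (hM : M ∈ LowK D R k) : M = 0 := by
  ext i j
  by_contra h
  have h1 := hM i j h
  have h2 := ord_lt i
  omega

/-- membership by columns -/
theorem mem_LowK_of_cols {k : ℕ} {M : Matrix D.Idx D.Idx R}
    (h : ∀ j i, (M *ᵥ Pi.single j 1) i ≠ 0 → ord D j + k ≤ ord D i) : M ∈ LowK D R k := by
  intro i j hij
  apply h j i
  rw [Matrix.mulVec_single_one]
  exact hij

end Basic

/-! ### The table condition -/

/-- for a positive root `r` the chain through `s` goes upwards, for a negative root downwards -/
def TriP (D : ChevalleyDatum) : Prop :=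
  ∀ r < D.nroots, ∀ e ∈ row D r, ∀ q ∈ e.2.toList,
    (D.nroots / 2 ≤ r → e.1 < q.1) ∧ (r < D.nroots / 2 → q.1 < e.1)

noncomputable def checkTri (D : ChevalleyDatum) : Bool :=
  allIdxF (fun r (rowArr : Array (ℕ × Array (ℕ × ℤ))) =>
    cond (Nat.blt r (D.nroots / 2))
      (allF (fun e => allF (fun q : ℕ × ℤ => Nat.blt q.1 e.1) e.2.toList) rowArr.toList)
      (allF (fun e => allF (fun q : ℕ × ℤ => Nat.blt e.1 q.1) e.2.toList) rowArr.toList))
    D.chain.toList 0

theorem triP_of_check {D : ChevalleyDatum} (hsz : D.chain.size = D.nroots) (h : checkTri D = true) :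
    TriP D := by
  simp only [checkTri, allIdxF_eq_true, zero_add] at h
  intro r hr e he q hq
  have h1 := h r _ (toList_getElem?_of_lt D.chain r #[] (by omega))
  by_cases hlt : r < D.nroots / 2
  · have : Nat.blt r (D.nroots / 2) = true := by rw [Nat.blt_eq]; exact hlt
    rw [this] at h1
    simp only [cond_true, allF_eq_true, Nat.blt_eq] at h1
    exact ⟨fun h' => by omega, fun _ => h1 e he q hq⟩
  · have : Nat.blt r (D.nroots / 2) = false := by
      rw [← Bool.not_eq_true, Nat.blt_eq]; exact hlt
    rw [this] at h1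
    simp only [cond_false, allF_eq_true, Nat.blt_eq] at h1
    exact ⟨fun _ => h1 e he q hq, fun h' => absurd h' hlt⟩

/-- the positive roots are those of index at least `nroots / 2` -/
def PosP (D : ChevalleyDatum) : Prop :=
  ∀ r < D.nroots, (D.IsPosRoot r ↔ D.nroots / 2 ≤ r) ∧ (D.IsNegRoot r ↔ r < D.nroots / 2)

noncomputable def checkPos (D : ChevalleyDatum) : Bool :=
  Nat.beq D.coroot.size D.nroots &&
  allIdxF (fun r (rowArr : Array ℤ) =>
    cond (Nat.blt r (D.nroots / 2))
      (allF (fun c => decide (c ≤ 0)) rowArr.toList && !(allF (fun c => decide (0 ≤ c)) rowArr.toList))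
      (allF (fun c => decide (0 ≤ c)) rowArr.toList && !(allF (fun c => decide (c ≤ 0)) rowArr.toList)))
    D.coroot.toList 0

theorem posP_of_check {D : ChevalleyDatum} (h : checkPos D = true) : PosP D := by
  simp only [checkPos, Bool.and_eq_true, Nat.beq_eq, allIdxF_eq_true, zero_add] at h
  obtain ⟨hsz, h⟩ := h
  intro r hr
  have h1 := h r _ (toList_getElem?_of_lt D.coroot r #[] (by omega))
  by_cases hlt : r < D.nroots / 2
  · have : Nat.blt r (D.nroots / 2) = true := by rw [Nat.blt_eq]; exact hlt
    rw [this] at h1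
    simp only [cond_true, Bool.and_eq_true, allF_eq_true, decide_eq_true_eq, Bool.not_eq_true',
      ← Bool.not_eq_true] at h1
    constructor
    · constructor
      · intro hp; exact absurd hp.2 h1.2
      · intro h'; omega
    · constructor
      · intro _; exact hlt
      · intro _; exact ⟨hr, h1.1⟩
  · have : Nat.blt r (D.nroots / 2) = false := by
      rw [← Bool.not_eq_true, Nat.blt_eq]; exact hlt
    rw [this] at h1
    simp only [cond_false, Bool.and_eq_true, allF_eq_true, decide_eq_true_eq, Bool.not_eq_true',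
      ← Bool.not_eq_true] at h1
    constructor
    · constructor
      · intro _; omega
      · intro _; exact ⟨hr, h1.1⟩
    · constructor
      · intro hn; exact absurd hn.2 h1.2
      · intro h'; exact absurd h' hlt

end Cfsg.Agent.Lib.Helper8.Chev
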