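import Cfsg.Agent.Lib.Helper8.ChevU1

set_option autoImplicit false

namespace Cfsg.Agent.Lib.Helper8.Chev

open Cfsg.Lie Matrix

variable {D : ChevalleyDatum} {R : Type*} [CommRing R]

theorem E_ne_zero_imp {u : ℕ} {idx : D.Idx} (h : E D R u idx ≠ 0) :
    ∃ hu : u < D.nroots, idx = Sum.inr ⟨u, hu⟩ := by
  rcases idx with i | v
  · simp at h
  · rw [E_apply_inr] at h
    by_cases hv : v.val = u
    · exact ⟨hv ▸ v.isLt, by congr 1; exact Fin.ext hv⟩
    · rw [if_neg hv] at h; exact absurd rfl h

theorem chainVec_ne_zero_imp {r s : ℕ} {t : R} {idx : D.Idx} (h : chainVec D R r s t idx ≠ 0) :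
    ∃ q ∈ D.chainEntry r s, ∃ hu : q.1 < D.nroots, idx = Sum.inr ⟨q.1, hu⟩ := by
  unfold chainVec at h
  rw [list_sum_apply, List.map_map] at h
  obtain ⟨x, hx, hx0⟩ := List.exists_mem_ne_zero_of_sum_ne_zero h
  rw [List.mem_map] at hx
  obtain ⟨q, hq, rfl⟩ := hx
  simp only [Function.comp_apply, Pi.smul_apply, smul_eq_mul] at hx0
  obtain ⟨hu, hidx⟩ := E_ne_zero_imp (right_ne_zero_of_mul hx0)
  have hq' : q.1 ∈ D.chainEntry r s := by
    have := List.mem_zipIdx hq
    rw [this.2.2]
    exact List.getElem_mem _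
  exact ⟨q.1, hq', hu, hidx⟩

theorem ord_inr_lt {s u : Fin D.nroots} (h : s.val < u.val) :
    ord D (Sum.inr s) < ord D (Sum.inr u) := by
  simp only [ord]; split_ifs <;> omega

/-- for a positive root `r` the matrix `x_r(t) - 1` is strictly lower triangular -/
theorem xN_sub_one_mem (V : Valid0 D) (Tr : TriP D) {r : ℕ} (hr : r < D.nroots)
    (hpos : D.nroots / 2 ≤ r) (t : R) : xN D R r t - 1 ∈ LowK D R 1 := by
  have heven := V.even
  apply mem_LowK_of_cols
  intro j i hne
  rw [Matrix.sub_mulVec, Matrix.one_mulVec] at hne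
  rcases j with j | s
  · -- column of a coroot
    rw [← Hb_of_lt R j.isLt, xN_mulVec_Hb R hr t j.isLt] at hne
    simp only [Pi.sub_apply, sub_sub_cancel_left, Pi.smul_apply,
      smul_eq_mul, ne_eq, neg_eq_zero] at hne
    obtain ⟨_, rfl⟩ := E_ne_zero_imp (right_ne_zero_of_mul hne)
    have := j.isLt
    simp only [ord]
    rw [if_neg (by omega)]
    omega
  · rw [← E_of_lt R s.isLt] at hne
    by_cases h1 : s.val = r
    · rw [h1, xN_mulVec_E_self R hr t] at hne
      simp at hne
    by_cases h2 : s.val = D.neg r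
    · rw [h2, xN_mulVec_E_neg V R hr t] at hne
      have hnr : D.neg r = D.nroots - 1 - r := V.neg_eq r hr
      have hs_ord : ord D (Sum.inr s) = s.val := by
        simp only [ord]; rw [if_pos (by omega)]
      rw [hs_ord]
      rcases i with i | u
      · simp only [ord]; omega
      · have hne2 : t ^ 2 * E D R r (Sum.inr u) ≠ 0 := by
          intro h0
          apply hne
          simp [h0]
        obtain ⟨_, hu⟩ := E_ne_zero_imp (right_ne_zero_of_mul hne2)
        rw [hu]
        simp only [ord]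
        rw [if_neg (by omega)]
        omega
    · rw [xN_mulVec_E V R hr t s.isLt h1 h2] at hne
      simp only [add_sub_cancel_left] at hne
      obtain ⟨q, hq, hu, rfl⟩ := chainVec_ne_zero_imp hne
      have hne' : D.chainEntry r s.val ≠ [] := by intro h0; rw [h0] at hq; simp at hq
      obtain ⟨e, he, hes, hL⟩ := chainEntry_mem D hne'
      have := (Tr r hr e he q (by rw [hL]; exact hq)).1 hpos
      rw [hes] at this
      have := ord_inr_lt (D := D) (s := s) (u := ⟨q.1, hu⟩) this
      omega

end Cfsg.Agent.Lib.Helper8.Chev
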