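import Cfsg.Agent.Lib.Helper8.ChevBor3

set_option autoImplicit false

namespace Cfsg.Agent.Lib.Helper8.Chev

open Cfsg.Lie Matrix

/-! ### Matrices permuting the root subgroups -/

section RootPerm

variable {D : ChevalleyDatum} {F : Type*} [Field F]

/-- `M x_s(t) = x_{σ(s)}(ε_s t) M` for all roots `s`, with units `ε_s` -/
def RootPerm (D : ChevalleyDatum) (F : Type*) [Field F] (M : Matrix D.Idx D.Idx F) (σ : ℕ → ℕ) :
    Prop :=
  ∀ s < D.nroots, σ s < D.nroots ∧
    ∃ ε : Fˣ, ∀ t : F, M * xN D F s t = xN D F (σ s) ((ε : F) * t) * M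

theorem rootPerm_one : RootPerm D F 1 id := fun s hs => ⟨hs, 1, fun t => by simp⟩

theorem RootPerm.mul {M N : Matrix D.Idx D.Idx F} {σ τ : ℕ → ℕ} (hM : RootPerm D F M σ)
    (hN : RootPerm D F N τ) : RootPerm D F (M * N) (σ ∘ τ) := by
  intro s hs
  obtain ⟨h1, ε1, e1⟩ := hN s hs
  obtain ⟨h2, ε2, e2⟩ := hM (τ s) h1
  refine ⟨h2, ε2 * ε1, fun t => ?_⟩
  rw [Matrix.mul_assoc, e1, ← Matrix.mul_assoc, e2, Matrix.mul_assoc, Units.val_mul, mul_assoc]
  rfl

theorem RootPerm.inv {M Mi : Matrix D.Idx D.Idx F} {σ τ : ℕ → ℕ} (hM : RootPerm D F M σ)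
    (h1 : Mi * M = 1) (h2 : M * Mi = 1) (hτ : ∀ s < D.nroots, τ s < D.nroots ∧ σ (τ s) = s) :
    RootPerm D F Mi τ := by
  intro s hs
  obtain ⟨ht, hst⟩ := hτ s hs
  obtain ⟨_, ε, e⟩ := hM (τ s) ht
  refine ⟨ht, ε⁻¹, fun t => ?_⟩
  have e' := e (((ε⁻¹ : Fˣ) : F) * t)
  rw [hst, ← mul_assoc, ← Units.val_mul, mul_inv_cancel, Units.val_one, one_mul] at e'
  calc Mi * xN D F s t = Mi * xN D F s t * (M * Mi) := by rw [h2, Matrix.mul_one]
    _ = Mi * (xN D F s t * M) * Mi := by simp only [Matrix.mul_assoc]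
    _ = Mi * (M * xN D F (τ s) (((ε⁻¹ : Fˣ) : F) * t)) * Mi := by rw [e']
    _ = (Mi * M) * xN D F (τ s) (((ε⁻¹ : Fˣ) : F) * t) * Mi := by simp only [Matrix.mul_assoc]
    _ = xN D F (τ s) (((ε⁻¹ : Fˣ) : F) * t) * Mi := by rw [h1, Matrix.one_mul]

theorem rootPerm_nS (J : ValidJ D) (V1 : Valid1 D) (hN : checkNS D = true) {i : ℕ}
    (hi : i < D.rank) :
    RootPerm D F (wN D F (castW F (nWZ (D.simple i) (D.neg (D.simple i))))) (D.reflectRoot i) := by
  intro s hs
  obtain ⟨_, _, h3⟩ := nS_props J hN hi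
  obtain ⟨hlt, hpm, _⟩ := h3 s hs
  have hunit : ∃ ε : Fˣ, (ε : F) = ((etaF D i s : ℤ) : F) := by
    rcases hpm with h | h
    · exact ⟨1, by rw [h]; simp⟩
    · exact ⟨-1, by rw [h]; simp⟩
  obtain ⟨ε, hε⟩ := hunit
  exact ⟨hlt, ε, fun t => by rw [hε]; exact nS_conj J V1 hN hi hs t⟩

theorem rootPerm_torus (V : Valid0 D) {M : Matrix D.Idx D.Idx F} (hM : TorusLike D F M) :
    RootPerm D F M id := by
  obtain ⟨f, hf, rfl⟩ := hM
  intro s hs
  exact ⟨hs, f s, fun t => diagC_mul_xN V hf hs t⟩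

end RootPerm

/-! ### Words of fundamental reflections -/

section Words

variable {D : ChevalleyDatum}

noncomputable def checkInv (D : ChevalleyDatum) : Bool :=
  forallLtF (fun i => withNat (D.simple i) fun p => forallLtF (fun s =>
    withNat (reflP D p (getZ 4 8 (packA D) i s) s) fun s' =>
      Nat.blt s' D.nroots && Nat.beq (reflP D p (getZ 4 8 (packA D) i s') s') s) D.nroots) D.rank

theorem refl_invol (J : ValidJ D) (h : checkInv D = true) {i : ℕ} (hi : i < D.rank) {s : ℕ}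
    (hs : s < D.nroots) : D.reflectRoot i (D.reflectRoot i s) = s := by
  have hp := (J.S i hi).1
  simp only [checkInv, forallLtF_eq_true, withNat_eq, Bool.and_eq_true, Nat.blt_eq,
    Nat.beq_eq] at h
  obtain ⟨hlt, he⟩ := h i hi s hs
  rw [reflP_eq J.V J.T hi hp hs] at hlt he
  rw [reflP_eq J.V J.T hi hp hlt] at he
  exact he

/-- the composition of the fundamental reflections of a word -/
def reflWord (D : ChevalleyDatum) (l : List ℕ) (s : ℕ) : ℕ :=
  l.foldr (fun i s => D.reflectRoot i s) s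

theorem reflWord_cons (i : ℕ) (l : List ℕ) (s : ℕ) :
    reflWord D (i :: l) s = D.reflectRoot i (reflWord D l s) := rfl

theorem reflWord_append (l l' : List ℕ) (s : ℕ) :
    reflWord D (l ++ l') s = reflWord D l (reflWord D l' s) := by
  unfold reflWord
  rw [List.foldr_append]

theorem reflWord_lt (J : ValidJ D) (hN : checkNS D = true) {l : List ℕ} (hl : ∀ i ∈ l, i < D.rank)
    {s : ℕ} (hs : s < D.nroots) : reflWord D l s < D.nroots := by
  induction l with
  | nil => exact hs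
  | cons i l ih =>
    rw [reflWord_cons]
    exact ((nS_props J hN (hl i List.mem_cons_self)).2.2 _
      (ih (fun j hj => hl j (List.mem_cons_of_mem _ hj)))).1

theorem reflWord_reverse_cancel (J : ValidJ D) (hN : checkNS D = true) (hI : checkInv D = true)
    {l : List ℕ} (hl : ∀ i ∈ l, i < D.rank) {s : ℕ} (hs : s < D.nroots) :
    reflWord D l (reflWord D l.reverse s) = s := by
  induction l generalizing s with
  | nil => rfl
  | cons i l ih =>
    have hi := hl i List.mem_cons_self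
    have hl' : ∀ j ∈ l, j < D.rank := fun j hj => hl j (List.mem_cons_of_mem _ hj)
    rw [List.reverse_cons, reflWord_append, reflWord_cons]
    have h1 : reflWord D [i] s = D.reflectRoot i s := rfl
    rw [h1, ih hl' ((nS_props J hN hi).2.2 s hs).1, refl_invol J hI hi hs]

noncomputable def reflWordF (D : ChevalleyDatum) (l : List ℕ) (s : ℕ) : ℕ :=
  @List.rec ℕ (fun _ => ℕ) s
    (fun i _ ih => withNat ih fun s' => reflP D (D.simple i) (getZ 4 8 (packA D) i s') s') l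

theorem reflWordF_eq (J : ValidJ D) (hN : checkNS D = true) {l : List ℕ}
    (hl : ∀ i ∈ l, i < D.rank) {s : ℕ} (hs : s < D.nroots) :
    reflWordF D l s = reflWord D l s := by
  induction l with
  | nil => rfl
  | cons i l ih =>
    have hi := hl i List.mem_cons_self
    have hl' : ∀ j ∈ l, j < D.rank := fun j hj => hl j (List.mem_cons_of_mem _ hj)
    show withNat (reflWordF D l s)
      (fun s' => reflP D (D.simple i) (getZ 4 8 (packA D) i s') s') = _
    rw [withNat_eq, ih hl', reflP_eq J.V J.T hi (J.S i hi).1 (reflWord_lt J hN hl' hs),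
      reflWord_cons]

/-- the word maps the positive roots to negative roots and its inverse the negative roots to
positive roots -/
noncomputable def checkW0 (D : ChevalleyDatum) (l : List ℕ) : Bool :=
  allF (fun i => Nat.blt i D.rank) l &&
  forallLtF (fun s => cond (Nat.blt s (D.nroots / 2))
    (Nat.ble (D.nroots / 2) (reflWordF D l.reverse s))
    (Nat.blt (reflWordF D l s) (D.nroots / 2))) D.nroots

/-- a reduced word of the longest element of the Weyl group, by the number of roots -/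
def w0L (D : ChevalleyDatum) : List ℕ :=
  if D.nroots = 12 then [0, 1, 0, 1, 0, 1]
  else if D.nroots = 8 then [0, 1, 0, 1]
  else if D.nroots = 24 then [0, 1, 0, 2, 1, 0, 3, 1, 0, 2, 1, 3]
  else if D.nroots = 48 then [0, 1, 0, 2, 1, 0, 2, 1, 2, 3, 2, 1, 0, 2, 1, 2, 3, 2, 1, 0, 2, 1, 2, 3]
  else if D.nroots = 72 then [0, 1, 2, 0, 3, 1, 2, 0, 3, 2, 4, 3, 1, 2, 0, 3, 2, 4, 3, 1, 5, 4, 3, 1, 2, 0, 3, 2, 4, 3, 1, 5, 4, 3, 2, 0]
  else if D.nroots = 126 then [0, 1, 2, 0, 3, 1, 2, 0, 3, 2, 4, 3, 1, 2, 0, 3, 2, 4, 3, 1, 5, 4, 3, 1, 2, 0, 3, 2, 4, 3, 1, 5, 4, 3, 2, 0, 6, 5, 4, 3, 1, 2, 0, 3, 2, 4, 3, 1, 5, 4, 3, 2, 0, 6, 5, 4, 3, 1, 2, 3, 4, 5, 6]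
  else if D.nroots = 240 then [0, 1, 2, 0, 3, 1, 2, 0, 3, 2, 4, 3, 1, 2, 0, 3, 2, 4, 3, 1, 5, 4, 3, 1, 2, 0, 3, 2, 4, 3, 1, 5, 4, 3, 2, 0, 6, 5, 4, 3, 1, 2, 0, 3, 2, 4, 3, 1, 5, 4, 3, 2, 0, 6, 5, 4, 3, 1, 2, 3, 4, 5, 6, 7, 6, 5, 4, 3, 1, 2, 0, 3, 2, 4, 3, 1, 5, 4, 3, 2, 0, 6, 5, 4, 3, 1, 2, 3, 4, 5, 6, 7, 6, 5, 4, 3, 1, 2, 0, 3, 2, 4, 3, 1, 5, 4, 3, 2, 0, 6, 5, 4, 3, 1, 2, 3, 4, 5, 6, 7]
  else []

theorem checkW0_G2 : checkW0 chevG2 (w0L chevG2) = true := by decide +kernel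
theorem checkW0_B2 : checkW0 chevB2 (w0L chevB2) = true := by decide +kernel
theorem checkW0_D4 : checkW0 chevD4 (w0L chevD4) = true := by decide +kernel
theorem checkW0_F4 : checkW0 chevF4 (w0L chevF4) = true := by decide +kernel
theorem checkW0_E6 : checkW0 chevE6 (w0L chevE6) = true := by decide +kernel
theorem checkW0_E7 : checkW0 chevE7 (w0L chevE7) = true := by decide +kernel

theorem checkInv_G2 : checkInv chevG2 = true := by decide +kernel
theorem checkInv_B2 : checkInv chevB2 = true := by decide +kernel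
theorem checkInv_D4 : checkInv chevD4 = true := by decide +kernel
theorem checkInv_F4 : checkInv chevF4 = true := by decide +kernel
theorem checkInv_E6 : checkInv chevE6 = true := by decide +kernel
theorem checkInv_E7 : checkInv chevE7 = true := by decide +kernel
theorem checkInv_E8 : checkInv chevE8 = true := by decide +kernel

end Words

end Cfsg.Agent.Lib.Helper8.Chev
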