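import Cfsg.Agent.Lib.Helper8.Weyl4
import Cfsg.Agent.Lib.Helper8.ChevN3

set_option autoImplicit false

/-! The Weyl group of a Chevalley datum as a group of permutations of the root indices, as an
instance of the abstract combinatorial framework. -/

namespace Cfsg.Agent.Lib.Helper8.Chev

open Cfsg.Lie Matrix Cfsg.Agent.Lib.Helper8.Weyl

section

variable {D : ChevalleyDatum}

/-- the fundamental reflection as a permutation of the roots -/
def sPerm (J : ValidJ D) (H : ValidH D) (hI : checkInv D = true) (i : Fin D.rank) :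
    Equiv.Perm (Fin D.nroots) where
  toFun r := ⟨D.reflectRoot i.val r.val, ((nS_props J H.nS i.isLt).2.2 r.val r.isLt).1⟩
  invFun r := ⟨D.reflectRoot i.val r.val, ((nS_props J H.nS i.isLt).2.2 r.val r.isLt).1⟩
  left_inv r := Fin.ext (refl_invol J hI i.isLt r.isLt)
  right_inv r := Fin.ext (refl_invol J hI i.isLt r.isLt)

theorem sPerm_val (J : ValidJ D) (H : ValidH D) (hI : checkInv D = true) (i : Fin D.rank)
    (r : Fin D.nroots) : (sPerm J H hI i r).val = D.reflectRoot i.val r.val := rfl

theorem sPerm_inv_val (J : ValidJ D) (H : ValidH D) (hI : checkInv D = true) (i : Fin D.rank)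
    (r : Fin D.nroots) : ((sPerm J H hI i)⁻¹ r).val = D.reflectRoot i.val r.val := rfl

/-- the combinatorial data of a Chevalley datum -/
def chevWD (D : ChevalleyDatum) (J : ValidJ D) (H : ValidH D) (hI : checkInv D = true) : WData where
  n := D.nroots
  l := D.rank
  s := sPerm J H hI
  p := fun i => ⟨D.simple i.val, (J.S i.val i.isLt).1⟩
  ng := fun r => ⟨D.neg r.val, J.V.neg_lt r.isLt⟩
  c := fun r k => cor D r.val k.val
  A := fun j i => D.cartan j.val (D.simple i.val)

/-- every element of the Weyl group is given by a word of fundamental reflections -/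
theorem exists_word_of_mem (J : ValidJ D) (H : ValidH D) (hI : checkInv D = true)
    {w : Equiv.Perm (Fin D.nroots)} (hw : w ∈ Subgroup.closure (Set.range (sPerm J H hI))) :
    ∃ l : List ℕ, (∀ i ∈ l, i < D.rank) ∧ ∀ r : Fin D.nroots, (w r).val = reflWord D l r.val := by
  induction hw using Subgroup.closure_induction'' with
  | mem x hx =>
    obtain ⟨i, rfl⟩ := hx
    refine ⟨[i.val], ?_, fun r => rfl⟩
    intro j hj
    rw [List.mem_singleton] at hj
    rw [hj]
    exact i.isLt
  | inv_mem x hx =>
    obtain ⟨i, rfl⟩ := hx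
    refine ⟨[i.val], ?_, fun r => rfl⟩
    intro j hj
    rw [List.mem_singleton] at hj
    rw [hj]
    exact i.isLt
  | one => exact ⟨[], fun i hi => by simp at hi, fun r => rfl⟩
  | mul x y _ _ hx hy =>
    obtain ⟨l, hl, e⟩ := hx
    obtain ⟨l', hl', e'⟩ := hy
    refine ⟨l ++ l', ?_, fun r => ?_⟩
    · intro i hi
      rw [List.mem_append] at hi
      rcases hi with hi | hi
      · exact hl i hi
      · exact hl' i hi
    · rw [Equiv.Perm.mul_apply, e, e', reflWord_append]

/-! ### the checks -/

/-- a list of values through `Nat.rec` -/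
noncomputable def listF (f : ℕ → ℕ) (m : ℕ) : List ℕ :=
  @Nat.rec (fun _ => List ℕ) [] (fun b ih => f b :: ih) m

theorem listF_eq (f : ℕ → ℕ) (m : ℕ) : listF f m = ((List.range m).map f).reverse := by
  induction m with
  | zero => rfl
  | succ m ih =>
    rw [List.range_succ, List.map_append, List.reverse_append, ← ih]
    rfl

/-- the packed tables of the fundamental reflections -/
noncomputable def checkSS (D : ChevalleyDatum) (SS : ℕ) : Bool :=
  forallLtF (fun i => withNat (D.simple i) fun p => forallLtF (fun r =>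
    Nat.beq (at2 SS D.nroots i r) (reflP D p (getZ 4 8 (packA D) i r) r)) D.nroots) D.rank

theorem ss_of_check (J : ValidJ D) {SS : ℕ} (h : checkSS D SS = true) {i : ℕ} (hi : i < D.rank)
    {r : ℕ} (hr : r < D.nroots) : at2 SS D.nroots i r = D.reflectRoot i r := by
  simp only [checkSS, forallLtF_eq_true, withNat_eq, Nat.beq_eq] at h
  rw [h i hi r hr, reflP_eq J.V J.T hi (J.S i hi).1 hr]

/-- the action of the fundamental reflections on the coroot coordinates -/
noncomputable def checkCS (D : ChevalleyDatum) (SS : ℕ) : Bool :=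
  forallLtF (fun r => withNat (nthF 0 (packC D) r) fun row => forallLtF (fun i =>
    withNat (nthF 0 (packC D) (at2 SS D.nroots i r)) fun row' =>
    withInt (sumLtF (fun j => decZ 16 (getP 5 row j) * getZ 4 8 (packA D) j (D.simple i))
      D.rank) fun S =>
    forallLtF (fun k => decide (decZ 16 (getP 5 row' k) =
      decZ 16 (getP 5 row k) - (if k = i then S else 0))) D.rank) D.rank) D.nroots

theorem cs_of_check (J : ValidJ D) (H : ValidH D) {SS : ℕ} (hS : checkSS D SS = true)
    (h : checkCS D SS = true) {i : ℕ} (hi : i < D.rank) {r : ℕ} (hr : r < D.nroots) {k : ℕ}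
    (hk : k < D.rank) :
    cor D (D.reflectRoot i r) k = cor D r k -
      (if k = i then ∑ j ∈ Finset.range D.rank, cor D r j * D.cartan j (D.simple i) else 0) := by
  simp only [checkCS, forallLtF_eq_true, withNat_eq, withInt_eq, decide_eq_true_eq] at h
  have h1 := h r hr i hi k hk
  have hr' : D.reflectRoot i r < D.nroots := ((nS_props J H.nS hi).2.2 r hr).1
  rw [ss_of_check J hS hi hr] at h1
  have e1 : ∀ r' k', decZ 16 (getP 5 (nthF 0 (packC D) r') k') = getZ 5 16 (packC D) r' k' :=
    fun _ _ => rfl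
  simp only [e1] at h1
  have hsum : ∑ j ∈ Finset.range D.rank,
      getZ 5 16 (packC D) r j * getZ 4 8 (packA D) j (D.simple i) =
      ∑ j ∈ Finset.range D.rank, cor D r j * D.cartan j (D.simple i) := by
    apply Finset.sum_congr rfl
    intro j hj
    rw [Finset.mem_range] at hj
    rw [J.T.cor_eq r hr j hj, J.T.cartan_eq j hj _ (J.S i hi).1]
  rw [J.T.cor_eq _ hr' k hk, J.T.cor_eq r hr k hk, sumLtF_eq, hsum] at h1
  exact h1

/-- the key of a root: its coroot coordinates -/
noncomputable def keyC (D : ChevalleyDatum) (r : ℕ) : ℕ :=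
  withNat (nthF 0 (packC D) r) fun row =>
    packL 5 (mapF (fun k => getP 5 row k) (List.range D.rank))

/-- distinct roots have distinct coroot coordinates -/
noncomputable def checkCI (D : ChevalleyDatum) : Bool := nodupF (listF (keyC D) D.nroots)

theorem ci_of_check (J : ValidJ D) (h : checkCI D = true) {r r' : ℕ} (hr : r < D.nroots)
    (hr' : r' < D.nroots) (e : ∀ k < D.rank, cor D r k = cor D r' k) : r = r' := by
  have hnd := nodupF_nodup h
  rw [listF_eq, List.nodup_reverse] at hnd
  apply List.inj_on_of_nodup_map hnd (List.mem_range.mpr hr) (List.mem_range.mpr hr')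
  unfold keyC
  rw [withNat_eq, withNat_eq, mapF_eq_map, mapF_eq_map]
  congr 1
  apply List.map_congr_left
  intro k hk
  rw [List.mem_range] at hk
  have := e k hk
  rw [← J.T.cor_eq r hr k hk, ← J.T.cor_eq r' hr' k hk] at this
  unfold getZ decZ at this
  omega

/-- the list of the fundamental roots -/
noncomputable def checkPL (D : ChevalleyDatum) (pl : List ℕ) : Bool :=
  Nat.beq pl.length D.rank && allIdxF (fun j pk => Nat.beq pk (D.simple j)) pl 0

theorem pl_of_check {pl : List ℕ} (h : checkPL D pl = true) :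
    pl.length = D.rank ∧ ∀ j < D.rank, nthF 0 pl j = D.simple j := by
  simp only [checkPL, Bool.and_eq_true, Nat.beq_eq, allIdxF_eq_true, zero_add] at h
  refine ⟨h.1, fun j hj => ?_⟩
  have hj' : j < pl.length := by rw [h.1]; exact hj
  rw [nthF_eq_getD, List.getD_eq_getElem _ _ hj']
  exact h.2 j pl[j] (List.getElem?_eq_getElem hj')

end

/-! ### the axioms -/

theorem cor_nonneg {D : ChevalleyDatum} (J : ValidJ D) (P : PosP D) {r : ℕ} (hr : r < D.nroots)
    (hpos : D.nroots / 2 ≤ r) {k : ℕ} (hk : k < D.rank) : 0 ≤ cor D r k := by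
  have h1 := ((P r hr).1.mpr hpos).2
  have hsz := J.T.cor_size r hr
  have h2 : (D.coroot.getD r #[]).toList[k]? = some ((D.coroot.getD r #[]).getD k 0) :=
    toList_getElem?_of_lt' _ k 0 (by rw [hsz]; exact hk)
  exact h1 _ (List.mem_of_getElem? h2)

theorem chevWD_ok {D : ChevalleyDatum}
    (hD : D ∈ [chevG2, chevB2, chevD4, chevF4, chevE6, chevE7, chevE8]) {SS : ℕ}
    (hS : checkSS D SS = true) (hC : checkCS D SS = true) (hCI : checkCI D = true) :
    (chevWD D (validJ_of_mem hD) (validH_of_mem hD) (checkInv_of_mem hD)).Ok := by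
  have V := valid0_of_mem hD
  have V1 := valid1_of_mem hD
  have J := validJ_of_mem hD
  have H := validH_of_mem hD
  have hI := checkInv_of_mem hD
  have hRP := checkRP_of_mem hD
  have P := posP_of_mem hD
  have C := copP_of_mem hD
  refine ⟨?_, ?_, ?_, ?_, ?_, ?_, ?_, ?_, ?_, ?_, ?_, ?_⟩
  · intro i r
    exact Fin.ext (refl_invol J hI i.isLt r.isLt)
  · intro i r
    exact Fin.ext ((nS_props J H.nS i.isLt).2.2 r.val r.isLt).2.2.2.2
  · intro r
    show D.nroots / 2 ≤ D.neg r.val ↔ ¬ D.nroots / 2 ≤ r.val
    rw [V.neg_eq r.val r.isLt]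
    have := V.even
    have hr : r.val < D.nroots := r.isLt
    omega
  · intro i
    exact Fin.ext (reflectRoot_simple i.val)
  · intro i r hpos hne
    exact (refl_pos J hRP i.isLt).2 r.val r.isLt hpos (fun h => hne (Fin.ext h))
  · intro i
    exact (refl_pos J hRP i.isLt).1
  · intro r k
    exact J.A.cor_neg r.val r.isLt k.val k.isLt
  · intro r k hpos
    exact cor_nonneg J P r.isLt hpos k.isLt
  · intro i k
    have := (J.S i.val i.isLt).2 k.val k.isLt
    show cor D (D.simple i.val) k.val = _
    rw [this]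
    simp only [Fin.ext_iff]
  · intro i r k
    have := cs_of_check J H hS hC i.isLt r.isLt k.isLt
    show cor D (D.reflectRoot i.val r.val) k.val = cor D r.val k.val -
      if k = i then ∑ j : Fin D.rank, cor D r.val j.val * D.cartan j.val (D.simple i.val) else 0
    rw [this, Fin.sum_univ_eq_sum_range (fun j => cor D r.val j * D.cartan j (D.simple i.val)) D.rank]
    simp only [Fin.ext_iff]
  · intro r r' h
    apply Fin.ext
    apply ci_of_check J hCI r.isLt r'.isLt
    intro k hk
    exact congrFun h ⟨k, hk⟩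
  · intro w hw hpos
    obtain ⟨l, hl, e⟩ := exists_word_of_mem J H hI hw
    have hpos' : ∀ s, D.nroots / 2 ≤ s → s < D.nroots → D.nroots / 2 ≤ reflWord D l s := by
      intro s h1 h2
      have := hpos ⟨s, h2⟩ h1
      have h3 : D.nroots / 2 ≤ (w ⟨s, h2⟩).val := this
      exact le_of_le_of_eq h3 (e ⟨s, h2⟩)
    have hmem := nP_mem_diagonal_of_pos (F := ℚ) hD l.length l le_rfl hl hpos'
    have hP1 := (rootPermN_nP (F := ℚ) J V1 H.nS l hl).rootPerm
    have hP2 := rootPerm_torus V (torusLike_of_mem J V1 H hmem)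
    have hinv : ((nP D ℚ l : GL D.Idx ℚ) : Matrix D.Idx D.Idx ℚ) *
        (((nP D ℚ l)⁻¹ : GL D.Idx ℚ) : Matrix D.Idx D.Idx ℚ) = 1 := by
      rw [← Units.val_mul, mul_inv_cancel, Units.val_one]
    ext r
    exact (e r).trans (rootPerm_unique V C hinv hP1 hP2 r.isLt)

end Cfsg.Agent.Lib.Helper8.Chev
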