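import Cfsg.Agent.Lib.Helper8.ChevJ10

set_option autoImplicit false

namespace Cfsg.Agent.Lib.Helper8.Chev

open Cfsg.Lie Matrix

/-! ### Base change of vectors -/

section MapV

variable {D : ChevalleyDatum} {R S : Type*} [CommRing R] [CommRing S]

/-- the image of a vector under a ring homomorphism -/
def mapV (f : R →+* S) (v : D.Idx → R) : D.Idx → S := fun i => f (v i)

@[simp] theorem mapV_apply (f : R →+* S) (v : D.Idx → R) (i : D.Idx) : mapV f v i = f (v i) := rfl

theorem mapV_zero (f : R →+* S) : mapV f (0 : D.Idx → R) = 0 := by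
  funext i; simp

theorem mapV_add (f : R →+* S) (v w : D.Idx → R) : mapV f (v + w) = mapV f v + mapV f w := by
  funext i; simp

theorem mapV_neg (f : R →+* S) (v : D.Idx → R) : mapV f (-v) = - mapV f v := by
  funext i; simp

theorem mapV_sub (f : R →+* S) (v w : D.Idx → R) : mapV f (v - w) = mapV f v - mapV f w := by
  funext i; simp

theorem mapV_smul (f : R →+* S) (c : R) (v : D.Idx → R) : mapV f (c • v) = f c • mapV f v := by
  funext i; simp

theorem mapV_sum {ι : Type*} (f : R →+* S) (s : Finset ι) (v : ι → D.Idx → R) :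
    mapV f (∑ a ∈ s, v a) = ∑ a ∈ s, mapV f (v a) := by
  funext i; simp [Finset.sum_apply]

theorem mapV_single (f : R →+* S) (a : D.Idx) :
    mapV f (Pi.single a 1 : D.Idx → R) = Pi.single a 1 := by
  classical
  funext i
  by_cases h : i = a
  · subst h; simp
  · simp [h]

theorem mapV_E (f : R →+* S) (u : ℕ) : mapV f (E D R u) = E D S u := by
  unfold E
  split_ifs with h
  · exact mapV_single f _
  · exact mapV_zero f

theorem mapV_Hb (f : R →+* S) (i : ℕ) : mapV f (Hb D R i) = Hb D S i := by
  unfold Hb
  split_ifs with h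
  · exact mapV_single f _
  · exact mapV_zero f

theorem mapV_Hr (f : R →+* S) (r : ℕ) : mapV f (Hr D R r) = Hr D S r := by
  funext i
  rcases i with i | s
  · simp
  · simp

theorem mapV_brB (f : R →+* S) (a b : D.Idx) : mapV f (brB D R a b) = brB D S a b := by
  rcases a with i | r <;> rcases b with j | s
  · simp only [brB]; exact mapV_zero f
  · simp only [brB]; rw [mapV_smul, mapV_E]; simp
  · simp only [brB]; rw [mapV_smul, mapV_E]; simp
  · simp only [brB]
    split_ifs
    · exact mapV_Hr f _
    · rw [mapV_smul, mapV_E]; simp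

theorem mapV_br (f : R →+* S) (x y : D.Idx → R) :
    mapV f (br D R x y) = br D S (mapV f x) (mapV f y) := by
  unfold br
  rw [mapV_sum]
  apply Finset.sum_congr rfl; intro a _
  rw [mapV_sum]
  apply Finset.sum_congr rfl; intro b _
  rw [mapV_smul, mapV_brB]
  simp

theorem mapV_mulVec (f : R →+* S) (M : Matrix D.Idx D.Idx R) (v : D.Idx → R) :
    mapV f (M *ᵥ v) = M.map f *ᵥ mapV f v := by
  funext i
  simp only [mapV_apply, Matrix.mulVec, dotProduct, map_sum, map_mul, Matrix.map_apply]

theorem dp_map (f : R →+* S) (r k : ℕ) : (dp D R r k).map f = dp D S r k := by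
  ext row col
  simp only [Matrix.map_apply, dp, Matrix.of_apply]
  have : ∀ col : D.Idx, mapV f (dpCol D R r k col) = dpCol D S r k col := by
    intro col
    rcases col with i | s
    · simp only [dpCol]
      split_ifs
      · exact mapV_Hb f _
      · rw [mapV_smul, mapV_E]; simp
      · exact mapV_zero f
    · simp only [dpCol]
      split_ifs
      · exact mapV_E f _
      · exact mapV_zero f
      · exact mapV_Hr f _
      · rw [mapV_neg, mapV_E]
      · exact mapV_zero f
      · rw [mapV_smul, mapV_E]; simp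
  exact congrFun (this col) row

end MapV

/-! ### The divided powers of `ad e_r` -/

section DP

variable {D : ChevalleyDatum} {R : Type*} [CommRing R]

theorem chainEntry_self (V : Valid0 D) {r : ℕ} (hr : r < D.nroots) : D.chainEntry r r = [] := by
  apply chainEntry_eq_nil_of_not_mem
  intro h
  rw [List.mem_map] at h
  obtain ⟨e, he, her⟩ := h
  exact V.key_ne r hr e he her

theorem dp_one_eq_adM (V : Valid0 D) {r : ℕ} (hr : r < D.nroots) :
    dp D R r 1 = adM (E D R r) := by
  apply ext_mulVec
  · intro i hi
    rw [dp_mulVec_Hb R r 1 hi, adM_mulVec, E_of_lt R hr, Hb_of_lt R hi, br_single]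
    simp [brB, E_of_lt R hr]
  · intro s hs
    rw [adM_mulVec]
    by_cases h1 : s = r
    · subst h1
      rw [dp_mulVec_E_self R s 1 hs, E_of_lt R hs, br_single]
      have hne : s ≠ D.neg s := fun h => V.neg_ne hs h.symm
      simp [brB, hne, Nrs, chainEntry_self V hs, cm]
    by_cases h2 : s = D.neg r
    · subst h2
      rw [dp_mulVec_E_neg R V r 1 hr, E_of_lt R hr, E_of_lt R (V.neg_lt hr), br_single]
      simp [brB]
    · rw [dp_mulVec_E R r 1 hs h1 h2, E_of_lt R hr, E_of_lt R hs, br_single]
      simp [brB, h2, Nrs, sumIdx]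

/-- `k! dp_k = (dp_1)^k` -/
theorem factorial_smul_dp (V : Valid0 D) (V1 : Valid1 D) {r : ℕ} (hr : r < D.nroots) (k : ℕ) :
    (k.factorial : R) • dp D R r k = dp D R r 1 ^ k := by
  induction k with
  | zero => simp [dp_zero R V r hr]
  | succ k ih =>
    rw [pow_succ', ← ih, Matrix.mul_smul, dp_mul_dp R V V1 hr, smul_smul, Nat.factorial_succ,
      add_comm 1 k, Nat.choose_succ_self_right]
    congr 1
    push_cast
    ring

end DP

end Cfsg.Agent.Lib.Helper8.Chev
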