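import Cfsg.Agent.Lib.Helper8.ChevX1

set_option autoImplicit false

namespace Cfsg.Agent.Lib.Helper8.Chev

open Cfsg.Lie Matrix Finset

variable {D : ChevalleyDatum} {R : Type*} [CommRing R]

theorem br_nsmul_right (n : ℕ) (x y : D.Idx → R) : br D R x (n • y) = n • br D R x y := by
  rw [← Nat.cast_smul_eq_nsmul R, br_smul_right, Nat.cast_smul_eq_nsmul]

theorem br_nsmul_left (n : ℕ) (x y : D.Idx → R) : br D R (n • x) y = n • br D R x y := by
  rw [← Nat.cast_smul_eq_nsmul R, br_smul_left, Nat.cast_smul_eq_nsmul]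

/-- the general Leibniz rule for the powers of `ad x` -/
theorem pow_adM_br {x : D.Idx → R} (h : IsDer D R x) (n : ℕ) (y z : D.Idx → R) :
    (adM x ^ n) *ᵥ br D R y z =
      ∑ ij ∈ antidiagonal n, n.choose ij.1 • br D R ((adM x ^ ij.1) *ᵥ y) ((adM x ^ ij.2) *ᵥ z) := by
  induction n with
  | zero => simp
  | succ n ih =>
    rw [sum_antidiagonal_choose_succ_nsmul
      (fun i j => br D R ((adM x ^ i) *ᵥ y) ((adM x ^ j) *ᵥ z)) n]
    rw [pow_succ', ← Matrix.mulVec_mulVec, ih, Matrix.mulVec_sum, ← sum_add_distrib]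
    refine sum_congr rfl fun ⟨i, j⟩ hij => ?_
    simp only
    rw [Matrix.mulVec_smul, adM_mulVec, h, smul_add, ← adM_mulVec x, ← adM_mulVec x,
      Matrix.mulVec_mulVec, Matrix.mulVec_mulVec, ← pow_succ', ← pow_succ', add_comm,
      n.choose_symm_of_eq_add (HasAntidiagonal.mem_antidiagonal.1 hij).symm]

/-- the Leibniz rule for the divided powers of `ad e_r`, over `ℤ` -/
theorem dp_br_int (V : Valid0 D) (V1 : Valid1 D) {r : ℕ} (hr : r < D.nroots)
    (hder : IsDer D ℤ (E D ℤ r)) (k : ℕ) (y z : D.Idx → ℤ) :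
    dp D ℤ r k *ᵥ br D ℤ y z =
      ∑ ij ∈ antidiagonal k, br D ℤ (dp D ℤ r ij.1 *ᵥ y) (dp D ℤ r ij.2 *ᵥ z) := by
  have hk : ((k.factorial : ℕ) : ℤ) ≠ 0 := by exact_mod_cast Nat.factorial_ne_zero k
  have key : ((k.factorial : ℕ) : ℤ) • (dp D ℤ r k *ᵥ br D ℤ y z) =
      ((k.factorial : ℕ) : ℤ) • ∑ ij ∈ antidiagonal k, br D ℤ (dp D ℤ r ij.1 *ᵥ y) (dp D ℤ r ij.2 *ᵥ z) := by
    rw [← Matrix.smul_mulVec, factorial_smul_dp V V1 hr, dp_one_eq_adM V hr,
      pow_adM_br hder, Finset.smul_sum]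
    refine sum_congr rfl fun ⟨i, j⟩ hij => ?_
    simp only
    rw [← dp_one_eq_adM V hr, ← factorial_smul_dp V V1 hr i, ← factorial_smul_dp V V1 hr j,
      Matrix.smul_mulVec, Matrix.smul_mulVec, br_smul_left, br_smul_right,
      ← Nat.cast_smul_eq_nsmul ℤ, smul_smul, smul_smul]
    congr 1
    have := Nat.add_choose_mul_factorial_mul_factorial i j
    rw [HasAntidiagonal.mem_antidiagonal] at hij
    simp only at hij
    rw [hij, ← k.choose_symm_of_eq_add hij.symm] at this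
    rw [← this]
    push_cast
    ring
  funext idx
  have := congrFun key idx
  simp only [Pi.smul_apply, smul_eq_mul] at this
  exact mul_left_cancel₀ hk this

/-- the Leibniz rule for the divided powers of `ad e_r` -/
theorem dp_br (V : Valid0 D) (V1 : Valid1 D) {r : ℕ} (hr : r < D.nroots)
    (hder : IsDer D ℤ (E D ℤ r)) (k : ℕ) (y z : D.Idx → R) :
    dp D R r k *ᵥ br D R y z =
      ∑ ij ∈ antidiagonal k, br D R (dp D R r ij.1 *ᵥ y) (dp D R r ij.2 *ᵥ z) := by
  classical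
  have hbasis : ∀ a b : D.Idx, dp D R r k *ᵥ br D R (Pi.single a 1) (Pi.single b 1) =
      ∑ ij ∈ antidiagonal k, br D R (dp D R r ij.1 *ᵥ Pi.single a 1) (dp D R r ij.2 *ᵥ Pi.single b 1) := by
    intro a b
    have h0 := dp_br_int V V1 hr hder k (Pi.single a 1) (Pi.single b 1)
    have h1 := congrArg (mapV (Int.castRingHom R)) h0
    rw [mapV_mulVec, mapV_br, mapV_single, mapV_single, dp_map, mapV_sum] at h1
    rw [h1]
    refine sum_congr rfl fun ij _ => ?_
    rw [mapV_br, mapV_mulVec, mapV_mulVec, mapV_single, mapV_single, dp_map, dp_map]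
  have hz : ∀ a : D.Idx, dp D R r k *ᵥ br D R (Pi.single a 1) z =
      ∑ ij ∈ antidiagonal k, br D R (dp D R r ij.1 *ᵥ Pi.single a 1) (dp D R r ij.2 *ᵥ z) := by
    intro a
    conv_lhs => rw [vec_eq_sum z]
    conv_rhs => rw [vec_eq_sum z]
    simp only [br_sum_right, br_smul_right, Matrix.mulVec_sum, Matrix.mulVec_smul]
    rw [Finset.sum_comm]
    refine sum_congr rfl fun b _ => ?_
    rw [hbasis a b, Finset.smul_sum]
  conv_lhs => rw [vec_eq_sum y]
  conv_rhs => rw [vec_eq_sum y]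
  simp only [br_sum_left, br_smul_left, Matrix.mulVec_sum, Matrix.mulVec_smul]
  rw [Finset.sum_comm]
  refine sum_congr rfl fun a _ => ?_
  rw [hz a, Finset.smul_sum]

end Cfsg.Agent.Lib.Helper8.Chev
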