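import Cfsg.Agent.Lib.Helper8.ChevX2
import Cfsg.Agent.Lib.Helper8.ChevD

set_option autoImplicit false

namespace Cfsg.Agent.Lib.Helper8.Chev

open Cfsg.Lie Matrix Finset

variable {D : ChevalleyDatum} {R : Type*} [CommRing R]

/-- `x_r(t)` preserves the bracket -/
theorem xN_br (V : Valid0 D) (V1 : Valid1 D) {r : ℕ} (hr : r < D.nroots)
    (hder : IsDer D ℤ (E D ℤ r)) (t : R) (y z : D.Idx → R) :
    xN D R r t *ᵥ br D R y z = br D R (xN D R r t *ᵥ y) (xN D R r t *ᵥ z) := by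
  have L := fun k => dp_br (R := R) V V1 hr hder k y z
  have h0 := L 0; have h1 := L 1; have h2 := L 2; have h3 := L 3
  have h4 := L 4; have h5 := L 5; have h6 := L 6
  have z4 : dp D R r 4 = 0 := dp_eq_zero R V V1 hr (by omega)
  have z5 : dp D R r 5 = 0 := dp_eq_zero R V V1 hr (by omega)
  have z6 : dp D R r 6 = 0 := dp_eq_zero R V V1 hr (by omega)
  rw [xN_eq_sum_dp R V V1 hr]
  simp only [Finset.Nat.sum_antidiagonal_eq_sum_range_succ_mk, Finset.sum_range_succ,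
    Finset.sum_range_zero, zero_add, Nat.sub_zero, Nat.reduceSub, Nat.reduceAdd, Nat.succ_eq_add_one,
    z4, z5, z6, Matrix.zero_mulVec, br_zero_left, br_zero_right, add_zero, Nat.sub_self]
    at h0 h1 h2 h3 h4 h5 h6
  simp only [Finset.sum_range_succ, Finset.sum_range_zero, zero_add, Matrix.add_mulVec,
    Matrix.smul_mulVec, br_add_left, br_add_right, br_smul_left, br_smul_right, h0, h1, h2, h3]
  set B00 := br D R (dp D R r 0 *ᵥ y) (dp D R r 0 *ᵥ z)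
  set B01 := br D R (dp D R r 0 *ᵥ y) (dp D R r 1 *ᵥ z)
  set B02 := br D R (dp D R r 0 *ᵥ y) (dp D R r 2 *ᵥ z)
  set B03 := br D R (dp D R r 0 *ᵥ y) (dp D R r 3 *ᵥ z)
  set B10 := br D R (dp D R r 1 *ᵥ y) (dp D R r 0 *ᵥ z)
  set B11 := br D R (dp D R r 1 *ᵥ y) (dp D R r 1 *ᵥ z)
  set B12 := br D R (dp D R r 1 *ᵥ y) (dp D R r 2 *ᵥ z)
  set B13 := br D R (dp D R r 1 *ᵥ y) (dp D R r 3 *ᵥ z)
  set B20 := br D R (dp D R r 2 *ᵥ y) (dp D R r 0 *ᵥ z)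
  set B21 := br D R (dp D R r 2 *ᵥ y) (dp D R r 1 *ᵥ z)
  set B22 := br D R (dp D R r 2 *ᵥ y) (dp D R r 2 *ᵥ z)
  set B23 := br D R (dp D R r 2 *ᵥ y) (dp D R r 3 *ᵥ z)
  set B30 := br D R (dp D R r 3 *ᵥ y) (dp D R r 0 *ᵥ z)
  set B31 := br D R (dp D R r 3 *ᵥ y) (dp D R r 1 *ᵥ z)
  set B32 := br D R (dp D R r 3 *ᵥ y) (dp D R r 2 *ᵥ z)
  set B33 := br D R (dp D R r 3 *ᵥ y) (dp D R r 3 *ᵥ z)
  linear_combination (norm := module) (t ^ 4) • h4 + (t ^ 5) • h5 + (t ^ 6) • h6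

theorem xN_mul_neg (V : Valid0 D) (V1 : Valid1 D) {r : ℕ} (hr : r < D.nroots) (t : R) :
    xN D R r t * xN D R r (-t) = 1 := by
  rw [xN_mul_xN R V V1 hr, add_neg_cancel, xN_zero V]

theorem xN_neg_mul (V : Valid0 D) (V1 : Valid1 D) {r : ℕ} (hr : r < D.nroots) (t : R) :
    xN D R r (-t) * xN D R r t = 1 := by
  rw [xN_mul_xN R V V1 hr, neg_add_cancel, xN_zero V]

/-- `x_r(t) ad(y) = ad(x_r(t) y) x_r(t)` -/
theorem xN_mul_adM (V : Valid0 D) (V1 : Valid1 D) {r : ℕ} (hr : r < D.nroots)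
    (hder : IsDer D ℤ (E D ℤ r)) (t : R) (y : D.Idx → R) :
    xN D R r t * adM y = adM (xN D R r t *ᵥ y) * xN D R r t := by
  classical
  ext i j
  have := congrFun (xN_br V V1 hr hder t y (Pi.single j 1)) i
  rw [← adM_mulVec, ← adM_mulVec, Matrix.mulVec_mulVec, Matrix.mulVec_mulVec,
    Matrix.mulVec_single_one, Matrix.mulVec_single_one] at this
  exact this

/-- conjugation of `ad(y)` by `x_r(t)` -/
theorem xN_conj_adM (V : Valid0 D) (V1 : Valid1 D) {r : ℕ} (hr : r < D.nroots)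
    (hder : IsDer D ℤ (E D ℤ r)) (t : R) (y : D.Idx → R) :
    xN D R r t * adM y * xN D R r (-t) = adM (xN D R r t *ᵥ y) := by
  rw [xN_mul_adM V V1 hr hder, Matrix.mul_assoc, xN_mul_neg V V1 hr, Matrix.mul_one]

end Cfsg.Agent.Lib.Helper8.Chev
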