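import Cfsg.Agent.Lib.Helper8.ChevX3

set_option autoImplicit false

namespace Cfsg.Agent.Lib.Helper8.Chev

open Cfsg.Lie Matrix Finset

/-! ### Generalities on the exponential of nilpotent elements -/

section Exp

variable {A : Type*} [Ring A] [Module ℚ A]

omit [Module ℚ A] in
theorem isNilpotent_list_sum : ∀ (l : List A), (∀ a ∈ l, IsNilpotent a) → l.Pairwise Commute →
    IsNilpotent l.sum
  | [], _, _ => by simp
  | a :: l, hn, hc => by
    rw [List.sum_cons]
    rw [List.pairwise_cons] at hc
    have h1 : Commute a l.sum := Commute.list_sum_right _ _ (fun b hb => hc.1 b hb)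
    exact h1.isNilpotent_add (hn a List.mem_cons_self)
      (isNilpotent_list_sum l (fun b hb => hn b (List.mem_cons_of_mem _ hb)) hc.2)

theorem exp_list_sum : ∀ (l : List A), (∀ a ∈ l, IsNilpotent a) → l.Pairwise Commute →
    IsNilpotent.exp l.sum = (l.map IsNilpotent.exp).prod
  | [], _, _ => by simp
  | a :: l, hn, hc => by
    rw [List.sum_cons, List.map_cons, List.prod_cons]
    rw [List.pairwise_cons] at hc
    have hn' : ∀ b ∈ l, IsNilpotent b := fun b hb => hn b (List.mem_cons_of_mem _ hb)
    have h1 : Commute a l.sum := Commute.list_sum_right _ _ (fun b hb => hc.1 b hb)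
    rw [IsNilpotent.exp_add_of_commute h1 (hn a List.mem_cons_self)
      (isNilpotent_list_sum l hn' hc.2), exp_list_sum l hn' hc.2]

omit [Module ℚ A] in
theorem conj_pow {X Xi a : A} (h : Xi * X = 1) (k : ℕ) : (X * a * Xi) ^ k * X = X * a ^ k := by
  induction k with
  | zero => simp
  | succ k ih =>
    calc (X * a * Xi) ^ (k + 1) * X = (X * a * Xi) ^ k * ((X * a) * (Xi * X)) := by
          rw [pow_succ]; simp only [mul_assoc]
      _ = ((X * a * Xi) ^ k * X) * a := by rw [h, mul_one]; simp only [mul_assoc]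
      _ = X * a ^ (k + 1) := by rw [ih, mul_assoc, ← pow_succ]

theorem exp_conj {X Xi a : A} (h : Xi * X = 1) (h' : X * Xi = 1) (ha : IsNilpotent a) :
    X * IsNilpotent.exp a * Xi = IsNilpotent.exp (X * a * Xi) := by
  obtain ⟨k, hk⟩ := ha
  have hk' : (X * a * Xi) ^ k = 0 := by
    have := conj_pow (a := a) h k
    rw [hk, mul_zero] at this
    calc (X * a * Xi) ^ k = (X * a * Xi) ^ k * (X * Xi) := by rw [h', mul_one]
      _ = ((X * a * Xi) ^ k * X) * Xi := (mul_assoc _ _ _).symm
      _ = 0 := by rw [this, zero_mul]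
  rw [IsNilpotent.exp_eq_sum hk, IsNilpotent.exp_eq_sum hk', Finset.mul_sum, Finset.sum_mul]
  refine Finset.sum_congr rfl fun i _ => ?_
  have : (X * a * Xi) ^ i = X * a ^ i * Xi := by
    calc (X * a * Xi) ^ i = (X * a * Xi) ^ i * (X * Xi) := by rw [h', mul_one]
      _ = ((X * a * Xi) ^ i * X) * Xi := (mul_assoc _ _ _).symm
      _ = X * a ^ i * Xi := by rw [conj_pow h]
  rw [this, mul_smul_comm, smul_mul_assoc]

end Exp

/-! ### Root elements as exponentials -/

section Char0

variable {D : ChevalleyDatum}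

theorem adM_E_pow_four {R : Type*} [CommRing R] (V : Valid0 D) (V1 : Valid1 D) {r : ℕ}
    (hr : r < D.nroots) : adM (E D R r) ^ 4 = 0 := by
  rw [← dp_one_eq_adM V hr, ← factorial_smul_dp V V1 hr, dp_eq_zero R V V1 hr (le_refl 4), smul_zero]

variable {K : Type*} [Field K] [CharZero K]

theorem xN_eq_exp (V : Valid0 D) (V1 : Valid1 D) {r : ℕ} (hr : r < D.nroots) (t : K) :
    xN D K r t = IsNilpotent.exp (t • adM (E D K r)) := by
  have h4 : (t • adM (E D K r)) ^ 4 = 0 := by
    rw [smul_pow, adM_E_pow_four V V1 hr, smul_zero]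
  rw [IsNilpotent.exp_eq_sum h4, xN_eq_sum_dp K V V1 hr]
  refine Finset.sum_congr rfl fun i _ => ?_
  rw [smul_pow, ← dp_one_eq_adM V hr, ← factorial_smul_dp V V1 hr i, smul_smul, ← Rat.cast_smul_eq_qsmul K,
    smul_smul]
  congr 1
  have : ((i.factorial : ℕ) : K) ≠ 0 := by exact_mod_cast Nat.factorial_ne_zero i
  push_cast
  field_simp

end Char0

/-! ### Words and the conjugation formula -/

section Words

variable (D : ChevalleyDatum) (R : Type*) [CommRing R]

/-- the matrix of a word in root elements -/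
def wN (w : List (ℕ × R)) : Matrix D.Idx D.Idx R := (w.map fun p => xN D R p.1 p.2).prod

/-- the word `x_s(u) ∏_k x_{kr+s}(M_{r,s,k} t^k u)` -/
def conjWord (r s : ℕ) (t u : R) : List (ℕ × R) :=
  (s, u) :: ((D.chainEntry r s).zipIdx.map fun q => (q.1.1, ((q.1.2 : ℤ) : R) * t ^ (q.2 + 1) * u))

/-- the roots `s, r + s, 2r + s, …` have pairwise sums that are not roots -/
def CommChain (r s : ℕ) : Prop :=
  (s :: (D.chainEntry r s).map Prod.fst).Pairwise fun a b => D.chainEntry a b = [] ∧ b ≠ D.neg a

variable {D R}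

theorem wordMat_eq_wN (F : Type*) [Field F] (w : List (ℕ × F)) : D.wordMat F w = wN D F w := by
  unfold ChevalleyDatum.wordMat wN
  have : (fun p : ℕ × F => D.x F p.1 p.2) = fun p => xN D F p.1 p.2 := by
    funext p; exact x_eq_xN D F p.1 p.2
  rw [this]

@[simp] theorem wN_nil : wN D R [] = 1 := rfl

theorem wN_cons (p : ℕ × R) (w : List (ℕ × R)) : wN D R (p :: w) = xN D R p.1 p.2 * wN D R w := by
  simp [wN]

theorem wN_append (w w' : List (ℕ × R)) : wN D R (w ++ w') = wN D R w * wN D R w' := by
  simp [wN]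

theorem mat_ext_mulVec {M N : Matrix D.Idx D.Idx R} (h : ∀ z, M *ᵥ z = N *ᵥ z) : M = N := by
  classical
  ext i j
  have := congrFun (h (Pi.single j 1)) i
  rwa [Matrix.mulVec_single_one, Matrix.mulVec_single_one] at this

theorem adM_commute {x y : D.Idx → R} (hx : IsDer D R x) (h : br D R x y = 0) :
    Commute (adM x) (adM y) := by
  apply mat_ext_mulVec
  intro z
  rw [← Matrix.mulVec_mulVec, ← Matrix.mulVec_mulVec, adM_mulVec, adM_mulVec, adM_mulVec, adM_mulVec,
    hx y z, h, br_zero_left, zero_add]

theorem adM_list_sum (l : List (D.Idx → R)) : adM l.sum = (l.map adM).sum := by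
  induction l with
  | nil => simpa using adM_zero
  | cons a l ih => rw [List.sum_cons, adM_add, ih, List.map_cons, List.sum_cons]

end Words

section Conj

variable {D : ChevalleyDatum} {K : Type*} [Field K] [CharZero K]

omit [CharZero K] in
theorem conjWord_mem_lt (V : Valid0 D) {r s : ℕ} (hr : r < D.nroots) (hs : s < D.nroots) (t u : K)
    {p : ℕ × K} (hp : p ∈ conjWord D K r s t u) : p.1 < D.nroots := by
  unfold conjWord at hp
  rw [List.mem_cons] at hp
  rcases hp with rfl | hp
  · exact hs
  · rw [List.mem_map] at hp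
    obtain ⟨q, hq, rfl⟩ := hp
    have := List.mem_zipIdx hq
    have hget : (D.chainEntry r s)[q.2]? = some (q.1.1, q.1.2) := by
      rw [List.getElem?_eq_getElem (by omega)]
      simp only [Nat.sub_zero] at this
      rw [← this.2.2]
    exact (chainEntry_tgt V hr hget).1

theorem conj_char0 (J : ValidJ D) (V1 : Valid1 D) {r s : ℕ} (hr : r < D.nroots) (hs : s < D.nroots)
    (h1 : s ≠ r) (h2 : s ≠ D.neg r) (hc : CommChain D r s) (t u : K) :
    xN D K r t * xN D K s u * xN D K r (-t) = wN D K (conjWord D K r s t u) := by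
  have V := J.V
  have hder : IsDer D ℤ (E D ℤ r) := by
    have := J.der r (by omega)
    rwa [Bv_of_lt hr] at this
  have hnil : ∀ (a : ℕ) (c : K), a < D.nroots → IsNilpotent (c • adM (E D K a)) := by
    intro a c ha
    exact ⟨4, by rw [smul_pow, adM_E_pow_four V V1 ha, smul_zero]⟩
  -- the left-hand side as an exponential
  rw [xN_eq_exp V V1 hs u, exp_conj (xN_neg_mul V V1 hr t) (xN_mul_neg V V1 hr t) (hnil s u hs),
    Matrix.mul_smul, Matrix.smul_mul, xN_conj_adM V V1 hr hder, xN_mulVec_E V K hr t hs h1 h2]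
  -- the vector `x_r(t) e_s` as a list sum
  have hvec : E D K s + chainVec D K r s t =
      ((conjWord D K r s t 1).map fun p => p.2 • E D K p.1).sum := by
    unfold conjWord chainVec
    simp only [List.map_cons, List.sum_cons, one_smul, List.map_map, mul_one]
    rfl
  rw [hvec, adM_list_sum, List.map_map, List.smul_sum, List.map_map]
  have hlist : List.map ((fun x => u • x) ∘ adM ∘ fun p : ℕ × K => p.2 • E D K p.1) (conjWord D K r s t 1) =
      (conjWord D K r s t u).map fun p => p.2 • adM (E D K p.1) := by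
    unfold conjWord
    simp only [List.map_cons, List.map_map, Function.comp_apply, one_smul, mul_one]
    congr 1
    apply List.map_congr_left
    intro q _
    simp only [Function.comp_apply, adM_smul, smul_smul]
    congr 1
    ring
  rw [hlist, exp_list_sum]
  · unfold wN
    rw [List.map_map]
    congr 1
    apply List.map_congr_left
    intro p hp
    simp only [Function.comp_apply]
    rw [xN_eq_exp V V1 (conjWord_mem_lt V hr hs t u hp)]
  · intro a ha
    rw [List.mem_map] at ha
    obtain ⟨p, hp, rfl⟩ := ha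
    exact hnil p.1 p.2 (conjWord_mem_lt V hr hs t u hp)
  · rw [List.pairwise_map]
    have hfst : (conjWord D K r s t u).map Prod.fst = s :: (D.chainEntry r s).map Prod.fst := by
      unfold conjWord
      simp only [List.map_cons, List.map_map]
      congr 1
      have : (Prod.fst ∘ fun q : (ℕ × ℤ) × ℕ => (q.1.1, ((q.1.2 : ℤ) : K) * t ^ (q.2 + 1) * u)) =
          (Prod.fst ∘ Prod.fst) := rfl
      rw [this, ← List.map_map, List.zipIdx_map_fst]
    have hc' : (conjWord D K r s t u).Pairwise fun p p' =>
        D.chainEntry p.1 p'.1 = [] ∧ p'.1 ≠ D.neg p.1 := by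
      unfold CommChain at hc
      rw [← hfst, List.pairwise_map] at hc
      exact hc
    refine List.Pairwise.imp_of_mem ?_ hc'
    intro p p' hp hp' hrel
    have hpl := conjWord_mem_lt V hr hs t u hp
    have hpl' := conjWord_mem_lt V hr hs t u hp'
    apply Commute.smul_left
    apply Commute.smul_right
    apply adM_commute (J.isDer _)
    rw [br_E_E hpl hpl' hrel.2]
    simp [Nrs, hrel.1, cm]

end Conj

end Cfsg.Agent.Lib.Helper8.Chev
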