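import Cfsg.Agent.Lib.Helper8.ChevX4

set_option autoImplicit false

namespace Cfsg.Agent.Lib.Helper8.Chev

open Cfsg.Lie Matrix

/-! ### Transfer of word identities from fields of characteristic zero to all commutative rings -/

section Transfer

variable {D : ChevalleyDatum}

/-- the image of a word under a ring homomorphism -/
def mapW {R S : Type*} [CommRing R] [CommRing S] (f : R →+* S) (w : List (ℕ × R)) : List (ℕ × S) :=
  w.map fun p => (p.1, f p.2)

theorem map_wN {R S : Type*} [CommRing R] [CommRing S] (f : R →+* S) (w : List (ℕ × R)) :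
    (wN D R w).map f = wN D S (mapW f w) := by
  induction w with
  | nil => simp [wN, mapW]
  | cons p w ih =>
    have : mapW f (p :: w) = (p.1, f p.2) :: mapW f w := rfl
    rw [this, wN_cons, wN_cons, Matrix.map_mul, ih, map_xN]

/-- evaluation of a word with polynomial arguments -/
noncomputable def evalW {σ : Type} {R : Type*} [CommRing R] (v : σ → R)
    (W : List (ℕ × MvPolynomial σ ℤ)) : List (ℕ × R) :=
  mapW (MvPolynomial.eval₂Hom (Int.castRingHom R) v) W

theorem wN_transfer {σ : Type} (W1 W2 : List (ℕ × MvPolynomial σ ℤ))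
    (h : ∀ (K : Type) [Field K] [CharZero K] (v : σ → K), wN D K (evalW v W1) = wN D K (evalW v W2))
    {R : Type*} [CommRing R] (v : σ → R) : wN D R (evalW v W1) = wN D R (evalW v W2) := by
  let P := MvPolynomial σ ℤ
  let K := FractionRing P
  have : CharZero K := IsFractionRing.charZero_of_isFractionRing P (K := K)
  let ι : P →+* K := algebraMap P K
  have hι : Function.Injective ι := IsFractionRing.injective P K
  have hιeq : ι = MvPolynomial.eval₂Hom (Int.castRingHom K) (fun i => ι (MvPolynomial.X i)) := by
    apply MvPolynomial.ringHom_ext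
    · intro z
      simp
    · intro i
      simp
  have h1 := h K (fun i => ι (MvPolynomial.X i))
  unfold evalW at h1
  rw [← hιeq, ← map_wN, ← map_wN] at h1
  have h2 : wN D P W1 = wN D P W2 := by
    refine Matrix.ext fun i j => ?_
    have := congrFun (congrFun h1 i) j
    simp only [Matrix.map_apply] at this
    exact hι this
  unfold evalW
  rw [← map_wN, ← map_wN, h2]

end Transfer

/-! ### The conjugation formula over all commutative rings -/

section Conj

variable {D : ChevalleyDatum} {R : Type*} [CommRing R]

open MvPolynomial in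
theorem conj_formula (J : ValidJ D) (V1 : Valid1 D) {r s : ℕ} (hr : r < D.nroots) (hs : s < D.nroots)
    (h1 : s ≠ r) (h2 : s ≠ D.neg r) (hc : CommChain D r s) (t u : R) :
    xN D R r t * xN D R s u * xN D R r (-t) = wN D R (conjWord D R r s t u) := by
  let W1 : List (ℕ × MvPolynomial (Fin 2) ℤ) := [(r, X 0), (s, X 1), (r, -X 0)]
  let W2 : List (ℕ × MvPolynomial (Fin 2) ℤ) := conjWord D (MvPolynomial (Fin 2) ℤ) r s (X 0) (X 1)
  have key := wN_transfer (D := D) W1 W2 (by
    intro K _ _ v
    have := conj_char0 J V1 hr hs h1 h2 hc (v 0) (v 1)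
    have e1 : evalW v W1 = [(r, v 0), (s, v 1), (r, -v 0)] := by
      simp [evalW, mapW, W1]
    have e2 : evalW v W2 = conjWord D K r s (v 0) (v 1) := by
      simp only [evalW, mapW, W2, conjWord, List.map_cons, List.map_map, eval₂Hom_X']
      congr 1
      apply List.map_congr_left
      intro q _
      simp only [Function.comp_apply, map_mul, map_pow, map_intCast, eval₂Hom_X']
    rw [e1, e2, ← this]
    simp [wN, Matrix.mul_assoc]) (![t, u])
  have e1 : evalW ![t, u] W1 = [(r, t), (s, u), (r, -t)] := by
    simp [evalW, mapW, W1]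
  have e2 : evalW ![t, u] W2 = conjWord D R r s t u := by
    simp only [evalW, mapW, W2, conjWord, List.map_cons, List.map_map, eval₂Hom_X']
    congr 1
    apply List.map_congr_left
    intro q _
    simp only [Function.comp_apply, map_mul, map_pow, map_intCast, eval₂Hom_X']
    rfl
  rw [e1, e2] at key
  rw [← key]
  simp [wN, Matrix.mul_assoc]

end Conj

end Cfsg.Agent.Lib.Helper8.Chev
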