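import Cfsg.Agent.Lib.Helper8.ChevX6

set_option autoImplicit false

namespace Cfsg.Agent.Lib.Helper8.Chev

open Cfsg.Lie Matrix

/-! ### The commutator formula with the tabulated right-hand side -/

section

variable {D : ChevalleyDatum}

/-- orientation A applies -/
def CaseA (D : ChevalleyDatum) (r s : ℕ) : Prop :=
  CommChain D r s ∧ (D.chainEntry r s).length ≤ 2 ∧ (D.chainEntry s r).length ≤ 1

/-- orientation B applies -/
def CaseB (D : ChevalleyDatum) (r s : ℕ) : Prop :=
  CommChain D s r ∧ ∃ v1 M1 w2 N2, D.chainEntry r s = [(v1, M1)] ∧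
    D.chainEntry s r = [(v1, -M1), (w2, N2)] ∧ D.chainEntry v1 w2 = [] ∧ w2 ≠ v1 ∧ w2 ≠ D.neg v1

theorem commTerms_A {r s : ℕ} (h1 : (D.chainEntry r s).length ≤ 2)
    (h2 : (D.chainEntry s r).length ≤ 1) :
    D.commTerms r s = (D.chainEntry r s).zipIdx.map fun q => (q.1.1, q.1.2, q.2 + 1, 1) := by
  unfold ChevalleyDatum.commTerms ChevalleyDatum.chainRoot ChevalleyDatum.chainM
  match hL1 : D.chainEntry r s, h1 with
  | [], _ =>
    match hL2 : D.chainEntry s r, h2 with
    | [], _ => simp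
    | [x], _ => simp
  | [a], _ =>
    match hL2 : D.chainEntry s r, h2 with
    | [], _ => simp
    | [x], _ => simp
  | [a, b], _ =>
    match hL2 : D.chainEntry s r, h2 with
    | [], _ => simp
    | [x], _ => simp

theorem commTerms_B {r s v1 w1 w2 : ℕ} {M1 N1 N2 : ℤ} (h1 : D.chainEntry r s = [(v1, M1)])
    (h2 : D.chainEntry s r = [(w1, N1), (w2, N2)]) :
    D.commTerms r s = [(v1, M1, 1, 1), (w2, N2, 1, 2)] := by
  unfold ChevalleyDatum.commTerms ChevalleyDatum.chainRoot ChevalleyDatum.chainM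
  rw [h1, h2]
  simp

variable {F : Type*} [Field F]

theorem comm_formula_of_case (J : ValidJ D) (V1 : Valid1 D) {r s : ℕ} (hr : r < D.nroots)
    (hs : s < D.nroots) (h1 : s ≠ r) (h2 : s ≠ D.neg r) (hcase : CaseA D r s ∨ CaseB D r s) (t u : F) :
    D.x F s u * D.x F r t = D.x F r t * D.x F s u * D.wordMat F (D.commWord F r s t u) := by
  rw [x_eq_xN, x_eq_xN, wordMat_eq_wN]
  rcases hcase with ⟨hc, hl1, hl2⟩ | ⟨hc, v1, M1, w2, N2, hL1, hL2, hnil, hne1, hne2⟩
  · rw [comm_A J V1 hr hs h1 h2 hc t u]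
    congr 1
    unfold ChevalleyDatum.commWord chainWord
    rw [commTerms_A hl1 hl2, List.map_map]
    congr 1
    apply List.map_congr_left
    intro q _
    simp
  · rw [comm_B J V1 hr hs h1 h2 hc t u]
    congr 1
    unfold ChevalleyDatum.commWord chainWord
    rw [commTerms_B hL1 hL2, hL2]
    have hv1 : v1 < D.nroots :=
      (chainEntry_tgt J.V hr (s := s) (k := 0) (u := v1) (M := M1) (by rw [hL1]; rfl)).1
    have hw2 : w2 < D.nroots :=
      (chainEntry_tgt J.V hs (s := r) (k := 1) (u := w2) (M := N2) (by rw [hL2]; rfl)).1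
    have hcomm := xN_commute (R := F) J V1 hv1 hw2 hne1 hne2 hnil
    simp only [invW, List.zipIdx_cons, List.zipIdx_nil, List.map_cons, List.map_nil, List.reverse_cons,
      List.reverse_nil, List.nil_append, List.cons_append, wN_cons, wN_nil, Matrix.mul_one, zero_add]
    rw [hcomm]
    congr 1
    · congr 1
      push_cast
      ring
    · congr 1
      push_cast
      ring

end

end Cfsg.Agent.Lib.Helper8.Chev
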