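import Cfsg.Agent.Lib.Helper8.ChevTw17

set_option autoImplicit false

/-! Abstract twisting endomorphisms `x_r(t) ↦ x_{r̄}(t^{E r})` of a Chevalley group. -/

namespace Cfsg.Agent.Lib.Helper8.Chev

open Cfsg.Lie Matrix

/-- an endomorphism `σ` of the Chevalley group with `σ x_r(t) = x_{r̄}(t^{E r})`,
compatible with a symmetry `ρ` of the Dynkin diagram -/
structure XEnd (D : ChevalleyDatum) (F : Type*) [Field F] (σ : GL D.Idx F → GL D.Idx F)
    (bar ρ E : ℕ → ℕ) : Prop where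
  hD : D ∈ [chevG2, chevB2, chevD4, chevF4, chevE6, chevE7, chevE8]
  mul : ∀ g h, g ∈ D.group F → h ∈ D.group F → σ (g * h) = σ g * σ h
  mem : ∀ g, g ∈ D.group F → σ g ∈ D.group F
  map_x : ∀ (g : GL D.Idx F) (r : ℕ) (t : F), r < D.nroots →
    (g : Matrix D.Idx D.Idx F) = D.x F r t →
    ((σ g : GL D.Idx F) : Matrix D.Idx D.Idx F) = D.x F (bar r) (t ^ E r)
  bar_lt : ∀ r < D.nroots, bar r < D.nroots
  bar_pos : ∀ r < D.nroots, (D.nroots / 2 ≤ bar r ↔ D.nroots / 2 ≤ r)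
  bar_neg : ∀ r < D.nroots, bar (D.neg r) = D.neg (bar r)
  E_neg : ∀ r < D.nroots, E (D.neg r) = E r
  neg_pow : ∀ r < D.nroots, (-1 : F) ^ E r = -1
  rho_lt : ∀ i < D.rank, ρ i < D.rank
  bar_simple : ∀ i < D.rank, bar (D.simple i) = D.simple (ρ i)
  refl_bar : ∀ i < D.rank, ∀ s < D.nroots, D.reflectRoot (ρ i) (bar s) = bar (D.reflectRoot i s)

/-- the image of a word under the endomorphism -/
def barW {F : Type*} [Field F] (bar E : ℕ → ℕ) (w : List (ℕ × F)) : List (ℕ × F) :=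
  w.map fun p => (bar p.1, p.2 ^ E p.1)

namespace XEnd

variable {D : ChevalleyDatum} {F : Type*} [Field F] {σ : GL D.Idx F → GL D.Idx F}
  {bar ρ E : ℕ → ℕ}

theorem map_one (X : XEnd D F σ bar ρ E) : σ 1 = 1 := by
  have h := X.mul 1 1 (one_mem _) (one_mem _)
  rw [mul_one] at h
  exact (mul_eq_left.mp h.symm)

theorem map_inv (X : XEnd D F σ bar ρ E) {g : GL D.Idx F} (hg : g ∈ D.group F) :
    σ g⁻¹ = (σ g)⁻¹ := by
  have h := X.mul g⁻¹ g (inv_mem hg) hg
  rw [inv_mul_cancel, X.map_one] at h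
  exact eq_inv_of_mul_eq_one_left h.symm

/-- the endomorphism maps a closure into a subgroup as soon as it does so on generators -/
theorem map_closure (X : XEnd D F σ bar ρ E) {S : Set (GL D.Idx F)} {T : Subgroup (GL D.Idx F)}
    (hS : ∀ x ∈ S, x ∈ D.group F ∧ σ x ∈ T) {g : GL D.Idx F} (hg : g ∈ Subgroup.closure S) :
    g ∈ D.group F ∧ σ g ∈ T := by
  induction hg using Subgroup.closure_induction with
  | mem x hx => exact hS x hx
  | one => exact ⟨one_mem _, by rw [X.map_one]; exact one_mem _⟩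
  | mul x y _ _ hx hy =>
    exact ⟨mul_mem hx.1 hy.1, by rw [X.mul x y hx.1 hy.1]; exact mul_mem hx.2 hy.2⟩
  | inv x _ hx => exact ⟨inv_mem hx.1, by rw [X.map_inv hx.1]; exact inv_mem hx.2⟩

theorem barW_lt (X : XEnd D F σ bar ρ E) (w : List (ℕ × F)) (hw : ∀ p ∈ w, p.1 < D.nroots) :
    ∀ p ∈ barW bar E w, p.1 < D.nroots := by
  intro p hp
  unfold barW at hp
  rw [List.mem_map] at hp
  obtain ⟨q, hq, rfl⟩ := hp
  exact X.bar_lt _ (hw q hq)

/-- the endomorphism on words -/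
theorem map_word (X : XEnd D F σ bar ρ E) : ∀ (w : List (ℕ × F)), (∀ p ∈ w, p.1 < D.nroots) →
    ∀ g : GL D.Idx F, (g : Matrix D.Idx D.Idx F) = wN D F w →
      ((σ g : GL D.Idx F) : Matrix D.Idx D.Idx F) = wN D F (barW bar E w) := by
  have V := valid0_of_mem X.hD
  have V1 := valid1_of_mem X.hD
  intro w
  induction w with
  | nil =>
    intro _ g hg
    have : g = 1 := Units.ext (by rw [hg]; rfl)
    rw [this, X.map_one]; rfl
  | cons p w ih =>
    intro hw g hg
    have hp := hw p List.mem_cons_self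
    have hw' : ∀ q ∈ w, q.1 < D.nroots := fun q hq => hw q (List.mem_cons_of_mem _ hq)
    obtain ⟨g1, hg1⟩ := exists_unit_x (F := F) V V1 hp p.2
    obtain ⟨g2, hg2⟩ := exists_unit_wN (F := F) V V1 w hw'
    have e : g = g1 * g2 := Units.ext (by rw [hg, Units.val_mul, hg1, hg2, wN_cons, x_eq_xN])
    have h1 : g1 ∈ D.group F := x_mem_group hp p.2 g1 hg1
    have h2 : g2 ∈ D.group F := mem_group_of_word V V1 w hw' g2 hg2
    rw [e, X.mul g1 g2 h1 h2, Units.val_mul, X.map_x g1 p.1 p.2 hp hg1, ih hw' g2 hg2]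
    unfold barW
    rw [List.map_cons, wN_cons, x_eq_xN]

theorem mem_pos (X : XEnd D F σ bar ρ E) {g : GL D.Idx F} (hg : g ∈ D.posUnipotent F) :
    σ g ∈ D.posUnipotent F := by
  have P := posP_of_mem X.hD
  refine (X.map_closure (T := D.posUnipotent F) ?_ hg).2
  rintro x ⟨r, t, hr, hx⟩
  have hrn : r < D.nroots := hr.1
  refine ⟨x_mem_group hrn t x hx, Subgroup.subset_closure ⟨bar r, t ^ E r, ?_, X.map_x x r t hrn hx⟩⟩
  rw [(P _ (X.bar_lt r hrn)).1, X.bar_pos r hrn, ← (P r hrn).1]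
  exact hr

theorem mem_neg (X : XEnd D F σ bar ρ E) {g : GL D.Idx F} (hg : g ∈ D.negUnipotent F) :
    σ g ∈ D.negUnipotent F := by
  have P := posP_of_mem X.hD
  refine (X.map_closure (T := D.negUnipotent F) ?_ hg).2
  rintro x ⟨r, t, hr, hx⟩
  have hrn : r < D.nroots := hr.1
  refine ⟨x_mem_group hrn t x hx, Subgroup.subset_closure ⟨bar r, t ^ E r, ?_, X.map_x x r t hrn hx⟩⟩
  rw [(P _ (X.bar_lt r hrn)).2]
  have h1 := (P r hrn).2.mp hr
  have h2 := X.bar_pos r hrn
  omega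

theorem barW_nWord (X : XEnd D F σ bar ρ E) {r : ℕ} (hr : r < D.nroots) (t : F) :
    barW bar E (D.nWord r t) = D.nWord (bar r) (t ^ E r) := by
  unfold barW ChevalleyDatum.nWord
  simp only [List.map_cons, List.map_nil]
  rw [X.bar_neg r hr, X.E_neg r hr, _root_.neg_pow, X.neg_pow r hr, inv_pow, neg_one_mul]

theorem barW_append (w w' : List (ℕ × F)) :
    barW bar E (w ++ w') = barW bar E w ++ barW bar E w' := by
  unfold barW
  rw [List.map_append]

theorem barW_hWord (X : XEnd D F σ bar ρ E) {r : ℕ} (hr : r < D.nroots) (t : F) :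
    barW bar E (D.hWord r t) = D.hWord (bar r) (t ^ E r) := by
  unfold ChevalleyDatum.hWord
  rw [barW_append, X.barW_nWord hr, X.barW_nWord hr, X.neg_pow r hr]

theorem mem_diagonal (X : XEnd D F σ bar ρ E) {g : GL D.Idx F} (hg : g ∈ D.diagonalSubgroup F) :
    σ g ∈ D.diagonalSubgroup F := by
  have V := valid0_of_mem X.hD
  have V1 := valid1_of_mem X.hD
  refine (X.map_closure (T := D.diagonalSubgroup F) ?_ hg).2
  rintro x ⟨r, t, hr, ht, hx⟩
  have hxw : (x : Matrix D.Idx D.Idx F) = wN D F (D.hWord r t) := by rw [hx, hMat_eq_wN]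
  refine ⟨mem_group_of_word V V1 _ (hWord_lt V hr t) x hxw,
    Subgroup.subset_closure ⟨bar r, t ^ E r, X.bar_lt r hr, pow_ne_zero _ ht, ?_⟩⟩
  rw [X.map_word _ (hWord_lt V hr t) x hxw, X.barW_hWord hr, hMat_eq_wN]

theorem mem_borel (X : XEnd D F σ bar ρ E) {g : GL D.Idx F} (hg : g ∈ D.borelSubgroup F) :
    σ g ∈ D.borelSubgroup F := by
  have V := valid0_of_mem X.hD
  have V1 := valid1_of_mem X.hD
  unfold ChevalleyDatum.borelSubgroup at hg
  rw [Subgroup.sup_eq_closure] at hg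
  refine (X.map_closure (T := D.borelSubgroup F) ?_ hg).2
  rintro x (hx | hx)
  · exact ⟨pos_le_group hx, pos_le_borel (X.mem_pos hx)⟩
  · exact ⟨diagonal_le_group V V1 hx, diagonal_le_borel (X.mem_diagonal hx)⟩

theorem map_nG (X : XEnd D F σ bar ρ E) {i : ℕ} (hi : i < D.rank) :
    σ (nG D F i) = nG D F (ρ i) := by
  have V := valid0_of_mem X.hD
  have V1 := valid1_of_mem X.hD
  have J := validJ_of_mem X.hD
  have hs : D.simple i < D.nroots := (J.S i hi).1
  apply Units.ext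
  have h1 : ((nG D F i : GL D.Idx F) : Matrix D.Idx D.Idx F) = wN D F (D.nWord (D.simple i) 1) := by
    rw [coe_nG J V1 hi, nMat_eq_wN]
  rw [X.map_word _ (nWord_lt V hs 1) _ h1, X.barW_nWord hs, one_pow, X.bar_simple i hi,
    coe_nG J V1 (X.rho_lt i hi), nMat_eq_wN]

theorem nP_mem_group (X : XEnd D F σ bar ρ E) {l : List ℕ} (hl : ∀ i ∈ l, i < D.rank) :
    nP D F l ∈ D.group F :=
  monomial_le_group (valid0_of_mem X.hD) (valid1_of_mem X.hD) (nP_mem_monomial X.hD hl)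

theorem map_nP (X : XEnd D F σ bar ρ E) : ∀ {l : List ℕ} (_ : ∀ i ∈ l, i < D.rank),
    σ (nP D F l) = nP D F (l.map ρ) := by
  intro l
  induction l with
  | nil => intro _; rw [nP_nil, X.map_one, List.map_nil, nP_nil]
  | cons i l ih =>
    intro hl
    have hi := hl i List.mem_cons_self
    have hl' : ∀ j ∈ l, j < D.rank := fun j hj => hl j (List.mem_cons_of_mem _ hj)
    have h1 : nG D F i ∈ D.group F := by
      have := X.nP_mem_group (l := [i]) (by
        intro j hj; rw [List.mem_singleton] at hj; rw [hj]; exact hi)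
      rwa [nP_cons, nP_nil, mul_one] at this
    rw [nP_cons, X.mul _ _ h1 (X.nP_mem_group hl'), X.map_nG hi, ih hl', List.map_cons, nP_cons]

theorem map_lt (X : XEnd D F σ bar ρ E) {l : List ℕ} (hl : ∀ i ∈ l, i < D.rank) :
    ∀ i ∈ l.map ρ, i < D.rank := by
  intro i hi
  rw [List.mem_map] at hi
  obtain ⟨j, hj, rfl⟩ := hi
  exact X.rho_lt j (hl j hj)

theorem reflWord_bar (X : XEnd D F σ bar ρ E) {l : List ℕ} (hl : ∀ i ∈ l, i < D.rank) {s : ℕ}
    (hs : s < D.nroots) : reflWord D (l.map ρ) (bar s) = bar (reflWord D l s) := by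
  have J := validJ_of_mem X.hD
  have H := validH_of_mem X.hD
  induction l with
  | nil => rfl
  | cons i l ih =>
    have hi := hl i List.mem_cons_self
    have hl' : ∀ j ∈ l, j < D.rank := fun j hj => hl j (List.mem_cons_of_mem _ hj)
    rw [List.map_cons, reflWord_cons, reflWord_cons, ih hl',
      X.refl_bar i hi _ (reflWord_lt J H.nS hl' hs)]

theorem mem_unegW (X : XEnd D F σ bar ρ E) {l : List ℕ} (hl : ∀ i ∈ l, i < D.rank)
    {g : GL D.Idx F} (hg : g ∈ UnegW D F l) : σ g ∈ UnegW D F (l.map ρ) := by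
  have J := validJ_of_mem X.hD
  have H := validH_of_mem X.hD
  refine (X.map_closure (T := UnegW D F (l.map ρ)) ?_ hg).2
  rintro x ⟨r, t, hr1, hr2, hr3, hx⟩
  refine ⟨x_mem_group hr2 t x hx, Subgroup.subset_closure ⟨bar r, t ^ E r,
    (X.bar_pos r hr2).mpr hr1, X.bar_lt r hr2, ?_, X.map_x x r t hr2 hx⟩⟩
  rw [X.reflWord_bar hl hr2]
  have h2 := X.bar_pos _ (reflWord_lt J H.nS hl hr2)
  omega

end XEnd

end Cfsg.Agent.Lib.Helper8.Chev
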