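import Cfsg.Agent.Lib.Helper8.ChevXT2

set_option autoImplicit false

/-! Fixed points of an abstract twisting endomorphism on the groups `U_w⁻`. -/

namespace Cfsg.Agent.Lib.Helper8.Chev

open Cfsg.Lie Matrix

section

variable {D : ChevalleyDatum} {F : Type*} [Field F]

/-- conjugating `U_c⁻` by `n_c` gives a subgroup of `V` -/
theorem conj_unegW_neg (hD : D ∈ [chevG2, chevB2, chevD4, chevF4, chevE6, chevE7, chevE8])
    {c : List ℕ} (hc : ∀ i ∈ c, i < D.rank) {u : GL D.Idx F} (hu : u ∈ UnegW D F c) :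
    nP D F c * u * (nP D F c)⁻¹ ∈ D.negUnipotent F :=
  conj_unegS_le_neg _ ⟨u, unegW_le_unegS hD hc hu, rfl⟩

/-- `U_{w w_c}⁻ = n_c⁻¹ U_w⁻ n_c · U_{w_c}⁻` when the lengths add -/
theorem unegW_append_decomp (hD : D ∈ [chevG2, chevB2, chevD4, chevF4, chevE6, chevE7, chevE8])
    {l : List ℕ} : ∀ {c : List ℕ}, GoodW D (l ++ c) → GoodW D c →
      ∀ u ∈ UnegW D F (l ++ c), ∃ v ∈ UnegW D F l, ∃ u' ∈ UnegW D F c,
        u = (nP D F c)⁻¹ * v * nP D F c * u' := by
  have V := valid0_of_mem hD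
  have J := validJ_of_mem hD
  have H := validH_of_mem hD
  intro c
  induction c using List.reverseRecOn with
  | nil =>
    intro _ _ u hu
    rw [List.append_nil] at hu
    exact ⟨u, hu, 1, one_mem _, by rw [nP_nil]; group⟩
  | append_singleton c k ih =>
    intro hg hgc u hu
    rw [← List.append_assoc] at hg hu
    obtain ⟨hg1, hk, hpos⟩ := hg.of_concat
    obtain ⟨hgc1, _, hposc⟩ := hgc.of_concat
    obtain ⟨v₁, hv₁, g, t, hgm, e⟩ := unegW_concat_decomp hD hg1 hk hpos hu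
    obtain ⟨v, hv, u'', hu'', e₁⟩ := ih hg1 hgc1 v₁ hv₁
    have hpk := (J.S k hk).1
    have hck : ∀ i ∈ c ++ [k], i < D.rank := hgc.lt
    have h1 : (nG D F k)⁻¹ * u'' * nG D F k ∈ UnegW D F (c ++ [k]) := by
      have := conj_unegW_le (F := F) hD hgc1.lt hk hposc ⟨u'', hu'', rfl⟩
      have e2 : (MulAut.conj (nG D F k)⁻¹).toMonoidHom u'' = (nG D F k)⁻¹ * u'' * nG D F k := by
        show (nG D F k)⁻¹ * u'' * (nG D F k)⁻¹⁻¹ = _
        rw [inv_inv]
      rwa [e2] at this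
    have h2 : g ∈ UnegW D F (c ++ [k]) := by
      apply Subgroup.subset_closure
      refine ⟨D.simple k, t, (refl_pos J (checkRP_of_mem hD) hk).1, hpk, ?_, hgm⟩
      rw [reflWord_append]
      have h3 : reflWord D [k] (D.simple k) = D.neg (D.simple k) := reflectRoot_simple k
      have hσlt := reflWord_lt J H.nS hgc1.lt hpk
      rw [h3, reflWord_neg J H.nS hgc1.lt hpk, V.neg_eq _ hσlt]
      have := V.even
      omega
    refine ⟨v, hv, (nG D F k)⁻¹ * u'' * nG D F k * g, mul_mem h1 h2, ?_⟩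
    rw [e, e₁, nP_append, nP_cons, nP_nil, mul_one]
    group

/-- `U_{w_c}⁻ ≤ U_{w w_c}⁻` when the lengths add -/
theorem unegW_le_append (hD : D ∈ [chevG2, chevB2, chevD4, chevF4, chevE6, chevE7, chevE8])
    {l : List ℕ} : ∀ {c : List ℕ}, GoodW D (l ++ c) → GoodW D c →
      UnegW D F c ≤ UnegW D F (l ++ c) := by
  have V := valid0_of_mem hD
  have J := validJ_of_mem hD
  have H := validH_of_mem hD
  intro c
  induction c using List.reverseRecOn with
  | nil =>
    intro _ _ u hu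
    have : UnegW D F ([] : List ℕ) = ⊥ := by
      unfold UnegW
      rw [Subgroup.closure_eq_bot_iff]
      rintro x ⟨r, t, h1, h2, h3, _⟩
      exfalso
      change r < D.nroots / 2 at h3
      omega
    rw [this, Subgroup.mem_bot] at hu
    rw [hu]; exact one_mem _
  | append_singleton c k ih =>
    intro hg hgc u hu
    rw [← List.append_assoc] at hg ⊢
    obtain ⟨hg1, hk, hpos⟩ := hg.of_concat
    obtain ⟨hgc1, _, hposc⟩ := hgc.of_concat
    obtain ⟨v₁, hv₁, g, t, hgm, e⟩ := unegW_concat_decomp hD hgc1 hk hposc hu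
    have hpk := (J.S k hk).1
    have h1 : (nG D F k)⁻¹ * v₁ * nG D F k ∈ UnegW D F (l ++ c ++ [k]) := by
      have := conj_unegW_le (F := F) hD hg1.lt hk hpos ⟨v₁, ih hg1 hgc1 hv₁, rfl⟩
      have e2 : (MulAut.conj (nG D F k)⁻¹).toMonoidHom v₁ = (nG D F k)⁻¹ * v₁ * nG D F k := by
        show (nG D F k)⁻¹ * v₁ * (nG D F k)⁻¹⁻¹ = _
        rw [inv_inv]
      rwa [e2] at this
    have h2 : g ∈ UnegW D F (l ++ c ++ [k]) := by
      apply Subgroup.subset_closure
      refine ⟨D.simple k, t, (refl_pos J (checkRP_of_mem hD) hk).1, hpk, ?_, hgm⟩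
      rw [reflWord_append]
      have h3 : reflWord D [k] (D.simple k) = D.neg (D.simple k) := reflectRoot_simple k
      have hσlt := reflWord_lt J H.nS hg1.lt hpk
      rw [h3, reflWord_neg J H.nS hg1.lt hpk, V.neg_eq _ hσlt]
      have := V.even
      omega
    rw [e]
    exact mul_mem h1 h2

end

namespace XEnd

variable {D : ChevalleyDatum} {F : Type*} [Field F] {σ : GL D.Idx F → GL D.Idx F}
  {bar ρ E : ℕ → ℕ}

/-- the subgroup of fixed points -/
def fix (X : XEnd D F σ bar ρ E) : Subgroup (GL D.Idx F) where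
  carrier := {g | g ∈ D.group F ∧ σ g = g}
  one_mem' := ⟨one_mem _, X.map_one⟩
  mul_mem' := by
    rintro a b ⟨ha, ha'⟩ ⟨hb, hb'⟩
    exact ⟨mul_mem ha hb, by rw [X.mul a b ha hb, ha', hb']⟩
  inv_mem' := by
    rintro a ⟨ha, ha'⟩
    exact ⟨inv_mem ha, by rw [X.map_inv ha, ha']⟩

theorem mem_fix (X : XEnd D F σ bar ρ E) {g : GL D.Idx F} :
    g ∈ X.fix ↔ g ∈ D.group F ∧ σ g = g := Iff.rfl

theorem fix_le_group (X : XEnd D F σ bar ρ E) : X.fix ≤ D.group F := fun _ h => h.1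

theorem flatten_lt {ρ : ℕ → ℕ} {Cs : List (List ℕ)} (hCs : ∀ c ∈ Cs, XCls D F ρ c) :
    ∀ i ∈ Cs.flatten, i < D.rank := by
  intro i hi
  rw [List.mem_flatten] at hi
  obtain ⟨c, hc, hi⟩ := hi
  exact (hCs c hc).lt i hi

/-- symmetric words act symmetrically -/
theorem reflWord_flatten_sym (X : XEnd D F σ bar ρ E) : ∀ {Cs : List (List ℕ)},
    (∀ c ∈ Cs, XCls D F ρ c) → ∀ r < D.nroots,
      reflWord D (Cs.flatten.map ρ) r = reflWord D Cs.flatten r := by
  have VJ := validJ_of_mem X.hD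
  have H := validH_of_mem X.hD
  intro Cs
  induction Cs with
  | nil => intro _ r _; rfl
  | cons c Cs ih =>
    intro hCs r hr
    have hc := hCs c List.mem_cons_self
    have hCs' : ∀ c' ∈ Cs, XCls D F ρ c' := fun c' h => hCs c' (List.mem_cons_of_mem _ h)
    rw [List.flatten_cons, List.map_append, reflWord_append, reflWord_append, ih hCs' r hr,
      hc.sym _ (reflWord_lt VJ H.nS (flatten_lt hCs') hr)]

/-- the endomorphism preserves `U_w⁻` for a symmetric word -/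
theorem mem_unegW_sym (X : XEnd D F σ bar ρ E) {Cs : List (List ℕ)}
    (hCs : ∀ c ∈ Cs, XCls D F ρ c) {g : GL D.Idx F} (hg : g ∈ UnegW D F Cs.flatten) :
    σ g ∈ UnegW D F Cs.flatten := by
  have := X.mem_unegW (flatten_lt hCs) hg
  rwa [unegW_congr (X.reflWord_flatten_sym hCs)] at this

theorem mem_unegW_cls (X : XEnd D F σ bar ρ E) {c : List ℕ} (hc : XCls D F ρ c)
    {g : GL D.Idx F} (hg : g ∈ UnegW D F c) : σ g ∈ UnegW D F c := by
  have := X.mem_unegW hc.lt hg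
  rwa [unegW_congr hc.sym] at this

theorem unegW_le_group {l : List ℕ} (hD : D ∈ [chevG2, chevB2, chevD4, chevF4, chevE6, chevE7, chevE8])
    (hl : ∀ i ∈ l, i < D.rank) : UnegW D F l ≤ D.group F :=
  (unegW_le_pos hD hl).trans pos_le_group

/-- the endomorphism fixes `n_w` for a symmetric word -/
theorem map_nP_sym (X : XEnd D F σ bar ρ E) :
    ∀ {Cs : List (List ℕ)}, (∀ c ∈ Cs, XCls D F ρ c) → σ (nP D F Cs.flatten) = nP D F Cs.flatten := by
  intro Cs
  induction Cs with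
  | nil => intro _; rw [List.flatten_nil, nP_nil, X.map_one]
  | cons c Cs ih =>
    intro hCs
    have hc := hCs c List.mem_cons_self
    have hCs' : ∀ c' ∈ Cs, XCls D F ρ c' := fun c' h => hCs c' (List.mem_cons_of_mem _ h)
    rw [List.flatten_cons, nP_append, X.mul _ _ (X.nP_mem_group hc.lt)
      (X.nP_mem_group (flatten_lt hCs')), X.map_nP hc.lt, hc.nP_sym, ih hCs']

/-- the fixed points of `U_{w w_c}⁻` -/
theorem fix_decomp (X : XEnd D F σ bar ρ E)
    {Cs : List (List ℕ)} (hCs : ∀ c ∈ Cs, XCls D F ρ c) {c : List ℕ} (hc : XCls D F ρ c)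
    (hg : GoodW D (Cs.flatten ++ c)) {u : GL D.Idx F}
    (hu : u ∈ UnegW D F (Cs.flatten ++ c)) (hfix : σ u = u) :
    ∃ v ∈ UnegW D F Cs.flatten, σ v = v ∧ ∃ u' ∈ UnegW D F c, σ u' = u' ∧
      u = (nP D F c)⁻¹ * v * nP D F c * u' := by
  have hD := X.hD
  obtain ⟨v, hv, u', hu', e⟩ := unegW_append_decomp hD hg hc.good u hu
  have hlt := flatten_lt hCs
  have hvG := unegW_le_group hD hlt hv
  have hu'G := unegW_le_group hD hc.lt hu'
  have hnG := X.nP_mem_group (F := F) hc.lt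
  have hσn : σ (nP D F c) = nP D F c := by rw [X.map_nP hc.lt, hc.nP_sym]
  have e' : u = (nP D F c)⁻¹ * σ v * nP D F c * σ u' := by
    have h1 : σ u = σ ((nP D F c)⁻¹ * v * nP D F c * u') := by rw [← e]
    rw [hfix, X.mul _ _ (mul_mem (mul_mem (inv_mem hnG) hvG) hnG) hu'G,
      X.mul _ _ (mul_mem (inv_mem hnG) hvG) hnG, X.mul _ _ (inv_mem hnG) hvG,
      X.map_inv hnG, hσn] at h1
    exact h1
  have hsv := X.mem_unegW_sym hCs hv
  have hsu' := X.mem_unegW_cls hc hu'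
  obtain ⟨e1, e2⟩ := unegW_concat_unique hD (unegW_le_pos hD hlt hv) (unegW_le_pos hD hlt hsv)
    (conj_unegW_neg hD hc.lt hu') (conj_unegW_neg hD hc.lt hsu') (e.symm.trans e')
  exact ⟨v, hv, e1.symm, u', hu', e2.symm, e⟩

/-- the fixed points of `U_w⁻` lie in any subgroup containing those of the classes -/
theorem fix_le (X : XEnd D F σ bar ρ E)
    {G1 : Subgroup (GL D.Idx F)} :
    ∀ {Cs : List (List ℕ)}, (∀ c ∈ Cs, XCls D F ρ c) → GoodW D Cs.flatten →
      (∀ c ∈ Cs, UnegW D F c ⊓ X.fix ≤ G1 ∧ nP D F c ∈ G1) →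
      UnegW D F Cs.flatten ⊓ X.fix ≤ G1 := by
  intro Cs
  induction Cs using List.reverseRecOn with
  | nil =>
    intro _ _ _ u hu
    have h1 := (Subgroup.mem_inf.mp hu).1
    have : UnegW D F ([] : List (List ℕ)).flatten = ⊥ := by
      unfold UnegW
      rw [Subgroup.closure_eq_bot_iff]
      rintro x ⟨r, t, h1, h2, h3, _⟩
      exfalso
      change r < D.nroots / 2 at h3
      omega
    rw [this, Subgroup.mem_bot] at h1
    rw [h1]
    exact one_mem _
  | append_singleton Cs c ih =>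
    intro hCs hg hG u hu
    rw [List.flatten_append, List.flatten_singleton] at hg hu
    have hCs' : ∀ c' ∈ Cs, XCls D F ρ c' := fun c' h => hCs c' (by simp [h])
    have hc := hCs c (by simp)
    obtain ⟨hu1, hu2⟩ := Subgroup.mem_inf.mp hu
    obtain ⟨v, hv, hvf, u', hu', hu'f, e⟩ := X.fix_decomp hCs' hc hg hu1 hu2.2
    have hlt := flatten_lt hCs'
    have hv' := ih hCs' hg.of_append (fun c' h => hG c' (by simp [h]))
      (Subgroup.mem_inf.mpr ⟨hv, unegW_le_group X.hD hlt hv, hvf⟩)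
    obtain ⟨hGc, hnc⟩ := hG c (by simp)
    have hu'G := hGc (Subgroup.mem_inf.mpr ⟨hu', unegW_le_group X.hD hc.lt hu', hu'f⟩)
    rw [e]
    exact mul_mem (mul_mem (mul_mem (inv_mem hnc) hv') hnc) hu'G

/-- the number of fixed points of `U_{w w_c}⁻` -/
theorem card_fix_step (X : XEnd D F σ bar ρ E)
   
    {Cs : List (List ℕ)} (hCs : ∀ c ∈ Cs, XCls D F ρ c) {c : List ℕ} (hc : XCls D F ρ c)
    (hg : GoodW D (Cs.flatten ++ c)) :
    Nat.card ↥(UnegW D F (Cs.flatten ++ c) ⊓ X.fix) =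
      Nat.card ↥(UnegW D F Cs.flatten ⊓ X.fix) * Nat.card ↥(UnegW D F c ⊓ X.fix) := by
  have hD := X.hD
  have hlt := flatten_lt hCs
  have hnG := X.nP_mem_group (F := F) hc.lt
  have hσn : σ (nP D F c) = nP D F c := by rw [X.map_nP hc.lt, hc.nP_sym]
  have hnf : nP D F c ∈ X.fix := ⟨hnG, hσn⟩
  have hmem : ∀ (p : ↥(UnegW D F Cs.flatten ⊓ X.fix) × ↥(UnegW D F c ⊓ X.fix)),
      (nP D F c)⁻¹ * (p.1 : GL D.Idx F) * nP D F c * (p.2 : GL D.Idx F) ∈
        UnegW D F (Cs.flatten ++ c) ⊓ X.fix := by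
    rintro ⟨⟨v, hv⟩, ⟨u', hu'⟩⟩
    obtain ⟨hv1, hv2⟩ := Subgroup.mem_inf.mp hv
    obtain ⟨hu1, hu2⟩ := Subgroup.mem_inf.mp hu'
    refine Subgroup.mem_inf.mpr ⟨mul_mem (conj_unegW_le_cls hD hg v hv1) ?_,
      mul_mem (mul_mem (mul_mem (inv_mem hnf) hv2) hnf) hu2⟩
    exact unegW_le_append hD hg hc.good hu1
  rw [← Nat.card_prod]
  symm
  apply Nat.card_eq_of_bijective (fun p => ⟨_, hmem p⟩)
  constructor
  · rintro ⟨⟨v, hv⟩, ⟨u', hu'⟩⟩ ⟨⟨v', hv'⟩, ⟨u'', hu''⟩⟩ e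
    have e' := congrArg Subtype.val e
    simp only at e'
    obtain ⟨hv1, hv2⟩ := Subgroup.mem_inf.mp hv
    obtain ⟨hv1', hv2'⟩ := Subgroup.mem_inf.mp hv'
    obtain ⟨hu1, hu2⟩ := Subgroup.mem_inf.mp hu'
    obtain ⟨hu1', hu2'⟩ := Subgroup.mem_inf.mp hu''
    obtain ⟨e1, e2⟩ := unegW_concat_unique hD (unegW_le_pos hD hlt hv1)
      (unegW_le_pos hD hlt hv1') (conj_unegW_neg hD hc.lt hu1) (conj_unegW_neg hD hc.lt hu1') e'
    subst e1
    subst e2
    rfl
  · rintro ⟨u, hu⟩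
    obtain ⟨hu1, hu2⟩ := Subgroup.mem_inf.mp hu
    obtain ⟨v, hv, hvf, u', hu', hu'f, e⟩ := X.fix_decomp hCs hc hg hu1 hu2.2
    refine ⟨⟨⟨v, Subgroup.mem_inf.mpr ⟨hv, unegW_le_group hD hlt hv, hvf⟩⟩,
      ⟨u', Subgroup.mem_inf.mpr ⟨hu', unegW_le_group hD hc.lt hu', hu'f⟩⟩⟩, ?_⟩
    apply Subtype.ext
    exact e.symm

/-- the number of fixed points of `U_w⁻` for a symmetric good word -/
theorem card_fix (X : XEnd D F σ bar ρ E)
    :
    ∀ {Cs : List (List ℕ)}, (∀ c ∈ Cs, XCls D F ρ c) → GoodW D Cs.flatten →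
      Nat.card ↥(UnegW D F Cs.flatten ⊓ X.fix) =
        (Cs.map fun c => Nat.card ↥(UnegW D F c ⊓ X.fix)).prod := by
  intro Cs
  induction Cs using List.reverseRecOn with
  | nil =>
    intro _ _
    have : UnegW D F ([] : List (List ℕ)).flatten = ⊥ := by
      unfold UnegW
      rw [Subgroup.closure_eq_bot_iff]
      rintro x ⟨r, t, h1, h2, h3, _⟩
      exfalso
      change r < D.nroots / 2 at h3
      omega
    rw [this, bot_inf_eq]
    simp
  | append_singleton Cs c ih =>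
    intro hCs hg
    rw [List.flatten_append, List.flatten_singleton] at hg ⊢
    have hCs' : ∀ c' ∈ Cs, XCls D F ρ c' := fun c' h => hCs c' (by simp [h])
    rw [X.card_fix_step hCs' (hCs c (by simp)) hg, ih hCs' hg.of_append, List.map_append,
      List.prod_append, List.map_singleton, List.prod_singleton]

end XEnd

end Cfsg.Agent.Lib.Helper8.Chev
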