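import Cfsg.Agent.Lib.Helper8.ChevXT3

set_option autoImplicit false

/-! The Bruhat decomposition of the fixed points of an abstract twisting endomorphism. -/

namespace Cfsg.Agent.Lib.Helper8.Chev

open Cfsg.Lie Matrix

namespace XEnd

variable {D : ChevalleyDatum} {F : Type*} [Field F] {σ : GL D.Idx F → GL D.Idx F}
  {bar ρ E : ℕ → ℕ}

/-- a fixed element of `B` is a product of fixed elements of `U` and `H` -/
theorem borel_fix_decomp (X : XEnd D F σ bar ρ E) {b : GL D.Idx F}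
    (hb : b ∈ D.borelSubgroup F) (hbf : σ b = b) :
    ∃ u₁ ∈ D.posUnipotent F ⊓ X.fix, ∃ h₁ ∈ D.diagonalSubgroup F ⊓ X.fix, b = u₁ * h₁ := by
  have hD := X.hD
  have V := valid0_of_mem hD
  have V1 := valid1_of_mem hD
  have VJ := validJ_of_mem hD
  have H := validH_of_mem hD
  have P := posP_of_mem hD
  have Tr := triP_of_mem hD
  obtain ⟨u₁, hu₁, h₁, hh₁, eb⟩ := borel_decomp VJ V1 H hb
  have hu₁G := pos_le_group (F := F) hu₁
  have hh₁G := diagonal_le_group (F := F) V V1 hh₁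
  have eb' : u₁ * h₁ = σ u₁ * σ h₁ := by
    rw [← X.mul _ _ hu₁G hh₁G, ← eb]; exact hbf.symm
  have hsu₁ := X.mem_pos hu₁
  have hsh₁ := X.mem_diagonal hh₁
  have hx : (σ u₁)⁻¹ * u₁ ∈ D.posUnipotent F ⊓ D.diagonalSubgroup F := by
    refine Subgroup.mem_inf.mpr ⟨mul_mem (inv_mem hsu₁) hu₁, ?_⟩
    have : (σ u₁)⁻¹ * u₁ = σ h₁ * h₁⁻¹ := by
      calc (σ u₁)⁻¹ * u₁ = (σ u₁)⁻¹ * (u₁ * h₁) * h₁⁻¹ := by group
        _ = (σ u₁)⁻¹ * (σ u₁ * σ h₁) * h₁⁻¹ := by rw [eb']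
        _ = _ := by group
    rw [this]
    exact mul_mem hsh₁ (inv_mem hh₁)
  rw [pos_inf_diagonal VJ V1 H Tr P, Subgroup.mem_bot, inv_mul_eq_one] at hx
  have hhf : σ h₁ = h₁ := by
    have := eb'
    rw [hx] at this
    exact (mul_left_cancel this).symm
  exact ⟨u₁, Subgroup.mem_inf.mpr ⟨hu₁, hu₁G, hx⟩, h₁, Subgroup.mem_inf.mpr ⟨hh₁, hh₁G, hhf⟩, eb⟩

/-- the Bruhat decomposition of a fixed point of the twisting endomorphism -/
theorem tw_bruhat (X : XEnd D F σ bar ρ E)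
    {cls : List (List ℕ)}
    (hC : ∀ c ∈ cls, XCls D F ρ c) (hcov : ∀ k < D.rank, ∃ c ∈ cls, k ∈ c)
    {g : GL D.Idx F} (hg : g ∈ X.fix) :
    ∃ Cs : List (List ℕ), (∀ c ∈ Cs, c ∈ cls) ∧ GoodW D Cs.flatten ∧
      ∃ u₁ ∈ D.posUnipotent F ⊓ X.fix, ∃ h₁ ∈ D.diagonalSubgroup F ⊓ X.fix,
        ∃ u ∈ UnegW D F Cs.flatten ⊓ X.fix, g = u₁ * h₁ * nP D F Cs.flatten * u := by
  have hD := X.hD
  have V := valid0_of_mem hD
  have V1 := valid1_of_mem hD
  have VJ := validJ_of_mem hD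
  have H := validH_of_mem hD
  obtain ⟨hgG, hfix⟩ := hg
  obtain ⟨b, hb, l, hl, u, hu, e⟩ := bruhat_exists_word hD hgG
  have hlρ := X.map_lt hl
  have hbG := borel_le_group (F := F) V V1 hb
  have huG := unegW_le_group (F := F) hD hl hu
  have hnG := X.nP_mem_group (F := F) hl
  -- the word of `g` is symmetric
  have e1 : g = σ b * nP D F (l.map ρ) * σ u := by
    have h1 : σ g = σ (b * nP D F l * u) := by rw [← e]
    rw [hfix, X.mul _ _ (mul_mem hbG hnG) huG, X.mul _ _ hbG hnG, X.map_nP hl] at h1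
    exact h1
  have hsu := X.mem_unegW hl hu
  obtain ⟨hH, -⟩ := bruhat_unique_chev hD hb (X.mem_borel hb)
    (nP_mem_monomial hD hl) (nP_mem_monomial hD hlρ) (unegW_le_unegS hD hl hu)
    (unegW_le_unegS hD hlρ hsu) (e.symm.trans e1)
  have hρl := reflWord_eq_of_mem_diagonal hD hl hlρ hH
  have hsym : ∀ r < D.nroots, bar (reflWord D l r) = reflWord D l (bar r) := by
    intro r hr
    rw [← X.reflWord_bar hl hr, hρl _ (X.bar_lt r hr)]
  obtain ⟨Cs, hCs, hgood, he⟩ := X.sym_word hC hcov _ l rfl hl hsym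
  have hCs' : ∀ c ∈ Cs, XCls D F ρ c := fun c hc => hC c (hCs c hc)
  have hls := flatten_lt hCs'
  have h₀ := nP_mul_inv_mem_diagonal (F := F) hD hl hls (fun r hr => (he r hr).symm)
  have hu' : u ∈ UnegW D F Cs.flatten := by
    rw [unegW_congr he]; exact hu
  have hb' : b * (nP D F l * (nP D F Cs.flatten)⁻¹) ∈ D.borelSubgroup F :=
    mul_mem hb (diagonal_le_borel h₀)
  have hb'G := borel_le_group (F := F) V V1 hb'
  have hnsG := X.nP_mem_group (F := F) hls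
  have e2 : g = b * (nP D F l * (nP D F Cs.flatten)⁻¹) * nP D F Cs.flatten * u := by
    rw [e]; group
  -- now apply the endomorphism again
  have e3 : g = σ (b * (nP D F l * (nP D F Cs.flatten)⁻¹)) * nP D F Cs.flatten * σ u := by
    have h1 : σ g = σ (b * (nP D F l * (nP D F Cs.flatten)⁻¹) * nP D F Cs.flatten * u) := by
      rw [← e2]
    rw [hfix, X.mul _ _ (mul_mem hb'G hnsG) huG, X.mul _ _ hb'G hnsG,
      X.map_nP_sym hCs'] at h1
    exact h1
  have hsu' := X.mem_unegW_sym hCs' hu'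
  obtain ⟨-, himp⟩ := bruhat_unique_chev hD hb' (X.mem_borel hb')
    (nP_mem_monomial hD hls) (nP_mem_monomial hD hls) (unegW_le_unegS hD hls hu')
    (unegW_le_unegS hD hls hsu') (e2.symm.trans e3)
  obtain ⟨hbf, huf⟩ := himp rfl
  obtain ⟨u₁, hu₁, h₁, hh₁, eb⟩ := X.borel_fix_decomp hb' hbf.symm
  refine ⟨Cs, hCs, hgood, u₁, hu₁, h₁, hh₁, u, Subgroup.mem_inf.mpr ⟨hu', huG, huf.symm⟩, ?_⟩
  rw [← eb]
  exact e2

/-- a fixed element of `N` is given by a symmetric word -/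
theorem mono_fix_sym (X : XEnd D F σ bar ρ E) {n : GL D.Idx F}
    (hn : n ∈ D.monomialSubgroup F) (hnf : σ n = n) :
    ∃ h₀ ∈ D.diagonalSubgroup F, ∃ l : List ℕ, (∀ i ∈ l, i < D.rank) ∧ n = h₀ * nP D F l ∧
      ∀ r < D.nroots, bar (reflWord D l r) = reflWord D l (bar r) := by
  have hD := X.hD
  have V := valid0_of_mem hD
  have V1 := valid1_of_mem hD
  have VJ := validJ_of_mem hD
  have H := validH_of_mem hD
  obtain ⟨h₀, hh₀, l, hl, e⟩ := monomial_form hD hn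
  have hlρ := X.map_lt hl
  have hh₀G := diagonal_le_group (F := F) V V1 hh₀
  have hnG := X.nP_mem_group (F := F) hl
  have e1 : h₀ * nP D F l = σ h₀ * nP D F (l.map ρ) := by
    have h1 : σ n = σ (h₀ * nP D F l) := by rw [← e]
    rw [hnf, X.mul _ _ hh₀G hnG, X.map_nP hl] at h1
    rw [← e]; exact h1
  have hH : (nP D F l)⁻¹ * nP D F (l.map ρ) ∈ D.diagonalSubgroup F := by
    have e2 : (nP D F l)⁻¹ * nP D F (l.map ρ) =
        (nP D F l)⁻¹ * ((σ h₀)⁻¹ * h₀) * (nP D F l)⁻¹⁻¹ := by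
      calc (nP D F l)⁻¹ * nP D F (l.map ρ)
          = (nP D F l)⁻¹ * (σ h₀)⁻¹ * (σ h₀ * nP D F (l.map ρ)) := by group
        _ = (nP D F l)⁻¹ * (σ h₀)⁻¹ * (h₀ * nP D F l) := by rw [e1]
        _ = _ := by group
    rw [e2]
    exact (Subgroup.mem_normalizer_iff.mp (monomial_le_normalizer hD
      (inv_mem (nP_mem_monomial hD hl))) _).mp
      (mul_mem (inv_mem (X.mem_diagonal hh₀)) hh₀)
  have hρl := reflWord_eq_of_mem_diagonal hD hl hlρ hH
  refine ⟨h₀, hh₀, l, hl, e, fun r hr => ?_⟩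
  rw [← X.reflWord_bar hl hr, hρl _ (X.bar_lt r hr)]

end XEnd

end Cfsg.Agent.Lib.Helper8.Chev
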