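import Cfsg.Agent.Lib.Helper8.ChevXT4

set_option autoImplicit false

/-! Abstract twisted groups: the subgroup generated by the fixed points of the class subgroups,
and its Bruhat decomposition. -/

namespace Cfsg.Agent.Lib.Helper8.Chev

open Cfsg.Lie Matrix

/-- `G1` is a twisted group of the twisting endomorphism `σ` with classes `cls` -/
structure XGrp {D : ChevalleyDatum} {F : Type*} [Field F] {σ : GL D.Idx F → GL D.Idx F}
    {bar ρ E : ℕ → ℕ} (X : XEnd D F σ bar ρ E) (cls : List (List ℕ))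
    (G1 : Subgroup (GL D.Idx F)) : Prop where
  cls_ok : ∀ c ∈ cls, XCls D F ρ c
  cover : ∀ k < D.rank, ∃ c ∈ cls, k ∈ c
  le_fix : G1 ≤ X.fix
  cls_fix : ∀ c ∈ cls, UnegW D F c ⊓ X.fix ≤ G1
  cls_n : ∀ c ∈ cls, nP D F c ∈ G1
  w0 : ∃ Cs : List (List ℕ), (∀ c ∈ Cs, c ∈ cls) ∧ GoodW D Cs.flatten ∧
    ∀ r, D.nroots / 2 ≤ r → r < D.nroots → reflWord D Cs.flatten r < D.nroots / 2

namespace XGrp

variable {D : ChevalleyDatum} {F : Type*} [Field F] {σ : GL D.Idx F → GL D.Idx F}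
  {bar ρ E : ℕ → ℕ} {X : XEnd D F σ bar ρ E} {cls : List (List ℕ)}
  {G1 : Subgroup (GL D.Idx F)}

theorem hD (_ : XGrp X cls G1) : D ∈ [chevG2, chevB2, chevD4, chevF4, chevE6, chevE7, chevE8] :=
  X.hD

theorem le_grp (Y : XGrp X cls G1) : G1 ≤ D.group F := Y.le_fix.trans X.fix_le_group

theorem clsOk (Y : XGrp X cls G1) {Cs : List (List ℕ)} (hCs : ∀ c ∈ Cs, c ∈ cls) :
    ∀ c ∈ Cs, XCls D F ρ c := fun c hc => Y.cls_ok c (hCs c hc)

theorem flatten_lt (Y : XGrp X cls G1) {Cs : List (List ℕ)} (hCs : ∀ c ∈ Cs, c ∈ cls) :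
    ∀ i ∈ Cs.flatten, i < D.rank := XEnd.flatten_lt (Y.clsOk hCs)

theorem unegW_fix_le (Y : XGrp X cls G1) {Cs : List (List ℕ)} (hCs : ∀ c ∈ Cs, c ∈ cls)
    (hg : GoodW D Cs.flatten) : UnegW D F Cs.flatten ⊓ X.fix ≤ G1 :=
  X.fix_le (Y.clsOk hCs) hg (fun c hc => ⟨Y.cls_fix c (hCs c hc), Y.cls_n c (hCs c hc)⟩)

theorem pos_fix_le (Y : XGrp X cls G1) : D.posUnipotent F ⊓ X.fix ≤ G1 := by
  obtain ⟨Cs, hCs, hg, hfull⟩ := Y.w0
  rw [← unegW_eq_pos F (posP_of_mem X.hD) hfull]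
  exact Y.unegW_fix_le hCs hg

theorem nP_mem (Y : XGrp X cls G1) : ∀ {Cs : List (List ℕ)}, (∀ c ∈ Cs, c ∈ cls) →
    nP D F Cs.flatten ∈ G1 := by
  intro Cs
  induction Cs with
  | nil => intro _; rw [List.flatten_nil, nP_nil]; exact one_mem _
  | cons c Cs ih =>
    intro hCs
    rw [List.flatten_cons, nP_append]
    exact mul_mem (Y.cls_n c (hCs c List.mem_cons_self))
      (ih (fun c' hc' => hCs c' (List.mem_cons_of_mem _ hc')))

theorem unegW_inf_eq (Y : XGrp X cls G1) {Cs : List (List ℕ)} (hCs : ∀ c ∈ Cs, c ∈ cls)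
    (hg : GoodW D Cs.flatten) :
    UnegW D F Cs.flatten ⊓ G1 = UnegW D F Cs.flatten ⊓ X.fix := by
  apply le_antisymm
  · exact inf_le_inf_left _ Y.le_fix
  · exact le_inf inf_le_left (Y.unegW_fix_le hCs hg)

theorem pos_inf_eq (Y : XGrp X cls G1) : D.posUnipotent F ⊓ G1 = D.posUnipotent F ⊓ X.fix := by
  apply le_antisymm
  · exact inf_le_inf_left _ Y.le_fix
  · exact le_inf inf_le_left Y.pos_fix_le

/-- the Bruhat decomposition of the twisted group -/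
theorem bruhat (Y : XGrp X cls G1) {g : GL D.Idx F} (hg : g ∈ G1) :
    ∃ Cs : List (List ℕ), (∀ c ∈ Cs, c ∈ cls) ∧ GoodW D Cs.flatten ∧
      ∃ u₁ ∈ D.posUnipotent F ⊓ G1, ∃ h₁ ∈ D.diagonalSubgroup F ⊓ G1,
        ∃ u ∈ UnegW D F Cs.flatten ⊓ G1, g = u₁ * h₁ * nP D F Cs.flatten * u := by
  obtain ⟨Cs, hCs, hgood, u₁, hu₁, h₁, hh₁, u, hu, e⟩ :=
    X.tw_bruhat Y.cls_ok Y.cover (Y.le_fix hg)
  have h1 := Y.pos_fix_le hu₁
  have h2 := Y.unegW_fix_le hCs hgood hu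
  have h3 := Y.nP_mem hCs
  have h4 : h₁ ∈ G1 := by
    have : h₁ = u₁⁻¹ * g * u⁻¹ * (nP D F Cs.flatten)⁻¹ := by rw [e]; group
    rw [this]
    exact mul_mem (mul_mem (mul_mem (inv_mem h1) hg) (inv_mem h2)) (inv_mem h3)
  exact ⟨Cs, hCs, hgood, u₁, Subgroup.mem_inf.mpr ⟨(Subgroup.mem_inf.mp hu₁).1, h1⟩, h₁,
    Subgroup.mem_inf.mpr ⟨(Subgroup.mem_inf.mp hh₁).1, h4⟩, u,
    Subgroup.mem_inf.mpr ⟨(Subgroup.mem_inf.mp hu).1, h2⟩, e⟩

/-- `B ∩ G¹ = (U ∩ G¹)(H ∩ G¹)` -/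
theorem borel_decomp (Y : XGrp X cls G1) {b : GL D.Idx F}
    (hb : b ∈ D.borelSubgroup F ⊓ G1) :
    ∃ u₁ ∈ D.posUnipotent F ⊓ G1, ∃ h₁ ∈ D.diagonalSubgroup F ⊓ G1, b = u₁ * h₁ := by
  obtain ⟨hb1, hb2⟩ := Subgroup.mem_inf.mp hb
  obtain ⟨u₁, hu₁, h₁, hh₁, e⟩ := X.borel_fix_decomp hb1 (Y.le_fix hb2).2
  have h1 := Y.pos_fix_le hu₁
  have h4 : h₁ ∈ G1 := by
    have : h₁ = u₁⁻¹ * b := by rw [e]; group
    rw [this]
    exact mul_mem (inv_mem h1) hb2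
  exact ⟨u₁, Subgroup.mem_inf.mpr ⟨(Subgroup.mem_inf.mp hu₁).1, h1⟩, h₁,
    Subgroup.mem_inf.mpr ⟨(Subgroup.mem_inf.mp hh₁).1, h4⟩, e⟩

/-- `|B ∩ G¹| = |U ∩ G¹| |H ∩ G¹|` -/
theorem card_borel (Y : XGrp X cls G1) :
    Nat.card ↥(D.borelSubgroup F ⊓ G1) =
      Nat.card ↥(D.posUnipotent F ⊓ G1) * Nat.card ↥(D.diagonalSubgroup F ⊓ G1) := by
  have hD := X.hD
  have V1 := valid1_of_mem hD
  have VJ := validJ_of_mem hD
  have H := validH_of_mem hD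
  have P := posP_of_mem hD
  have Tr := triP_of_mem hD
  rw [← Nat.card_prod]
  symm
  let f : ↥(D.posUnipotent F ⊓ G1) × ↥(D.diagonalSubgroup F ⊓ G1) → ↥(D.borelSubgroup F ⊓ G1) :=
    fun x => ⟨(x.1 : GL D.Idx F) * (x.2 : GL D.Idx F), Subgroup.mem_inf.mpr
      ⟨mul_mem (pos_le_borel (Subgroup.mem_inf.mp x.1.2).1)
        (diagonal_le_borel (Subgroup.mem_inf.mp x.2.2).1),
        mul_mem (Subgroup.mem_inf.mp x.1.2).2 (Subgroup.mem_inf.mp x.2.2).2⟩⟩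
  have hf : Function.Bijective f := by
    constructor
    · rintro ⟨u, h⟩ ⟨u', h'⟩ hxy
      have e : (u : GL D.Idx F) * (h : GL D.Idx F) = (u' : GL D.Idx F) * (h' : GL D.Idx F) :=
        congrArg Subtype.val hxy
      have hm : (u' : GL D.Idx F)⁻¹ * (u : GL D.Idx F) ∈
          D.posUnipotent F ⊓ D.diagonalSubgroup F := by
        refine Subgroup.mem_inf.mpr ⟨mul_mem (inv_mem (Subgroup.mem_inf.mp u'.2).1)
          (Subgroup.mem_inf.mp u.2).1, ?_⟩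
        have : (u' : GL D.Idx F)⁻¹ * (u : GL D.Idx F) =
            (h' : GL D.Idx F) * (h : GL D.Idx F)⁻¹ := by
          rw [inv_mul_eq_iff_eq_mul, ← mul_assoc, ← e, mul_inv_cancel_right]
        rw [this]
        exact mul_mem (Subgroup.mem_inf.mp h'.2).1 (inv_mem (Subgroup.mem_inf.mp h.2).1)
      rw [pos_inf_diagonal VJ V1 H Tr P, Subgroup.mem_bot, inv_mul_eq_one] at hm
      have hu : u = u' := Subtype.ext hm.symm
      subst hu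
      have hh : h = h' := Subtype.ext (mul_left_cancel e)
      rw [hh]
    · rintro ⟨b, hb⟩
      obtain ⟨u, hu, h, hh, e⟩ := Y.borel_decomp hb
      exact ⟨⟨⟨u, hu⟩, ⟨h, hh⟩⟩, Subtype.ext e.symm⟩
  exact Nat.card_congr (Equiv.ofBijective f hf)

end XGrp

end Cfsg.Agent.Lib.Helper8.Chev
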