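import Cfsg.Agent.Lib.Helper8.Co3LocCore

/-!
# Splitting a stabiliser chain certificate into small kernel checks

`Helper28.BSGS.checkChain` is verified level by level; at each level the transversal entries and the
Schreier generators are checked in blocks of `s` entries, so that each `decide +kernel` stays small.
-/

set_option autoImplicit false

namespace Cfsg.Agent.Lib.Helper8.Co3Loc

open Cfsg.Agent.Lib.Helper28.BSGS

/-- the `i`-th block of `s` entries -/
def chunkL {α : Type} (s : ℕ) (l : List α) (i : ℕ) : List α := (l.drop (s * i)).take s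

theorem mem_chunkL {α : Type} {s : ℕ} (hs : 0 < s) {l : List α} {e : α} (he : e ∈ l) :
    ∃ i, s * i < l.length ∧ e ∈ chunkL s l i := by
  obtain ⟨k, hk, rfl⟩ := List.mem_iff_getElem.mp he
  have h0 : s * (k / s) + k % s = k := Nat.div_add_mod k s
  have hmod : k % s < s := Nat.mod_lt _ hs
  refine ⟨k / s, by omega, ?_⟩
  unfold chunkL
  rw [List.mem_iff_getElem]
  have h1 : k % s < ((l.drop (s * (k / s))).take s).length := by
    rw [List.length_take, List.length_drop]; omega
  refine ⟨k % s, h1, ?_⟩
  rw [List.getElem_take, List.getElem_drop]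
  congr 1

/-- a Boolean condition on all entries, checked block by block -/
theorem all_of_chunkL {α : Type} {s : ℕ} (hs : 0 < s) (l : List α) (f : α → Bool) (k : ℕ)
    (hlen : l.length ≤ s * k) (h : ∀ i, i < k → (chunkL s l i).all f = true) :
    ∀ e ∈ l, f e = true := by
  intro e he
  obtain ⟨i, hi, hmem⟩ := mem_chunkL hs he
  have hin : i < k := by
    by_contra hcon
    have : s * k ≤ s * i := Nat.mul_le_mul_left s (by omega)
    omega
  have := h i hin
  rw [List.all_eq_true] at this
  exact this e hmem

variable (n w s : ℕ)

/-- sifting the products of one generator with the transversal elements of one block -/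
def siftGenC (lv : CLevel) (rest : List CLevel) (g : ℕ × ℕ) (i : ℕ) : Bool :=
  (chunkL s lv.2 i).all fun e => siftB n w (lv :: rest) [g.1, e.2.1]

/-- the transversal entries of one block are valid -/
def entC (lv : CLevel) (i : ℕ) : Bool := (chunkL s lv.2 i).all (entryOK n w lv.1)

/-- the remaining conditions at one level -/
def levelPre (gens : List (ℕ × ℕ)) (lv : CLevel) : Bool :=
  decide (lv.1 < n) && headOK n w lv.1 lv.2 && nodupB (lv.2.map fun e => e.1) &&
    orbitOK w gens [lv.1] ((lv.2.map fun e => e.1).tail)

theorem levelOK_of (hs : 0 < s) (gens : List (ℕ × ℕ)) (lv : CLevel) (rest : List CLevel)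
    (m k : ℕ) (hm : gens.length = m) (hk : lv.2.length ≤ s * k)
    (h1 : levelPre n w gens lv = true)
    (he : ∀ j, j < k → entC n w s lv j = true)
    (h2 : ∀ i, i < m → ∀ j, j < k → siftGenC n w s lv rest (gens.getD i (0, 0)) j = true) :
    levelOK n w gens lv rest = true := by
  have h3 : gens.all (fun g => lv.2.all fun e => siftB n w (lv :: rest) [g.1, e.2.1]) =
      true := by
    rw [List.all_eq_true]
    intro g hg
    obtain ⟨i, hi, rfl⟩ := List.mem_iff_getElem.mp hg
    rw [List.all_eq_true]
    apply all_of_chunkL hs lv.2 _ k hk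
    intro j hj
    have := h2 i (hm ▸ hi) j hj
    rw [List.getD_eq_getElem _ _ hi] at this
    exact this
  have h4 : lv.2.all (entryOK n w lv.1) = true := by
    rw [List.all_eq_true]
    exact all_of_chunkL hs lv.2 _ k hk he
  unfold levelPre at h1
  simp only [Bool.and_eq_true] at h1
  obtain ⟨⟨⟨a1, a2⟩, a3⟩, a4⟩ := h1
  unfold levelOK
  rw [a1, a2, h4, a3, a4, h3]
  rfl

theorem checkChain_cons (gens : List (ℕ × ℕ)) (lv : CLevel) (rest : List CLevel)
    (h1 : levelOK n w gens lv rest = true)
    (h2 : checkChain n w (nextGens w gens lv.1) rest = true) :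
    checkChain n w gens (lv :: rest) = true := by
  unfold checkChain
  rw [h1, h2]
  rfl

theorem checkChain_nil (gens : List (ℕ × ℕ)) (h : gens.isEmpty = true) :
    checkChain n w gens [] = true := by
  unfold checkChain
  exact h

end Cfsg.Agent.Lib.Helper8.Co3Loc
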