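import Cfsg.Agent.Lib.Helper8.McLFusCore

/-!
# Order of a permutation group given by few generators

The generators are completed to a strong generating set by a straight-line program
(`McLFus.slpOK`), and the order is read off from a stabiliser chain certificate
(`Helper28.BSGS.checkChain`).
-/

set_option autoImplicit false

namespace Cfsg.Agent.Lib.Helper8.Co3Loc

open Cfsg.Agent.Lib.Helper28.BSGS Cfsg.Agent.Lib.Helper8.McLFus

variable (n w : ℕ) [NeZero n]

theorem subset_slpOut : ∀ (prog : List (ℕ × ℕ × ℕ × ℕ)) (acc : List (ℕ × ℕ)),
    ∀ e ∈ acc, e ∈ slpOut acc prog := by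
  intro prog
  induction prog with
  | nil => intro acc e he; exact he
  | cons ins rest ih =>
    intro acc e he
    unfold slpOut
    exact ih _ e (List.mem_append_left _ he)

omit [NeZero n] in
theorem genGroup_mono {xs ys : List (ℕ × ℕ)} (h : ∀ e ∈ xs, e ∈ ys) :
    genGroup n w xs ≤ genGroup n w ys := by
  unfold genGroup
  apply Subgroup.closure_mono
  intro s hs
  have hs' : s ∈ List.map (fun g => permOf n w g.1 g.2) xs := hs
  rw [List.mem_map] at hs'
  obtain ⟨e, he, rfl⟩ := hs'
  exact List.mem_map.mpr ⟨e, h e he, rfl⟩

/-- the order of the group generated by `gens`: the selected outputs `sel` of the straight-line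
program `prog` complete `gens` to a strong generating set for the chain `levels` -/
theorem card_of_slp_chain (gens : List (ℕ × ℕ)) (prog : List (ℕ × ℕ × ℕ × ℕ))
    (sel : List (ℕ × ℕ)) (levels : List CLevel) (N : ℕ)
    (hg : gensOK n w gens = true)
    (hp : slpOK n w gens prog = true)
    (hsel : (sel.all fun e => decide (e ∈ slpOut gens prog)) = true)
    (hc : checkChain n w (gens ++ sel) levels = true)
    (hN : codeSize levels = N) :
    Nat.card (genGroup n w gens) = N := by
  have hgood : GoodL n w (genGroup n w gens) (slpOut gens prog) :=
    slp_sound n w prog gens (goodL_gens n w hg) hp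
  have hall : GoodL n w (genGroup n w gens) (gens ++ sel) := by
    intro e he
    rcases List.mem_append.mp he with he | he
    · exact hgood e (subset_slpOut prog gens e he)
    · rw [List.all_eq_true] at hsel
      exact hgood e (of_decide_eq_true (hsel e he))
  have hSG : gensOK n w (gens ++ sel) = true := by
    unfold gensOK
    rw [List.all_eq_true]
    intro e he
    exact (hall e he).1
  have h1 : genGroup n w (gens ++ sel) ≤ genGroup n w gens := genGroup_le_of_good n w hall
  have h2 : genGroup n w gens ≤ genGroup n w (gens ++ sel) :=
    genGroup_mono n w fun e he => List.mem_append_left _ he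
  rw [le_antisymm h2 h1, (perm_main n w (gens ++ sel) levels hSG hc).1, hN]

end Cfsg.Agent.Lib.Helper8.Co3Loc
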