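import Cfsg.Agent.Lib.Helper25.FB.L01
import Cfsg.Agent.Lib.Helper25.FB.L04

/-!
# S3819 farm (helper25), SPARE of leaf L06 (helper8): Goldschmidt inside a solvable subgroup `L` of `G`
-/

set_option autoImplicit false

namespace Cfsg.Agent.Lib.Helper8.FBL06

open Cfsg Cfsg.Agent.Lib.Helper25.FB

variable {G : Type*} [Group G]

theorem inf_le_oq_of_solvable [Finite G] {q : ℕ} [Fact q.Prime] (L : Subgroup G) (hL : Group.IsSolvable ↥L)
    (z : G) (hzL : z ∈ L) (hz : IsPGroup q (Subgroup.zpowers z)) (Y : Subgroup G)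
    (hYz : Y ≤ Subgroup.centralizer {z})
    (hYn : ∀ c ∈ L, c ∈ Subgroup.centralizer {z} → c ∈ Subgroup.normalizer (Y : Set G))
    (hYq : (Nat.card Y).Coprime q) : Y ⊓ L ≤ oq q L := by
  have := hL
  -- the element `x = ⟨z, hzL⟩` of `↥L` is a `q`-element
  have hx : IsPGroup q (Subgroup.zpowers (⟨z, hzL⟩ : ↥L)) := by
    obtain ⟨n, hn⟩ := hz.exists_card_eq
    apply IsPGroup.of_card (n := n)
    rw [Nat.card_zpowers] at hn ⊢
    rw [← hn]
    exact Subgroup.orderOf_mk z hzL
  have hDc : Y.subgroupOf L ≤ Subgroup.centralizer {(⟨z, hzL⟩ : ↥L)} := by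
    intro y hy
    rw [Subgroup.mem_centralizer_iff]
    intro h hh
    rw [Set.mem_singleton_iff] at hh
    subst hh
    apply Subtype.ext
    have h1 := (Subgroup.mem_centralizer_iff.mp (hYz (Subgroup.mem_subgroupOf.mp hy))) z rfl
    simpa using h1
  have hDn : Subgroup.centralizer {(⟨z, hzL⟩ : ↥L)} ≤
      Subgroup.normalizer ((Y.subgroupOf L : Subgroup ↥L) : Set ↥L) := by
    intro c hc
    have hcz : (c : G) ∈ Subgroup.centralizer {z} := by
      rw [Subgroup.mem_centralizer_iff]
      intro h hh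
      rw [Set.mem_singleton_iff] at hh
      subst hh
      have h1 := (Subgroup.mem_centralizer_iff.mp hc) ⟨h, hzL⟩ rfl
      exact congrArg Subtype.val h1
    have hcn := hYn c c.2 hcz
    rw [Subgroup.mem_normalizer_iff] at hcn ⊢
    intro h
    rw [Subgroup.mem_subgroupOf, Subgroup.mem_subgroupOf]
    simpa using hcn h
  have hDp : (Nat.card (Y.subgroupOf L)).Coprime q := by
    have h1 : Nat.card (Y.subgroupOf L) = Nat.card ↥(Y ⊓ L) := by
      rw [← Subgroup.card_map_of_injective L.subtype_injective, Subgroup.subgroupOf_map_subtype]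
    rw [h1]
    exact Nat.Coprime.coprime_dvd_left (Subgroup.card_dvd_of_le inf_le_left) hYq
  have key := goldschmidt_pElement (⟨z, hzL⟩ : ↥L) hx (Y.subgroupOf L) hDc hDn hDp
  have := Subgroup.map_mono (f := L.subtype) key
  rw [Subgroup.subgroupOf_map_subtype] at this
  exact this

end Cfsg.Agent.Lib.Helper8.FBL06
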