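import Mathlib

set_option autoImplicit false

/-! Indicator matrices of unions of double cosets on the set of left cosets `G ⧸ H`
(piece G-2a of the Feit–Higman farm-out). -/

namespace Cfsg.Agent.Lib.Helper8.FHHecke

open Matrix

variable {G : Type*} [Group G] (H : Subgroup G)

/-- `D` is a union of double cosets of `H` -/
def BiInv (D : Set G) : Prop := ∀ b ∈ H, ∀ b' ∈ H, ∀ g ∈ D, b * g * b' ∈ D

variable {H}

theorem BiInv.iff {D : Set G} (hD : BiInv H D) {b b' : G} (hb : b ∈ H) (hb' : b' ∈ H) (g : G) :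
    b * g * b' ∈ D ↔ g ∈ D := by
  constructor
  · intro h
    have := hD b⁻¹ (H.inv_mem hb) b'⁻¹ (H.inv_mem hb') _ h
    have e : b⁻¹ * (b * g * b') * b'⁻¹ = g := by group
    rwa [e] at this
  · exact hD b hb b' hb' g

theorem BiInv.right {D : Set G} (hD : BiInv H D) {b' : G} (hb' : b' ∈ H) (g : G) :
    g * b' ∈ D ↔ g ∈ D := by
  have := hD.iff H.one_mem hb' g
  rwa [one_mul] at this

theorem BiInv.left {D : Set G} (hD : BiInv H D) {b : G} (hb : b ∈ H) (g : G) :
    b * g ∈ D ↔ g ∈ D := by
  have := hD.iff hb H.one_mem g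
  rwa [mul_one] at this

theorem BiInv.inter {D D' : Set G} (hD : BiInv H D) (hD' : BiInv H D') : BiInv H (D ∩ D') :=
  fun b hb b' hb' g hg => ⟨hD b hb b' hb' g hg.1, hD' b hb b' hb' g hg.2⟩

theorem BiInv.union {D D' : Set G} (hD : BiInv H D) (hD' : BiInv H D') : BiInv H (D ∪ D') := by
  intro b hb b' hb' g hg
  rcases hg with hg | hg
  · exact Or.inl (hD b hb b' hb' g hg)
  · exact Or.inr (hD' b hb b' hb' g hg)

theorem biInv_subgroup {Q : Subgroup G} (hQ : H ≤ Q) : BiInv H (Q : Set G) :=
  fun _ hb _ hb' _ hg => Q.mul_mem (Q.mul_mem (hQ hb) hg) (hQ hb')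

theorem biInv_doubleCoset (n : G) : BiInv H (DoubleCoset.doubleCoset n (H : Set G) H) := by
  intro b hb b' hb' g hg
  rw [DoubleCoset.mem_doubleCoset] at hg ⊢
  obtain ⟨x, hx, y, hy, rfl⟩ := hg
  exact ⟨b * x, H.mul_mem hb hx, y * b', H.mul_mem hy hb', by group⟩

/-- the representative chosen in a coset -/
theorem out_eq_mul (x : G) : ∃ h ∈ H, ((x : G ⧸ H)).out = x * h := by
  obtain ⟨h, hh⟩ := QuotientGroup.mk_out_eq_mul H x
  exact ⟨h, h.2, hh⟩

variable (H)

open Classical in
/-- the indicator matrix of `D` -/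
noncomputable def ind (D : Set G) : Matrix (G ⧸ H) (G ⧸ H) ℝ :=
  fun c c' => if (c.out)⁻¹ * c'.out ∈ D then 1 else 0

open Classical in
/-- the number of left cosets contained in `D` -/
noncomputable def cnt [Fintype (G ⧸ H)] (D : Set G) : ℕ :=
  (Finset.univ.filter fun c : G ⧸ H => c.out ∈ D).card

variable {H}

open Classical in
theorem ind_mk {D : Set G} (hD : BiInv H D) (x y : G) :
    ind H D (x : G ⧸ H) (y : G ⧸ H) = if x⁻¹ * y ∈ D then 1 else 0 := by
  obtain ⟨h, hh, e⟩ := out_eq_mul (H := H) x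
  obtain ⟨h', hh', e'⟩ := out_eq_mul (H := H) y
  unfold ind
  rw [e, e']
  have e2 : (x * h)⁻¹ * (y * h') = h⁻¹ * (x⁻¹ * y) * h' := by group
  rw [e2]
  have := hD.iff (H.inv_mem hh) hh' (x⁻¹ * y)
  simp only [this]

open Classical in
theorem ind_mk_out {D : Set G} (hD : BiInv H D) (x : G) (c : G ⧸ H) :
    ind H D (x : G ⧸ H) c = if x⁻¹ * c.out ∈ D then 1 else 0 := by
  conv_lhs => rw [← QuotientGroup.out_eq' c]
  exact ind_mk hD x c.out

open Classical in
theorem ind_out_mk {D : Set G} (hD : BiInv H D) (c : G ⧸ H) (z : G) :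
    ind H D c (z : G ⧸ H) = if (c.out)⁻¹ * z ∈ D then 1 else 0 := by
  conv_lhs => rw [← QuotientGroup.out_eq' c]
  exact ind_mk hD c.out z

theorem ind_transpose {D D' : Set G} (hD : BiInv H D) (hD' : BiInv H D')
    (h : ∀ g, g ∈ D' ↔ g⁻¹ ∈ D) : (ind H D)ᵀ = ind H D' := by
  classical
  ext c c'
  induction c using QuotientGroup.induction_on with
  | H x =>
    induction c' using QuotientGroup.induction_on with
    | H y =>
      rw [Matrix.transpose_apply, ind_mk hD, ind_mk hD', h]
      have e : (x⁻¹ * y)⁻¹ = y⁻¹ * x := by group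
      rw [e]

theorem ind_congr {D D' : Set G} (h : D = D') : ind H D = ind H D' := by rw [h]

theorem ind_self [DecidableEq (G ⧸ H)] : ind H (H : Set G) = 1 := by
  classical
  ext c c'
  induction c using QuotientGroup.induction_on with
  | H x =>
    induction c' using QuotientGroup.induction_on with
    | H y =>
      rw [ind_mk (biInv_subgroup le_rfl), Matrix.one_apply]
      have : ((x : G ⧸ H) = (y : G ⧸ H)) ↔ x⁻¹ * y ∈ (H : Set G) := QuotientGroup.eq
      by_cases h : x⁻¹ * y ∈ (H : Set G)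
      · rw [if_pos h, if_pos (this.mpr h)]
      · rw [if_neg h, if_neg (fun h' => h (this.mp h'))]

theorem ind_union {D D' : Set G} (hdisj : ∀ g, g ∈ D → g ∉ D') :
    ind H (D ∪ D') = ind H D + ind H D' := by
  classical
  ext c c'
  rw [Matrix.add_apply]
  unfold ind
  by_cases h : (c.out)⁻¹ * c'.out ∈ D
  · have h' := hdisj _ h
    simp [h, h']
  · by_cases h' : (c.out)⁻¹ * c'.out ∈ D'
    · simp [h, h']
    · simp [h, h']

section fin

variable [Fintype (G ⧸ H)]

open Classical in
/-- the entries of a product of indicator matrices count the middle cosets -/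
theorem ind_mul_apply {D D' : Set G} (hD : BiInv H D) (hD' : BiInv H D') (x z : G) :
    (ind H D * ind H D') (x : G ⧸ H) (z : G ⧸ H) =
      ((Finset.univ.filter fun c : G ⧸ H => x⁻¹ * c.out ∈ D ∧ (c.out)⁻¹ * z ∈ D').card : ℝ) := by
  rw [Matrix.mul_apply, Finset.card_filter]
  push_cast
  apply Finset.sum_congr rfl
  intro c _
  rw [ind_mk_out hD, ind_out_mk hD']
  by_cases h1 : x⁻¹ * c.out ∈ D
  · by_cases h2 : (c.out)⁻¹ * z ∈ D'
    · simp [h1, h2]
    · simp [h1, h2]
  · simp [h1]

open Classical in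
/-- the number of cosets `c` with `x⁻¹ c ⊆ D` does not depend on `x` -/
theorem card_filter_row {D : Set G} (hD : BiInv H D) (x : G) :
    (Finset.univ.filter fun c : G ⧸ H => x⁻¹ * c.out ∈ D).card = cnt H D := by
  unfold cnt
  apply Finset.card_bij (fun c _ => ((x⁻¹ * c.out : G) : G ⧸ H))
  · intro c hc
    rw [Finset.mem_filter] at hc ⊢
    refine ⟨Finset.mem_univ _, ?_⟩
    obtain ⟨h, hh, e⟩ := out_eq_mul (H := H) (x⁻¹ * c.out)
    rw [e]
    exact (hD.right hh _).mpr hc.2
  · intro c _ c' _ h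
    have h1 : ((x⁻¹ * c.out : G) : G ⧸ H) = ((x⁻¹ * c'.out : G) : G ⧸ H) := h
    rw [QuotientGroup.eq] at h1
    have e : (x⁻¹ * c.out)⁻¹ * (x⁻¹ * c'.out) = (c.out)⁻¹ * c'.out := by group
    rw [e] at h1
    have h2 : ((c.out : G) : G ⧸ H) = ((c'.out : G) : G ⧸ H) := QuotientGroup.eq.mpr h1
    rwa [QuotientGroup.out_eq', QuotientGroup.out_eq'] at h2
  · intro c hc
    rw [Finset.mem_filter] at hc
    refine ⟨((x * c.out : G) : G ⧸ H), ?_, ?_⟩
    · rw [Finset.mem_filter]
      refine ⟨Finset.mem_univ _, ?_⟩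
      obtain ⟨h, hh, e⟩ := out_eq_mul (H := H) (x * c.out)
      rw [e]
      have e2 : x⁻¹ * (x * c.out * h) = c.out * h := by group
      rw [e2]
      exact (hD.right hh _).mpr hc.2
    · obtain ⟨h, hh, e⟩ := out_eq_mul (H := H) (x * c.out)
      rw [e]
      have e2 : x⁻¹ * (x * c.out * h) = c.out * h := by group
      rw [e2]
      have : ((c.out * h : G) : G ⧸ H) = ((c.out : G) : G ⧸ H) := by
        rw [QuotientGroup.eq]
        have e3 : (c.out * h)⁻¹ * c.out = h⁻¹ := by group
        rw [e3]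
        exact H.inv_mem hh
      rw [this, QuotientGroup.out_eq']

/-- the row sums of an indicator matrix -/
theorem ind_row_sum {D : Set G} (hD : BiInv H D) (c : G ⧸ H) :
    ∑ c' : G ⧸ H, ind H D c c' = (cnt H D : ℝ) := by
  classical
  induction c using QuotientGroup.induction_on with
  | H x =>
    rw [← card_filter_row hD x, Finset.card_filter]
    push_cast
    apply Finset.sum_congr rfl
    intro c' _
    rw [ind_mk_out hD]

/-- multiplicativity of the numbers of cosets -/
theorem cnt_of_mul [Nonempty (G ⧸ H)] {D D' D'' : Set G} (hD : BiInv H D) (hD' : BiInv H D')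
    (hD'' : BiInv H D'') (h : ind H D * ind H D' = ind H D'') :
    cnt H D'' = cnt H D * cnt H D' := by
  obtain ⟨c⟩ := ‹Nonempty (G ⧸ H)›
  have h1 : ∑ c'' : G ⧸ H, (ind H D * ind H D') c c'' = (cnt H D : ℝ) * cnt H D' := by
    simp only [Matrix.mul_apply]
    rw [Finset.sum_comm]
    simp only [← Finset.mul_sum, ind_row_sum hD']
    rw [← Finset.sum_mul, ind_row_sum hD]
  rw [h, ind_row_sum hD''] at h1
  exact_mod_cast h1

/-- the trace form on indicator matrices -/
theorem trace_ind_mul_transpose {D D' : Set G} (hD : BiInv H D) (hD' : BiInv H D') :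
    (ind H D * (ind H D')ᵀ).trace = (Fintype.card (G ⧸ H) : ℝ) * cnt H (D ∩ D') := by
  classical
  unfold Matrix.trace
  simp only [Matrix.diag_apply, Matrix.mul_apply, Matrix.transpose_apply]
  have key : ∀ c : G ⧸ H, ∑ c' : G ⧸ H, ind H D c c' * ind H D' c c' = (cnt H (D ∩ D') : ℝ) := by
    intro c
    rw [← ind_row_sum (hD.inter hD') c]
    apply Finset.sum_congr rfl
    intro c' _
    unfold ind
    by_cases h1 : (c.out)⁻¹ * c'.out ∈ D
    · by_cases h2 : (c.out)⁻¹ * c'.out ∈ D'
      · simp [h1, h2]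
      · simp [h1, h2]
    · simp [h1]
  simp only [key]
  rw [Finset.sum_const, Finset.card_univ, nsmul_eq_mul]

theorem cnt_empty_inter {D D' : Set G} (h : ∀ g, g ∈ D → g ∉ D') : cnt H (D ∩ D') = 0 := by
  classical
  unfold cnt
  apply Finset.card_eq_zero.mpr
  apply Finset.eq_empty_of_forall_notMem
  intro c hc
  have hc' := ((@Finset.mem_filter (G ⧸ H) (fun c => c.out ∈ D ∩ D')
    (fun _ => Classical.propDecidable _) Finset.univ c).mp hc).2
  exact h _ hc'.1 hc'.2

open Classical in
/-- a product of two indicator matrices with unique middle cosets is an indicator matrix -/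
theorem ind_mul_eq_ind {D D' D'' : Set G} (hD : BiInv H D) (hD' : BiInv H D')
    (hD'' : BiInv H D'')
    (hex : ∀ g ∈ D'', ∃ y ∈ D, y⁻¹ * g ∈ D')
    (hsub : ∀ y ∈ D, ∀ g' ∈ D', y * g' ∈ D'')
    (huniq : ∀ y ∈ D, ∀ y' ∈ D, ∀ g, y⁻¹ * g ∈ D' → y'⁻¹ * g ∈ D' → y⁻¹ * y' ∈ H) :
    ind H D * ind H D' = ind H D'' := by
  ext c c''
  induction c using QuotientGroup.induction_on with
  | H x =>
    induction c'' using QuotientGroup.induction_on with
    | H z =>
      rw [ind_mul_apply hD hD', ind_mk hD'']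
      by_cases hz : x⁻¹ * z ∈ D''
      · rw [if_pos hz]
        obtain ⟨y, hy, hy'⟩ := hex _ hz
        have hmem : ∀ c : G ⧸ H, (x⁻¹ * c.out ∈ D ∧ (c.out)⁻¹ * z ∈ D') ↔
            c = ((x * y : G) : G ⧸ H) := by
          intro c
          constructor
          · rintro ⟨h1, h2⟩
            have e1 : (x⁻¹ * c.out)⁻¹ * (x⁻¹ * z) = (c.out)⁻¹ * z := by group
            have := huniq _ h1 y hy (x⁻¹ * z) (by rw [e1]; exact h2) hy'
            have e2 : ((c.out : G) : G ⧸ H) = ((x * y : G) : G ⧸ H) := by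
              rw [QuotientGroup.eq]
              have e3 : (c.out)⁻¹ * (x * y) = (x⁻¹ * c.out)⁻¹ * y := by group
              rw [e3]
              exact this
            rwa [QuotientGroup.out_eq'] at e2
          · intro hc
            obtain ⟨h, hh, e⟩ := out_eq_mul (H := H) (x * y)
            rw [hc, e]
            constructor
            · have e2 : x⁻¹ * (x * y * h) = y * h := by group
              rw [e2]
              exact (hD.right hh _).mpr hy
            · have e2 : (x * y * h)⁻¹ * z = h⁻¹ * (y⁻¹ * (x⁻¹ * z)) := by group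
              rw [e2]
              exact (hD'.left (H.inv_mem hh) _).mpr hy'
        have : (Finset.univ.filter fun c : G ⧸ H => x⁻¹ * c.out ∈ D ∧ (c.out)⁻¹ * z ∈ D') =
            {((x * y : G) : G ⧸ H)} := by
          ext c
          rw [Finset.mem_filter, Finset.mem_singleton, hmem]
          simp
        rw [this, Finset.card_singleton, Nat.cast_one]
      · rw [if_neg hz]
        have : (Finset.univ.filter fun c : G ⧸ H => x⁻¹ * c.out ∈ D ∧ (c.out)⁻¹ * z ∈ D') = ∅ := by
          rw [Finset.filter_eq_empty_iff]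
          rintro c _ ⟨h1, h2⟩
          apply hz
          have := hsub _ h1 _ h2
          have e : x⁻¹ * c.out * ((c.out)⁻¹ * z) = x⁻¹ * z := by group
          rwa [e] at this
        rw [this, Finset.card_empty, Nat.cast_zero]

/-- the indicator matrix of a subgroup containing `H` is a multiple of an idempotent -/
theorem ind_subgroup_sq {Q : Subgroup G} (hQ : H ≤ Q) :
    ind H (Q : Set G) * ind H (Q : Set G) = (cnt H (Q : Set G) : ℝ) • ind H (Q : Set G) := by
  classical
  have hB := biInv_subgroup (H := H) hQ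
  ext c c''
  induction c using QuotientGroup.induction_on with
  | H x =>
    induction c'' using QuotientGroup.induction_on with
    | H z =>
      rw [ind_mul_apply hB hB, Matrix.smul_apply, ind_mk hB, smul_eq_mul]
      by_cases hz : x⁻¹ * z ∈ (Q : Set G)
      · rw [if_pos hz, mul_one, ← card_filter_row hB x]
        congr 2
        ext c
        simp only [Finset.mem_filter, Finset.mem_univ, true_and]
        constructor
        · exact fun h => h.1
        · intro h
          refine ⟨h, ?_⟩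
          have e : (c.out)⁻¹ * z = (x⁻¹ * c.out)⁻¹ * (x⁻¹ * z) := by group
          rw [e]
          exact Q.mul_mem (Q.inv_mem h) hz
      · rw [if_neg hz, mul_zero]
        have : (Finset.univ.filter fun c : G ⧸ H =>
            x⁻¹ * c.out ∈ (Q : Set G) ∧ (c.out)⁻¹ * z ∈ (Q : Set G)) = ∅ := by
          rw [Finset.filter_eq_empty_iff]
          rintro c _ ⟨h1, h2⟩
          apply hz
          have e : x⁻¹ * z = x⁻¹ * c.out * ((c.out)⁻¹ * z) := by group
          rw [e]
          exact Q.mul_mem h1 h2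
        rw [this, Finset.card_empty, Nat.cast_zero]

theorem cnt_self : cnt H (H : Set G) = 1 := by
  classical
  unfold cnt
  rw [Finset.card_eq_one]
  refine ⟨((1 : G) : G ⧸ H), ?_⟩
  ext c
  rw [Finset.mem_filter, Finset.mem_singleton]
  constructor
  · rintro ⟨-, h⟩
    rw [← QuotientGroup.out_eq' c, QuotientGroup.eq]
    have : (c.out)⁻¹ * 1 = (c.out)⁻¹ := mul_one _
    rw [this]
    exact H.inv_mem h
  · intro h
    refine ⟨Finset.mem_univ _, ?_⟩
    have h1 : ((c.out : G) : G ⧸ H) = ((1 : G) : G ⧸ H) := by rw [QuotientGroup.out_eq', h]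
    rw [QuotientGroup.eq] at h1
    have : (c.out)⁻¹ * 1 = (c.out)⁻¹ := mul_one _
    rw [this] at h1
    have := H.inv_mem h1
    rwa [inv_inv] at this

theorem cnt_union {D D' : Set G} (hdisj : ∀ g, g ∈ D → g ∉ D') :
    cnt H (D ∪ D') = cnt H D + cnt H D' := by
  classical
  unfold cnt
  rw [← Finset.card_union_of_disjoint]
  · congr 1
    ext c
    simp only [Finset.mem_filter, Finset.mem_univ, true_and, Finset.mem_union, Set.mem_union]
  · rw [Finset.disjoint_filter]
    intro c _ h
    exact hdisj _ h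

end fin

end Cfsg.Agent.Lib.Helper8.FHHecke
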