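import Cfsg.Agent.Lib.Helper8.FHHecke1
import Cfsg.Agent.Lib.Helper3.BNPair5
import Cfsg.Agent.Lib.Helper16.FHDefs

set_option autoImplicit false

/-! The Hecke data of a (B,N)-pair of rank 2 (piece G-2b of the Feit–Higman farm-out). -/

namespace Cfsg.Agent.Lib.Helper8.FHHecke

open Matrix Cfsg.Agent.Lib.Helper3 Cfsg.Agent.Lib.Helper16.FH

variable {G : Type*} [Group G] (P : Cfsg.BNPair G)

theorem biInv_C (n : G) : BiInv P.B (BN.C P n) := biInv_doubleCoset n

theorem C_one_eq : BN.C P 1 = (P.B : Set G) := Set.ext fun _ => BN.mem_C_one P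

theorem inv_mem_C_S {s g : G} (hs : s ∈ P.S) (hg : g ∈ BN.C P s) : g⁻¹ ∈ BN.C P s := by
  have := BN.inv_mem_C P hg
  rwa [(BN.rel_inv_self P hs).C_eq] at this

theorem disjoint_of_not_rel {n n' : G} (hn : n ∈ P.N) (hn' : n' ∈ P.N) (h : ¬ BN.Rel P n n') :
    ∀ g, g ∈ BN.C P n → g ∉ BN.C P n' := by
  intro g hg hg'
  exact h (BN.bruhat_unique P hn hn' ((BN.C_eq_of_mem P hg).symm.trans (BN.C_eq_of_mem P hg')))

theorem alt_mem_N {s t : G} (hs : s ∈ P.S) (ht : t ∈ P.S) :
    ∀ k, alt s t k ∈ P.N ∧ alt t s k ∈ P.N := by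
  intro k
  induction k with
  | zero => exact ⟨P.N.one_mem, P.N.one_mem⟩
  | succ k ih =>
    exact ⟨P.N.mul_mem (BN.S_mem_N P hs) ih.2, P.N.mul_mem (BN.S_mem_N P ht) ih.1⟩

theorem cast_alt (p q : ℕ) (k : ℕ) : ((alt p q k : ℕ) : ℝ) = alt (p : ℝ) (q : ℝ) k := by
  induction k generalizing p q with
  | zero => simp
  | succ k ih => rw [alt_succ, alt_succ, Nat.cast_mul, ih]

section fin

variable [Fintype (G ⧸ P.B)]

/-- the key product formula -/
theorem ind_C_mul {s w : G} (hs : s ∈ P.S) (hw : w ∈ P.N)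
    (hlen : BN.len P w ≤ BN.len P (s * w)) :
    ind P.B (BN.C P s) * ind P.B (BN.C P w) = ind P.B (BN.C P (s * w)) := by
  apply ind_mul_eq_ind (biInv_C P s) (biInv_C P w) (biInv_C P (s * w))
  · intro g hg
    obtain ⟨b, hb, b', hb', rfl⟩ := (BN.mem_C P).1 hg
    refine ⟨b * s, BN.mul_left_mem_C P hb (BN.self_mem_C P s), ?_⟩
    have e : (b * s)⁻¹ * (b * (s * w) * b') = w * b' := by group
    rw [e]
    exact BN.mul_right_mem_C P hb' (BN.self_mem_C P w)
  · intro y hy g' hg'
    obtain ⟨b, hb, b', hb', rfl⟩ := (BN.mem_C P).1 hy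
    have h1 : b' * g' ∈ BN.C P w := BN.mul_left_mem_C P hb' hg'
    have h2 := BN.smul_mem_of_len_le P hw hs hlen h1
    have e : b * s * b' * g' = b * (s * (b' * g')) := by group
    rw [e]
    exact BN.mul_left_mem_C P hb h2
  · intro y hy y' hy' g hg hg'
    have hyinv := inv_mem_C_S P hs hy
    obtain ⟨b1, hb1, b2, hb2, e1⟩ := (BN.mem_C P).1 hyinv
    have h3 : b2 * y' ∈ BN.C P s := BN.mul_left_mem_C P hb2 hy'
    have h4 := BN.smul_mem P hs (BN.S_mem_N P hs) h3
    have e2 : y⁻¹ * y' = b1 * (s * (b2 * y')) := by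
      rw [e1]
      group
    rcases h4 with h4 | h4
    · rw [e2]
      have : s * (b2 * y') ∈ P.B := by
        rw [(BN.rel_sq P hs).C_eq] at h4
        exact (BN.mem_C_one P).1 h4
      exact P.B.mul_mem hb1 this
    · exfalso
      have he : y⁻¹ * y' ∈ BN.C P s := by
        rw [e2]
        exact BN.mul_left_mem_C P hb1 h4
      have heinv := inv_mem_C_S P hs he
      obtain ⟨b3, hb3, b4, hb4, e3⟩ := (BN.mem_C P).1 heinv
      have h5 : b4 * (y⁻¹ * g) ∈ BN.C P w := BN.mul_left_mem_C P hb4 hg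
      have h6 := BN.smul_mem_of_len_le P hw hs hlen h5
      have e4 : y'⁻¹ * g = b3 * (s * (b4 * (y⁻¹ * g))) := by
        have : y'⁻¹ * g = (y⁻¹ * y')⁻¹ * (y⁻¹ * g) := by group
        rw [this, e3]
        group
      have h7 : y'⁻¹ * g ∈ BN.C P (s * w) := by
        rw [e4]
        exact BN.mul_left_mem_C P hb3 h6
      have h8 : BN.C P (s * w) = BN.C P w :=
        (BN.C_eq_of_mem P h7).symm.trans (BN.C_eq_of_mem P hg')
      exact BN.not_rel_smul P hs hw
        (BN.bruhat_unique P (P.N.mul_mem (BN.S_mem_N P hs) hw) hw h8)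

omit [Fintype (G ⧸ P.B)] in
theorem ind_C_symm {s : G} (hs : s ∈ P.S) : (ind P.B (BN.C P s))ᵀ = ind P.B (BN.C P s) := by
  apply ind_transpose (biInv_C P s) (biInv_C P s)
  intro g
  constructor
  · exact inv_mem_C_S P hs
  · intro h
    have := inv_mem_C_S P hs h
    rwa [inv_inv] at this

/-- a distinguished double coset contains at least two left cosets -/
theorem two_le_cnt {s : G} (hs : s ∈ P.S) : 2 ≤ cnt P.B (BN.C P s) := by
  classical
  obtain ⟨b, hb, hbs⟩ := BN.exists_not_mem P hs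
  have hmem : ∀ x : G, x ∈ BN.C P s → ((x : G ⧸ P.B)).out ∈ BN.C P s := by
    intro x hx
    obtain ⟨h, hh, e⟩ := out_eq_mul (H := P.B) x
    rw [e]
    exact ((biInv_C P s).right hh _).mpr hx
  unfold cnt
  apply Finset.one_lt_card.mpr
  refine ⟨((s : G) : G ⧸ P.B), ?_, (((b * s : G)) : G ⧸ P.B), ?_, ?_⟩
  · rw [Finset.mem_filter]
    exact ⟨Finset.mem_univ _, hmem s (BN.self_mem_C P s)⟩
  · rw [Finset.mem_filter]
    exact ⟨Finset.mem_univ _, hmem _ (BN.mul_left_mem_C P hb (BN.self_mem_C P s))⟩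
  · intro h
    rw [QuotientGroup.eq] at h
    apply hbs
    have e : s * b * s = (s * s) * (s⁻¹ * (b * s)) := by group
    rw [e]
    exact P.B.mul_mem (P.sq_mem s hs) h

variable [DecidableEq (G ⧸ P.B)]

/-- the quadratic relation -/
theorem ind_C_sq [Nonempty (G ⧸ P.B)] {s : G} (hs : s ∈ P.S) :
    ind P.B (BN.C P s) * ind P.B (BN.C P s) =
      (cnt P.B (BN.C P s) : ℝ) • (1 : Matrix (G ⧸ P.B) (G ⧸ P.B) ℝ) +
        ((cnt P.B (BN.C P s) : ℝ) - 1) • ind P.B (BN.C P s) := by
  have hQ : P.B ≤ P.parabolic {s} := by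
    unfold Cfsg.BNPair.parabolic
    exact le_sup_left
  have hset := BN.parabolic_singleton P hs
  have hdisj : ∀ g, g ∈ (P.B : Set G) → g ∉ BN.C P s := by
    intro g hg hg'
    have h1 : BN.C P g = BN.C P s := BN.C_eq_of_mem P hg'
    have h2 : s ∈ BN.C P g := by
      rw [h1]
      exact BN.self_mem_C P s
    rw [BN.mem_C_of_mem_B P hg] at h2
    exact BN.S_not_mem_B P hs h2
  have h := ind_subgroup_sq (H := P.B) hQ
  rw [hset, ind_union hdisj, cnt_union hdisj, ind_self, cnt_self] at h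
  set A := ind P.B (BN.C P s) with hA
  set p := cnt P.B (BN.C P s) with hp
  have e1 : A * A = (1 + A) * (1 + A) - 1 - A - A := by noncomm_ring
  rw [e1, h]
  push_cast
  module

/-- the alternating products of the two generators are the indicator matrices of the double
cosets of the alternating words -/
theorem alt_ind {s t : G} (hs : s ∈ P.S) (ht : t ∈ P.S) (n : ℕ)
    (hlen : ∀ k ≤ n, BN.len P (alt s t k) = k ∧ BN.len P (alt t s k) = k) :
    ∀ k ≤ n, alt (ind P.B (BN.C P s)) (ind P.B (BN.C P t)) k = ind P.B (BN.C P (alt s t k)) ∧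
      alt (ind P.B (BN.C P t)) (ind P.B (BN.C P s)) k = ind P.B (BN.C P (alt t s k)) := by
  intro k
  induction k with
  | zero =>
    intro _
    simp only [alt_zero]
    rw [C_one_eq, ind_self]
    exact ⟨rfl, rfl⟩
  | succ k ih =>
    intro hk
    obtain ⟨ih1, ih2⟩ := ih (by omega)
    have hN := alt_mem_N P hs ht k
    constructor
    · rw [alt_succ, ih2, alt_succ]
      apply ind_C_mul P hs hN.2
      have := (hlen (k + 1) hk).1
      rw [alt_succ] at this
      rw [this, (hlen k (by omega)).2]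
      omega
    · rw [alt_succ, ih1, alt_succ]
      apply ind_C_mul P ht hN.1
      have := (hlen (k + 1) hk).2
      rw [alt_succ] at this
      rw [this, (hlen k (by omega)).1]
      omega

omit [DecidableEq (G ⧸ P.B)] in
/-- the numbers of left cosets in the double cosets of the alternating words -/
theorem cnt_alt [Nonempty (G ⧸ P.B)] {s t : G} (hs : s ∈ P.S) (ht : t ∈ P.S) (n : ℕ)
    (hlen : ∀ k ≤ n, BN.len P (alt s t k) = k ∧ BN.len P (alt t s k) = k) :
    ∀ k ≤ n, cnt P.B (BN.C P (alt s t k)) =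
        alt (cnt P.B (BN.C P s)) (cnt P.B (BN.C P t)) k ∧
      cnt P.B (BN.C P (alt t s k)) = alt (cnt P.B (BN.C P t)) (cnt P.B (BN.C P s)) k := by
  intro k
  induction k with
  | zero =>
    intro _
    simp only [alt_zero]
    rw [C_one_eq, cnt_self]
    exact ⟨rfl, rfl⟩
  | succ k ih =>
    intro hk
    obtain ⟨ih1, ih2⟩ := ih (by omega)
    have hN := alt_mem_N P hs ht k
    constructor
    · rw [alt_succ, alt_succ, ← ih2]
      apply cnt_of_mul (biInv_C P s) (biInv_C P _) (biInv_C P _)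
      apply ind_C_mul P hs hN.2
      have := (hlen (k + 1) hk).1
      rw [alt_succ] at this
      rw [this, (hlen k (by omega)).2]
      omega
    · rw [alt_succ, alt_succ, ← ih1]
      apply cnt_of_mul (biInv_C P t) (biInv_C P _) (biInv_C P _)
      apply ind_C_mul P ht hN.1
      have := (hlen (k + 1) hk).2
      rw [alt_succ] at this
      rw [this, (hlen k (by omega)).1]
      omega

end fin

end Cfsg.Agent.Lib.Helper8.FHHecke
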