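import Cfsg.Agent.Lib.Helper8.FHHecke2

set_option autoImplicit false

/-! The Hecke data of a (B,N)-pair of rank 2: assembly (piece G-2 of the Feit–Higman farm-out). -/

namespace Cfsg.Agent.Lib.Helper8.FHHecke

open Matrix Cfsg.Agent.Lib.Helper3 Cfsg.Agent.Lib.Helper16.FH

universe u

theorem heckeData_of {G : Type u} [Group G] (P : Cfsg.BNPair G) {s t : G} {n : ℕ}
    (hs : s ∈ P.S) (ht : t ∈ P.S)
    (hlen : ∀ k ≤ n, BN.len P (alt s t k) = k ∧ BN.len P (alt t s k) = k)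
    (hrel : BN.Rel P (alt s t n) (alt t s n))
    (hdist : ∀ k l, k ≤ n → l ≤ n → BN.Rel P (alt s t k) (alt t s l) → k = l ∧ (k = 0 ∨ k = n))
    [Fintype (G ⧸ P.B)] [DecidableEq (G ⧸ P.B)] :
    IsHeckeData n (cnt P.B (BN.C P s) : ℝ) (cnt P.B (BN.C P t) : ℝ)
      (ind P.B (BN.C P s)) (ind P.B (BN.C P t)) := by
  have hne : Nonempty (G ⧸ P.B) := ⟨((1 : G) : G ⧸ P.B)⟩
  have hA := alt_ind P hs ht n hlen
  have hc := cnt_alt P hs ht n hlen
  have hN := alt_mem_N P hs ht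
  refine ⟨ind_C_symm P hs, ind_C_symm P ht, ind_C_sq P hs, ind_C_sq P ht, ?_, ?_, ?_, ?_⟩
  · rw [(hA n le_rfl).1, (hA n le_rfl).2, hrel.C_eq]
  · intro k l hk hl
    rw [(hA k hk).1, (hA l hl).1, trace_ind_mul_transpose (biInv_C P _) (biInv_C P _)]
    by_cases hkl : k = l
    · subst hkl
      rw [if_pos rfl, Set.inter_self, (hc k hk).1, cast_alt]
    · rw [if_neg hkl, cnt_empty_inter, Nat.cast_zero, mul_zero]
      apply disjoint_of_not_rel P (hN k).1 (hN l).1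
      intro h
      have := BN.len_congr P h
      rw [(hlen k hk).1, (hlen l hl).1] at this
      exact hkl this
  · intro k l hk hl
    rw [(hA k hk).2, (hA l hl).2, trace_ind_mul_transpose (biInv_C P _) (biInv_C P _)]
    by_cases hkl : k = l
    · subst hkl
      rw [if_pos rfl, Set.inter_self, (hc k hk).2, cast_alt]
    · rw [if_neg hkl, cnt_empty_inter, Nat.cast_zero, mul_zero]
      apply disjoint_of_not_rel P (hN k).2 (hN l).2
      intro h
      have := BN.len_congr P h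
      rw [(hlen k hk).2, (hlen l hl).2] at this
      exact hkl this
  · intro k l hk hl
    rw [(hA k hk).1, (hA l hl).2, trace_ind_mul_transpose (biInv_C P _) (biInv_C P _)]
    by_cases hkl : k = l ∧ (k = 0 ∨ k = n)
    · rw [if_pos hkl]
      obtain ⟨rfl, h0 | h0⟩ := hkl
      · subst h0
        simp only [alt_zero]
        rw [Set.inter_self, C_one_eq, cnt_self, Nat.cast_one]
      · subst h0
        rw [← hrel.C_eq, Set.inter_self, (hc k hk).1, cast_alt]
    · rw [if_neg hkl, cnt_empty_inter, Nat.cast_zero, mul_zero]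
      apply disjoint_of_not_rel P (hN k).1 (hN l).2
      intro h
      exact hkl (hdist k l hk hl h)

/-- the Hecke data, given the structure of the Weyl group (piece G-1) -/
theorem exists_heckeData_of {G : Type u} [Group G] [Finite G] (P : Cfsg.BNPair G)
    (h : ∃ (s t : G) (n : ℕ), s ∈ P.S ∧ t ∈ P.S ∧ s ≠ t ∧ P.S = {s, t} ∧ 2 ≤ n ∧
      (∀ k ≤ n, BN.len P (alt s t k) = k ∧ BN.len P (alt t s k) = k) ∧
      BN.Rel P (alt s t n) (alt t s n) ∧
      (∀ k l, k ≤ n → l ≤ n → BN.Rel P (alt s t k) (alt t s l) → k = l ∧ (k = 0 ∨ k = n)) ∧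
      (∀ g ∈ P.N, ∃ k ≤ n, BN.Rel P g (alt s t k) ∨ BN.Rel P g (alt t s k)) ∧
      ((P.B ⊓ P.N).subgroupOf P.N).index = 2 * n) :
    ∃ (n p q : ℕ), 2 ≤ n ∧ 2 ≤ p ∧ 2 ≤ q ∧ ((P.B ⊓ P.N).subgroupOf P.N).index = 2 * n ∧
      ∃ (C : Type u) (_ : Fintype C) (_ : DecidableEq C) (_ : Nonempty C) (A B : Matrix C C ℝ),
        IsHeckeData n (p : ℝ) (q : ℝ) A B := by
  obtain ⟨s, t, n, hs, ht, -, -, hn2, hlen, hrel, hdist, -, hidx⟩ := h
  let : Fintype (G ⧸ P.B) := Fintype.ofFinite _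
  let : DecidableEq (G ⧸ P.B) := Classical.decEq _
  exact ⟨n, cnt P.B (BN.C P s), cnt P.B (BN.C P t), hn2, two_le_cnt P hs, two_le_cnt P ht, hidx,
    G ⧸ P.B, inferInstance, inferInstance, ⟨((1 : G) : G ⧸ P.B)⟩, _, _,
    heckeData_of P hs ht hlen hrel hdist⟩

end Cfsg.Agent.Lib.Helper8.FHHecke
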