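import Mathlib
import Cfsg.Agent.Lib.Helper8.FHHecke3
import Cfsg.Agent.Lib.Helper3.BNRank2

/-!
# S1142 piece G-2, final form: Hecke data from a (B,N)-pair of rank 2

`exists_heckeData` has the exact signature of the skeleton of the farm-out.
-/

set_option autoImplicit false

open Matrix Cfsg.Agent.Lib.Helper16.FH

universe u

namespace Cfsg.Agent.Lib.Helper8
namespace FHHecke

theorem exists_heckeData {G : Type u} [Group G] [Finite G] (P : Cfsg.BNPair G) (h2 : P.rank = 2) :
    ∃ (n p q : ℕ), 2 ≤ n ∧ 2 ≤ p ∧ 2 ≤ q ∧ ((P.B ⊓ P.N).subgroupOf P.N).index = 2 * n ∧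
      ∃ (C : Type u) (_ : Fintype C) (_ : DecidableEq C) (_ : Nonempty C) (A B : Matrix C C ℝ),
        IsHeckeData n (p : ℝ) (q : ℝ) A B :=
  exists_heckeData_of P (Cfsg.Agent.Lib.Helper3.BN.rank_two_structure P h2)

end FHHecke
end Cfsg.Agent.Lib.Helper8
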