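import Mathlib
import Cfsg.Agent.Lib.Helper24.FL.Defs
import Cfsg.Agent.Lib.Helper24.FL.L01
import Cfsg.Agent.Lib.Helper24.FL.L02
import Cfsg.Agent.Lib.Helper24.FL.L03

/-!
# S3816 farm (helper24), SPARE of leaf L10 `MC.quot` (helper8)
-/

set_option autoImplicit false

namespace Cfsg.Agent.Lib.Helper8.FLL10

open Subgroup Cfsg.Agent.Lib.Helper24.FL Cfsg.Agent.Lib.Helper1

universe u

variable {G : Type u} [Group G]

/-- image of `D` under a homomorphism -/
theorem D_map {K : Type*} [Group K] (f : K →* G) (P : Subgroup K) (h : K) :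
    (D P h).map f = D (P.map f) (f h) := by
  unfold D
  rw [MonoidHom.map_closure]
  congr 1
  ext c
  constructor
  · rintro ⟨_, ⟨y, hy, rfl⟩, rfl⟩
    exact ⟨f y, Subgroup.mem_map_of_mem f hy, by simp⟩
  · rintro ⟨_, ⟨y, hy, rfl⟩, rfl⟩
    exact ⟨h⁻¹ * (y * h * y⁻¹), ⟨y, hy, rfl⟩, by simp⟩

/-- the quotient step, in abstract form: `K` embeds in `G` and carries preimages of `H`, `P`, `N`,
with the preimage of `N` normal in `K` -/
theorem quot_aux [Finite G] {p : ℕ} [Fact p.Prime] {H P : Subgroup G} (mc : MC p H P)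
    {K : Type u} [Group K] [Finite K] (ι : K →* G) (hι : Function.Injective ι)
    (N' : Subgroup K) [N'.Normal] (HK PK : Subgroup K)
    (hH : HK.map ι = H) (hP : PK.map ι = P) (hN'H : N' ≤ HK) (hN1 : N' ≠ ⊥) :
    ∀ c ∈ ⁅H, P⁆ ⊓ centralizer (P : Set G),
      ∃ k ∈ KK H P, ∃ n ∈ N'.map ι ⊓ centralizer (P : Set G), c = k * n := by
  classical
  subst hH
  subst hP
  have hp : p.Prime := Fact.out
  let π : K →* K ⧸ N' := QuotientGroup.mk' N'
  have hker : ∀ x : K, π x = 1 ↔ x ∈ N' := fun x => QuotientGroup.eq_one_iff x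
  have memH : ∀ x : K, ι x ∈ HK.map ι ↔ x ∈ HK := fun x => Subgroup.mem_map_iff_mem hι
  have memP : ∀ x : K, ι x ∈ PK.map ι ↔ x ∈ PK := fun x => Subgroup.mem_map_iff_mem hι
  have hcardH : Nat.card (HK.map ι) = Nat.card HK := Subgroup.card_map_of_injective hι
  have hcardP : Nat.card PK = p := by
    rw [← Subgroup.card_map_of_injective hι]; exact mc.act.cardP
  -- the action in the quotient
  have hPKn : PK ≤ normalizer (HK : Set K) := by
    intro y hy
    rw [Subgroup.mem_normalizer_iff]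
    intro h
    have h1 := Subgroup.mem_normalizer_iff.mp (mc.act.norm (Subgroup.mem_map_of_mem ι hy)) (ι h)
    rw [memH, ← map_inv, ← map_mul, ← map_mul, memH] at h1
    exact h1
  have hsolvHK : Group.IsSolvable HK := by
    have := mc.act.solv
    exact Group.isSolvable_of_isSolvable_injective
      (f := (HK.equivMapOfInjective ι hι).toMonoidHom) (HK.equivMapOfInjective ι hι).injective
  have hAct : Act p (HK.map π) (PK.map π) := by
    refine ⟨?_, ?_, ?_, ?_⟩
    · exact (Subgroup.map_mono hPKn).trans (Subgroup.le_normalizer_map π)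
    · have h1 : Nat.card (PK.map π) ∣ p := by
        rw [← hcardP]; exact PK.card_map_dvd π
      rcases (Nat.dvd_prime hp).mp h1 with h2 | h2
      · exfalso
        have h3 : PK.map π = ⊥ := Subgroup.card_eq_one.mp h2
        have h4 : PK ≤ N' := by
          have := (Subgroup.map_eq_bot_iff PK).mp h3
          rwa [QuotientGroup.ker_mk'] at this
        have h5 : p ∣ Nat.card HK := by
          rw [← hcardP]
          exact Subgroup.card_dvd_of_le (h4.trans hN'H)
        have h6 := mc.act.cop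
        rw [hcardH] at h6
        exact hp.one_lt.ne' (Nat.Coprime.eq_one_of_dvd h6.symm h5)
      · exact h2
    · have h1 : Nat.card (HK.map π) ∣ Nat.card HK := HK.card_map_dvd π
      have h6 := mc.act.cop
      rw [hcardH] at h6
      exact Nat.Coprime.coprime_dvd_left h1 h6
    · exact Group.isSolvable_of_surjective (MonoidHom.subgroupMap_surjective π HK)
  have hcard : Nat.card (HK.map π) < Nat.card (HK.map ι) := by
    rw [hcardH]
    have : Fintype HK := Fintype.ofFinite _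
    have : Fintype (HK.map π) := Fintype.ofFinite _
    rw [Nat.card_eq_fintype_card, Nat.card_eq_fintype_card]
    apply Fintype.card_lt_of_surjective_not_injective _ (MonoidHom.subgroupMap_surjective π HK)
    intro hinj
    obtain ⟨⟨n, hn⟩, hn1'⟩ := Subgroup.ne_bot_iff_exists_ne_one.mp hN1
    have hn1 : n ≠ 1 := fun h => hn1' (Subtype.ext h)
    have h1 : (π.subgroupMap HK) ⟨n, hN'H hn⟩ = (π.subgroupMap HK) 1 := by
      apply Subtype.ext
      show π n = π 1
      rw [map_one]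
      exact (hker n).mpr hn
    have h2 := hinj h1
    exact hn1 (congrArg Subtype.val h2)
  have hGood : Good (HK.map π) (PK.map π) := mc.ih _ _ hcard hAct
  -- lifting `KK`
  have hA : KK (HK.map π) (PK.map π) ≤ ((KK (HK.map ι) (PK.map ι)).comap ι).map π := by
    apply iSup_le
    rintro ⟨h', hh'⟩
    obtain ⟨h₀, hh₀, rfl⟩ := hh'
    intro x hx
    obtain ⟨hxD, hxC⟩ := Subgroup.mem_inf.mp hx
    have hxD' : x ∈ (D PK h₀).map π := by rw [D_map]; exact hxD
    obtain ⟨d, hd, rfl⟩ := hxD'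
    have hιh₀ : ι h₀ ∈ HK.map ι := Subgroup.mem_map_of_mem ι hh₀
    have hιd : ι d ∈ D (PK.map ι) (ι h₀) := by
      rw [← D_map]; exact Subgroup.mem_map_of_mem ι hd
    have hx' : ∀ a ∈ PK.map ι, (ι d)⁻¹ * (a * ι d * a⁻¹) ∈ D (PK.map ι) (ι h₀) ⊓ N'.map ι := by
      rintro _ ⟨a', ha', rfl⟩
      refine Subgroup.mem_inf.mpr ⟨?_, ?_⟩
      · exact mul_mem (inv_mem hιd) ((Subgroup.mem_normalizer_iff.mp
          (D_normalizer (PK.map ι) (ι h₀) (Subgroup.mem_map_of_mem ι ha')) _).mp hιd)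
      · refine ⟨d⁻¹ * (a' * d * a'⁻¹), ?_, by simp⟩
        rw [SetLike.mem_coe, ← hker]
        have hc := (Subgroup.mem_centralizer_iff.mp hxC) (π a') (Subgroup.mem_map_of_mem π ha')
        rw [map_mul, map_mul, map_mul, map_inv, map_inv, hc]
        group
    have hact : CoprimeAct (PK.map ι) (D (PK.map ι) (ι h₀)) :=
      mc.act.coprimeAct.mono (D_le mc.act.norm hιh₀) (D_normalizer (PK.map ι) (ι h₀))
    have hNorm : PK.map ι ≤ normalizer ((D (PK.map ι) (ι h₀) ⊓ N'.map ι : Subgroup G) : Set G) := by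
      apply le_normalizer_of_forall_conj_mem
      rintro _ ⟨a', ha', rfl⟩ n hn
      obtain ⟨hn1, hn2⟩ := Subgroup.mem_inf.mp hn
      refine Subgroup.mem_inf.mpr ⟨?_, ?_⟩
      · exact (Subgroup.mem_normalizer_iff.mp
          (D_normalizer (PK.map ι) (ι h₀) (Subgroup.mem_map_of_mem ι ha')) _).mp hn1
      · obtain ⟨n', hn', rfl⟩ := hn2
        refine ⟨a' * n' * a'⁻¹, ?_, by simp⟩
        exact (inferInstance : N'.Normal).conj_mem n' hn' a'
    obtain ⟨u, hu, hdu⟩ := hact.exists_mul_mem_centralizer inf_le_left hNorm (ι d) hιd hx'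
    obtain ⟨u', hu', rfl⟩ := (Subgroup.mem_inf.mp hu).2
    refine ⟨d * u', ?_, ?_⟩
    · rw [SetLike.mem_coe, Subgroup.mem_comap, map_mul]
      exact D_inf_le_KK hιh₀ hdu
    · rw [map_mul, (hker u').mpr hu', mul_one]
  -- the conclusion
  intro c hc
  obtain ⟨hcc, hcP⟩ := Subgroup.mem_inf.mp hc
  rw [← Subgroup.map_commutator] at hcc
  obtain ⟨c', hc', rfl⟩ := hcc
  have h1 : π c' ∈ ⁅HK.map π, PK.map π⁆ := by
    rw [← Subgroup.map_commutator]; exact Subgroup.mem_map_of_mem π hc'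
  have h2 : π c' ∈ centralizer ((PK.map π : Subgroup (K ⧸ N')) : Set (K ⧸ N')) := by
    rw [Subgroup.mem_centralizer_iff]
    rintro _ ⟨y, hy, rfl⟩
    rw [← map_mul, ← map_mul]
    congr 1
    apply hι
    rw [map_mul, map_mul]
    exact (Subgroup.mem_centralizer_iff.mp hcP) (ι y) (Subgroup.mem_map_of_mem ι hy)
  obtain ⟨k', hk', hkc⟩ := hA (hGood (Subgroup.mem_inf.mpr ⟨h1, h2⟩))
  have hn' : k'⁻¹ * c' ∈ N' := by
    rw [← hker, map_mul, map_inv, hkc, inv_mul_cancel]
  refine ⟨ι k', hk', ι (k'⁻¹ * c'), Subgroup.mem_inf.mpr ⟨Subgroup.mem_map_of_mem ι hn', ?_⟩, by simp⟩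
  rw [map_mul, map_inv]
  exact mul_mem (inv_mem (KK_le_centralizer _ _ hk')) hcP

theorem quot [Finite G] {p : ℕ} [Fact p.Prime] {H P : Subgroup G} (mc : MC p H P)
    {N : Subgroup G} (hN : Nrm H P N) (hN1 : N ≠ ⊥) :
    ∀ c ∈ ⁅H, P⁆ ⊓ Subgroup.centralizer (P : Set G),
      ∃ k ∈ KK H P, ∃ n ∈ N ⊓ Subgroup.centralizer (P : Set G), c = k * n := by
  obtain ⟨hNH, hHN, hPN⟩ := hN
  have hNι : (N.subgroupOf (normalizer (N : Set G))).map (normalizer (N : Set G)).subtype = N :=
    Subgroup.map_subgroupOf_eq_of_le Subgroup.le_normalizer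
  have h := quot_aux mc (normalizer (N : Set G)).subtype (Subgroup.subtype_injective _)
    (N.subgroupOf (normalizer (N : Set G))) (H.subgroupOf (normalizer (N : Set G)))
    (P.subgroupOf (normalizer (N : Set G))) (Subgroup.map_subgroupOf_eq_of_le hHN)
    (Subgroup.map_subgroupOf_eq_of_le hPN)
    (fun x hx => Subgroup.mem_subgroupOf.mpr (hNH (Subgroup.mem_subgroupOf.mp hx)))
    (fun hbot => hN1 (by rw [← hNι, hbot, Subgroup.map_bot]))
  rw [hNι] at h
  exact h

end Cfsg.Agent.Lib.Helper8.FLL10
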