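import Cfsg.Agent.Lib.Helper5.Fi23M.Defs
import Cfsg.Agent.Lib.Helper5.Sp62Bridge

/-!
# S2054 piece [E-step] (helper8, for helper5): one level of a chain of coset enumerations inside a fixed group

`Δ = ⟨γ i | i ∈ U⟩`, `δ i = γ i` for `i ∈ U` and `1` otherwise; then `Sp62.card_le_of_bound` for `Δ`, `δ` and the
subgroup `⟨γ i | i ∈ U'⟩ ⊓ Δ` of `Δ`.
-/

set_option autoImplicit false
set_option linter.unusedVariables false

namespace Cfsg.Agent.Lib.Helper5.Fi23M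

open Cfsg Cfsg.H5.TCk
open Cfsg.Agent.Helper4.TC (Letter relSet)

universe u

namespace Helper8

theorem gl_congr_on {Γ : Type*} [Group Γ] (g g' : ℕ → Γ) (l : ℕ) (h : g (l / 2) = g' (l / 2)) :
    gl g l = gl g' l := by
  unfold gl
  rw [h]

theorem ev_congr_on {Γ : Type*} [Group Γ] (g g' : ℕ → Γ) (w : List ℕ)
    (h : ∀ l ∈ w, g (l / 2) = g' (l / 2)) : ev g w = ev g' w := by
  induction w with
  | nil => rfl
  | cons l w ih =>
    simp only [ev]
    rw [gl_congr_on g g' l (h l List.mem_cons_self),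
      ih (fun x hx => h x (List.mem_cons_of_mem _ hx))]

theorem map_gl' {Γ G : Type*} [Group Γ] [Group G] (σ : Γ →* G) (γ : ℕ → Γ) (l : ℕ) :
    σ (gl γ l) = gl (fun i => σ (γ i)) l := by
  unfold gl
  split_ifs
  · rfl
  · rw [map_inv]

theorem map_ev' {Γ G : Type*} [Group Γ] [Group G] (σ : Γ →* G) (γ : ℕ → Γ) (w : List ℕ) :
    σ (ev γ w) = ev (fun i => σ (γ i)) w := by
  induction w with
  | nil => simp [ev]
  | cons l w ih => simp only [ev, map_mul, ih, map_gl']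

theorem ev_single_even {Γ : Type*} [Group Γ] (γ : ℕ → Γ) (i : ℕ) : ev γ [2 * i] = γ i := by
  simp only [ev, mul_one]
  exact gl_even γ i

end Helper8

/-- [E-step] one level of a chain of coset enumerations inside a fixed group `Γ`. -/
theorem Helper8.step_bound_h8 {Γ : Type u} [Group Γ] {t : ℕ} (dec : ℕ → Letter (Fin t))
    (hdec : Cfsg.Agent.Lib.Helper5.Sp62.IsStd t dec) (bases subsL : List (List ℕ)) (n : ℕ)
    (hb : Finite (PresentedGroup (relSet dec bases) ⧸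
        (Subgroup.closure (relSet dec subsL)).map (PresentedGroup.mk (relSet dec bases))) ∧
      Nat.card (PresentedGroup (relSet dec bases) ⧸
        (Subgroup.closure (relSet dec subsL)).map (PresentedGroup.mk (relSet dec bases))) ≤ n)
    (γ : ℕ → Γ) (U U' : List ℕ) (hU : ∀ i ∈ U, i < t) (hU' : ∀ i ∈ U', i ∈ U)
    (hbases : ∀ b ∈ bases, (∃ k, k < t ∧ k ∉ U ∧ b = [2 * k]) ∨ ((∀ l ∈ b, l / 2 ∈ U) ∧ ev γ b = 1))
    (hsubs : ∀ s ∈ subsL, ∃ i ∈ U', s = [2 * i]) (m : ℕ)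
    (hK : Finite (Subgroup.closure (γ '' {i | i ∈ U'})) ∧
      Nat.card (Subgroup.closure (γ '' {i | i ∈ U'})) ≤ m) :
    Finite (Subgroup.closure (γ '' {i | i ∈ U})) ∧ Nat.card (Subgroup.closure (γ '' {i | i ∈ U})) ≤ n * m := by
  classical
  set Δ : Subgroup Γ := Subgroup.closure (γ '' {i | i ∈ U}) with hΔ
  have hmem : ∀ i ∈ U, γ i ∈ Δ := fun i hi => Subgroup.subset_closure ⟨i, hi, rfl⟩
  let δ : ℕ → Δ := fun i => if h : i ∈ U then ⟨γ i, hmem i h⟩ else 1
  have hδ : ∀ i ∈ U, (δ i : Γ) = γ i := by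
    intro i hi
    show ((if h : i ∈ U then (⟨γ i, hmem i h⟩ : Δ) else 1 : Δ) : Γ) = γ i
    rw [dif_pos hi]
  have hδ1 : ∀ i, i ∉ U → δ i = 1 := by
    intro i hi
    show (if h : i ∈ U then (⟨γ i, hmem i h⟩ : Δ) else 1 : Δ) = 1
    rw [dif_neg hi]
  have hcoe : ∀ w : List ℕ, (∀ l ∈ w, l / 2 ∈ U) → ((ev δ w : Δ) : Γ) = ev γ w := by
    intro w hw
    have h1 : ((ev δ w : Δ) : Γ) = Δ.subtype (ev δ w) := rfl
    rw [h1, Helper8.map_ev']
    exact Helper8.ev_congr_on _ _ w (fun l hl => hδ _ (hw l hl))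
  -- letters are in range
  have hlb : ∀ b ∈ bases, ∀ l ∈ b, l < 2 * t := by
    intro b hbm l hl
    rcases hbases b hbm with ⟨k, hk, _, rfl⟩ | ⟨h1, _⟩
    · rw [List.mem_singleton] at hl
      omega
    · have := hU _ (h1 l hl)
      omega
  have hls : ∀ s ∈ subsL, ∀ l ∈ s, l < 2 * t := by
    intro s hs l hl
    obtain ⟨i, hi, rfl⟩ := hsubs s hs
    rw [List.mem_singleton] at hl
    have := hU i (hU' i hi)
    omega
  -- the relators hold in `Δ`
  have hrel : ∀ b ∈ bases, ev δ b = 1 := by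
    intro b hbm
    rcases hbases b hbm with ⟨k, hk, hkU, rfl⟩ | ⟨h1, h2⟩
    · rw [Helper8.ev_single_even]
      exact hδ1 k hkU
    · apply Subtype.ext
      rw [hcoe b h1, h2]
      rfl
  -- generation
  have hgen : Subgroup.closure (Set.range fun i : Fin t => δ i.val) = ⊤ := by
    rw [eq_top_iff, ← Subgroup.closure_closure_coe_preimage (k := γ '' {i | i ∈ U})]
    apply Subgroup.closure_mono
    rintro x ⟨i, hi, hx⟩
    exact ⟨⟨i, hU i hi⟩, Subtype.ext (by rw [hδ i hi]; exact hx)⟩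
  -- the subgroup
  set K' : Subgroup Γ := Subgroup.closure (γ '' {i | i ∈ U'}) with hK'
  have hK'Δ : K' ≤ Δ := by
    apply Subgroup.closure_mono
    rintro x ⟨i, hi, rfl⟩
    exact ⟨i, hU' i hi, rfl⟩
  obtain ⟨hKfin, hKcard⟩ := hK
  let e : K'.subgroupOf Δ ≃* K' := Subgroup.subgroupOfEquivOfLe hK'Δ
  have : Finite (K'.subgroupOf Δ) := Finite.of_equiv _ e.symm.toEquiv
  have hcardK : Nat.card (K'.subgroupOf Δ) = Nat.card K' := Nat.card_congr e.toEquiv
  have hKmem : ∀ s ∈ subsL, ev δ s ∈ K'.subgroupOf Δ := by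
    intro s hs
    obtain ⟨i, hi, rfl⟩ := hsubs s hs
    rw [Helper8.ev_single_even, Subgroup.mem_subgroupOf, hδ i (hU' i hi)]
    exact Subgroup.subset_closure ⟨i, hi, rfl⟩
  obtain ⟨hfin, hcard⟩ := Cfsg.Agent.Lib.Helper5.Sp62.card_le_of_bound dec hdec bases subsL n hb hlb hls
    δ hrel hgen (K'.subgroupOf Δ) hKmem
  refine ⟨hfin, le_trans hcard ?_⟩
  rw [hcardK]
  exact Nat.mul_le_mul_left _ hKcard

end Cfsg.Agent.Lib.Helper5.Fi23M
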