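import Mathlib
import Cfsg.Agent.Lib.Helper20.PlaneCount
import Cfsg.Agent.Lib.Helper2.HC25.Planes

/-!
# S4025, PART C: the orders of `Γ` (helper8)

With exactly the hypotheses of `Cfsg.Agent.Lib.Helper2.HC25.partC`:
`p = 2`, `n = 3` gives `|Γ| ∈ {7, 21}`; `p = 2`, `n = 5` gives `|Γ| = 155`.
-/

set_option autoImplicit false

namespace Cfsg.Agent.Lib.Helper8.HC25Orders

universe u

section

variable {p : ℕ} [Fact p.Prime] {V : Type u} [AddCommGroup V] [Finite V]
  (Γ : Subgroup (Equiv.Perm V)) (hadd : ∀ γ ∈ Γ, ∀ v w : V, γ (v + w) = γ v + γ w)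
  {F : Type} [Field F] [Fintype F] (e : V ≃+ F)
  (hsl : ∀ γ ∈ Γ, ∃ (a : F) (σ : F ≃+* F), ∀ v, e (γ v) = a * σ (e v))

omit [Finite V] in
include hsl in
/-- the upper bound `|Γ| ≤ (|F| - 1) |Aut F|` -/
theorem card_le : Nat.card ↥Γ ≤ (Nat.card F - 1) * Nat.card (F ≃+* F) := by
  classical
  have hfin : Finite (F ≃+* F) :=
    Finite.of_injective (fun σ : F ≃+* F => (σ : F → F)) DFunLike.coe_injective
  have hsl' : ∀ γ : ↥Γ, ∃ q : Fˣ × (F ≃+* F),
      ∀ v, e ((γ : Equiv.Perm V) v) = (q.1 : F) * q.2 (e v) := by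
    intro γ
    obtain ⟨a, σ, h⟩ := hsl γ γ.2
    have ha : a ≠ 0 := by
      intro ha
      have h1 := h ((γ : Equiv.Perm V).symm (e.symm 1))
      rw [Equiv.apply_symm_apply, AddEquiv.apply_symm_apply, ha, zero_mul] at h1
      exact one_ne_zero h1
    exact ⟨(Units.mk0 a ha, σ), fun v => by rw [h v]; rfl⟩
  let f : ↥Γ → Fˣ × (F ≃+* F) := fun γ => Classical.choose (hsl' γ)
  have hf : Function.Injective f := by
    intro γ γ' h
    have h1 := Classical.choose_spec (hsl' γ)
    have h2 := Classical.choose_spec (hsl' γ')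
    have hff : Classical.choose (hsl' γ) = Classical.choose (hsl' γ') := h
    apply Subtype.ext
    apply Equiv.ext
    intro v
    apply e.injective
    rw [h1 v, h2 v, hff]
  have := Nat.card_le_card_of_injective f hf
  rw [Nat.card_prod, Nat.card_units] at this
  exact this

end

section trans

variable {p : ℕ} [Fact p.Prime] {V : Type u} [AddCommGroup V] [Finite V]
  (Γ : Subgroup (Equiv.Perm V))
  (htr : ∀ U₁ U₂ : AddSubgroup V, Nat.card U₁ = Nat.card U₂ → ∃ γ ∈ Γ, ∀ v, v ∈ U₁ ↔ γ v ∈ U₂)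

include htr in
/-- the number of subgroups of a given order is at most `|Γ|` -/
theorem card_subgroups_le (m : ℕ) :
    Nat.card {U : AddSubgroup V // Nat.card ↥U = m} ≤ Nat.card ↥Γ := by
  classical
  by_cases hne : Nonempty {U : AddSubgroup V // Nat.card ↥U = m}
  · obtain ⟨U₀⟩ := hne
    have hch : ∀ U : {U : AddSubgroup V // Nat.card ↥U = m}, ∃ γ : ↥Γ,
        ∀ v, v ∈ U₀.1 ↔ (γ : Equiv.Perm V) v ∈ U.1 := by
      intro U
      obtain ⟨γ, hγ, h⟩ := htr U₀.1 U.1 (U₀.2.trans U.2.symm)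
      exact ⟨⟨γ, hγ⟩, h⟩
    let f : {U : AddSubgroup V // Nat.card ↥U = m} → ↥Γ := fun U => Classical.choose (hch U)
    have hf : Function.Injective f := by
      intro U U' h
      have h1 := Classical.choose_spec (hch U)
      have h2 := Classical.choose_spec (hch U')
      apply Subtype.ext
      ext w
      have e1 := h1 ((f U : Equiv.Perm V).symm w)
      have e2 := h2 ((f U' : Equiv.Perm V).symm w)
      have hfU : Classical.choose (hch U) = f U := rfl
      have hfU' : Classical.choose (hch U') = f U' := rfl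
      rw [hfU, Equiv.apply_symm_apply] at e1
      rw [hfU', Equiv.apply_symm_apply] at e2
      rw [← e1, ← e2, h]
    exact Nat.card_le_card_of_injective f hf
  · rw [not_nonempty_iff] at hne
    rw [Nat.card_of_isEmpty]
    exact Nat.zero_le _

end trans

section main

variable {p : ℕ} [Fact p.Prime] {V : Type u} [AddCommGroup V] [Finite V] (n : ℕ)
  (hV : Nat.card V = p ^ n) (hexp : ∀ v : V, p • v = 0)
  (Γ : Subgroup (Equiv.Perm V)) (hadd : ∀ γ ∈ Γ, ∀ v w : V, γ (v + w) = γ v + γ w)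
  (htr : ∀ U₁ U₂ : AddSubgroup V, Nat.card U₁ = Nat.card U₂ → ∃ γ ∈ Γ, ∀ v, v ∈ U₁ ↔ γ v ∈ U₂)
  {F : Type} [Field F] [Fintype F] (e : V ≃+ F)
  (hsl : ∀ γ ∈ Γ, ∃ (a : F) (σ : F ≃+* F), ∀ v, e (γ v) = a * σ (e v))

omit [Fact p.Prime] [Finite V] [Fintype F] in
include hV e in
theorem card_F : Nat.card F = p ^ n := by
  rw [← hV]; exact (Nat.card_congr e.toEquiv).symm

include hV hexp htr hsl in
/-- `(p, n) = (2, 5)`: `|Γ| = 155` -/
theorem order_32 (hp : p = 2) (hn : n = 5) : Nat.card ↥Γ = 155 := by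
  subst hp hn
  have hF : Nat.card F = 2 ^ 5 := card_F 5 hV e
  have : CharP F 2 := Cfsg.Agent.Lib.Helper20.PlaneCount.charP_of_card (p := 2) hF
  have haut : Nat.card (F ≃+* F) = 5 :=
    Cfsg.Agent.Lib.Helper20.PlaneCount.card_ringAut (p := 2) hF
  have hle := card_le Γ e hsl
  rw [hF, haut] at hle
  have hpl := Cfsg.Agent.Lib.Helper2.HC25.card_planes_mul (p := 2) hV hexp
  have hge := card_subgroups_le Γ htr (2 ^ 2)
  have h155 : Nat.card {U : AddSubgroup V // Nat.card ↥U = 2 ^ 2} = 155 := by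
    have h6 : Nat.card {U : AddSubgroup V // Nat.card ↥U = 2 ^ 2} * 6 = 930 := by
      have e1 : (2 ^ 2 - 1) * (2 ^ 2 - 2) = 6 := by norm_num
      have e2 : (2 ^ 5 - 1) * (2 ^ 5 - 2) = 930 := by norm_num
      rw [e1, e2] at hpl
      exact hpl
    omega
  rw [h155] at hge
  have hle' : Nat.card ↥Γ ≤ 155 := by
    have e3 : (2 ^ 5 - 1) * 5 = 155 := by norm_num
    rw [e3] at hle
    exact hle
  omega

omit [Finite V] in
include hadd in
theorem map_zero_of_mem {γ : Equiv.Perm V} (hγ : γ ∈ Γ) : γ 0 = 0 := by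
  have h := hadd γ hγ 0 0
  rw [add_zero] at h
  have : γ 0 + 0 = γ 0 + γ 0 := by rw [add_zero]; exact h
  exact (add_left_cancel this).symm

include hV hexp hadd htr in
/-- `(p, n) = (2, 3)`: `7 ∣ |Γ|` -/
theorem seven_dvd (hp : p = 2) (hn : n = 3) : 7 ∣ Nat.card ↥Γ := by
  classical
  subst hp hn
  -- a nonzero vector
  have hVcard : Nat.card V = 8 := by rw [hV]; norm_num
  have : Nontrivial V := by
    apply (Finite.one_lt_card_iff_nontrivial).mp
    rw [hVcard]; norm_num
  obtain ⟨v₀, hv₀⟩ := exists_ne (0 : V)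
  -- the orbit of `v₀` is `V ∖ {0}`
  have horb : MulAction.orbit ↥Γ v₀ = {w : V | w ≠ 0} := by
    ext w
    constructor
    · rintro ⟨γ, rfl⟩
      show (γ : Equiv.Perm V) v₀ ≠ 0
      intro h0
      have hz := map_zero_of_mem Γ hadd γ.2
      exact hv₀ ((γ : Equiv.Perm V).injective (h0.trans hz.symm))
    · intro hw
      have hw' : w ≠ 0 := hw
      have hc1 := Cfsg.Agent.Lib.Helper2.HC25.card_zmultiples_of_ne_zero (p := 2) hexp hv₀
      have hc2 := Cfsg.Agent.Lib.Helper2.HC25.card_zmultiples_of_ne_zero (p := 2) hexp hw'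
      obtain ⟨γ, hγ, h⟩ := htr _ _ (hc1.trans hc2.symm)
      have h1 := (h v₀).mp (AddSubgroup.mem_zmultiples v₀)
      obtain ⟨k, hk⟩ := AddSubgroup.mem_zmultiples_iff.mp h1
      refine ⟨⟨γ, hγ⟩, ?_⟩
      show γ v₀ = w
      have hγ0 : γ v₀ ≠ 0 := by
        intro h0
        have hz := map_zero_of_mem Γ hadd hγ
        exact hv₀ (γ.injective (h0.trans hz.symm))
      -- `k • w` is `0` or `w`
      have h2w : (2 : ℤ) • w = 0 := by
        have := hexp w
        rw [← natCast_zsmul] at this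
        exact_mod_cast this
      rcases Int.even_or_odd k with ⟨j, hj⟩ | ⟨j, hj⟩
      · exfalso
        apply hγ0
        rw [← hk, hj, ← two_mul, mul_comm, mul_zsmul, h2w, zsmul_zero]
      · rw [← hk, hj, add_zsmul, mul_comm, mul_zsmul, h2w, zsmul_zero, zero_add, one_zsmul]
  have hcard_orb : Nat.card (MulAction.orbit ↥Γ v₀) = 7 := by
    rw [horb]
    have h1 : Nat.card {w : V // w ≠ 0} = Nat.card V - 1 := by
      have := Fintype.ofFinite V
      rw [Nat.card_eq_fintype_card, Nat.card_eq_fintype_card]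
      exact Fintype.card_subtype_compl (fun w : V => w = 0) |>.trans (by
        rw [Fintype.card_subtype_eq])
    show Nat.card {w : V // w ≠ 0} = 7
    rw [h1, hVcard]
  have hos := Nat.card_congr (MulAction.orbitProdStabilizerEquivGroup ↥Γ v₀)
  rw [Nat.card_prod, hcard_orb] at hos
  exact Dvd.intro _ hos

include hV hsl in
/-- `(p, n) = (2, 3)`: `|Γ|` is odd -/
theorem odd_card (hp : p = 2) (hn : n = 3) : ¬ 2 ∣ Nat.card ↥Γ := by
  classical
  subst hp hn
  intro h2
  have hF : Nat.card F = 2 ^ 3 := card_F 3 hV e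
  have hchar : CharP F 2 := Cfsg.Agent.Lib.Helper20.PlaneCount.charP_of_card (p := 2) hF
  have haut : Nat.card (F ≃+* F) = 3 :=
    Cfsg.Agent.Lib.Helper20.PlaneCount.card_ringAut (p := 2) hF
  obtain ⟨γ, hγ⟩ := exists_prime_orderOf_dvd_card' (G := ↥Γ) 2 h2
  obtain ⟨a, σ, h⟩ := hsl γ γ.2
  have hγ2 : γ * γ = 1 := by
    rw [← pow_two, ← hγ]; exact pow_orderOf_eq_one γ
  have hγ2' : ∀ v, (γ : Equiv.Perm V) ((γ : Equiv.Perm V) v) = v := by
    intro v
    have := congrArg (fun g : ↥Γ => (g : Equiv.Perm V) v) hγ2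
    simpa using this
  -- the identity `a σ(a) σ²(x) = x`
  have hid : ∀ x : F, a * σ a * σ (σ x) = x := by
    intro x
    have h1 := h ((γ : Equiv.Perm V) (e.symm x))
    rw [hγ2', h (e.symm x), AddEquiv.apply_symm_apply, map_mul] at h1
    rw [mul_assoc]
    exact h1.symm
  have h1 : a * σ a = 1 := by
    have := hid 1
    rwa [map_one, map_one, mul_one] at this
  have hσ2 : σ * σ = 1 := by
    apply RingEquiv.ext
    intro x
    have := hid x
    rw [h1, one_mul] at this
    exact this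
  have hσ3 : σ ^ 3 = 1 := by
    have := pow_card_eq_one' (G := F ≃+* F) (x := σ)
    rwa [haut] at this
  have hσ1 : σ = 1 := by
    have : σ ^ 3 = σ * σ * σ := by rw [pow_succ, pow_two]
    rw [this, hσ2, one_mul] at hσ3
    exact hσ3
  have ha1 : a = 1 := by
    rw [hσ1] at h1
    have h1' : a * a = 1 := h1
    have h3 : (a + 1) * (a + 1) = 0 := by
      have : (a + 1) * (a + 1) = a * a + (a + a) + 1 := by ring
      rw [this, h1', CharTwo.add_self_eq_zero, add_zero, CharTwo.add_self_eq_zero]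
    have h4 : a + 1 = 0 := mul_self_eq_zero.mp h3
    have h5 : a = -1 := eq_neg_of_add_eq_zero_left h4
    rw [h5, CharTwo.neg_eq]
  have hγ1 : γ = 1 := by
    apply Subtype.ext
    apply Equiv.ext
    intro v
    apply e.injective
    rw [h v, ha1, hσ1, one_mul]
    rfl
  rw [hγ1, orderOf_one] at hγ
  omega

include hV hexp hadd htr hsl in
/-- `(p, n) = (2, 3)`: `|Γ| ∈ {7, 21}` -/
theorem order_8 (hp : p = 2) (hn : n = 3) : Nat.card ↥Γ = 7 ∨ Nat.card ↥Γ = 21 := by
  have h7 := seven_dvd n hV hexp Γ hadd htr hp hn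
  have hodd := odd_card n hV Γ e hsl hp hn
  subst hp hn
  have hF : Nat.card F = 2 ^ 3 := card_F 3 hV e
  have : CharP F 2 := Cfsg.Agent.Lib.Helper20.PlaneCount.charP_of_card (p := 2) hF
  have haut : Nat.card (F ≃+* F) = 3 :=
    Cfsg.Agent.Lib.Helper20.PlaneCount.card_ringAut (p := 2) hF
  have hle := card_le Γ e hsl
  rw [hF, haut] at hle
  have hle' : Nat.card ↥Γ ≤ 21 := by
    have e3 : (2 ^ 3 - 1) * 3 = 21 := by norm_num
    rw [e3] at hle
    exact hle
  have hpos : 0 < Nat.card ↥Γ := Nat.card_pos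
  obtain ⟨k, hk⟩ := h7
  omega

include hV hexp hadd htr hsl in
/-- the orders of `Γ` in the two surviving cases -/
theorem orders : (p = 2 → n = 3 → Nat.card ↥Γ = 7 ∨ Nat.card ↥Γ = 21) ∧
    (p = 2 → n = 5 → Nat.card ↥Γ = 155) :=
  ⟨fun hp hn => order_8 n hV hexp Γ hadd htr e hsl hp hn,
   fun hp hn => order_32 n hV hexp Γ htr e hsl hp hn⟩

end main

end Cfsg.Agent.Lib.Helper8.HC25Orders
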