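import Mathlib

set_option autoImplicit false

/-! A group generated by involutions with a length function satisfying the exchange condition is
presented by the Coxeter relations (Matsumoto's argument). -/

namespace Cfsg.Agent.Lib.Helper8.Weyl

open CoxeterSystem

section Matsumoto

variable {ι : Type*} {W : Type*} [Group W]

/-- the product of a word -/
def wp (s : ι → W) (l : List ι) : W := (l.map s).prod

theorem wp_nil (s : ι → W) : wp s [] = 1 := by simp [wp]

theorem wp_cons (s : ι → W) (i : ι) (l : List ι) : wp s (i :: l) = s i * wp s l := by simp [wp]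

theorem wp_append (s : ι → W) (l l' : List ι) : wp s (l ++ l') = wp s l * wp s l' := by simp [wp]

theorem wp_singleton (s : ι → W) (i : ι) : wp s [i] = s i := by simp [wp]

/-- the hypotheses: involutions, a length function, the exchange condition, the orders of the
products of two generators -/
structure ExData (M : CoxeterMatrix ι) (s : ι → W) (N : W → ℕ) : Prop where
  sq : ∀ i, s i * s i = 1
  N_one : N 1 = 0
  N_right : ∀ w i, N (w * s i) = N w + 1 ∨ N (w * s i) + 1 = N w
  N_left : ∀ w i, N (s i * w) ≤ N w + 1
  exch : ∀ (l : List ι) (i : ι), N (wp s l) = l.length → N (wp s l * s i) + 1 = N (wp s l) →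
      ∃ l1 j l2, l = l1 ++ j :: l2 ∧ s j * wp s l2 * s i = wp s l2
  rel : ∀ i j, (s i * s j) ^ M i j = 1
  ord : ∀ i j k, i ≠ j → (s i * s j) ^ k = 1 → M i j ∣ k

/-- reduced words -/
def Red (s : ι → W) (N : W → ℕ) (l : List ι) : Prop := N (wp s l) = l.length

variable {M : CoxeterMatrix ι} {s : ι → W} {N : W → ℕ} (h : ExData M s N)
variable {C : Type*} [Group C] (cs : CoxeterSystem M C)

include h

theorem ExData.N_mul_wp_le (w : W) (l : List ι) : N (w * wp s l) ≤ N w + l.length := by
  induction l using List.reverseRecOn with
  | nil => simp [wp_nil]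
  | append_singleton l i ih =>
    rw [wp_append, wp_singleton, ← mul_assoc, List.length_append, List.length_singleton]
    rcases h.N_right (w * wp s l) i with e | e <;> omega

theorem ExData.N_wp_mul_le (w : W) (l : List ι) : N (wp s l * w) ≤ N w + l.length := by
  induction l with
  | nil => simp [wp_nil]
  | cons i l ih =>
    rw [wp_cons, mul_assoc, List.length_cons]
    have := h.N_left (wp s l * w) i
    omega

theorem ExData.N_wp_le (l : List ι) : N (wp s l) ≤ l.length := by
  have := h.N_mul_wp_le 1 l
  rwa [one_mul, h.N_one, zero_add] at this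

theorem ExData.red_prefix {l1 l2 : List ι} (hr : Red s N (l1 ++ l2)) : Red s N l1 := by
  unfold Red at hr ⊢
  rw [wp_append, List.length_append] at hr
  have h1 := h.N_mul_wp_le (wp s l1) l2
  have h2 := h.N_wp_le l1
  omega

theorem ExData.red_suffix {l1 l2 : List ι} (hr : Red s N (l1 ++ l2)) : Red s N l2 := by
  unfold Red at hr ⊢
  rw [wp_append, List.length_append] at hr
  have h1 := h.N_wp_mul_le (wp s l2) l1
  have h2 := h.N_wp_le l2
  omega

theorem ExData.mul_sq_right (w : W) (i : ι) : w * s i * s i = w := by
  rw [mul_assoc, h.sq, mul_one]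

/-- the canonical homomorphism from the Coxeter group -/
noncomputable def ExData.hom : C →* W := cs.lift ⟨s, h.rel⟩

theorem ExData.hom_simple (i : ι) : h.hom cs (cs.simple i) = s i :=
  cs.lift_apply_simple h.rel i

theorem ExData.hom_wordProd (l : List ι) : h.hom cs (cs.wordProd l) = wp s l := by
  induction l with
  | nil => simp [wp_nil]
  | cons i l ih => rw [cs.wordProd_cons, map_mul, ih, h.hom_simple, wp_cons]

theorem ExData.wp_alternatingWord (i i' : ι) (m : ℕ) :
    wp s (alternatingWord i i' m) = (if Even m then 1 else s i') * (s i * s i') ^ (m / 2) := by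
  rw [← h.hom_wordProd M.toCoxeterSystem, M.toCoxeterSystem.prod_alternatingWord_eq_mul_pow,
    map_mul, map_pow, map_mul, h.hom_simple, h.hom_simple, apply_ite (h.hom M.toCoxeterSystem),
    map_one, h.hom_simple]

omit [Group W] h in
theorem alternatingWord_suffix' (a b : ι) (m' d : ℕ) :
    ∃ pre, alternatingWord a b (m' + d) = pre ++ alternatingWord a b m' := by
  induction d with
  | zero => exact ⟨[], rfl⟩
  | succ d ih =>
    obtain ⟨pre, e⟩ := ih
    refine ⟨(if Even (m' + d) then b else a) :: pre, ?_⟩
    rw [← add_assoc, alternatingWord_succ', e, List.cons_append]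

/-- two reduced alternating words of the same length with the same product have the length
of the braid relation -/
theorem ExData.alt_length (a b : ι) (hab : a ≠ b) (m : ℕ) (hm : 0 < m)
    (h1 : Red s N (alternatingWord a b m))
    (he : wp s (alternatingWord a b m) = wp s (alternatingWord b a m)) : m = M a b := by
  have hx : (s b * s a) = (s a * s b)⁻¹ := by
    rw [eq_inv_iff_mul_eq_one, mul_assoc, ← mul_assoc (s a), h.sq, one_mul, h.sq]
  -- the order divides `m`
  have hpow : (s a * s b) ^ m = 1 := by
    rw [h.wp_alternatingWord, h.wp_alternatingWord, hx] at he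
    rcases Nat.even_or_odd' m with ⟨k, rfl | rfl⟩
    · have e1 : 2 * k / 2 = k := by omega
      rw [if_pos (even_two_mul k), if_pos (even_two_mul k), e1, one_mul, one_mul, inv_pow] at he
      rw [two_mul, pow_add]
      nth_rw 2 [he]
      rw [mul_inv_cancel]
    · have e1 : (2 * k + 1) / 2 = k := by omega
      have hodd : ¬ Even (2 * k + 1) := by
        rw [Nat.not_even_iff_odd]; exact odd_two_mul_add_one k
      rw [if_neg hodd, if_neg hodd, e1, inv_pow] at he
      have he' : s a * s b * (s a * s b) ^ k = ((s a * s b) ^ k)⁻¹ := by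
        have : s a * (s b * (s a * s b) ^ k) = s a * (s a * ((s a * s b) ^ k)⁻¹) := by rw [he]
        rw [← mul_assoc, ← mul_assoc, h.sq, one_mul] at this
        exact this
      have e2 : 2 * k + 1 = (1 + k) + k := by ring
      rw [e2, pow_add, pow_add, pow_one, he', inv_mul_cancel]
  have hdvd := h.ord a b m hab hpow
  have hle : M a b ≤ m := Nat.le_of_dvd hm hdvd
  have hM0 : 0 < M a b := Nat.pos_of_dvd_of_pos hdvd hm
  -- and `m` is at most the order
  by_contra hne
  have hlt : M a b + 1 ≤ m := by omega
  obtain ⟨pre, e⟩ := alternatingWord_suffix' a b (M a b + 1) (m - (M a b + 1))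
  have e' : M a b + 1 + (m - (M a b + 1)) = m := by omega
  rw [e'] at e
  rw [e] at h1
  have hr := h.red_suffix h1
  unfold Red at hr
  rw [length_alternatingWord, ← h.hom_wordProd M.toCoxeterSystem,
    M.toCoxeterSystem.prod_alternatingWord_eq_prod_alternatingWord_sub a b (M a b + 1) (by omega),
    h.hom_wordProd M.toCoxeterSystem] at hr
  have := h.N_wp_le (alternatingWord b a (M a b * 2 - (M a b + 1)))
  rw [length_alternatingWord] at this
  omega

/-- one step of Matsumoto's argument -/
theorem ExData.step (q : ℕ)
    (IH : ∀ l l' : List ι, l.length = q → Red s N l → Red s N l' → wp s l = wp s l' →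
      cs.wordProd l = cs.wordProd l')
    (a0 a0' : List ι) (i i' : ι) (hl : (a0 ++ [i]).length = q + 1) (hr : Red s N (a0 ++ [i]))
    (hr' : Red s N (a0' ++ [i'])) (he : wp s (a0 ++ [i]) = wp s (a0' ++ [i'])) :
    cs.wordProd (a0 ++ [i]) = cs.wordProd (a0' ++ [i']) ∨
      ∃ j l2, a0 ++ [i] = j :: l2 ∧ Red s N (l2 ++ [i']) ∧
        wp s (l2 ++ [i']) = wp s (a0 ++ [i]) ∧
        cs.wordProd (l2 ++ [i']) = cs.wordProd (a0' ++ [i']) := by
  have hNw : N (wp s (a0 ++ [i])) = q + 1 := by rw [hr, hl]
  have hlen' : (a0' ++ [i']).length = q + 1 := by rw [← hr', ← he, hNw]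
  have hra0' : Red s N a0' := h.red_prefix hr'
  have hla0' : a0'.length = q := by
    rw [List.length_append, List.length_singleton] at hlen'
    omega
  have hwa0' : wp s a0' = wp s (a0 ++ [i]) * s i' := by
    rw [he, wp_append, wp_singleton, h.mul_sq_right]
  have hNdrop : N (wp s (a0 ++ [i]) * s i') + 1 = N (wp s (a0 ++ [i])) := by
    rw [← hwa0', hra0', hla0', hNw]
  obtain ⟨l1, j, l2, hl12, hx⟩ := h.exch _ i' hr hNdrop
  have hx' : wp s l2 * s i' = s j * wp s l2 := by
    have : s j * (s j * wp s l2 * s i') = s j * wp s l2 := by rw [hx]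
    rw [← mul_assoc, ← mul_assoc, h.sq, one_mul] at this
    exact this
  have hw12 : wp s (l1 ++ l2) = wp s (a0 ++ [i]) * s i' := by
    rw [hl12, wp_append, wp_append, wp_cons, mul_assoc, mul_assoc, hx', ← mul_assoc (s j),
      h.sq, one_mul]
  have hlen12 : (l1 ++ l2).length = q := by
    have := hl
    rw [hl12] at this
    simp only [List.length_append, List.length_cons] at this ⊢
    omega
  have hr12 : Red s N (l1 ++ l2) := by
    unfold Red
    rw [hw12, ← hwa0', hra0', hla0', hlen12]
  have hπ12 : cs.wordProd (l1 ++ l2) = cs.wordProd a0' :=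
    IH _ _ hlen12 hr12 hra0' (by rw [hw12, hwa0'])
  have hπu : cs.wordProd (l1 ++ l2 ++ [i']) = cs.wordProd (a0' ++ [i']) := by
    rw [cs.wordProd_append, hπ12, ← cs.wordProd_append]
  have hwu : wp s (l1 ++ l2 ++ [i']) = wp s (a0 ++ [i]) := by
    rw [wp_append, hw12, wp_singleton, h.mul_sq_right]
  have hru : Red s N (l1 ++ l2 ++ [i']) := by
    unfold Red
    rw [hwu, hNw, List.length_append, hlen12, List.length_singleton]
  cases l1 with
  | nil =>
    right
    exact ⟨j, l2, hl12, hru, hwu, hπu⟩
  | cons k l1' =>
    left
    rw [← hπu, hl12]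
    have ht1 : Red s N (l1' ++ j :: l2) := by
      have : Red s N ([k] ++ (l1' ++ j :: l2)) := by
        rw [hl12] at hr
        exact hr
      exact h.red_suffix this
    have ht2 : Red s N (l1' ++ l2 ++ [i']) := by
      have : Red s N ([k] ++ (l1' ++ l2 ++ [i'])) := hru
      exact h.red_suffix this
    have hwt : wp s (l1' ++ j :: l2) = wp s (l1' ++ l2 ++ [i']) := by
      have e1 : s k * wp s (l1' ++ j :: l2) = s k * wp s (l1' ++ l2 ++ [i']) := by
        rw [← wp_cons, ← wp_cons]
        have : k :: (l1' ++ l2 ++ [i']) = (k :: l1') ++ l2 ++ [i'] := rfl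
        rw [this, hwu, hl12]
        rfl
      exact mul_left_cancel e1
    have hlt : (l1' ++ j :: l2).length = q := by
      have := hl
      rw [hl12] at this
      simp only [List.length_append, List.length_cons] at this ⊢
      omega
    have := IH _ _ hlt ht1 ht2 hwt
    show cs.wordProd (k :: (l1' ++ j :: l2)) = cs.wordProd (k :: (l1' ++ l2 ++ [i']))
    rw [cs.wordProd_cons, cs.wordProd_cons, this]

/-- the inner induction of Matsumoto's argument -/
theorem ExData.zlemma (q : ℕ)
    (IH : ∀ l l' : List ι, l.length = q → Red s N l → Red s N l' → wp s l = wp s l' →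
      cs.wordProd l = cs.wordProd l') :
    ∀ (n : ℕ) (p : List ι) (a b : ι) (k : ℕ) (y0 z0 : List ι), p.length = n → a ≠ b →
      p ++ alternatingWord b a k = y0 ++ [a] → (y0 ++ [a]).length = q + 1 →
      Red s N (y0 ++ [a]) → Red s N (z0 ++ [b]) → wp s (y0 ++ [a]) = wp s (z0 ++ [b]) →
      cs.wordProd (y0 ++ [a]) = cs.wordProd (z0 ++ [b]) := by
  intro n
  induction n with
  | zero =>
    intro p a b k y0 z0 hp hab hy hlen hry hrz he
    rw [List.length_eq_zero_iff] at hp
    subst hp
    rw [List.nil_append] at hy
    have hk : k = q + 1 := by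
      have := congrArg List.length hy
      rw [length_alternatingWord, hlen] at this
      exact this
    subst hk
    rcases h.step cs q IH y0 z0 a b hlen hry hrz he with h1 | ⟨j, l2, hj, hru, hwu, hπu⟩
    · exact h1
    · rw [← hπu]
      have hl2 : l2 = alternatingWord b a q := by
        rw [← hy, alternatingWord_succ'] at hj
        exact (List.cons.inj hj).2.symm
      have hu : l2 ++ [b] = alternatingWord a b (q + 1) := by
        rw [hl2, alternatingWord_succ, List.concat_eq_append]
      rw [hu] at hru hwu ⊢
      rw [← hy] at hwu ⊢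
      have hm := h.alt_length a b hab (q + 1) (Nat.succ_pos q) hru hwu
      rw [hm]
      have := cs.wordProd_braidWord_eq b a
      unfold braidWord at this
      rw [M.symmetric a b]
      nth_rw 2 [M.symmetric b a]
      exact this
  | succ n ih =>
    intro p a b k y0 z0 hp hab hy hlen hry hrz he
    rcases h.step cs q IH y0 z0 a b hlen hry hrz he with h1 | ⟨j, l2, hj, hru, hwu, hπu⟩
    · exact h1
    · rw [← hπu]
      cases p with
      | nil => simp at hp
      | cons j0 p' =>
        have hp' : p'.length = n := by simpa using hp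
        have hl2 : l2 = p' ++ alternatingWord b a k := by
          rw [← hy, List.cons_append] at hj
          exact (List.cons.inj hj).2.symm
        have hu : p' ++ alternatingWord a b (k + 1) = l2 ++ [b] := by
          rw [hl2, alternatingWord_succ, List.concat_eq_append, List.append_assoc]
        have hlenu : (l2 ++ [b]).length = q + 1 := by
          have := congrArg List.length hj
          rw [hlen, List.length_cons] at this
          rw [List.length_append, List.length_singleton]
          omega
        exact (ih p' b a (k + 1) l2 y0 hp' hab.symm hu hlenu hru hry hwu).symm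

/-- Matsumoto: reduced words of the same element have the same product in the Coxeter group -/
theorem ExData.matsumoto (q : ℕ) : ∀ l l' : List ι, l.length = q → Red s N l → Red s N l' →
    wp s l = wp s l' → cs.wordProd l = cs.wordProd l' := by
  induction q with
  | zero =>
    intro l l' hl hr hr' he
    rw [List.length_eq_zero_iff] at hl
    subst hl
    have : l'.length = 0 := by
      rw [← hr', ← he, wp_nil, h.N_one]
    rw [List.length_eq_zero_iff] at this
    rw [this]
  | succ q IH =>
    intro l l' hl hr hr' he
    have hl' : l'.length = q + 1 := by rw [← hr', ← he, hr, hl]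
    rcases List.eq_nil_or_concat l with rfl | ⟨a0, a, rfl⟩
    · simp at hl
    rcases List.eq_nil_or_concat l' with rfl | ⟨z0, b, rfl⟩
    · simp at hl'
    simp only [List.concat_eq_append] at *
    by_cases hab : a = b
    · subst hab
      have h1 : wp s a0 = wp s z0 := by
        rw [wp_append, wp_append] at he
        exact mul_right_cancel he
      have h2 : a0.length = q := by
        rw [List.length_append, List.length_singleton] at hl
        omega
      rw [cs.wordProd_append, cs.wordProd_append,
        IH a0 z0 h2 (h.red_prefix hr) (h.red_prefix hr') h1]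
    · exact h.zlemma cs q IH (a0 ++ [a]).length (a0 ++ [a]) a b 0 a0 z0 rfl hab (by simp [alternatingWord])
        hl hr hr' he

/-- every element of the Coxeter group is the product of a word reduced in `W` -/
theorem ExData.exists_reduced (l : List ι) :
    ∃ l' : List ι, Red s N l' ∧ cs.wordProd l' = cs.wordProd l := by
  induction l using List.reverseRecOn with
  | nil =>
    refine ⟨[], ?_, rfl⟩
    unfold Red
    rw [wp_nil, h.N_one, List.length_nil]
  | append_singleton l i ih =>
    obtain ⟨l0, hr0, e0⟩ := ih
    rcases h.N_right (wp s l0) i with hN | hN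
    · refine ⟨l0 ++ [i], ?_, ?_⟩
      · unfold Red at hr0 ⊢
        rw [wp_append, wp_singleton, hN, hr0, List.length_append, List.length_singleton]
      · rw [cs.wordProd_append, e0, ← cs.wordProd_append]
    · obtain ⟨l1, j, l2, hl12, hx⟩ := h.exch l0 i hr0 hN
      have hx' : wp s l2 * s i = s j * wp s l2 := by
        have : s j * (s j * wp s l2 * s i) = s j * wp s l2 := by rw [hx]
        rw [← mul_assoc, ← mul_assoc, h.sq, one_mul] at this
        exact this
      have hrj : Red s N (j :: l2) := by
        rw [hl12] at hr0
        exact h.red_suffix hr0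
      have hri : Red s N (l2 ++ [i]) := by
        unfold Red at hrj ⊢
        rw [wp_append, wp_singleton, hx', ← wp_cons, hrj, List.length_append,
          List.length_singleton, List.length_cons]
      have hπ : cs.wordProd (j :: l2) = cs.wordProd (l2 ++ [i]) :=
        h.matsumoto cs _ _ _ rfl hrj hri (by rw [wp_cons, wp_append, wp_singleton, hx'])
      refine ⟨l1 ++ l2, ?_, ?_⟩
      · unfold Red at hr0 ⊢
        have hw : wp s (l1 ++ l2) = wp s l0 * s i := by
          rw [hl12, wp_append, wp_append, wp_cons, mul_assoc, mul_assoc, hx', ← mul_assoc (s j),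
            h.sq, one_mul]
        rw [hw]
        have hlen := congrArg List.length hl12
        simp only [List.length_append, List.length_cons] at hlen ⊢
        omega
      · symm
        calc cs.wordProd (l ++ [i]) = cs.wordProd l * cs.wordProd [i] := cs.wordProd_append _ _
          _ = cs.wordProd l0 * cs.wordProd [i] := by rw [e0]
          _ = cs.wordProd l1 * cs.wordProd (j :: l2) * cs.wordProd [i] := by
              rw [hl12, cs.wordProd_append]
          _ = cs.wordProd l1 * (cs.simple j * (cs.wordProd l2 * cs.wordProd [i])) := by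
              rw [cs.wordProd_cons]; group
          _ = cs.wordProd l1 * (cs.simple j * cs.wordProd (l2 ++ [i])) := by
              rw [← cs.wordProd_append]
          _ = cs.wordProd l1 * (cs.simple j * cs.wordProd (j :: l2)) := by rw [hπ]
          _ = cs.wordProd l1 * (cs.simple j * (cs.simple j * cs.wordProd l2)) := by
              rw [cs.wordProd_cons]
          _ = cs.wordProd l1 * cs.wordProd l2 := by
              rw [← mul_assoc (cs.simple j), cs.simple_mul_simple_self, one_mul]
          _ = cs.wordProd (l1 ++ l2) := (cs.wordProd_append _ _).symm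

/-- the canonical homomorphism is injective -/
theorem ExData.hom_injective : Function.Injective (h.hom cs) := by
  rw [injective_iff_map_eq_one]
  intro c hc
  obtain ⟨l, rfl⟩ := cs.wordProd_surjective c
  obtain ⟨l', hr, e⟩ := h.exists_reduced cs l
  rw [← e] at hc ⊢
  rw [h.hom_wordProd] at hc
  unfold Red at hr
  rw [hc, h.N_one] at hr
  rw [List.length_eq_zero_iff.mp hr.symm, cs.wordProd_nil]

theorem ExData.hom_surjective (hgen : Subgroup.closure (Set.range s) = ⊤) :
    Function.Surjective (h.hom cs) := by
  rw [← MonoidHom.range_eq_top, eq_top_iff, ← hgen, Subgroup.closure_le]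
  rintro _ ⟨i, rfl⟩
  exact ⟨cs.simple i, h.hom_simple cs i⟩

/-- the isomorphism -/
noncomputable def ExData.equiv (hgen : Subgroup.closure (Set.range s) = ⊤) : C ≃* W :=
  MulEquiv.ofBijective (h.hom cs) ⟨h.hom_injective cs, h.hom_surjective cs hgen⟩

theorem ExData.equiv_simple (hgen : Subgroup.closure (Set.range s) = ⊤) (i : ι) :
    h.equiv cs hgen (cs.simple i) = s i := h.hom_simple cs i

end Matsumoto

end Cfsg.Agent.Lib.Helper8.Weyl
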