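import Cfsg.Agent.Lib.Helper8.McLFusDefs

/-! Kernel-checked certificates: the elements of the Sylow subgroup. -/

set_option autoImplicit false

namespace Cfsg.Agent.Lib.Helper8.McLFus

open Cfsg.Agent.Lib.Helper28.BSGS

set_option maxRecDepth 100000 in
theorem xs_invol : xs.all (fun x => x.1 == x.2) = true := by decide +kernel

set_option maxRecDepth 100000 in
theorem progL_ok : slpOK 275 9 xs progL = true := by decide +kernel

set_option maxRecDepth 100000 in
theorem id_ok : LL.any (fun l => isId 275 9 l.1) = true := by decide +kernel

set_option maxRecDepth 100000 in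
theorem fp_ok : nodupB ((LL.map (fpT 9 b2 b3)).map fun p => p.1 * 512 + p.2) = true := by
  decide +kernel

set_option maxRecDepth 100000 in
theorem len_ok : LL.length = 128 := by decide +kernel

end Cfsg.Agent.Lib.Helper8.McLFus
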