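import Cfsg.Agent.Lib.Helper8.McLFusDefs

/-! Kernel-checked certificates: closure of the element list. -/

set_option autoImplicit false

namespace Cfsg.Agent.Lib.Helper8.McLFus

open Cfsg.Agent.Lib.Helper28.BSGS

set_option maxRecDepth 100000 in
theorem closed_ok : closedOK 275 9 xs LL = true := by decide +kernel

end Cfsg.Agent.Lib.Helper8.McLFus
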