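import Cfsg.Agent.Lib.Helper8.McLFusDefs

/-! Kernel-checked certificates: fixed points, orbits, centre, conjugators. -/

set_option autoImplicit false

namespace Cfsg.Agent.Lib.Helper8.McLFus

open Cfsg.Agent.Lib.Helper28.BSGS

set_option maxRecDepth 100000 in
theorem fc_ok : (List.range 275).all (fun y =>
    (fcT 9 LL y != 128 || y == b1) && (fcT 9 LL y != 2 || LL.any fun l => look 9 l.1 b2 == y) &&
    (fcT 9 LL y != 64 || y == b3 || y == b4)) = true := by decide +kernel

set_option maxRecDepth 100000 in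
theorem fc_base : fcT 9 LL b1 = 128 ∧ fcT 9 LL b2 = 2 ∧ fcT 9 LL b3 = 64 ∧ fcT 9 LL b4 = 64 := by
  decide +kernel

set_option maxRecDepth 100000 in
theorem tt_ok : LL.any (fun l => look 9 l.1 b2 == b2 && look 9 l.1 b4 == b3) = true := by
  decide +kernel

set_option maxRecDepth 100000 in
theorem fix_ok : (fixOK 9 k1 b1 && fixOK 9 k2 b1 && fixOK 9 k2 b2 && fixOK 9 k3 b1 &&
    fixOK 9 k3 b2 && fixOK 9 k3 b3 && fixOK 9 [kk] b1 && fixOK 9 [kk] b2 && fixOK 9 [kk] b3 &&
    fixOK 9 [kk] b4) = true := by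
  decide +kernel

set_option maxRecDepth 100000 in
theorem kk_ok : fcT 9 LL (look 9 kk.1 y0) ≠ fcT 9 LL y0 ∧
    fcT 9 LL (look 9 kk.1 (look 9 kk.1 y1)) ≠ fcT 9 LL y1 := by decide +kernel

set_option maxRecDepth 100000 in
theorem orb1_ok : orbitOK 9 gens [b1] O1.tail = true ∧ nodupB O1 = true ∧ O1.length = 275 ∧
    O1.head? = some b1 := by decide +kernel

set_option maxRecDepth 100000 in
theorem orb2_ok : orbitOK 9 k1 [b2] O2.tail = true ∧ nodupB O2 = true ∧ O2.length = 162 ∧
    O2.head? = some b2 := by decide +kernel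

set_option maxRecDepth 100000 in
theorem orb3_ok : orbitOK 9 k2 [b3] O3.tail = true ∧ nodupB O3 = true ∧ O3.length = 105 ∧
    O3.head? = some b3 := by decide +kernel

set_option maxRecDepth 100000 in
theorem orb4_ok : orbitOK 9 k3 [b4] O4.tail = true ∧ nodupB O4 = true ∧ O4.length = 64 ∧
    O4.head? = some b4 := by decide +kernel

set_option maxRecDepth 100000 in
theorem cent_ok : centOK 275 9 xs LL zt.1 = true := by decide +kernel

set_option maxRecDepth 100000 in
theorem conj_ok : (List.zip xs cs).all (fun p => conjOK 275 9 p.1.1 p.2.1 zt.1) = true ∧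
    xs.length = cs.length := by decide +kernel

set_option maxRecDepth 100000 in
theorem base_lt : b1 < 275 ∧ b2 < 275 ∧ b3 < 275 ∧ b4 < 275 ∧ y0 < 275 ∧ y1 < 275 := by decide

end Cfsg.Agent.Lib.Helper8.McLFus
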