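import Cfsg.Agent.Lib.Helper8.McLFusCertA
import Cfsg.Agent.Lib.Helper8.McLFusCertB
import Cfsg.Agent.Lib.Helper8.McLFusCertC
import Cfsg.Agent.Lib.Helper8.McLFusCertD

/-! All kernel-checked certificates for the Sylow 2-subgroup data on 275 points. -/
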