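import Cfsg.Agent.Lib.Helper8.McLFusDefs

/-! Kernel-checked certificates: the straight-line program. -/

set_option autoImplicit false

namespace Cfsg.Agent.Lib.Helper8.McLFus

open Cfsg.Agent.Lib.Helper28.BSGS

set_option maxRecDepth 100000 in
theorem gens_ok : gensOK 275 9 gens = true := by decide +kernel

set_option maxRecDepth 100000 in
theorem prog_ok : slpOK 275 9 gens prog = true := by decide +kernel

set_option maxRecDepth 100000 in
theorem named_ok : (k1 ++ k2 ++ k3 ++ [kk, zt] ++ xs ++ cs).all (fun e => tabs.contains e) = true := by
  decide +kernel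

end Cfsg.Agent.Lib.Helper8.McLFus
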