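import Cfsg.Agent.Lib.Helper28.BSGSPerm
import Cfsg.Agent.Lib.Helper28.FusionCrit

/-!
# Straight-line programs of permutation tables, element lists of small subgroups, and
counting lemmas for stabiliser chains

Generic tools (on top of the packed permutation tables of `Helper28.BSGSPerm`) for certifying
data of a Sylow subgroup of a permutation group of known order.
-/

set_option autoImplicit false

namespace Cfsg.Agent.Lib.Helper8.McLFus

open Cfsg.Agent.Lib.Helper28.BSGS MulAction

/-! ### tables -/

section Tables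

variable (n w : ℕ)

/-- the table `c` is the composition of the tables `a` and `b` (`b` acts first) -/
def mulOK (a b c : ℕ) : Bool :=
  (List.range n).all fun x => look w c x == look w a (look w b x)

theorem pairOK_swap {t t' : ℕ} (h : pairOK n w t t' = true) : pairOK n w t' t = true := by
  unfold pairOK
  rw [List.all_eq_true]
  intro a ha
  obtain ⟨h1, h2, h3, h4⟩ := pairOK_spec h (List.mem_range.mp ha)
  simp only [Bool.and_eq_true, decide_eq_true_eq, beq_iff_eq]
  exact ⟨⟨⟨h3, h4⟩, h1⟩, h2⟩

theorem permOf_swap {t t' : ℕ} (h : pairOK n w t t' = true) :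
    permOf n w t' t = (permOf n w t t')⁻¹ := by
  apply Equiv.ext
  intro a
  apply Fin.ext
  rw [permOf_apply (pairOK_swap n w h), permOf_inv_apply h]

theorem permOf_mul {a a' b b' c c' : ℕ} (ha : pairOK n w a a' = true)
    (hb : pairOK n w b b' = true) (hc : pairOK n w c c' = true)
    (h : mulOK n w a b c = true) :
    permOf n w c c' = permOf n w a a' * permOf n w b b' := by
  apply Equiv.ext
  intro x
  apply Fin.ext
  rw [permOf_apply hc, Equiv.Perm.mul_apply, permOf_apply ha, permOf_apply hb]
  unfold mulOK at h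
  rw [List.all_eq_true] at h
  exact beq_iff_eq.mp (h x.val (List.mem_range.mpr x.isLt))

/-- entry `i` of the list, or the inverse of entry `i - 10000` -/
def getE (acc : List (ℕ × ℕ)) (i : ℕ) : ℕ × ℕ :=
  if i < 10000 then acc.getD i (0, 0)
  else ((acc.getD (i - 10000) (0, 0)).2, (acc.getD (i - 10000) (0, 0)).1)

/-- the index is in range -/
def idxOK (len i : ℕ) : Bool :=
  if i < 10000 then decide (i < len) else decide (i - 10000 < len)

/-- checker of a straight-line program: the instruction `(i, j, t, t')` appends the table pair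
`(t, t')` of the product of the entries `i` and `j` -/
def slpOK : List (ℕ × ℕ) → List (ℕ × ℕ × ℕ × ℕ) → Bool
  | _, [] => true
  | acc, ins :: rest =>
      idxOK acc.length ins.1 && idxOK acc.length ins.2.1 && pairOK n w ins.2.2.1 ins.2.2.2 &&
      mulOK n w (getE acc ins.1).1 (getE acc ins.2.1).1 ins.2.2.1 &&
      slpOK (acc ++ [(ins.2.2.1, ins.2.2.2)]) rest

/-- the tables produced by a straight-line program -/
def slpOut : List (ℕ × ℕ) → List (ℕ × ℕ × ℕ × ℕ) → List (ℕ × ℕ)
  | acc, [] => acc
  | acc, ins :: rest => slpOut (acc ++ [(ins.2.2.1, ins.2.2.2)]) rest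

/-- all table pairs are valid and give elements of `K` -/
def GoodL (K : Subgroup (Equiv.Perm (Fin n))) (acc : List (ℕ × ℕ)) : Prop :=
  ∀ e ∈ acc, pairOK n w e.1 e.2 = true ∧ permOf n w e.1 e.2 ∈ K

theorem getE_good {K : Subgroup (Equiv.Perm (Fin n))} {acc : List (ℕ × ℕ)}
    (h : GoodL n w K acc) {i : ℕ} (hi : idxOK acc.length i = true) :
    pairOK n w (getE acc i).1 (getE acc i).2 = true ∧
      permOf n w (getE acc i).1 (getE acc i).2 ∈ K := by
  unfold idxOK at hi
  unfold getE
  by_cases hc : i < 10000
  · rw [if_pos hc] at hi ⊢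
    have hlt : i < acc.length := of_decide_eq_true hi
    have hmem : acc.getD i (0, 0) ∈ acc := by
      rw [List.getD_eq_getElem _ _ hlt]
      exact List.getElem_mem hlt
    exact h _ hmem
  · rw [if_neg hc] at hi ⊢
    have hlt : i - 10000 < acc.length := of_decide_eq_true hi
    have hmem : acc.getD (i - 10000) (0, 0) ∈ acc := by
      rw [List.getD_eq_getElem _ _ hlt]
      exact List.getElem_mem hlt
    obtain ⟨h1, h2⟩ := h _ hmem
    refine ⟨pairOK_swap n w h1, ?_⟩
    show permOf n w (acc.getD (i - 10000) (0, 0)).2 (acc.getD (i - 10000) (0, 0)).1 ∈ K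
    rw [permOf_swap n w h1]
    exact K.inv_mem h2

theorem slp_sound {K : Subgroup (Equiv.Perm (Fin n))} :
    ∀ (prog : List (ℕ × ℕ × ℕ × ℕ)) (acc : List (ℕ × ℕ)), GoodL n w K acc →
      slpOK n w acc prog = true → GoodL n w K (slpOut acc prog) := by
  intro prog
  induction prog with
  | nil => intro acc h _; exact h
  | cons ins rest ih =>
    intro acc h hok
    unfold slpOK at hok
    simp only [Bool.and_eq_true] at hok
    obtain ⟨⟨⟨⟨h1, h2⟩, h3⟩, h4⟩, h5⟩ := hok
    unfold slpOut
    apply ih _ _ h5
    intro e he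
    rcases List.mem_append.mp he with he | he
    · exact h e he
    · rw [List.mem_singleton] at he
      subst he
      refine ⟨h3, ?_⟩
      obtain ⟨g1, g2⟩ := getE_good n w h h1
      obtain ⟨g3, g4⟩ := getE_good n w h h2
      show permOf n w ins.2.2.1 ins.2.2.2 ∈ K
      rw [permOf_mul n w g1 g3 h3 h4]
      exact K.mul_mem g2 g4

/-- the generators are good for the group they generate -/
theorem goodL_gens [NeZero n] {gens : List (ℕ × ℕ)} (hg : gensOK n w gens = true) :
    GoodL n w (genGroup n w gens) gens := by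
  intro e he
  refine ⟨gensOK_spec n w hg e he, ?_⟩
  apply Subgroup.subset_closure
  exact List.mem_map.mpr ⟨e, he, rfl⟩

theorem goodL_mono {K K' : Subgroup (Equiv.Perm (Fin n))} (h : K ≤ K') {acc : List (ℕ × ℕ)}
    (hg : GoodL n w K acc) : GoodL n w K' acc :=
  fun e he => ⟨(hg e he).1, h (hg e he).2⟩

/-- the group generated by good tables lies in `K` -/
theorem genGroup_le_of_good {K : Subgroup (Equiv.Perm (Fin n))} {xs : List (ℕ × ℕ)}
    (h : GoodL n w K xs) : genGroup n w xs ≤ K := by
  unfold genGroup
  rw [Subgroup.closure_le]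
  intro s hs
  have hs' : s ∈ List.map (fun g => permOf n w g.1 g.2) xs := hs
  rw [List.mem_map] at hs'
  obtain ⟨e, he, rfl⟩ := hs'
  exact (h e he).2

/-! ### the list of the elements of a group generated by involutions -/

/-- the list is closed under left multiplication by the generators -/
def closedOK (xs L : List (ℕ × ℕ)) : Bool :=
  xs.all fun x => L.all fun l => L.any fun m => mulOK n w x.1 l.1 m.1

/-- the identity table -/
def isId (t : ℕ) : Bool := (List.range n).all fun a => look w t a == a

theorem permOf_eq_one {t t' : ℕ} (h : pairOK n w t t' = true) (hid : isId n w t = true) :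
    permOf n w t t' = 1 := by
  apply Equiv.ext
  intro a
  apply Fin.ext
  rw [permOf_apply h]
  unfold isId at hid
  rw [List.all_eq_true] at hid
  exact beq_iff_eq.mp (hid a.val (List.mem_range.mpr a.isLt))

theorem mem_list_of_mem_genGroup {xs L : List (ℕ × ℕ)}
    (hxs : ∀ x ∈ xs, pairOK n w x.1 x.2 = true ∧ x.1 = x.2)
    (hL : ∀ l ∈ L, pairOK n w l.1 l.2 = true)
    (hid : ∃ l ∈ L, isId n w l.1 = true) (hcl : closedOK n w xs L = true) :
    ∀ g ∈ genGroup n w xs, ∃ l ∈ L, g = permOf n w l.1 l.2 := by
  have hstep : ∀ x ∈ xs, ∀ y : Equiv.Perm (Fin n), (∃ l ∈ L, y = permOf n w l.1 l.2) →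
      ∃ l ∈ L, permOf n w x.1 x.2 * y = permOf n w l.1 l.2 := by
    rintro x hx y ⟨l, hl, rfl⟩
    unfold closedOK at hcl
    rw [List.all_eq_true] at hcl
    have h1 := hcl x hx
    rw [List.all_eq_true] at h1
    have h2 := h1 l hl
    rw [List.any_eq_true] at h2
    obtain ⟨m, hm, hmul⟩ := h2
    exact ⟨m, hm, (permOf_mul n w (hxs x hx).1 (hL l hl) (hL m hm) hmul).symm⟩
  intro g hg
  unfold genGroup at hg
  induction hg using Subgroup.closure_induction_left with
  | one =>
    obtain ⟨l, hl, hlid⟩ := hid
    exact ⟨l, hl, (permOf_eq_one n w (hL l hl) hlid).symm⟩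
  | mul_left x hx y _ ih =>
    have hx' : x ∈ List.map (fun g => permOf n w g.1 g.2) xs := hx
    rw [List.mem_map] at hx'
    obtain ⟨e, he, rfl⟩ := hx'
    exact hstep e he y ih
  | inv_mul_cancel x hx y _ ih =>
    have hx' : x ∈ List.map (fun g => permOf n w g.1 g.2) xs := hx
    rw [List.mem_map] at hx'
    obtain ⟨e, he, rfl⟩ := hx'
    have hinv : (permOf n w e.1 e.2)⁻¹ = permOf n w e.1 e.2 := by
      rw [← permOf_swap n w (hxs e he).1]
      have := (hxs e he).2
      rw [← this]
    rw [hinv]
    exact hstep e he y ih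

end Tables

/-! ### counting -/

section Counting

variable {α : Type*}

theorem conj_mem_of_finite {G : Type*} [Group G] (K : Subgroup G) [Finite K] (n : G)
    (hn : ∀ t ∈ K, n⁻¹ * t * n ∈ K) : ∀ t ∈ K, n * t * n⁻¹ ∈ K := by
  have hle : K.map (MulAut.conj n⁻¹).toMonoidHom ≤ K := by
    rintro _ ⟨t, ht, rfl⟩
    have := hn t ht
    simpa using this
  have hcard : Nat.card K ≤ Nat.card (K.map (MulAut.conj n⁻¹).toMonoidHom) := by
    rw [Subgroup.card_map_of_injective (MulAut.conj n⁻¹).injective]
  have heq := Subgroup.eq_of_le_of_card_ge hle hcard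
  intro t ht
  rw [← heq] at ht
  obtain ⟨s, hs, hst⟩ := ht
  have : n * t * n⁻¹ = s := by
    rw [← hst]
    simp [mul_assoc]
  rw [this]
  exact hs

theorem card_stab_conj (K : Subgroup (Equiv.Perm α)) [Finite K] (n : Equiv.Perm α)
    (hn : ∀ t ∈ K, n⁻¹ * t * n ∈ K) (y : α) :
    Nat.card ↥(K ⊓ stabilizer (Equiv.Perm α) (n y)) =
      Nat.card ↥(K ⊓ stabilizer (Equiv.Perm α) y) := by
  have hn' := conj_mem_of_finite K n hn
  have hmap : (K ⊓ stabilizer (Equiv.Perm α) y).map (MulAut.conj n).toMonoidHom =
      K ⊓ stabilizer (Equiv.Perm α) (n y) := by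
    ext g
    constructor
    · rintro ⟨t, ht, rfl⟩
      rw [SetLike.mem_coe, Subgroup.mem_inf] at ht
      rw [Subgroup.mem_inf]
      refine ⟨by simpa [MulAut.conj_apply] using hn' t ht.1, ?_⟩
      have h2 : t y = y := mem_stabilizer_iff.mp ht.2
      rw [mem_stabilizer_iff]
      show (n * t * n⁻¹) (n y) = n y
      simp [Equiv.Perm.mul_apply, h2]
    · intro hg
      rw [Subgroup.mem_inf] at hg
      refine ⟨n⁻¹ * g * n, ?_, ?_⟩
      · rw [SetLike.mem_coe, Subgroup.mem_inf]
        refine ⟨hn g hg.1, ?_⟩
        have h2 : g (n y) = n y := mem_stabilizer_iff.mp hg.2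
        rw [mem_stabilizer_iff]
        show (n⁻¹ * g * n) y = y
        simp [Equiv.Perm.mul_apply, h2]
      · simp [MulAut.conj_apply, mul_assoc]
  rw [← hmap, Subgroup.card_map_of_injective (MulAut.conj n).injective]

theorem card_stab_eq_filter [DecidableEq α] [Fintype α] (K : Subgroup (Equiv.Perm α))
    (els : List (Equiv.Perm α)) (hnd : els.Nodup) (hmem : ∀ g, g ∈ K ↔ g ∈ els) (y : α) :
    Nat.card ↥(K ⊓ stabilizer (Equiv.Perm α) y) = (els.filter fun g => g y = y).length := by
  have hset : ((K ⊓ stabilizer (Equiv.Perm α) y : Subgroup (Equiv.Perm α)) : Set (Equiv.Perm α)) =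
      ↑((els.filter fun g => g y = y).toFinset) := by
    ext g
    rw [SetLike.mem_coe, Subgroup.mem_inf, Finset.mem_coe, List.mem_toFinset, List.mem_filter,
      hmem g, mem_stabilizer_iff, decide_eq_true_eq]
    rfl
  have h1 : Nat.card ↥(K ⊓ stabilizer (Equiv.Perm α) y) =
      Nat.card ↥((K ⊓ stabilizer (Equiv.Perm α) y : Subgroup (Equiv.Perm α)) :
        Set (Equiv.Perm α)) := rfl
  rw [h1, hset, Nat.card_coe_set_eq, Set.ncard_coe_finset,
    List.toFinset_card_of_nodup (hnd.filter _)]

theorem card_inf_stab_le [DecidableEq α] (K : Subgroup (Equiv.Perm α)) [Finite K] (b : α)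
    (O : List α) (hnd : O.Nodup) (hO : ∀ x ∈ O, ∃ g ∈ K, g b = x) :
    O.length * Nat.card ↥(K ⊓ stabilizer (Equiv.Perm α) b) ≤ Nat.card K := by
  have h1 : Nat.card K = (stabilizer K b).index * Nat.card (stabilizer K b) :=
    (Subgroup.index_mul_card _).symm
  have h2 : (stabilizer K b).index = (orbit K b).ncard := index_stabilizer K b
  have h3 : Nat.card (stabilizer K b) = Nat.card ↥(K ⊓ stabilizer (Equiv.Perm α) b) := by
    have e : (stabilizer (Equiv.Perm α) b).subgroupOf K = stabilizer K b := by
      ext g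
      rw [Subgroup.mem_subgroupOf, mem_stabilizer_iff, mem_stabilizer_iff]
      rfl
    rw [← e, ← Subgroup.inf_subgroupOf_left]
    exact Nat.card_congr (Subgroup.subgroupOfEquivOfLe inf_le_left).toEquiv
  have hfin : (orbit K b).Finite := Set.finite_range _
  have h4 : O.length ≤ (orbit K b).ncard := by
    rw [← List.toFinset_card_of_nodup hnd, ← Set.ncard_coe_finset]
    apply Set.ncard_le_ncard _ hfin
    intro x hx
    rw [List.coe_toFinset] at hx
    obtain ⟨g, hg, hgx⟩ := hO x hx
    exact ⟨⟨g, hg⟩, hgx⟩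
  rw [h1, h2, h3]
  exact Nat.mul_le_mul_right _ h4

end Counting

/-! ### further checks -/

section Checks

variable (n w : ℕ)

/-- number of listed tables fixing the point -/
def fcT (L : List (ℕ × ℕ)) (y : ℕ) : ℕ := (L.filter fun l => look w l.1 y == y).length

/-- fingerprint of a table: the images of two points -/
def fpT (p q : ℕ) (l : ℕ × ℕ) : ℕ × ℕ := (look w l.1 p, look w l.1 q)

/-- the two tables commute -/
def commOK (a b : ℕ) : Bool :=
  (List.range n).all fun x => look w a (look w b x) == look w b (look w a x)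

/-- every listed element other than the identity and `z` fails to commute with a generator -/
def centOK (xs L : List (ℕ × ℕ)) (z : ℕ) : Bool :=
  L.all fun l => isId n w l.1 || l.1 == z || xs.any fun x => !commOK n w x.1 l.1

/-- `x * c = c * z` -/
def conjOK (x c z : ℕ) : Bool :=
  (List.range n).all fun a => look w x (look w c a) == look w c (look w z a)

/-- all tables fix the point -/
def fixOK (gs : List (ℕ × ℕ)) (b : ℕ) : Bool := gs.all fun g => look w g.1 b == b

end Checks

/-! ### element lists and stabiliser chains -/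

section Lists

variable {α : Type*}

theorem card_eq_length [DecidableEq α] [Fintype α] (K : Subgroup (Equiv.Perm α))
    (els : List (Equiv.Perm α)) (hnd : els.Nodup) (hmem : ∀ g, g ∈ K ↔ g ∈ els) :
    Nat.card K = els.length := by
  have hset : ((K : Subgroup (Equiv.Perm α)) : Set (Equiv.Perm α)) = ↑(els.toFinset) := by
    ext g
    rw [SetLike.mem_coe, Finset.mem_coe, List.mem_toFinset, hmem g]
  have h1 : Nat.card K = Nat.card ↥((K : Subgroup (Equiv.Perm α)) : Set (Equiv.Perm α)) := rfl
  rw [h1, hset, Nat.card_coe_set_eq, Set.ncard_coe_finset, List.toFinset_card_of_nodup hnd]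

variable (n w : ℕ) [NeZero n]

/-- one level of a stabiliser chain: a lower bound for the index of the point stabiliser -/
theorem level_bound (K : Subgroup (Equiv.Perm (Fin n))) (ks : List (ℕ × ℕ))
    (hk : gensOK n w ks = true) (hle : genGroup n w ks ≤ K) (b : ℕ) (hb : b < n) (O : List ℕ)
    (hO : orbitOK w ks [b] O.tail = true) (hnd : nodupB O = true) (hhead : O.head? = some b) :
    O.length * Nat.card ↥(K ⊓ stabilizer (Equiv.Perm (Fin n)) (pt n b)) ≤ Nat.card K := by
  have hreach := perm_orbit n w ks hk b hb O.tail hO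
  have hO' : O = b :: O.tail := by
    cases O with
    | nil => simp at hhead
    | cons a t =>
      simp only [List.head?_cons, Option.some.injEq] at hhead
      rw [hhead, List.tail_cons]
  have hall : ∀ x ∈ O, x < n ∧ ∃ g ∈ genGroup n w ks, g (pt n b) = pt n x := by
    intro x hx
    rw [hO'] at hx
    rcases List.mem_cons.mp hx with rfl | hx
    · exact ⟨hb, 1, Subgroup.one_mem _, rfl⟩
    · exact hreach x hx
  have hnd' : (O.map (pt n)).Nodup := by
    apply List.Nodup.map_on _ (nodupB_sound O hnd)
    intro x hx y hy hxy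
    have h1 := pt_val n (hall x hx).1
    have h2 := pt_val n (hall y hy).1
    rw [← h1, ← h2, hxy]
  have := card_inf_stab_le K (pt n b) (O.map (pt n)) hnd' (by
    intro x hx
    rw [List.mem_map] at hx
    obtain ⟨a, ha, rfl⟩ := hx
    obtain ⟨_, g, hg, hgx⟩ := hall a ha
    exact ⟨g, hle hg, hgx⟩)
  rwa [List.length_map] at this

/-- the listed tables enumerate the group generated by the involutions `xs` without repetition -/
theorem elems_of_list {xs L : List (ℕ × ℕ)} {prg : List (ℕ × ℕ × ℕ × ℕ)} (p q : ℕ) (hp : p < n)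
    (hq : q < n) (hxs : gensOK n w xs = true) (hinv : xs.all (fun x => x.1 == x.2) = true)
    (hL : L = slpOut xs prg) (hprg : slpOK n w xs prg = true)
    (hid : L.any (fun l => isId n w l.1) = true) (hcl : closedOK n w xs L = true)
    (hfp : nodupB ((L.map (fpT w p q)).map fun r => r.1 * 2 ^ w + r.2) = true) :
    GoodL n w (genGroup n w xs) L ∧
    (L.map fun l => permOf n w l.1 l.2).Nodup ∧
    (∀ g, g ∈ genGroup n w xs ↔ g ∈ L.map fun l => permOf n w l.1 l.2) := by
  have hgood : GoodL n w (genGroup n w xs) L := by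
    rw [hL]
    exact slp_sound n w prg xs (goodL_gens n w hxs) hprg
  refine ⟨hgood, ?_, ?_⟩
  · have h1 : (L.map (fpT w p q)).Nodup := (nodupB_sound _ hfp).of_map _
    apply List.Nodup.map_on _ h1.of_map
    intro l hl l' hl' hll
    apply List.inj_on_of_nodup_map h1 hl hl'
    unfold fpT
    have e1 : ∀ a : ℕ, a < n → look w l.1 a = look w l'.1 a := by
      intro a ha
      have h2 := permOf_apply (hgood l hl).1 (pt n a)
      have h3 := permOf_apply (hgood l' hl').1 (pt n a)
      rw [pt_val n ha] at h2 h3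
      rw [← h2, ← h3, hll]
    rw [e1 p hp, e1 q hq]
  · intro g
    constructor
    · intro hg
      obtain ⟨l, hl, rfl⟩ := mem_list_of_mem_genGroup n w (xs := xs) (L := L)
        (by
          intro x hx
          refine ⟨gensOK_spec n w hxs x hx, ?_⟩
          rw [List.all_eq_true] at hinv
          exact beq_iff_eq.mp (hinv x hx))
        (fun l hl => (hgood l hl).1)
        (by
          rw [List.any_eq_true] at hid
          exact hid)
        hcl g hg
      exact List.mem_map.mpr ⟨l, hl, rfl⟩
    · intro hg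
      rw [List.mem_map] at hg
      obtain ⟨l, hl, rfl⟩ := hg
      exact (hgood l hl).2

omit [NeZero n] in
/-- the number of elements of the group fixing a point, from the tables -/
theorem card_stab_eq_fcT {K : Subgroup (Equiv.Perm (Fin n))} {L : List (ℕ × ℕ)}
    (hgood : GoodL n w K L) (hnd : (L.map fun l => permOf n w l.1 l.2).Nodup)
    (hmem : ∀ g, g ∈ K ↔ g ∈ L.map fun l => permOf n w l.1 l.2) (y : Fin n) :
    Nat.card ↥(K ⊓ stabilizer (Equiv.Perm (Fin n)) y) = fcT w L y.val := by
  rw [card_stab_eq_filter K _ hnd hmem y, List.filter_map, List.length_map]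
  unfold fcT
  congr 1
  apply List.filter_congr
  intro l hl
  have h1 := permOf_apply (hgood l hl).1 y
  simp only [Function.comp_apply]
  rw [Bool.eq_iff_iff, decide_eq_true_eq, beq_iff_eq, ← h1, Fin.ext_iff]

end Lists

end Cfsg.Agent.Lib.Helper8.McLFus
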