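import Cfsg.Agent.Lib.Helper8.McLFusCore

/-! Further lemmas on permutation tables and small groups. -/

set_option autoImplicit false

namespace Cfsg.Agent.Lib.Helper8.McLFus

open Cfsg.Agent.Lib.Helper28.BSGS MulAction

/-! ### further lemmas on tables -/

section More

variable (n w : ℕ)

theorem permOf_congr_fst {t t' t'' : ℕ} (h : pairOK n w t t' = true)
    (h' : pairOK n w t t'' = true) : permOf n w t t' = permOf n w t t'' := by
  apply Equiv.ext
  intro a
  apply Fin.ext
  rw [permOf_apply h, permOf_apply h']

theorem commOK_of_comm {a a' b b' : ℕ} (ha : pairOK n w a a' = true)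
    (hb : pairOK n w b b' = true)
    (h : permOf n w a a' * permOf n w b b' = permOf n w b b' * permOf n w a a') :
    commOK n w a b = true := by
  unfold commOK
  rw [List.all_eq_true]
  intro x hx
  rw [beq_iff_eq]
  have hx' : x < n := List.mem_range.mp hx
  have h1 := congrArg (fun g : Equiv.Perm (Fin n) => (g ⟨x, hx'⟩).val) h
  simp only [Equiv.Perm.mul_apply] at h1
  rw [permOf_apply ha, permOf_apply hb, permOf_apply hb, permOf_apply ha] at h1
  exact h1

theorem conj_of_conjOK {x x' c c' z z' : ℕ} (hx : pairOK n w x x' = true)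
    (hc : pairOK n w c c' = true) (hz : pairOK n w z z' = true)
    (h : conjOK n w x c z = true) :
    permOf n w c c' * permOf n w z z' * (permOf n w c c')⁻¹ = permOf n w x x' := by
  have h1 : permOf n w x x' * permOf n w c c' = permOf n w c c' * permOf n w z z' := by
    apply Equiv.ext
    intro a
    apply Fin.ext
    rw [Equiv.Perm.mul_apply, Equiv.Perm.mul_apply, permOf_apply hx, permOf_apply hc,
      permOf_apply hc, permOf_apply hz]
    unfold conjOK at h
    rw [List.all_eq_true] at h
    exact beq_iff_eq.mp (h a.val (List.mem_range.mpr a.isLt))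
  rw [← h1]
  group

variable [NeZero n]

/-- good tables fixing a point are good for the point stabiliser -/
theorem goodL_inf_stab {K : Subgroup (Equiv.Perm (Fin n))} {ks : List (ℕ × ℕ)}
    (hgood : GoodL n w K ks) {b : ℕ} (hb : b < n) (hfix : fixOK w ks b = true) :
    GoodL n w (K ⊓ stabilizer (Equiv.Perm (Fin n)) (pt n b)) ks := by
  intro e he
  refine ⟨(hgood e he).1, ?_⟩
  rw [Subgroup.mem_inf]
  refine ⟨(hgood e he).2, ?_⟩
  rw [mem_stabilizer_iff]
  apply Fin.ext
  show (permOf n w e.1 e.2 (pt n b)).val = (pt n b).val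
  rw [permOf_apply (hgood e he).1, pt_val n hb]
  unfold fixOK at hfix
  rw [List.all_eq_true] at hfix
  exact beq_iff_eq.mp (hfix e he)

end More

theorem mem_of_card_le_three {G : Type*} [Group G] (K : Subgroup G) [Finite K]
    (hc : Nat.card K ≤ 3) (k : G) (hk : k ∈ K) (h1 : k ≠ 1) (h2 : k ^ 2 ≠ 1) :
    ∀ m ∈ K, m = 1 ∨ m = k ∨ m = k ^ 2 := by
  classical
  have hk2 : k ^ 2 ≠ k := by
    intro h
    apply h1
    have : k * k = k * 1 := by rw [mul_one, ← pow_two, h]
    exact mul_left_cancel this
  have hsub : (({1, k, k ^ 2} : Finset G) : Set G) ⊆ (K : Set G) := by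
    intro x hx
    rw [Finset.mem_coe, Finset.mem_insert, Finset.mem_insert, Finset.mem_singleton] at hx
    rcases hx with rfl | rfl | rfl
    · exact K.one_mem
    · exact hk
    · exact K.pow_mem hk 2
  have hcard : ({1, k, k ^ 2} : Finset G).card = 3 := by
    rw [Finset.card_insert_of_notMem, Finset.card_insert_of_notMem, Finset.card_singleton]
    · rw [Finset.mem_singleton]
      exact fun h => hk2 h.symm
    · rw [Finset.mem_insert, Finset.mem_singleton]
      rintro (h | h)
      · exact h1 h.symm
      · exact h2 h.symm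
  have hfin : (K : Set G).Finite := Set.toFinite _
  have heq := Set.eq_of_subset_of_ncard_le hsub (by
    rw [Set.ncard_coe_finset, hcard]
    have : (K : Set G).ncard = Nat.card K := rfl
    rw [this]
    exact hc) hfin
  intro m hm
  have : m ∈ (({1, k, k ^ 2} : Finset G) : Set G) := by
    rw [heq]
    exact hm
  rw [Finset.mem_coe, Finset.mem_insert, Finset.mem_insert, Finset.mem_singleton] at this
  exact this

end Cfsg.Agent.Lib.Helper8.McLFus
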