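import Cfsg.Agent.Lib.Helper8.McLFusCore
import Cfsg.Agent.Lib.Helper8.McLFusData
import Cfsg.Agent.Lib.Helper28.McLADefs

/-! The tables used for the Sylow 2-subgroup of the group on 275 points. -/

set_option autoImplicit false

namespace Cfsg.Agent.Lib.Helper8.McLFus

open Cfsg.Agent.Lib.Helper28.BSGS

/-- the strong generators of the group on 275 points -/
def gens : List (ℕ × ℕ) := Cfsg.Agent.Lib.Helper28.McLAData.GENS

/-- all tables produced from the generators -/
def tabs : List (ℕ × ℕ) := slpOut gens prog

/-- the elements of the Sylow subgroup -/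
def LL : List (ℕ × ℕ) := slpOut xs progL

end Cfsg.Agent.Lib.Helper8.McLFus
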