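import Cfsg.Agent.Lib.Helper28.FusionCrit

/-!
# Transport of the self-normalising Sylow criterion along an isomorphism

If `G` is isomorphic to a subgroup `H` of an ambient group carrying the data `AmbData p H S₀`, then
the `p`-fusion system of `G` is simple.
-/

set_option autoImplicit false

namespace Cfsg.Agent.Lib.Helper8.McLFus

open Cfsg Cfsg.Agent.Lib.Helper28

theorem simple_of_ambData_equiv {Ω G : Type*} [Group Ω] [Group G] [Finite G] {p : ℕ}
    [Fact p.Prime] {H S₀ : Subgroup Ω} (h : AmbData p H S₀) (e : G ≃* ↥H) (S : Sylow p G) :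
    (groupFusionSystem (S : Subgroup G)).IsSimple p := by
  have hsurj : Function.Surjective e.toMonoidHom := e.surjective
  have hinj : Function.Injective e.toMonoidHom := e.injective
  -- membership in the transported subgroup
  have hmem : ∀ x : G, x ∈ (S₀.subgroupOf H).comap e.toMonoidHom ↔ ((e x : ↥H) : Ω) ∈ S₀ := by
    intro x
    rw [Subgroup.mem_comap, Subgroup.mem_subgroupOf]
    rfl
  apply fusion_simple_of_selfNormalizing ((S₀.subgroupOf H).comap e.toMonoidHom)
  · exact h.pgroup.comap_subtype.comap_of_injective _ hinj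
  · rw [Subgroup.index_comap_of_surjective _ hsurj]
    exact h.index
  · intro hbot
    apply h.ne_bot
    rw [Subgroup.eq_bot_iff_forall]
    intro t ht
    have h1 : e.symm ⟨t, h.le ht⟩ ∈ (S₀.subgroupOf H).comap e.toMonoidHom := by
      rw [hmem, MulEquiv.apply_symm_apply]
      exact ht
    rw [hbot, Subgroup.mem_bot] at h1
    have h2 : (⟨t, h.le ht⟩ : ↥H) = 1 := by
      have := congrArg e h1
      rwa [MulEquiv.apply_symm_apply, map_one] at this
    exact congrArg Subtype.val h2
  · intro n hn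
    rw [Subgroup.mem_normalizer_iff] at hn
    rw [hmem]
    apply h.norm (e n : ↥H) (e n).2
    intro t ht
    have key := hn (e.symm ⟨((e n : ↥H) : Ω)⁻¹ * t * (e n : ↥H),
      H.mul_mem (H.mul_mem (H.inv_mem (e n).2) (h.le ht)) (e n).2⟩)
    rw [hmem, hmem, MulEquiv.apply_symm_apply] at key
    apply key.mpr
    rw [map_mul, map_mul, map_inv, MulEquiv.apply_symm_apply]
    show ((e n : ↥H) : Ω) * (((e n : ↥H) : Ω)⁻¹ * t * (e n : ↥H)) * ((e n : ↥H) : Ω)⁻¹ ∈ S₀
    have e1 : ((e n : ↥H) : Ω) * (((e n : ↥H) : Ω)⁻¹ * t * (e n : ↥H)) * ((e n : ↥H) : Ω)⁻¹ = t := by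
      group
    rw [e1]
    exact ht
  · intro T hT hcl
    have h1 := h.closed ((T.map e.toMonoidHom).map H.subtype) (by
        rintro _ ⟨_, ⟨x, hx, rfl⟩, rfl⟩
        exact (hmem x).mp (hT hx)) (by
        rintro _ ⟨_, ⟨x, hx, rfl⟩, rfl⟩ g hg hgx
        refine ⟨e (e.symm ⟨g, hg⟩ * x * (e.symm ⟨g, hg⟩)⁻¹), ⟨_, ?_, rfl⟩, ?_⟩
        · apply hcl x hx (e.symm ⟨g, hg⟩)
          rw [hmem, map_mul, map_mul, map_inv, MulEquiv.apply_symm_apply]
          exact hgx
        · have e2 : e (e.symm ⟨g, hg⟩ * x * (e.symm ⟨g, hg⟩)⁻¹) =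
              (⟨g, hg⟩ : ↥H) * e x * (⟨g, hg⟩ : ↥H)⁻¹ := by
            rw [map_mul, map_mul, map_inv, MulEquiv.apply_symm_apply]
          rw [e2]
          rfl)
    have hinj2 : Function.Injective (H.subtype.comp e.toMonoidHom) :=
      H.subtype_injective.comp hinj
    rcases h1 with h1 | h1
    · left
      rw [Subgroup.map_map, Subgroup.map_eq_bot_iff_of_injective _ hinj2] at h1
      exact h1
    · right
      ext x
      rw [hmem]
      constructor
      · intro hx
        exact (hmem x).mp (hT hx)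
      · intro hx
        rw [← h1] at hx
        obtain ⟨_, ⟨y, hy, rfl⟩, hyx⟩ := hx
        have : y = x := hinj (Subtype.ext hyx)
        rw [← this]
        exact hy

end Cfsg.Agent.Lib.Helper8.McLFus
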