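import Cfsg.Agent.Lib.Helper8.McLFusMain
import Cfsg.Agent.Lib.Helper8.McLFusTransport
import Cfsg.Agent.Lib.Helper28.McLA
import Cfsg.Agent.Lib.Helper28.McLBridge

/-!
# The 2-fusion system of the McLaughlin group is simple

The group on 275 points has order 898128000 and is isomorphic to the McLaughlin group of the
list; its Sylow 2-subgroup `S0` is self-normalising, has centre of order two and is generated by
conjugates of its central involution.
-/

set_option autoImplicit false

namespace Cfsg.Agent.Lib.Helper8.McLFus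

open Cfsg Cfsg.Agent.Lib.Helper28

theorem HH_eq_H0 : HH = McLA.H0 := rfl

theorem card_HH : Nat.card HH = 898128000 := McLA.card_H0

theorem mcl_iso_HH : Nonempty (↥Cfsg.Spor.McL ≃* ↥HH) := by
  obtain ⟨e⟩ := McLB.ml_iso
  have h : McLA.Kab = HH := by rw [HH_eq_H0, McLA.H0_eq]
  exact ⟨((McLB.mclEquiv.trans e).trans McLB.hbEquiv).trans (MulEquiv.subgroupCongr h)⟩

/-- the 2-fusion system of any group isomorphic to the McLaughlin group is simple -/
theorem mcl_fusion_simple {G : Type*} [Group G] [Finite G] (hG : Cfsg.Spor.IsoMcL G)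
    (S : Sylow 2 G) : (Cfsg.groupFusionSystem (S : Subgroup G)).IsSimple 2 := by
  have : Fact (Nat.Prime 2) := ⟨Nat.prime_two⟩
  obtain ⟨e1⟩ := hG
  obtain ⟨e2⟩ := mcl_iso_HH
  exact simple_of_ambData_equiv (ambData card_HH) (e1.trans e2) S

end Cfsg.Agent.Lib.Helper8.McLFus
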