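import Cfsg.Agent.Lib.Helper8.McLFusCert
import Cfsg.Agent.Lib.Helper8.McLFusCore2

/-!
# The Sylow 2-subgroup of the group on 275 points: the data for the simplicity of the fusion system

`HH` is the group generated by the four tables `gens`; `S0` is generated by four involutions and
has order 128.  Assuming that `HH` has order 898128000, `S0` is a self-normalising Sylow
2-subgroup with centre of order two, generated by conjugates of its central involution.
-/

set_option autoImplicit false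

namespace Cfsg.Agent.Lib.Helper8.McLFus

open Cfsg.Agent.Lib.Helper28 Cfsg.Agent.Lib.Helper28.BSGS MulAction

/-- the group on 275 points -/
def HH : Subgroup (Equiv.Perm (Fin 275)) := genGroup 275 9 gens

/-- the Sylow 2-subgroup -/
def S0 : Subgroup (Equiv.Perm (Fin 275)) := genGroup 275 9 xs

theorem tabs_good : GoodL 275 9 HH tabs :=
  slp_sound 275 9 prog gens (goodL_gens 275 9 gens_ok) prog_ok

theorem named_good : GoodL 275 9 HH (k1 ++ k2 ++ k3 ++ [kk, zt] ++ xs ++ cs) := by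
  intro e he
  have h := named_ok
  rw [List.all_eq_true] at h
  have h1 := h e he
  exact tabs_good e (List.contains_iff_mem.mp h1)

theorem k1_good : GoodL 275 9 HH k1 := fun e he => named_good e (by simp [he])
theorem k2_good : GoodL 275 9 HH k2 := fun e he => named_good e (by simp [he])
theorem k3_good : GoodL 275 9 HH k3 := fun e he => named_good e (by simp [he])
theorem kk_good : pairOK 275 9 kk.1 kk.2 = true ∧ permOf 275 9 kk.1 kk.2 ∈ HH :=
  named_good kk (by simp)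
theorem zt_good : pairOK 275 9 zt.1 zt.2 = true ∧ permOf 275 9 zt.1 zt.2 ∈ HH :=
  named_good zt (by simp)
theorem xs_good : GoodL 275 9 HH xs := fun e he => named_good e (by simp [he])
theorem cs_good : GoodL 275 9 HH cs := fun e he => named_good e (by simp [he])

theorem gensOK_of_good {K : Subgroup (Equiv.Perm (Fin 275))} {l : List (ℕ × ℕ)}
    (h : GoodL 275 9 K l) : gensOK 275 9 l = true := by
  unfold gensOK
  rw [List.all_eq_true]
  exact fun e he => (h e he).1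

theorem S0_le : S0 ≤ HH := genGroup_le_of_good 275 9 xs_good

theorem LL_facts : GoodL 275 9 S0 LL ∧
    (LL.map fun l => permOf 275 9 l.1 l.2).Nodup ∧
    (∀ g, g ∈ S0 ↔ g ∈ LL.map fun l => permOf 275 9 l.1 l.2) :=
  elems_of_list 275 9 b2 b3 base_lt.2.1 base_lt.2.2.1 (gensOK_of_good xs_good) xs_invol rfl
    progL_ok id_ok closed_ok fp_ok

theorem card_S0 : Nat.card S0 = 128 := by
  rw [card_eq_length S0 _ LL_facts.2.1 LL_facts.2.2, List.length_map, len_ok]

theorem stab_count (y : Fin 275) :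
    Nat.card ↥(S0 ⊓ stabilizer (Equiv.Perm (Fin 275)) y) = fcT 9 LL y.val :=
  card_stab_eq_fcT 275 9 LL_facts.1 LL_facts.2.1 LL_facts.2.2 y

/-- `m` lies in the big group and normalises the Sylow subgroup -/
def Nrm (m : Equiv.Perm (Fin 275)) : Prop := m ∈ HH ∧ ∀ t ∈ S0, m⁻¹ * t * m ∈ S0

theorem Nrm.fc {m : Equiv.Perm (Fin 275)} (h : Nrm m) (y : Fin 275) :
    fcT 9 LL (m y).val = fcT 9 LL y.val := by
  rw [← stab_count, ← stab_count]
  exact card_stab_conj S0 m h.2 y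

theorem Nrm.fc' {m : Equiv.Perm (Fin 275)} (h : Nrm m) (p : Fin 275) (b c : ℕ) (hp : p.val = b)
    (hb : fcT 9 LL b = c) : fcT 9 LL (m p).val = c := by
  rw [h.fc p, hp, hb]

theorem Nrm.mul_left {m s : Equiv.Perm (Fin 275)} (h : Nrm m) (hs : s ∈ S0) : Nrm (s * m) := by
  refine ⟨HH.mul_mem (S0_le hs) h.1, ?_⟩
  intro t ht
  have h1 : (s * m)⁻¹ * t * (s * m) = m⁻¹ * (s⁻¹ * t * s) * m := by group
  rw [h1]
  exact h.2 _ (S0.mul_mem (S0.mul_mem (S0.inv_mem hs) ht) hs)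

theorem fc_spec {y : ℕ} (hy : y < 275) :
    (fcT 9 LL y = 128 → y = b1) ∧ (fcT 9 LL y = 2 → ∃ l ∈ LL, look 9 l.1 b2 = y) ∧
    (fcT 9 LL y = 64 → y = b3 ∨ y = b4) := by
  have h := fc_ok
  rw [List.all_eq_true] at h
  have h1 := h y (List.mem_range.mpr hy)
  simp only [Bool.and_eq_true, Bool.or_eq_true, bne_iff_ne, ne_eq, beq_iff_eq,
    List.any_eq_true] at h1
  obtain ⟨⟨h2, h3⟩, h4⟩ := h1
  refine ⟨fun e => ?_, fun e => ?_, fun e => ?_⟩
  · rcases h2 with h2 | h2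
    · exact absurd e h2
    · exact h2
  · rcases h3 with h3 | h3
    · exact absurd e h3
    · exact h3
  · rcases h4 with (h4 | h4) | h4
    · exact absurd e h4
    · exact Or.inl h4
    · exact Or.inr h4

/-- the base points -/
def p1 : Fin 275 := pt 275 b1
def p2 : Fin 275 := pt 275 b2
def p3 : Fin 275 := pt 275 b3
def p4 : Fin 275 := pt 275 b4

theorem p1_val : p1.val = b1 := pt_val 275 base_lt.1
theorem p2_val : p2.val = b2 := pt_val 275 base_lt.2.1
theorem p3_val : p3.val = b3 := pt_val 275 base_lt.2.2.1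
theorem p4_val : p4.val = b4 := pt_val 275 base_lt.2.2.2.1

theorem Nrm.fix1 {m : Equiv.Perm (Fin 275)} (h : Nrm m) : m p1 = p1 := by
  have h1 := h.fc' p1 b1 128 p1_val fc_base.1
  apply Fin.ext
  rw [p1_val]
  exact (fc_spec (m p1).isLt).1 h1

theorem Nrm.fix2 {m : Equiv.Perm (Fin 275)} (h : Nrm m) : ∃ s ∈ S0, (s * m) p2 = p2 := by
  have h1 := h.fc' p2 b2 2 p2_val fc_base.2.1
  obtain ⟨l, hl, hlb⟩ := (fc_spec (m p2).isLt).2.1 h1
  have hg := LL_facts.1 l hl
  refine ⟨(permOf 275 9 l.1 l.2)⁻¹, S0.inv_mem hg.2, ?_⟩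
  rw [Equiv.Perm.mul_apply, Equiv.Perm.inv_eq_iff_eq]
  apply Fin.ext
  rw [permOf_apply hg.1, p2_val, hlb]

theorem Nrm.fix3 {m : Equiv.Perm (Fin 275)} (h : Nrm m) (h2 : m p2 = p2) :
    ∃ s ∈ S0, (s * m) p2 = p2 ∧ (s * m) p3 = p3 := by
  have h1 := h.fc' p3 b3 64 p3_val fc_base.2.2.1
  rcases (fc_spec (m p3).isLt).2.2 h1 with h3 | h3
  · have e : (1 : Equiv.Perm (Fin 275)) * m = m := one_mul m
    refine ⟨1, S0.one_mem, e.symm ▸ h2, ?_⟩
    apply Fin.ext
    rw [e, p3_val, h3]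
  · have ht := tt_ok
    rw [List.any_eq_true] at ht
    obtain ⟨l, hl, hl2⟩ := ht
    rw [Bool.and_eq_true, beq_iff_eq, beq_iff_eq] at hl2
    have hg := LL_facts.1 l hl
    refine ⟨permOf 275 9 l.1 l.2, hg.2, ?_, ?_⟩
    · rw [Equiv.Perm.mul_apply, h2]
      apply Fin.ext
      rw [permOf_apply hg.1, p2_val, hl2.1]
    · rw [Equiv.Perm.mul_apply]
      apply Fin.ext
      rw [permOf_apply hg.1, h3, hl2.2, p3_val]

theorem Nrm.fix4 {m : Equiv.Perm (Fin 275)} (h : Nrm m) (h3 : m p3 = p3) : m p4 = p4 := by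
  have h1 := h.fc' p4 b4 64 p4_val fc_base.2.2.2
  rcases (fc_spec (m p4).isLt).2.2 h1 with h4 | h4
  · exfalso
    have e : m p4 = m p3 := by
      rw [h3]
      apply Fin.ext
      rw [h4, p3_val]
    have := m.injective e
    have hv := congrArg Fin.val this
    rw [p3_val, p4_val] at hv
    revert hv
    decide
  · apply Fin.ext
    rw [h4, p4_val]

/-! ### the stabiliser chain of the big group -/

/-- the stabiliser chain -/
def K1 : Subgroup (Equiv.Perm (Fin 275)) := HH ⊓ stabilizer (Equiv.Perm (Fin 275)) p1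
/-- the stabiliser chain -/
def K2 : Subgroup (Equiv.Perm (Fin 275)) := K1 ⊓ stabilizer (Equiv.Perm (Fin 275)) p2
/-- the stabiliser chain -/
def K3 : Subgroup (Equiv.Perm (Fin 275)) := K2 ⊓ stabilizer (Equiv.Perm (Fin 275)) p3
/-- the stabiliser chain -/
def K4 : Subgroup (Equiv.Perm (Fin 275)) := K3 ⊓ stabilizer (Equiv.Perm (Fin 275)) p4

theorem fix_spec : fixOK 9 k1 b1 = true ∧ fixOK 9 k2 b1 = true ∧ fixOK 9 k2 b2 = true ∧
    fixOK 9 k3 b1 = true ∧ fixOK 9 k3 b2 = true ∧ fixOK 9 k3 b3 = true ∧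
    fixOK 9 [kk] b1 = true ∧ fixOK 9 [kk] b2 = true ∧ fixOK 9 [kk] b3 = true ∧
    fixOK 9 [kk] b4 = true := by
  have h := fix_ok
  simp only [Bool.and_eq_true] at h
  obtain ⟨⟨⟨⟨⟨⟨⟨⟨⟨h1, h2⟩, h3⟩, h4⟩, h5⟩, h6⟩, h7⟩, h8⟩, h9⟩, h10⟩ := h
  exact ⟨h1, h2, h3, h4, h5, h6, h7, h8, h9, h10⟩

theorem k1_goodK : GoodL 275 9 K1 k1 := goodL_inf_stab 275 9 k1_good base_lt.1 fix_spec.1

theorem k2_goodK : GoodL 275 9 K2 k2 :=
  goodL_inf_stab 275 9 (goodL_inf_stab 275 9 k2_good base_lt.1 fix_spec.2.1) base_lt.2.1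
    fix_spec.2.2.1

theorem k3_goodK : GoodL 275 9 K3 k3 :=
  goodL_inf_stab 275 9 (goodL_inf_stab 275 9 (goodL_inf_stab 275 9 k3_good base_lt.1
    fix_spec.2.2.2.1) base_lt.2.1 fix_spec.2.2.2.2.1) base_lt.2.2.1 fix_spec.2.2.2.2.2.1

theorem kk_goodL : GoodL 275 9 HH [kk] := by
  intro e he
  rw [List.mem_singleton] at he
  rw [he]
  exact kk_good

theorem kk_goodK : GoodL 275 9 K4 [kk] :=
  goodL_inf_stab 275 9 (goodL_inf_stab 275 9 (goodL_inf_stab 275 9 (goodL_inf_stab 275 9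
    kk_goodL base_lt.1 fix_spec.2.2.2.2.2.2.1) base_lt.2.1 fix_spec.2.2.2.2.2.2.2.1)
    base_lt.2.2.1 fix_spec.2.2.2.2.2.2.2.2.1) base_lt.2.2.2.1 fix_spec.2.2.2.2.2.2.2.2.2

/-- the element of order three fixing the four base points -/
def kP : Equiv.Perm (Fin 275) := permOf 275 9 kk.1 kk.2

theorem kP_mem : kP ∈ K4 := (kk_goodK kk (List.mem_singleton.mpr rfl)).2

theorem kP_apply (a : Fin 275) : (kP a).val = look 9 kk.1 a.val := by
  unfold kP
  exact permOf_apply kk_good.1 a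

theorem card_K4 (hcard : Nat.card HH = 898128000) : Nat.card K4 ≤ 3 := by
  have h1 := level_bound 275 9 HH gens gens_ok le_rfl b1 base_lt.1 O1 orb1_ok.1 orb1_ok.2.1
    orb1_ok.2.2.2
  have h2 := level_bound 275 9 K1 k1 (gensOK_of_good k1_good) (genGroup_le_of_good 275 9 k1_goodK)
    b2 base_lt.2.1 O2 orb2_ok.1 orb2_ok.2.1 orb2_ok.2.2.2
  have h3 := level_bound 275 9 K2 k2 (gensOK_of_good k2_good) (genGroup_le_of_good 275 9 k2_goodK)
    b3 base_lt.2.2.1 O3 orb3_ok.1 orb3_ok.2.1 orb3_ok.2.2.2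
  have h4 := level_bound 275 9 K3 k3 (gensOK_of_good k3_good) (genGroup_le_of_good 275 9 k3_goodK)
    b4 base_lt.2.2.2.1 O4 orb4_ok.1 orb4_ok.2.1 orb4_ok.2.2.2
  rw [orb1_ok.2.2.1, hcard] at h1
  rw [orb2_ok.2.2.1] at h2
  rw [orb3_ok.2.2.1] at h3
  rw [orb4_ok.2.2.1] at h4
  have e1 : Nat.card ↥(HH ⊓ stabilizer (Equiv.Perm (Fin 275)) (pt 275 b1)) = Nat.card K1 := rfl
  have e2 : Nat.card ↥(K1 ⊓ stabilizer (Equiv.Perm (Fin 275)) (pt 275 b2)) = Nat.card K2 := rfl
  have e3 : Nat.card ↥(K2 ⊓ stabilizer (Equiv.Perm (Fin 275)) (pt 275 b3)) = Nat.card K3 := rfl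
  have e4 : Nat.card ↥(K3 ⊓ stabilizer (Equiv.Perm (Fin 275)) (pt 275 b4)) = Nat.card K4 := rfl
  rw [e1] at h1
  rw [e2] at h2
  rw [e3] at h3
  rw [e4] at h4
  have h5 : 162 * (105 * (64 * Nat.card K4)) ≤ Nat.card K1 :=
    le_trans (Nat.mul_le_mul_left _ (le_trans (Nat.mul_le_mul_left _ h4) h3)) h2
  have h6 : 275 * (162 * (105 * (64 * Nat.card K4))) ≤ 898128000 :=
    le_trans (Nat.mul_le_mul_left _ h5) h1
  omega

theorem kP_ne : kP ≠ 1 ∧ kP ^ 2 ≠ 1 := by
  constructor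
  · intro h
    have h1 := kP_apply (pt 275 y0)
    rw [h, Equiv.Perm.one_apply, pt_val 275 base_lt.2.2.2.2.1] at h1
    apply kk_ok.1
    rw [← h1]
  · intro h
    have h1 := kP_apply (kP (pt 275 y1))
    rw [kP_apply (pt 275 y1), pt_val 275 base_lt.2.2.2.2.2] at h1
    have h2 : kP (kP (pt 275 y1)) = pt 275 y1 := by
      have := congrArg (fun g : Equiv.Perm (Fin 275) => g (pt 275 y1)) h
      simpa [pow_two, Equiv.Perm.mul_apply] using this
    rw [h2, pt_val 275 base_lt.2.2.2.2.2] at h1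
    apply kk_ok.2
    rw [← h1]

theorem not_nrm_kP : ¬ Nrm kP := by
  intro h
  have h1 := h.fc (pt 275 y0)
  rw [kP_apply, pt_val 275 base_lt.2.2.2.2.1] at h1
  exact kk_ok.1 h1

theorem not_nrm_kP2 : ¬ Nrm (kP ^ 2) := by
  intro h
  have h1 := h.fc (pt 275 y1)
  have h2 : (kP ^ 2) (pt 275 y1) = kP (kP (pt 275 y1)) := by
    rw [pow_two, Equiv.Perm.mul_apply]
  rw [h2, kP_apply, kP_apply, pt_val 275 base_lt.2.2.2.2.2] at h1
  exact kk_ok.2 h1

/-- the Sylow subgroup is self-normalising -/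
theorem nrm_mem (hcard : Nat.card HH = 898128000) {m : Equiv.Perm (Fin 275)} (h : Nrm m) :
    m ∈ S0 := by
  obtain ⟨s, hs, hs2⟩ := h.fix2
  have hm1 := h.mul_left hs
  obtain ⟨s', hs', hs2', hs3'⟩ := hm1.fix3 hs2
  have hm2 := hm1.mul_left hs'
  have f1 := hm2.fix1
  have f4 := hm2.fix4 hs3'
  have hK4 : s' * (s * m) ∈ K4 := by
    unfold K4 K3 K2 K1
    simp only [Subgroup.mem_inf, mem_stabilizer_iff]
    exact ⟨⟨⟨⟨hm2.1, f1⟩, hs2'⟩, hs3'⟩, f4⟩
  rcases mem_of_card_le_three K4 (card_K4 hcard) kP kP_mem kP_ne.1 kP_ne.2 _ hK4 with e | e | e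
  · have : m = s⁻¹ * s'⁻¹ := by
      have h1 : s' * (s * m) = 1 := e
      calc m = s⁻¹ * s'⁻¹ * (s' * (s * m)) := by group
        _ = s⁻¹ * s'⁻¹ := by rw [h1, mul_one]
    rw [this]
    exact S0.mul_mem (S0.inv_mem hs) (S0.inv_mem hs')
  · exfalso
    rw [e] at hm2
    exact not_nrm_kP hm2
  · exfalso
    rw [e] at hm2
    exact not_nrm_kP2 hm2

/-! ### the centre and the generation by conjugates -/

/-- the central involution -/
def zP : Equiv.Perm (Fin 275) := permOf 275 9 zt.1 zt.2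

theorem center_spec {s : Equiv.Perm (Fin 275)} (hs : s ∈ S0) (hc : ∀ t ∈ S0, s * t = t * s) :
    s = 1 ∨ s = zP := by
  have hmem := (LL_facts.2.2 s).mp hs
  rw [List.mem_map] at hmem
  obtain ⟨l, hl, rfl⟩ := hmem
  have hg := LL_facts.1 l hl
  have h := cent_ok
  unfold centOK at h
  rw [List.all_eq_true] at h
  have h1 := h l hl
  rw [Bool.or_eq_true, Bool.or_eq_true] at h1
  rcases h1 with (h1 | h1) | h1
  · exact Or.inl (permOf_eq_one 275 9 hg.1 h1)
  · right
    have e : l.1 = zt.1 := beq_iff_eq.mp h1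
    unfold zP
    have hp : pairOK 275 9 zt.1 l.2 = true := e ▸ hg.1
    calc permOf 275 9 l.1 l.2 = permOf 275 9 zt.1 l.2 := by rw [e]
      _ = permOf 275 9 zt.1 zt.2 := permOf_congr_fst 275 9 hp zt_good.1
  · exfalso
    rw [List.any_eq_true] at h1
    obtain ⟨x, hx, hxc⟩ := h1
    have hxg := xs_good x hx
    have hxS : permOf 275 9 x.1 x.2 ∈ S0 :=
      Subgroup.subset_closure (List.mem_map.mpr ⟨x, hx, rfl⟩)
    have h2 := commOK_of_comm 275 9 hxg.1 hg.1 (hc _ hxS).symm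
    rw [h2] at hxc
    exact absurd hxc (by decide)

theorem xs_conj : ∀ x ∈ xs, ∃ c ∈ HH, c * zP * c⁻¹ = permOf 275 9 x.1 x.2 := by
  intro x hx
  obtain ⟨i, hi, hxi⟩ := List.getElem_of_mem hx
  have hlen : xs.length = cs.length := conj_ok.2
  have hi' : i < cs.length := hlen ▸ hi
  have hp : (x, cs[i]) ∈ xs.zip cs := by
    rw [← hxi]
    have hlt : i < (xs.zip cs).length := by rw [List.length_zip]; omega
    have hmem := List.getElem_mem hlt
    rw [List.getElem_zip] at hmem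
    exact hmem
  have h := conj_ok.1
  rw [List.all_eq_true] at h
  have h1 := h _ hp
  have hcg := cs_good cs[i] (List.getElem_mem hi')
  exact ⟨permOf 275 9 cs[i].1 cs[i].2, hcg.2,
    conj_of_conjOK 275 9 (xs_good x hx).1 hcg.1 zt_good.1 h1⟩

/-- the data for the simplicity of the fusion system -/
theorem ambData (hcard : Nat.card HH = 898128000) : AmbData 2 HH S0 := by
  have : Fact (Nat.Prime 2) := ⟨Nat.prime_two⟩
  have hp : IsPGroup 2 S0 := IsPGroup.of_card (n := 7) (by rw [card_S0]; norm_num)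
  refine ⟨S0_le, hp, ?_, ?_, ?_, ?_⟩
  · intro h
    have h1 := card_S0
    rw [h, Subgroup.card_bot] at h1
    omega
  · have h1 := Subgroup.card_mul_index (S0.subgroupOf HH)
    have h2 : Nat.card (S0.subgroupOf HH) = Nat.card S0 :=
      Nat.card_congr (Subgroup.subgroupOfEquivOfLe S0_le).toEquiv
    rw [h2, card_S0, hcard] at h1
    have h3 : S0.relIndex HH = (S0.subgroupOf HH).index := rfl
    rw [h3]
    have h4 : (S0.subgroupOf HH).index = 7016625 := by omega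
    rw [h4]
    norm_num
  · intro n hn hinv
    exact nrm_mem hcard ⟨hn, hinv⟩
  · apply closed_of_center S0_le hp zP
    · intro s hs hc
      exact center_spec hs hc
    · intro T hTS hT hz
      show genGroup 275 9 xs ≤ T
      unfold genGroup
      rw [Subgroup.closure_le]
      intro g hg
      have hg' : g ∈ List.map (fun e => permOf 275 9 e.1 e.2) xs := hg
      rw [List.mem_map] at hg'
      obtain ⟨x, hx, rfl⟩ := hg'
      obtain ⟨c, hc, hcx⟩ := xs_conj x hx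
      rw [SetLike.mem_coe, ← hcx]
      apply hT _ hz c hc
      rw [hcx]
      exact Subgroup.subset_closure (List.mem_map.mpr ⟨x, hx, rfl⟩)

end Cfsg.Agent.Lib.Helper8.McLFus
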