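import Cfsg.Agent.Lib.Helper8.OETypeDiscE

/-!
# TC7 of the even-orthogonal type calculus: exact skeleton shapes
(`notes/OETypeSkel_helper7.lean.txt`): discriminant and type, `q` odd.
-/

set_option autoImplicit false

namespace Cfsg.Agent.Lib.Helper8.OETypeDisc

open Matrix Cfsg Cfsg.Geo QuadraticMap Module

variable {F : Type*} [Field F] [Fintype F] {ι : Type} [Fintype ι] [DecidableEq ι] {Q : (ι → F) → F}

/-- **TC7a** (exact skeleton shape). -/
theorem TC7a (hQ : IsNondegenerateQuadraticForm Q) (hq : Odd (Fintype.card F)) (m : ℕ)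
    (hcard : Fintype.card ι = 2 * m) :
    IsPlusTypeOn Q ⊤ ↔ IsSquare ((-1) ^ m * (gramMatrix (polar Q)).det) :=
  isPlusTypeOn_top_iff_disc Q hQ hq hcard

/-- **TC7b** (exact skeleton shape) the subspace version: `W` non-degenerate of dimension `2m`
with a basis `b` (the non-degeneracy hypothesis is not needed for the proof but kept for the
shape; it follows from the statement being used with a non-zero Gram determinant). -/
theorem TC7b (hQ : IsNondegenerateQuadraticForm Q) (hq : Odd (Fintype.card F))
    (W : Submodule F (ι → F)) (hW : IsNondegenerateOn (polar Q) W) (m : ℕ)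
    (b : Basis (Fin (2 * m)) F W) :
    IsPlusTypeOn Q W ↔
      IsSquare ((-1) ^ m * (Matrix.of fun i j => polar Q (b i : ι → F) (b j : ι → F)).det) := by
  have hg : gram (resQ (qf Q hQ) W) b
      = Matrix.of fun i j => polar Q (b i : ι → F) (b j : ι → F) := by
    rw [gram_resQ]; rfl
  rw [← hg, ← plusQ_resQ_iff Q hQ W, plusQ_iff_isSquare (two_ne_zero_of_odd_card hq) _
    (ndQ_resQ_of_nondegenerateOn Q hQ W hW) (m := m)
    (by rw [finrank_eq_card_basis b, Fintype.card_fin]), isSquare_disc_iff _ b]

end Cfsg.Agent.Lib.Helper8.OETypeDisc
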