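import Mathlib

/-!
# Discriminants of quadratic spaces (abstract part A)

Gram determinants with respect to bases, their behaviour under change of basis and under
orthogonal direct sums, and the determinant of a block matrix with zero upper left block.
-/

set_option autoImplicit false

namespace Cfsg.Agent.Lib.Helper8.OETypeDisc

open Module QuadraticMap Matrix

section mat
variable {R : Type*} [CommRing R] {n : Type*} [Fintype n] [DecidableEq n]

theorem det_swapBlocks : (fromBlocks (0 : Matrix n n R) (1 : Matrix n n R) (1 : Matrix n n R) (0 : Matrix n n R)).det = (-1) ^ Fintype.card n := by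
  have h1 : (fromBlocks (0 : Matrix n n R) (1 : Matrix n n R) (1 : Matrix n n R) (0 : Matrix n n R)) * fromBlocks (1 : Matrix n n R) (1 : Matrix n n R) (0 : Matrix n n R) (1 : Matrix n n R)
      = fromBlocks (0 : Matrix n n R) (1 : Matrix n n R) (1 : Matrix n n R) (1 : Matrix n n R) := by
    rw [fromBlocks_multiply]
    simp
  have h2 : (fromBlocks (1 : Matrix n n R) (1 : Matrix n n R) (0 : Matrix n n R) (1 : Matrix n n R)).det = 1 := by
    rw [det_fromBlocks_zero₂₁]; simp
  have h3 : (fromBlocks (0 : Matrix n n R) (1 : Matrix n n R) (1 : Matrix n n R) (1 : Matrix n n R)).det = (-1) ^ Fintype.card n := by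
    rw [det_fromBlocks_one₂₂]
    simp [det_neg]
  have := congrArg Matrix.det h1
  rw [det_mul, h2, mul_one, h3] at this
  exact this

theorem det_fromBlocks_zero₁₁ (A B D : Matrix n n R) :
    (fromBlocks 0 A B D).det = (-1) ^ Fintype.card n * (A.det * B.det) := by
  have h1 : fromBlocks 0 A B D * fromBlocks (0 : Matrix n n R) (1 : Matrix n n R) (1 : Matrix n n R) (0 : Matrix n n R) = fromBlocks A 0 D B := by
    rw [fromBlocks_multiply]
    simp
  have h2 := congrArg Matrix.det h1
  rw [det_mul, det_swapBlocks, det_fromBlocks_zero₁₂] at h2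
  have h3 : ((-1 : R) ^ Fintype.card n) * ((-1 : R) ^ Fintype.card n) = 1 := by
    rw [← mul_pow]; simp
  calc (fromBlocks 0 A B D).det
      = (fromBlocks 0 A B D).det * (((-1 : R) ^ Fintype.card n) * ((-1 : R) ^ Fintype.card n)) := by
        rw [h3, mul_one]
    _ = (-1) ^ Fintype.card n * (A.det * B.det) := by
        rw [← mul_assoc, h2]; ring

end mat

end Cfsg.Agent.Lib.Helper8.OETypeDisc
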