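import Cfsg.Agent.Lib.Helper8.OETypeDiscA
import Cfsg.Agent.Lib.Helper15.Witt1

set_option autoImplicit false
set_option linter.unusedSectionVars false

namespace Cfsg.Agent.Lib.Helper8.OETypeDisc

open Module QuadraticMap Matrix

universe u v
variable {F : Type u} [Field F] {V : Type v} [AddCommGroup V] [Module F V]

/-- Gram matrix of the polar form of `Q` with respect to a family of vectors. -/
def gram (Q : QuadraticForm F V) {κ : Type*} (b : κ → V) : Matrix κ κ F :=
  Matrix.of fun i j => polar Q (b i) (b j)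

@[simp] theorem gram_apply (Q : QuadraticForm F V) {κ : Type*} (b : κ → V) (i j : κ) :
    gram Q b i j = polar Q (b i) (b j) := rfl

theorem gram_eq_toMatrix (Q : QuadraticForm F V) {κ : Type*} [Fintype κ] [DecidableEq κ]
    (b : Basis κ F V) : gram Q b = LinearMap.BilinForm.toMatrix b (polarBilin Q) := by
  ext i j
  rw [LinearMap.BilinForm.toMatrix_apply, polarBilin_apply_apply, gram_apply]

theorem gram_reindex (Q : QuadraticForm F V) {κ κ' : Type*} (b : κ → V) (e : κ' ≃ κ) :
    gram Q (b ∘ e) = Matrix.reindex e.symm e.symm (gram Q b) := by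
  ext i j
  simp [gram]

variable [FiniteDimensional F V]

/-- A representative of the discriminant: the Gram determinant with respect to a chosen basis. -/
noncomputable def disc (Q : QuadraticForm F V) : F :=
  (gram Q (Module.finBasis F V)).det

/-- Gram determinants of two bases (with the same index type) differ by a non-zero square. -/
theorem det_gram_basis_change (Q : QuadraticForm F V) {κ : Type*} [Fintype κ] [DecidableEq κ]
    (b c : Basis κ F V) : ∃ d : F, d ≠ 0 ∧ (gram Q c).det = d ^ 2 * (gram Q b).det := by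
  refine ⟨(b.toMatrix c).det, ?_, ?_⟩
  · have := b.invertibleToMatrix c
    exact (Matrix.isUnit_det_of_invertible (b.toMatrix c)).ne_zero
  · rw [gram_eq_toMatrix, gram_eq_toMatrix, ← LinearMap.BilinForm.toMatrix_mul_basis_toMatrix b c,
      det_mul, det_mul, det_transpose]
    ring

/-- Gram determinants of two bases (arbitrary index types) differ by a non-zero square. -/
theorem det_gram_basis_change' (Q : QuadraticForm F V) {κ κ' : Type*} [Fintype κ] [DecidableEq κ]
    [Fintype κ'] [DecidableEq κ'] (b : Basis κ F V) (c : Basis κ' F V) :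
    ∃ d : F, d ≠ 0 ∧ (gram Q c).det = d ^ 2 * (gram Q b).det := by
  let e : κ ≃ κ' := b.indexEquiv c
  obtain ⟨d, hd, h⟩ := det_gram_basis_change Q b (c.reindex e.symm)
  refine ⟨d, hd, ?_⟩
  rw [← h]
  have : ⇑(c.reindex e.symm) = ⇑c ∘ e := by
    ext i
    simp [Basis.reindex_apply]
  rw [this, gram_reindex, det_reindex_self]

theorem det_gram_eq_disc (Q : QuadraticForm F V) {κ : Type*} [Fintype κ] [DecidableEq κ]
    (b : Basis κ F V) : ∃ d : F, d ≠ 0 ∧ (gram Q b).det = d ^ 2 * disc Q :=
  det_gram_basis_change' Q (Module.finBasis F V) b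

theorem isSquare_mul_sq_iff {d x : F} (hd : d ≠ 0) : IsSquare (d ^ 2 * x) ↔ IsSquare x := by
  constructor
  · rintro ⟨r, hr⟩
    refine ⟨r / d, ?_⟩
    field_simp
    linear_combination hr
  · rintro ⟨r, hr⟩
    exact ⟨d * r, by rw [hr]; ring⟩

theorem isSquare_disc_iff (Q : QuadraticForm F V) {κ : Type*} [Fintype κ] [DecidableEq κ]
    (b : Basis κ F V) (s : F) : IsSquare (s * disc Q) ↔ IsSquare (s * (gram Q b).det) := by
  obtain ⟨d, hd, h⟩ := det_gram_eq_disc Q b
  rw [h, show s * (d ^ 2 * disc Q) = d ^ 2 * (s * disc Q) by ring, isSquare_mul_sq_iff hd]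

/-! ### complementary subspaces -/

/-- The basis of `V` obtained from bases of two complementary subspaces. -/
noncomputable def sumBasis {W W' : Submodule F V} (h : IsCompl W W') {κ κ' : Type*}
    (b : Basis κ F W) (b' : Basis κ' F W') : Basis (κ ⊕ κ') F V :=
  (b.prod b').map (Submodule.prodEquivOfIsCompl W W' h)

theorem sumBasis_inl {W W' : Submodule F V} (h : IsCompl W W') {κ κ' : Type*}
    (b : Basis κ F W) (b' : Basis κ' F W') (i : κ) : sumBasis h b b' (Sum.inl i) = (b i : V) := by
  simp [sumBasis, Submodule.coe_prodEquivOfIsCompl']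

theorem sumBasis_inr {W W' : Submodule F V} (h : IsCompl W W') {κ κ' : Type*}
    (b : Basis κ F W) (b' : Basis κ' F W') (j : κ') : sumBasis h b b' (Sum.inr j) = (b' j : V) := by
  simp [sumBasis, Submodule.coe_prodEquivOfIsCompl']

/-- The restriction of a quadratic form to a subspace. -/
noncomputable def resQ (Q : QuadraticForm F V) (W : Submodule F V) : QuadraticForm F W :=
  Q.comp W.subtype

@[simp] theorem resQ_apply (Q : QuadraticForm F V) (W : Submodule F V) (w : W) :
    resQ Q W w = Q (w : V) := rfl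

theorem polar_resQ (Q : QuadraticForm F V) (W : Submodule F V) (x y : W) :
    polar (resQ Q W) x y = polar Q (x : V) (y : V) := by
  simp [polar]

theorem gram_resQ (Q : QuadraticForm F V) (W : Submodule F V) {κ : Type*} (b : κ → W) :
    gram (resQ Q W) b = gram Q (fun i => (b i : V)) := by
  ext i j
  simp [polar_resQ]

theorem gram_sumBasis (Q : QuadraticForm F V) {W W' : Submodule F V} (h : IsCompl W W')
    {κ κ' : Type*} (b : Basis κ F W) (b' : Basis κ' F W') :
    gram Q (sumBasis h b b') = fromBlocks (gram (resQ Q W) b)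
      (Matrix.of fun i j => polar Q (b i : V) (b' j : V))
      (Matrix.of fun j i => polar Q (b' j : V) (b i : V)) (gram (resQ Q W') b') := by
  ext (i | i) (j | j) <;> simp [sumBasis_inl, sumBasis_inr, polar_resQ]

/-- Discriminants are multiplicative on orthogonal direct sums. -/
theorem disc_of_isCompl_orthogonal (Q : QuadraticForm F V)
    {W W' : Submodule F V} (h : IsCompl W W')
    (horth : ∀ w ∈ W, ∀ w' ∈ W', polar Q w w' = 0) :
    ∃ d : F, d ≠ 0 ∧ disc Q = d ^ 2 * (disc (resQ Q W) * disc (resQ Q W')) := by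
  classical
  obtain ⟨d, hd, h1⟩ := det_gram_eq_disc Q (sumBasis h (Module.finBasis F W) (Module.finBasis F W'))
  refine ⟨d⁻¹, inv_ne_zero hd, ?_⟩
  have h2 : (gram Q (sumBasis h (Module.finBasis F W) (Module.finBasis F W'))).det
      = disc (resQ Q W) * disc (resQ Q W') := by
    rw [gram_sumBasis]
    have : (Matrix.of fun (i : Fin (finrank F W)) (j : Fin (finrank F W')) =>
        polar Q ((Module.finBasis F W) i : V) ((Module.finBasis F W') j : V)) = 0 := by
      ext i j
      exact horth _ (Submodule.coe_mem _) _ (Submodule.coe_mem _)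
    rw [this, det_fromBlocks_zero₁₂]
    rfl
  rw [← h2, h1]
  field_simp

/-! ### plus type -/

/-- Abstract plus type: a totally singular subspace of half the dimension. -/
def PlusQ (Q : QuadraticForm F V) : Prop :=
  ∃ U : Submodule F V, (∀ u ∈ U, Q u = 0) ∧ 2 * finrank F U = finrank F V

theorem polar_eq_zero_of_ts (Q : QuadraticForm F V) {U : Submodule F V} (hU : ∀ u ∈ U, Q u = 0)
    {x y : V} (hx : x ∈ U) (hy : y ∈ U) : polar Q x y = 0 := by
  unfold polar
  rw [hU _ (U.add_mem hx hy), hU _ hx, hU _ hy]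
  ring

/-- plus type implies that the signed discriminant is a square (any field). -/
theorem isSquare_of_plusQ (Q : QuadraticForm F V) {m : ℕ} (hm : finrank F V = 2 * m)
    (hplus : PlusQ Q) : IsSquare ((-1) ^ m * disc Q) := by
  classical
  obtain ⟨U, hU, hdim⟩ := hplus
  obtain ⟨U', hc⟩ := Submodule.exists_isCompl U
  have hUm : finrank F U = m := by omega
  have hU'm : finrank F U' = m := by
    have := Submodule.finrank_add_eq_of_isCompl hc
    omega
  let b : Basis (Fin m) F U := Module.finBasisOfFinrankEq F U hUm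
  let b' : Basis (Fin m) F U' := Module.finBasisOfFinrankEq F U' hU'm
  rw [isSquare_disc_iff Q (sumBasis hc b b'), gram_sumBasis]
  have h0 : gram (resQ Q U) b = 0 := by
    ext i j
    rw [gram_apply, polar_resQ]
    exact polar_eq_zero_of_ts Q hU (Submodule.coe_mem _) (Submodule.coe_mem _)
  have hT : (Matrix.of fun (j : Fin m) (i : Fin m) => polar Q (b' j : V) (b i : V))
      = (Matrix.of fun (i : Fin m) (j : Fin m) => polar Q (b i : V) (b' j : V))ᵀ := by
    ext i j
    simp [polar_comm]
  rw [h0, hT, det_fromBlocks_zero₁₁, det_transpose, Fintype.card_fin]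
  refine ⟨(Matrix.of fun (i : Fin m) (j : Fin m) => polar Q (b i : V) (b' j : V)).det, ?_⟩
  have : ((-1 : F) ^ m) * ((-1 : F) ^ m) = 1 := by rw [← mul_pow]; simp
  linear_combination (Matrix.of fun (i : Fin m) (j : Fin m) => polar Q (b i : V) (b' j : V)).det ^ 2 * this

/-! ### hyperbolic pairs -/

/-- non-degeneracy of the polar form -/
def NdQ (Q : QuadraticForm F V) : Prop := ∀ x : V, x ≠ 0 → ∃ y : V, polar Q x y ≠ 0

theorem Q_add' (Q : QuadraticForm F V) (x y : V) : Q (x + y) = Q x + Q y + polar Q x y := by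
  unfold polar; ring

theorem exists_partner (Q : QuadraticForm F V) (hnd : NdQ Q) {e : V} (he0 : e ≠ 0) (he : Q e = 0) :
    ∃ f : V, Q f = 0 ∧ polar Q e f = 1 := by
  obtain ⟨y, hy⟩ := hnd e he0
  obtain ⟨y₁, h1⟩ : ∃ y₁, polar Q e y₁ = 1 :=
    ⟨(polar Q e y)⁻¹ • y, by rw [polar_smul_right, smul_eq_mul, inv_mul_cancel₀ hy]⟩
  refine ⟨y₁ + (-(Q y₁)) • e, ?_, ?_⟩
  · rw [Q_add', QuadraticMap.map_smul, he, polar_smul_right, polar_comm Q y₁ e, h1]; simp
  · rw [polar_add_right, polar_smul_right, polar_self, he, h1]; simp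

/-- the hyperbolic plane spanned by `e` and `f` -/
def hypPlane (e f : V) : Submodule F V := Submodule.span F (Set.range ![e, f])

/-- the orthogonal complement of `e` and `f` -/
def hypPerp (Q : QuadraticForm F V) (e f : V) : Submodule F V :=
  LinearMap.ker (polarBilin Q e) ⊓ LinearMap.ker (polarBilin Q f)

theorem mem_hypPerp (Q : QuadraticForm F V) (e f x : V) :
    x ∈ hypPerp Q e f ↔ polar Q e x = 0 ∧ polar Q f x = 0 := by
  simp [hypPerp]

theorem mem_hypPlane (e f x : V) : x ∈ hypPlane (F := F) e f ↔ ∃ a b : F, x = a • e + b • f := by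
  unfold hypPlane
  have : Set.range ![e, f] = {e, f} := by
    ext z; simp [eq_comm, or_comm]
  rw [this, Submodule.mem_span_pair]
  constructor
  · rintro ⟨a, b, h⟩; exact ⟨a, b, h.symm⟩
  · rintro ⟨a, b, h⟩; exact ⟨a, b, h.symm⟩

section hyp
variable (Q : QuadraticForm F V) {e f : V} (he : Q e = 0) (hf : Q f = 0) (hef : polar Q e f = 1)
include he hf hef

theorem hyp_polar_e (a b : F) : polar Q e (a • e + b • f) = b := by
  rw [polar_add_right, polar_smul_right, polar_smul_right, polar_self, he, hef]; simp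

theorem hyp_polar_f (a b : F) : polar Q f (a • e + b • f) = a := by
  rw [polar_add_right, polar_smul_right, polar_smul_right, polar_self, hf, polar_comm Q f e, hef]
  simp

theorem hyp_linearIndependent : LinearIndependent F ![e, f] := by
  rw [LinearIndependent.pair_iff]
  intro s t h
  have h1 := hyp_polar_e Q he hf hef s t
  have h2 := hyp_polar_f Q he hf hef s t
  rw [h, polar_zero_right] at h1 h2
  exact ⟨h2.symm, h1.symm⟩

theorem hyp_isCompl : IsCompl (hypPlane (F := F) e f) (hypPerp Q e f) := by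
  constructor
  · rw [Submodule.disjoint_def]
    intro x hx hx'
    obtain ⟨a, b, rfl⟩ := (mem_hypPlane e f x).1 hx
    rw [mem_hypPerp, hyp_polar_e Q he hf hef, hyp_polar_f Q he hf hef] at hx'
    rw [hx'.1, hx'.2]; simp
  · rw [Submodule.codisjoint_iff_exists_add_eq]
    intro x
    refine ⟨polar Q f x • e + polar Q e x • f, x - (polar Q f x • e + polar Q e x • f),
      (mem_hypPlane e f _).2 ⟨_, _, rfl⟩, ?_, by abel⟩
    rw [mem_hypPerp, polar_sub_right, polar_sub_right, hyp_polar_e Q he hf hef,
      hyp_polar_f Q he hf hef]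
    simp

theorem hyp_orth : ∀ w ∈ hypPlane (F := F) e f, ∀ w' ∈ hypPerp Q e f, polar Q w w' = 0 := by
  intro w hw w' hw'
  obtain ⟨a, b, rfl⟩ := (mem_hypPlane e f w).1 hw
  rw [mem_hypPerp] at hw'
  rw [polar_add_left, polar_smul_left, polar_smul_left, hw'.1, hw'.2]; simp

theorem hyp_finrank_plane : finrank F (hypPlane (F := F) e f) = 2 := by
  unfold hypPlane
  rw [finrank_span_eq_card (hyp_linearIndependent Q he hf hef)]
  simp

theorem hyp_finrank_perp :
    finrank F (hypPerp Q e f) + 2 = finrank F V := by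
  have := Submodule.finrank_add_eq_of_isCompl (hyp_isCompl Q he hf hef)
  rw [hyp_finrank_plane Q he hf hef] at this
  omega

theorem hyp_disc_plane :
    ∃ d : F, d ≠ 0 ∧ disc (resQ Q (hypPlane (F := F) e f)) = d ^ 2 * (-1) := by
  classical
  let b : Basis (Fin 2) F (hypPlane (F := F) e f) :=
    Basis.span (hyp_linearIndependent Q he hf hef)
  obtain ⟨d, hd, h⟩ := det_gram_eq_disc (resQ Q (hypPlane (F := F) e f)) b
  refine ⟨d⁻¹, inv_ne_zero hd, ?_⟩
  have hb0 : ((b 0 : hypPlane (F := F) e f) : V) = e := by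
    show ((Basis.span (hyp_linearIndependent Q he hf hef) 0 : _) : V) = e
    rw [Basis.span_apply]; rfl
  have hb1 : ((b 1 : hypPlane (F := F) e f) : V) = f := by
    show ((Basis.span (hyp_linearIndependent Q he hf hef) 1 : _) : V) = f
    rw [Basis.span_apply]; rfl
  have g00 : gram (resQ Q (hypPlane (F := F) e f)) b 0 0 = 0 := by
    rw [gram_apply, polar_resQ, hb0, polar_self, he]; simp
  have g11 : gram (resQ Q (hypPlane (F := F) e f)) b 1 1 = 0 := by
    rw [gram_apply, polar_resQ, hb1, polar_self, hf]; simp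
  have g01 : gram (resQ Q (hypPlane (F := F) e f)) b 0 1 = 1 := by
    rw [gram_apply, polar_resQ, hb0, hb1, hef]
  have g10 : gram (resQ Q (hypPlane (F := F) e f)) b 1 0 = 1 := by
    rw [gram_apply, polar_resQ, hb0, hb1, polar_comm, hef]
  have hdet : (gram (resQ Q (hypPlane (F := F) e f)) b).det = -1 := by
    rw [det_fin_two, g00, g11, g01, g10]; ring
  rw [hdet] at h
  rw [eq_comm, inv_pow, inv_mul_eq_iff_eq_mul₀ (pow_ne_zero 2 hd)]
  exact h

theorem hyp_ndq_perp (hnd : NdQ Q) : NdQ (resQ Q (hypPerp Q e f)) := by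
  intro x hx
  have hx0 : (x : V) ≠ 0 := fun h => hx (Subtype.ext h)
  obtain ⟨y, hy⟩ := hnd _ hx0
  obtain ⟨h, w, hh, hw, rfl⟩ := Submodule.codisjoint_iff_exists_add_eq.1
    (hyp_isCompl Q he hf hef).codisjoint y
  refine ⟨⟨w, hw⟩, ?_⟩
  rw [polar_resQ]
  rw [polar_add_right, polar_comm Q _ h, hyp_orth Q he hf hef h hh _ x.2, zero_add] at hy
  exact hy

/-- a totally singular subspace of the complement extends by `e` -/
theorem hyp_lift (hplus : PlusQ (resQ Q (hypPerp Q e f))) : PlusQ Q := by
  obtain ⟨U', hU', hdim⟩ := hplus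
  have hperp := hyp_finrank_perp Q he hf hef
  let X : Submodule F V := U'.map (hypPerp Q e f).subtype
  have hXdim : finrank F X = finrank F U' :=
    Submodule.finrank_map_subtype_eq _ _
  have hXle : X ≤ hypPerp Q e f := Submodule.map_subtype_le _ _
  have hXts : ∀ u ∈ X, Q u = 0 := by
    rintro _ ⟨u, hu, rfl⟩
    exact hU' u hu
  have heX : e ∉ hypPerp Q e f := by
    rw [mem_hypPerp, polar_comm Q f e, hef]
    simp
  refine ⟨X ⊔ Submodule.span F {e}, ?_, ?_⟩
  · intro u hu
    obtain ⟨x, hx, y, hy, rfl⟩ := Submodule.mem_sup.1 hu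
    obtain ⟨a, rfl⟩ := Submodule.mem_span_singleton.1 hy
    have hxe : polar Q x e = 0 := by
      rw [polar_comm]; exact ((mem_hypPerp Q e f x).1 (hXle hx)).1
    rw [Q_add', hXts x hx, QuadraticMap.map_smul, he, polar_smul_right, hxe]
    simp
  · have hdisj : X ⊓ Submodule.span F {e} = ⊥ := by
      rw [eq_bot_iff]
      rintro x ⟨hx, hy⟩
      obtain ⟨a, rfl⟩ := Submodule.mem_span_singleton.1 hy
      by_cases ha : a = 0
      · simp [ha]
      · exfalso
        apply heX
        have := (hypPerp Q e f).smul_mem a⁻¹ (hXle hx)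
        rwa [smul_smul, inv_mul_cancel₀ ha, one_smul] at this
    have he0 : e ≠ 0 := by
      rintro rfl
      rw [polar_zero_left] at hef
      exact zero_ne_one hef
    have := Submodule.finrank_sup_add_finrank_inf_eq X (Submodule.span F {e})
    rw [hdisj, finrank_bot, finrank_span_singleton he0, hXdim] at this
    omega

end hyp

/-! ### the binary case and the main theorem -/

theorem Q_lin2 (Q : QuadraticForm F V) (x y : F) (u w : V) :
    Q (x • u + y • w) = x ^ 2 * Q u + y ^ 2 * Q w + x * y * polar Q u w := by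
  rw [Q_add', QuadraticMap.map_smul, QuadraticMap.map_smul, polar_smul_left, polar_smul_right]
  simp only [smul_eq_mul]
  ring

/-- a binary form whose negated discriminant is a square has a singular vector -/
theorem exists_singular_of_binary (h2 : (2 : F) ≠ 0) (Q : QuadraticForm F V)
    (hdim : finrank F V = 2) (hsq : IsSquare ((-1) ^ 1 * disc Q)) : ∃ e : V, e ≠ 0 ∧ Q e = 0 := by
  classical
  let b : Basis (Fin 2) F V := Module.finBasisOfFinrankEq F V hdim
  rw [isSquare_disc_iff Q b, det_fin_two] at hsq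
  simp only [gram_apply, polar_self, nsmul_eq_mul, Nat.cast_ofNat] at hsq
  rw [polar_comm Q (b 1) (b 0)] at hsq
  obtain ⟨s, hs⟩ := hsq
  by_cases ha : Q (b 0) = 0
  · exact ⟨b 0, b.ne_zero 0, ha⟩
  · refine ⟨((s - polar Q (b 0) (b 1)) / (2 * Q (b 0))) • b 0 + (1 : F) • b 1, ?_, ?_⟩
    · intro h0
      have := congrArg (fun v => b.repr v 1) h0
      simp at this
    · rw [Q_lin2]
      field_simp
      linear_combination (-1 : F) * hs

theorem plusQ_of_isSquare [Finite F] (h2 : (2 : F) ≠ 0) (m : ℕ) :
    ∀ (V : Type v) [AddCommGroup V] [Module F V] [FiniteDimensional F V] (Q : QuadraticForm F V),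
      NdQ Q → finrank F V = 2 * m → IsSquare ((-1) ^ m * disc Q) → PlusQ Q := by
  induction m with
  | zero =>
    intro V _ _ _ Q _ hdim _
    exact ⟨⊥, by simp, by simp [hdim]⟩
  | succ m ih =>
    intro V _ _ _ Q hnd hdim hsq
    obtain ⟨e, he0, he⟩ : ∃ e : V, e ≠ 0 ∧ Q e = 0 := by
      rcases Nat.eq_zero_or_pos m with rfl | hm
      · exact exists_singular_of_binary h2 Q (by omega) (by simpa using hsq)
      · exact Cfsg.Agent.Lib.Helper15.exists_singular_of_three_le_finrank Q (by omega)
    obtain ⟨f, hf, hef⟩ := exists_partner Q hnd he0 he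
    apply hyp_lift Q he hf hef
    apply ih _ _ (hyp_ndq_perp Q he hf hef hnd)
    · have := hyp_finrank_perp Q he hf hef
      omega
    · obtain ⟨d, hd, h⟩ := disc_of_isCompl_orthogonal Q (hyp_isCompl Q he hf hef)
        (hyp_orth Q he hf hef)
      obtain ⟨d', hd', h'⟩ := hyp_disc_plane Q he hf hef
      rw [h, h'] at hsq
      have : (-1 : F) ^ (m + 1) * (d ^ 2 * (d' ^ 2 * -1 * disc (resQ Q (hypPerp Q e f))))
          = (d * d') ^ 2 * ((-1) ^ m * disc (resQ Q (hypPerp Q e f))) := by ring
      rw [this, isSquare_mul_sq_iff (mul_ne_zero hd hd')] at hsq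
      exact hsq

/-- **Main theorem (abstract form).** Over a finite field of odd characteristic, a non-degenerate
quadratic space of dimension `2m` is of plus type iff `(-1)^m` times its discriminant is a square. -/
theorem plusQ_iff_isSquare [Finite F] (h2 : (2 : F) ≠ 0) (Q : QuadraticForm F V) (hnd : NdQ Q)
    {m : ℕ} (hdim : finrank F V = 2 * m) : PlusQ Q ↔ IsSquare ((-1) ^ m * disc Q) :=
  ⟨isSquare_of_plusQ Q hdim, plusQ_of_isSquare h2 m V Q hnd hdim⟩

end Cfsg.Agent.Lib.Helper8.OETypeDisc
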