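import Cfsg.Agent.Lib.Helper8.OETypeDiscB
import Cfsg.Prelude.Def_GeometricClasses

/-!
# Discriminant and type of even-dimensional orthogonal spaces, `q` odd (frozen vocabulary)
-/

set_option autoImplicit false
set_option linter.unusedSectionVars false

namespace Cfsg.Agent.Lib.Helper8.OETypeDisc

open Module QuadraticMap Matrix Cfsg.Geo

variable {F : Type*} [Field F] {ι : Type} [Fintype ι] [DecidableEq ι]

/-- a quadratic form given as a function, as a `QuadraticForm` -/
def qf (Q : (ι → F) → F) (hQ : IsNondegenerateQuadraticForm Q) : QuadraticForm F (ι → F) where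
  toFun := Q
  toFun_smul := fun a x => by rw [hQ.smul, smul_eq_mul, pow_two]
  exists_companion' := ⟨LinearMap.mk₂ F (QuadraticMap.polar Q) hQ.polar_bilinear.add_left
    (fun c x v => by rw [hQ.polar_bilinear.smul_left, smul_eq_mul]) hQ.polar_bilinear.add_right
    (fun c v x => by rw [hQ.polar_bilinear.smul_right, smul_eq_mul]), fun x y => by
      rw [LinearMap.mk₂_apply]
      unfold QuadraticMap.polar
      ring⟩

@[simp] theorem qf_coe (Q : (ι → F) → F) (hQ : IsNondegenerateQuadraticForm Q) :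
    ⇑(qf Q hQ) = Q := rfl

@[simp] theorem qf_apply (Q : (ι → F) → F) (hQ : IsNondegenerateQuadraticForm Q) (v : ι → F) :
    qf Q hQ v = Q v := rfl

theorem two_ne_zero_of_odd_card [Fintype F] (hq : Odd (Fintype.card F)) : (2 : F) ≠ 0 := by
  apply Ring.two_ne_zero
  intro h
  have := FiniteField.even_card_of_char_two h
  rw [Nat.odd_iff] at hq
  omega

variable (Q : (ι → F) → F) (hQ : IsNondegenerateQuadraticForm Q)

theorem ndQ_qf : NdQ (qf Q hQ) := by
  intro x hx
  obtain ⟨y, hy⟩ := (hQ.nondegenerate x hx).2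
  exact ⟨y, hy⟩

theorem ndQ_resQ_of_nondegenerateOn (W : Submodule F (ι → F))
    (hW : IsNondegenerateOn (QuadraticMap.polar Q) W) : NdQ (resQ (qf Q hQ) W) := by
  intro x hx
  have hx0 : (x : ι → F) ≠ 0 := fun h => hx (Subtype.ext h)
  obtain ⟨y, hyW, hy⟩ := (hW _ x.2 hx0).2
  exact ⟨⟨y, hyW⟩, by rw [polar_resQ]; exact hy⟩

theorem plusQ_resQ_iff (W : Submodule F (ι → F)) :
    PlusQ (resQ (qf Q hQ) W) ↔ IsPlusTypeOn Q W := by
  constructor
  · rintro ⟨U', hU', hdim⟩
    refine ⟨U'.map W.subtype, Submodule.map_subtype_le _ _, ?_, ?_⟩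
    · rintro _ ⟨u, hu, rfl⟩
      exact hU' u hu
    · rw [Submodule.finrank_map_subtype_eq]; exact hdim
  · rintro ⟨U, hUW, hU, hdim⟩
    refine ⟨U.comap W.subtype, ?_, ?_⟩
    · intro u hu
      exact hU _ hu
    · rw [(Submodule.comapSubtypeEquivOfLe hUW).finrank_eq]; exact hdim

theorem plusQ_qf_iff : PlusQ (qf Q hQ) ↔ IsPlusTypeOn Q ⊤ := by
  constructor
  · rintro ⟨U, hU, hdim⟩
    exact ⟨U, le_top, hU, by rw [finrank_top]; exact hdim⟩
  · rintro ⟨U, -, hU, hdim⟩
    exact ⟨U, hU, by rw [finrank_top] at hdim; exact hdim⟩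

theorem gram_qf_basisFun :
    gram (qf Q hQ) (Pi.basisFun F ι) = gramMatrix (QuadraticMap.polar Q) := by
  ext i j
  simp [gram, gramMatrix, Pi.basisFun_apply]

include hQ in
/-- **TC7, whole space.** For `q` odd and `|ι| = 2m`, a non-degenerate quadratic form on `F^ι` is
of plus type iff `(-1)^m` times the determinant of the Gram matrix of its polar form is a square. -/
theorem isPlusTypeOn_top_iff_disc [Fintype F] (hq : Odd (Fintype.card F)) {m : ℕ}
    (hcard : Fintype.card ι = 2 * m) :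
    IsPlusTypeOn Q ⊤ ↔ IsSquare ((-1) ^ m * (gramMatrix (QuadraticMap.polar Q)).det) := by
  rw [← plusQ_qf_iff Q hQ, plusQ_iff_isSquare (two_ne_zero_of_odd_card hq) (qf Q hQ) (ndQ_qf Q hQ)
    (m := m) (by rw [finrank_fintype_fun_eq_card, hcard]),
    isSquare_disc_iff (qf Q hQ) (Pi.basisFun F ι), gram_qf_basisFun]

include hQ in
/-- for `|ι| = 4m'` : plus type iff square discriminant -/
theorem isPlusTypeOn_top_iff_hasSquareDiscriminant [Fintype F] (hq : Odd (Fintype.card F)) {m : ℕ}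
    (hcard : Fintype.card ι = 4 * m) : IsPlusTypeOn Q ⊤ ↔ HasSquareDiscriminant Q := by
  rw [isPlusTypeOn_top_iff_disc Q hQ hq (m := 2 * m) (by omega), pow_mul]
  simp [HasSquareDiscriminant]

end Cfsg.Agent.Lib.Helper8.OETypeDisc
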