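import Cfsg.Agent.Lib.Helper8.OETypeDiscB

set_option autoImplicit false
set_option linter.unusedSectionVars false

namespace Cfsg.Agent.Lib.Helper8.OETypeDisc

open Module QuadraticMap Matrix

universe u v
variable {F : Type u} [Field F] {V : Type v} [AddCommGroup V] [Module F V]

theorem polar_sum_left (Q : QuadraticForm F V) {κ : Type*} (s : Finset κ) (c : κ → F) (b : κ → V)
    (y : V) : polar Q (∑ i ∈ s, c i • b i) y = ∑ i ∈ s, c i * polar Q (b i) y := by
  have h := map_sum ((polarBilin Q).flip y) (fun i => c i • b i) s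
  simp only [LinearMap.flip_apply, polarBilin_apply_apply, polar_smul_left, smul_eq_mul] at h
  exact h

theorem vecMul_gram (Q : QuadraticForm F V) {κ : Type*} [Fintype κ] (c : κ → F) (b : κ → V) :
    c ᵥ* gram Q b = fun j => polar Q (∑ i, c i • b i) (b j) := by
  ext j
  rw [polar_sum_left]
  simp [Matrix.vecMul, dotProduct]

theorem linearIndependent_of_det_gram_ne_zero (Q : QuadraticForm F V) {κ : Type*} [Fintype κ]
    [DecidableEq κ] (b : κ → V) (h : (gram Q b).det ≠ 0) : LinearIndependent F b := by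
  rw [Fintype.linearIndependent_iff]
  intro c hc
  have h1 : c ᵥ* gram Q b = 0 := by
    rw [vecMul_gram, hc]
    ext j
    simp
  have := Matrix.eq_zero_of_vecMul_eq_zero h h1
  intro i
  exact congrFun this i

theorem ndQ_of_det_gram_ne_zero (Q : QuadraticForm F V) {κ : Type*} [Fintype κ] [DecidableEq κ]
    (b : Basis κ F V) (h : (gram Q b).det ≠ 0) : NdQ Q := by
  intro x hx
  by_contra hall0
  have hall : ∀ y, polar Q x y = 0 := fun y => by
    by_contra h
    exact hall0 ⟨y, h⟩
  apply hx
  have h1 : (fun i => b.repr x i) ᵥ* gram Q b = 0 := by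
    rw [vecMul_gram, b.sum_repr]
    ext j
    exact hall _
  have h2 := Matrix.eq_zero_of_vecMul_eq_zero h h1
  rw [← b.sum_repr x]
  apply Finset.sum_eq_zero
  intro i _
  rw [show b.repr x i = 0 from congrFun h2 i, zero_smul]

theorem det_gram_ne_zero_of_ndQ (Q : QuadraticForm F V) {κ : Type*} [Fintype κ] [DecidableEq κ]
    (b : Basis κ F V) (hnd : NdQ Q) : (gram Q b).det ≠ 0 := by
  intro h0
  obtain ⟨c, hc0, hc⟩ := Matrix.exists_vecMul_eq_zero_iff.2 h0
  rw [vecMul_gram] at hc
  have hx : (∑ i, c i • b i) ≠ 0 := by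
    intro h
    apply hc0
    have := Fintype.linearIndependent_iff.1 b.linearIndependent c h
    ext i
    exact this i
  obtain ⟨y, hy⟩ := hnd _ hx
  apply hy
  rw [← b.sum_repr y]
  have : ∀ j, polar Q (∑ i, c i • b i) (b j) = 0 := fun j => congrFun hc j
  rw [polar_comm, polar_sum_left]
  apply Finset.sum_eq_zero
  intro j _
  rw [polar_comm, this j, mul_zero]

theorem disc_ne_zero_of_ndQ [FiniteDimensional F V] (Q : QuadraticForm F V) (hnd : NdQ Q) :
    disc Q ≠ 0 :=
  det_gram_ne_zero_of_ndQ Q _ hnd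

/-- Gram matrix of an orthogonal family of blocks is block diagonal. -/
theorem gram_blocks (Q : QuadraticForm F V) {κ o : Type*} [DecidableEq o] (b : o → κ → V)
    (horth : ∀ i j, i ≠ j → ∀ a a', polar Q (b i a) (b j a') = 0) :
    gram Q (fun p : κ × o => b p.2 p.1) = Matrix.blockDiagonal (fun i => gram Q (b i)) := by
  ext ⟨a, i⟩ ⟨a', j⟩
  rw [Matrix.blockDiagonal_apply]
  by_cases hij : i = j
  · subst hij; simp
  · simp [hij, horth i j hij]

theorem det_gram_blocks (Q : QuadraticForm F V) {κ o : Type*} [DecidableEq o] [Fintype o]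
    [DecidableEq κ] [Fintype κ] (b : o → κ → V)
    (horth : ∀ i j, i ≠ j → ∀ a a', polar Q (b i a) (b j a') = 0) :
    (gram Q (fun p : κ × o => b p.2 p.1)).det = ∏ i, (gram Q (b i)).det := by
  rw [gram_blocks Q b horth, Matrix.det_blockDiagonal]

end Cfsg.Agent.Lib.Helper8.OETypeDisc
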