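import Cfsg.Agent.Lib.Helper8.OETypeDiscC
import Cfsg.Agent.Lib.Helper8.OETypeDiscD

/-!
# Discriminant and type: subspaces, isometries and orthogonal decompositions (`q` odd)
-/

set_option autoImplicit false
set_option linter.unusedSectionVars false

namespace Cfsg.Agent.Lib.Helper8.OETypeDisc

open Module QuadraticMap Matrix Cfsg.Geo

variable {F : Type*} [Field F] {ι : Type} [Fintype ι] [DecidableEq ι]
variable (Q : (ι → F) → F) (hQ : IsNondegenerateQuadraticForm Q)

include hQ in
/-- **TC7, subspace version.** `b` is a family of `2k = dim W` vectors of `W` with non-zero Gram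
determinant (so a basis of `W`, and `W` is non-degenerate). -/
theorem isPlusTypeOn_iff_disc [Fintype F] (hq : Odd (Fintype.card F)) (W : Submodule F (ι → F))
    {κ : Type*} [Fintype κ] [DecidableEq κ] (b : κ → ι → F) (hbW : ∀ i, b i ∈ W)
    (hcard : Fintype.card κ = finrank F W)
    (hdet : (Matrix.of fun i j => QuadraticMap.polar Q (b i) (b j)).det ≠ 0) {k : ℕ}
    (hk : Fintype.card κ = 2 * k) :
    IsPlusTypeOn Q W ↔
      IsSquare ((-1) ^ k * (Matrix.of fun i j => QuadraticMap.polar Q (b i) (b j)).det) := by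
  let b' : κ → W := fun i => ⟨b i, hbW i⟩
  have hg : gram (resQ (qf Q hQ) W) b' = Matrix.of fun i j => QuadraticMap.polar Q (b i) (b j) := by
    rw [gram_resQ]; rfl
  rw [← hg] at hdet ⊢
  have li := linearIndependent_of_det_gram_ne_zero _ b' hdet
  have hsp : ⊤ ≤ Submodule.span F (Set.range b') :=
    (li.span_eq_top_of_card_eq_finrank' hcard).ge
  let B : Basis κ F W := Basis.mk li hsp
  have hB : ⇑B = b' := Basis.coe_mk li hsp
  rw [← hB] at hdet ⊢
  rw [← plusQ_resQ_iff Q hQ W, plusQ_iff_isSquare (two_ne_zero_of_odd_card hq) _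
    (ndQ_of_det_gram_ne_zero _ B hdet) (m := k) (by omega), isSquare_disc_iff _ B]

/-- isometric subspaces have the same discriminant up to squares -/
theorem disc_resQ_of_isometric (W W' : Submodule F (ι → F)) (h : AreIsometricFor Q W W') :
    ∃ s : F, s ≠ 0 ∧ disc (resQ (qf Q hQ) W') = s ^ 2 * disc (resQ (qf Q hQ) W) := by
  classical
  obtain ⟨e, he⟩ := h
  obtain ⟨s, hs, h1⟩ := det_gram_eq_disc (resQ (qf Q hQ) W') ((Module.finBasis F W).map e)
  refine ⟨s⁻¹, inv_ne_zero hs, ?_⟩
  have h2 : gram (resQ (qf Q hQ) W') ((Module.finBasis F W).map e)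
      = gram (resQ (qf Q hQ) W) (Module.finBasis F W) := by
    ext i j
    simp only [gram_apply, polar_resQ, Basis.map_apply, qf_coe]
    unfold QuadraticMap.polar
    rw [← Submodule.coe_add, ← map_add, he, he, he, Submodule.coe_add]
  rw [h2] at h1
  rw [eq_comm, inv_pow, inv_mul_eq_iff_eq_mul₀ (pow_ne_zero 2 hs)]
  exact h1

include hQ in
/-- **Orthogonal decompositions.** The type of the whole space from the discriminants of the
members of a non-degenerate orthogonal decomposition. -/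
theorem isPlusTypeOn_top_iff_of_nondegenerateMDecomposition [Fintype F]
    (hq : Odd (Fintype.card F)) {t k : ℕ} (D : Fin t → Submodule F (ι → F))
    (hD : IsNondegenerateMDecomposition (QuadraticMap.polar Q) k D) {m : ℕ}
    (hcard : Fintype.card ι = 2 * m) :
    IsPlusTypeOn Q ⊤ ↔ IsSquare ((-1) ^ m * ∏ i, disc (resQ (qf Q hQ) (D i))) := by
  classical
  let b : ∀ i, Basis (Fin k) F (D i) := fun i =>
    Module.finBasisOfFinrankEq F (D i) (hD.decomp.finrank_eq i)
  let c : Fin k × Fin t → ι → F := fun p => (b p.2 p.1 : ι → F)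
  have hgi : ∀ i, gram (qf Q hQ) (fun a => (b i a : ι → F)) = gram (resQ (qf Q hQ) (D i)) (b i) :=
    fun i => (gram_resQ (qf Q hQ) (D i) (b i)).symm
  have hne : ∀ i, (gram (resQ (qf Q hQ) (D i)) (b i)).det ≠ 0 := fun i =>
    det_gram_ne_zero_of_ndQ _ (b i) (ndQ_resQ_of_nondegenerateOn Q hQ (D i) (hD.nondegenerate i))
  have hdet : (gram (qf Q hQ) c).det = ∏ i, (gram (resQ (qf Q hQ) (D i)) (b i)).det := by
    rw [det_gram_blocks (qf Q hQ) (fun i a => (b i a : ι → F))]
    · exact Finset.prod_congr rfl fun i _ => by rw [hgi i]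
    · intro i j hij a a'
      exact hD.orthogonal i j hij _ (Submodule.coe_mem _) _ (Submodule.coe_mem _)
  have hdet0 : (gram (qf Q hQ) c).det ≠ 0 := by
    rw [hdet]; exact Finset.prod_ne_zero_iff.2 fun i _ => hne i
  have li := linearIndependent_of_det_gram_ne_zero _ c hdet0
  have hspan : ⊤ ≤ Submodule.span F (Set.range c) := by
    rw [← hD.decomp.iSup_eq_top]
    apply iSup_le
    intro i x hx
    have h1 : (⟨x, hx⟩ : D i) ∈ Submodule.span F (Set.range (b i)) := by
      rw [(b i).span_eq]; trivial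
    have h2 : x ∈ (Submodule.span F (Set.range (b i))).map (D i).subtype := ⟨⟨x, hx⟩, h1, rfl⟩
    rw [Submodule.map_span, ← Set.range_comp] at h2
    refine Submodule.span_mono ?_ h2
    rintro _ ⟨a, rfl⟩
    exact ⟨(a, i), rfl⟩
  let B : Basis (Fin k × Fin t) F (ι → F) := Basis.mk li hspan
  have hB : ⇑B = c := Basis.coe_mk li hspan
  -- squares
  have hsq : ∀ i, ∃ s : F, s ≠ 0 ∧
      (gram (resQ (qf Q hQ) (D i)) (b i)).det = s ^ 2 * disc (resQ (qf Q hQ) (D i)) :=
    fun i => det_gram_eq_disc _ (b i)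
  choose s hs0 hs using hsq
  rw [← plusQ_qf_iff Q hQ, plusQ_iff_isSquare (two_ne_zero_of_odd_card hq) (qf Q hQ) (ndQ_qf Q hQ)
    (m := m) (by rw [finrank_fintype_fun_eq_card, hcard]), isSquare_disc_iff (qf Q hQ) B, hB, hdet]
  have : (-1 : F) ^ m * ∏ i, (gram (resQ (qf Q hQ) (D i)) (b i)).det
      = (∏ i, s i) ^ 2 * ((-1) ^ m * ∏ i, disc (resQ (qf Q hQ) (D i))) := by
    rw [Finset.prod_congr rfl fun i _ => hs i, Finset.prod_mul_distrib, Finset.prod_pow]
    ring
  rw [this, isSquare_mul_sq_iff (Finset.prod_ne_zero_iff.2 fun i _ => hs0 i)]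

include hQ in
/-- members of a non-degenerate decomposition have non-zero discriminant -/
theorem disc_resQ_ne_zero (W : Submodule F (ι → F))
    (hW : IsNondegenerateOn (QuadraticMap.polar Q) W) : disc (resQ (qf Q hQ) W) ≠ 0 :=
  disc_ne_zero_of_ndQ _ (ndQ_resQ_of_nondegenerateOn Q hQ W hW)

include hQ in
/-- **Isometric decompositions.** With `d` the discriminant of the first member. -/
theorem isPlusTypeOn_top_iff_of_orthogonalMDecomposition [Fintype F]
    (hq : Odd (Fintype.card F)) {t k : ℕ} (D : Fin t → Submodule F (ι → F))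
    (hD : IsOrthogonalMDecomposition Q k D) {m : ℕ} (hcard : Fintype.card ι = 2 * m) :
    IsPlusTypeOn Q ⊤ ↔
      IsSquare ((-1) ^ m * disc (resQ (qf Q hQ) (D ⟨0, by have := hD.decomp.decomp.two_le; omega⟩)) ^ t) := by
  rw [isPlusTypeOn_top_iff_of_nondegenerateMDecomposition Q hQ hq D hD.decomp hcard]
  have hsq : ∀ i, ∃ s : F, s ≠ 0 ∧ disc (resQ (qf Q hQ) (D i))
      = s ^ 2 * disc (resQ (qf Q hQ) (D ⟨0, by have := hD.decomp.decomp.two_le; omega⟩)) :=
    fun i => disc_resQ_of_isometric Q hQ _ _ (hD.isometric _ i)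
  choose s hs0 hs using hsq
  have : (-1 : F) ^ m * ∏ i, disc (resQ (qf Q hQ) (D i))
      = (∏ i, s i) ^ 2 * ((-1) ^ m *
        disc (resQ (qf Q hQ) (D ⟨0, by have := hD.decomp.decomp.two_le; omega⟩)) ^ t) := by
    rw [Finset.prod_congr rfl fun i _ => hs i, Finset.prod_mul_distrib, Finset.prod_pow,
      Finset.prod_const, Finset.card_univ, Fintype.card_fin]
    ring
  rw [this, isSquare_mul_sq_iff (Finset.prod_ne_zero_iff.2 fun i _ => hs0 i)]

include hQ in
/-- **Isometric decompositions into an even number of members**: plus type iff `(-1)^m` is a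
square (`2m = |ι|`). In particular `O_1 wr S_10` and `O_5 wr S_2` live in `Ω_10^+` iff
`q ≡ 1 mod 4` and in `Ω_10^-` iff `q ≡ 3 mod 4`. -/
theorem isPlusTypeOn_top_iff_of_orthogonalMDecomposition_even [Fintype F]
    (hq : Odd (Fintype.card F)) {t k : ℕ} (D : Fin t → Submodule F (ι → F))
    (hD : IsOrthogonalMDecomposition Q k D) (ht : Even t) {m : ℕ}
    (hcard : Fintype.card ι = 2 * m) : IsPlusTypeOn Q ⊤ ↔ IsSquare ((-1 : F) ^ m) := by
  rw [isPlusTypeOn_top_iff_of_orthogonalMDecomposition Q hQ hq D hD hcard]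
  obtain ⟨r, rfl⟩ := ht
  have hne := disc_resQ_ne_zero Q hQ _ (hD.decomp.nondegenerate ⟨0, by have := hD.decomp.decomp.two_le; omega⟩)
  rw [show ∀ x : F, (-1 : F) ^ m * x ^ (r + r) = (x ^ r) ^ 2 * (-1) ^ m by intro x; ring,
    isSquare_mul_sq_iff (pow_ne_zero r hne)]

theorem isSquare_neg_one_pow_iff [Fintype F] (hq : Odd (Fintype.card F)) {m : ℕ} (hm : Odd m) :
    IsSquare ((-1 : F) ^ m) ↔ Fintype.card F % 4 = 1 := by
  rw [hm.neg_one_pow, FiniteField.isSquare_neg_one_iff]
  rw [Nat.odd_iff] at hq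
  omega

include hQ in
/-- `2m = |ι|`, `m` odd, an isometric decomposition into an even number of members: plus type iff
`q ≡ 1 mod 4` (so minus type iff `q ≡ 3 mod 4`). -/
theorem isPlusTypeOn_top_iff_mod_four [Fintype F]
    (hq : Odd (Fintype.card F)) {t k : ℕ} (D : Fin t → Submodule F (ι → F))
    (hD : IsOrthogonalMDecomposition Q k D) (ht : Even t) {m : ℕ}
    (hcard : Fintype.card ι = 2 * m) (hm : Odd m) :
    IsPlusTypeOn Q ⊤ ↔ Fintype.card F % 4 = 1 := by
  rw [isPlusTypeOn_top_iff_of_orthogonalMDecomposition_even Q hQ hq D hD ht hcard,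
    isSquare_neg_one_pow_iff hq hm]

include hQ in
/-- `2m = |ι|`, `m` even, an isometric decomposition into an even number of members: plus type. -/
theorem isPlusTypeOn_top_of_orthogonalMDecomposition_even_even [Fintype F]
    (hq : Odd (Fintype.card F)) {t k : ℕ} (D : Fin t → Submodule F (ι → F))
    (hD : IsOrthogonalMDecomposition Q k D) (ht : Even t) {m : ℕ}
    (hcard : Fintype.card ι = 2 * m) (hm : Even m) : IsPlusTypeOn Q ⊤ := by
  rw [isPlusTypeOn_top_iff_of_orthogonalMDecomposition_even Q hQ hq D hD ht hcard, hm.neg_one_pow]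
  exact IsSquare.one

end Cfsg.Agent.Lib.Helper8.OETypeDisc
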