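import Cfsg.Agent.Lib.Helper8.OETypeDisc
import Cfsg.Agent.Lib.Helper26.OETypeTC9
import Cfsg.Agent.Lib.Helper12.OECorE

set_option autoImplicit false

namespace Cfsg.Agent.Lib.Helper8.OETypeHalves

open Matrix Cfsg Cfsg.Geo QuadraticMap Module Cfsg.Agent.Lib.Helper8.OETypeDisc

variable {F : Type*} [Field F] [Fintype F] {ι : Type} [Fintype ι] [DecidableEq ι] {Q : (ι → F) → F}

/-- the shape of TC9 (`notes/OETypeSkel_helper7.lean.txt`) -/
def TC9Shape (Q : (ι → F) → F) : Prop :=
  ∀ (W W' : Submodule F (ι → F))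
    (_hW : IsNondegenerateOn (polar Q) W) (_hW' : IsNondegenerateOn (polar Q) W') (d : ℕ)
    (b : Basis (Fin d) F W) (b' : Basis (Fin d) F W')
    (_hsq : IsSquare ((Matrix.of fun i j => polar Q (b i : ι → F) (b j : ι → F)).det *
      (Matrix.of fun i j => polar Q (b' i : ι → F) (b' j : ι → F)).det)), AreIsometricFor Q W W'

omit [Fintype F] [DecidableEq ι] in
theorem card_eq_of_decomposition {t k : ℕ} (D : Fin t → Submodule F (ι → F))
    (hD : IsMDecomposition k D) : Fintype.card ι = k * t := by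
  classical
  have hint : DirectSum.IsInternal D :=
    DirectSum.isInternal_submodule_of_iSupIndep_of_iSup_eq_top hD.indep hD.iSup_eq_top
  let v : ∀ i : Fin t, Basis (Fin k) F (D i) := fun i => finBasisOfFinrankEq F (D i) (hD.finrank_eq i)
  have h1 := Module.finrank_eq_card_basis (hint.collectedBasis v)
  rw [Module.finrank_fintype_fun_eq_card, Fintype.card_sigma, Finset.sum_const, Finset.card_univ,
    Fintype.card_fin, Fintype.card_fin, smul_eq_mul] at h1
  rw [h1]
  ring

omit [Fintype ι] [DecidableEq ι] in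
/-- in a finite field with `q ≡ 3 mod 4`, `-x` is a square iff `x` is not (`x ≠ 0`) -/
theorem isSquare_neg_iff_of_three {x : F} (hx : x ≠ 0) (hq : Fintype.card F % 4 = 3) :
    IsSquare (-x) ↔ ¬ IsSquare x := by
  classical
  have hF : ringChar F ≠ 2 := by
    intro h
    have := FiniteField.even_card_of_char_two h
    omega
  have hm1 : ¬ IsSquare (-1 : F) := by
    rw [FiniteField.isSquare_neg_one_iff]; omega
  have h1 : quadraticChar F (-1) = -1 := quadraticChar_neg_one_iff_not_isSquare.2 hm1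
  have h2 : quadraticChar F (-x) = - quadraticChar F x := by
    rw [show -x = (-1) * x by ring, map_mul, h1]; ring
  rw [← quadraticChar_one_iff_isSquare (neg_ne_zero.2 hx), h2,
    ← quadraticChar_neg_one_iff_not_isSquare (F := F) (a := x)]
  constructor
  · intro h; linarith
  · intro h; rw [h]; ring

omit [Fintype ι] [DecidableEq ι] in
/-- in a finite field with `q ≡ 1 mod 4`, `-x` is a square iff `x` is -/
theorem isSquare_neg_iff_of_one {x : F} (hq : Fintype.card F % 4 = 1) :
    IsSquare (-x) ↔ IsSquare x := by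
  have hm1 : IsSquare (-1 : F) := by
    rw [FiniteField.isSquare_neg_one_iff]; omega
  obtain ⟨i, hi⟩ := hm1
  have hi0 : i ≠ 0 := by
    rintro rfl
    simp at hi
  rw [show -x = i ^ 2 * x by rw [pow_two, ← hi]; ring, isSquare_mul_sq_iff hi0]

/-- **TC9'** modulo TC9. -/
theorem isPlusTypeOn_top_iff_of_halves_of (hTC9 : TC9Shape Q) (hQ : IsNondegenerateQuadraticForm Q)
    (hq : Odd (Fintype.card F)) {k : ℕ} (hk : Odd k)
    (D : Fin 2 → Submodule F (ι → F)) (hD : IsNondegenerateMDecomposition (polar Q) k D) :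
    IsPlusTypeOn Q ⊤ ↔ (AreIsometricFor Q (D 0) (D 1) ↔ Fintype.card F % 4 = 1) := by
  classical
  have hcard : Fintype.card ι = 2 * k := by
    rw [card_eq_of_decomposition D hD.decomp]; ring
  rw [isPlusTypeOn_top_iff_of_nondegenerateMDecomposition Q hQ hq D hD hcard, Fin.prod_univ_two,
    hk.neg_one_pow, neg_one_mul]
  set d0 := disc (resQ (qf Q hQ) (D 0)) with hd0
  set d1 := disc (resQ (qf Q hQ) (D 1)) with hd1
  have hd0ne : d0 ≠ 0 := disc_resQ_ne_zero Q hQ _ (hD.nondegenerate 0)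
  have hd1ne : d1 ≠ 0 := disc_resQ_ne_zero Q hQ _ (hD.nondegenerate 1)
  have hiso : AreIsometricFor Q (D 0) (D 1) ↔ IsSquare (d0 * d1) := by
    constructor
    · intro h
      obtain ⟨s, hs, h1⟩ := disc_resQ_of_isometric Q hQ _ _ h
      exact ⟨s * d0, by rw [hd1, h1]; ring⟩
    · intro h
      let b : Basis (Fin k) F (D 0) := finBasisOfFinrankEq F (D 0) (hD.decomp.finrank_eq 0)
      let b' : Basis (Fin k) F (D 1) := finBasisOfFinrankEq F (D 1) (hD.decomp.finrank_eq 1)
      obtain ⟨s, hs, h1⟩ := det_gram_eq_disc (resQ (qf Q hQ) (D 0)) b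
      obtain ⟨s', hs', h1'⟩ := det_gram_eq_disc (resQ (qf Q hQ) (D 1)) b'
      refine hTC9 (D 0) (D 1) (hD.nondegenerate 0) (hD.nondegenerate 1) k b b' ?_
      have e1 : (Matrix.of fun i j => polar Q (b i : ι → F) (b j : ι → F))
          = gram (resQ (qf Q hQ) (D 0)) b := by rw [gram_resQ]; rfl
      have e2 : (Matrix.of fun i j => polar Q (b' i : ι → F) (b' j : ι → F))
          = gram (resQ (qf Q hQ) (D 1)) b' := by rw [gram_resQ]; rfl
      rw [e1, e2, h1, h1', show s ^ 2 * d0 * (s' ^ 2 * d1) = (s * s') ^ 2 * (d0 * d1) by ring,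
        isSquare_mul_sq_iff (mul_ne_zero hs hs')]
      exact h
  rw [hiso]
  have hmod : Fintype.card F % 4 = 1 ∨ Fintype.card F % 4 = 3 := by
    rw [Nat.odd_iff] at hq; omega
  rcases hmod with h1 | h3
  · rw [isSquare_neg_iff_of_one h1]
    simp [h1]
  · rw [isSquare_neg_iff_of_three (mul_ne_zero hd0ne hd1ne) h3]
    simp [h3]

/-- **TC9'** (exact skeleton shape of `notes/OETypeSkel_helper7.lean.txt`): two orthogonal
complementary non-degenerate halves of odd dimension `k`, `q` odd: isometric ⇒ (plus ↔ `q ≡ 1 mod 4`);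
non-isometric ⇒ (plus ↔ `q ≡ 3 mod 4`). -/
theorem isPlusTypeOn_top_iff_of_halves (hQ : IsNondegenerateQuadraticForm Q)
    (hq : Odd (Fintype.card F)) {k : ℕ} (hk : Odd k)
    (D : Fin 2 → Submodule F (ι → F)) (hD : IsNondegenerateMDecomposition (polar Q) k D) :
    IsPlusTypeOn Q ⊤ ↔ (AreIsometricFor Q (D 0) (D 1) ↔ Fintype.card F % 4 = 1) :=
  isPlusTypeOn_top_iff_of_halves_of
    (fun W W' hW hW' d b b' hsq =>
      Cfsg.Agent.Lib.Helper26.OETypeTC9.areIsometricFor_of_disc hQ hq W W' hW hW' d b b' hsq)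
    hQ hq hk D hD

/-- **OEPlus T3** (exact shape of `notes/OEPlusSkel_helper13.lean.txt`): two orthogonal
non-degenerate 5-spaces in a plus-type 10-space are isometric iff `q ≡ 1 mod 4`. -/
theorem halves_five {n : ℕ} {Q : (Fin n → F) → F} (hQ : IsNondegenerateQuadraticForm Q) (hn : n = 10)
    (hplus : IsPlusTypeOn Q ⊤)
    (D : Fin 2 → Submodule F (Fin n → F))
    (hD : IsNondegenerateMDecomposition (QuadraticMap.polar Q) 5 D) :
    (Fintype.card F % 4 = 1 ∧ AreIsometricFor Q (D 0) (D 1)) ∨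
      (Fintype.card F % 4 = 3 ∧ ¬ AreIsometricFor Q (D 0) (D 1)) := by
  have hq : Odd (Fintype.card F) :=
    Cfsg.Agent.Lib.Helper12.OECorE.odd_card_of_odd_finrank hQ (D 0) (hD.nondegenerate 0)
      (by rw [hD.decomp.finrank_eq 0]; decide)
  have h := (isPlusTypeOn_top_iff_of_halves hQ hq (k := 5) (by decide) D hD).1 hplus
  have hmod : Fintype.card F % 4 = 1 ∨ Fintype.card F % 4 = 3 := by
    rw [Nat.odd_iff] at hq; omega
  rcases hmod with h1 | h3
  · exact Or.inl ⟨h1, h.2 h1⟩
  · refine Or.inr ⟨h3, fun hiso => ?_⟩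
    have := h.1 hiso
    omega

end Cfsg.Agent.Lib.Helper8.OETypeHalves
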