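import Cfsg.Agent.Lib.Helper8.OETypeHalves

/-!
# The two 5-dimensional halves of a MINUS 10-space, and lines in a 10-space (S5850)
-/

set_option autoImplicit false

namespace Cfsg.Agent.Lib.Helper8.OETypeHalves

open Matrix Cfsg Cfsg.Geo QuadraticMap Module Cfsg.Agent.Lib.Helper8.OETypeDisc

variable {F : Type*} [Field F] [Fintype F]

/-- two orthogonal non-degenerate 5-spaces in a MINUS-type 10-space are isometric iff `q ≡ 3 mod 4` -/
theorem halves_five_minus {n : ℕ} {Q : (Fin n → F) → F} (hQ : IsNondegenerateQuadraticForm Q)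
    (hminus : ¬ IsPlusTypeOn Q ⊤)
    (D : Fin 2 → Submodule F (Fin n → F))
    (hD : IsNondegenerateMDecomposition (QuadraticMap.polar Q) 5 D) :
    (Fintype.card F % 4 = 3 ∧ AreIsometricFor Q (D 0) (D 1)) ∨
      (Fintype.card F % 4 = 1 ∧ ¬ AreIsometricFor Q (D 0) (D 1)) := by
  have hq : Odd (Fintype.card F) :=
    Cfsg.Agent.Lib.Helper12.OECorE.odd_card_of_odd_finrank hQ (D 0) (hD.nondegenerate 0)
      (by rw [hD.decomp.finrank_eq 0]; decide)
  have h := (isPlusTypeOn_top_iff_of_halves hQ hq (k := 5) (by decide) D hD).not.1 hminus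
  have hmod : Fintype.card F % 4 = 1 ∨ Fintype.card F % 4 = 3 := by
    rw [Nat.odd_iff] at hq; omega
  rcases hmod with h1 | h3
  · refine Or.inr ⟨h1, fun hiso => h ⟨fun _ => h1, fun _ => hiso⟩⟩
  · refine Or.inl ⟨h3, ?_⟩
    by_contra hiso
    exact h ⟨fun h' => absurd h' hiso, fun h' => by omega⟩

/-- 10 pairwise orthogonal isometric non-degenerate lines in a MINUS-type 10-space: `q ≡ 3 mod 4`
(the minus twin of OEPlus T5 `lines_mod_four`) -/
theorem lines_mod_four_minus {n : ℕ} {Q : (Fin n → F) → F} (hQ : IsNondegenerateQuadraticForm Q)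
    (hn : n = 10) (hminus : ¬ IsPlusTypeOn Q ⊤)
    (D : Fin 10 → Submodule F (Fin n → F)) (hD : IsOrthogonalMDecomposition Q 1 D) :
    Fintype.card F % 4 = 3 := by
  have hq : Odd (Fintype.card F) :=
    Cfsg.Agent.Lib.Helper12.OECorE.odd_card_of_odd_finrank hQ (D 0) (hD.decomp.nondegenerate 0)
      (by rw [hD.decomp.decomp.finrank_eq 0]; decide)
  have h := (isPlusTypeOn_top_iff_mod_four Q hQ hq D hD (by decide) (m := 5)
    (by rw [Fintype.card_fin, hn]) (by decide)).not.1 hminus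
  rw [Nat.odd_iff] at hq
  omega

end Cfsg.Agent.Lib.Helper8.OETypeHalves
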