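import Mathlib
import Cfsg.Agent.Lib.Helper28.OTDefs

/-!
# OT QP-B (helper8): an involution of the group generated by two quadratic unipotent elements

`n * n = 0 = n' * n'`, `D = ⟨1 + n, 1 + n'⟩`, `τ = n n' + n' n` (central in `F⟨n, n'⟩`).  Every element of `D` is
`α + β n + γ n' + δ n n'` with `α β γ δ` in the centre of `F⟨n,n'⟩` and `α (α + δ τ) - β γ τ = 1` (`QF`);  Cayley-Hamilton
`g (T - g) = 1`, `T = 2 α + δ τ`; hence an involution `z` of `D` has `2 z = T` central (`closure_QF`).  Then the `(-1)`-eigenspace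
`V₋ = (V₋ ∩ range n) ⊕ (V₋ ∩ range n')` with both summands of the same dimension (`eig_struct`).
Final statement `qp_central` = exact shape of helper28's `notes/S5681Skel_helper28.lean.txt` PART 0 (QP-B).
-/

set_option autoImplicit false

namespace Cfsg.Agent.Lib.Helper8.OTQPB

open Matrix Module
open Cfsg.Agent.Lib.Helper28.OT

section abstract

variable {R A : Type*} [CommRing R] [Ring A] [Algebra R A]

/-- the "quaternion" normal form with norm one -/
def QF (n n' : A) (t : R) (g : A) : Prop :=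
  ∃ α β γ δ : R, g = α • (1 : A) + β • n + γ • n' + δ • (n * n') ∧ α * (α + δ * t) - β * γ * t = 1

variable {n n' : A} {t : R}

theorem QF_one : QF n n' t (1 : A) := by
  refine ⟨1, 0, 0, 0, ?_, ?_⟩
  · simp
  · ring

theorem nn'n (hn : n * n = 0) (hτ : n * n' + n' * n = t • (1 : A)) : n * n' * n = t • n := by
  have h1 : n' * n = t • (1 : A) - n * n' := by rw [← hτ]; abel
  rw [mul_assoc, h1, mul_sub, mul_smul_comm, mul_one, ← mul_assoc, hn, zero_mul, sub_zero]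

theorem QF_mul_n (hn : n * n = 0) (hτ : n * n' + n' * n = t • (1 : A)) (ε : R) {g : A}
    (hg : QF n n' t g) : QF n n' t (g * (1 + ε • n)) := by
  obtain ⟨α, β, γ, δ, rfl, hN⟩ := hg
  have h1 : n' * n = t • (1 : A) - n * n' := by rw [← hτ]; abel
  have h2 : n * n' * n = t • n := nn'n hn hτ
  refine ⟨α + ε * γ * t, β + ε * (α + δ * t), γ, δ - ε * γ, ?_, ?_⟩
  · simp only [mul_add, add_mul, mul_one, smul_mul_assoc, mul_smul_comm, one_mul, hn, h1, h2, smul_zero,
      smul_sub, smul_smul, add_smul, sub_smul]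
    module
  · linear_combination hN

theorem QF_mul_n' (hn' : n' * n' = 0) (ε : R) {g : A}
    (hg : QF n n' t g) : QF n n' t (g * (1 + ε • n')) := by
  obtain ⟨α, β, γ, δ, rfl, hN⟩ := hg
  have h3 : n * n' * n' = 0 := by rw [mul_assoc, hn', mul_zero]
  refine ⟨α, β, γ + ε * α, δ + ε * β, ?_, ?_⟩
  · simp only [mul_add, add_mul, mul_one, smul_mul_assoc, mul_smul_comm, one_mul, hn', h3, smul_zero,
      add_smul]
    module
  · linear_combination hN

/-- Cayley-Hamilton -/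
theorem QF_CH (hn : n * n = 0) (hn' : n' * n' = 0) (hτ : n * n' + n' * n = t • (1 : A)) {g : A}
    (hg : QF n n' t g) : ∃ T : R, g * (T • (1 : A) - g) = 1 := by
  obtain ⟨α, β, γ, δ, rfl, hN⟩ := hg
  have h1 : n' * n = t • (1 : A) - n * n' := by rw [← hτ]; abel
  have h2 : n * n' * n = t • n := nn'n hn hτ
  have h3 : n * n' * n' = 0 := by rw [mul_assoc, hn', mul_zero]
  have h4 : n * (n * n') = 0 := by rw [← mul_assoc, hn, zero_mul]
  have h5 : n' * (n * n') = t • n' := by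
    rw [← mul_assoc, h1, sub_mul, smul_mul_assoc, one_mul, h3, sub_zero]
  have h6 : n * n' * (n * n') = t • (n * n') := by
    rw [← mul_assoc, h2, smul_mul_assoc]
  refine ⟨2 * α + δ * t, ?_⟩
  have key : (α • (1 : A) + β • n + γ • n' + δ • (n * n')) *
      ((2 * α + δ * t) • (1 : A) - (α • (1 : A) + β • n + γ • n' + δ • (n * n'))) =
      (α * (α + δ * t) - β * γ * t) • (1 : A) := by
    simp only [mul_add, add_mul, mul_sub, mul_one, smul_mul_assoc, mul_smul_comm, one_mul, hn, hn', h1, h2, h3,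
      h4, h5, h6, smul_zero, smul_sub, smul_smul, add_smul, sub_smul]
    module
  rw [key, hN, one_smul]

/-- an involution in normal form is a scalar -/
theorem QF_invol (hn : n * n = 0) (hn' : n' * n' = 0) (hτ : n * n' + n' * n = t • (1 : A)) {z : A}
    (hz : QF n n' t z) (hzz : z * z = 1) : ∃ T : R, (2 : A) * z = T • (1 : A) := by
  obtain ⟨T, hT⟩ := QF_CH hn hn' hτ hz
  refine ⟨T, ?_⟩
  rw [mul_sub, hzz, mul_smul_comm, mul_one] at hT
  -- T • z = 2
  have h1 : T • z = 2 := by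
    have : T • z = 1 + 1 := sub_eq_iff_eq_add.mp hT
    rw [this]; norm_num
  have h2 : z * (T • z) = z * 2 := by rw [h1]
  rw [mul_smul_comm, hzz] at h2
  rw [h2]
  exact (Commute.ofNat_left 2 z).eq
end abstract

section concrete

variable {F : Type*} [Field F] {ι : Type*} [Fintype ι] [DecidableEq ι]

/-- the algebra generated by `n, n'` -/
abbrev Bn (n n' : Matrix ι ι F) : Subalgebra F (Matrix ι ι F) := Algebra.adjoin F {n, n'}

theorem comm_of_mem_Bn {n n' c : Matrix ι ι F} (hcn : c * n = n * c) (hcn' : c * n' = n' * c)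
    {x : Matrix ι ι F} (hx : x ∈ Bn n n') : c * x = x * c := by
  have h1 : c ∈ Subalgebra.centralizer F ({n, n'} : Set (Matrix ι ι F)) := by
    rw [Subalgebra.mem_centralizer_iff]
    rintro g (rfl | rfl)
    · exact hcn.symm
    · exact hcn'.symm
  have h2 := Algebra.adjoin_le_centralizer_centralizer F ({n, n'} : Set (Matrix ι ι F)) hx
  rw [Subalgebra.mem_centralizer_iff] at h2
  exact h2 c h1

theorem tau_comm_n {n n' : Matrix ι ι F} (hn : n * n = 0) :
    (n * n' + n' * n) * n = n * (n * n' + n' * n) := by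
  rw [add_mul, mul_add, mul_assoc n' n n, hn, mul_zero, add_zero, ← mul_assoc n n n', hn, zero_mul, zero_add,
    mul_assoc]

theorem tau_comm_n' {n n' : Matrix ι ι F} (hn' : n' * n' = 0) :
    (n * n' + n' * n) * n' = n' * (n * n' + n' * n) := by
  rw [add_mul, mul_add, mul_assoc n n' n', hn', mul_zero, zero_add, ← mul_assoc n' n' n, hn', zero_mul, add_zero,
    mul_assoc]

/-- elements of the closure are in normal form over the centre of `Bn` -/
theorem closure_QF (n n' : Matrix ι ι F) (hn : n * n = 0) (hn' : n' * n' = 0) (y y' : GL ι F)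
    (hy : (y : Matrix ι ι F) = 1 + n) (hy' : (y' : Matrix ι ι F) = 1 + n')
    (z : GL ι F) (hz : z ∈ Subgroup.closure ({y, y'} : Set (GL ι F))) (hzz : z * z = 1) :
    ∃ T : Matrix ι ι F, T * n = n * T ∧ T * n' = n' * T ∧ (2 : Matrix ι ι F) * (z : Matrix ι ι F) = T := by
  classical
  set B := Bn n n' with hB
  have hnB : n ∈ B := Algebra.subset_adjoin (by simp)
  have hn'B : n' ∈ B := Algebra.subset_adjoin (by simp)
  set nB : B := ⟨n, hnB⟩ with hnBdef
  set nB' : B := ⟨n', hn'B⟩ with hnB'def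
  have hτc : nB * nB' + nB' * nB ∈ Subring.center B := by
    rw [Subring.mem_center_iff]
    rintro ⟨x, hx⟩
    apply Subtype.ext
    show x * (n * n' + n' * n) = (n * n' + n' * n) * x
    exact (comm_of_mem_Bn (tau_comm_n hn) (tau_comm_n' hn') hx).symm
  set t : Subring.center B := ⟨nB * nB' + nB' * nB, hτc⟩ with ht
  have hτ : nB * nB' + nB' * nB = t • (1 : B) := by
    rw [Algebra.smul_def, mul_one]
    rfl
  have hnn : nB * nB = 0 := Subtype.ext hn
  have hnn' : nB' * nB' = 0 := Subtype.ext hn'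
  have hyinv : ((y⁻¹ : GL ι F) : Matrix ι ι F) = 1 - n := by
    have h1 : (y : Matrix ι ι F) * ((y⁻¹ : GL ι F) : Matrix ι ι F) = 1 := by
      rw [← Units.val_mul, mul_inv_cancel, Units.val_one]
    have h2 : (1 - n) * (y : Matrix ι ι F) = 1 := by
      rw [hy, sub_mul, mul_add, mul_add, hn]; simp
    calc ((y⁻¹ : GL ι F) : Matrix ι ι F) = ((1 - n) * (y : Matrix ι ι F)) * ((y⁻¹ : GL ι F) : Matrix ι ι F) := by
          rw [h2, one_mul]
      _ = 1 - n := by rw [mul_assoc, h1, mul_one]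
  have hy'inv : ((y'⁻¹ : GL ι F) : Matrix ι ι F) = 1 - n' := by
    have h1 : (y' : Matrix ι ι F) * ((y'⁻¹ : GL ι F) : Matrix ι ι F) = 1 := by
      rw [← Units.val_mul, mul_inv_cancel, Units.val_one]
    have h2 : (1 - n') * (y' : Matrix ι ι F) = 1 := by
      rw [hy', sub_mul, mul_add, mul_add, hn']; simp
    calc ((y'⁻¹ : GL ι F) : Matrix ι ι F) = ((1 - n') * (y' : Matrix ι ι F)) * ((y'⁻¹ : GL ι F) : Matrix ι ι F) := by
          rw [h2, one_mul]
      _ = 1 - n' := by rw [mul_assoc, h1, mul_one]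
  have key : ∀ g ∈ Subgroup.closure ({y, y'} : Set (GL ι F)),
      ∃ gB : B, (gB : Matrix ι ι F) = (g : Matrix ι ι F) ∧ QF nB nB' t gB := by
    intro g hg
    induction hg using Subgroup.closure_induction_right with
    | one => exact ⟨1, rfl, QF_one⟩
    | mul_right x hx w hw ih =>
      obtain ⟨gB, hgB, hQ⟩ := ih
      rcases hw with rfl | rfl
      · refine ⟨gB * (1 + (1 : Subring.center B) • nB), ?_, QF_mul_n hnn hτ 1 hQ⟩
        rw [one_smul, Units.val_mul, hy, ← hgB]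
        rfl
      · refine ⟨gB * (1 + (1 : Subring.center B) • nB'), ?_, QF_mul_n' hnn' 1 hQ⟩
        rw [one_smul, Units.val_mul, hy', ← hgB]
        rfl
    | mul_inv_cancel x hx w hw ih =>
      obtain ⟨gB, hgB, hQ⟩ := ih
      rcases hw with rfl | rfl
      · refine ⟨gB * (1 + (-1 : Subring.center B) • nB), ?_, QF_mul_n hnn hτ (-1) hQ⟩
        rw [neg_one_smul, Units.val_mul, hyinv, ← hgB, ← sub_eq_add_neg]
        rfl
      · refine ⟨gB * (1 + (-1 : Subring.center B) • nB'), ?_, QF_mul_n' hnn' (-1) hQ⟩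
        rw [neg_one_smul, Units.val_mul, hy'inv, ← hgB, ← sub_eq_add_neg]
        rfl
  obtain ⟨zB, hzB, hQ⟩ := key z hz
  have hzzB : zB * zB = 1 := by
    apply Subtype.ext
    show (zB : Matrix ι ι F) * (zB : Matrix ι ι F) = 1
    rw [hzB, ← Units.val_mul, hzz, Units.val_one]
  obtain ⟨T, hT⟩ := QF_invol hnn hnn' hτ hQ hzzB
  refine ⟨((T • (1 : B) : B) : Matrix ι ι F), ?_, ?_, ?_⟩
  · have h1 : (T • (1 : B)) * nB = nB * (T • (1 : B)) := by
      rw [smul_mul_assoc, mul_smul_comm, one_mul, mul_one]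
    exact congrArg Subtype.val h1
  · have h1 : (T • (1 : B)) * nB' = nB' * (T • (1 : B)) := by
      rw [smul_mul_assoc, mul_smul_comm, one_mul, mul_one]
    exact congrArg Subtype.val h1
  · rw [← hT, ← hzB]
    rfl

end concrete


section eig

variable {F : Type*} [Field F] {ι : Type*} [Fintype ι] [DecidableEq ι]

/-- a common kernel vector of `n, n'` is fixed by the whole closure -/
theorem fix_of_ker (n n' : Matrix ι ι F) (y y' : GL ι F)
    (hy : (y : Matrix ι ι F) = 1 + n) (hy' : (y' : Matrix ι ι F) = 1 + n') (v : ι → F)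
    (h1 : n *ᵥ v = 0) (h2 : n' *ᵥ v = 0) (g : GL ι F) (hg : g ∈ Subgroup.closure ({y, y'} : Set (GL ι F))) :
    (g : Matrix ι ι F) *ᵥ v = v := by
  induction hg using Subgroup.closure_induction with
  | mem x hx =>
    rcases hx with rfl | rfl
    · rw [hy, Matrix.add_mulVec, Matrix.one_mulVec, h1, add_zero]
    · rw [hy', Matrix.add_mulVec, Matrix.one_mulVec, h2, add_zero]
  | one => rw [Units.val_one, Matrix.one_mulVec]
  | mul x w _ _ ihx ihw => rw [Units.val_mul, ← Matrix.mulVec_mulVec, ihw, ihx]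
  | inv x _ ih =>
    have h3 : ((x⁻¹ : GL ι F) : Matrix ι ι F) * (x : Matrix ι ι F) = 1 := by
      rw [← Units.val_mul, inv_mul_cancel, Units.val_one]
    calc ((x⁻¹ : GL ι F) : Matrix ι ι F) *ᵥ v = ((x⁻¹ : GL ι F) : Matrix ι ι F) *ᵥ ((x : Matrix ι ι F) *ᵥ v) := by rw [ih]
      _ = v := by rw [Matrix.mulVec_mulVec, h3, Matrix.one_mulVec]

/-- the eigenspace analysis -/
theorem eig_struct (h2 : (2 : F) ≠ 0) (n n' z : Matrix ι ι F) (hn : n * n = 0) (hn' : n' * n' = 0)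
    (hzn : z * n = n * z) (hzn' : z * n' = n' * z)
    (hfix : ∀ v : ι → F, n *ᵥ v = 0 → n' *ᵥ v = 0 → z *ᵥ v = v) :
    finrank F (Vm z) = 2 * finrank F ↥(Vm z ⊓ Rg n) ∧
      finrank F (Vm z) = 2 * finrank F ↥(Vm z ⊓ Rg n') ∧
      Vm z ≤ (Vm z ⊓ Rg n) ⊔ (Vm z ⊓ Rg n') := by
  -- (B)
  have hker : ∀ v ∈ Vm z, n *ᵥ v = 0 → n' *ᵥ v = 0 → v = 0 := by
    intro v hv h1 h2'
    rw [mem_Vm_iff] at hv
    have h3 := hfix v h1 h2'
    rw [hv] at h3
    have h4 : (2 : F) • v = 0 := by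
      rw [two_smul]
      nth_rewrite 1 [← h3]
      exact neg_add_cancel v
    rcases smul_eq_zero.mp h4 with h | h
    · exact absurd h h2
    · exact h
  -- (C)
  have hinv : ∀ v ∈ Vm z, n *ᵥ v ∈ Vm z := by
    intro v hv
    rw [mem_Vm_iff] at hv ⊢
    rw [Matrix.mulVec_mulVec, hzn, ← Matrix.mulVec_mulVec, hv, Matrix.mulVec_neg]
  have hinv' : ∀ v ∈ Vm z, n' *ᵥ v ∈ Vm z := by
    intro v hv
    rw [mem_Vm_iff] at hv ⊢
    rw [Matrix.mulVec_mulVec, hzn', ← Matrix.mulVec_mulVec, hv, Matrix.mulVec_neg]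
  have hnn : ∀ v : ι → F, n *ᵥ (n *ᵥ v) = 0 := by
    intro v; rw [Matrix.mulVec_mulVec, hn, Matrix.zero_mulVec]
  have hnn' : ∀ v : ι → F, n' *ᵥ (n' *ᵥ v) = 0 := by
    intro v; rw [Matrix.mulVec_mulVec, hn', Matrix.zero_mulVec]
  -- (D1)
  have hD1 : ∀ w ∈ Vm z, n *ᵥ (n' *ᵥ w) + n' *ᵥ (n *ᵥ w) = 0 → n *ᵥ w = 0 → w = 0 := by
    intro w hw hτ hnw
    have h3 : n' *ᵥ w = 0 := by
      apply hker _ (hinv' w hw)
      · rw [hnw, Matrix.mulVec_zero, add_zero] at hτ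
        exact hτ
      · exact hnn' w
    exact hker w hw hnw h3
  -- (D)
  have hD : ∀ v ∈ Vm z, n *ᵥ (n' *ᵥ v) + n' *ᵥ (n *ᵥ v) = 0 → v = 0 := by
    intro v hv hτ
    have h3 : n *ᵥ v = 0 := by
      apply hD1 _ (hinv v hv) _ (hnn v)
      -- τ (n v) = n (τ v)
      have : n *ᵥ (n' *ᵥ (n *ᵥ v)) + n' *ᵥ (n *ᵥ (n *ᵥ v)) = n *ᵥ (n *ᵥ (n' *ᵥ v) + n' *ᵥ (n *ᵥ v)) := by
        rw [hnn, Matrix.mulVec_zero, add_zero, Matrix.mulVec_add, hnn, zero_add]
      rw [this, hτ, Matrix.mulVec_zero]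
    exact hD1 v hv hτ h3
  -- (E) τ restricted to Vm z
  set τL : (ι → F) →ₗ[F] (ι → F) := Matrix.toLin' (n * n' + n' * n) with hτL
  have hτL_apply : ∀ v, τL v = n *ᵥ (n' *ᵥ v) + n' *ᵥ (n *ᵥ v) := by
    intro v
    rw [hτL, Matrix.toLin'_apply, Matrix.add_mulVec, Matrix.mulVec_mulVec, Matrix.mulVec_mulVec]
  have hτmem : ∀ v ∈ Vm z, τL v ∈ Vm z := by
    intro v hv
    rw [hτL_apply]
    exact (Vm z).add_mem (hinv _ (hinv' v hv)) (hinv' _ (hinv v hv))
  set τR : Vm z →ₗ[F] Vm z := τL.restrict hτmem with hτR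
  have hτRinj : Function.Injective τR := by
    rw [← LinearMap.ker_eq_bot, LinearMap.ker_eq_bot']
    intro v hv
    apply Subtype.ext
    apply hD v.1 v.2
    rw [← hτL_apply]
    have := congrArg Subtype.val hv
    simpa [hτR] using this
  have hτRsurj : Function.Surjective τR := LinearMap.injective_iff_surjective.mp hτRinj
  -- (F)
  have hF : Vm z ≤ (Vm z ⊓ Rg n) ⊔ (Vm z ⊓ Rg n') := by
    intro v hv
    obtain ⟨v1, hv1⟩ := hτRsurj ⟨v, hv⟩
    have h3 : v = n *ᵥ (n' *ᵥ v1.1) + n' *ᵥ (n *ᵥ v1.1) := by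
      rw [← hτL_apply]
      have := congrArg Subtype.val hv1
      simpa [hτR] using this.symm
    rw [h3]
    apply Submodule.add_mem_sup
    · exact ⟨hinv _ (hinv' _ v1.2), (mem_Rg_iff n _).2 ⟨_, rfl⟩⟩
    · exact ⟨hinv' _ (hinv _ v1.2), (mem_Rg_iff n' _).2 ⟨_, rfl⟩⟩
  -- (G)
  have hG : (Vm z ⊓ Rg n) ⊓ (Vm z ⊓ Rg n') = ⊥ := by
    rw [eq_bot_iff]
    rintro v ⟨⟨hv, hv1⟩, ⟨_, hv2⟩⟩
    rw [Submodule.mem_bot]
    obtain ⟨x, rfl⟩ := (mem_Rg_iff n v).1 hv1
    obtain ⟨x', hx'⟩ := (mem_Rg_iff n' _).1 hv2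
    apply hker _ hv (hnn x)
    rw [← hx', hnn']
  -- (H)
  have hH1 : finrank F ↥(Vm z ⊓ Rg n) ≤ finrank F ↥(Vm z ⊓ Rg n') := by
    have hmem : ∀ v ∈ Vm z ⊓ Rg n, Matrix.toLin' n' v ∈ Vm z ⊓ Rg n' := by
      rintro v ⟨hv, _⟩
      rw [Matrix.toLin'_apply]
      exact ⟨hinv' v hv, (mem_Rg_iff n' _).2 ⟨_, rfl⟩⟩
    apply LinearMap.finrank_le_finrank_of_injective (f := (Matrix.toLin' n').restrict hmem)
    rw [← LinearMap.ker_eq_bot, LinearMap.ker_eq_bot']
    rintro ⟨v, hv, hv1⟩ h0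
    apply Subtype.ext
    show v = 0
    have h3 : n' *ᵥ v = 0 := by
      have := congrArg Subtype.val h0
      simpa using this
    obtain ⟨x, rfl⟩ := (mem_Rg_iff n v).1 hv1
    exact hker _ hv (hnn x) h3
  have hH2 : finrank F ↥(Vm z ⊓ Rg n') ≤ finrank F ↥(Vm z ⊓ Rg n) := by
    have hmem : ∀ v ∈ Vm z ⊓ Rg n', Matrix.toLin' n v ∈ Vm z ⊓ Rg n := by
      rintro v ⟨hv, _⟩
      rw [Matrix.toLin'_apply]
      exact ⟨hinv v hv, (mem_Rg_iff n _).2 ⟨_, rfl⟩⟩
    apply LinearMap.finrank_le_finrank_of_injective (f := (Matrix.toLin' n).restrict hmem)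
    rw [← LinearMap.ker_eq_bot, LinearMap.ker_eq_bot']
    rintro ⟨v, hv, hv1⟩ h0
    apply Subtype.ext
    show v = 0
    have h3 : n *ᵥ v = 0 := by
      have := congrArg Subtype.val h0
      simpa using this
    obtain ⟨x, rfl⟩ := (mem_Rg_iff n' v).1 hv1
    exact hker _ hv h3 (hnn' x)
  have hH : finrank F ↥(Vm z ⊓ Rg n) = finrank F ↥(Vm z ⊓ Rg n') := le_antisymm hH1 hH2
  -- (I)
  have hsup : (Vm z ⊓ Rg n) ⊔ (Vm z ⊓ Rg n') = Vm z :=
    le_antisymm (sup_le inf_le_left inf_le_left) hF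
  have hI := Submodule.finrank_sup_add_finrank_inf_eq (Vm z ⊓ Rg n) (Vm z ⊓ Rg n')
  rw [hG, finrank_bot, add_zero, hsup] at hI
  refine ⟨?_, ?_, hF⟩
  · rw [hI, ← hH]; ring
  · rw [hI, hH]; ring


end eig

section final

variable {F : Type*} [Field F] {ι : Type*} [Fintype ι] [DecidableEq ι]

/-- QP-B -/
theorem qp_central (h2 : (2 : F) ≠ 0)
    (n n' : Matrix ι ι F) (hn : n * n = 0) (hn' : n' * n' = 0) (y y' : GL ι F)
    (hy : (y : Matrix ι ι F) = 1 + n) (hy' : (y' : Matrix ι ι F) = 1 + n')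
    (z : GL ι F) (hz : z ∈ Subgroup.closure ({y, y'} : Set (GL ι F))) (hzz : z * z = 1) :
    (z : Matrix ι ι F) * n = n * (z : Matrix ι ι F) ∧ (z : Matrix ι ι F) * n' = n' * (z : Matrix ι ι F) ∧
      finrank F (Vm (z : Matrix ι ι F)) = 2 * finrank F ↥(Vm (z : Matrix ι ι F) ⊓ Rg n) ∧
      finrank F (Vm (z : Matrix ι ι F)) = 2 * finrank F ↥(Vm (z : Matrix ι ι F) ⊓ Rg n') ∧
      Vm (z : Matrix ι ι F) ≤ (Vm (z : Matrix ι ι F) ⊓ Rg n) ⊔ (Vm (z : Matrix ι ι F) ⊓ Rg n') := by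
  obtain ⟨T, hTn, hTn', hT⟩ := closure_QF n n' hn hn' y y' hy hy' z hz hzz
  have hcomm : ∀ m : Matrix ι ι F, T * m = m * T → (z : Matrix ι ι F) * m = m * (z : Matrix ι ι F) := by
    intro m hm
    rw [← hT, two_mul, add_mul, mul_add] at hm
    have h3 : (2 : F) • ((z : Matrix ι ι F) * m) = (2 : F) • (m * (z : Matrix ι ι F)) := by
      rw [two_smul, two_smul]; exact hm
    exact smul_right_injective _ h2 h3
  have hzn := hcomm n hTn
  have hzn' := hcomm n' hTn'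
  refine ⟨hzn, hzn', ?_⟩
  exact eig_struct h2 n n' (z : Matrix ι ι F) hn hn' hzn hzn'
    (fun v h1 h2' => fix_of_ker n n' y y' hy hy' v h1 h2' z hz)

end final

end Cfsg.Agent.Lib.Helper8.OTQPB
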