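import Mathlib
import Cfsg.Prelude.Def_Classical

set_option autoImplicit false
set_option linter.unusedSectionVars false

namespace Cfsg.Agent.Lib.Helper8.Orth5

open Matrix

/-- the index type of the five-dimensional space -/
abbrev I5 := Unit ⊕ (Fin 2 ⊕ Fin 2)

abbrev iz : I5 := Sum.inl ()
abbrev ie (i : Fin 2) : I5 := Sum.inr (Sum.inl i)
abbrev jf (i : Fin 2) : I5 := Sum.inr (Sum.inr i)

/-- the opposite index -/
def bar5 : I5 → I5
  | Sum.inl u => Sum.inl u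
  | Sum.inr x => Sum.inr x.swap

@[simp] theorem bar5_iz : bar5 iz = iz := rfl
@[simp] theorem bar5_ie (i : Fin 2) : bar5 (ie i) = jf i := rfl
@[simp] theorem bar5_jf (i : Fin 2) : bar5 (jf i) = ie i := rfl
@[simp] theorem bar5_bar5 (x : I5) : bar5 (bar5 x) = x := by
  rcases x with u | x | x <;> rfl

variable {K : Type*}

/-- a vector from its five coordinates -/
def mk5 (x0 x1 x2 y1 y2 : K) : I5 → K :=
  Sum.elim (fun _ => x0) (Sum.elim ![x1, x2] ![y1, y2])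

@[simp] theorem mk5_z (x0 x1 x2 y1 y2 : K) : mk5 x0 x1 x2 y1 y2 (Sum.inl ()) = x0 := rfl
@[simp] theorem mk5_e0 (x0 x1 x2 y1 y2 : K) : mk5 x0 x1 x2 y1 y2 (Sum.inr (Sum.inl 0)) = x1 := rfl
@[simp] theorem mk5_e1 (x0 x1 x2 y1 y2 : K) : mk5 x0 x1 x2 y1 y2 (Sum.inr (Sum.inl 1)) = x2 := rfl
@[simp] theorem mk5_f0 (x0 x1 x2 y1 y2 : K) : mk5 x0 x1 x2 y1 y2 (Sum.inr (Sum.inr 0)) = y1 := rfl
@[simp] theorem mk5_f1 (x0 x1 x2 y1 y2 : K) : mk5 x0 x1 x2 y1 y2 (Sum.inr (Sum.inr 1)) = y2 := rfl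

theorem mk5_eta (v : I5 → K) : mk5 (v iz) (v (ie 0)) (v (ie 1)) (v (jf 0)) (v (jf 1)) = v := by
  funext i
  rcases i with u | i | i
  · rfl
  · fin_cases i <;> rfl
  · fin_cases i <;> rfl

theorem ext5 {v w : I5 → K} (h0 : v iz = w iz) (h1 : v (ie 0) = w (ie 0)) (h2 : v (ie 1) = w (ie 1))
    (h3 : v (jf 0) = w (jf 0)) (h4 : v (jf 1) = w (jf 1)) : v = w := by
  rw [← mk5_eta v, ← mk5_eta w, h0, h1, h2, h3, h4]

theorem sum5 [AddCommMonoid K] (f : I5 → K) :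
    ∑ i, f i = f iz + f (ie 0) + f (ie 1) + f (jf 0) + f (jf 1) := by
  rw [Fintype.sum_sum_type, Fintype.sum_sum_type, Fin.sum_univ_two, Fin.sum_univ_two,
    Fintype.sum_unique]
  simp only [add_assoc]

section Mat

variable [CommRing K]

/-- long root matrix -/
def lgM (a b : I5) (t : K) : Matrix I5 I5 K :=
  1 + Matrix.single a b t - Matrix.single (bar5 b) (bar5 a) t

/-- short root matrix -/
def shM (a : I5) (t : K) : Matrix I5 I5 K :=
  1 + Matrix.single a iz (2 * t) - Matrix.single iz (bar5 a) t - Matrix.single a (bar5 a) (t ^ 2)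

theorem lgM_mulVec (a b : I5) (t : K) (v : I5 → K) :
    lgM a b t *ᵥ v = v + Pi.single a (t * v b) - Pi.single (bar5 b) (t * v (bar5 a)) := by
  unfold lgM
  rw [Matrix.sub_mulVec, Matrix.add_mulVec, Matrix.one_mulVec, Matrix.single_mulVec,
    Matrix.single_mulVec]
  rfl

theorem shM_mulVec (a : I5) (t : K) (v : I5 → K) :
    shM a t *ᵥ v = v + Pi.single a (2 * t * v iz) - Pi.single iz (t * v (bar5 a)) -
      Pi.single a (t ^ 2 * v (bar5 a)) := by
  unfold shM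
  rw [Matrix.sub_mulVec, Matrix.sub_mulVec, Matrix.add_mulVec, Matrix.one_mulVec,
    Matrix.single_mulVec, Matrix.single_mulVec, Matrix.single_mulVec]
  rfl

/-- the root matrices of type `B₂` -/
def MX (r : ℕ) (t : K) : Matrix I5 I5 K :=
  match r with
  | 0 => lgM (jf 0) (ie 1) (-t)
  | 1 => shM (jf 0) (-t)
  | 2 => shM (jf 1) (-t)
  | 3 => lgM (ie 1) (ie 0) t
  | 4 => lgM (ie 0) (ie 1) t
  | 5 => shM (ie 1) t
  | 6 => shM (ie 0) t
  | 7 => lgM (ie 0) (jf 1) t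
  | _ => 1

/-- the action of the root matrices in coordinates -/
def LX (r : ℕ) (t : K) (v : I5 → K) : I5 → K :=
  match r with
  | 0 => mk5 (v iz) (v (ie 0)) (v (ie 1)) (v (jf 0) - t * v (ie 1)) (v (jf 1) + t * v (ie 0))
  | 1 => mk5 (v iz + t * v (ie 0)) (v (ie 0)) (v (ie 1))
      (v (jf 0) - 2 * t * v iz - t ^ 2 * v (ie 0)) (v (jf 1))
  | 2 => mk5 (v iz + t * v (ie 1)) (v (ie 0)) (v (ie 1)) (v (jf 0))
      (v (jf 1) - 2 * t * v iz - t ^ 2 * v (ie 1))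
  | 3 => mk5 (v iz) (v (ie 0)) (v (ie 1) + t * v (ie 0)) (v (jf 0) - t * v (jf 1)) (v (jf 1))
  | 4 => mk5 (v iz) (v (ie 0) + t * v (ie 1)) (v (ie 1)) (v (jf 0)) (v (jf 1) - t * v (jf 0))
  | 5 => mk5 (v iz - t * v (jf 1)) (v (ie 0)) (v (ie 1) + 2 * t * v iz - t ^ 2 * v (jf 1))
      (v (jf 0)) (v (jf 1))
  | 6 => mk5 (v iz - t * v (jf 0)) (v (ie 0) + 2 * t * v iz - t ^ 2 * v (jf 0)) (v (ie 1))
      (v (jf 0)) (v (jf 1))
  | 7 => mk5 (v iz) (v (ie 0) + t * v (jf 1)) (v (ie 1) - t * v (jf 0)) (v (jf 0)) (v (jf 1))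
  | _ => v

theorem MX_mulVec (r : ℕ) (t : K) (v : I5 → K) : MX r t *ᵥ v = LX r t v := by
  rcases r with _ | _ | _ | _ | _ | _ | _ | _ | r
  all_goals
    simp only [MX, LX, lgM_mulVec, shM_mulVec]
    apply ext5 <;> simp <;> ring

theorem LX_add (r : ℕ) (t u : K) (v : I5 → K) : LX r t (LX r u v) = LX r (t + u) v := by
  rcases r with _ | _ | _ | _ | _ | _ | _ | _ | r
  all_goals
    simp only [LX]
    try (apply ext5 <;> simp <;> ring)

theorem LX_zero (r : ℕ) (v : I5 → K) : LX r 0 v = v := by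
  rcases r with _ | _ | _ | _ | _ | _ | _ | _ | r
  all_goals
    simp only [LX]
    try (apply ext5 <;> simp)

theorem LX_out {r : ℕ} (hr : ¬ r < 8) (t : K) (v : I5 → K) : LX r t v = v := by
  rcases r with _ | _ | _ | _ | _ | _ | _ | _ | r
  all_goals first
    | rfl
    | (exfalso; apply hr; norm_num)

theorem mat_ext5 {M N : Matrix I5 I5 K} (h : ∀ v, M *ᵥ v = N *ᵥ v) : M = N :=
  Matrix.ext_of_mulVec_single fun _ => h _

theorem MX_mul (r : ℕ) (t u : K) : MX r t * MX r u = MX r (t + u) := by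
  apply mat_ext5
  intro v
  rw [← Matrix.mulVec_mulVec, MX_mulVec, MX_mulVec, MX_mulVec, LX_add]

theorem MX_zero (r : ℕ) : MX r (0 : K) = 1 := by
  apply mat_ext5
  intro v
  rw [MX_mulVec, LX_zero, Matrix.one_mulVec]

end Mat

section Form

variable [Field K]

theorem quadFormOdd_eq (v : I5 → K) :
    Cfsg.quadFormOdd 2 K v = v iz ^ 2 + v (ie 0) * v (jf 0) + v (ie 1) * v (jf 1) := by
  unfold Cfsg.quadFormOdd
  rw [Fin.sum_univ_two, add_assoc]

theorem Q_LX (r : ℕ) (t : K) (v : I5 → K) :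
    Cfsg.quadFormOdd 2 K (LX r t v) = Cfsg.quadFormOdd 2 K v := by
  rcases r with _ | _ | _ | _ | _ | _ | _ | _ | r
  all_goals
    simp only [LX, quadFormOdd_eq]
    try (simp; ring)

end Form

end Cfsg.Agent.Lib.Helper8.Orth5
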