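import Mathlib
import Cfsg.Prelude.Def_Classical
import Cfsg.Prelude.Def_ChevB2
import Cfsg.Agent.Lib.Helper8.ChevSt1
import Cfsg.Agent.Lib.Helper8.Orth5A

/-!
# The orthogonal group of `x₀² + x₁y₁ + x₂y₂`: root elements and Steinberg's relations (helper8)
-/

set_option autoImplicit false
set_option linter.unusedSectionVars false
set_option linter.unusedSimpArgs false
set_option linter.unnecessarySeqFocus false

namespace Cfsg.Agent.Lib.Helper8.Orth5

open Matrix Cfsg.Lie Cfsg.Agent.Lib.Helper8.Chev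

variable {K : Type*} [Field K]

/-- the isometry group of `x₀² + x₁y₁ + x₂y₂` -/
abbrev O5 (K : Type*) [Field K] := ↥(Cfsg.isometryGroup K (Cfsg.quadFormOdd 2 K))

/-- action on vectors -/
def gv (g : O5 K) (v : I5 → K) : I5 → K :=
  ((g.1 : GL I5 K) : Matrix I5 I5 K) *ᵥ v

theorem Q_gv (g : O5 K) (v : I5 → K) :
    Cfsg.quadFormOdd 2 K (gv g v) = Cfsg.quadFormOdd 2 K v := g.2 v v

theorem gv_add (g : O5 K) (u v : I5 → K) : gv g (u + v) = gv g u + gv g v :=
  Matrix.mulVec_add _ _ _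

theorem gv_sub (g : O5 K) (u v : I5 → K) : gv g (u - v) = gv g u - gv g v :=
  Matrix.mulVec_sub _ _ _

theorem gv_smul (g : O5 K) (c : K) (v : I5 → K) : gv g (c • v) = c • gv g v :=
  Matrix.mulVec_smul _ _ _

theorem gv_zero (g : O5 K) : gv g 0 = 0 := Matrix.mulVec_zero _

theorem gv_one (v : I5 → K) : gv (1 : O5 K) v = v := Matrix.one_mulVec v

theorem gv_mul (g h : O5 K) (v : I5 → K) : gv (g * h) v = gv g (gv h v) := by
  unfold gv
  rw [Matrix.mulVec_mulVec]
  rfl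

theorem gv_inv_gv (g : O5 K) (v : I5 → K) : gv g⁻¹ (gv g v) = v := by
  rw [← gv_mul, inv_mul_cancel, gv_one]

theorem gv_gv_inv (g : O5 K) (v : I5 → K) : gv g (gv g⁻¹ v) = v := by
  rw [← gv_mul, mul_inv_cancel, gv_one]

theorem O5_ext {g h : O5 K} (H : ∀ v, gv g v = gv h v) : g = h := by
  apply Subtype.ext
  apply Units.ext
  exact mat_ext5 H

theorem gv_ne_zero (g : O5 K) {v : I5 → K} (hv : v ≠ 0) : gv g v ≠ 0 := by
  intro h
  apply hv
  rw [← gv_inv_gv g v, h, gv_zero]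

/-- an isometry from a matrix and its inverse -/
def mkO (M M' : Matrix I5 I5 K) (h1 : M * M' = 1) (h2 : M' * M = 1)
    (hQ : ∀ v, Cfsg.quadFormOdd 2 K (M *ᵥ v) = Cfsg.quadFormOdd 2 K v) : O5 K :=
  ⟨⟨M, M', h1, h2⟩, fun u _ => hQ u⟩

theorem gv_mkO (M M' : Matrix I5 I5 K) (h1 : M * M' = 1) (h2 : M' * M = 1)
    (hQ : ∀ v, Cfsg.quadFormOdd 2 K (M *ᵥ v) = Cfsg.quadFormOdd 2 K v) (v : I5 → K) :
    gv (mkO M M' h1 h2 hQ) v = M *ᵥ v := rfl

/-- the root elements -/
def X5 (K : Type*) [Field K] (r : ℕ) (t : K) : O5 K :=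
  mkO (MX r t) (MX r (-t)) (by rw [MX_mul, add_neg_cancel, MX_zero])
    (by rw [MX_mul, neg_add_cancel, MX_zero])
    (fun v => by rw [MX_mulVec]; exact Q_LX r t v)

theorem gv_X5 (r : ℕ) (t : K) (v : I5 → K) : gv (X5 K r t) v = LX r t v := MX_mulVec r t v

theorem X5_add (r : ℕ) (t u : K) : X5 K r t * X5 K r u = X5 K r (t + u) := by
  apply O5_ext
  intro v
  rw [gv_mul, gv_X5, gv_X5, gv_X5, LX_add]

theorem X5_zero (r : ℕ) : X5 K r 0 = 1 := by
  apply O5_ext
  intro v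
  rw [gv_X5, LX_zero, gv_one]

theorem X5_inv (r : ℕ) (t : K) : (X5 K r t)⁻¹ = X5 K r (-t) := by
  rw [inv_eq_iff_mul_eq_one, X5_add, add_neg_cancel, X5_zero]

theorem X5_out {r : ℕ} (hr : ¬ r < 8) (t : K) : X5 K r t = 1 := by
  apply O5_ext
  intro v
  rw [gv_X5, LX_out hr, gv_one]

/-! ### Steinberg's relation (R2), pair by pair -/

theorem comm_0_1 (t u : K) : X5 K 1 u * X5 K 0 t =
    X5 K 0 t * X5 K 1 u * wS (X5 K) (chevB2.commWord K 0 1 t u) := by
  have ht : chevB2.commTerms 0 1 = [] := by decide +kernel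
  have hw : chevB2.commWord K 0 1 t u = [] := by
    unfold ChevalleyDatum.commWord
    rw [ht]
    rfl
  rw [hw]
  apply O5_ext
  intro v
  simp only [wS_cons, wS_nil, gv_mul, gv_X5, gv_one]
  simp only [LX]
  apply ext5 <;> simp <;> ring

theorem comm_0_2 (t u : K) : X5 K 2 u * X5 K 0 t =
    X5 K 0 t * X5 K 2 u * wS (X5 K) (chevB2.commWord K 0 2 t u) := by
  have ht : chevB2.commTerms 0 2 = [] := by decide +kernel
  have hw : chevB2.commWord K 0 2 t u = [] := by
    unfold ChevalleyDatum.commWord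
    rw [ht]
    rfl
  rw [hw]
  apply O5_ext
  intro v
  simp only [wS_cons, wS_nil, gv_mul, gv_X5, gv_one]
  simp only [LX]
  apply ext5 <;> simp <;> ring

theorem comm_0_3 (t u : K) : X5 K 3 u * X5 K 0 t =
    X5 K 0 t * X5 K 3 u * wS (X5 K) (chevB2.commWord K 0 3 t u) := by
  have ht : chevB2.commTerms 0 3 = [] := by decide +kernel
  have hw : chevB2.commWord K 0 3 t u = [] := by
    unfold ChevalleyDatum.commWord
    rw [ht]
    rfl
  rw [hw]
  apply O5_ext
  intro v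
  simp only [wS_cons, wS_nil, gv_mul, gv_X5, gv_one]
  simp only [LX]
  apply ext5 <;> simp <;> ring

theorem comm_0_4 (t u : K) : X5 K 4 u * X5 K 0 t =
    X5 K 0 t * X5 K 4 u * wS (X5 K) (chevB2.commWord K 0 4 t u) := by
  have ht : chevB2.commTerms 0 4 = [] := by decide +kernel
  have hw : chevB2.commWord K 0 4 t u = [] := by
    unfold ChevalleyDatum.commWord
    rw [ht]
    rfl
  rw [hw]
  apply O5_ext
  intro v
  simp only [wS_cons, wS_nil, gv_mul, gv_X5, gv_one]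
  simp only [LX]
  apply ext5 <;> simp <;> ring

theorem comm_0_5 (t u : K) : X5 K 5 u * X5 K 0 t =
    X5 K 0 t * X5 K 5 u * wS (X5 K) (chevB2.commWord K 0 5 t u) := by
  have ht : chevB2.commTerms 0 5 = [(1, 1, 1, 1), (3, -1, 1, 2)] := by decide +kernel
  have hw : chevB2.commWord K 0 5 t u = [(1, (((1 : ℤ)) : K) * (-t) ^ 1 * u ^ 1), (3, (((-1 : ℤ)) : K) * (-t) ^ 1 * u ^ 2)] := by
    unfold ChevalleyDatum.commWord
    rw [ht]
    rfl
  rw [hw]
  apply O5_ext
  intro v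
  simp only [wS_cons, wS_nil, gv_mul, gv_X5, gv_one]
  simp only [LX]
  apply ext5 <;> simp <;> ring

theorem comm_0_6 (t u : K) : X5 K 6 u * X5 K 0 t =
    X5 K 0 t * X5 K 6 u * wS (X5 K) (chevB2.commWord K 0 6 t u) := by
  have ht : chevB2.commTerms 0 6 = [(2, -1, 1, 1), (4, 1, 1, 2)] := by decide +kernel
  have hw : chevB2.commWord K 0 6 t u = [(2, (((-1 : ℤ)) : K) * (-t) ^ 1 * u ^ 1), (4, (((1 : ℤ)) : K) * (-t) ^ 1 * u ^ 2)] := by
    unfold ChevalleyDatum.commWord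
    rw [ht]
    rfl
  rw [hw]
  apply O5_ext
  intro v
  simp only [wS_cons, wS_nil, gv_mul, gv_X5, gv_one]
  simp only [LX]
  apply ext5 <;> simp <;> ring

theorem comm_1_0 (t u : K) : X5 K 0 u * X5 K 1 t =
    X5 K 1 t * X5 K 0 u * wS (X5 K) (chevB2.commWord K 1 0 t u) := by
  have ht : chevB2.commTerms 1 0 = [] := by decide +kernel
  have hw : chevB2.commWord K 1 0 t u = [] := by
    unfold ChevalleyDatum.commWord
    rw [ht]
    rfl
  rw [hw]
  apply O5_ext
  intro v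
  simp only [wS_cons, wS_nil, gv_mul, gv_X5, gv_one]
  simp only [LX]
  apply ext5 <;> simp <;> ring

theorem comm_1_2 (t u : K) : X5 K 2 u * X5 K 1 t =
    X5 K 1 t * X5 K 2 u * wS (X5 K) (chevB2.commWord K 1 2 t u) := by
  have ht : chevB2.commTerms 1 2 = [(0, 2, 1, 1)] := by decide +kernel
  have hw : chevB2.commWord K 1 2 t u = [(0, (((2 : ℤ)) : K) * (-t) ^ 1 * u ^ 1)] := by
    unfold ChevalleyDatum.commWord
    rw [ht]
    rfl
  rw [hw]
  apply O5_ext
  intro v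
  simp only [wS_cons, wS_nil, gv_mul, gv_X5, gv_one]
  simp only [LX]
  apply ext5 <;> simp <;> ring

theorem comm_1_3 (t u : K) : X5 K 3 u * X5 K 1 t =
    X5 K 1 t * X5 K 3 u * wS (X5 K) (chevB2.commWord K 1 3 t u) := by
  have ht : chevB2.commTerms 1 3 = [] := by decide +kernel
  have hw : chevB2.commWord K 1 3 t u = [] := by
    unfold ChevalleyDatum.commWord
    rw [ht]
    rfl
  rw [hw]
  apply O5_ext
  intro v
  simp only [wS_cons, wS_nil, gv_mul, gv_X5, gv_one]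
  simp only [LX]
  apply ext5 <;> simp <;> ring

theorem comm_1_4 (t u : K) : X5 K 4 u * X5 K 1 t =
    X5 K 1 t * X5 K 4 u * wS (X5 K) (chevB2.commWord K 1 4 t u) := by
  have ht : chevB2.commTerms 1 4 = [(2, 1, 1, 1), (0, 1, 2, 1)] := by decide +kernel
  have hw : chevB2.commWord K 1 4 t u = [(2, (((1 : ℤ)) : K) * (-t) ^ 1 * u ^ 1), (0, (((1 : ℤ)) : K) * (-t) ^ 2 * u ^ 1)] := by
    unfold ChevalleyDatum.commWord
    rw [ht]
    rfl
  rw [hw]
  apply O5_ext
  intro v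
  simp only [wS_cons, wS_nil, gv_mul, gv_X5, gv_one]
  simp only [LX]
  apply ext5 <;> simp <;> ring

theorem comm_1_5 (t u : K) : X5 K 5 u * X5 K 1 t =
    X5 K 1 t * X5 K 5 u * wS (X5 K) (chevB2.commWord K 1 5 t u) := by
  have ht : chevB2.commTerms 1 5 = [(3, -2, 1, 1)] := by decide +kernel
  have hw : chevB2.commWord K 1 5 t u = [(3, (((-2 : ℤ)) : K) * (-t) ^ 1 * u ^ 1)] := by
    unfold ChevalleyDatum.commWord
    rw [ht]
    rfl
  rw [hw]
  apply O5_ext
  intro v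
  simp only [wS_cons, wS_nil, gv_mul, gv_X5, gv_one]
  simp only [LX]
  apply ext5 <;> simp <;> ring

theorem comm_1_7 (t u : K) : X5 K 7 u * X5 K 1 t =
    X5 K 1 t * X5 K 7 u * wS (X5 K) (chevB2.commWord K 1 7 t u) := by
  have ht : chevB2.commTerms 1 7 = [(5, -1, 1, 1), (3, 1, 2, 1)] := by decide +kernel
  have hw : chevB2.commWord K 1 7 t u = [(5, (((-1 : ℤ)) : K) * (-t) ^ 1 * u ^ 1), (3, (((1 : ℤ)) : K) * (-t) ^ 2 * u ^ 1)] := by
    unfold ChevalleyDatum.commWord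
    rw [ht]
    rfl
  rw [hw]
  apply O5_ext
  intro v
  simp only [wS_cons, wS_nil, gv_mul, gv_X5, gv_one]
  simp only [LX]
  apply ext5 <;> simp <;> ring

theorem comm_2_0 (t u : K) : X5 K 0 u * X5 K 2 t =
    X5 K 2 t * X5 K 0 u * wS (X5 K) (chevB2.commWord K 2 0 t u) := by
  have ht : chevB2.commTerms 2 0 = [] := by decide +kernel
  have hw : chevB2.commWord K 2 0 t u = [] := by
    unfold ChevalleyDatum.commWord
    rw [ht]
    rfl
  rw [hw]
  apply O5_ext
  intro v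
  simp only [wS_cons, wS_nil, gv_mul, gv_X5, gv_one]
  simp only [LX]
  apply ext5 <;> simp <;> ring

theorem comm_2_1 (t u : K) : X5 K 1 u * X5 K 2 t =
    X5 K 2 t * X5 K 1 u * wS (X5 K) (chevB2.commWord K 2 1 t u) := by
  have ht : chevB2.commTerms 2 1 = [(0, -2, 1, 1)] := by decide +kernel
  have hw : chevB2.commWord K 2 1 t u = [(0, (((-2 : ℤ)) : K) * (-t) ^ 1 * u ^ 1)] := by
    unfold ChevalleyDatum.commWord
    rw [ht]
    rfl
  rw [hw]
  apply O5_ext
  intro v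
  simp only [wS_cons, wS_nil, gv_mul, gv_X5, gv_one]
  simp only [LX]
  apply ext5 <;> simp <;> ring

theorem comm_2_3 (t u : K) : X5 K 3 u * X5 K 2 t =
    X5 K 2 t * X5 K 3 u * wS (X5 K) (chevB2.commWord K 2 3 t u) := by
  have ht : chevB2.commTerms 2 3 = [(1, 1, 1, 1), (0, -1, 2, 1)] := by decide +kernel
  have hw : chevB2.commWord K 2 3 t u = [(1, (((1 : ℤ)) : K) * (-t) ^ 1 * u ^ 1), (0, (((-1 : ℤ)) : K) * (-t) ^ 2 * u ^ 1)] := by
    unfold ChevalleyDatum.commWord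
    rw [ht]
    rfl
  rw [hw]
  apply O5_ext
  intro v
  simp only [wS_cons, wS_nil, gv_mul, gv_X5, gv_one]
  simp only [LX]
  apply ext5 <;> simp <;> ring

theorem comm_2_4 (t u : K) : X5 K 4 u * X5 K 2 t =
    X5 K 2 t * X5 K 4 u * wS (X5 K) (chevB2.commWord K 2 4 t u) := by
  have ht : chevB2.commTerms 2 4 = [] := by decide +kernel
  have hw : chevB2.commWord K 2 4 t u = [] := by
    unfold ChevalleyDatum.commWord
    rw [ht]
    rfl
  rw [hw]
  apply O5_ext
  intro v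
  simp only [wS_cons, wS_nil, gv_mul, gv_X5, gv_one]
  simp only [LX]
  apply ext5 <;> simp <;> ring

theorem comm_2_6 (t u : K) : X5 K 6 u * X5 K 2 t =
    X5 K 2 t * X5 K 6 u * wS (X5 K) (chevB2.commWord K 2 6 t u) := by
  have ht : chevB2.commTerms 2 6 = [(4, -2, 1, 1)] := by decide +kernel
  have hw : chevB2.commWord K 2 6 t u = [(4, (((-2 : ℤ)) : K) * (-t) ^ 1 * u ^ 1)] := by
    unfold ChevalleyDatum.commWord
    rw [ht]
    rfl
  rw [hw]
  apply O5_ext
  intro v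
  simp only [wS_cons, wS_nil, gv_mul, gv_X5, gv_one]
  simp only [LX]
  apply ext5 <;> simp <;> ring

theorem comm_2_7 (t u : K) : X5 K 7 u * X5 K 2 t =
    X5 K 2 t * X5 K 7 u * wS (X5 K) (chevB2.commWord K 2 7 t u) := by
  have ht : chevB2.commTerms 2 7 = [(6, 1, 1, 1), (4, -1, 2, 1)] := by decide +kernel
  have hw : chevB2.commWord K 2 7 t u = [(6, (((1 : ℤ)) : K) * (-t) ^ 1 * u ^ 1), (4, (((-1 : ℤ)) : K) * (-t) ^ 2 * u ^ 1)] := by
    unfold ChevalleyDatum.commWord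
    rw [ht]
    rfl
  rw [hw]
  apply O5_ext
  intro v
  simp only [wS_cons, wS_nil, gv_mul, gv_X5, gv_one]
  simp only [LX]
  apply ext5 <;> simp <;> ring

theorem comm_3_0 (t u : K) : X5 K 0 u * X5 K 3 t =
    X5 K 3 t * X5 K 0 u * wS (X5 K) (chevB2.commWord K 3 0 t u) := by
  have ht : chevB2.commTerms 3 0 = [] := by decide +kernel
  have hw : chevB2.commWord K 3 0 t u = [] := by
    unfold ChevalleyDatum.commWord
    rw [ht]
    rfl
  rw [hw]
  apply O5_ext
  intro v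
  simp only [wS_cons, wS_nil, gv_mul, gv_X5, gv_one]
  simp only [LX]
  apply ext5 <;> simp <;> ring

theorem comm_3_1 (t u : K) : X5 K 1 u * X5 K 3 t =
    X5 K 3 t * X5 K 1 u * wS (X5 K) (chevB2.commWord K 3 1 t u) := by
  have ht : chevB2.commTerms 3 1 = [] := by decide +kernel
  have hw : chevB2.commWord K 3 1 t u = [] := by
    unfold ChevalleyDatum.commWord
    rw [ht]
    rfl
  rw [hw]
  apply O5_ext
  intro v
  simp only [wS_cons, wS_nil, gv_mul, gv_X5, gv_one]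
  simp only [LX]
  apply ext5 <;> simp <;> ring

theorem comm_3_2 (t u : K) : X5 K 2 u * X5 K 3 t =
    X5 K 3 t * X5 K 2 u * wS (X5 K) (chevB2.commWord K 3 2 t u) := by
  have ht : chevB2.commTerms 3 2 = [(1, -1, 1, 1), (0, -1, 1, 2)] := by decide +kernel
  have hw : chevB2.commWord K 3 2 t u = [(1, (((-1 : ℤ)) : K) * (-t) ^ 1 * u ^ 1), (0, (((-1 : ℤ)) : K) * (-t) ^ 1 * u ^ 2)] := by
    unfold ChevalleyDatum.commWord
    rw [ht]
    rfl
  rw [hw]
  apply O5_ext
  intro v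
  simp only [wS_cons, wS_nil, gv_mul, gv_X5, gv_one]
  simp only [LX]
  apply ext5 <;> simp <;> ring

theorem comm_3_5 (t u : K) : X5 K 5 u * X5 K 3 t =
    X5 K 3 t * X5 K 5 u * wS (X5 K) (chevB2.commWord K 3 5 t u) := by
  have ht : chevB2.commTerms 3 5 = [] := by decide +kernel
  have hw : chevB2.commWord K 3 5 t u = [] := by
    unfold ChevalleyDatum.commWord
    rw [ht]
    rfl
  rw [hw]
  apply O5_ext
  intro v
  simp only [wS_cons, wS_nil, gv_mul, gv_X5, gv_one]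
  simp only [LX]
  apply ext5 <;> simp <;> ring

theorem comm_3_6 (t u : K) : X5 K 6 u * X5 K 3 t =
    X5 K 3 t * X5 K 6 u * wS (X5 K) (chevB2.commWord K 3 6 t u) := by
  have ht : chevB2.commTerms 3 6 = [(5, 1, 1, 1), (7, 1, 1, 2)] := by decide +kernel
  have hw : chevB2.commWord K 3 6 t u = [(5, (((1 : ℤ)) : K) * (-t) ^ 1 * u ^ 1), (7, (((1 : ℤ)) : K) * (-t) ^ 1 * u ^ 2)] := by
    unfold ChevalleyDatum.commWord
    rw [ht]
    rfl
  rw [hw]
  apply O5_ext
  intro v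
  simp only [wS_cons, wS_nil, gv_mul, gv_X5, gv_one]
  simp only [LX]
  apply ext5 <;> simp <;> ring

theorem comm_3_7 (t u : K) : X5 K 7 u * X5 K 3 t =
    X5 K 3 t * X5 K 7 u * wS (X5 K) (chevB2.commWord K 3 7 t u) := by
  have ht : chevB2.commTerms 3 7 = [] := by decide +kernel
  have hw : chevB2.commWord K 3 7 t u = [] := by
    unfold ChevalleyDatum.commWord
    rw [ht]
    rfl
  rw [hw]
  apply O5_ext
  intro v
  simp only [wS_cons, wS_nil, gv_mul, gv_X5, gv_one]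
  simp only [LX]
  apply ext5 <;> simp <;> ring

theorem comm_4_0 (t u : K) : X5 K 0 u * X5 K 4 t =
    X5 K 4 t * X5 K 0 u * wS (X5 K) (chevB2.commWord K 4 0 t u) := by
  have ht : chevB2.commTerms 4 0 = [] := by decide +kernel
  have hw : chevB2.commWord K 4 0 t u = [] := by
    unfold ChevalleyDatum.commWord
    rw [ht]
    rfl
  rw [hw]
  apply O5_ext
  intro v
  simp only [wS_cons, wS_nil, gv_mul, gv_X5, gv_one]
  simp only [LX]
  apply ext5 <;> simp <;> ring

theorem comm_4_1 (t u : K) : X5 K 1 u * X5 K 4 t =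
    X5 K 4 t * X5 K 1 u * wS (X5 K) (chevB2.commWord K 4 1 t u) := by
  have ht : chevB2.commTerms 4 1 = [(2, -1, 1, 1), (0, 1, 1, 2)] := by decide +kernel
  have hw : chevB2.commWord K 4 1 t u = [(2, (((-1 : ℤ)) : K) * (-t) ^ 1 * u ^ 1), (0, (((1 : ℤ)) : K) * (-t) ^ 1 * u ^ 2)] := by
    unfold ChevalleyDatum.commWord
    rw [ht]
    rfl
  rw [hw]
  apply O5_ext
  intro v
  simp only [wS_cons, wS_nil, gv_mul, gv_X5, gv_one]
  simp only [LX]
  apply ext5 <;> simp <;> ring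

theorem comm_4_2 (t u : K) : X5 K 2 u * X5 K 4 t =
    X5 K 4 t * X5 K 2 u * wS (X5 K) (chevB2.commWord K 4 2 t u) := by
  have ht : chevB2.commTerms 4 2 = [] := by decide +kernel
  have hw : chevB2.commWord K 4 2 t u = [] := by
    unfold ChevalleyDatum.commWord
    rw [ht]
    rfl
  rw [hw]
  apply O5_ext
  intro v
  simp only [wS_cons, wS_nil, gv_mul, gv_X5, gv_one]
  simp only [LX]
  apply ext5 <;> simp <;> ring

theorem comm_4_5 (t u : K) : X5 K 5 u * X5 K 4 t =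
    X5 K 4 t * X5 K 5 u * wS (X5 K) (chevB2.commWord K 4 5 t u) := by
  have ht : chevB2.commTerms 4 5 = [(6, 1, 1, 1), (7, -1, 1, 2)] := by decide +kernel
  have hw : chevB2.commWord K 4 5 t u = [(6, (((1 : ℤ)) : K) * (-t) ^ 1 * u ^ 1), (7, (((-1 : ℤ)) : K) * (-t) ^ 1 * u ^ 2)] := by
    unfold ChevalleyDatum.commWord
    rw [ht]
    rfl
  rw [hw]
  apply O5_ext
  intro v
  simp only [wS_cons, wS_nil, gv_mul, gv_X5, gv_one]
  simp only [LX]
  apply ext5 <;> simp <;> ring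

theorem comm_4_6 (t u : K) : X5 K 6 u * X5 K 4 t =
    X5 K 4 t * X5 K 6 u * wS (X5 K) (chevB2.commWord K 4 6 t u) := by
  have ht : chevB2.commTerms 4 6 = [] := by decide +kernel
  have hw : chevB2.commWord K 4 6 t u = [] := by
    unfold ChevalleyDatum.commWord
    rw [ht]
    rfl
  rw [hw]
  apply O5_ext
  intro v
  simp only [wS_cons, wS_nil, gv_mul, gv_X5, gv_one]
  simp only [LX]
  apply ext5 <;> simp <;> ring

theorem comm_4_7 (t u : K) : X5 K 7 u * X5 K 4 t =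
    X5 K 4 t * X5 K 7 u * wS (X5 K) (chevB2.commWord K 4 7 t u) := by
  have ht : chevB2.commTerms 4 7 = [] := by decide +kernel
  have hw : chevB2.commWord K 4 7 t u = [] := by
    unfold ChevalleyDatum.commWord
    rw [ht]
    rfl
  rw [hw]
  apply O5_ext
  intro v
  simp only [wS_cons, wS_nil, gv_mul, gv_X5, gv_one]
  simp only [LX]
  apply ext5 <;> simp <;> ring

theorem comm_5_0 (t u : K) : X5 K 0 u * X5 K 5 t =
    X5 K 5 t * X5 K 0 u * wS (X5 K) (chevB2.commWord K 5 0 t u) := by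
  have ht : chevB2.commTerms 5 0 = [(1, -1, 1, 1), (3, -1, 2, 1)] := by decide +kernel
  have hw : chevB2.commWord K 5 0 t u = [(1, (((-1 : ℤ)) : K) * (-t) ^ 1 * u ^ 1), (3, (((-1 : ℤ)) : K) * (-t) ^ 2 * u ^ 1)] := by
    unfold ChevalleyDatum.commWord
    rw [ht]
    rfl
  rw [hw]
  apply O5_ext
  intro v
  simp only [wS_cons, wS_nil, gv_mul, gv_X5, gv_one]
  simp only [LX]
  apply ext5 <;> simp <;> ring

theorem comm_5_1 (t u : K) : X5 K 1 u * X5 K 5 t =
    X5 K 5 t * X5 K 1 u * wS (X5 K) (chevB2.commWord K 5 1 t u) := by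
  have ht : chevB2.commTerms 5 1 = [(3, 2, 1, 1)] := by decide +kernel
  have hw : chevB2.commWord K 5 1 t u = [(3, (((2 : ℤ)) : K) * (-t) ^ 1 * u ^ 1)] := by
    unfold ChevalleyDatum.commWord
    rw [ht]
    rfl
  rw [hw]
  apply O5_ext
  intro v
  simp only [wS_cons, wS_nil, gv_mul, gv_X5, gv_one]
  simp only [LX]
  apply ext5 <;> simp <;> ring

theorem comm_5_3 (t u : K) : X5 K 3 u * X5 K 5 t =
    X5 K 5 t * X5 K 3 u * wS (X5 K) (chevB2.commWord K 5 3 t u) := by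
  have ht : chevB2.commTerms 5 3 = [] := by decide +kernel
  have hw : chevB2.commWord K 5 3 t u = [] := by
    unfold ChevalleyDatum.commWord
    rw [ht]
    rfl
  rw [hw]
  apply O5_ext
  intro v
  simp only [wS_cons, wS_nil, gv_mul, gv_X5, gv_one]
  simp only [LX]
  apply ext5 <;> simp <;> ring

theorem comm_5_4 (t u : K) : X5 K 4 u * X5 K 5 t =
    X5 K 5 t * X5 K 4 u * wS (X5 K) (chevB2.commWord K 5 4 t u) := by
  have ht : chevB2.commTerms 5 4 = [(6, -1, 1, 1), (7, -1, 2, 1)] := by decide +kernel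
  have hw : chevB2.commWord K 5 4 t u = [(6, (((-1 : ℤ)) : K) * (-t) ^ 1 * u ^ 1), (7, (((-1 : ℤ)) : K) * (-t) ^ 2 * u ^ 1)] := by
    unfold ChevalleyDatum.commWord
    rw [ht]
    rfl
  rw [hw]
  apply O5_ext
  intro v
  simp only [wS_cons, wS_nil, gv_mul, gv_X5, gv_one]
  simp only [LX]
  apply ext5 <;> simp <;> ring

theorem comm_5_6 (t u : K) : X5 K 6 u * X5 K 5 t =
    X5 K 5 t * X5 K 6 u * wS (X5 K) (chevB2.commWord K 5 6 t u) := by
  have ht : chevB2.commTerms 5 6 = [(7, 2, 1, 1)] := by decide +kernel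
  have hw : chevB2.commWord K 5 6 t u = [(7, (((2 : ℤ)) : K) * (-t) ^ 1 * u ^ 1)] := by
    unfold ChevalleyDatum.commWord
    rw [ht]
    rfl
  rw [hw]
  apply O5_ext
  intro v
  simp only [wS_cons, wS_nil, gv_mul, gv_X5, gv_one]
  simp only [LX]
  apply ext5 <;> simp <;> ring

theorem comm_5_7 (t u : K) : X5 K 7 u * X5 K 5 t =
    X5 K 5 t * X5 K 7 u * wS (X5 K) (chevB2.commWord K 5 7 t u) := by
  have ht : chevB2.commTerms 5 7 = [] := by decide +kernel
  have hw : chevB2.commWord K 5 7 t u = [] := by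
    unfold ChevalleyDatum.commWord
    rw [ht]
    rfl
  rw [hw]
  apply O5_ext
  intro v
  simp only [wS_cons, wS_nil, gv_mul, gv_X5, gv_one]
  simp only [LX]
  apply ext5 <;> simp <;> ring

theorem comm_6_0 (t u : K) : X5 K 0 u * X5 K 6 t =
    X5 K 6 t * X5 K 0 u * wS (X5 K) (chevB2.commWord K 6 0 t u) := by
  have ht : chevB2.commTerms 6 0 = [(2, 1, 1, 1), (4, 1, 2, 1)] := by decide +kernel
  have hw : chevB2.commWord K 6 0 t u = [(2, (((1 : ℤ)) : K) * (-t) ^ 1 * u ^ 1), (4, (((1 : ℤ)) : K) * (-t) ^ 2 * u ^ 1)] := by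
    unfold ChevalleyDatum.commWord
    rw [ht]
    rfl
  rw [hw]
  apply O5_ext
  intro v
  simp only [wS_cons, wS_nil, gv_mul, gv_X5, gv_one]
  simp only [LX]
  apply ext5 <;> simp <;> ring

theorem comm_6_2 (t u : K) : X5 K 2 u * X5 K 6 t =
    X5 K 6 t * X5 K 2 u * wS (X5 K) (chevB2.commWord K 6 2 t u) := by
  have ht : chevB2.commTerms 6 2 = [(4, 2, 1, 1)] := by decide +kernel
  have hw : chevB2.commWord K 6 2 t u = [(4, (((2 : ℤ)) : K) * (-t) ^ 1 * u ^ 1)] := by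
    unfold ChevalleyDatum.commWord
    rw [ht]
    rfl
  rw [hw]
  apply O5_ext
  intro v
  simp only [wS_cons, wS_nil, gv_mul, gv_X5, gv_one]
  simp only [LX]
  apply ext5 <;> simp <;> ring

theorem comm_6_3 (t u : K) : X5 K 3 u * X5 K 6 t =
    X5 K 6 t * X5 K 3 u * wS (X5 K) (chevB2.commWord K 6 3 t u) := by
  have ht : chevB2.commTerms 6 3 = [(5, -1, 1, 1), (7, 1, 2, 1)] := by decide +kernel
  have hw : chevB2.commWord K 6 3 t u = [(5, (((-1 : ℤ)) : K) * (-t) ^ 1 * u ^ 1), (7, (((1 : ℤ)) : K) * (-t) ^ 2 * u ^ 1)] := by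
    unfold ChevalleyDatum.commWord
    rw [ht]
    rfl
  rw [hw]
  apply O5_ext
  intro v
  simp only [wS_cons, wS_nil, gv_mul, gv_X5, gv_one]
  simp only [LX]
  apply ext5 <;> simp <;> ring

theorem comm_6_4 (t u : K) : X5 K 4 u * X5 K 6 t =
    X5 K 6 t * X5 K 4 u * wS (X5 K) (chevB2.commWord K 6 4 t u) := by
  have ht : chevB2.commTerms 6 4 = [] := by decide +kernel
  have hw : chevB2.commWord K 6 4 t u = [] := by
    unfold ChevalleyDatum.commWord
    rw [ht]
    rfl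
  rw [hw]
  apply O5_ext
  intro v
  simp only [wS_cons, wS_nil, gv_mul, gv_X5, gv_one]
  simp only [LX]
  apply ext5 <;> simp <;> ring

theorem comm_6_5 (t u : K) : X5 K 5 u * X5 K 6 t =
    X5 K 6 t * X5 K 5 u * wS (X5 K) (chevB2.commWord K 6 5 t u) := by
  have ht : chevB2.commTerms 6 5 = [(7, -2, 1, 1)] := by decide +kernel
  have hw : chevB2.commWord K 6 5 t u = [(7, (((-2 : ℤ)) : K) * (-t) ^ 1 * u ^ 1)] := by
    unfold ChevalleyDatum.commWord
    rw [ht]
    rfl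
  rw [hw]
  apply O5_ext
  intro v
  simp only [wS_cons, wS_nil, gv_mul, gv_X5, gv_one]
  simp only [LX]
  apply ext5 <;> simp <;> ring

theorem comm_6_7 (t u : K) : X5 K 7 u * X5 K 6 t =
    X5 K 6 t * X5 K 7 u * wS (X5 K) (chevB2.commWord K 6 7 t u) := by
  have ht : chevB2.commTerms 6 7 = [] := by decide +kernel
  have hw : chevB2.commWord K 6 7 t u = [] := by
    unfold ChevalleyDatum.commWord
    rw [ht]
    rfl
  rw [hw]
  apply O5_ext
  intro v
  simp only [wS_cons, wS_nil, gv_mul, gv_X5, gv_one]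
  simp only [LX]
  apply ext5 <;> simp <;> ring

theorem comm_7_1 (t u : K) : X5 K 1 u * X5 K 7 t =
    X5 K 7 t * X5 K 1 u * wS (X5 K) (chevB2.commWord K 7 1 t u) := by
  have ht : chevB2.commTerms 7 1 = [(5, 1, 1, 1), (3, 1, 1, 2)] := by decide +kernel
  have hw : chevB2.commWord K 7 1 t u = [(5, (((1 : ℤ)) : K) * (-t) ^ 1 * u ^ 1), (3, (((1 : ℤ)) : K) * (-t) ^ 1 * u ^ 2)] := by
    unfold ChevalleyDatum.commWord
    rw [ht]
    rfl
  rw [hw]
  apply O5_ext
  intro v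
  simp only [wS_cons, wS_nil, gv_mul, gv_X5, gv_one]
  simp only [LX]
  apply ext5 <;> simp <;> ring

theorem comm_7_2 (t u : K) : X5 K 2 u * X5 K 7 t =
    X5 K 7 t * X5 K 2 u * wS (X5 K) (chevB2.commWord K 7 2 t u) := by
  have ht : chevB2.commTerms 7 2 = [(6, -1, 1, 1), (4, -1, 1, 2)] := by decide +kernel
  have hw : chevB2.commWord K 7 2 t u = [(6, (((-1 : ℤ)) : K) * (-t) ^ 1 * u ^ 1), (4, (((-1 : ℤ)) : K) * (-t) ^ 1 * u ^ 2)] := by
    unfold ChevalleyDatum.commWord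
    rw [ht]
    rfl
  rw [hw]
  apply O5_ext
  intro v
  simp only [wS_cons, wS_nil, gv_mul, gv_X5, gv_one]
  simp only [LX]
  apply ext5 <;> simp <;> ring

theorem comm_7_3 (t u : K) : X5 K 3 u * X5 K 7 t =
    X5 K 7 t * X5 K 3 u * wS (X5 K) (chevB2.commWord K 7 3 t u) := by
  have ht : chevB2.commTerms 7 3 = [] := by decide +kernel
  have hw : chevB2.commWord K 7 3 t u = [] := by
    unfold ChevalleyDatum.commWord
    rw [ht]
    rfl
  rw [hw]
  apply O5_ext
  intro v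
  simp only [wS_cons, wS_nil, gv_mul, gv_X5, gv_one]
  simp only [LX]
  apply ext5 <;> simp <;> ring

theorem comm_7_4 (t u : K) : X5 K 4 u * X5 K 7 t =
    X5 K 7 t * X5 K 4 u * wS (X5 K) (chevB2.commWord K 7 4 t u) := by
  have ht : chevB2.commTerms 7 4 = [] := by decide +kernel
  have hw : chevB2.commWord K 7 4 t u = [] := by
    unfold ChevalleyDatum.commWord
    rw [ht]
    rfl
  rw [hw]
  apply O5_ext
  intro v
  simp only [wS_cons, wS_nil, gv_mul, gv_X5, gv_one]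
  simp only [LX]
  apply ext5 <;> simp <;> ring

theorem comm_7_5 (t u : K) : X5 K 5 u * X5 K 7 t =
    X5 K 7 t * X5 K 5 u * wS (X5 K) (chevB2.commWord K 7 5 t u) := by
  have ht : chevB2.commTerms 7 5 = [] := by decide +kernel
  have hw : chevB2.commWord K 7 5 t u = [] := by
    unfold ChevalleyDatum.commWord
    rw [ht]
    rfl
  rw [hw]
  apply O5_ext
  intro v
  simp only [wS_cons, wS_nil, gv_mul, gv_X5, gv_one]
  simp only [LX]
  apply ext5 <;> simp <;> ring

theorem comm_7_6 (t u : K) : X5 K 6 u * X5 K 7 t =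
    X5 K 7 t * X5 K 6 u * wS (X5 K) (chevB2.commWord K 7 6 t u) := by
  have ht : chevB2.commTerms 7 6 = [] := by decide +kernel
  have hw : chevB2.commWord K 7 6 t u = [] := by
    unfold ChevalleyDatum.commWord
    rw [ht]
    rfl
  rw [hw]
  apply O5_ext
  intro v
  simp only [wS_cons, wS_nil, gv_mul, gv_X5, gv_one]
  simp only [LX]
  apply ext5 <;> simp <;> ring

/-- Steinberg's commutator relation (R2) -/
theorem X5_comm {r s : ℕ} (hr : r < 8) (hs : s < 8) (h1 : s ≠ r) (h2 : s ≠ chevB2.neg r)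
    (t u : K) :
    X5 K s u * X5 K r t = X5 K r t * X5 K s u * wS (X5 K) (chevB2.commWord K r s t u) := by
  interval_cases r <;> interval_cases s
  · exact absurd rfl h1
  · exact comm_0_1 t u
  · exact comm_0_2 t u
  · exact comm_0_3 t u
  · exact comm_0_4 t u
  · exact comm_0_5 t u
  · exact comm_0_6 t u
  · exact absurd (by decide +kernel) h2
  · exact comm_1_0 t u
  · exact absurd rfl h1
  · exact comm_1_2 t u
  · exact comm_1_3 t u
  · exact comm_1_4 t u
  · exact comm_1_5 t u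
  · exact absurd (by decide +kernel) h2
  · exact comm_1_7 t u
  · exact comm_2_0 t u
  · exact comm_2_1 t u
  · exact absurd rfl h1
  · exact comm_2_3 t u
  · exact comm_2_4 t u
  · exact absurd (by decide +kernel) h2
  · exact comm_2_6 t u
  · exact comm_2_7 t u
  · exact comm_3_0 t u
  · exact comm_3_1 t u
  · exact comm_3_2 t u
  · exact absurd rfl h1
  · exact absurd (by decide +kernel) h2
  · exact comm_3_5 t u
  · exact comm_3_6 t u
  · exact comm_3_7 t u
  · exact comm_4_0 t u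
  · exact comm_4_1 t u
  · exact comm_4_2 t u
  · exact absurd (by decide +kernel) h2
  · exact absurd rfl h1
  · exact comm_4_5 t u
  · exact comm_4_6 t u
  · exact comm_4_7 t u
  · exact comm_5_0 t u
  · exact comm_5_1 t u
  · exact absurd (by decide +kernel) h2
  · exact comm_5_3 t u
  · exact comm_5_4 t u
  · exact absurd rfl h1
  · exact comm_5_6 t u
  · exact comm_5_7 t u
  · exact comm_6_0 t u
  · exact absurd (by decide +kernel) h2
  · exact comm_6_2 t u
  · exact comm_6_3 t u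
  · exact comm_6_4 t u
  · exact comm_6_5 t u
  · exact absurd rfl h1
  · exact comm_6_7 t u
  · exact absurd (by decide +kernel) h2
  · exact comm_7_1 t u
  · exact comm_7_2 t u
  · exact comm_7_3 t u
  · exact comm_7_4 t u
  · exact comm_7_5 t u
  · exact comm_7_6 t u
  · exact absurd rfl h1

end Cfsg.Agent.Lib.Helper8.Orth5
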