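import Mathlib
import Cfsg.Agent.Lib.Helper8.Orth5B

/-!
# The orthogonal group of `x₀² + x₁y₁ + x₂y₂`: moving vectors by root elements (helper8)
-/

set_option autoImplicit false
set_option linter.unusedSectionVars false
set_option linter.unusedSimpArgs false
set_option linter.unnecessarySeqFocus false

namespace Cfsg.Agent.Lib.Helper8.Orth5

open Matrix Cfsg.Lie Cfsg.Agent.Lib.Helper8.Chev

variable {K : Type*} [Field K]

/-- the polar form -/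
def B5 (u v : I5 → K) : K :=
  2 * u iz * v iz + u (ie 0) * v (jf 0) + u (jf 0) * v (ie 0) + u (ie 1) * v (jf 1) +
    u (jf 1) * v (ie 1)

theorem B5_eq (u v : I5 → K) :
    B5 u v = Cfsg.quadFormOdd 2 K (u + v) - Cfsg.quadFormOdd 2 K u - Cfsg.quadFormOdd 2 K v := by
  simp only [quadFormOdd_eq, Pi.add_apply, B5]
  ring

theorem B5_gv (g : O5 K) (u v : I5 → K) : B5 (gv g u) (gv g v) = B5 u v := by
  rw [B5_eq, B5_eq, ← gv_add, Q_gv, Q_gv, Q_gv]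

/-- the subgroup generated by the root elements -/
def E5 (K : Type*) [Field K] : Subgroup (O5 K) :=
  Subgroup.closure {g | ∃ (r : ℕ) (t : K), g = X5 K r t}

theorem X5_mem (r : ℕ) (t : K) : X5 K r t ∈ E5 K := Subgroup.subset_closure ⟨r, t, rfl⟩

/-- making one of the coordinates `e₂`, `f₂` non-zero -/
theorem pivot5 (v : I5 → K) (hv : v ≠ 0) (hQ : Cfsg.quadFormOdd 2 K v = 0) :
    ∃ h ∈ E5 K, gv h v (ie 1) ≠ 0 ∨ gv h v (jf 1) ≠ 0 := by
  by_cases h1 : v (ie 1) ≠ 0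
  · exact ⟨1, one_mem _, Or.inl (by rwa [gv_one])⟩
  by_cases h2 : v (jf 1) ≠ 0
  · exact ⟨1, one_mem _, Or.inr (by rwa [gv_one])⟩
  rw [not_not] at h1 h2
  by_cases h3 : v (ie 0) ≠ 0
  · refine ⟨X5 K 3 1, X5_mem _ _, Or.inl ?_⟩
    rw [gv_X5]
    simp only [LX, mk5_e1, h1, one_mul, zero_add]
    exact h3
  by_cases h4 : v (jf 0) ≠ 0
  · refine ⟨X5 K 4 1, X5_mem _ _, Or.inr ?_⟩
    rw [gv_X5]
    simp only [LX, mk5_f1, h2, one_mul, zero_sub]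
    exact neg_ne_zero.mpr h4
  rw [not_not] at h3 h4
  exfalso
  apply hv
  rw [quadFormOdd_eq, h1, h2, h3, h4] at hQ
  have h0 : v iz = 0 := by
    have : v iz ^ 2 = 0 := by linear_combination hQ
    exact pow_eq_zero_iff (two_ne_zero) |>.mp this
  apply ext5 <;> simp [h0, h1, h2, h3, h4]

/-- clearing a singular vector with `e₁`-coordinate one -/
theorem clear_e1 (u : I5 → K) (h1 : u (ie 0) = 1) (hQ : Cfsg.quadFormOdd 2 K u = 0) :
    gv (X5 K 0 (-u (jf 1)) * X5 K 3 (-u (ie 1)) * X5 K 1 (-u iz)) u = mk5 0 1 0 0 0 := by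
  rw [quadFormOdd_eq, h1, one_mul] at hQ
  have hd : u (jf 0) = -(u iz ^ 2) - u (ie 1) * u (jf 1) := by linear_combination hQ
  simp only [gv_mul, gv_X5, LX]
  apply ext5 <;> simp [h1, hd] <;> ring

/-- the root elements are transitive on the non-zero singular vectors -/
theorem trans5 (v : I5 → K) (hv : v ≠ 0) (hQ : Cfsg.quadFormOdd 2 K v = 0) :
    ∃ h ∈ E5 K, gv h v = mk5 0 1 0 0 0 := by
  obtain ⟨h₁, hh₁, hp⟩ := pivot5 v hv hQ
  obtain ⟨w, hw⟩ : ∃ w, w = gv h₁ v := ⟨_, rfl⟩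
  rw [← hw] at hp
  have hQw : Cfsg.quadFormOdd 2 K w = 0 := by rw [hw, Q_gv]; exact hQ
  obtain ⟨h₂, hh₂, he⟩ : ∃ h₂ ∈ E5 K, gv h₂ w (ie 0) = 1 := by
    rcases hp with hp | hp
    · refine ⟨X5 K 4 ((1 - w (ie 0)) / w (ie 1)), X5_mem _ _, ?_⟩
      rw [gv_X5]
      simp only [LX, mk5_e0]
      field_simp
      ring
    · refine ⟨X5 K 7 ((1 - w (ie 0)) / w (jf 1)), X5_mem _ _, ?_⟩
      rw [gv_X5]
      simp only [LX, mk5_e0]
      field_simp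
      ring
  obtain ⟨u, hu⟩ : ∃ u, u = gv h₂ w := ⟨_, rfl⟩
  rw [← hu] at he
  have hQu : Cfsg.quadFormOdd 2 K u = 0 := by rw [hu, Q_gv]; exact hQw
  refine ⟨X5 K 0 (-u (jf 1)) * X5 K 3 (-u (ie 1)) * X5 K 1 (-u iz) * h₂ * h₁,
    mul_mem (mul_mem (mul_mem (mul_mem (X5_mem _ _) (X5_mem _ _)) (X5_mem _ _)) hh₂) hh₁, ?_⟩
  rw [gv_mul, gv_mul _ h₂, ← hw, ← hu]
  exact clear_e1 u he hQu

/-- moving the partner of `e₁` to `f₁` -/
theorem partner5 (w : I5 → K) (h1 : w (jf 0) = 1) (hQ : Cfsg.quadFormOdd 2 K w = 0) :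
    ∃ h ∈ E5 K, gv h (mk5 0 1 0 0 0) = mk5 0 1 0 0 0 ∧ gv h w = mk5 0 0 0 1 0 := by
  rw [quadFormOdd_eq, h1, mul_one] at hQ
  have hd : w (ie 0) = -(w iz ^ 2) - w (ie 1) * w (jf 1) := by linear_combination hQ
  refine ⟨X5 K 7 (w (ie 1)) * X5 K 4 (w (jf 1)) * X5 K 6 (w iz),
    mul_mem (mul_mem (X5_mem _ _) (X5_mem _ _)) (X5_mem _ _), ?_, ?_⟩
  · simp only [gv_mul, gv_X5, LX]
    apply ext5 <;> simp
  · simp only [gv_mul, gv_X5, LX]
    apply ext5 <;> simp [h1, hd] <;> ring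

/-- the elementary subgroup fixing `e₁` and `f₁` -/
def F1 (K : Type*) [Field K] : Subgroup (O5 K) where
  carrier := {h | h ∈ E5 K ∧ gv h (mk5 0 1 0 0 0) = mk5 0 1 0 0 0 ∧
    gv h (mk5 0 0 0 1 0) = mk5 0 0 0 1 0}
  mul_mem' := by
    rintro a b ⟨ha, ha1, ha2⟩ ⟨hb, hb1, hb2⟩
    exact ⟨mul_mem ha hb, by rw [gv_mul, hb1, ha1], by rw [gv_mul, hb2, ha2]⟩
  one_mem' := ⟨one_mem _, gv_one _, gv_one _⟩
  inv_mem' := by
    rintro a ⟨ha, ha1, ha2⟩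
    refine ⟨inv_mem ha, ?_, ?_⟩
    · conv_lhs => rw [← ha1]
      exact gv_inv_gv a _
    · conv_lhs => rw [← ha2]
      exact gv_inv_gv a _

theorem X5_5_mem_F1 (t : K) : X5 K 5 t ∈ F1 K := by
  refine ⟨X5_mem _ _, ?_, ?_⟩
  · simp only [gv_X5, LX]
    apply ext5 <;> simp
  · simp only [gv_X5, LX]
    apply ext5 <;> simp

theorem X5_2_mem_F1 (t : K) : X5 K 2 t ∈ F1 K := by
  refine ⟨X5_mem _ _, ?_, ?_⟩
  · simp only [gv_X5, LX]
    apply ext5 <;> simp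
  · simp only [gv_X5, LX]
    apply ext5 <;> simp

/-- killing the `z`-coordinate in the three-dimensional space -/
theorem kill_z (v : I5 → K) (he0 : v (ie 0) = 0) (hf0 : v (jf 0) = 0)
    (hQ : Cfsg.quadFormOdd 2 K v = 0) (h2 : v (jf 1) ≠ 0) :
    gv (X5 K 5 (v iz / v (jf 1))) v = mk5 0 0 0 0 (v (jf 1)) := by
  rw [quadFormOdd_eq, he0, hf0] at hQ
  have hb : v (ie 1) = -(v iz ^ 2) / v (jf 1) := by
    rw [eq_div_iff h2]
    linear_combination hQ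
  simp only [gv_X5, LX]
  apply ext5 <;> simp [he0, hf0, hb] <;> field_simp <;> ring

/-- in the three-dimensional space the singular vectors are moved to multiples of `e₂` -/
theorem three_a (v : I5 → K) (he0 : v (ie 0) = 0) (hf0 : v (jf 0) = 0)
    (hQ : Cfsg.quadFormOdd 2 K v = 0) (hv : v ≠ 0) :
    ∃ h ∈ F1 K, ∃ c : K, c ≠ 0 ∧ gv h v = mk5 0 0 c 0 0 := by
  by_cases h2 : v (jf 1) = 0
  · have hz : v iz = 0 := by
      rw [quadFormOdd_eq, he0, hf0, h2] at hQ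
      have : v iz ^ 2 = 0 := by linear_combination hQ
      exact pow_eq_zero_iff (two_ne_zero) |>.mp this
    refine ⟨1, one_mem _, v (ie 1), ?_, ?_⟩
    · intro hc
      apply hv
      apply ext5 <;> simp [he0, hf0, h2, hz, hc]
    · rw [gv_one]
      apply ext5 <;> simp [he0, hf0, h2, hz]
  · refine ⟨X5 K 2 (-1) * X5 K 5 1 * X5 K 5 (v iz / v (jf 1)),
      mul_mem (mul_mem (X5_2_mem_F1 _) (X5_5_mem_F1 _)) (X5_5_mem_F1 _), -v (jf 1),
      neg_ne_zero.mpr h2, ?_⟩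
    rw [gv_mul, kill_z v he0 hf0 hQ h2]
    simp only [gv_mul, gv_X5, LX]
    apply ext5 <;> simp <;> ring

end Cfsg.Agent.Lib.Helper8.Orth5
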