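import Mathlib
import Cfsg.Agent.Lib.Helper8.Orth5C

/-!
# The orthogonal group of `x₀² + x₁y₁ + x₂y₂`: the stabiliser chain (helper8)
-/

set_option autoImplicit false
set_option linter.unusedSectionVars false
set_option linter.unusedSimpArgs false
set_option linter.unnecessarySeqFocus false

namespace Cfsg.Agent.Lib.Helper8.Orth5

open Matrix Cfsg.Lie Cfsg.Agent.Lib.Helper8.Chev

variable {K : Type*} [Field K]

theorem diag_mulVec (a b c d e : K) (v : I5 → K) :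
    Matrix.diagonal (mk5 a b c d e) *ᵥ v =
      mk5 (a * v iz) (b * v (ie 0)) (c * v (ie 1)) (d * v (jf 0)) (e * v (jf 1)) := by
  apply ext5 <;> simp [Matrix.mulVec_diagonal]

theorem diag_mul_diag (a b c d e a' b' c' d' e' : K) (h0 : a * a' = 1) (h1 : b * b' = 1)
    (h2 : c * c' = 1) (h3 : d * d' = 1) (h4 : e * e' = 1) :
    Matrix.diagonal (mk5 a b c d e) * Matrix.diagonal (mk5 a' b' c' d' e') = 1 := by
  apply mat_ext5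
  intro v
  rw [← Matrix.mulVec_mulVec, diag_mulVec, diag_mulVec, Matrix.one_mulVec]
  apply ext5 <;> simp [← mul_assoc, h0, h1, h2, h3, h4]

/-- the diagonal isometries -/
def dgO5 (x c₁ c₂ : K) (hx : x * x = 1) (h1 : c₁ ≠ 0) (h2 : c₂ ≠ 0) : O5 K :=
  mkO (Matrix.diagonal (mk5 x c₁ c₂ c₁⁻¹ c₂⁻¹)) (Matrix.diagonal (mk5 x c₁⁻¹ c₂⁻¹ c₁ c₂))
    (diag_mul_diag _ _ _ _ _ _ _ _ _ _ hx (mul_inv_cancel₀ h1) (mul_inv_cancel₀ h2)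
      (inv_mul_cancel₀ h1) (inv_mul_cancel₀ h2))
    (diag_mul_diag _ _ _ _ _ _ _ _ _ _ hx (inv_mul_cancel₀ h1) (inv_mul_cancel₀ h2)
      (mul_inv_cancel₀ h1) (mul_inv_cancel₀ h2))
    (fun v => by
      rw [diag_mulVec, quadFormOdd_eq, quadFormOdd_eq]
      simp only [mk5_z, mk5_e0, mk5_e1, mk5_f0, mk5_f1]
      have e0 : (x * v iz) ^ 2 = v iz ^ 2 := by
        rw [mul_pow, pow_two x, hx, one_mul]
      rw [e0]
      field_simp)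

theorem gv_dgO5 (x c₁ c₂ : K) (hx : x * x = 1) (h1 : c₁ ≠ 0) (h2 : c₂ ≠ 0) (v : I5 → K) :
    gv (dgO5 x c₁ c₂ hx h1 h2) v =
      mk5 (x * v iz) (c₁ * v (ie 0)) (c₂ * v (ie 1)) (c₁⁻¹ * v (jf 0)) (c₂⁻¹ * v (jf 1)) :=
  diag_mulVec _ _ _ _ _ v

/-- the characters by which the diagonal elements act on the root subgroups -/
def chi5 (x c₁ c₂ : K) (r : ℕ) : K :=
  match r with
  | 0 => c₁⁻¹ * c₂⁻¹
  | 1 => x * c₁⁻¹
  | 2 => x * c₂⁻¹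
  | 3 => c₂ * c₁⁻¹
  | 4 => c₁ * c₂⁻¹
  | 5 => x * c₂
  | 6 => x * c₁
  | 7 => c₁ * c₂
  | _ => 1

theorem dgO5_conj (x c₁ c₂ : K) (hx : x * x = 1) (h1 : c₁ ≠ 0) (h2 : c₂ ≠ 0) (r : ℕ) (t : K) :
    dgO5 x c₁ c₂ hx h1 h2 * X5 K r t =
      X5 K r (chi5 x c₁ c₂ r * t) * dgO5 x c₁ c₂ hx h1 h2 := by
  have hx' : x = 1 ∨ x = -1 := mul_self_eq_one_iff.mp hx
  apply O5_ext
  intro v
  rw [gv_mul, gv_mul, gv_dgO5, gv_dgO5, gv_X5, gv_X5]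
  rcases hx' with rfl | rfl <;>
  rcases r with _ | _ | _ | _ | _ | _ | _ | _ | r
  all_goals
    simp only [LX, chi5]
    try (apply ext5 <;> simp <;> field_simp <;> ring)

theorem dgO5_mul (x c₁ c₂ : K) (hx : x * x = 1) (h1 : c₁ ≠ 0) (h2 : c₂ ≠ 0)
    (x' c₁' c₂' : K) (hx' : x' * x' = 1) (h1' : c₁' ≠ 0) (h2' : c₂' ≠ 0) :
    dgO5 x c₁ c₂ hx h1 h2 * dgO5 x' c₁' c₂' hx' h1' h2' =
      dgO5 x' c₁' c₂' hx' h1' h2' * dgO5 x c₁ c₂ hx h1 h2 := by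
  apply O5_ext
  intro v
  rw [gv_mul, gv_mul, gv_dgO5, gv_dgO5, gv_dgO5, gv_dgO5]
  apply ext5 <;> simp <;> ring

/-- the coordinates of the vectors fixed by an isometry fixing `e₁` and `f₁` -/
theorem coords_of_fix (g : O5 K) (h1 : gv g (mk5 0 1 0 0 0) = mk5 0 1 0 0 0)
    (h2 : gv g (mk5 0 0 0 1 0) = mk5 0 0 0 1 0) (x : I5 → K) :
    gv g x (ie 0) = x (ie 0) ∧ gv g x (jf 0) = x (jf 0) := by
  constructor
  · have := B5_gv g x (mk5 0 0 0 1 0)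
    rw [h2] at this
    simpa [B5] using this
  · have := B5_gv g x (mk5 0 1 0 0 0)
    rw [h1] at this
    simpa [B5] using this

theorem gv_expand (g : O5 K) (v : I5 → K) :
    gv g v = v iz • gv g (mk5 1 0 0 0 0) + v (ie 0) • gv g (mk5 0 1 0 0 0) +
      v (ie 1) • gv g (mk5 0 0 1 0 0) + v (jf 0) • gv g (mk5 0 0 0 1 0) +
      v (jf 1) • gv g (mk5 0 0 0 0 1) := by
  rw [← gv_smul, ← gv_smul, ← gv_smul, ← gv_smul, ← gv_smul, ← gv_add, ← gv_add, ← gv_add,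
    ← gv_add]
  congr 1
  apply ext5 <;> simp

/-- an isometry acting diagonally on the standard basis is diagonal -/
theorem diag_of_fix (g : O5 K) (h1 : gv g (mk5 0 1 0 0 0) = mk5 0 1 0 0 0)
    (h2 : gv g (mk5 0 0 0 1 0) = mk5 0 0 0 1 0) (c d : K)
    (h3 : gv g (mk5 0 0 1 0 0) = mk5 0 0 c 0 0) (h4 : gv g (mk5 0 0 0 0 1) = mk5 0 0 0 0 d) :
    ∃ (x : K) (hx : x * x = 1) (hc : c ≠ 0), g = dgO5 x 1 c hx one_ne_zero hc := by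
  have hcd : c * d = 1 := by
    have := B5_gv g (mk5 0 0 1 0 0) (mk5 0 0 0 0 1)
    rw [h3, h4] at this
    simpa [B5] using this
  have hc : c ≠ 0 := left_ne_zero_of_mul_eq_one hcd
  have hd : d ≠ 0 := right_ne_zero_of_mul_eq_one hcd
  have hdc : d = c⁻¹ := eq_inv_of_mul_eq_one_right hcd
  obtain ⟨u, hu⟩ : ∃ u, u = gv g (mk5 1 0 0 0 0) := ⟨_, rfl⟩
  have u1 : u (jf 0) = 0 := by
    have := B5_gv g (mk5 1 0 0 0 0) (mk5 0 1 0 0 0)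
    rw [h1, ← hu] at this
    simpa [B5] using this
  have u2 : u (ie 0) = 0 := by
    have := B5_gv g (mk5 1 0 0 0 0) (mk5 0 0 0 1 0)
    rw [h2, ← hu] at this
    simpa [B5] using this
  have u3 : u (jf 1) = 0 := by
    have := B5_gv g (mk5 1 0 0 0 0) (mk5 0 0 1 0 0)
    rw [h3, ← hu] at this
    have h' : u (jf 1) * c = 0 := by simpa [B5] using this
    exact (mul_eq_zero.mp h').resolve_right hc
  have u4 : u (ie 1) = 0 := by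
    have := B5_gv g (mk5 1 0 0 0 0) (mk5 0 0 0 0 1)
    rw [h4, ← hu] at this
    have h' : u (ie 1) * d = 0 := by simpa [B5] using this
    exact (mul_eq_zero.mp h').resolve_right hd
  have u0 : u iz * u iz = 1 := by
    have := Q_gv g (mk5 1 0 0 0 0)
    rw [← hu, quadFormOdd_eq, quadFormOdd_eq, u1, u2, u3, u4] at this
    simp only [mk5_z, mk5_e0, mk5_e1, mk5_f0, mk5_f1, mul_zero, add_zero, one_pow, zero_mul]
      at this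
    rw [← pow_two]
    exact this
  refine ⟨u iz, u0, hc, ?_⟩
  apply O5_ext
  intro v
  rw [gv_expand g v, ← hu, h1, h2, h3, h4, gv_dgO5]
  apply ext5 <;> simp [u1, u2, u3, u4, hdc] <;> ring

/-- every isometry is a product of root elements and a diagonal element -/
theorem exists_form5 (g : O5 K) :
    ∃ h ∈ E5 K, ∃ (x c : K) (hx : x * x = 1) (hc : c ≠ 0),
      g = h * dgO5 x 1 c hx one_ne_zero hc := by
  -- first step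
  have hne : gv g (mk5 0 1 0 0 0) ≠ 0 := by
    apply gv_ne_zero
    intro h
    have := congrFun h (ie 0)
    simp at this
  have hQ1 : Cfsg.quadFormOdd 2 K (gv g (mk5 0 1 0 0 0)) = 0 := by
    rw [Q_gv, quadFormOdd_eq]
    simp
  obtain ⟨h₁, hh₁, e₁⟩ := trans5 _ hne hQ1
  rw [← gv_mul] at e₁
  -- second step
  have hw1 : gv (h₁ * g) (mk5 0 0 0 1 0) (jf 0) = 1 := by
    have := B5_gv (h₁ * g) (mk5 0 0 0 1 0) (mk5 0 1 0 0 0)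
    rw [e₁] at this
    simpa [B5] using this
  have hQ2 : Cfsg.quadFormOdd 2 K (gv (h₁ * g) (mk5 0 0 0 1 0)) = 0 := by
    rw [Q_gv, quadFormOdd_eq]
    simp
  obtain ⟨h₂, hh₂, e₂, e₂'⟩ := partner5 _ hw1 hQ2
  rw [← gv_mul] at e₂'
  have e₂'' : gv (h₂ * (h₁ * g)) (mk5 0 1 0 0 0) = mk5 0 1 0 0 0 := by
    rw [gv_mul, e₁, e₂]
  -- third step
  obtain ⟨g₂, hg₂⟩ : ∃ g₂, g₂ = h₂ * (h₁ * g) := ⟨_, rfl⟩
  rw [← hg₂] at e₂' e₂''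
  have hv3 := coords_of_fix g₂ e₂'' e₂' (mk5 0 0 1 0 0)
  have hne3 : gv g₂ (mk5 0 0 1 0 0) ≠ 0 := by
    apply gv_ne_zero
    intro h
    have := congrFun h (ie 1)
    simp at this
  have hQ3 : Cfsg.quadFormOdd 2 K (gv g₂ (mk5 0 0 1 0 0)) = 0 := by
    rw [Q_gv, quadFormOdd_eq]
    simp
  obtain ⟨h₃, ⟨hh₃, f₃, f₃'⟩, c, hc, e₃⟩ := three_a _ (by simpa using hv3.1) (by simpa using hv3.2)
    hQ3 hne3
  rw [← gv_mul] at e₃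
  obtain ⟨g₃, hg₃⟩ : ∃ g₃, g₃ = h₃ * g₂ := ⟨_, rfl⟩
  rw [← hg₃] at e₃
  have a₃ : gv g₃ (mk5 0 1 0 0 0) = mk5 0 1 0 0 0 := by rw [hg₃, gv_mul, e₂'', f₃]
  have b₃ : gv g₃ (mk5 0 0 0 1 0) = mk5 0 0 0 1 0 := by rw [hg₃, gv_mul, e₂', f₃']
  -- fourth step
  have hv4 := coords_of_fix g₃ a₃ b₃ (mk5 0 0 0 0 1)
  have hQ4 : Cfsg.quadFormOdd 2 K (gv g₃ (mk5 0 0 0 0 1)) = 0 := by
    rw [Q_gv, quadFormOdd_eq]
    simp
  have hw4 : c * gv g₃ (mk5 0 0 0 0 1) (jf 1) = 1 := by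
    have := B5_gv g₃ (mk5 0 0 1 0 0) (mk5 0 0 0 0 1)
    rw [e₃] at this
    simpa [B5] using this
  have hw4' : gv g₃ (mk5 0 0 0 0 1) (jf 1) ≠ 0 := right_ne_zero_of_mul_eq_one hw4
  obtain ⟨w, hw⟩ : ∃ w, w = gv g₃ (mk5 0 0 0 0 1) := ⟨_, rfl⟩
  rw [← hw] at hv4 hQ4 hw4 hw4'
  have e₄ := kill_z w (by simpa using hv4.1) (by simpa using hv4.2) hQ4 hw4'
  obtain ⟨hh₄, f₄, f₄'⟩ := X5_5_mem_F1 (w iz / w (jf 1))
  obtain ⟨h₄, hh4⟩ : ∃ h₄, h₄ = X5 K 5 (w iz / w (jf 1)) := ⟨_, rfl⟩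
  rw [← hh4] at e₄ hh₄ f₄ f₄'
  have c₄ : gv h₄ (mk5 0 0 c 0 0) = mk5 0 0 c 0 0 := by
    rw [hh4]
    simp only [gv_X5, LX]
    apply ext5 <;> simp
  have a₄ : gv (h₄ * g₃) (mk5 0 1 0 0 0) = mk5 0 1 0 0 0 := by rw [gv_mul, a₃, f₄]
  have b₄ : gv (h₄ * g₃) (mk5 0 0 0 1 0) = mk5 0 0 0 1 0 := by rw [gv_mul, b₃, f₄']
  have d₄ : gv (h₄ * g₃) (mk5 0 0 1 0 0) = mk5 0 0 c 0 0 := by rw [gv_mul, e₃, c₄]
  have k₄ : gv (h₄ * g₃) (mk5 0 0 0 0 1) = mk5 0 0 0 0 (w (jf 1)) := by rw [gv_mul, ← hw, e₄]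
  obtain ⟨x, hx, hc', H⟩ := diag_of_fix (h₄ * g₃) a₄ b₄ c (w (jf 1)) d₄ k₄
  refine ⟨(h₄ * h₃ * h₂ * h₁)⁻¹, inv_mem (mul_mem (mul_mem (mul_mem hh₄ hh₃) hh₂) hh₁), x, c, hx,
    hc', ?_⟩
  rw [← H, hg₃, hg₂]
  group

end Cfsg.Agent.Lib.Helper8.Orth5
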