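import Mathlib
import Cfsg.Agent.Lib.Helper8.Orth5D

/-!
# `[O₅, O₅]` is the subgroup generated by the root elements (helper8)
-/

set_option autoImplicit false
set_option linter.unusedSectionVars false
set_option linter.unusedSimpArgs false
set_option linter.unnecessarySeqFocus false

namespace Cfsg.Agent.Lib.Helper8.Orth5

open Matrix Cfsg.Lie Cfsg.Agent.Lib.Helper8.Chev

open scoped commutatorElement

variable {K : Type*} [Field K]

theorem dg_conj_mem (x c₁ c₂ : K) (hx : x * x = 1) (h1 : c₁ ≠ 0) (h2 : c₂ ≠ 0) {n : O5 K}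
    (hn : n ∈ E5 K) : dgO5 x c₁ c₂ hx h1 h2 * n * (dgO5 x c₁ c₂ hx h1 h2)⁻¹ ∈ E5 K := by
  have : E5 K ≤ (E5 K).comap (MulAut.conj (dgO5 x c₁ c₂ hx h1 h2)).toMonoidHom := by
    unfold E5
    rw [Subgroup.closure_le]
    rintro g ⟨r, t, rfl⟩
    show dgO5 x c₁ c₂ hx h1 h2 * X5 K r t * (dgO5 x c₁ c₂ hx h1 h2)⁻¹ ∈ E5 K
    rw [dgO5_conj, mul_assoc, mul_inv_cancel, mul_one]
    exact X5_mem _ _
  exact this hn

instance E5_normal : (E5 K).Normal := by
  constructor
  intro n hn g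
  obtain ⟨h, hh, x, c, hx, hc, H⟩ := exists_form5 g
  rw [H]
  have := dg_conj_mem x 1 c hx one_ne_zero hc hn
  have e : h * dgO5 x 1 c hx one_ne_zero hc * n * (h * dgO5 x 1 c hx one_ne_zero hc)⁻¹ =
      h * (dgO5 x 1 c hx one_ne_zero hc * n * (dgO5 x 1 c hx one_ne_zero hc)⁻¹) * h⁻¹ := by group
  rw [e]
  exact mul_mem (mul_mem hh this) (inv_mem hh)

/-- `[O, O] ≤ E` -/
theorem commutator_le_E5 : commutator (O5 K) ≤ E5 K := by
  apply (Subgroup.Normal.quotient_commutative_iff_commutator_le (N := E5 K)).mp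
  let π := QuotientGroup.mk' (E5 K)
  have hπE : ∀ h ∈ E5 K, π h = 1 := fun h hh => (QuotientGroup.eq_one_iff h).mpr hh
  have hform : ∀ q : O5 K ⧸ E5 K, ∃ (x c : K) (hx : x * x = 1) (hc : c ≠ 0),
      q = π (dgO5 x 1 c hx one_ne_zero hc) := by
    intro q
    obtain ⟨g, rfl⟩ := QuotientGroup.mk'_surjective (E5 K) q
    obtain ⟨h, hh, x, c, hx, hc, H⟩ := exists_form5 g
    refine ⟨x, c, hx, hc, ?_⟩
    show π g = _
    rw [H, map_mul, hπE h hh, one_mul]
  refine ⟨⟨fun a b => ?_⟩⟩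
  obtain ⟨x, c, hx, hc, rfl⟩ := hform a
  obtain ⟨x', c', hx', hc', rfl⟩ := hform b
  rw [← map_mul, ← map_mul, dgO5_mul]

/-- a root element scaled by a diagonal element is a commutator -/
theorem X5_mem_commutator (r : ℕ) (d : O5 K) (a : K) (ha : a ≠ 1)
    (hconj : ∀ t, d * X5 K r t = X5 K r (a * t) * d) (s : K) :
    X5 K r s ∈ commutator (O5 K) := by
  have ha' : a - 1 ≠ 0 := sub_ne_zero.mpr ha
  have key : X5 K r s = ⁅d, X5 K r (s / (a - 1))⁆ := by
    rw [commutatorElement_def, hconj, mul_assoc (X5 K r _), mul_inv_cancel, mul_one, X5_inv, X5_add]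
    congr 1
    field_simp
    ring
  rw [key, commutator_def]
  exact Subgroup.commutator_mem_commutator (Subgroup.mem_top _) (Subgroup.mem_top _)

/-- `E ≤ [O, O]` when the field has more than two elements -/
theorem E5_le_commutator (hF : ∃ a : K, a ≠ 0 ∧ a ≠ 1) : E5 K ≤ commutator (O5 K) := by
  obtain ⟨a, ha0, ha1⟩ := hF
  have ha1' : a⁻¹ ≠ 1 := by
    intro h
    apply ha1
    rw [← inv_inv a, h, inv_one]
  have hx : (1 : K) * 1 = 1 := one_mul 1
  unfold E5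
  rw [Subgroup.closure_le]
  rintro g ⟨r, t, rfl⟩
  rcases r with _ | _ | _ | _ | _ | _ | _ | _ | r
  · exact X5_mem_commutator 0 (dgO5 1 a 1 hx ha0 one_ne_zero) a⁻¹ ha1'
      (fun t => by rw [dgO5_conj]; simp [chi5]) t
  · exact X5_mem_commutator 1 (dgO5 1 a 1 hx ha0 one_ne_zero) a⁻¹ ha1'
      (fun t => by rw [dgO5_conj]; simp [chi5]) t
  · exact X5_mem_commutator 2 (dgO5 1 1 a hx one_ne_zero ha0) a⁻¹ ha1'
      (fun t => by rw [dgO5_conj]; simp [chi5]) t
  · exact X5_mem_commutator 3 (dgO5 1 1 a hx one_ne_zero ha0) a ha1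
      (fun t => by rw [dgO5_conj]; simp [chi5]) t
  · exact X5_mem_commutator 4 (dgO5 1 a 1 hx ha0 one_ne_zero) a ha1
      (fun t => by rw [dgO5_conj]; simp [chi5]) t
  · exact X5_mem_commutator 5 (dgO5 1 1 a hx one_ne_zero ha0) a ha1
      (fun t => by rw [dgO5_conj]; simp [chi5]) t
  · exact X5_mem_commutator 6 (dgO5 1 a 1 hx ha0 one_ne_zero) a ha1
      (fun t => by rw [dgO5_conj]; simp [chi5]) t
  · exact X5_mem_commutator 7 (dgO5 1 a 1 hx ha0 one_ne_zero) a ha1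
      (fun t => by rw [dgO5_conj]; simp [chi5]) t
  · rw [X5_out (by omega)]
    exact one_mem _

theorem commutator_eq_E5 (hF : ∃ a : K, a ≠ 0 ∧ a ≠ 1) : commutator (O5 K) = E5 K :=
  le_antisymm commutator_le_E5 (E5_le_commutator hF)

/-- two root elements that do not commute -/
theorem X5_not_comm : X5 K 4 1 * X5 K 5 1 ≠ X5 K 5 1 * X5 K 4 1 := by
  intro h
  have h2 := congrArg (fun g : O5 K => gv g (mk5 0 0 0 0 1) (ie 0)) h
  simp only [gv_mul, gv_X5, LX] at h2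
  simp at h2

end Cfsg.Agent.Lib.Helper8.Orth5
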