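import Mathlib

/-!
# Elementary orthogonal matrices for the split form `Σ xᵢ yᵢ` on `K^(ι ⊕ ι)` (helper8)
-/

set_option autoImplicit false
set_option linter.unusedSectionVars false

namespace Cfsg.Agent.Lib.Helper8.Orth

open Matrix

section Basic

variable {ι : Type} [Fintype ι] [DecidableEq ι] {K : Type*} [CommRing K]

/-- the opposite index -/
def bar : ι ⊕ ι → ι ⊕ ι := Sum.swap

/-- the underlying index -/
def idx : ι ⊕ ι → ι := Sum.elim id id

@[simp] theorem bar_bar (x : ι ⊕ ι) : bar (bar x) = x := Sum.swap_swap x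

theorem bar_ne (x : ι ⊕ ι) : bar x ≠ x := by
  cases x <;> simp [bar]

theorem ne_bar (x : ι ⊕ ι) : x ≠ bar x := fun h => bar_ne x h.symm

theorem bar_inj {x y : ι ⊕ ι} : bar x = bar y ↔ x = y :=
  ⟨fun h => by rw [← bar_bar x, h, bar_bar], fun h => by rw [h]⟩

theorem bar_eq_iff {x y : ι ⊕ ι} : bar x = y ↔ x = bar y :=
  ⟨fun h => by rw [← h, bar_bar], fun h => by rw [h, bar_bar]⟩

@[simp] theorem bar_inl (i : ι) : bar (Sum.inl i : ι ⊕ ι) = Sum.inr i := rfl
@[simp] theorem bar_inr (i : ι) : bar (Sum.inr i : ι ⊕ ι) = Sum.inl i := rfl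
@[simp] theorem idx_inl (i : ι) : idx (Sum.inl i : ι ⊕ ι) = i := rfl
@[simp] theorem idx_inr (i : ι) : idx (Sum.inr i : ι ⊕ ι) = i := rfl
@[simp] theorem idx_bar (x : ι ⊕ ι) : idx (bar x) = idx x := by cases x <;> rfl

theorem eq_or_eq_bar_of_idx {x y : ι ⊕ ι} (h : idx x = idx y) : x = y ∨ x = bar y := by
  cases x <;> cases y <;> simp_all [idx, bar]

/-- the split quadratic form -/
def QP (v : ι ⊕ ι → K) : K := ∑ i, v (Sum.inl i) * v (Sum.inr i)

/-- its polar form -/
def BP (u v : ι ⊕ ι → K) : K := ∑ x, u x * v (bar x)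

theorem BP_eq (u v : ι ⊕ ι → K) :
    BP u v = ∑ i, (u (Sum.inl i) * v (Sum.inr i) + u (Sum.inr i) * v (Sum.inl i)) := by
  unfold BP
  rw [Fintype.sum_sum_type, ← Finset.sum_add_distrib]
  rfl

theorem QP_add (u v : ι ⊕ ι → K) : QP (u + v) = QP u + QP v + BP u v := by
  rw [BP_eq]
  unfold QP
  rw [← Finset.sum_add_distrib, ← Finset.sum_add_distrib]
  apply Finset.sum_congr rfl
  intro i _
  simp only [Pi.add_apply]
  ring

theorem BP_of_QP (u v : ι ⊕ ι → K) : BP u v = QP (u + v) - QP u - QP v := by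
  rw [QP_add]; ring

theorem QP_smul (c : K) (v : ι ⊕ ι → K) : QP (c • v) = c ^ 2 * QP v := by
  unfold QP
  rw [Finset.mul_sum]
  apply Finset.sum_congr rfl
  intro i _
  simp only [Pi.smul_apply, smul_eq_mul]
  ring

theorem QP_neg (v : ι ⊕ ι → K) : QP (-v) = QP v := by
  unfold QP
  apply Finset.sum_congr rfl
  intro i _
  simp only [Pi.neg_apply]
  ring

theorem QP_zero : QP (0 : ι ⊕ ι → K) = 0 := by
  unfold QP
  simp

theorem BP_add_right (u v w : ι ⊕ ι → K) : BP u (v + w) = BP u v + BP u w := by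
  unfold BP
  rw [← Finset.sum_add_distrib]
  apply Finset.sum_congr rfl
  intro i _
  simp only [Pi.add_apply]
  ring

theorem BP_neg_right (u v : ι ⊕ ι → K) : BP u (-v) = -BP u v := by
  unfold BP
  rw [← Finset.sum_neg_distrib]
  apply Finset.sum_congr rfl
  intro i _
  simp only [Pi.neg_apply]
  ring

theorem BP_sub_right (u v w : ι ⊕ ι → K) : BP u (v - w) = BP u v - BP u w := by
  rw [sub_eq_add_neg, BP_add_right, BP_neg_right, sub_eq_add_neg]

theorem BP_single_right (u : ι ⊕ ι → K) (x : ι ⊕ ι) (c : K) :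
    BP u (Pi.single x c) = c * u (bar x) := by
  unfold BP
  rw [Finset.sum_eq_single (bar x)]
  · rw [bar_bar, Pi.single_eq_same, mul_comm]
  · intro y _ hy
    rw [Pi.single_eq_of_ne, mul_zero]
    intro h
    exact hy (bar_eq_iff.mp h)
  · intro h
    exact absurd (Finset.mem_univ _) h

theorem BP_single_left (v : ι ⊕ ι → K) (x : ι ⊕ ι) (c : K) :
    BP (Pi.single x c) v = c * v (bar x) := by
  unfold BP
  rw [Finset.sum_eq_single x]
  · rw [Pi.single_eq_same]
  · intro y _ hy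
    rw [Pi.single_eq_of_ne hy, zero_mul]
  · intro h
    exact absurd (Finset.mem_univ _) h

theorem QP_single (x : ι ⊕ ι) (c : K) : QP (Pi.single x c : ι ⊕ ι → K) = 0 := by
  unfold QP
  apply Finset.sum_eq_zero
  intro i _
  cases x with
  | inl j => rw [Pi.single_eq_of_ne (Sum.inr_ne_inl), mul_zero]
  | inr j => rw [Pi.single_eq_of_ne (Sum.inl_ne_inr), zero_mul]

/-- the elementary orthogonal matrix: `b ↦ b + t a`, `ā ↦ ā - t b̄` -/
def sgM (a b : ι ⊕ ι) (t : K) : Matrix (ι ⊕ ι) (ι ⊕ ι) K :=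
  1 + Matrix.single a b t - Matrix.single (bar b) (bar a) t

theorem sgM_mulVec (a b : ι ⊕ ι) (t : K) (v : ι ⊕ ι → K) :
    sgM a b t *ᵥ v = v + Pi.single a (t * v b) - Pi.single (bar b) (t * v (bar a)) := by
  unfold sgM
  rw [Matrix.sub_mulVec, Matrix.add_mulVec, Matrix.one_mulVec, Matrix.single_mulVec,
    Matrix.single_mulVec]
  rfl

theorem sgM_mulVec_apply (a b : ι ⊕ ι) (t : K) (v : ι ⊕ ι → K) (y : ι ⊕ ι) :
    (sgM a b t *ᵥ v) y = v y + (if y = a then t * v b else 0) -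
      (if y = bar b then t * v (bar a) else 0) := by
  rw [sgM_mulVec]
  simp only [Pi.add_apply, Pi.sub_apply, Pi.single_apply]

theorem sgM_zero (a b : ι ⊕ ι) : sgM a b (0 : K) = 1 := by
  unfold sgM
  simp

theorem QP_sgM {a b : ι ⊕ ι} (hab : a ≠ b) (t : K) (v : ι ⊕ ι → K) :
    QP (sgM a b t *ᵥ v) = QP v := by
  rw [sgM_mulVec, add_sub_assoc, QP_add, BP_sub_right, BP_single_right, BP_single_right, bar_bar,
    sub_eq_add_neg (Pi.single a _), QP_add, QP_neg, QP_single, QP_single, BP_neg_right,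
    BP_single_right, Pi.single_apply, if_neg]
  · ring
  · rw [bar_bar]
    exact fun h => hab h.symm

theorem sgM_mul {a b : ι ⊕ ι} (hab : a ≠ b) (t u : K) :
    sgM a b t * sgM a b u = sgM a b (t + u) := by
  rw [Matrix.ext_iff_mulVec]
  intro v
  rw [← Matrix.mulVec_mulVec]
  ext y
  simp only [sgM_mulVec_apply]
  have h1 : (if b = a then u * v b else 0) = 0 := if_neg (fun h => hab h.symm)
  have h2 : (if b = bar b then u * v (bar a) else 0) = 0 := if_neg (ne_bar b)
  have h3 : (if bar a = a then u * v b else 0) = 0 := if_neg (bar_ne a)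
  have h4 : (if bar a = bar b then u * v (bar a) else 0) = 0 :=
    if_neg (fun h => hab (bar_inj.mp h))
  rw [h1, h2, h3, h4]
  split_ifs <;> ring

theorem sgM_mul_neg {a b : ι ⊕ ι} (hab : a ≠ b) (t : K) :
    sgM a b t * sgM a b (-t) = 1 := by
  rw [sgM_mul hab, add_neg_cancel, sgM_zero]

theorem sgM_neg_mul {a b : ι ⊕ ι} (hab : a ≠ b) (t : K) :
    sgM a b (-t) * sgM a b t = 1 := by
  rw [sgM_mul hab, neg_add_cancel, sgM_zero]

theorem sgM_symm (a b : ι ⊕ ι) (t : K) : sgM (bar b) (bar a) (-t) = sgM a b t := by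
  unfold sgM
  rw [bar_bar, bar_bar, ← Matrix.single_neg, ← Matrix.single_neg]
  abel

/-- action on basis vectors -/
theorem sgM_mulVec_single (a b : ι ⊕ ι) (t : K) (y : ι ⊕ ι) (c : K) :
    sgM a b t *ᵥ Pi.single y c = Pi.single y c + (if y = b then Pi.single a (t * c) else 0) -
      (if y = bar a then Pi.single (bar b) (t * c) else 0) := by
  rw [sgM_mulVec]
  congr 1
  · congr 1
    by_cases h : y = b
    · rw [if_pos h, h, Pi.single_eq_same]
    · rw [if_neg h, Pi.single_eq_of_ne (Ne.symm h), mul_zero, Pi.single_zero]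
  · by_cases h : y = bar a
    · rw [if_pos h, h, Pi.single_eq_same]
    · rw [if_neg h, Pi.single_eq_of_ne (Ne.symm h), mul_zero, Pi.single_zero]

end Basic

end Cfsg.Agent.Lib.Helper8.Orth
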