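import Mathlib
import Cfsg.Prelude.Def_Classical
import Cfsg.Agent.Lib.Helper8.OrthA

/-!
# The isometry group of the split form: stabiliser chain reduction (helper8)
-/

set_option autoImplicit false
set_option linter.unusedSectionVars false

namespace Cfsg.Agent.Lib.Helper8.Orth

open Matrix

variable {ι : Type} [Fintype ι] [DecidableEq ι] {K : Type*} [Field K]

/-- the isometry group of the split form on `K^(ι ⊕ ι)` -/
abbrev OG (ι : Type) [Fintype ι] [DecidableEq ι] (K : Type*) [Field K] :=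
  ↥(Cfsg.isometryGroup K (QP : (ι ⊕ ι → K) → K))

/-- action on vectors -/
def gv (g : OG ι K) (v : ι ⊕ ι → K) : ι ⊕ ι → K :=
  ((g.1 : GL (ι ⊕ ι) K) : Matrix (ι ⊕ ι) (ι ⊕ ι) K) *ᵥ v

theorem gv_def (g : OG ι K) (v : ι ⊕ ι → K) :
    gv g v = ((g.1 : GL (ι ⊕ ι) K) : Matrix (ι ⊕ ι) (ι ⊕ ι) K) *ᵥ v := rfl

theorem QP_gv (g : OG ι K) (v : ι ⊕ ι → K) : QP (gv g v) = QP v := g.2 v v

theorem gv_add (g : OG ι K) (u v : ι ⊕ ι → K) : gv g (u + v) = gv g u + gv g v :=
  Matrix.mulVec_add _ _ _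

theorem gv_sub (g : OG ι K) (u v : ι ⊕ ι → K) : gv g (u - v) = gv g u - gv g v :=
  Matrix.mulVec_sub _ _ _

theorem gv_smul (g : OG ι K) (c : K) (v : ι ⊕ ι → K) : gv g (c • v) = c • gv g v :=
  Matrix.mulVec_smul _ _ _

theorem gv_zero (g : OG ι K) : gv g 0 = 0 := Matrix.mulVec_zero _

theorem gv_one (v : ι ⊕ ι → K) : gv (1 : OG ι K) v = v := Matrix.one_mulVec v

theorem gv_mul (g h : OG ι K) (v : ι ⊕ ι → K) : gv (g * h) v = gv g (gv h v) := by
  unfold gv
  rw [Matrix.mulVec_mulVec]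
  rfl

theorem gv_inv_gv (g : OG ι K) (v : ι ⊕ ι → K) : gv g⁻¹ (gv g v) = v := by
  rw [← gv_mul, inv_mul_cancel, gv_one]

theorem gv_gv_inv (g : OG ι K) (v : ι ⊕ ι → K) : gv g (gv g⁻¹ v) = v := by
  rw [← gv_mul, mul_inv_cancel, gv_one]

theorem BP_gv (g : OG ι K) (u v : ι ⊕ ι → K) : BP (gv g u) (gv g v) = BP u v := by
  rw [BP_of_QP, BP_of_QP, ← gv_add, QP_gv, QP_gv, QP_gv]

theorem gv_single (g : OG ι K) (x : ι ⊕ ι) (c : K) :
    gv g (Pi.single x c) = c • gv g (Pi.single x 1) := by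
  rw [← gv_smul]
  congr 1
  ext y
  simp [Pi.single_apply]

theorem OG_ext {g h : OG ι K} (H : ∀ x, gv g (Pi.single x 1) = gv h (Pi.single x 1)) : g = h := by
  apply Subtype.ext
  apply Units.ext
  exact Matrix.ext_of_mulVec_single H

theorem gv_ne_zero (g : OG ι K) {v : ι ⊕ ι → K} (hv : v ≠ 0) : gv g v ≠ 0 := by
  intro h
  apply hv
  rw [← gv_inv_gv g v, h, gv_zero]

/-- the elementary isometry -/
def sgO (a b : ι ⊕ ι) (hab : a ≠ b) (t : K) : OG ι K :=
  ⟨⟨sgM a b t, sgM a b (-t), sgM_mul_neg hab t, sgM_neg_mul hab t⟩,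
    fun u _ => QP_sgM hab t u⟩

theorem gv_sgO (a b : ι ⊕ ι) (hab : a ≠ b) (t : K) (v : ι ⊕ ι → K) :
    gv (sgO a b hab t) v = sgM a b t *ᵥ v := rfl

theorem gv_sgO_apply (a b : ι ⊕ ι) (hab : a ≠ b) (t : K) (v : ι ⊕ ι → K) (y : ι ⊕ ι) :
    gv (sgO a b hab t) v y = v y + (if y = a then t * v b else 0) -
      (if y = bar b then t * v (bar a) else 0) := by
  rw [gv_sgO, sgM_mulVec_apply]

theorem gv_sgO_single (a b : ι ⊕ ι) (hab : a ≠ b) (t : K) (y : ι ⊕ ι) (c : K) :
    gv (sgO a b hab t) (Pi.single y c) =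
      Pi.single y c + (if y = b then Pi.single a (t * c) else 0) -
      (if y = bar a then Pi.single (bar b) (t * c) else 0) := by
  rw [gv_sgO, sgM_mulVec_single]

/-- the subgroup generated by the elementary isometries avoiding the indices in `S` -/
def ES (S : Set ι) : Subgroup (OG ι K) :=
  Subgroup.closure {g | ∃ (a b : ι ⊕ ι) (hab : a ≠ b) (t : K), idx a ∉ S ∧ idx b ∉ S ∧
    g = sgO a b hab t}

theorem sgO_mem_ES {S : Set ι} {a b : ι ⊕ ι} (hab : a ≠ b) (t : K) (ha : idx a ∉ S)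
    (hb : idx b ∉ S) : sgO a b hab t ∈ ES (K := K) S :=
  Subgroup.subset_closure ⟨a, b, hab, t, ha, hb, rfl⟩

theorem ES_mono {S S' : Set ι} (h : S ⊆ S') : ES (K := K) S' ≤ ES S := by
  apply Subgroup.closure_mono
  rintro g ⟨a, b, hab, t, ha, hb, rfl⟩
  exact ⟨a, b, hab, t, fun h' => ha (h h'), fun h' => hb (h h'), rfl⟩

/-- coordinates with index in `S` are not changed by `ES S` -/
theorem ES_coord {S : Set ι} {h : OG ι K} (hh : h ∈ ES S) :
    ∀ (v : ι ⊕ ι → K) (y : ι ⊕ ι), idx y ∈ S → gv h v y = v y := by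
  induction hh using Subgroup.closure_induction with
  | mem g hg =>
    obtain ⟨a, b, hab, t, ha, hb, rfl⟩ := hg
    intro v y hy
    rw [gv_sgO_apply, if_neg, if_neg, add_zero, sub_zero]
    · intro h
      rw [h, idx_bar] at hy
      exact hb hy
    · intro h
      rw [h] at hy
      exact ha hy
  | one => intro v y _; rw [gv_one]
  | mul a b _ _ iha ihb =>
    intro v y hy
    rw [gv_mul, iha _ y hy, ihb v y hy]
  | inv a _ iha =>
    intro v y hy
    have := iha (gv a⁻¹ v) y hy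
    rw [gv_gv_inv] at this
    exact this.symm

/-- basis vectors with index in `S` are fixed by `ES S` -/
theorem ES_fix {S : Set ι} {h : OG ι K} (hh : h ∈ ES S) :
    ∀ x : ι ⊕ ι, idx x ∈ S → gv h (Pi.single x 1) = Pi.single x 1 := by
  induction hh using Subgroup.closure_induction with
  | mem g hg =>
    obtain ⟨a, b, hab, t, ha, hb, rfl⟩ := hg
    intro x hx
    rw [gv_sgO_single, if_neg, if_neg, add_zero, sub_zero]
    · intro h
      rw [h, idx_bar] at hx
      exact ha hx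
    · intro h
      rw [h] at hx
      exact hb hx
  | one => intro x _; rw [gv_one]
  | mul a b _ _ iha ihb =>
    intro x hx
    rw [gv_mul, ihb x hx, iha x hx]
  | inv a _ iha =>
    intro x hx
    have := iha x hx
    rw [← this, gv_inv_gv, this]

/-- clearing coordinates against a pivot -/
theorem clear (H : Subgroup (OG ι K)) (p : ι ⊕ ι) (u : ι ⊕ ι → K) (hu : u p ≠ 0) :
    ∀ X : Finset (ι ⊕ ι), (∀ x ∈ X, x ≠ p ∧ x ≠ bar p) →
    (∀ x ∈ X, ∀ (hx : x ≠ p) (t : K), sgO x p hx t ∈ H) →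
    ∃ h ∈ H, gv h u p = u p ∧ (∀ x ∈ X, gv h u x = 0) ∧
      (∀ y, y ∉ X → y ≠ bar p → gv h u y = u y) ∧
      gv h (Pi.single (bar p) 1) = Pi.single (bar p) 1 := by
  classical
  intro X
  induction X using Finset.induction_on with
  | empty =>
    intro _ _
    exact ⟨1, one_mem _, by rw [gv_one], by simp, fun y _ _ => by rw [gv_one], by rw [gv_one]⟩
  | insert x X hxX ih =>
    intro hX hH
    obtain ⟨h, hh, h1, h2, h3, h4⟩ := ih (fun y hy => hX y (Finset.mem_insert_of_mem hy))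
      (fun y hy => hH y (Finset.mem_insert_of_mem hy))
    obtain ⟨hxp, hxp'⟩ := hX x (Finset.mem_insert_self x X)
    refine ⟨sgO x p hxp (-(gv h u x) * (u p)⁻¹) * h,
      mul_mem (hH x (Finset.mem_insert_self x X) hxp _) hh, ?_, ?_, ?_, ?_⟩
    · rw [gv_mul, gv_sgO_apply, if_neg (Ne.symm hxp), if_neg (ne_bar p), add_zero, sub_zero, h1]
    · intro y hy
      rw [gv_mul, gv_sgO_apply]
      rcases Finset.mem_insert.mp hy with rfl | hy'
      · rw [if_pos rfl, if_neg hxp', sub_zero, h1]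
        field_simp
        ring
      · have hyx : y ≠ x := fun h => hxX (h ▸ hy')
        rw [if_neg hyx, if_neg (hX y hy).2, add_zero, sub_zero, h2 y hy']
    · intro y hy hyp
      have hyx : y ≠ x := fun h => hy (h ▸ Finset.mem_insert_self x X)
      have hyX : y ∉ X := fun h => hy (Finset.mem_insert_of_mem h)
      rw [gv_mul, gv_sgO_apply, if_neg hyx, if_neg hyp, add_zero, sub_zero, h3 y hyX hyp]
    · rw [gv_mul, h4, gv_sgO_single, if_neg (bar_ne p), if_neg, add_zero, sub_zero]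
      intro h
      exact hxp (bar_inj.mp h).symm

/-- a vector supported on `{p, p̄}` has `Q = v p * v p̄` -/
theorem QP_of_supp (p : ι ⊕ ι) (v : ι ⊕ ι → K) (hv : ∀ y, y ≠ p → y ≠ bar p → v y = 0) :
    QP v = v p * v (bar p) := by
  unfold QP
  rw [Finset.sum_eq_single (idx p)]
  · cases p with
    | inl i => rfl
    | inr i => exact mul_comm _ _
  · intro i _ hi
    rw [hv (Sum.inl i), zero_mul]
    · intro h; apply hi; rw [← h]; rfl
    · intro h; apply hi; rw [← idx_bar p, ← h]; rfl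
  · intro h
    exact absurd (Finset.mem_univ _) h

end Cfsg.Agent.Lib.Helper8.Orth
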