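import Mathlib
import Cfsg.Agent.Lib.Helper8.OrthB

/-!
# Transitivity of the elementary subgroup and the reduction step (helper8)
-/

set_option autoImplicit false
set_option linter.unusedSectionVars false

namespace Cfsg.Agent.Lib.Helper8.Orth

open Matrix

variable {ι : Type} [Fintype ι] [DecidableEq ι] {K : Type*} [Field K]

theorem ne_of_idx_ne {x y : ι ⊕ ι} (h : idx x ≠ idx y) : x ≠ y := fun e => h (e ▸ rfl)

theorem ne_bar_of_idx_ne {x y : ι ⊕ ι} (h : idx x ≠ idx y) : x ≠ bar y := fun e =>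
  h (by rw [e, idx_bar])

/-- making the pivot coordinate non-zero -/
theorem exists_pivot (S : Set ι) (p q : ι ⊕ ι) (hp : idx p ∉ S) (hq : idx q ∉ S)
    (hqp : idx q ≠ idx p) (u : ι ⊕ ι → K) (hu : u ≠ 0) (hS : ∀ y, idx y ∈ S → u y = 0) :
    ∃ h ∈ ES (K := K) S, gv h u p ≠ 0 := by
  by_cases h0 : u p ≠ 0
  · exact ⟨1, one_mem _, by rwa [gv_one]⟩
  rw [not_not] at h0
  by_cases h1 : ∃ x, x ≠ p ∧ x ≠ bar p ∧ u x ≠ 0
  · obtain ⟨x, hxp, hxp', hux⟩ := h1
    have hxS : idx x ∉ S := fun h => hux (hS x h)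
    refine ⟨sgO p x (Ne.symm hxp) 1, sgO_mem_ES _ _ hp hxS, ?_⟩
    rw [gv_sgO_apply, if_pos rfl, if_neg, h0, zero_add, sub_zero, one_mul]
    · exact hux
    · intro h
      exact hxp' (bar_eq_iff.mp h.symm)
  · push Not at h1
    have hbp : u (bar p) ≠ 0 := by
      intro h
      apply hu
      funext y
      by_cases hy : y = p
      · rw [hy, h0]; rfl
      by_cases hy' : y = bar p
      · rw [hy', h]; rfl
      exact h1 y hy hy'
    have hqp1 : q ≠ p := ne_of_idx_ne hqp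
    have hqp2 : q ≠ bar p := ne_bar_of_idx_ne hqp
    have hbq1 : bar q ≠ p := fun h => hqp2 (bar_eq_iff.mp h)
    have hbq2 : bar q ≠ bar p := fun h => hqp1 (bar_inj.mp h)
    have hq0 : u q = 0 := h1 q hqp1 hqp2
    have hbq0 : u (bar q) = 0 := h1 (bar q) hbq1 hbq2
    have hqS : idx (bar q) ∉ S := by rwa [idx_bar]
    have hpS : idx (bar p) ∉ S := by rwa [idx_bar]
    refine ⟨sgO p (bar q) (Ne.symm hbq1) 1 * sgO (bar q) (bar p) hbq2 1,
      mul_mem (sgO_mem_ES _ _ hp hqS) (sgO_mem_ES _ _ hqS hpS), ?_⟩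
    rw [gv_mul, gv_sgO_apply, if_pos rfl, bar_bar, if_neg (Ne.symm hqp1), sub_zero,
      gv_sgO_apply, gv_sgO_apply, if_neg (Ne.symm hbq1), bar_bar, bar_bar, if_pos rfl, if_pos rfl,
      if_neg hbq1, h0, hq0, hbq0]
    simpa using hbp

/-- the elementary subgroup is transitive on non-zero singular vectors -/
theorem trans_vec (S : Set ι) (p q : ι ⊕ ι) (hp : idx p ∉ S) (hq : idx q ∉ S)
    (hqp : idx q ≠ idx p) (u : ι ⊕ ι → K) (hu : u ≠ 0) (hQ : QP u = 0)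
    (hS : ∀ y, idx y ∈ S → u y = 0) :
    ∃ h ∈ ES (K := K) S, gv h u = Pi.single p 1 := by
  classical
  obtain ⟨h₁, hh₁, hp1⟩ := exists_pivot S p q hp hq hqp u hu hS
  set u₁ := gv h₁ u with hu₁
  have hS1 : ∀ y, idx y ∈ S → u₁ y = 0 := fun y hy => by rw [hu₁, ES_coord hh₁ u y hy, hS y hy]
  have hQ1 : QP u₁ = 0 := by rw [hu₁, QP_gv, hQ]
  obtain ⟨h₂, hh₂, e1, e2, e3, -⟩ := clear (ES (K := K) S) p u₁ hp1
    (Finset.univ.filter fun x => x ≠ p ∧ x ≠ bar p ∧ idx x ∉ S)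
    (fun x hx => ⟨(Finset.mem_filter.mp hx).2.1, (Finset.mem_filter.mp hx).2.2.1⟩)
    (fun x hx hxp t => sgO_mem_ES _ _ (Finset.mem_filter.mp hx).2.2.2 hp)
  set u₂ := gv h₂ u₁ with hu₂
  have hz : ∀ y, y ≠ p → y ≠ bar p → u₂ y = 0 := by
    intro y hy hy'
    by_cases hyS : idx y ∈ S
    · rw [e3 y (fun h => (Finset.mem_filter.mp h).2.2.2 hyS) hy', hS1 y hyS]
    · exact e2 y (Finset.mem_filter.mpr ⟨Finset.mem_univ _, hy, hy', hyS⟩)
  have hQ2 : u₂ p * u₂ (bar p) = 0 := by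
    rw [← QP_of_supp p u₂ hz, hu₂, QP_gv, hQ1]
  have hbp : u₂ (bar p) = 0 := by
    rcases mul_eq_zero.mp hQ2 with h | h
    · rw [e1] at h
      exact absurd h hp1
    · exact h
  set c := u₁ p with hc
  have hu2 : u₂ = Pi.single p c := by
    funext y
    by_cases hy : y = p
    · rw [hy, Pi.single_eq_same, e1]
    by_cases hy' : y = bar p
    · rw [hy', hbp, Pi.single_eq_of_ne (bar_ne p)]
    · rw [hz y hy hy', Pi.single_eq_of_ne hy]
  have hqp1 : q ≠ p := ne_of_idx_ne hqp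
  have hqp2 : q ≠ bar p := ne_bar_of_idx_ne hqp
  have hpq2 : p ≠ bar q := fun h => hqp2 (bar_eq_iff.mp h.symm)
  refine ⟨sgO q p hqp1 (-1) * sgO p q (Ne.symm hqp1) (1 - c) * sgO q p hqp1 c⁻¹ * h₂ * h₁,
    mul_mem (mul_mem (mul_mem (mul_mem (sgO_mem_ES _ _ hq hp) (sgO_mem_ES _ _ hp hq))
      (sgO_mem_ES _ _ hq hp)) hh₂) hh₁, ?_⟩
  rw [gv_mul, ← hu₁, gv_mul, ← hu₂, hu2, gv_mul, gv_mul, gv_sgO_single, if_pos rfl, if_neg hpq2,
    sub_zero, inv_mul_cancel₀ hp1, gv_add, gv_sgO_single, gv_sgO_single, if_neg (Ne.symm hqp1),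
    if_neg (ne_bar p), if_pos rfl, if_neg hqp2, add_zero, sub_zero, sub_zero, gv_add, gv_add,
    gv_sgO_single, gv_sgO_single, gv_sgO_single, if_pos rfl, if_neg hpq2, if_neg hqp1,
    if_neg (ne_bar q), if_pos rfl, if_neg hpq2]
  funext y
  simp only [Pi.add_apply, Pi.sub_apply, Pi.single_apply, Pi.zero_apply]
  by_cases hy : y = p
  · rw [hy]
    simp only [if_true, if_false, Ne.symm hqp1]
    ring
  · by_cases hy' : y = q
    · rw [hy']
      simp only [if_true, if_false, hqp1]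
      ring
    · simp only [if_false, hy, hy']
      ring

/-- the unipotent radical is transitive on partners -/
theorem partner_vec (S : Set ι) (p : ι ⊕ ι) (hp : idx p ∉ S) (v : ι ⊕ ι → K)
    (hv1 : v (bar p) = 1) (hQ : QP v = 0) (hS : ∀ y, idx y ∈ S → v y = 0) :
    ∃ h ∈ ES (K := K) S, gv h (Pi.single p 1) = Pi.single p 1 ∧ gv h v = Pi.single (bar p) 1 := by
  classical
  have hp1 : v (bar p) ≠ 0 := by rw [hv1]; exact one_ne_zero
  have hpS : idx (bar p) ∉ S := by rwa [idx_bar]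
  obtain ⟨h, hh, e1, e2, e3, e4⟩ := clear (ES (K := K) S) (bar p) v hp1
    (Finset.univ.filter fun x => x ≠ bar p ∧ x ≠ p ∧ idx x ∉ S)
    (fun x hx => ⟨(Finset.mem_filter.mp hx).2.1, by
      rw [bar_bar]; exact (Finset.mem_filter.mp hx).2.2.1⟩)
    (fun x hx hxp t => sgO_mem_ES _ _ (Finset.mem_filter.mp hx).2.2.2 hpS)
  rw [bar_bar] at e3 e4
  set v' := gv h v with hv'
  have hz : ∀ y, y ≠ bar p → y ≠ bar (bar p) → v' y = 0 := by
    intro y hy hy'
    rw [bar_bar] at hy'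
    by_cases hyS : idx y ∈ S
    · rw [e3 y (fun h => (Finset.mem_filter.mp h).2.2.2 hyS) hy', hS y hyS]
    · exact e2 y (Finset.mem_filter.mpr ⟨Finset.mem_univ _, hy, hy', hyS⟩)
  have hQ2 : v' (bar p) * v' (bar (bar p)) = 0 := by
    rw [← QP_of_supp (bar p) v' hz, hv', QP_gv, hQ]
  rw [bar_bar, e1, hv1, one_mul] at hQ2
  refine ⟨h, hh, e4, ?_⟩
  rw [← hv']
  funext y
  by_cases hy : y = bar p
  · rw [hy, Pi.single_eq_same, e1, hv1]
  by_cases hy' : y = p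
  · rw [hy', hQ2, Pi.single_eq_of_ne (ne_bar p)]
  · rw [hz y hy (by rwa [bar_bar]), Pi.single_eq_of_ne hy]

/-- if `g` fixes the basis vectors with index in `S`, the image of any other basis vector has
vanishing coordinates on `S` -/
theorem coord_zero_of_fix (S : Set ι) (g : OG ι K)
    (hg : ∀ x, idx x ∈ S → gv g (Pi.single x 1) = Pi.single x 1) (z : ι ⊕ ι) (hz : idx z ∉ S)
    (y : ι ⊕ ι) (hy : idx y ∈ S) : gv g (Pi.single z 1) y = 0 := by
  have h1 : BP (gv g (Pi.single z 1)) (Pi.single (bar y) 1) = gv g (Pi.single z 1) y := by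
    rw [BP_single_right, bar_bar, one_mul]
  have hby : idx (bar y) ∈ S := by rwa [idx_bar]
  rw [← h1, ← hg (bar y) hby, BP_gv, BP_single_right, bar_bar, one_mul, Pi.single_eq_of_ne]
  intro h
  rw [h] at hy
  exact hz hy

/-- the reduction step -/
theorem red_step (S : Set ι) (k j : ι) (hk : k ∉ S) (hj : j ∉ S) (hjk : j ≠ k) (g : OG ι K)
    (hg : ∀ x, idx x ∈ S → gv g (Pi.single x 1) = Pi.single x 1) :
    ∃ h ∈ ES (K := K) S, ∀ x, idx x ∈ insert k S →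
      gv (h * g) (Pi.single x 1) = Pi.single x 1 := by
  have hsne : ∀ z : ι ⊕ ι, (Pi.single z (1 : K) : ι ⊕ ι → K) ≠ 0 := by
    intro z h
    have := congrFun h z
    rw [Pi.single_eq_same, Pi.zero_apply] at this
    exact one_ne_zero this
  obtain ⟨h₁, hh₁, e₁⟩ := trans_vec S (Sum.inl k) (Sum.inl j) hk hj hjk
    (gv g (Pi.single (Sum.inl k) 1)) (gv_ne_zero g (hsne _)) (by rw [QP_gv, QP_single])
    (fun y hy => coord_zero_of_fix S g hg (Sum.inl k) hk y hy)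
  have hg1 : ∀ x, idx x ∈ S → gv (h₁ * g) (Pi.single x 1) = Pi.single x 1 := by
    intro x hx
    rw [gv_mul, hg x hx, ES_fix hh₁ x hx]
  have e₁' : gv (h₁ * g) (Pi.single (Sum.inl k) 1) = Pi.single (Sum.inl k) 1 := by
    rw [gv_mul, e₁]
  have hv1 : gv (h₁ * g) (Pi.single (Sum.inr k) 1) (bar (Sum.inl k)) = 1 := by
    have h1 : BP (gv (h₁ * g) (Pi.single (Sum.inr k) 1)) (Pi.single (Sum.inl k) 1) =
        gv (h₁ * g) (Pi.single (Sum.inr k) 1) (bar (Sum.inl k)) := by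
      rw [BP_single_right, one_mul]
    rw [← h1, ← e₁', BP_gv, BP_single_right, one_mul, bar_inl, Pi.single_eq_same]
  obtain ⟨h₂, hh₂, f₁, f₂⟩ := partner_vec S (Sum.inl k) hk
    (gv (h₁ * g) (Pi.single (Sum.inr k) 1)) hv1 (by rw [QP_gv, QP_single])
    (fun y hy => coord_zero_of_fix S (h₁ * g) hg1 (Sum.inr k) hk y hy)
  refine ⟨h₂ * h₁, mul_mem hh₂ hh₁, ?_⟩
  intro x hx
  rw [mul_assoc, gv_mul]
  rcases hx with hx | hx
  · rcases x with i | i
    · have : i = k := hx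
      rw [this, e₁', f₁]
    · have : i = k := hx
      rw [this, f₂]
      rfl
  · rw [hg1 x hx, ES_fix hh₂ x hx]

end Cfsg.Agent.Lib.Helper8.Orth
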