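import Mathlib
import Cfsg.Agent.Lib.Helper8.OrthC

/-!
# Rank one computations in the elementary orthogonal group: torus elements (helper8)
-/

set_option autoImplicit false
set_option linter.unusedSectionVars false

namespace Cfsg.Agent.Lib.Helper8.Orth

open Matrix

variable {ι : Type} [Fintype ι] [DecidableEq ι] {K : Type*} [Field K]

/-- the action of a `2 × 2` matrix on the planes `(a, b)` and `(ā, b̄)` -/
def act (a b : ι ⊕ ι) (α β γ δ : K) (v : ι ⊕ ι → K) : ι ⊕ ι → K := fun y =>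
  if y = a then α * v a + β * v b
  else if y = b then γ * v a + δ * v b
  else if y = bar a then δ * v (bar a) - γ * v (bar b)
  else if y = bar b then -β * v (bar a) + α * v (bar b)
  else v y

section

variable {a b : ι ⊕ ι} (hab : a ≠ b) (hab' : a ≠ bar b)
include hab hab'

theorem act_a (α β γ δ : K) (v : ι ⊕ ι → K) : act a b α β γ δ v a = α * v a + β * v b := by
  unfold act
  rw [if_pos rfl]

theorem act_b (α β γ δ : K) (v : ι ⊕ ι → K) : act a b α β γ δ v b = γ * v a + δ * v b := by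
  unfold act
  rw [if_neg (Ne.symm hab), if_pos rfl]

theorem act_abar (α β γ δ : K) (v : ι ⊕ ι → K) :
    act a b α β γ δ v (bar a) = δ * v (bar a) - γ * v (bar b) := by
  unfold act
  rw [if_neg (bar_ne a), if_neg, if_pos rfl]
  intro h
  exact hab' (bar_eq_iff.mp h)

theorem act_bbar (α β γ δ : K) (v : ι ⊕ ι → K) :
    act a b α β γ δ v (bar b) = -β * v (bar a) + α * v (bar b) := by
  unfold act
  rw [if_neg (Ne.symm hab'), if_neg (bar_ne b), if_neg, if_pos rfl]
  intro h
  exact hab (bar_inj.mp h).symm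

theorem act_other (α β γ δ : K) (v : ι ⊕ ι → K) {y : ι ⊕ ι} (h1 : y ≠ a) (h2 : y ≠ b)
    (h3 : y ≠ bar a) (h4 : y ≠ bar b) : act a b α β γ δ v y = v y := by
  unfold act
  rw [if_neg h1, if_neg h2, if_neg h3, if_neg h4]

theorem act_comp (α β γ δ α' β' γ' δ' : K) (v : ι ⊕ ι → K) :
    act a b α β γ δ (act a b α' β' γ' δ' v) =
      act a b (α * α' + β * γ') (α * β' + β * δ') (γ * α' + δ * γ') (γ * β' + δ * δ') v := by
  funext y
  by_cases h1 : y = a
  · rw [h1, act_a hab hab', act_a hab hab', act_a hab hab', act_b hab hab']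
    ring
  by_cases h2 : y = b
  · rw [h2, act_b hab hab', act_b hab hab', act_a hab hab', act_b hab hab']
    ring
  by_cases h3 : y = bar a
  · rw [h3, act_abar hab hab', act_abar hab hab', act_abar hab hab', act_bbar hab hab']
    ring
  by_cases h4 : y = bar b
  · rw [h4, act_bbar hab hab', act_bbar hab hab', act_abar hab hab', act_bbar hab hab']
    ring
  · rw [act_other hab hab' _ _ _ _ _ h1 h2 h3 h4, act_other hab hab' _ _ _ _ _ h1 h2 h3 h4,
      act_other hab hab' _ _ _ _ _ h1 h2 h3 h4]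

theorem gv_sgO_act (t : K) (v : ι ⊕ ι → K) : gv (sgO a b hab t) v = act a b 1 t 0 1 v := by
  funext y
  rw [gv_sgO_apply]
  by_cases h1 : y = a
  · rw [h1, act_a hab hab', if_pos rfl, if_neg hab']
    ring
  by_cases h2 : y = b
  · rw [h2, act_b hab hab', if_neg (Ne.symm hab), if_neg (ne_bar b)]
    ring
  by_cases h3 : y = bar a
  · rw [h3, act_abar hab hab', if_neg (bar_ne a), if_neg (fun h => hab (bar_inj.mp h))]
    ring
  by_cases h4 : y = bar b
  · rw [h4, act_bbar hab hab', if_neg (Ne.symm hab'), if_pos rfl]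
    ring
  · rw [act_other hab hab' _ _ _ _ _ h1 h2 h3 h4, if_neg h1, if_neg h4]
    ring

theorem gv_sgO_act' (t : K) (v : ι ⊕ ι → K) :
    gv (sgO b a (Ne.symm hab) t) v = act a b 1 0 t 1 v := by
  funext y
  rw [gv_sgO_apply]
  by_cases h1 : y = a
  · rw [h1, act_a hab hab', if_neg hab, if_neg (ne_bar a)]
    ring
  by_cases h2 : y = b
  · rw [h2, act_b hab hab', if_pos rfl, if_neg (fun h => hab' (bar_eq_iff.mp h.symm))]
    ring
  by_cases h3 : y = bar a
  · rw [h3, act_abar hab hab', if_neg (fun h => hab' (bar_eq_iff.mp h)), if_pos rfl]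
    ring
  by_cases h4 : y = bar b
  · rw [h4, act_bbar hab hab', if_neg (bar_ne b), if_neg (fun h => hab (bar_inj.mp h).symm)]
    ring
  · rw [act_other hab hab' _ _ _ _ _ h1 h2 h3 h4, if_neg h2, if_neg h3]
    ring

/-- the torus element `h_{a,b}(c)` -/
def hh (c : K) : OG ι K :=
  sgO a b hab c * sgO b a (Ne.symm hab) (-c⁻¹) * sgO a b hab c *
    (sgO a b hab (-1) * sgO b a (Ne.symm hab) 1 * sgO a b hab (-1))

theorem gv_hh {c : K} (hc : c ≠ 0) (v : ι ⊕ ι → K) :
    gv (hh hab c) v = act a b c 0 0 c⁻¹ v := by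
  unfold hh
  simp only [gv_mul, gv_sgO_act hab hab', gv_sgO_act' hab hab', act_comp hab hab']
  congr 1 <;> field_simp <;> ring

theorem hh_mem {S : Set ι} (ha : idx a ∉ S) (hb : idx b ∉ S) (c : K) :
    hh hab c ∈ ES (K := K) S := by
  unfold hh
  exact mul_mem (mul_mem (mul_mem (sgO_mem_ES _ _ ha hb) (sgO_mem_ES _ _ hb ha))
    (sgO_mem_ES _ _ ha hb)) (mul_mem (mul_mem (sgO_mem_ES _ _ ha hb) (sgO_mem_ES _ _ hb ha))
    (sgO_mem_ES _ _ ha hb))

end

end Cfsg.Agent.Lib.Helper8.Orth
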