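import Mathlib
import Cfsg.Agent.Lib.Helper8.OrthD

/-!
# Diagonal and swap isometries; the structure of the last stabiliser (helper8)
-/

set_option autoImplicit false
set_option linter.unusedSectionVars false

namespace Cfsg.Agent.Lib.Helper8.Orth

open Matrix

variable {ι : Type} [Fintype ι] [DecidableEq ι] {K : Type*} [Field K]

theorem OG_ext' {g h : OG ι K} (H : ∀ v, gv g v = gv h v) : g = h :=
  OG_ext fun _ => H _

/-! ### diagonal elements -/

/-- the weights of the diagonal element `d_j(c)` -/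
def dgW (j : ι) (c : K) : ι ⊕ ι → K := fun x =>
  if x = Sum.inl j then c else if x = Sum.inr j then c⁻¹ else 1

theorem dgW_bar (j : ι) (c : K) (x : ι ⊕ ι) : dgW j c (bar x) = (dgW j c x)⁻¹ := by
  unfold dgW
  rcases x with i | i
  · by_cases h : i = j
    · subst h; simp
    · simp [h]
  · by_cases h : i = j
    · subst h; simp
    · simp [h]

theorem dgW_inv (j : ι) (c : K) (x : ι ⊕ ι) : dgW j c⁻¹ x = (dgW j c x)⁻¹ := by
  unfold dgW
  split_ifs <;> simp

theorem dgW_ne_zero (j : ι) {c : K} (hc : c ≠ 0) (x : ι ⊕ ι) : dgW j c x ≠ 0 := by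
  unfold dgW
  split_ifs
  · exact hc
  · exact inv_ne_zero hc
  · exact one_ne_zero

theorem dgW_of_ne (j : ι) (c : K) {x : ι ⊕ ι} (h : idx x ≠ j) : dgW j c x = 1 := by
  unfold dgW
  rw [if_neg, if_neg]
  · intro e; apply h; rw [e]; rfl
  · intro e; apply h; rw [e]; rfl

theorem dgW_inl (j : ι) (c : K) : dgW j c (Sum.inl j) = c := by
  unfold dgW
  rw [if_pos rfl]

theorem dgW_inr (j : ι) (c : K) : dgW j c (Sum.inr j) = c⁻¹ := by
  unfold dgW
  rw [if_neg (by simp), if_pos rfl]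

theorem dgW_mul (j : ι) (c d : K) (x : ι ⊕ ι) : dgW j (c * d) x = dgW j c x * dgW j d x := by
  unfold dgW
  split_ifs <;> simp [mul_comm]

theorem QP_dgW (j : ι) {c : K} (hc : c ≠ 0) (v : ι ⊕ ι → K) :
    QP (fun y => dgW j c y * v y) = QP v := by
  unfold QP
  apply Finset.sum_congr rfl
  intro i _
  have h1 : dgW j c (Sum.inr i) = (dgW j c (Sum.inl i))⁻¹ := dgW_bar j c (Sum.inl i)
  have h2 := dgW_ne_zero j hc (Sum.inl i)
  simp only [h1]
  field_simp

/-- the diagonal isometry `d_j(c)` -/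
def dgO (j : ι) (c : K) (hc : c ≠ 0) : OG ι K :=
  ⟨⟨Matrix.diagonal (dgW j c), Matrix.diagonal (dgW j c⁻¹), by
      rw [Matrix.diagonal_mul_diagonal, ← Matrix.diagonal_one]
      congr 1
      funext x
      rw [dgW_inv, mul_inv_cancel₀ (dgW_ne_zero j hc x)], by
      rw [Matrix.diagonal_mul_diagonal, ← Matrix.diagonal_one]
      congr 1
      funext x
      rw [dgW_inv, inv_mul_cancel₀ (dgW_ne_zero j hc x)]⟩,
    fun u _ => by
      show QP (Matrix.diagonal (dgW j c) *ᵥ u) = QP u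
      rw [← QP_dgW j hc u]
      congr 1
      funext y
      rw [Matrix.mulVec_diagonal]⟩

theorem gv_dgO (j : ι) (c : K) (hc : c ≠ 0) (v : ι ⊕ ι → K) :
    gv (dgO j c hc) v = fun y => dgW j c y * v y := by
  funext y
  show (Matrix.diagonal (dgW j c) *ᵥ v) y = _
  rw [Matrix.mulVec_diagonal]

theorem gv_dgO_single (j : ι) (c : K) (hc : c ≠ 0) (x : ι ⊕ ι) :
    gv (dgO j c hc) (Pi.single x 1) = Pi.single x (dgW j c x) := by
  rw [gv_dgO]
  funext y
  by_cases h : y = x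
  · rw [h, Pi.single_eq_same, Pi.single_eq_same, mul_one]
  · rw [Pi.single_eq_of_ne h, Pi.single_eq_of_ne h, mul_zero]

theorem dgO_mul (j : ι) (c d : K) (hc : c ≠ 0) (hd : d ≠ 0) :
    dgO j c hc * dgO j d hd = dgO j (c * d) (mul_ne_zero hc hd) := by
  apply OG_ext'
  intro v
  rw [gv_mul, gv_dgO, gv_dgO, gv_dgO]
  funext y
  rw [dgW_mul]
  ring

theorem dgO_one (j : ι) : dgO j (1 : K) one_ne_zero = 1 := by
  apply OG_ext'
  intro v
  rw [gv_dgO, gv_one]
  funext y
  have : dgW j (1 : K) y = 1 := by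
    unfold dgW
    split_ifs <;> simp
  rw [this, one_mul]

theorem dgO_inv (j : ι) (c : K) (hc : c ≠ 0) :
    (dgO j c hc)⁻¹ = dgO j c⁻¹ (inv_ne_zero hc) := by
  rw [inv_eq_iff_mul_eq_one, dgO_mul]
  have : c * c⁻¹ = 1 := mul_inv_cancel₀ hc
  simp only [this]
  exact dgO_one j

theorem dgO_conj_sgO (j : ι) (c : K) (hc : c ≠ 0) (a b : ι ⊕ ι) (hab : a ≠ b) (t : K) :
    dgO j c hc * sgO a b hab t * (dgO j c hc)⁻¹ =
      sgO a b hab (dgW j c a * t * (dgW j c b)⁻¹) := by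
  apply OG_ext'
  intro v
  rw [dgO_inv, gv_mul, gv_mul, gv_dgO, gv_dgO]
  funext y
  rw [gv_sgO_apply, gv_sgO_apply]
  have ha := dgW_ne_zero j hc a
  have hb := dgW_ne_zero j hc b
  by_cases h1 : y = a
  · by_cases h2 : y = bar b
    · have hab2 : a = bar b := h1.symm.trans h2
      rw [if_pos h1, if_pos h2, if_pos h1, if_pos h2, h1]
      simp only [dgW_inv, dgW_bar, hab2, bar_bar, inv_inv]
      field_simp
    · rw [if_pos h1, if_neg h2, if_pos h1, if_neg h2, h1]
      simp only [dgW_inv]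
      field_simp
      ring
  · by_cases h2 : y = bar b
    · rw [if_neg h1, if_pos h2, if_neg h1, if_pos h2, h2]
      simp only [dgW_inv, dgW_bar, inv_inv]
      field_simp
      ring
    · have hy := dgW_ne_zero j hc y
      rw [if_neg h1, if_neg h2, if_neg h1, if_neg h2]
      simp only [dgW_inv]
      field_simp
      ring

/-! ### the swap -/

/-- the transposition `e_j ↔ f_j` -/
def swσ (j : ι) : Equiv.Perm (ι ⊕ ι) := Equiv.swap (Sum.inl j) (Sum.inr j)

theorem swσ_swσ (j : ι) (x : ι ⊕ ι) : swσ j (swσ j x) = x := Equiv.swap_apply_self _ _ _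

theorem swσ_of_ne (j : ι) {x : ι ⊕ ι} (h : idx x ≠ j) : swσ j x = x := by
  apply Equiv.swap_apply_of_ne_of_ne
  · intro e; apply h; rw [e]; rfl
  · intro e; apply h; rw [e]; rfl

theorem swσ_inl (j : ι) : swσ j (Sum.inl j) = Sum.inr j := Equiv.swap_apply_left _ _

theorem swσ_inr (j : ι) : swσ j (Sum.inr j) = Sum.inl j := Equiv.swap_apply_right _ _

theorem swσ_bar (j : ι) (x : ι ⊕ ι) : swσ j (bar x) = bar (swσ j x) := by
  rcases x with i | i
  · by_cases h : i = j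
    · subst h
      rw [bar_inl, swσ_inr, swσ_inl, bar_inr]
    · rw [swσ_of_ne j (x := Sum.inl i) h, swσ_of_ne j (x := bar (Sum.inl i)) (by rwa [idx_bar])]
  · by_cases h : i = j
    · subst h
      rw [bar_inr, swσ_inr, swσ_inl, bar_inl]
    · rw [swσ_of_ne j (x := Sum.inr i) h, swσ_of_ne j (x := bar (Sum.inr i)) (by rwa [idx_bar])]

theorem swσ_eq_iff (j : ι) {x y : ι ⊕ ι} : swσ j x = y ↔ x = swσ j y :=
  ⟨fun h => by rw [← h, swσ_swσ], fun h => by rw [h, swσ_swσ]⟩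

/-- the matrix of the swap -/
def swM (j : ι) : Matrix (ι ⊕ ι) (ι ⊕ ι) K := Matrix.of fun x y => if y = swσ j x then 1 else 0

theorem swM_mulVec (j : ι) (v : ι ⊕ ι → K) : (swM j : Matrix _ _ K) *ᵥ v = fun x => v (swσ j x) := by
  funext x
  unfold swM Matrix.mulVec dotProduct
  simp only [Matrix.of_apply, ite_mul, one_mul, zero_mul]
  rw [Finset.sum_ite_eq']
  simp

theorem swM_mul_swM (j : ι) : (swM j : Matrix _ _ K) * swM j = 1 := by
  rw [Matrix.ext_iff_mulVec]
  intro v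
  rw [← Matrix.mulVec_mulVec, swM_mulVec, swM_mulVec, Matrix.one_mulVec]
  funext x
  simp only [swσ_swσ]

theorem QP_swσ (j : ι) (v : ι ⊕ ι → K) : QP (fun x => v (swσ j x)) = QP v := by
  unfold QP
  apply Finset.sum_congr rfl
  intro i _
  by_cases h : i = j
  · subst h
    simp only [swσ_inl, swσ_inr]
    exact mul_comm _ _
  · simp only [swσ_of_ne j (x := Sum.inl i) h, swσ_of_ne j (x := Sum.inr i) h]

/-- the swap isometry -/
def swO (j : ι) : OG ι K :=
  ⟨⟨swM j, swM j, swM_mul_swM j, swM_mul_swM j⟩, fun u _ => by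
    show QP ((swM j : Matrix _ _ K) *ᵥ u) = QP u
    rw [swM_mulVec, QP_swσ]⟩

theorem gv_swO (j : ι) (v : ι ⊕ ι → K) : gv (swO j : OG ι K) v = fun x => v (swσ j x) :=
  swM_mulVec j v

theorem gv_swO_single (j : ι) (x : ι ⊕ ι) (c : K) :
    gv (swO j : OG ι K) (Pi.single x c) = Pi.single (swσ j x) c := by
  rw [gv_swO]
  funext y
  simp only [Pi.single_apply, swσ_eq_iff]

theorem swO_mul_swO (j : ι) : (swO j : OG ι K) * swO j = 1 := by
  apply OG_ext'
  intro v
  rw [gv_mul, gv_swO, gv_swO, gv_one]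
  funext x
  simp only [swσ_swσ]

theorem swO_inv (j : ι) : (swO j : OG ι K)⁻¹ = swO j :=
  inv_eq_of_mul_eq_one_left (swO_mul_swO j)

theorem swO_conj_sgO (j : ι) (a b : ι ⊕ ι) (hab : a ≠ b) (t : K) :
    swO j * sgO a b hab t * (swO j)⁻¹ =
      sgO (swσ j a) (swσ j b) (fun h => hab ((swσ j).injective h)) t := by
  apply OG_ext'
  intro v
  rw [swO_inv, gv_mul, gv_mul, gv_swO, gv_swO]
  funext y
  rw [gv_sgO_apply, gv_sgO_apply]
  simp only [swσ_swσ, swσ_eq_iff, swσ_bar]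

theorem swO_conj_dgO (j : ι) (c : K) (hc : c ≠ 0) :
    swO j * dgO j c hc * (swO j)⁻¹ = dgO j c⁻¹ (inv_ne_zero hc) := by
  apply OG_ext'
  intro v
  rw [swO_inv, gv_mul, gv_mul, gv_swO, gv_swO, gv_dgO, gv_dgO]
  funext y
  simp only [swσ_swσ]
  rw [dgW_inv]
  congr 1
  by_cases h : idx y = j
  · rcases eq_or_eq_bar_of_idx (x := y) (y := Sum.inl j) h with e | e
    · rw [e, swσ_inl, dgW_inr, dgW_inl]
    · rw [e, bar_inl, swσ_inr, dgW_inr, dgW_inl, inv_inv]
  · rw [swσ_of_ne j h, dgW_of_ne j c h, inv_one]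

end Cfsg.Agent.Lib.Helper8.Orth
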