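import Mathlib
import Cfsg.Agent.Lib.Helper8.OrthE

/-!
# `Ω₈⁺ = [O, O]` is contained in the elementary subgroup (helper8)
-/

set_option autoImplicit false
set_option linter.unusedSectionVars false

namespace Cfsg.Agent.Lib.Helper8.Orth

open Matrix

variable {ι : Type} [Fintype ι] [DecidableEq ι] {K : Type*} [Field K]

theorem BP_of_supp (p : ι ⊕ ι) (u w : ι ⊕ ι → K) (hu : ∀ y, y ≠ p → y ≠ bar p → u y = 0) :
    BP u w = u p * w (bar p) + u (bar p) * w p := by
  unfold BP
  rw [Finset.sum_eq_add p (bar p) (ne_bar p)]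
  · rw [bar_bar]
  · intro y _ hy
    rw [hu y hy.1 hy.2, zero_mul]
  · intro h; exact absurd (Finset.mem_univ _) h
  · intro h; exact absurd (Finset.mem_univ _) h

/-- the structure of the stabiliser of all basis vectors outside the index `j` -/
theorem T_form (j : ι) (τ : OG ι K)
    (hτ : ∀ x, idx x ≠ j → gv τ (Pi.single x 1) = Pi.single x 1) :
    ∃ (c : K) (hc : c ≠ 0), τ = dgO j c hc ∨ τ = dgO j c hc * swO j := by
  set p : ι ⊕ ι := Sum.inl j with hp
  have hidx : ∀ y : ι ⊕ ι, y ≠ p → y ≠ bar p → idx y ≠ j := by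
    intro y h1 h2 h
    rcases eq_or_eq_bar_of_idx (x := y) (y := p) h with e | e
    · exact h1 e
    · exact h2 e
  have hpS : idx p ∉ {i : ι | i ≠ j} := fun h => h rfl
  have hbpS : idx (bar p) ∉ {i : ι | i ≠ j} := fun h => h rfl
  set u := gv τ (Pi.single p 1) with hu
  set w := gv τ (Pi.single (bar p) 1) with hw
  have hu0 : ∀ y, y ≠ p → y ≠ bar p → u y = 0 := fun y h1 h2 =>
    coord_zero_of_fix {i : ι | i ≠ j} τ hτ p hpS y (hidx y h1 h2)
  have hw0 : ∀ y, y ≠ p → y ≠ bar p → w y = 0 := fun y h1 h2 =>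
    coord_zero_of_fix {i : ι | i ≠ j} τ hτ (bar p) hbpS y (hidx y h1 h2)
  have hQu : u p * u (bar p) = 0 := by
    rw [← QP_of_supp p u hu0, hu, QP_gv, QP_single]
  have hQw : w p * w (bar p) = 0 := by
    rw [← QP_of_supp p w hw0, hw, QP_gv, QP_single]
  have hB : u p * w (bar p) + u (bar p) * w p = 1 := by
    rw [← BP_of_supp p u w hu0, hu, hw, BP_gv, BP_single_right, bar_bar, Pi.single_eq_same,
      mul_one]
  have husingle : ∀ α β : K, u p = α → u (bar p) = β → u = Pi.single p α + Pi.single (bar p) β := by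
    intro α β h1 h2
    funext y
    rw [Pi.add_apply]
    by_cases hy : y = p
    · rw [hy, Pi.single_eq_same, Pi.single_eq_of_ne (ne_bar p), add_zero, h1]
    by_cases hy' : y = bar p
    · rw [hy', Pi.single_eq_same, Pi.single_eq_of_ne (bar_ne p), zero_add, h2]
    · rw [hu0 y hy hy', Pi.single_eq_of_ne hy, Pi.single_eq_of_ne hy', add_zero]
  have hwsingle : ∀ γ δ : K, w p = γ → w (bar p) = δ → w = Pi.single p γ + Pi.single (bar p) δ := by
    intro γ δ h1 h2
    funext y
    rw [Pi.add_apply]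
    by_cases hy : y = p
    · rw [hy, Pi.single_eq_same, Pi.single_eq_of_ne (ne_bar p), add_zero, h1]
    by_cases hy' : y = bar p
    · rw [hy', Pi.single_eq_same, Pi.single_eq_of_ne (bar_ne p), zero_add, h2]
    · rw [hw0 y hy hy', Pi.single_eq_of_ne hy, Pi.single_eq_of_ne hy', add_zero]
  by_cases hβ : u (bar p) = 0
  · -- diagonal case
    rw [hβ, zero_mul, add_zero] at hB
    have hα : u p ≠ 0 := fun h => by rw [h, zero_mul] at hB; exact zero_ne_one hB
    have hδ : w (bar p) = (u p)⁻¹ := eq_inv_of_mul_eq_one_right hB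
    have hγ : w p = 0 := by
      rcases mul_eq_zero.mp hQw with h | h
      · exact h
      · rw [hδ] at h
        exact absurd h (inv_ne_zero hα)
    refine ⟨u p, hα, Or.inl ?_⟩
    apply OG_ext
    intro x
    by_cases hx : idx x = j
    · rcases eq_or_eq_bar_of_idx (x := x) (y := p) hx with e | e
      · have e1 := husingle _ _ rfl hβ
        rw [Pi.single_zero, add_zero] at e1
        rw [e, gv_dgO_single, ← hu, hp, dgW_inl, ← hp]
        exact e1
      · rw [e, gv_dgO_single, ← hw, hwsingle _ _ hγ hδ, Pi.single_zero, zero_add, hp, bar_inl,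
          dgW_inr]
    · rw [hτ x hx, gv_dgO_single, dgW_of_ne j _ hx]
  · -- swap case
    have hα : u p = 0 := by
      rcases mul_eq_zero.mp hQu with h | h
      · exact h
      · exact absurd h hβ
    rw [hα, zero_mul, zero_add] at hB
    have hγ : w p ≠ 0 := fun h => by rw [h, mul_zero] at hB; exact zero_ne_one hB
    have hδ : w (bar p) = 0 := by
      rcases mul_eq_zero.mp hQw with h | h
      · exact absurd h hγ
      · exact h
    have hβ' : u (bar p) = (w p)⁻¹ := eq_inv_of_mul_eq_one_left hB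
    refine ⟨w p, hγ, Or.inr ?_⟩
    apply OG_ext
    intro x
    rw [gv_mul, gv_swO_single, gv_dgO_single]
    by_cases hx : idx x = j
    · rcases eq_or_eq_bar_of_idx (x := x) (y := p) hx with e | e
      · rw [e, ← hu, husingle _ _ hα hβ', Pi.single_zero, zero_add, hp, swσ_inl, dgW_inr]
        rfl
      · have e1 := hwsingle _ _ rfl hδ
        rw [Pi.single_zero, add_zero] at e1
        rw [e, ← hw, hp, bar_inl, swσ_inr, dgW_inl, ← hp]
        exact e1
    · rw [hτ x hx, swσ_of_ne j hx, dgW_of_ne j _ hx]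

end Cfsg.Agent.Lib.Helper8.Orth
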