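import Mathlib
import Cfsg.Agent.Lib.Helper8.OrthF

/-!
# `[O₈⁺, O₈⁺]` lies in the elementary subgroup (helper8)
-/

set_option autoImplicit false
set_option linter.unusedSectionVars false

namespace Cfsg.Agent.Lib.Helper8.Orth

open Matrix

variable {K : Type*} [Field K]

/-- the full elementary subgroup in dimension eight -/
abbrev E8 (K : Type*) [Field K] : Subgroup (OG (Fin 4) K) := ES (∅ : Set (Fin 4))

theorem sgO_mem_E8 {a b : Fin 4 ⊕ Fin 4} (hab : a ≠ b) (t : K) : sgO a b hab t ∈ E8 K :=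
  sgO_mem_ES hab t (Set.notMem_empty _) (Set.notMem_empty _)

/-- the stabiliser chain -/
theorem chain8 (g : OG (Fin 4) K) :
    ∃ h ∈ E8 K, ∀ x, idx x ≠ (3 : Fin 4) → gv (h * g) (Pi.single x 1) = Pi.single x 1 := by
  obtain ⟨h₁, hh₁, e₁⟩ := red_step (∅ : Set (Fin 4)) 0 1 (Set.notMem_empty _) (Set.notMem_empty _)
    (by decide) g (fun x hx => absurd hx (Set.notMem_empty _))
  obtain ⟨h₂, hh₂, e₂⟩ := red_step (insert (0 : Fin 4) (∅ : Set (Fin 4))) 1 2 (by simp) (by simp)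
    (by decide) (h₁ * g) e₁
  obtain ⟨h₃, hh₃, e₃⟩ := red_step (insert (1 : Fin 4) (insert (0 : Fin 4) (∅ : Set (Fin 4)))) 2 3
    (by simp) (by simp) (by decide) (h₂ * (h₁ * g)) e₂
  refine ⟨h₃ * h₂ * h₁, mul_mem (mul_mem (ES_mono (Set.empty_subset _) hh₃)
    (ES_mono (Set.empty_subset _) hh₂)) hh₁, ?_⟩
  intro x hx
  have : h₃ * h₂ * h₁ * g = h₃ * (h₂ * (h₁ * g)) := by group
  rw [this]
  apply e₃
  have key : ∀ i : Fin 4, i ≠ 3 → i ∈ insert (2 : Fin 4) (insert (1 : Fin 4)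
      (insert (0 : Fin 4) (∅ : Set (Fin 4)))) := by
    intro i hi
    fin_cases i
    · simp
    · simp
    · simp
    · exact absurd rfl hi
  exact key _ hx

/-- every isometry is an elementary one times a diagonal or diagonal-swap element -/
theorem exists_form (g : OG (Fin 4) K) :
    ∃ h ∈ E8 K, ∃ (c : K) (hc : c ≠ 0), g = h * dgO 3 c hc ∨ g = h * (dgO 3 c hc * swO 3) := by
  obtain ⟨h, hh, e⟩ := chain8 g
  obtain ⟨c, hc, H⟩ := T_form (3 : Fin 4) (h * g) e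
  refine ⟨h⁻¹, inv_mem hh, c, hc, ?_⟩
  rcases H with H | H
  · left; rw [← H]; group
  · right; rw [← H]; group

theorem dg_conj_mem (c : K) (hc : c ≠ 0) {n : OG (Fin 4) K} (hn : n ∈ E8 K) :
    dgO 3 c hc * n * (dgO 3 c hc)⁻¹ ∈ E8 K := by
  have : E8 K ≤ (E8 K).comap (MulAut.conj (dgO 3 c hc)).toMonoidHom := by
    unfold E8 ES
    rw [Subgroup.closure_le]
    rintro g ⟨a, b, hab, t, -, -, rfl⟩
    show dgO 3 c hc * sgO a b hab t * (dgO 3 c hc)⁻¹ ∈ E8 K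
    rw [dgO_conj_sgO]
    exact sgO_mem_E8 _ _
  exact this hn

theorem sw_conj_mem {n : OG (Fin 4) K} (hn : n ∈ E8 K) :
    swO 3 * n * (swO 3)⁻¹ ∈ E8 K := by
  have : E8 K ≤ (E8 K).comap (MulAut.conj (swO (3 : Fin 4) : OG (Fin 4) K)).toMonoidHom := by
    unfold E8 ES
    rw [Subgroup.closure_le]
    rintro g ⟨a, b, hab, t, -, -, rfl⟩
    show swO 3 * sgO a b hab t * (swO 3)⁻¹ ∈ E8 K
    rw [swO_conj_sgO]
    exact sgO_mem_E8 _ _
  exact this hn

instance E8_normal : (E8 K).Normal := by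
  constructor
  intro n hn g
  obtain ⟨h, hh, c, hc, H | H⟩ := exists_form g
  · rw [H]
    have := dg_conj_mem c hc hn
    have e : h * dgO 3 c hc * n * (h * dgO 3 c hc)⁻¹ =
        h * (dgO 3 c hc * n * (dgO 3 c hc)⁻¹) * h⁻¹ := by group
    rw [e]
    exact mul_mem (mul_mem hh this) (inv_mem hh)
  · rw [H]
    have := dg_conj_mem c hc (sw_conj_mem hn)
    have e : h * (dgO 3 c hc * swO 3) * n * (h * (dgO 3 c hc * swO 3))⁻¹ =
        h * (dgO 3 c hc * (swO 3 * n * (swO 3)⁻¹) * (dgO 3 c hc)⁻¹) * h⁻¹ := by group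
    rw [e]
    exact mul_mem (mul_mem hh this) (inv_mem hh)

theorem ne23 : (Sum.inl 2 : Fin 4 ⊕ Fin 4) ≠ Sum.inl 3 := by decide
theorem ne23' : (Sum.inl 2 : Fin 4 ⊕ Fin 4) ≠ Sum.inr 3 := by decide
theorem ne23b : (Sum.inl 2 : Fin 4 ⊕ Fin 4) ≠ bar (Sum.inl 3) := by decide
theorem ne23b' : (Sum.inl 2 : Fin 4 ⊕ Fin 4) ≠ bar (Sum.inr 3) := by decide

/-- squares of the diagonal elements are elementary -/
theorem dg_sq_mem (c : K) (hc : c ≠ 0) : dgO (3 : Fin 4) (c ^ 2) (pow_ne_zero 2 hc) ∈ E8 K := by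
  have key : dgO (3 : Fin 4) (c ^ 2) (pow_ne_zero 2 hc) * hh ne23 c = hh ne23' c := by
    apply OG_ext'
    intro v
    rw [gv_mul, gv_dgO, gv_hh ne23 ne23b hc, gv_hh ne23' ne23b' hc]
    funext y
    rcases y with i | i <;> fin_cases i <;>
      simp [act, dgW, bar] <;> field_simp
  have : dgO (3 : Fin 4) (c ^ 2) (pow_ne_zero 2 hc) = hh ne23' c * (hh ne23 c)⁻¹ := by
    rw [← key]; group
  rw [this]
  exact mul_mem (hh_mem ne23' ne23b' (Set.notMem_empty _) (Set.notMem_empty _) c)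
    (inv_mem (hh_mem ne23 ne23b (Set.notMem_empty _) (Set.notMem_empty _) c))

/-- `[O, O] ≤ E` -/
theorem commutator_le_E8 : commutator (OG (Fin 4) K) ≤ E8 K := by
  apply (Subgroup.Normal.quotient_commutative_iff_commutator_le (N := E8 K)).mp
  let π := QuotientGroup.mk' (E8 K)
  have hπE : ∀ h ∈ E8 K, π h = 1 := fun h hh => (QuotientGroup.eq_one_iff h).mpr hh
  have f1 : ∀ (c d : K) (hc : c ≠ 0) (hd : d ≠ 0),
      π (dgO 3 c hc) * π (dgO 3 d hd) = π (dgO 3 (c * d) (mul_ne_zero hc hd)) := by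
    intro c d hc hd
    rw [← map_mul, dgO_mul]
  have f2 : ∀ (c d : K) (hc : c ≠ 0) (hd : d ≠ 0),
      Commute (π (dgO 3 c hc)) (π (dgO 3 d hd)) := by
    intro c d hc hd
    show _ * _ = _ * _
    rw [f1, f1]
    congr 2
    exact mul_comm c d
  have f3 : ∀ (c : K) (hc : c ≠ 0), π (dgO 3 c hc) * π (dgO 3 c hc) = 1 := by
    intro c hc
    rw [f1]
    have := hπE _ (dg_sq_mem c hc)
    have e : c * c = c ^ 2 := (sq c).symm
    simp only [e]
    exact this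
  have f5 : ∀ (c : K) (hc : c ≠ 0), π (dgO 3 c⁻¹ (inv_ne_zero hc)) = π (dgO 3 c hc) := by
    intro c hc
    rw [← dgO_inv, map_inv, inv_eq_iff_mul_eq_one]
    exact f3 c hc
  have f6 : ∀ (c : K) (hc : c ≠ 0), Commute (π (swO 3)) (π (dgO 3 c hc)) := by
    intro c hc
    show _ * _ = _ * _
    have := swO_conj_dgO (3 : Fin 4) c hc
    have e : swO 3 * dgO 3 c hc = dgO 3 c⁻¹ (inv_ne_zero hc) * swO (3 : Fin 4) := by
      rw [← this]; group
    rw [← map_mul, e, map_mul, f5]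
  have hform : ∀ q : OG (Fin 4) K ⧸ E8 K, ∃ (c : K) (hc : c ≠ 0) (ε : ℕ),
      q = π (dgO 3 c hc) * π (swO 3) ^ ε := by
    intro q
    obtain ⟨g, rfl⟩ := QuotientGroup.mk'_surjective (E8 K) q
    obtain ⟨h, hh, c, hc, H | H⟩ := exists_form g
    · refine ⟨c, hc, 0, ?_⟩
      rw [H, map_mul, hπE h hh, one_mul, pow_zero, mul_one]
    · refine ⟨c, hc, 1, ?_⟩
      rw [H, map_mul, map_mul, hπE h hh, one_mul, pow_one]
  refine ⟨⟨fun a b => ?_⟩⟩
  obtain ⟨c, hc, ε, rfl⟩ := hform a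
  obtain ⟨d, hd, ε', rfl⟩ := hform b
  have h1 : Commute (π (dgO 3 c hc)) (π (dgO 3 d hd) * π (swO 3) ^ ε') :=
    (f2 c d hc hd).mul_right ((f6 c hc).symm.pow_right ε')
  have h2 : Commute (π (swO (3 : Fin 4)) ^ ε) (π (dgO 3 d hd) * π (swO 3) ^ ε') :=
    ((f6 d hd).pow_left ε).mul_right ((Commute.refl _).pow_pow ε ε')
  exact (h1.mul_left h2).eq

end Cfsg.Agent.Lib.Helper8.Orth
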