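import Mathlib
import Cfsg.Prelude.Def_ChevStructure
import Cfsg.Prelude.Def_ChevD4
import Cfsg.Agent.Lib.Helper8.OrthG

/-!
# Integer tables for the root elements of `Ω₈⁺` and Steinberg's relations (helper8)
-/

set_option autoImplicit false
set_option linter.unusedSectionVars false

namespace Cfsg.Agent.Lib.Helper8.Orth

open Matrix Cfsg.Lie

/-! ### codes -/

/-- the code of an index -/
def code : Fin 4 ⊕ Fin 4 → ℕ
  | Sum.inl i => i.val
  | Sum.inr i => 4 + i.val

/-- the index of a code -/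
def dec (n : ℕ) : Fin 4 ⊕ Fin 4 :=
  if h : n < 4 then Sum.inl ⟨n, h⟩ else Sum.inr ⟨(n - 4) % 4, Nat.mod_lt _ (by norm_num)⟩

/-- the opposite code -/
def barN (n : ℕ) : ℕ := (n + 4) % 8

theorem code_lt (x : Fin 4 ⊕ Fin 4) : code x < 8 := by
  rcases x with i | i <;> simp only [code] <;> omega

theorem dec_code (x : Fin 4 ⊕ Fin 4) : dec (code x) = x := by
  rcases x with i | i <;> fin_cases i <;> rfl

theorem code_dec {n : ℕ} (hn : n < 8) : code (dec n) = n := by
  interval_cases n <;> rfl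

theorem code_bar (x : Fin 4 ⊕ Fin 4) : code (bar x) = barN (code x) := by
  rcases x with i | i <;> fin_cases i <;> rfl

theorem code_injective : Function.Injective code := fun x y h => by
  rw [← dec_code x, h, dec_code]

theorem barN_lt (n : ℕ) : barN n < 8 := Nat.mod_lt _ (by norm_num)

theorem dec_barN {n : ℕ} (hn : n < 8) : dec (barN n) = bar (dec n) := by
  interval_cases n <;> rfl

theorem code_eq_iff {x : Fin 4 ⊕ Fin 4} {n : ℕ} (hn : n < 8) : code x = n ↔ x = dec n :=
  ⟨fun h => by rw [← h, dec_code], fun h => by rw [h, code_dec hn]⟩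

/-! ### tables -/

/-- integer tables -/
abbrev Tab := ℕ → ℕ → ℤ

/-- the matrix of a table -/
def ofTab (K : Type*) [Field K] (T : Tab) : Matrix (Fin 4 ⊕ Fin 4) (Fin 4 ⊕ Fin 4) K :=
  Matrix.of fun x y => ((T (code x) (code y) : ℤ) : K)

def tmul (T T' : Tab) : Tab := fun i j =>
  T i 0 * T' 0 j + T i 1 * T' 1 j + T i 2 * T' 2 j + T i 3 * T' 3 j +
    T i 4 * T' 4 j + T i 5 * T' 5 j + T i 6 * T' 6 j + T i 7 * T' 7 j

def tsub (T T' : Tab) : Tab := fun i j => T i j - T' i j

def tsmul (c : ℤ) (T : Tab) : Tab := fun i j => c * T i j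

def tzero : Tab := fun _ _ => 0

def teq (T T' : Tab) : Bool :=
  (List.range 8).all fun i => (List.range 8).all fun j => T i j == T' i j

variable {K : Type*} [Field K]

theorem ofTab_congr {T T' : Tab} (h : teq T T' = true) : ofTab K T = ofTab K T' := by
  ext x y
  unfold ofTab
  simp only [Matrix.of_apply]
  unfold teq at h
  rw [List.all_eq_true] at h
  have h1 := h (code x) (List.mem_range.mpr (code_lt x))
  rw [List.all_eq_true] at h1
  have h2 := h1 (code y) (List.mem_range.mpr (code_lt y))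
  rw [beq_iff_eq] at h2
  rw [h2]

theorem code_l0 : code (Sum.inl 0) = 0 := rfl
theorem code_l1 : code (Sum.inl 1) = 1 := rfl
theorem code_l2 : code (Sum.inl 2) = 2 := rfl
theorem code_l3 : code (Sum.inl 3) = 3 := rfl
theorem code_r0 : code (Sum.inr 0) = 4 := rfl
theorem code_r1 : code (Sum.inr 1) = 5 := rfl
theorem code_r2 : code (Sum.inr 2) = 6 := rfl
theorem code_r3 : code (Sum.inr 3) = 7 := rfl

theorem ofTab_mul (T T' : Tab) : ofTab K T * ofTab K T' = ofTab K (tmul T T') := by
  ext x y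
  unfold ofTab tmul
  simp only [Matrix.mul_apply, Matrix.of_apply, Fintype.sum_sum_type, Fin.sum_univ_four,
    code_l0, code_l1, code_l2, code_l3, code_r0, code_r1, code_r2, code_r3]
  push_cast
  ring

theorem ofTab_sub (T T' : Tab) : ofTab K T - ofTab K T' = ofTab K (tsub T T') := by
  ext x y
  unfold ofTab tsub
  simp only [Matrix.sub_apply, Matrix.of_apply]
  push_cast
  ring

theorem ofTab_smul (c : ℤ) (T : Tab) : (c : K) • ofTab K T = ofTab K (tsmul c T) := by
  ext x y
  unfold ofTab tsmul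
  simp only [Matrix.smul_apply, Matrix.of_apply, smul_eq_mul]
  push_cast
  ring

theorem ofTab_zero : ofTab K tzero = 0 := by
  ext x y
  unfold ofTab tzero
  simp

/-! ### the root table -/

def raL : List ℕ := [5, 6, 3, 7, 4, 1, 5, 5, 5, 2, 3, 7, 2, 2, 1, 3, 7, 2, 0, 6, 0, 0, 0, 0]
def rbL : List ℕ := [0, 0, 0, 0, 6, 0, 2, 7, 3, 1, 2, 2, 7, 3, 2, 5, 5, 5, 1, 4, 7, 3, 6, 5]

def ra (r : ℕ) : ℕ := raL.getD r 0
def rb (r : ℕ) : ℕ := rbL.getD r 0

/-- the table of the nilpotent `N(a, b) = E_{ab} - E_{b̄ ā}` -/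
def nTab (a b : ℕ) : Tab := fun i j =>
  if i = a ∧ j = b then 1 else if i = barN b ∧ j = barN a then -1 else 0

/-- the table of the root `r` -/
def nT (r : ℕ) : Tab := nTab (ra r) (rb r)

theorem sgM_eq_ofTab {a b : ℕ} (ha : a < 8) (hb : b < 8) (hab' : b ≠ barN a) (t : K) :
    sgM (dec a) (dec b) t = 1 + t • ofTab K (nTab a b) := by
  ext x y
  unfold sgM ofTab nTab
  simp only [Matrix.add_apply, Matrix.sub_apply, Matrix.smul_apply, Matrix.of_apply,
    Matrix.single_apply, smul_eq_mul]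
  rw [add_sub_assoc]
  congr 1
  have e1 : (dec a = x ∧ dec b = y) ↔ (code x = a ∧ code y = b) := by
    rw [code_eq_iff ha, code_eq_iff hb, eq_comm, @eq_comm _ (dec b)]
  have e2 : (bar (dec b) = x ∧ bar (dec a) = y) ↔ (code x = barN b ∧ code y = barN a) := by
    rw [code_eq_iff (barN_lt b), code_eq_iff (barN_lt a), dec_barN ha, dec_barN hb, eq_comm,
      @eq_comm _ (bar (dec a))]
  by_cases h1 : code x = a ∧ code y = b
  · rw [if_pos (e1.mpr h1), if_pos h1]
    by_cases h2 : code x = barN b ∧ code y = barN a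
    · exfalso
      exact hab' (h1.2.symm.trans h2.2)
    · rw [if_neg (fun h => h2 (e2.mp h))]
      push_cast
      ring
  · rw [if_neg (fun h => h1 (e1.mp h)), if_neg h1]
    by_cases h2 : code x = barN b ∧ code y = barN a
    · rw [if_pos (e2.mpr h2), if_pos h2]
      push_cast
      ring
    · rw [if_neg (fun h => h2 (e2.mp h)), if_neg h2]
      push_cast
      ring

end Cfsg.Agent.Lib.Helper8.Orth
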