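import Mathlib
import Cfsg.Agent.Lib.Helper8.OrthH
import Cfsg.Agent.Lib.Helper8.ChevCov1

/-!
# Steinberg's relations for the root elements of `Ω₈⁺` (helper8)
-/

set_option autoImplicit false
set_option linter.unusedSectionVars false

namespace Cfsg.Agent.Lib.Helper8.Orth

open Matrix Cfsg.Lie Cfsg.Agent.Lib.Helper8.Chev

/-! ### the decidable checks -/

def checkValid : Bool := (List.range 24).all fun r =>
  decide (ra r < 8) && decide (rb r < 8) && decide (ra r ≠ rb r) && decide (rb r ≠ barN (ra r))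

def checkSq : Bool := (List.range 24).all fun r => teq (tmul (nT r) (nT r)) tzero

def checkR2 : Bool := (List.range 24).all fun r => (List.range 24).all fun s =>
  (s == r || s == chevD4.neg r) ||
  (teq (tmul (tmul (nT r) (nT s)) (nT r)) tzero && teq (tmul (tmul (nT s) (nT r)) (nT s)) tzero &&
   match chevD4.commTerms r s with
   | [] => teq (tsub (tmul (nT s) (nT r)) (tmul (nT r) (nT s))) tzero
   | [(q, c, 1, 1)] => decide (q < 24) &&
       teq (tsub (tmul (nT s) (nT r)) (tmul (nT r) (nT s))) (tsmul (-c) (nT q))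
   | _ => false)

theorem checkValid_ok : checkValid = true := by decide +kernel
theorem checkSq_ok : checkSq = true := by decide +kernel
set_option maxRecDepth 100000 in
theorem checkR2_ok : checkR2 = true := by decide +kernel

theorem valid_of_lt {r : ℕ} (hr : r < 24) :
    ra r < 8 ∧ rb r < 8 ∧ ra r ≠ rb r ∧ rb r ≠ barN (ra r) := by
  have h := (List.all_eq_true.mp checkValid_ok) r (List.mem_range.mpr hr)
  simp only [Bool.and_eq_true, decide_eq_true_eq] at h
  exact ⟨h.1.1.1, h.1.1.2, h.1.2, h.2⟩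

theorem dec_ne_of_lt {r : ℕ} (hr : r < 24) : dec (ra r) ≠ dec (rb r) := by
  obtain ⟨h1, h2, h3, -⟩ := valid_of_lt hr
  intro h
  apply h3
  rw [← code_dec h1, h, code_dec h2]

variable {K : Type*} [Field K]

theorem sq_of_lt {r : ℕ} (hr : r < 24) : ofTab K (nT r) * ofTab K (nT r) = 0 := by
  have h := (List.all_eq_true.mp checkSq_ok) r (List.mem_range.mpr hr)
  rw [ofTab_mul, ofTab_congr h, ofTab_zero]

theorem checkR2_spec {r s : ℕ} (hr : r < 24) (hs : s < 24) (h1 : s ≠ r) (h2 : s ≠ chevD4.neg r) :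
    teq (tmul (tmul (nT r) (nT s)) (nT r)) tzero = true ∧
    teq (tmul (tmul (nT s) (nT r)) (nT s)) tzero = true ∧
    ((chevD4.commTerms r s = [] ∧
        teq (tsub (tmul (nT s) (nT r)) (tmul (nT r) (nT s))) tzero = true) ∨
      ∃ q c, chevD4.commTerms r s = [(q, c, 1, 1)] ∧ q < 24 ∧
        teq (tsub (tmul (nT s) (nT r)) (tmul (nT r) (nT s))) (tsmul (-c) (nT q)) = true) := by
  have h := (List.all_eq_true.mp ((List.all_eq_true.mp checkR2_ok) r (List.mem_range.mpr hr))) s
    (List.mem_range.mpr hs)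
  simp only [Bool.or_eq_true, beq_iff_eq, Bool.and_eq_true] at h
  rcases h with (h | h) | ⟨⟨ha, hb⟩, hc⟩
  · exact absurd h h1
  · exact absurd h h2
  · refine ⟨ha, hb, ?_⟩
    split at hc
    · next he => exact Or.inl ⟨he, hc⟩
    · next q c he =>
      simp only [Bool.and_eq_true, decide_eq_true_eq] at hc
      exact Or.inr ⟨q, c, he, hc.1, hc.2⟩
    · exact absurd hc (by simp)

/-! ### the root elements -/

/-- the root element `x_r(t)` of `Ω₈⁺` -/
def X8 (K : Type*) [Field K] (r : ℕ) (t : K) : OG (Fin 4) K :=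
  if h : r < 24 ∧ dec (ra r) ≠ dec (rb r) then sgO (dec (ra r)) (dec (rb r)) h.2 t else 1

theorem X8_of_lt {r : ℕ} (hr : r < 24) (t : K) :
    X8 K r t = sgO (dec (ra r)) (dec (rb r)) (dec_ne_of_lt hr) t := by
  unfold X8
  rw [dif_pos ⟨hr, dec_ne_of_lt hr⟩]

theorem X8_out {r : ℕ} (hr : ¬ r < 24) (t : K) : X8 K r t = 1 := by
  unfold X8
  rw [dif_neg (fun h => hr h.1)]

theorem X8_val {r : ℕ} (hr : r < 24) (t : K) :
    (((X8 K r t).1 : GL (Fin 4 ⊕ Fin 4) K) : Matrix (Fin 4 ⊕ Fin 4) (Fin 4 ⊕ Fin 4) K) =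
      1 + t • ofTab K (nT r) := by
  obtain ⟨h1, h2, -, h4⟩ := valid_of_lt hr
  rw [X8_of_lt hr]
  exact sgM_eq_ofTab h1 h2 h4 t

theorem OG_ext_val {g h : OG (Fin 4) K}
    (H : ((g.1 : GL (Fin 4 ⊕ Fin 4) K) : Matrix (Fin 4 ⊕ Fin 4) (Fin 4 ⊕ Fin 4) K) =
      ((h.1 : GL (Fin 4 ⊕ Fin 4) K) : Matrix (Fin 4 ⊕ Fin 4) (Fin 4 ⊕ Fin 4) K)) : g = h :=
  Subtype.ext (Units.ext H)

theorem X8_add {r : ℕ} (hr : r < 24) (t u : K) : X8 K r t * X8 K r u = X8 K r (t + u) := by
  apply OG_ext_val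
  rw [X8_of_lt hr, X8_of_lt hr, X8_of_lt hr]
  exact sgM_mul (dec_ne_of_lt hr) t u

theorem X8_zero {r : ℕ} (hr : r < 24) : X8 K r 0 = 1 := by
  have := X8_add (K := K) hr 0 0
  rw [add_zero] at this
  exact mul_eq_left.mp this

theorem X8_inv {r : ℕ} (hr : r < 24) (t : K) : (X8 K r t)⁻¹ = X8 K r (-t) := by
  rw [inv_eq_iff_mul_eq_one, X8_add hr, add_neg_cancel, X8_zero hr]

/-- expansion of a commutator of two "transvections" -/
theorem comm_expand {A : Type*} [Ring A] [Algebra K A] (R S : A) (t u : K) (hRR : R * R = 0)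
    (hSS : S * S = 0) (hRSR : R * S * R = 0) (hSRS : S * R * S = 0) :
    (1 + (-u) • S) * (1 + (-t) • R) * (1 + u • S) * (1 + t • R) =
      1 + (u * t) • (S * R - R * S) := by
  set a := u • S with ha
  set b := t • R with hb
  have haa : a * a = 0 := by rw [ha, smul_mul_smul_comm, hSS, smul_zero]
  have hbb : b * b = 0 := by rw [hb, smul_mul_smul_comm, hRR, smul_zero]
  have hbab : b * a * b = 0 := by
    rw [ha, hb, smul_mul_smul_comm, smul_mul_smul_comm, hRSR, smul_zero]
  have haba : a * b * a = 0 := by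
    rw [ha, hb, smul_mul_smul_comm, smul_mul_smul_comm, hSRS, smul_zero]
  have e1 : (-u) • S = -a := by rw [ha, neg_smul]
  have e2 : (-t) • R = -b := by rw [hb, neg_smul]
  have e3 : (u * t) • (S * R - R * S) = a * b - b * a := by
    rw [ha, hb, smul_mul_smul_comm, smul_mul_smul_comm, smul_sub, mul_comm t u]
  rw [e1, e2, e3]
  have key : (1 + -a) * (1 + -b) * (1 + a) * (1 + b) =
      1 + (a * b - b * a) + (-(a * a) - a * a * b - b * b - b * a * b + a * b * a + a * (b * b)
        + a * b * a * b) := by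
    noncomm_ring
  rw [key, haa, hbb, hbab, haba]
  noncomm_ring

/-- Steinberg's commutator relation (R2) -/
theorem X8_comm {r s : ℕ} (hr : r < 24) (hs : s < 24) (h1 : s ≠ r) (h2 : s ≠ chevD4.neg r)
    (t u : K) :
    X8 K s u * X8 K r t = X8 K r t * X8 K s u * wS (X8 K) (chevD4.commWord K r s t u) := by
  obtain ⟨c1, c2, c3⟩ := checkR2_spec hr hs h1 h2
  have hRSR : ofTab K (nT r) * ofTab K (nT s) * ofTab K (nT r) = 0 := by
    rw [ofTab_mul, ofTab_mul, ofTab_congr c1, ofTab_zero]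
  have hSRS : ofTab K (nT s) * ofTab K (nT r) * ofTab K (nT s) = 0 := by
    rw [ofTab_mul, ofTab_mul, ofTab_congr c2, ofTab_zero]
  have hexp := comm_expand (ofTab K (nT r)) (ofTab K (nT s)) t u (sq_of_lt hr) (sq_of_lt hs)
    hRSR hSRS
  have hcommutator : (X8 K s u)⁻¹ * (X8 K r t)⁻¹ * X8 K s u * X8 K r t =
      wS (X8 K) (chevD4.commWord K r s t u) := by
    apply OG_ext_val
    rw [X8_inv hs, X8_inv hr]
    show ((X8 K s (-u)).1 : GL _ K).val * ((X8 K r (-t)).1 : GL _ K).val *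
      ((X8 K s u).1 : GL _ K).val * ((X8 K r t).1 : GL _ K).val = _
    rw [X8_val hs, X8_val hr, X8_val hs, X8_val hr, hexp]
    rcases c3 with ⟨he, c⟩ | ⟨q, c, he, hq, cc⟩
    · have : chevD4.commWord K r s t u = [] := by
        unfold ChevalleyDatum.commWord
        rw [he]
        rfl
      rw [this, ofTab_mul, ofTab_mul, ofTab_sub, ofTab_congr c, ofTab_zero, smul_zero, add_zero]
      rfl
    · have : chevD4.commWord K r s t u = [(q, (c : K) * (-t) ^ 1 * u ^ 1)] := by
        unfold ChevalleyDatum.commWord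
        rw [he]
        rfl
      rw [this, ofTab_mul, ofTab_mul, ofTab_sub, ofTab_congr cc, ← ofTab_smul, wS_cons]
      show _ = ((X8 K q _).1 : GL _ K).val * ((wS (X8 K) []).1 : GL _ K).val
      rw [X8_val hq]
      have : ((wS (X8 K) ([] : List (ℕ × K))).1 : GL _ K).val = 1 := rfl
      rw [this, mul_one, smul_smul]
      congr 2
      push_cast
      ring
  rw [← hcommutator]
  group

end Cfsg.Agent.Lib.Helper8.Orth
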