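import Mathlib
import Cfsg.Agent.Lib.Helper8.OrthI

/-!
# `Ω₈⁺(K) = [O, O]` is generated by the root elements (helper8)
-/

set_option autoImplicit false
set_option linter.unusedSectionVars false

namespace Cfsg.Agent.Lib.Helper8.Orth

open Matrix Cfsg.Lie Cfsg.Agent.Lib.Helper8.Chev
open scoped commutatorElement

def checkCover : Bool := (List.range 8).all fun ca => (List.range 8).all fun cb =>
  ca == cb || cb == barN ca || (List.range 24).any fun r =>
    (ra r == ca && rb r == cb) || (ra r == barN cb && rb r == barN ca)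

def checkGen : Bool := (List.range 24).all fun q => (List.range 24).any fun r =>
  (List.range 24).any fun s => s != r && s != chevD4.neg r &&
    (chevD4.commTerms r s == [(q, 1, 1, 1)] || chevD4.commTerms r s == [(q, -1, 1, 1)])

theorem checkCover_ok : checkCover = true := by decide +kernel
theorem checkGen_ok : checkGen = true := by decide +kernel

theorem checkGen_spec {q : ℕ} (hq : q < 24) :
    ∃ r s : ℕ, r < 24 ∧ s < 24 ∧ s ≠ r ∧ s ≠ chevD4.neg r ∧
      ∃ c : ℤ, (c = 1 ∨ c = -1) ∧ chevD4.commTerms r s = [(q, c, 1, 1)] := by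
  have h := (List.all_eq_true.mp checkGen_ok) q (List.mem_range.mpr hq)
  rw [List.any_eq_true] at h
  obtain ⟨r, hr, h⟩ := h
  rw [List.any_eq_true] at h
  obtain ⟨s, hs, h⟩ := h
  simp only [Bool.and_eq_true, bne_iff_ne, ne_eq, Bool.or_eq_true, beq_iff_eq] at h
  obtain ⟨⟨h1, h2⟩, h3⟩ := h
  refine ⟨r, s, List.mem_range.mp hr, List.mem_range.mp hs, h1, h2, ?_⟩
  rcases h3 with h3 | h3
  · exact ⟨1, Or.inl rfl, h3⟩
  · exact ⟨-1, Or.inr rfl, h3⟩

/-- in any group with root elements satisfying (R1), (R2) of type `D₄`, the root elements are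
commutators -/
theorem root_mem_commutator {K : Type*} [Field K] {Γ : Type*} [Group Γ] (X : ℕ → K → Γ)
    (hcomm : ∀ r < 24, ∀ s < 24, s ≠ r → s ≠ chevD4.neg r → ∀ t u : K,
      X s u * X r t = X r t * X s u * wS X (chevD4.commWord K r s t u))
    {q : ℕ} (hq : q < 24) (t : K) : X q t ∈ commutator Γ := by
  obtain ⟨r, s, hr, hs, h1, h2, c, hc, he⟩ := checkGen_spec hq
  have hw : chevD4.commWord K r s (-(c : K) * t) 1 = [(q, t)] := by
    unfold ChevalleyDatum.commWord
    rw [he]
    simp only [List.map_cons, List.map_nil, pow_one]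
    congr 2
    rcases hc with rfl | rfl
    · push_cast; ring
    · push_cast; ring
  have h := hcomm r hr s hs h1 h2 (-(c : K) * t) 1
  rw [hw, wS_cons, wS_nil, mul_one] at h
  have e : X q t = ⁅(X s 1)⁻¹, (X r (-(c : K) * t))⁻¹⁆ := by
    rw [commutatorElement_def, inv_inv, inv_inv]
    calc X q t = (X s 1)⁻¹ * (X r (-(c : K) * t))⁻¹ * (X r (-(c : K) * t) * X s 1 * X q t) := by
          group
      _ = _ := by rw [← h]; group
  rw [e, commutator_def]
  exact Subgroup.commutator_mem_commutator (Subgroup.mem_top _) (Subgroup.mem_top _)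

variable {K : Type*} [Field K]

theorem X8_mem_E8 (r : ℕ) (t : K) : X8 K r t ∈ E8 K := by
  by_cases hr : r < 24
  · rw [X8_of_lt hr]
    exact sgO_mem_E8 _ _
  · rw [X8_out hr]
    exact one_mem _

theorem sgO_congr {a b a' b' : Fin 4 ⊕ Fin 4} (hab : a ≠ b) (hab' : a' ≠ b') (ha : a = a')
    (hb : b = b') (t : K) : sgO a b hab t = sgO a' b' hab' t := by
  subst ha hb
  rfl

theorem sgO_mem_closure {a b : Fin 4 ⊕ Fin 4} (hab : a ≠ b) (t : K) :
    sgO a b hab t ∈ Subgroup.closure {g : OG (Fin 4) K | ∃ r < 24, ∃ t : K, g = X8 K r t} := by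
  have h := (List.all_eq_true.mp ((List.all_eq_true.mp checkCover_ok) (code a)
    (List.mem_range.mpr (code_lt a)))) (code b) (List.mem_range.mpr (code_lt b))
  simp only [Bool.or_eq_true, beq_iff_eq, List.any_eq_true, Bool.and_eq_true] at h
  rcases h with (h | h) | ⟨r, hr, h⟩
  · exact absurd (code_injective h) hab
  · -- b = ā : the element is trivial
    have hb : b = bar a := by
      apply code_injective
      rw [h, code_bar]
    have : sgO a b hab t = 1 := by
      apply OG_ext_val
      show sgM a b t = 1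
      unfold sgM
      rw [hb, bar_bar]
      simp
    rw [this]
    exact one_mem _
  · have hr' := List.mem_range.mp hr
    rcases h with ⟨e1, e2⟩ | ⟨e1, e2⟩
    · have ha : dec (ra r) = a := by rw [e1, dec_code]
      have hb : dec (rb r) = b := by rw [e2, dec_code]
      apply Subgroup.subset_closure
      refine ⟨r, hr', t, ?_⟩
      rw [X8_of_lt hr']
      exact sgO_congr _ _ ha.symm hb.symm t
    · have ha : dec (ra r) = bar b := by
        rw [e1, ← code_bar, dec_code]
      have hb : dec (rb r) = bar a := by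
        rw [e2, ← code_bar, dec_code]
      apply Subgroup.subset_closure
      refine ⟨r, hr', -t, ?_⟩
      rw [X8_of_lt hr']
      apply OG_ext_val
      show sgM a b t = sgM (dec (ra r)) (dec (rb r)) (-t)
      rw [ha, hb, sgM_symm]

/-- the elementary subgroup is generated by the 24 root subgroups -/
theorem E8_eq_closure :
    E8 K = Subgroup.closure {g : OG (Fin 4) K | ∃ r < 24, ∃ t : K, g = X8 K r t} := by
  apply le_antisymm
  · unfold E8 ES
    rw [Subgroup.closure_le]
    rintro g ⟨a, b, hab, t, -, -, rfl⟩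
    exact sgO_mem_closure hab t
  · rw [Subgroup.closure_le]
    rintro g ⟨r, -, t, rfl⟩
    exact X8_mem_E8 r t

/-- `Ω₈⁺(K) = [O, O]` is the elementary subgroup -/
theorem commutator_eq_E8 : commutator (OG (Fin 4) K) = E8 K := by
  apply le_antisymm commutator_le_E8
  rw [E8_eq_closure, Subgroup.closure_le]
  rintro g ⟨r, hr, t, rfl⟩
  exact root_mem_commutator (X8 K) (fun r hr s hs h1 h2 t u => X8_comm hr hs h1 h2 t u) hr t

end Cfsg.Agent.Lib.Helper8.Orth
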