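import Mathlib

/-!
# Two central quotients of a perfect group (helper8)
-/

set_option autoImplicit false

namespace Cfsg.Agent.Lib.Helper8.Orth

open scoped commutatorElement

variable {S G H : Type*} [Group S] [Group G] [Group H]

/-- the commutator with a fixed element, as a homomorphism to the centre, when all these
commutators are central -/
def commHom (g : S) (hg : ∀ x : S, g * x * g⁻¹ * x⁻¹ ∈ Subgroup.center S) :
    S →* Subgroup.center S where
  toFun x := ⟨g * x * g⁻¹ * x⁻¹, hg x⟩
  map_one' := by
    apply Subtype.ext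
    show g * 1 * g⁻¹ * 1⁻¹ = 1
    group
  map_mul' x y := by
    apply Subtype.ext
    show g * (x * y) * g⁻¹ * (x * y)⁻¹ = (g * x * g⁻¹ * x⁻¹) * (g * y * g⁻¹ * y⁻¹)
    have hc := (Subgroup.mem_center_iff.mp (hg y)) x
    calc g * (x * y) * g⁻¹ * (x * y)⁻¹
        = g * x * g⁻¹ * (x⁻¹ * (x * (g * y * g⁻¹ * y⁻¹))) * x⁻¹ := by group
      _ = g * x * g⁻¹ * (x⁻¹ * ((g * y * g⁻¹ * y⁻¹) * x)) * x⁻¹ := by rw [hc]
      _ = _ := by group

theorem ker_le_center_of_simple (α : S →* G) (hα : Function.Surjective α)
    (hαk : α.ker = Subgroup.center S) (β : S →* H) (hβ : Function.Surjective β)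
    (hperf : commutator S = ⊤) [IsSimpleGroup G] [Nontrivial H] :
    β.ker ≤ Subgroup.center S := by
  have hN : (β.ker.map α).Normal := Subgroup.Normal.map inferInstance α hα
  rcases hN.eq_bot_or_eq_top with h | h
  · rw [← hαk]
    exact (Subgroup.map_eq_bot_iff β.ker).mp h
  · exfalso
    -- `H` is commutative
    have hcomm : ∀ a b : H, a * b = b * a := by
      have key : ∀ s : S, ∃ z ∈ Subgroup.center S, β s = β z := by
        intro s
        have : α s ∈ β.ker.map α := by rw [h]; exact Subgroup.mem_top _
        obtain ⟨n, hn, hns⟩ := this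
        refine ⟨s * n⁻¹, ?_, ?_⟩
        · rw [← hαk, MonoidHom.mem_ker, map_mul, map_inv, hns, mul_inv_cancel]
        · rw [map_mul, map_inv, MonoidHom.mem_ker.mp hn, inv_one, mul_one]
      intro a b
      obtain ⟨s, rfl⟩ := hβ a
      obtain ⟨s', rfl⟩ := hβ b
      obtain ⟨z, hz, e⟩ := key s
      rw [e, ← map_mul, ← map_mul, (Subgroup.mem_center_iff.mp hz) s']
    -- `H` is perfect
    have hperfH : commutator H = ⊤ := by
      rw [commutator_def, ← Subgroup.map_top_of_surjective β hβ, ← Subgroup.map_commutator,
        ← commutator_def, hperf]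
    have hbot : commutator H = ⊥ := by
      rw [eq_bot_iff, commutator_eq_closure, Subgroup.closure_le]
      rintro x ⟨a, b, rfl⟩
      rw [SetLike.mem_coe, Subgroup.mem_bot, commutatorElement_def, hcomm a b]
      group
    rw [hbot] at hperfH
    obtain ⟨x, y, hxy⟩ := exists_pair_ne H
    have h1 : x ∈ (⊥ : Subgroup H) := by rw [hperfH]; exact Subgroup.mem_top _
    have h2 : y ∈ (⊥ : Subgroup H) := by rw [hperfH]; exact Subgroup.mem_top _
    rw [Subgroup.mem_bot] at h1 h2
    exact hxy (h1.trans h2.symm)

theorem comap_center_eq (β : S →* H) (hβ : Function.Surjective β)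
    (hk : β.ker ≤ Subgroup.center S) (hperf : commutator S = ⊤) :
    (Subgroup.center H).comap β = Subgroup.center S := by
  apply le_antisymm
  · intro g hg
    rw [Subgroup.mem_comap] at hg
    have hgx : ∀ x : S, g * x * g⁻¹ * x⁻¹ ∈ Subgroup.center S := by
      intro x
      apply hk
      have hc : β x * β g = β g * β x := (Subgroup.mem_center_iff.mp hg) (β x)
      rw [MonoidHom.mem_ker, map_mul, map_mul, map_mul, map_inv, map_inv, ← hc]
      group
    have hker : commutator S ≤ (commHom g hgx).ker := by
      rw [commutator_eq_closure, Subgroup.closure_le]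
      rintro y ⟨a, b, rfl⟩
      rw [SetLike.mem_coe, MonoidHom.mem_ker, commutatorElement_def, map_mul, map_mul, map_mul,
        map_inv, map_inv]
      have hab : (commHom g hgx) a * (commHom g hgx) b = (commHom g hgx) b * (commHom g hgx) a :=
        Subtype.ext ((Subgroup.mem_center_iff.mp ((commHom g hgx) b).2) ((commHom g hgx) a))
      rw [hab]
      group
    rw [hperf] at hker
    rw [Subgroup.mem_center_iff]
    intro x
    have := hker (Subgroup.mem_top x)
    rw [MonoidHom.mem_ker] at this
    have h1 : g * x * g⁻¹ * x⁻¹ = 1 := congrArg Subtype.val this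
    calc x * g = (g * x * g⁻¹ * x⁻¹)⁻¹ * (g * x) := by group
      _ = g * x := by rw [h1, inv_one, one_mul]
  · intro z hz
    rw [Subgroup.mem_comap, Subgroup.mem_center_iff]
    intro h
    obtain ⟨s, rfl⟩ := hβ h
    rw [← map_mul, ← map_mul, (Subgroup.mem_center_iff.mp hz) s]

/-- two central quotients of a perfect group, one of them simple, the other non-trivial -/
theorem iso_of_two_covers (α : S →* G) (hα : Function.Surjective α)
    (hαk : α.ker = Subgroup.center S) (β : S →* H) (hβ : Function.Surjective β)
    (hperf : commutator S = ⊤) [IsSimpleGroup G] [Nontrivial H] :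
    Nonempty (G ≃* H ⧸ Subgroup.center H) := by
  have hk := ker_le_center_of_simple α hα hαk β hβ hperf
  have hc := comap_center_eq β hβ hk hperf
  let ψ : S →* H ⧸ Subgroup.center H := (QuotientGroup.mk' (Subgroup.center H)).comp β
  have hψ : Function.Surjective ψ := (QuotientGroup.mk'_surjective _).comp hβ
  have hψk : ψ.ker = α.ker := by
    rw [hαk, ← hc]
    ext s
    rw [MonoidHom.mem_ker, Subgroup.mem_comap]
    show (QuotientGroup.mk' (Subgroup.center H)) (β s) = 1 ↔ _
    rw [QuotientGroup.mk'_apply, QuotientGroup.eq_one_iff]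
  exact ⟨(QuotientGroup.quotientKerEquivOfSurjective α hα).symm.trans
    ((QuotientGroup.quotientMulEquivOfEq hψk.symm).trans
      (QuotientGroup.quotientKerEquivOfSurjective ψ hψ))⟩

end Cfsg.Agent.Lib.Helper8.Orth
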