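import Mathlib

/-!
# Two central quotients of a group, one simple, the other not commutative (helper8)
-/

set_option autoImplicit false

namespace Cfsg.Agent.Lib.Helper8.Orth

variable {S G H : Type*} [Group S] [Group G] [Group H]

theorem comap_center_eq_of_simple (α : S →* G) (hα : Function.Surjective α)
    (hαk : α.ker = Subgroup.center S) (β : S →* H) (hβ : Function.Surjective β)
    [IsSimpleGroup G] (hH : ∃ a b : H, a * b ≠ b * a) :
    (Subgroup.center H).comap β = Subgroup.center S := by
  have hle : Subgroup.center S ≤ (Subgroup.center H).comap β := by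
    intro z hz
    rw [Subgroup.mem_comap, Subgroup.mem_center_iff]
    intro h
    obtain ⟨s, rfl⟩ := hβ h
    rw [← map_mul, ← map_mul, (Subgroup.mem_center_iff.mp hz) s]
  apply le_antisymm _ hle
  have hN : (((Subgroup.center H).comap β).map α).Normal :=
    Subgroup.Normal.map inferInstance α hα
  rcases hN.eq_bot_or_eq_top with h | h
  · rw [← hαk]
    exact (Subgroup.map_eq_bot_iff _).mp h
  · exfalso
    obtain ⟨a, b, hab⟩ := hH
    obtain ⟨s, rfl⟩ := hβ a
    obtain ⟨s', rfl⟩ := hβ b
    have hs : α s ∈ ((Subgroup.center H).comap β).map α := by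
      rw [h]
      exact Subgroup.mem_top _
    obtain ⟨c, hc, hcs⟩ := hs
    have hz : c⁻¹ * s ∈ Subgroup.center S := by
      rw [← hαk, MonoidHom.mem_ker, map_mul, map_inv, hcs, inv_mul_cancel]
    have hs' : s ∈ (Subgroup.center H).comap β := by
      have : s = c * (c⁻¹ * s) := by group
      rw [this]
      exact mul_mem hc (hle hz)
    rw [Subgroup.mem_comap, Subgroup.mem_center_iff] at hs'
    exact hab (hs' (β s')).symm

/-- two central quotients of a group, one of them simple, the other not commutative -/
theorem iso_of_two_covers' (α : S →* G) (hα : Function.Surjective α)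
    (hαk : α.ker = Subgroup.center S) (β : S →* H) (hβ : Function.Surjective β)
    [IsSimpleGroup G] (hH : ∃ a b : H, a * b ≠ b * a) :
    Nonempty (G ≃* H ⧸ Subgroup.center H) := by
  have hc := comap_center_eq_of_simple α hα hαk β hβ hH
  let ψ : S →* H ⧸ Subgroup.center H := (QuotientGroup.mk' (Subgroup.center H)).comp β
  have hψ : Function.Surjective ψ := (QuotientGroup.mk'_surjective _).comp hβ
  have hψk : ψ.ker = α.ker := by
    rw [hαk, ← hc]
    ext s
    rw [MonoidHom.mem_ker, Subgroup.mem_comap]
    show (QuotientGroup.mk' (Subgroup.center H)) (β s) = 1 ↔ _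
    rw [QuotientGroup.mk'_apply, QuotientGroup.eq_one_iff]
  exact ⟨(QuotientGroup.quotientKerEquivOfSurjective α hα).symm.trans
    ((QuotientGroup.quotientMulEquivOfEq hψk.symm).trans
      (QuotientGroup.quotientKerEquivOfSurjective ψ hψ))⟩

end Cfsg.Agent.Lib.Helper8.Orth
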