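import Mathlib

/-!
# S4751 farm: group-theoretic pieces for leaf N27 (helper8)

For a normal subgroup `A` of order four: the index of `C_G(A)` divides six, and is divisible by
three as soon as `A ⊓ Z(G) = ⊥`.
-/

set_option autoImplicit false

namespace Cfsg.Agent.Lib.Helper24.RU.Helper8N27

variable {G : Type*} [Group G]

/-- Conjugation action of `G` on a normal subgroup, as permutations. -/
noncomputable def conjPerm (A : Subgroup G) [A.Normal] : G →* Equiv.Perm A :=
  (MulAut.toPerm A).comp (MulAut.conjNormal (H := A))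

theorem conjPerm_apply (A : Subgroup G) [A.Normal] (g : G) (a : A) :
    ((conjPerm A g a : A) : G) = g * a * g⁻¹ := rfl

theorem conjPerm_one_fixed (A : Subgroup G) [A.Normal] (g : G) : conjPerm A g 1 = 1 := by
  apply Subtype.ext
  rw [conjPerm_apply]; simp

theorem conjPerm_ker (A : Subgroup G) [A.Normal] :
    (conjPerm A).ker = Subgroup.centralizer (A : Set G) := by
  ext g
  rw [MonoidHom.mem_ker, Subgroup.mem_centralizer_iff]
  constructor
  · intro h a ha
    have h1 := conjPerm_apply A g ⟨a, ha⟩
    rw [h] at h1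
    simp only [Equiv.Perm.coe_one, id_eq] at h1
    calc a * g = (g * a * g⁻¹) * g := by rw [← h1]
      _ = g * a := by group
  · intro h
    ext a
    rw [conjPerm_apply]
    have := h a a.2
    simp only [Equiv.Perm.coe_one, id_eq]
    rw [← this]; group

theorem card_stabilizer_perm4 {α : Type*} (hα : Nat.card α = 4) (a : α) :
    Nat.card (MulAction.stabilizer (Equiv.Perm α) a) = 6 := by
  classical
  have : Finite α := Nat.finite_of_card_ne_zero (by rw [hα]; norm_num)
  have h1 : (MulAction.stabilizer (Equiv.Perm α) a).index = 4 := by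
    rw [MulAction.index_stabilizer_of_transitive, hα]
  have h2 := Subgroup.card_mul_index (MulAction.stabilizer (Equiv.Perm α) a)
  rw [h1, Nat.card_perm, hα] at h2
  have : Nat.factorial 4 = 24 := by decide
  omega

theorem index_dvd_six (A : Subgroup G) [A.Normal] (hA4 : Nat.card A = 4) :
    (Subgroup.centralizer (A : Set G)).index ∣ 6 := by
  have hle : (conjPerm A).range ≤ MulAction.stabilizer (Equiv.Perm A) (1 : A) := by
    rintro _ ⟨g, rfl⟩
    rw [MulAction.mem_stabilizer_iff]
    exact conjPerm_one_fixed A g
  have : Finite A := Nat.finite_of_card_ne_zero (by rw [hA4]; norm_num)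
  have h := Subgroup.card_dvd_of_le hle
  rw [card_stabilizer_perm4 hA4, ← Subgroup.index_ker, conjPerm_ker] at h
  exact h

theorem three_dvd_index (A : Subgroup G) [A.Normal] (hA4 : Nat.card A = 4)
    (hAZ : A ⊓ Subgroup.center G = ⊥) :
    3 ∣ (Subgroup.centralizer (A : Set G)).index := by
  by_contra h3
  have h6 := index_dvd_six A hA4
  have hcard : Nat.card (conjPerm A).range = (Subgroup.centralizer (A : Set G)).index := by
    rw [← Subgroup.index_ker, conjPerm_ker]
  have h2 : (Subgroup.centralizer (A : Set G)).index ∣ 2 := by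
    have hc : Nat.Coprime (Subgroup.centralizer (A : Set G)).index 3 := by
      rw [Nat.coprime_comm]
      exact (Nat.Prime.coprime_iff_not_dvd Nat.prime_three).2 h3
    exact hc.dvd_of_dvd_mul_right (by simpa using h6)
  have : Fact (Nat.Prime 2) := ⟨Nat.prime_two⟩
  have hP : IsPGroup 2 (conjPerm A).range := by
    have h2' : (Subgroup.centralizer (A : Set G)).index ∣ 2 ^ 1 := by simpa using h2
    obtain ⟨k, -, hk⟩ := (Nat.dvd_prime_pow Nat.prime_two).mp h2'
    exact IsPGroup.of_card (n := k) (by rw [hcard, hk])
  have : Finite A := Nat.finite_of_card_ne_zero (by rw [hA4]; norm_num)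
  have hfix1 : (1 : A) ∈ MulAction.fixedPoints (conjPerm A).range A := by
    rintro ⟨_, g, rfl⟩
    exact conjPerm_one_fixed A g
  obtain ⟨b, hb, hb1⟩ := hP.exists_fixed_point_of_prime_dvd_card_of_fixed_point
    (α := A) (by rw [hA4]; norm_num) hfix1
  have hbZ : (b : G) ∈ Subgroup.center G := by
    rw [Subgroup.mem_center_iff]
    intro g
    have := hb ⟨conjPerm A g, g, rfl⟩
    have h' : ((conjPerm A g b : A) : G) = b := congrArg Subtype.val this
    rw [conjPerm_apply] at h'
    calc g * b = (g * b * g⁻¹) * g := by group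
      _ = b * g := by rw [h']
  have : (b : G) ∈ A ⊓ Subgroup.center G := ⟨b.2, hbZ⟩
  rw [hAZ, Subgroup.mem_bot] at this
  exact hb1 (Subtype.ext this.symm)

end Cfsg.Agent.Lib.Helper24.RU.Helper8N27
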