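import Mathlib
import Cfsg.Prelude.Def_Characters
import Cfsg.Prelude.Def_Solvable
import Cfsg.Prelude.Def_Transfer
import Cfsg.Agent.Lib.Helper24.RU.Defs
import Cfsg.Agent.Lib.Helper11.Clifford
import Cfsg.Agent.Lib.Helper24.RU.N07
import Cfsg.Agent.Lib.Helper24.RU.N12
import Cfsg.Agent.Lib.Helper24.RU.N15
import Cfsg.Agent.Lib.Helper24.RU.N16
import Cfsg.Agent.Lib.Helper8.RUN27a
import Cfsg.Agent.Lib.Helper25.CardSupCenter

/-!
# S4751 farm, leaf N27: spare by helper8 (`card_G_spare`, same statement as the stub `card_G`)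
-/

set_option autoImplicit false

namespace Cfsg.Agent.Lib.Helper24.RU.Helper8N27

open scoped ComplexConjugate

variable {G : Type*} [Group G] [Finite G] {χ : G → ℂ}

omit [Finite G] in
/-- `2 ∣ |G : C_G(A)|` when a `2`-group `S` of order `8` contains `A` of order `4` and meets
`C_G(A)` in `A`. -/
theorem two_dvd_index (A : Subgroup G) [A.Normal] (hA4 : Nat.card A = 4)
    (S : Subgroup G) (hAS : A ≤ S) (hS : Nat.card S = 8)
    (hSC : Subgroup.centralizer (A : Set G) ⊓ S = A) :
    2 ∣ (Subgroup.centralizer (A : Set G)).index := by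
  have h1 : (Subgroup.centralizer (A : Set G)).relIndex S = 2 := by
    rw [← Subgroup.inf_relIndex_right, hSC]
    have h2 := Subgroup.relIndex_mul_relIndex (⊥ : Subgroup G) A S bot_le hAS
    rw [Subgroup.relIndex_bot_left, Subgroup.relIndex_bot_left, hA4, hS] at h2
    omega
  rw [← h1]
  exact Subgroup.relIndex_dvd_index_of_normal _ _

/-- [N27 spare] `|G| = 24 |Z(G)|`. -/
theorem card_G_spare (h : Hyp 2 χ) {A : Subgroup G} (hA : ANP 2 A) (hA4 : Nat.card A = 4)
    (S : Subgroup G) (hAS : A ≤ S) (hS : Nat.card S = 8) :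
    Nat.card G = 24 * Nat.card ↥(Subgroup.center G) := by
  have : Fact (Nat.Prime 2) := ⟨Nat.prime_two⟩
  have hAn : A.Normal := hA.normal
  have hC := centralizer_eq h hA
  have hAZ := inf_center h hA
  have hcardC : Nat.card (Subgroup.centralizer (A : Set G)) = 4 * Nat.card (Subgroup.center G) := by
    rw [hC, Cfsg.Agent.Lib.Helper25.CardSupCenter.card_sup_center A hAZ, hA4]
  have hSC : Subgroup.centralizer (A : Set G) ⊓ S = A := by
    apply le_antisymm
    · rintro y ⟨hyC, hyS⟩
      have hSp : IsPGroup 2 S := IsPGroup.of_card (n := 3) (by rw [hS]; norm_num)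
      obtain ⟨k, hk⟩ := hSp ⟨y, hyS⟩
      have hk' : y ^ 2 ^ k = 1 := by
        have := congrArg Subtype.val hk
        simpa using this
      obtain ⟨j, -, hj⟩ := (Nat.dvd_prime_pow Nat.prime_two).mp (orderOf_dvd_of_pow_eq_one hk')
      exact pElement_mem h hA hyC ⟨j, hj⟩
    · exact le_inf (Subgroup.le_centralizer_iff.mp (by
        intro x hx
        rw [Subgroup.mem_centralizer_iff]
        intro y hy
        exact hA.comm y hy x hx)) hAS
  have h2 := two_dvd_index A hA4 S hAS hS hSC
  have h3 := three_dvd_index A hA4 hAZ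
  have h6 := index_dvd_six A hA4
  have hidx : (Subgroup.centralizer (A : Set G)).index = 6 := by
    have h6' : 6 ∣ (Subgroup.centralizer (A : Set G)).index :=
      Nat.Coprime.mul_dvd_of_dvd_of_dvd (by norm_num) h2 h3
    exact Nat.dvd_antisymm h6 h6'
  have := Subgroup.card_mul_index (Subgroup.centralizer (A : Set G))
  rw [hcardC, hidx] at this
  omega

end Cfsg.Agent.Lib.Helper24.RU.Helper8N27
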