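import Mathlib
import Cfsg.Prelude.Def_LieRecognition

set_option autoImplicit false

namespace Cfsg.Agent.Lib.Helper8

open Subgroup MulAction

namespace RankOne

variable {G Ω : Type*} [Group G] [MulAction G Ω] {a : Ω} {t : G} {Q : Subgroup G}

/-- The two-point stabiliser `D = G_a ⊓ G_{t • a}`. -/
abbrev D (G : Type*) {Ω : Type*} [Group G] [MulAction G Ω] (a : Ω) (t : G) : Subgroup G :=
  stabilizer G a ⊓ stabilizer G (t • a)

lemma t_inv (hS : Cfsg.IsRankOneSetup G Ω a t Q) : t⁻¹ = t :=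
  inv_eq_of_mul_eq_one_left hS.mul_self

lemma t_smul_t_smul (hS : Cfsg.IsRankOneSetup G Ω a t Q) (c : Ω) : t • t • c = c := by
  rw [← mul_smul, hS.mul_self, one_smul]

lemma b_ne (hS : Cfsg.IsRankOneSetup G Ω a t Q) : t • a ≠ a := fun h => hS.not_mem h

lemma mem_D_iff {g : G} : g ∈ D G a t ↔ g • a = a ∧ g • (t • a) = t • a := Iff.rfl

/-- `t` normalises `D`. -/
lemma t_conj_mem_D (hS : Cfsg.IsRankOneSetup G Ω a t Q) {d : G} (hd : d ∈ D G a t) :
    t * d * t ∈ D G a t := by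
  obtain ⟨h1, h2⟩ := mem_D_iff.mp hd
  refine mem_D_iff.mpr ⟨?_, ?_⟩
  · rw [mul_smul, mul_smul, h2, t_smul_t_smul hS]
  · rw [mul_smul, mul_smul, t_smul_t_smul hS, h1]

/-- The set `Q D` is a subgroup. -/
def QD (hS : Cfsg.IsRankOneSetup G Ω a t Q) : Subgroup G where
  carrier := {g | ∃ x ∈ Q, ∃ d ∈ D G a t, g = x * d}
  mul_mem' := by
    rintro _ _ ⟨x1, hx1, d1, hd1, rfl⟩ ⟨x2, hx2, d2, hd2, rfl⟩
    refine ⟨x1 * (d1 * x2 * d1⁻¹), Q.mul_mem hx1 (hS.conj_mem d1 hd1.1 x2 hx2), d1 * d2,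
      (D G a t).mul_mem hd1 hd2, by group⟩
  one_mem' := ⟨1, Q.one_mem, 1, (D G a t).one_mem, by simp⟩
  inv_mem' := by
    rintro _ ⟨x, hx, d, hd, rfl⟩
    refine ⟨d⁻¹ * x⁻¹ * d⁻¹⁻¹, hS.conj_mem d⁻¹ ((D G a t).inv_mem hd).1 x⁻¹ (Q.inv_mem hx), d⁻¹,
      (D G a t).inv_mem hd, by group⟩

/-- Every element of `G_a` is a product `x d` with `x ∈ Q`, `d ∈ D`. -/
lemma exists_factor (hS : Cfsg.IsRankOneSetup G Ω a t Q) {g : G} (hg : g ∈ stabilizer G a) :
    ∃ x ∈ Q, ∃ d ∈ D G a t, g = x * d := by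
  have h1 : Q ⊔ D G a t ≤ QD hS := by
    apply sup_le
    · intro x hx; exact ⟨x, hx, 1, (D G a t).one_mem, by simp⟩
    · intro d hd; exact ⟨1, Q.one_mem, d, hd, by simp⟩
  have h2 : g ∈ Q ⊔ D G a t := by rw [hS.sup_eq]; exact hg
  exact h1 h2

lemma Q_inf_D (hS : Cfsg.IsRankOneSetup G Ω a t Q) {x : G} (hx : x ∈ Q) (hxb : x • (t • a) = t • a) :
    x = 1 := by
  have : x ∈ Q ⊓ stabilizer G (t • a) := ⟨hx, hxb⟩
  rw [hS.inf_eq_bot] at this
  exact this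

/-- uniqueness of the factorisation -/
lemma factor_unique (hS : Cfsg.IsRankOneSetup G Ω a t Q) {x x' d d' : G} (hx : x ∈ Q) (hx' : x' ∈ Q)
    (hd : d ∈ D G a t) (hd' : d' ∈ D G a t) (h : x * d = x' * d') : x = x' ∧ d = d' := by
  have h1 : x'⁻¹ * x = d' * d⁻¹ := by
    calc x'⁻¹ * x = x'⁻¹ * (x * d) * d⁻¹ := by group
      _ = d' * d⁻¹ := by rw [h]; group
  have h2 : x'⁻¹ * x ∈ Q := Q.mul_mem (Q.inv_mem hx') hx
  have h3 : d' * d⁻¹ ∈ D G a t := (D G a t).mul_mem hd' ((D G a t).inv_mem hd)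
  have h4 : x'⁻¹ * x = 1 := by
    apply Q_inf_D hS h2
    rw [h1]; exact h3.2
  have h5 : x = x' := by
    have := congrArg (fun z => x' * z) h4
    simpa using this
  refine ⟨h5, ?_⟩
  subst h5
  exact mul_left_cancel h

/-- `Q` is transitive on the points other than `a`. -/
lemma Q_trans (hS : Cfsg.IsRankOneSetup G Ω a t Q) {c : Ω} (hc : c ≠ a) :
    ∃ x ∈ Q, x • (t • a) = c := by
  have h2 : ∀ {a b c d : Ω} (_ : a ≠ b) (_ : c ≠ d), ∃ g : G, g • a = c ∧ g • b = d :=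
    is_two_pretransitive_iff.mp hS.two_transitive
  obtain ⟨g, hga, hgb⟩ := h2 (a := a) (b := t • a) (c := a) (d := c) (b_ne hS).symm hc.symm
  obtain ⟨x, hx, d, hd, rfl⟩ := exists_factor hS (show g ∈ stabilizer G a from hga)
  refine ⟨x, hx, ?_⟩
  rw [mul_smul, hd.2] at hgb
  exact hgb

/-- non-identity elements of `Q` fix only `a`. -/
lemma Q_free (hS : Cfsg.IsRankOneSetup G Ω a t Q) {c : Ω} (hc : c ≠ a) {x : G} (hx : x ∈ Q)
    (hxc : x • c = c) : x = 1 := by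
  obtain ⟨y, hy, rfl⟩ := Q_trans hS hc
  have h1 : y⁻¹ * x * y ∈ Q := Q.mul_mem (Q.mul_mem (Q.inv_mem hy) hx) hy
  have h2 : (y⁻¹ * x * y) • (t • a) = t • a := by
    rw [mul_smul, mul_smul, hxc, inv_smul_smul]
  have h3 := Q_inf_D hS h1 h2
  have : x = y * (y⁻¹ * x * y) * y⁻¹ := by group
  rw [this, h3]; group

lemma Q_fix_a (hS : Cfsg.IsRankOneSetup G Ω a t Q) {x : G} (hx : x ∈ Q) : x • a = a := hS.le hx

lemma Q_smul_ne (hS : Cfsg.IsRankOneSetup G Ω a t Q) {c : Ω} (hc : c ≠ a) {x : G} (hx : x ∈ Q) :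
    x • c ≠ a := by
  intro h
  apply hc
  have h1 : x⁻¹ • a = a := Q_fix_a hS (Q.inv_mem hx)
  rw [← h1, ← h, inv_smul_smul]

/-- `Q` is regular on the points other than `a`. -/
lemma Q_regular (hS : Cfsg.IsRankOneSetup G Ω a t Q) {b c : Ω} (hb : b ≠ a) (hc : c ≠ a) :
    ∃! x : Q, (x : G) • b = c := by
  obtain ⟨y, hy, rfl⟩ := Q_trans hS hb
  obtain ⟨z, hz, rfl⟩ := Q_trans hS hc
  refine ⟨⟨z * y⁻¹, Q.mul_mem hz (Q.inv_mem hy)⟩, ?_, ?_⟩
  · show (z * y⁻¹) • y • t • a = z • t • a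
    rw [mul_smul, inv_smul_smul]
  · rintro ⟨w, hw⟩ hw'
    have hw'' : w • y • t • a = z • t • a := hw'
    apply Subtype.ext
    show w = z * y⁻¹
    have h1 : (z⁻¹ * w * y) ∈ Q := Q.mul_mem (Q.mul_mem (Q.inv_mem hz) hw) hy
    have h2 : (z⁻¹ * w * y) • (t • a) = t • a := by
      rw [mul_smul, mul_smul, hw'', inv_smul_smul]
    have h3 := Q_inf_D hS h1 h2
    have : w = z * (z⁻¹ * w * y) * y⁻¹ := by group
    rw [this, h3]; group

/-- `Q` has a non-identity element. -/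
lemma exists_ne_one (hS : Cfsg.IsRankOneSetup G Ω a t Q) : ∃ x ∈ Q, x ≠ 1 := by
  by_contra h
  push Not at h
  have : Q = ⊥ := by
    rw [eq_bot_iff]; intro x hx; rw [mem_bot]; exact h x hx
  have h2 := hS.even_card
  rw [this, Subgroup.card_bot] at h2
  exact absurd h2 (by decide)

/-- Canonical form: existence. -/
lemma canonical_exists (hS : Cfsg.IsRankOneSetup G Ω a t Q) {g : G} (hg : g ∉ stabilizer G a) :
    ∃ h ∈ stabilizer G a, ∃ y ∈ Q, g = h * t * y := by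
  have hc : g⁻¹ • a ≠ a := by
    intro h
    apply hg
    show g • a = a
    conv_lhs => rw [← h]
    rw [smul_inv_smul]
  obtain ⟨y, hy, hyb⟩ := Q_trans hS hc
  -- y • b = g⁻¹ • a
  refine ⟨g * y * t, ?_, y⁻¹, Q.inv_mem hy, ?_⟩
  · show (g * y * t) • a = a
    rw [mul_smul, mul_smul, hyb, smul_inv_smul]
  · have := hS.mul_self
    calc g = g * y * (t * t) * y⁻¹ := by rw [this]; group
      _ = g * y * t * t * y⁻¹ := by group

/-- Canonical form: uniqueness. -/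
lemma canonical_unique (hS : Cfsg.IsRankOneSetup G Ω a t Q) {h h' y y' : G}
    (hh : h ∈ stabilizer G a) (hh' : h' ∈ stabilizer G a) (hy : y ∈ Q) (hy' : y' ∈ Q)
    (heq : h * t * y = h' * t * y') : h = h' ∧ y = y' := by
  -- apply inverse to a
  have h1 : (h * t * y)⁻¹ • a = y⁻¹ • (t • a) := by
    rw [mul_inv_rev, mul_inv_rev, t_inv hS, mul_smul, mul_smul]
    have : h⁻¹ • a = a := (stabilizer G a).inv_mem hh
    rw [this]
  have h2 : (h' * t * y')⁻¹ • a = y'⁻¹ • (t • a) := by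
    rw [mul_inv_rev, mul_inv_rev, t_inv hS, mul_smul, mul_smul]
    have : h'⁻¹ • a = a := (stabilizer G a).inv_mem hh'
    rw [this]
  rw [heq, h2] at h1
  have h3 : (y * y'⁻¹) • (t • a) = t • a := by
    rw [mul_smul, h1, smul_inv_smul]
  have h4 := Q_inf_D hS (Q.mul_mem hy (Q.inv_mem hy')) h3
  have h5 : y = y' := by
    have := congrArg (fun z => z * y') h4
    simpa using this
  subst h5
  refine ⟨?_, rfl⟩
  have := mul_right_cancel heq
  exact mul_right_cancel this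

end RankOne

end Cfsg.Agent.Lib.Helper8
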