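import Cfsg.Agent.Lib.Helper8.RankOne

set_option autoImplicit false

namespace Cfsg.Agent.Lib.Helper8

open Subgroup MulAction

namespace RankOne

variable {G Ω : Type*} [Group G] [MulAction G Ω] {a : Ω} {t : G} {Q : Subgroup G}

/-- Uniqueness of the refined canonical form `g h t f` with `g, f ∈ Q`, `h ∈ D`. -/
lemma canonical_unique3 (hS : Cfsg.IsRankOneSetup G Ω a t Q) {g g' h h' f f' : G}
    (hg : g ∈ Q) (hg' : g' ∈ Q) (hh : h ∈ D G a t) (hh' : h' ∈ D G a t) (hf : f ∈ Q) (hf' : f' ∈ Q)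
    (heq : g * h * t * f = g' * h' * t * f') : g = g' ∧ h = h' ∧ f = f' := by
  have h1 : g * h ∈ stabilizer G a := (stabilizer G a).mul_mem (hS.le hg) hh.1
  have h2 : g' * h' ∈ stabilizer G a := (stabilizer G a).mul_mem (hS.le hg') hh'.1
  obtain ⟨e1, e2⟩ := canonical_unique hS h1 h2 hf hf' heq
  obtain ⟨e3, e4⟩ := factor_unique hS hg hg' hh hh' e1
  exact ⟨e3, e4, e2⟩

lemma D_inv_mem {d : G} (hd : d ∈ D G a t) : d⁻¹ ∈ D G a t := (D G a t).inv_mem hd

lemma D_mul_mem {d e : G} (hd : d ∈ D G a t) (he : e ∈ D G a t) : d * e ∈ D G a t :=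
  (D G a t).mul_mem hd he

/-- `Q` is normalised by `D`. -/
lemma conj_D_mem (hS : Cfsg.IsRankOneSetup G Ω a t Q) {d x : G} (hd : d ∈ D G a t) (hx : x ∈ Q) :
    d * x * d⁻¹ ∈ Q := hS.conj_mem d hd.1 x hx

lemma conj_D_mem' (hS : Cfsg.IsRankOneSetup G Ω a t Q) {d x : G} (hd : d ∈ D G a t) (hx : x ∈ Q) :
    d⁻¹ * x * d ∈ Q := by
  have := hS.conj_mem d⁻¹ (D_inv_mem hd).1 x hx
  rwa [inv_inv] at this

/-- for `x ∈ Q`, `t x t ∈ G_a` iff `x = 1`. -/
lemma txt_mem_iff (hS : Cfsg.IsRankOneSetup G Ω a t Q) {x : G} (hx : x ∈ Q) :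
    t * x * t ∈ stabilizer G a ↔ x = 1 := by
  constructor
  · intro h
    have h1 : (t * x * t) • a = a := h
    rw [mul_smul, mul_smul] at h1
    have h2 : x • (t • a) = t • a := by
      have := congrArg (fun z => t • z) h1
      simp only [t_smul_t_smul hS] at this
      exact this
    exact Q_inf_D hS hx h2
  · rintro rfl
    rw [mul_one, hS.mul_self]
    exact (stabilizer G a).one_mem

end RankOne

end Cfsg.Agent.Lib.Helper8
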