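import Cfsg.Agent.Lib.Helper8.RankOne2

set_option autoImplicit false

namespace Cfsg.Agent.Lib.Helper8

open Subgroup MulAction

namespace RankOne

variable {G Ω : Type*} [Group G] [MulAction G Ω] {a : Ω} {t : G} {Q : Subgroup G}

/-- For involutions `x`, `y`: `x * (y*x)^k = (x*y)^k * x`. -/
lemma inv_pow_swap {G : Type*} [Group G] (x y : G) (k : ℕ) :
    x * (y * x) ^ k = (x * y) ^ k * x := by
  induction k with
  | zero => simp
  | succ k ih =>
    rw [pow_succ, ← mul_assoc, ih, pow_succ, mul_assoc, mul_assoc, mul_assoc]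

lemma inv_of_sq {G : Type*} [Group G] {x : G} (hx : x * x = 1) : x⁻¹ = x :=
  inv_eq_of_mul_eq_one_left hx

/-- Two involutions whose product has odd order are conjugate. -/
lemma conj_of_odd {G : Type*} [Group G] {u v : G} (hu : u * u = 1) (hv : v * v = 1)
    (hodd : Odd (orderOf (u * v))) : ∃ g : G, g * u * g⁻¹ = v := by
  obtain ⟨k, hk⟩ := hodd
  have hpow : (u * v) ^ (2 * k + 1) = 1 := by rw [← hk]; exact pow_orderOf_eq_one _
  have hinv : ((u * v) ^ k)⁻¹ = (v * u) ^ k := by
    rw [← inv_pow, mul_inv_rev, inv_of_sq hu, inv_of_sq hv]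
  refine ⟨(u * v) ^ k, ?_⟩
  rw [hinv, mul_assoc, inv_pow_swap u v k, ← mul_assoc, ← pow_add, ← two_mul]
  -- (u v)^(2k) * u = v
  have h1 : (u * v) ^ (2 * k) * (u * v) = 1 := by rw [← pow_succ]; exact hpow
  have h2 : (u * v) ^ (2 * k) = (u * v)⁻¹ := eq_inv_of_mul_eq_one_left h1
  rw [h2, mul_inv_rev, inv_of_sq hu, inv_of_sq hv, mul_assoc, hu, mul_one]

/-- An element of odd-order group `D` whose square is `1` is `1`. -/
lemma D_sq_eq_one [Finite G] (hS : Cfsg.IsRankOneSetup G Ω a t Q) {d : G} (hd : d ∈ D G a t)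
    (hdd : d * d = 1) : d = 1 := by
  have h1 : orderOf (⟨d, hd⟩ : D G a t) ∣ Nat.card (D G a t) := orderOf_dvd_natCard _
  have h2 : orderOf (⟨d, hd⟩ : D G a t) ∣ 2 := by
    apply orderOf_dvd_of_pow_eq_one
    apply Subtype.ext
    simp [pow_two, hdd]
  have h3 : Odd (Nat.card (D G a t)) := hS.odd_card
  have h4 : orderOf (⟨d, hd⟩ : D G a t) = 1 := by
    rcases (Nat.dvd_prime Nat.prime_two).mp h2 with h | h
    · exact h
    · exfalso
      rw [h] at h1
      exact (Nat.not_even_iff_odd.mpr h3) (even_iff_two_dvd.mpr h1)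
  have := orderOf_eq_one_iff.mp h4
  exact congrArg Subtype.val this

/-- Involutions of `G_a` lie in `Q`. -/
lemma invol_mem_Q [Finite G] (hS : Cfsg.IsRankOneSetup G Ω a t Q) {s : G} (hs : s ∈ stabilizer G a)
    (hss : s * s = 1) : s ∈ Q := by
  obtain ⟨x, hx, d, hd, rfl⟩ := exists_factor hS hs
  have h1 : x * d * (x * d) = (x * (d * x * d⁻¹)) * (d * d) := by group
  rw [h1] at hss
  have h2 : x * (d * x * d⁻¹) ∈ Q := Q.mul_mem hx (conj_D_mem hS hd hx)
  have h3 : d * d ∈ D G a t := D_mul_mem hd hd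
  have h4 : (x * (d * x * d⁻¹)) * (d * d) = 1 * 1 := by rw [hss, one_mul]
  obtain ⟨-, h5⟩ := factor_unique hS h2 Q.one_mem h3 (D G a t).one_mem h4
  have h6 := D_sq_eq_one hS hd h5
  rw [h6, mul_one]; exact hx

/-- A non-trivial involution of `G_a` fixes only `a`. -/
lemma invol_fix_only [Finite G] (hS : Cfsg.IsRankOneSetup G Ω a t Q) {s : G} (hs : s ∈ stabilizer G a)
    (hs1 : s ≠ 1) (hss : s * s = 1) {c : Ω} (hc : s • c = c) : c = a := by
  by_contra hca
  exact hs1 (Q_free hS hca (invol_mem_Q hS hs hss) hc)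

/-- The product of an involution of `G_a` and an involution outside `G_a` has odd order. -/
lemma odd_order_mul [Finite G] (hS : Cfsg.IsRankOneSetup G Ω a t Q) {s u : G}
    (hs : s ∈ stabilizer G a) (hs1 : s ≠ 1) (hss : s * s = 1) (hu : u ∉ stabilizer G a)
    (huu : u * u = 1) : Odd (orderOf (s * u)) := by
  rw [← Nat.not_even_iff_odd]
  intro heven
  obtain ⟨m, hm⟩ := heven
  have hm' : orderOf (s * u) = 2 * m := by rw [hm, two_mul]
  have hpos : 0 < orderOf (s * u) := orderOf_pos _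
  set z := (s * u) ^ m with hz
  have hz1 : z ≠ 1 := by
    intro h
    have := orderOf_dvd_of_pow_eq_one h
    rw [hm'] at this
    have := Nat.le_of_dvd (by omega) this
    omega
  have hzz : z * z = 1 := by
    rw [hz, ← pow_add, ← two_mul, ← hm', pow_orderOf_eq_one]
  -- z commutes with s
  have hinv : ((s * u) ^ m)⁻¹ = (u * s) ^ m := by
    rw [← inv_pow, mul_inv_rev, inv_of_sq hss, inv_of_sq huu]
  have h2 : (u * s) ^ m = (s * u) ^ m := by
    rw [← hinv]; exact inv_eq_of_mul_eq_one_left hzz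
  have hsz : s * z = z * s := by
    have h3 := inv_pow_swap s u m
    -- s (u s)^m = (s u)^m s
    rw [hz, ← h3, h2]
  have huz : u * z = z * u := by
    have h3 := inv_pow_swap u s m
    -- u (s u)^m = (u s)^m u
    rw [hz, h3, h2]
  -- z fixes a
  have hza : z • a = a := by
    apply invol_fix_only hS hs hs1 hss
    rw [← mul_smul, hsz, mul_smul]
    have : s • a = a := hs
    rw [this]
  -- so u fixes a
  apply hu
  show u • a = a
  apply invol_fix_only hS (show z ∈ stabilizer G a from hza) hz1 hzz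
  rw [← mul_smul, ← huz, mul_smul, hza]

end RankOne

end Cfsg.Agent.Lib.Helper8
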