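import Cfsg.Agent.Lib.Helper8.RankOne4

set_option autoImplicit false

namespace Cfsg.Agent.Lib.Helper8

open Subgroup MulAction

namespace RankOne

variable {G Ω : Type*} [Group G] [MulAction G Ω] {a : Ω} {t : G} {Q : Subgroup G}

/-- the centraliser of `X` preserves the fixed points of `X` -/
lemma cent_smul_fixed {X : Set G} {z : G} (hz : z ∈ centralizer X) {c : Ω}
    (hc : ∀ y ∈ X, y • c = c) : ∀ y ∈ X, y • (z • c) = z • c := by
  intro y hy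
  rw [mem_centralizer_iff] at hz
  rw [← mul_smul, hz y hy, mul_smul, hc y hy]

/-- Key lemma: the conjugate `g0 Q g0⁻¹` contains an element of `C(X)` carrying `c1` to `c2`,
for fixed points `g0 • a`, `c1`, `c2` of `X` with `c1, c2 ≠ g0 • a`. -/
lemma exists_cent_conj (hS : Cfsg.IsRankOneSetup G Ω a t Q) {X : Set G} (g0 : G) {c1 c2 : Ω}
    (he : ∀ y ∈ X, y • (g0 • a) = g0 • a) (hc1 : ∀ y ∈ X, y • c1 = c1) (hc2 : ∀ y ∈ X, y • c2 = c2)
    (h1 : c1 ≠ g0 • a) (h2 : c2 ≠ g0 • a) :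
    ∃ x0 ∈ Q, g0 * x0 * g0⁻¹ ∈ centralizer X ∧ (g0 * x0 * g0⁻¹) • c1 = c2 := by
  have h1' : g0⁻¹ • c1 ≠ a := by
    intro h; apply h1; rw [← h, smul_inv_smul]
  have h2' : g0⁻¹ • c2 ≠ a := by
    intro h; apply h2; rw [← h, smul_inv_smul]
  obtain ⟨⟨x0, hx0⟩, hx0c, huniq⟩ := Q_regular hS h1' h2'
  have hx0c' : x0 • (g0⁻¹ • c1) = g0⁻¹ • c2 := hx0c
  refine ⟨x0, hx0, ?_, ?_⟩
  · rw [mem_centralizer_iff]
    intro y hy
    -- h = g0⁻¹ y g0 ∈ G_a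
    set h := g0⁻¹ * y * g0 with hh
    have hha : h ∈ stabilizer G a := by
      show (g0⁻¹ * y * g0) • a = a
      rw [mul_smul, mul_smul, he y hy, inv_smul_smul]
    have hconj : h * x0 * h⁻¹ ∈ Q := hS.conj_mem h hha x0 hx0
    have hyc1 : y⁻¹ • c1 = c1 := by rw [inv_smul_eq_iff, hc1 y hy]
    have hact : (h * x0 * h⁻¹) • (g0⁻¹ • c1) = g0⁻¹ • c2 := by
      have e1 : h⁻¹ • (g0⁻¹ • c1) = g0⁻¹ • c1 := by
        rw [hh, mul_inv_rev, mul_inv_rev, inv_inv, mul_smul, mul_smul, smul_inv_smul, hyc1]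
      rw [mul_smul, mul_smul, e1, hx0c', hh, mul_smul, mul_smul, smul_inv_smul, hc2 y hy]
    have := huniq ⟨h * x0 * h⁻¹, hconj⟩ hact
    have hx : h * x0 * h⁻¹ = x0 := congrArg Subtype.val this
    -- y z y⁻¹ = z, i.e. y z = z y
    calc y * (g0 * x0 * g0⁻¹) = g0 * (h * x0 * h⁻¹) * g0⁻¹ * y := by rw [hh]; group
      _ = g0 * x0 * g0⁻¹ * y := by rw [hx]
  · rw [mul_smul, mul_smul, hx0c', smul_inv_smul]

end RankOne

end Cfsg.Agent.Lib.Helper8
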