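import Cfsg.Agent.Lib.Helper8.RankOne5

set_option autoImplicit false

namespace Cfsg.Agent.Lib.Helper8

open Subgroup MulAction

namespace RankOne

variable {G Ω : Type*} [Group G] [MulAction G Ω] {a : Ω} {t : G} {Q : Subgroup G}

/-- `T(e)`: the stabiliser of a fixed point `e` of `X` in `C(X)` is transitive on the other fixed points -/
lemma cent_stab_trans (hS : Cfsg.IsRankOneSetup G Ω a t Q) {X : Set G} {e c1 c2 : Ω}
    (he : ∀ y ∈ X, y • e = e) (hc1 : ∀ y ∈ X, y • c1 = c1) (hc2 : ∀ y ∈ X, y • c2 = c2)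
    (h1 : c1 ≠ e) (h2 : c2 ≠ e) : ∃ z ∈ centralizer X, z • e = e ∧ z • c1 = c2 := by
  haveI := isPretransitive hS
  obtain ⟨g0, rfl⟩ := MulAction.exists_smul_eq G a e
  obtain ⟨x0, hx0, hz, hzc⟩ := exists_cent_conj hS g0 he hc1 hc2 h1 h2
  refine ⟨_, hz, ?_, hzc⟩
  rw [mul_smul, mul_smul, inv_smul_smul, Q_fix_a hS hx0]

/-- `C(X)` is transitive on the fixed points of `X`, if there are at least three of them. -/
lemma cent_trans (hS : Cfsg.IsRankOneSetup G Ω a t Q) {X : Set G}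
    (h3 : ∃ b c d : Ω, b ≠ c ∧ b ≠ d ∧ c ≠ d ∧ ∀ x ∈ X, x • b = b ∧ x • c = c ∧ x • d = d)
    {b1 c1 : Ω} (hb1 : ∀ y ∈ X, y • b1 = b1) (hc1 : ∀ y ∈ X, y • c1 = c1) :
    ∃ z ∈ centralizer X, z • b1 = c1 := by
  by_cases h : b1 = c1
  · exact ⟨1, (centralizer X).one_mem, by rw [one_smul, h]⟩
  obtain ⟨b, c, d, hbc, hbd, hcd, hF⟩ := h3
  have hex : ∃ e : Ω, (∀ y ∈ X, y • e = e) ∧ b1 ≠ e ∧ c1 ≠ e := by
    by_cases hb : b1 ≠ b ∧ c1 ≠ b
    · exact ⟨b, fun y hy => (hF y hy).1, hb.1, hb.2⟩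
    by_cases hc : b1 ≠ c ∧ c1 ≠ c
    · exact ⟨c, fun y hy => (hF y hy).2.1, hc.1, hc.2⟩
    refine ⟨d, fun y hy => (hF y hy).2.2, ?_, ?_⟩
    · intro hd
      subst hd
      -- b1 = d; then c1 = b (from hb) and c1 = c (from hc), contradiction
      have e1 : c1 = b := by
        by_contra hne; exact hb ⟨hbd.symm, hne⟩
      have e2 : c1 = c := by
        by_contra hne; exact hc ⟨hcd.symm, hne⟩
      exact hbc (e1.symm.trans e2)
    · intro hd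
      subst hd
      have e1 : b1 = b := by
        by_contra hne; exact hb ⟨hne, hbd.symm⟩
      have e2 : b1 = c := by
        by_contra hne; exact hc ⟨hne, hcd.symm⟩
      exact hbc (e1.symm.trans e2)
  obtain ⟨e, he, h1, h2⟩ := hex
  obtain ⟨z, hz, -, hzc⟩ := cent_stab_trans hS he hb1 hc1 h1 h2
  exact ⟨z, hz, hzc⟩

/-- `C(X)` is doubly transitive on the fixed points of `X`. -/
lemma cent_two_trans (hS : Cfsg.IsRankOneSetup G Ω a t Q) {X : Set G}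
    (h3 : ∃ b c d : Ω, b ≠ c ∧ b ≠ d ∧ c ≠ d ∧ ∀ x ∈ X, x • b = b ∧ x • c = c ∧ x • d = d)
    {b1 b2 c1 c2 : Ω} (hb1 : ∀ y ∈ X, y • b1 = b1) (hb2 : ∀ y ∈ X, y • b2 = b2)
    (hc1 : ∀ y ∈ X, y • c1 = c1) (hc2 : ∀ y ∈ X, y • c2 = c2) (hb : b1 ≠ b2) (hc : c1 ≠ c2) :
    ∃ g ∈ centralizer X, g • b1 = c1 ∧ g • b2 = c2 := by
  obtain ⟨z1, hz1, hz1b⟩ := cent_trans hS h3 hb1 hc1
  have hb2' : ∀ y ∈ X, y • (z1 • b2) = z1 • b2 := cent_smul_fixed hz1 hb2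
  have hne : z1 • b2 ≠ c1 := by
    rw [← hz1b]
    intro h
    exact hb (smul_left_cancel z1 h).symm
  obtain ⟨z2, hz2, hz2c, hz2b⟩ := cent_stab_trans hS hc1 hb2' hc2 hne hc.symm
  refine ⟨z2 * z1, (centralizer X).mul_mem hz2 hz1, ?_, ?_⟩
  · rw [mul_smul, hz1b, hz2c]
  · rw [mul_smul, hz2b]

end RankOne

end Cfsg.Agent.Lib.Helper8
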