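import Cfsg.Agent.Lib.Helper8.RankOne6

set_option autoImplicit false

namespace Cfsg.Agent.Lib.Helper8

open Subgroup MulAction

namespace RankOne

variable {G Ω : Type*} [Group G] [MulAction G Ω] {a : Ω} {t : G} {Q : Subgroup G}

lemma X_fix_a {X : Set G} (hX : X ⊆ (D G a t : Set G)) : ∀ y ∈ X, y • a = a :=
  fun y hy => (hX hy).1

lemma X_fix_b {X : Set G} (hX : X ⊆ (D G a t : Set G)) : ∀ y ∈ X, y • (t • a) = t • a :=
  fun y hy => (hX hy).2

/-- There is an involution in `C(X)` (for `X ⊆ D` fixing at least three points). -/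
lemma exists_invol_cent [Finite G] (hS : Cfsg.IsRankOneSetup G Ω a t Q) {X : Set G}
    (hX : X ⊆ (D G a t : Set G))
    (h3 : ∃ b c d : Ω, b ≠ c ∧ b ≠ d ∧ c ≠ d ∧ ∀ x ∈ X, x • b = b ∧ x • c = c ∧ x • d = d) :
    ∃ u ∈ centralizer X, u ≠ 1 ∧ u * u = 1 := by
  obtain ⟨g, hg, hga, hgb⟩ := cent_two_trans hS h3 (X_fix_a hX) (X_fix_b hX) (X_fix_b hX) (X_fix_a hX)
    (b_ne hS).symm (b_ne hS)
  -- g has even order
  have heven : Even (orderOf g) := by
    rw [← Nat.not_odd_iff_even]
    rintro ⟨k, hk⟩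
    have h1 : g ^ (2 * k + 1) = 1 := by rw [← hk]; exact pow_orderOf_eq_one g
    have h2 : (g * g) • a = a := by rw [mul_smul, hga, hgb]
    have h3' : ∀ j : ℕ, ((g * g) ^ j) • a = a := by
      intro j
      induction j with
      | zero => simp
      | succ j ih => rw [pow_succ, mul_smul, h2, ih]
    have h4 : g = (g * g) ^ (k + 1) := by
      rw [← pow_two, ← pow_mul]
      have : 2 * (k + 1) = (2 * k + 1) + 1 := by ring
      rw [this, pow_succ, h1, one_mul]
    have h5 : g • a = a := by rw [h4]; exact h3' (k + 1)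
    rw [hga] at h5
    exact b_ne hS h5
  have h2dvd : 2 ∣ Nat.card (centralizer X) := by
    have h1 : orderOf (⟨g, hg⟩ : centralizer X) ∣ Nat.card (centralizer X) := orderOf_dvd_natCard _
    rw [Subgroup.orderOf_mk] at h1
    exact (even_iff_two_dvd.mp heven).trans h1
  haveI : Fact (Nat.Prime 2) := ⟨Nat.prime_two⟩
  obtain ⟨u, hu⟩ := exists_prime_orderOf_dvd_card' (G := centralizer X) 2 h2dvd
  refine ⟨u.1, u.2, ?_, ?_⟩
  · intro h
    have h1 : orderOf (u : G) = 2 := by rw [Subgroup.orderOf_coe]; exact hu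
    rw [h, orderOf_one] at h1
    omega
  · have h1 : orderOf (u : G) = 2 := by rw [Subgroup.orderOf_coe]; exact hu
    have := pow_orderOf_eq_one (u : G)
    rwa [h1, pow_two] at this

/-- There is an involution in `C(X) ⊓ Q`. -/
lemma exists_invol_cent_Q [Finite G] (hS : Cfsg.IsRankOneSetup G Ω a t Q) {X : Set G}
    (hX : X ⊆ (D G a t : Set G))
    (h3 : ∃ b c d : Ω, b ≠ c ∧ b ≠ d ∧ c ≠ d ∧ ∀ x ∈ X, x • b = b ∧ x • c = c ∧ x • d = d) :
    ∃ s ∈ centralizer X ⊓ Q, s ≠ 1 ∧ s * s = 1 := by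
  obtain ⟨u, hu, hu1, huu⟩ := exists_invol_cent hS hX h3
  obtain ⟨e, he⟩ := invol_exists_fix hS huu
  have heF : ∀ y ∈ X, y • e = e := by
    intro y hy
    have h1 : u • (y • e) = y • e := by
      have := cent_smul_fixed (X := {u}) (z := y) (c := e) (by
        rw [mem_centralizer_iff]
        intro h hh
        rw [Set.mem_singleton_iff] at hh
        subst hh
        rw [mem_centralizer_iff] at hu
        exact (hu y hy).symm) (by
        intro h hh
        rw [Set.mem_singleton_iff] at hh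
        subst hh
        exact he)
      exact this u (Set.mem_singleton u)
    exact invol_fix_unique hS hu1 huu h1 he
  obtain ⟨z, hz, hze⟩ := cent_trans hS h3 heF (X_fix_a hX)
  have hs : z * u * z⁻¹ ∈ centralizer X :=
    (centralizer X).mul_mem ((centralizer X).mul_mem hz hu) ((centralizer X).inv_mem hz)
  have hsa : z * u * z⁻¹ ∈ stabilizer G a := by
    show (z * u * z⁻¹) • a = a
    rw [mul_smul, mul_smul, ← hze, inv_smul_smul, he]
  have hss : (z * u * z⁻¹) * (z * u * z⁻¹) = 1 := by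
    calc (z * u * z⁻¹) * (z * u * z⁻¹) = z * (u * u) * z⁻¹ := by group
      _ = 1 := by rw [huu]; group
  refine ⟨z * u * z⁻¹, ⟨hs, invol_mem_Q hS hsa hss⟩, ?_, hss⟩
  intro h
  apply hu1
  have : u = z⁻¹ * (z * u * z⁻¹) * z := by group
  rw [this, h]; group

end RankOne

end Cfsg.Agent.Lib.Helper8
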