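import Cfsg.Agent.Lib.Helper8.S1572G

set_option autoImplicit false
set_option linter.unusedVariables false
set_option linter.unusedSectionVars false

/-! S1572 piece [D]: an automorphism whose inverse preserves the shape `(±4, ±4, 0^22)`
stabilises the standard cross. -/

namespace Cfsg.Agent.Lib.Helper8.S1572

open Cfsg Cfsg.Agent.Lib.Helper4 Cfsg.Agent.Lib.Helper28 Cfsg.Agent.Helper4.CO
  Cfsg.Agent.Helper4.LC MulAction

/-- `4 e_p + 4 e_q` as a lattice vector -/
def Eadd (p q : GolayPt) (hpq : p ≠ q) : ↥leechLattice :=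
  ⟨E p + E q, by
    obtain ⟨⟨h4, h8, _⟩, _⟩ := E_facts p q hpq
    exact mem_of_four h4 h8⟩

/-- `4 e_p - 4 e_q` as a lattice vector -/
def Esub (p q : GolayPt) (hpq : p ≠ q) : ↥leechLattice :=
  ⟨E p - E q, by
    obtain ⟨_, ⟨h4, h8, _⟩⟩ := E_facts p q hpq
    exact mem_of_four h4 h8⟩

theorem Eadd_mem (p q : GolayPt) (hpq : p ≠ q) : Eadd p q hpq ∈ S1set := by
  refine ⟨p, q, hpq, Or.inl ?_, Or.inl ?_, ?_⟩
  · show (E p + E q) p = 4
    simp only [Pi.add_apply, E_apply, if_true, if_neg hpq]; norm_num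
  · show (E p + E q) q = 4
    simp only [Pi.add_apply, E_apply, if_true, if_neg hpq.symm]; norm_num
  · intro k h1 h2
    show (E p + E q) k = 0
    simp only [Pi.add_apply, E_apply, if_neg h1, if_neg h2]; norm_num

theorem Esub_mem (p q : GolayPt) (hpq : p ≠ q) : Esub p q hpq ∈ S1set := by
  refine ⟨p, q, hpq, Or.inl ?_, Or.inr ?_, ?_⟩
  · show (E p - E q) p = 4
    simp only [Pi.sub_apply, E_apply, if_true, if_neg hpq]; norm_num
  · show (E p - E q) q = -4
    simp only [Pi.sub_apply, E_apply, if_true, if_neg hpq.symm]; norm_num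
  · intro k h1 h2
    show (E p - E q) k = 0
    simp only [Pi.sub_apply, E_apply, if_neg h1, if_neg h2]; norm_num

theorem dotInt_single_left (i : GolayPt) (s : ℤ) (y : GolayPt → ℤ) :
    dotInt (Pi.single i s) y = s * y i := by
  unfold dotInt
  rw [Finset.sum_eq_single i]
  · rw [Pi.single_eq_same]
  · intro k _ hk
    rw [Pi.single_eq_of_ne hk, zero_mul]
  · intro h; exact absurd (Finset.mem_univ i) h

theorem dotInt_E_add (u : GolayPt → ℤ) (p q : GolayPt) :
    dotInt u (E p + E q) = 4 * u p + 4 * u q := by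
  rw [dotInt_add_right, dotInt_comm' u (E p), dotInt_comm' u (E q)]
  unfold E
  rw [dotInt_single_left, dotInt_single_left]

theorem dotInt_E_sub (u : GolayPt → ℤ) (p q : GolayPt) :
    dotInt u (E p - E q) = 4 * u p - 4 * u q := by
  have h : E p - E q = E p + -(E q) := sub_eq_add_neg _ _
  rw [h, dotInt_add_right, dotInt_neg_right, dotInt_comm' u (E p), dotInt_comm' u (E q)]
  unfold E
  rw [dotInt_single_left, dotInt_single_left]
  ring

/-- the values of a vector of shape `(±4, ±4, 0^22)` -/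
theorem S1_apply {t : GolayPt → ℤ} (ht : IsS1 t) (i : GolayPt) : t i = 0 ∨ t i = 4 ∨ t i = -4 := by
  obtain ⟨a, b, hab, ha, hb, h0⟩ := ht
  by_cases h1 : i = a
  · subst h1; rcases ha with h | h <;> simp [h]
  · by_cases h2 : i = b
    · subst h2; rcases hb with h | h <;> simp [h]
    · left; exact h0 i h1 h2

theorem dot_e8_S1 (i : GolayPt) (t : ↥leechLattice) (ht : t ∈ S1set) :
    dotInt ((e8 i : ↥leechLattice) : GolayPt → ℤ) (t : GolayPt → ℤ) = 0 ∨
      dotInt ((e8 i : ↥leechLattice) : GolayPt → ℤ) (t : GolayPt → ℤ) = 32 ∨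
      dotInt ((e8 i : ↥leechLattice) : GolayPt → ℤ) (t : GolayPt → ℤ) = -32 := by
  rw [e8_coe, dotInt_single_left]
  rcases S1_apply ht i with h | h | h <;> rw [h] <;> norm_num

/-- the arithmetic core -/
theorem single_of_sums (u : GolayPt → ℤ) (hn : sqNorm u = 64)
    (h : ∀ p q : GolayPt, p ≠ q →
      (u p + u q = 0 ∨ u p + u q = 8 ∨ u p + u q = -8) ∧
      (u p - u q = 0 ∨ u p - u q = 8 ∨ u p - u q = -8)) :
    u ∈ stdCross := by
  classical
  have hne : ∃ p, u p ≠ 0 := by
    by_contra hcon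
    push Not at hcon
    unfold sqNorm at hn
    rw [Finset.sum_eq_zero (fun i _ => by rw [hcon i]; norm_num)] at hn
    norm_num at hn
  obtain ⟨p, hp⟩ := hne
  -- the value at p
  obtain ⟨q0, hq0⟩ : ∃ q : GolayPt, q ≠ p := by
    by_cases h0 : p = none
    · exact ⟨some 0, by rw [h0]; simp⟩
    · exact ⟨none, fun h => h0 h.symm⟩
  have hp4 : u p = 4 ∨ u p = -4 ∨ u p = 8 ∨ u p = -8 := by
    have := h p q0 (Ne.symm hq0)
    omega
  by_cases h8 : u p = 8 ∨ u p = -8
  · refine ⟨p, u p, h8, ?_⟩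
    funext k
    by_cases hk : k = p
    · subst hk; rw [Pi.single_eq_same]
    · rw [Pi.single_eq_of_ne hk]
      have := h p k (Ne.symm hk)
      omega
  · exfalso
    have hall : ∀ k, u k ^ 2 = 16 := by
      intro k
      by_cases hk : k = p
      · subst hk
        rcases hp4 with h | h | h | h
        · rw [h]; norm_num
        · rw [h]; norm_num
        · exact absurd (Or.inl h) h8
        · exact absurd (Or.inr h) h8
      · have := h p k (Ne.symm hk)
        have hk4 : u k = 4 ∨ u k = -4 := by omega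
        rcases hk4 with h | h <;> rw [h] <;> norm_num
    unfold sqNorm at hn
    rw [Finset.sum_congr rfl (fun k _ => hall k), Finset.sum_const, Finset.card_univ] at hn
    have : Fintype.card GolayPt = 24 := by decide
    rw [this] at hn
    norm_num at hn

/-- [D] -/
theorem mem_Nstd_of_S1 (g : ↥Co0) (h : ∀ x : ↥leechLattice, x ∈ S1set → g⁻¹ • x ∈ S1set) :
    g ∈ Nstd := by
  have key : ∀ i : GolayPt, ((g • e8 i : ↥leechLattice) : GolayPt → ℤ) ∈ stdCross := by
    intro i
    apply single_of_sums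
    · rw [co0_sqNorm', e8_coe]
      exact sqNorm_single i 8 (Or.inl rfl)
    · intro p q hpq
      have h1 := co0_dot' g (e8 i) (g⁻¹ • Eadd p q hpq)
      have h2 := co0_dot' g (e8 i) (g⁻¹ • Esub p q hpq)
      rw [smul_inv_smul] at h1 h2
      have h3 := dot_e8_S1 i _ (h _ (Eadd_mem p q hpq))
      have h4 := dot_e8_S1 i _ (h _ (Esub_mem p q hpq))
      rw [← h1] at h3
      rw [← h2] at h4
      have e1 : ((Eadd p q hpq : ↥leechLattice) : GolayPt → ℤ) = E p + E q := rfl
      have e2 : ((Esub p q hpq : ↥leechLattice) : GolayPt → ℤ) = E p - E q := rfl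
      rw [e1, dotInt_E_add] at h3
      rw [e2, dotInt_E_sub] at h4
      constructor <;> omega
  intro v hv
  obtain ⟨i, s, hs, hvi⟩ := hv
  rcases hs with rfl | rfl
  · have : v = e8 i := Subtype.ext hvi
    rw [this]; exact key i
  · have : v = -e8 i := by
      apply Subtype.ext
      rw [hvi, AddSubgroup.coe_neg, e8_coe, single_neg_eight]
    rw [this, co0_smul_neg, AddSubgroup.coe_neg]
    obtain ⟨j, t, ht, hj⟩ := key i
    refine ⟨j, -t, by omega, ?_⟩
    rw [hj]
    funext k
    simp only [Pi.neg_apply, Pi.single_apply]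
    split_ifs <;> simp

end Cfsg.Agent.Lib.Helper8.S1572
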