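import Cfsg.Agent.Lib.Helper4.CoTrans32
import Cfsg.Agent.Lib.Helper4.CoM22

set_option autoImplicit false
set_option linter.unusedVariables false

/-! S1572 (the monomial group `2^12 : M24` is maximal in the automorphism group of the rank-24
lattice): shared definitions for the pieces. -/

namespace Cfsg.Agent.Lib.Helper8.S1572

open Cfsg Cfsg.Agent.Lib.Helper4 Cfsg.Agent.Helper4.CO Cfsg.Agent.Helper4.LC

/-- the stabiliser of the standard cross, as a set of automorphisms -/
def Nstd : Set ↥Co0 :=
  {g | ∀ v : ↥leechLattice, (v : GolayPt → ℤ) ∈ stdCross →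
    ((g • v : ↥leechLattice) : GolayPt → ℤ) ∈ stdCross}

/-- the first base point `a` -/
def pa : GolayPt := some 0

/-- the second base point `b` -/
def pb : GolayPt := some 5

theorem pa_ne_pb : pa ≠ pb := by decide

/-- the base vector `v0 = 4 e_a + 4 e_b` -/
def v0 : ↥leechLattice := mkL v0L v0L_in

theorem v0_coe : ((v0 : ↥leechLattice) : GolayPt → ℤ) = E pa + E pb := v0L_eq

/-- its partner `u0 = 4 e_a - 4 e_b` -/
def u0 : ↥leechLattice :=
  ⟨E pa - E pb, by
    obtain ⟨_, ⟨h4, h8, _⟩⟩ := E_facts pa pb pa_ne_pb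
    exact mem_of_four h4 h8⟩

theorem u0_coe : ((u0 : ↥leechLattice) : GolayPt → ℤ) = E pa - E pb := rfl

/-- the three shape classes of minimal vectors, as sets of lattice vectors -/
def S1set : Set ↥leechLattice := {x | IsS1 (x : GolayPt → ℤ)}
def S2set : Set ↥leechLattice := {x | IsS2 (x : GolayPt → ℤ)}
def S3set : Set ↥leechLattice := {x | IsS3 (x : GolayPt → ℤ)}

end Cfsg.Agent.Lib.Helper8.S1572
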