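import Cfsg.Agent.Lib.Helper8.S1572D
import Cfsg.Agent.Lib.Helper6.S1572A
import Cfsg.Agent.Lib.Helper11.S1572B
import Cfsg.Agent.Lib.Helper21.S1572C
import Cfsg.Agent.Lib.Helper14.S1572E1
import Cfsg.Agent.Lib.Helper9.S1572E2
import Cfsg.Agent.Lib.Helper14.S1572E3

set_option autoImplicit false
set_option linter.unusedVariables false
set_option linter.unusedSectionVars false

/-! S1572 (the stabiliser `N = 2^12 : M24` of the standard cross is a maximal subgroup of the
automorphism group of the rank-24 lattice): assembly of the pieces.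
For `N < K`: `[K : N] ≡ 1 (mod 23)` and `[K : N] ∣ 8292375` (piece A); the `K`-orbit of
`v0 = (4, 4, 0, …)` has 1104, 98256, 99408 or 196560 elements (pieces B, C) and 1104 forces
`K ≤ N` (piece D); the joint stabiliser of `v0` and `u0 = (4, -4, 0, …)` lies in `N`, so
`2208 [K : N] = n m` with `m` the size of the `K_{v0}`-orbit of `u0`, which is 2 or at least 47
(pieces E, G); the arithmetic leaves `[K : N] = 8292375`. -/

namespace Cfsg.Agent.Lib.Helper8.S1572

open Cfsg Cfsg.Agent.Lib.Helper4 Cfsg.Agent.Lib.Helper28 Cfsg.Agent.Helper4.CO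
  Cfsg.Agent.Helper4.LC MulAction

/-! ### arithmetic -/

theorem div2025 : ∀ k ∈ Nat.divisors 2025, k % 23 = 1 → k = 1 ∨ k = 2025 := by decide +kernel

theorem arith (d m n : ℕ) (h : n * m = 2208 * d) (hd : d ∣ 8292375) (h23 : d % 23 = 1)
    (hn : n = 98256 ∨ n = 99408 ∨ n = 196560) (hm : m = 2 ∨ 47 ≤ m) : d = 8292375 := by
  rcases hn with rfl | rfl | rfl
  · exfalso
    have h1 : 89 ∣ 2 * d := ⟨m, by omega⟩
    have h2 : 89 ∣ d := (Nat.Coprime.dvd_of_dvd_mul_left (by norm_num : Nat.Coprime 89 2)) h1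
    have h3 : 89 ∣ 8292375 := dvd_trans h2 hd
    norm_num at h3
  · exfalso
    have h1 : 19 ∣ 46 * d := ⟨109 * m, by omega⟩
    have h2 : 19 ∣ d := (Nat.Coprime.dvd_of_dvd_mul_left (by norm_num : Nat.Coprime 19 46)) h1
    have h3 : 19 ∣ 8292375 := dvd_trans h2 hd
    norm_num at h3
  · have h1 : 46 ∣ 4095 * m := ⟨d, by omega⟩
    have h2 : 46 ∣ m := (Nat.Coprime.dvd_of_dvd_mul_left (by norm_num : Nat.Coprime 46 4095)) h1
    obtain ⟨k, rfl⟩ := h2
    have hdk : d = 4095 * k := by omega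
    subst hdk
    have hk : k ∣ 2025 := by
      have : 4095 * k ∣ 4095 * 2025 := by simpa using hd
      exact Nat.dvd_of_mul_dvd_mul_left (by norm_num) this
    have hk23 : k % 23 = 1 := by omega
    have hkm : k ∈ Nat.divisors 2025 := Nat.mem_divisors.mpr ⟨hk, by norm_num⟩
    rcases div2025 k hkm hk23 with rfl | rfl
    · omega
    · norm_num


/-! ### shapes -/

theorem v0_mem_S1 : v0 ∈ S1set := by
  show IsS1 ((v0 : ↥leechLattice) : GolayPt → ℤ)
  rw [v0_coe]
  exact Eadd_mem pa pb pa_ne_pb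

theorem u0_mem_S1 : u0 ∈ S1set := Esub_mem pa pb pa_ne_pb

theorem sqNorm_v0 : sqNorm ((v0 : ↥leechLattice) : GolayPt → ℤ) = 32 :=
  Helper21.sqNorm_S1 v0 v0_mem_S1

theorem sqNorm_u0 : sqNorm ((u0 : ↥leechLattice) : GolayPt → ℤ) = 32 :=
  Helper21.sqNorm_S1 u0 u0_mem_S1

theorem dot_v0_u0 : dotInt ((v0 : ↥leechLattice) : GolayPt → ℤ)
    ((u0 : ↥leechLattice) : GolayPt → ℤ) = 0 := by
  rw [u0_coe, dotInt_E_sub, v0_coe]
  simp only [Pi.add_apply, E_apply, if_true, if_neg pa_ne_pb, if_neg pa_ne_pb.symm]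
  norm_num

theorem exists_third (i j : GolayPt) : ∃ k : GolayPt, k ≠ i ∧ k ≠ j := by
  revert i j
  decide

theorem S1_S2_disj {x : GolayPt → ℤ} (h1 : IsS1 x) (h2 : IsS2 x) : False := by
  obtain ⟨i, j, hij, hi, hj, h0⟩ := h1
  obtain ⟨O, hO, hon, hoff⟩ := h2
  by_cases hiO : i ∈ O
  · rcases hon i hiO with h | h <;> rcases hi with h' | h' <;> omega
  · have := hoff i hiO
    rcases hi with h' | h' <;> omega

theorem S1_S3_disj {x : GolayPt → ℤ} (h1 : IsS1 x) (h3 : IsS3 x) : False := by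
  obtain ⟨i, j, hij, hi, hj, h0⟩ := h1
  obtain ⟨k, hk, hoth⟩ := h3
  obtain ⟨l, hli, hlj⟩ := exists_third i j
  have hl0 := h0 l hli hlj
  by_cases hlk : l = k
  · subst hlk; rcases hk with h | h <;> omega
  · rcases hoth l hlk with h | h <;> omega

theorem S2_S3_disj {x : GolayPt → ℤ} (h2 : IsS2 x) (h3 : IsS3 x) : False := by
  obtain ⟨O, hO, hon, hoff⟩ := h2
  obtain ⟨k, hk, hoth⟩ := h3
  by_cases hkO : k ∈ O
  · rcases hon k hkO with h | h <;> rcases hk with h' | h' <;> omega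
  · have := hoff k hkO
    rcases hk with h' | h' <;> omega

theorem finite_S1set : S1set.Finite :=
  Set.finite_of_ncard_ne_zero (by rw [ncard_S1set]; norm_num)
theorem finite_S2set : S2set.Finite :=
  Set.finite_of_ncard_ne_zero (by rw [ncard_S2set]; norm_num)
theorem finite_S3set : S3set.Finite :=
  Set.finite_of_ncard_ne_zero (by rw [ncard_S3set]; norm_num)

theorem mem_shapes (x : ↥leechLattice) (hx : sqNorm ((x : ↥leechLattice) : GolayPt → ℤ) = 32) :
    x ∈ S1set ∨ x ∈ S2set ∨ x ∈ S3set := shape32 x x.2 hx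


/-! ### orbits -/

section main

variable (H K : Subgroup ↥Co0) (hH : (H : Set ↥Co0) = Nstd)

include hH in
theorem mem_H_iff (g : ↥Co0) : g ∈ H ↔ g ∈ Nstd := by
  rw [← hH]; rfl

include hH in
theorem orbit_H_v0 : orbit ↥H v0 = S1set := by
  ext x
  constructor
  · rintro ⟨⟨g, hg⟩, rfl⟩
    exact S1set_smul g ((mem_H_iff H hH g).1 hg) v0 v0_mem_S1
  · intro hx
    obtain ⟨g, hg, rfl⟩ := trans_S1 H hH v0 x v0_mem_S1 hx
    exact ⟨⟨g, hg⟩, rfl⟩

theorem orbit_sub_shapes : orbit ↥K v0 ⊆ S1set ∪ (S2set ∪ S3set) := by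
  rintro _ ⟨⟨k, hk⟩, rfl⟩
  have h32 : sqNorm (((k • v0 : ↥leechLattice)) : GolayPt → ℤ) = 32 := by
    rw [co0_sqNorm', sqNorm_v0]
  rcases mem_shapes (k • v0) h32 with h | h | h
  · exact Or.inl h
  · exact Or.inr (Or.inl h)
  · exact Or.inr (Or.inr h)

include hH in
theorem S1_sub_orbit (hHK : H ≤ K) : S1set ⊆ orbit ↥K v0 := by
  intro x hx
  obtain ⟨g, hg, rfl⟩ := trans_S1 H hH v0 x v0_mem_S1 hx
  exact ⟨⟨g, hHK hg⟩, rfl⟩

include hH in
theorem S2_sub_orbit (hHK : H ≤ K) (y : ↥leechLattice) (hy : y ∈ orbit ↥K v0) (hy2 : y ∈ S2set) :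
    S2set ⊆ orbit ↥K v0 := by
  intro x hx
  obtain ⟨g, hg, rfl⟩ := trans_S2 H hH y x hy2 hx
  obtain ⟨k, rfl⟩ := hy
  exact ⟨⟨g, hHK hg⟩ * k, mul_smul _ _ _⟩

include hH in
theorem S3_sub_orbit (hHK : H ≤ K) (y : ↥leechLattice) (hy : y ∈ orbit ↥K v0) (hy3 : y ∈ S3set) :
    S3set ⊆ orbit ↥K v0 := by
  intro x hx
  obtain ⟨g, hg, rfl⟩ := trans_S3 H hH y x hy3 hx
  obtain ⟨k, rfl⟩ := hy
  exact ⟨⟨g, hHK hg⟩ * k, mul_smul _ _ _⟩

theorem disj12 : Disjoint S1set S2set := by
  rw [Set.disjoint_left]; intro x h1 h2; exact S1_S2_disj h1 h2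
theorem disj13 : Disjoint S1set S3set := by
  rw [Set.disjoint_left]; intro x h1 h3; exact S1_S3_disj h1 h3
theorem disj23 : Disjoint S2set S3set := by
  rw [Set.disjoint_left]; intro x h2 h3; exact S2_S3_disj h2 h3

include hH in
/-- the four possibilities for the orbit of `v0` under an overgroup of the monomial group -/
theorem orbit_K_cases (hHK : H ≤ K) :
    orbit ↥K v0 = S1set ∨ (orbit ↥K v0).ncard = 98256 ∨ (orbit ↥K v0).ncard = 99408 ∨
      (orbit ↥K v0).ncard = 196560 := by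
  classical
  have hsub := orbit_sub_shapes K
  have h1 := S1_sub_orbit H K hH hHK
  by_cases b2 : ∃ y, y ∈ orbit ↥K v0 ∧ y ∈ S2set
  · obtain ⟨y, hy, hy2⟩ := b2
    have h2 := S2_sub_orbit H K hH hHK y hy hy2
    by_cases b3 : ∃ y, y ∈ orbit ↥K v0 ∧ y ∈ S3set
    · obtain ⟨z, hz, hz3⟩ := b3
      have h3 := S3_sub_orbit H K hH hHK z hz hz3
      right; right; right
      have e : orbit ↥K v0 = S1set ∪ (S2set ∪ S3set) :=
        Set.Subset.antisymm hsub (Set.union_subset h1 (Set.union_subset h2 h3))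
      rw [e, Set.ncard_union_eq (Set.disjoint_union_right.mpr ⟨disj12, disj13⟩) finite_S1set
        (finite_S2set.union finite_S3set), Set.ncard_union_eq disj23 finite_S2set finite_S3set,
        ncard_S1set, ncard_S2set, ncard_S3set]
    · right; left
      have e : orbit ↥K v0 = S1set ∪ S2set := by
        apply Set.Subset.antisymm
        · intro x hx
          rcases hsub hx with h | h | h
          · exact Or.inl h
          · exact Or.inr h
          · exact absurd ⟨x, hx, h⟩ b3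
        · exact Set.union_subset h1 h2
      rw [e, Set.ncard_union_eq disj12 finite_S1set finite_S2set, ncard_S1set, ncard_S2set]
  · by_cases b3 : ∃ y, y ∈ orbit ↥K v0 ∧ y ∈ S3set
    · obtain ⟨z, hz, hz3⟩ := b3
      have h3 := S3_sub_orbit H K hH hHK z hz hz3
      right; right; left
      have e : orbit ↥K v0 = S1set ∪ S3set := by
        apply Set.Subset.antisymm
        · intro x hx
          rcases hsub hx with h | h | h
          · exact Or.inl h
          · exact absurd ⟨x, hx, h⟩ b2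
          · exact Or.inr h
        · exact Set.union_subset h1 h3
      rw [e, Set.ncard_union_eq disj13 finite_S1set finite_S3set, ncard_S1set, ncard_S3set]
    · left
      apply Set.Subset.antisymm
      · intro x hx
        rcases hsub hx with h | h | h
        · exact h
        · exact absurd ⟨x, hx, h⟩ b2
        · exact absurd ⟨x, hx, h⟩ b3
      · exact h1

end main


section final

variable [Finite ↥Co0] (H K : Subgroup ↥Co0) (hH : (H : Set ↥Co0) = Nstd)

include hH in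
/-- the orbit of `u0` under the stabiliser of `v0` in an overgroup has 2 or at least 47 elements -/
theorem orbit_u0_K (hHK : H ≤ K) :
    (orbit ↥(K ⊓ stabilizer ↥Co0 v0) u0).ncard = 2 ∨
      47 ≤ (orbit ↥(K ⊓ stabilizer ↥Co0 v0) u0).ncard := by
  classical
  have hfin : (orbit ↥(K ⊓ stabilizer ↥Co0 v0) u0).Finite := Set.finite_range _
  have hpair : ({u0, -u0} : Set ↥leechLattice) ⊆ orbit ↥(K ⊓ stabilizer ↥Co0 v0) u0 := by
    rw [← orbit_u0 H hH]
    rintro _ ⟨⟨g, hg1, hg2⟩, rfl⟩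
    exact ⟨⟨g, hHK hg1, hg2⟩, rfl⟩
  by_cases hM : orbit ↥(K ⊓ stabilizer ↥Co0 v0) u0 ⊆ {u0, -u0}
  · left
    rw [Set.Subset.antisymm hM hpair]
    exact Set.ncard_pair u0_ne_neg
  · right
    rw [Set.not_subset] at hM
    obtain ⟨x, hxM, hxn⟩ := hM
    have hx1 : x ≠ u0 := fun h => hxn (by rw [h]; exact Set.mem_insert _ _)
    have hx2 : x ≠ -u0 := fun h => hxn (by rw [h]; exact Set.mem_insert_of_mem _ rfl)
    obtain ⟨⟨k, hkK, hkv⟩, hkx⟩ := hxM
    have hkv' : k • v0 = v0 := hkv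
    have hkx' : k • u0 = x := hkx
    have hx32 : sqNorm ((x : ↥leechLattice) : GolayPt → ℤ) = 32 := by
      rw [← hkx', co0_sqNorm', sqNorm_u0]
    have hxd : dotInt ((v0 : ↥leechLattice) : GolayPt → ℤ) (x : GolayPt → ℤ) = 0 := by
      have := co0_dot' k v0 u0
      rw [hkv', hkx', dot_v0_u0] at this
      exact this
    have hs : ∃ s : Finset ↥leechLattice, 45 ≤ s.card ∧
        ∀ y ∈ s, ∃ g ∈ H, g • v0 = v0 ∧ g • x = y := by
      rcases mem_shapes x hx32 with h | h | h
      · exact orbit_ge_S1 H hH x h hxd hx1 hx2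
      · exact orbit_ge_S2 H hH x h hxd
      · exact orbit_ge_S3 H hH x h
    obtain ⟨s, hs45, hsy⟩ := hs
    have hsM : ∀ y ∈ s, y ∈ orbit ↥(K ⊓ stabilizer ↥Co0 v0) u0 ∧ y ≠ u0 ∧ y ≠ -u0 := by
      intro y hy
      obtain ⟨g, hgH, hgv, hgx⟩ := hsy y hy
      refine ⟨⟨⟨g * k, K.mul_mem (hHK hgH) hkK, ?_⟩, ?_⟩, ?_, ?_⟩
      · show (g * k) • v0 = v0
        rw [mul_smul, hkv', hgv]
      · show (g * k) • u0 = y
        rw [mul_smul, hkx', hgx]
      · intro hyu
        have hmem : g⁻¹ • u0 ∈ orbit ↥(H ⊓ stabilizer ↥Co0 v0) u0 :=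
          ⟨⟨g⁻¹, H.inv_mem hgH, by
            show g⁻¹ • v0 = v0
            rw [inv_smul_eq_iff, hgv]⟩, rfl⟩
        rw [orbit_u0 H hH] at hmem
        have hxe : x = g⁻¹ • u0 := by rw [← hyu, ← hgx, inv_smul_smul]
        rw [← hxe] at hmem
        exact hxn hmem
      · intro hyu
        have hmem : g⁻¹ • u0 ∈ orbit ↥(H ⊓ stabilizer ↥Co0 v0) u0 :=
          ⟨⟨g⁻¹, H.inv_mem hgH, by
            show g⁻¹ • v0 = v0
            rw [inv_smul_eq_iff, hgv]⟩, rfl⟩
        rw [orbit_u0 H hH] at hmem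
        have hxe : x = -(g⁻¹ • u0) := by
          rw [← co0_smul_neg, ← hyu, ← hgx, inv_smul_smul]
        rcases hmem with h | h
        · exact hx2 (by rw [hxe, h])
        · rw [Set.mem_singleton_iff] at h
          exact hx1 (by rw [hxe, h, neg_neg])
    let T : Finset ↥leechLattice := insert u0 (insert (-u0) s)
    have hTsub : (↑T : Set ↥leechLattice) ⊆ orbit ↥(K ⊓ stabilizer ↥Co0 v0) u0 := by
      intro y hy
      simp only [T, Finset.coe_insert, Set.mem_insert_iff, Finset.mem_coe] at hy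
      rcases hy with rfl | rfl | hy
      · exact hpair (Set.mem_insert _ _)
      · exact hpair (Set.mem_insert_of_mem _ rfl)
      · exact (hsM y hy).1
    have hTcard : T.card = s.card + 2 := by
      have h1 : -u0 ∉ s := fun h => (hsM _ h).2.2 rfl
      have h2 : u0 ∉ insert (-u0) s := by
        rw [Finset.mem_insert]
        rintro (h | h)
        · exact u0_ne_neg h
        · exact (hsM _ h).2.1 rfl
      rw [Finset.card_insert_of_notMem h2, Finset.card_insert_of_notMem h1]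
    have := Set.ncard_le_ncard hTsub hfin
    rw [Set.ncard_coe_finset, hTcard] at this
    omega

include hH in
/-- the main step: an overgroup of the monomial group is everything -/
theorem eq_top_of_lt (hG : Nat.card ↥Co0 = 8315553613086720000)
    (hNc : Nat.card ↥H = 4096 * 244823040) (hlt : H < K) : K = ⊤ := by
  classical
  have hHK : H ≤ K := le_of_lt hlt
  -- the common two-point stabiliser
  have hT : K ⊓ stabilizer ↥Co0 v0 ⊓ stabilizer ↥Co0 u0 =
      H ⊓ stabilizer ↥Co0 v0 ⊓ stabilizer ↥Co0 u0 := by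
    apply le_antisymm
    · rintro g ⟨⟨hgK, hgv⟩, hgu⟩
      have hgN : g ∈ Nstd := mem_Nstd_of_fix g hgv hgu
      exact ⟨⟨(mem_H_iff H hH g).2 hgN, hgv⟩, hgu⟩
    · rintro g ⟨⟨hgH, hgv⟩, hgu⟩
      exact ⟨⟨hHK hgH, hgv⟩, hgu⟩
  have hK1 := card_eq_orbit_mul K v0
  have hK2 := card_eq_orbit_mul (K ⊓ stabilizer ↥Co0 v0) u0
  have hH1 := card_eq_orbit_mul H v0
  have hH2 := card_eq_orbit_mul (H ⊓ stabilizer ↥Co0 v0) u0
  rw [hT] at hK2
  rw [orbit_H_v0 H hH, ncard_S1set] at hH1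
  rw [ncard_orbit_u0 H hH] at hH2
  set t := Nat.card ↥(H ⊓ stabilizer ↥Co0 v0 ⊓ stabilizer ↥Co0 u0) with ht
  have htpos : 0 < t := Nat.card_pos
  set n := (orbit ↥K v0).ncard with hn
  set m := (orbit ↥(K ⊓ stabilizer ↥Co0 v0) u0).ncard with hm
  -- the index
  have hd1 : Nat.card ↥H * H.relIndex K = Nat.card ↥K := by
    have := Subgroup.relIndex_mul_relIndex ⊥ H K bot_le hHK
    rwa [Subgroup.relIndex_bot_left, Subgroup.relIndex_bot_left] at this
  have hidx : H.index = 8292375 := by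
    have := H.card_mul_index
    rw [hG, hNc] at this
    omega
  have hdvd : H.relIndex K ∣ 8292375 := by
    rw [← hidx]; exact Subgroup.relIndex_dvd_index_of_le hHK
  have h23 := relIndex_mod23 H K hH hHK
  set d := H.relIndex K with hd
  have hnm : n * m = 2208 * d := by
    have e1 : Nat.card ↥K = n * (m * t) := by rw [hK1, hK2]
    have e2 : Nat.card ↥H = 1104 * (2 * t) := by rw [hH1, hH2]
    rw [e1, e2] at hd1
    have : (n * m) * t = (2208 * d) * t := by nlinarith
    exact Nat.eq_of_mul_eq_mul_right htpos this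
  have hmcases := orbit_u0_K H K hH hHK
  rcases orbit_K_cases H K hH hHK with hO | hO | hO | hO
  · -- the orbit is `S1set`: then `K ≤ H`
    exfalso
    apply not_le_of_gt hlt
    intro g hgK
    rw [mem_H_iff H hH]
    apply mem_Nstd_of_S1
    intro x hx
    rw [← hO] at hx ⊢
    obtain ⟨k, rfl⟩ := hx
    exact ⟨(⟨g, hgK⟩ : ↥K)⁻¹ * k, mul_smul _ _ _⟩
  all_goals
    have hdval : d = 8292375 := arith d m n hnm hdvd h23 (by omega) hmcases
    rw [← Subgroup.card_eq_iff_eq_top, ← hd1, hdval, hNc, hG]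

end final


/-- S1572 modulo the two orders (`S0397`, `S1571`) -/
theorem main (hG : Nat.card ↥Co0 = 8315553613086720000)
    (hN : Nat.card {g : ↥Co0 // g ∈ Nstd} = 4096 * 244823040)
    (H : Subgroup ↥Co0) (hH : (H : Set ↥Co0) = Nstd) : IsCoatom H := by
  have : Finite ↥Co0 := Nat.finite_of_card_ne_zero (by rw [hG]; norm_num)
  have hNc : Nat.card ↥H = 4096 * 244823040 := by
    rw [← hN]
    exact Nat.card_congr (Equiv.setCongr hH)
  constructor
  · intro htop
    rw [htop, Subgroup.card_top, hG] at hNc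
    norm_num at hNc
  · intro K hlt
    exact eq_top_of_lt H K hH hG hNc hlt

end Cfsg.Agent.Lib.Helper8.S1572
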