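import Cfsg.Agent.Lib.Helper8.S1572Defs
import Cfsg.Agent.Lib.Helper4.CoOrbitCount
import Cfsg.Agent.Lib.Helper4.CoGrp

set_option autoImplicit false
set_option linter.unusedVariables false
set_option linter.unusedSectionVars false

/-! S1572: the pieces [D] (an automorphism preserving the shape `(±4, ±4, 0^22)` stabilises the
standard cross) and [G] (the joint stabiliser of `v0`, `u0` lies in the monomial group; the
orbit of `u0` under the monomial stabiliser of `v0` is `{u0, -u0}`). -/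

namespace Cfsg.Agent.Lib.Helper8.S1572

open Cfsg Cfsg.Agent.Lib.Helper4 Cfsg.Agent.Lib.Helper28 Cfsg.Agent.Helper4.CO
  Cfsg.Agent.Helper4.LC MulAction

theorem smul_coe (g : ↥Co0) (x : ↥leechLattice) :
    g • x = (g : Equiv.Perm ↥leechLattice) x := rfl

theorem mem_Nstd_iff (g : ↥Co0) : g ∈ Nstd ↔ ∀ v : ↥leechLattice, (v : GolayPt → ℤ) ∈ stdCross →
    (((g : Equiv.Perm ↥leechLattice) v : ↥leechLattice) : GolayPt → ℤ) ∈ stdCross := Iff.rfl

theorem E_apply (i k : GolayPt) : E i k = if k = i then 4 else 0 := by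
  simp only [E, Pi.single_apply]

theorem e8_pa : e8 pa = v0 + u0 := by
  apply Subtype.ext
  funext k
  rw [AddSubgroup.coe_add, v0_coe, u0_coe, e8_coe]
  simp only [Pi.add_apply, Pi.sub_apply, E_apply, Pi.single_apply]
  split_ifs <;> omega

theorem e8_pb : e8 pb = v0 - u0 := by
  apply Subtype.ext
  funext k
  rw [AddSubgroup.coe_sub, v0_coe, u0_coe, e8_coe]
  simp only [Pi.add_apply, Pi.sub_apply, E_apply, Pi.single_apply]
  split_ifs <;> omega

/-- [G2] -/
theorem mem_Nstd_of_fix (g : ↥Co0) (h1 : g • v0 = v0) (h2 : g • u0 = u0) : g ∈ Nstd := by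
  rw [mem_Nstd_iff]
  apply stdCross_of_fix g pa
  show g • e8 pa = e8 pa
  rw [e8_pa, co0_smul_add, h1, h2]


theorem two_smul_inj {x y : ↥leechLattice} (h : x + x = y + y) : x = y := by
  apply Subtype.ext
  funext k
  have := congrArg (fun v : ↥leechLattice => (v : GolayPt → ℤ) k) h
  simp only [AddSubgroup.coe_add, Pi.add_apply] at this
  omega

theorem u0_ne_neg : u0 ≠ -u0 := by
  intro h
  have := congrArg (fun v : ↥leechLattice => (v : GolayPt → ℤ) pa) h
  simp only [AddSubgroup.coe_neg, Pi.neg_apply, u0_coe, Pi.sub_apply, E_apply, if_true,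
    if_neg pa_ne_pb] at this
  omega

/-- a monomial automorphism fixing `v0` maps `u0` to `u0` or `-u0` -/
theorem smul_u0_of_fix (g : ↥Co0) (hg : g ∈ Nstd) (h1 : g • v0 = v0) :
    g • u0 = u0 ∨ g • u0 = -u0 := by
  have hA : ((g • e8 pa : ↥leechLattice) : GolayPt → ℤ) ∈ stdCross :=
    hg (e8 pa) ⟨pa, 8, Or.inl rfl, rfl⟩
  have hB : ((g • e8 pb : ↥leechLattice) : GolayPt → ℤ) ∈ stdCross :=
    hg (e8 pb) ⟨pb, 8, Or.inl rfl, rfl⟩
  obtain ⟨i, s, hs, hAi⟩ := hA
  obtain ⟨j, t, ht, hBj⟩ := hB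
  -- the sum
  have hsum : g • e8 pa + g • e8 pb = v0 + v0 := by
    rw [← co0_smul_add, e8_pa, e8_pb]
    have : v0 + u0 + (v0 - u0) = v0 + v0 := by abel
    rw [this, co0_smul_add, h1]
  have hdiff : g • u0 + g • u0 = g • e8 pa - g • e8 pb := by
    rw [← co0_smul_add, ← co0_smul_sub, e8_pa, e8_pb]
    congr 1
    abel
  have hsumc : ∀ k, (Pi.single i s : GolayPt → ℤ) k + (Pi.single j t : GolayPt → ℤ) k =
      ((v0 : ↥leechLattice) : GolayPt → ℤ) k + ((v0 : ↥leechLattice) : GolayPt → ℤ) k := by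
    intro k
    have := congrArg (fun v : ↥leechLattice => (v : GolayPt → ℤ) k) hsum
    simp only [AddSubgroup.coe_add, Pi.add_apply] at this
    rw [hAi, hBj] at this
    exact this
  have ha := hsumc pa
  have hb := hsumc pb
  rw [v0_coe] at ha hb
  simp only [Pi.add_apply, E_apply, Pi.single_apply, if_true, if_neg pa_ne_pb,
    if_neg pa_ne_pb.symm] at ha hb
  have hab := pa_ne_pb
  -- decide the two configurations
  have key : (i = pa ∧ s = 8 ∧ j = pb ∧ t = 8) ∨ (i = pb ∧ s = 8 ∧ j = pa ∧ t = 8) := by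
    by_cases hi : pa = i
    · have hib : pb ≠ i := fun h => hab (hi.trans h.symm)
      rw [if_pos hi] at ha
      rw [if_neg hib] at hb
      by_cases hj : pa = j
      · rw [if_pos hj] at ha
        have hjb : pb ≠ j := fun h => hab (hj.trans h.symm)
        rw [if_neg hjb] at hb
        omega
      · rw [if_neg hj] at ha
        by_cases hjb : pb = j
        · rw [if_pos hjb] at hb
          left
          exact ⟨hi.symm, by omega, hjb.symm, by omega⟩
        · rw [if_neg hjb] at hb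
          omega
    · rw [if_neg hi] at ha
      by_cases hj : pa = j
      · rw [if_pos hj] at ha
        have hjb : pb ≠ j := fun h => hab (hj.trans h.symm)
        rw [if_neg hjb] at hb
        by_cases hib : pb = i
        · rw [if_pos hib] at hb
          right
          exact ⟨hib.symm, by omega, hj.symm, by omega⟩
        · rw [if_neg hib] at hb
          omega
      · rw [if_neg hj] at ha
        omega
  rcases key with ⟨rfl, rfl, rfl, rfl⟩ | ⟨rfl, rfl, rfl, rfl⟩
  · left
    apply two_smul_inj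
    rw [hdiff]
    have e1 : g • e8 pa = e8 pa := Subtype.ext hAi
    have e2 : g • e8 pb = e8 pb := Subtype.ext hBj
    rw [e1, e2, e8_pa, e8_pb]
    abel
  · right
    apply two_smul_inj
    rw [hdiff]
    have e1 : g • e8 pa = e8 pb := Subtype.ext hAi
    have e2 : g • e8 pb = e8 pa := Subtype.ext hBj
    rw [e1, e2, e8_pa, e8_pb]
    abel


/-- a monomial automorphism fixing `v0` and negating `u0` -/
theorem exists_swap : ∃ g : ↥Co0, g ∈ Nstd ∧ g • v0 = v0 ∧ g • u0 = -u0 := by
  obtain ⟨σ, hσ, hσa, hσb⟩ := M24_two_trans (a := pa) (b := pb) (c := pb) (d := pa)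
    pa_ne_pb pa_ne_pb.symm
  obtain ⟨g, hg1, hg2⟩ := exists_monomial σ hσ 0 (Submodule.zero_mem _)
  have hsup : support₂ (0 : GolayPt → ZMod 2) = ∅ := by
    ext k
    rw [Cfsg.Agent.S0398.mem_support₂_iff]
    simp
  rw [hsup] at hg2
  have hsym : ∀ k, (σ.symm k = pa ↔ k = pb) ∧ (σ.symm k = pb ↔ k = pa) := by
    intro k
    constructor
    · rw [Equiv.symm_apply_eq, hσa]
    · rw [Equiv.symm_apply_eq, hσb]
  refine ⟨g, hg1, ?_, ?_⟩
  · apply Subtype.ext
    funext k
    rw [smul_coe, hg2 v0, v0_coe]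
    simp only [signedPerm, Finset.notMem_empty, if_false, Pi.add_apply, E_apply, (hsym k).1,
      (hsym k).2]
    ring
  · apply Subtype.ext
    funext k
    rw [smul_coe, hg2 u0, AddSubgroup.coe_neg, u0_coe]
    simp only [signedPerm, Finset.notMem_empty, if_false, Pi.sub_apply, Pi.neg_apply, E_apply,
      (hsym k).1, (hsym k).2]
    ring

/-- [G1] -/
theorem orbit_u0 (H : Subgroup ↥Co0) (hH : (H : Set ↥Co0) = Nstd) :
    orbit ↥(H ⊓ stabilizer ↥Co0 v0) u0 = {u0, -u0} := by
  ext x
  constructor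
  · rintro ⟨⟨g, hgH, hgv⟩, rfl⟩
    have hgN : g ∈ Nstd := by rw [← hH]; exact hgH
    have hgv' : g • v0 = v0 := hgv
    show g • u0 ∈ ({u0, -u0} : Set ↥leechLattice)
    rcases smul_u0_of_fix g hgN hgv' with h | h
    · rw [h]; exact Set.mem_insert _ _
    · rw [h]; exact Set.mem_insert_of_mem _ rfl
  · intro hx
    rcases hx with rfl | hx
    · exact mem_orbit_self _
    · rw [Set.mem_singleton_iff] at hx
      subst hx
      obtain ⟨g, hg1, hg2, hg3⟩ := exists_swap
      have hgH : g ∈ H := by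
        have : g ∈ (H : Set ↥Co0) := by rw [hH]; exact hg1
        exact this
      exact ⟨⟨g, hgH, hg2⟩, hg3⟩

theorem ncard_orbit_u0 (H : Subgroup ↥Co0) (hH : (H : Set ↥Co0) = Nstd) :
    (orbit ↥(H ⊓ stabilizer ↥Co0 v0) u0).ncard = 2 := by
  rw [orbit_u0 H hH]
  exact Set.ncard_pair u0_ne_neg

end Cfsg.Agent.Lib.Helper8.S1572
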