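import Mathlib
import Cfsg.Agent.Lib.Helper11.S3282Defs
import Cfsg.Agent.Lib.Helper9.BSW2
import Cfsg.Agent.Lib.Helper8.S3282G1b

/-!
# S3282 G2b (helper8, farm-out of helper11): strongly real elements outside `K^G`.
-/

set_option autoImplicit false

namespace Cfsg.Agent.Lib.Helper8.S3282G2b

open Cfsg Cfsg.Agent.Lib.Helper11 Cfsg.Agent.Lib.Helper11.S3282
open Cfsg.Agent.Lib.Helper8.S3282G1b

universe u

variable {G : Type u} [Group G] {t s : G} {K : Subgroup G}

theorem sq_of_order_two {u : G} (hu : orderOf u = 2) : u * u = 1 := by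
  have h1 := pow_orderOf_eq_one u
  rw [hu, pow_two] at h1
  exact h1

theorem inv_of_order_two {u : G} (hu : orderOf u = 2) : u⁻¹ = u :=
  inv_eq_of_mul_eq_one_right (sq_of_order_two hu)

theorem ne_one_of_order_two {u : G} (hu : orderOf u = 2) : u ≠ 1 := by
  intro h1
  rw [h1, orderOf_one] at hu
  omega

theorem order_two_of_sq {u : G} (h1 : u * u = 1) (h2 : u ≠ 1) : orderOf u = 2 := by
  have : Fact (Nat.Prime 2) := ⟨Nat.prime_two⟩
  apply orderOf_eq_prime
  · rw [pow_two]; exact h1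
  · exact h2

/-- a product of two involutions is inverted by the first. -/
theorem inverts_of_pair {u v x : G} (hu : orderOf u = 2) (hv : orderOf v = 2) (huv : u * v = x) :
    u * x * u⁻¹ = x⁻¹ := by
  subst huv
  rw [inv_of_order_two hu, mul_inv_rev, inv_of_order_two hu, inv_of_order_two hv]
  have := sq_of_order_two hu
  calc u * (u * v) * u = (u * u) * v * u := by group
    _ = v * u := by rw [this, one_mul]

section Fin
variable [Finite G]

omit [Finite G] in
theorem exists_pair_of_beta_pos {x : G} (hβ : 0 < S3282.beta x) :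
    ∃ u v : G, orderOf u = 2 ∧ orderOf v = 2 ∧ u * v = x := by
  unfold S3282.beta at hβ
  have hne : Nonempty {p : G × G // orderOf p.1 = 2 ∧ orderOf p.2 = 2 ∧ p.1 * p.2 = x} := by
    by_contra hcon
    rw [not_nonempty_iff] at hcon
    rw [Nat.card_of_isEmpty] at hβ
    exact lt_irrefl 0 hβ
  obtain ⟨⟨p, hp⟩⟩ := hne
  exact ⟨p.1, p.2, hp.1, hp.2.1, hp.2.2⟩

omit [Finite G] in
/-- `x = u v` gives `u x u⁻¹ = x⁻¹`. -/
theorem G2_beta_pos (_h : Hyp t s K) {x : G} (hx1 : x ≠ 1) (hxK : x ∉ conjSet K)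
    (hβ : 0 < S3282.beta x) : x ∈ RO K := by
  obtain ⟨u, v, hu, hv, huv⟩ := exists_pair_of_beta_pos hβ
  exact ⟨hx1, hxK, u, hu, inverts_of_pair hu hv huv⟩

omit [Finite G] in
theorem G2_beta_NR (_h : Hyp t s K) {x : G} (hx : x ∈ NR K) : S3282.beta x = 0 := by
  by_contra hne
  have hβ : 0 < S3282.beta x := Nat.pos_of_ne_zero hne
  obtain ⟨u, v, hu, hv, huv⟩ := exists_pair_of_beta_pos hβ
  exact hx.2.2 ⟨u, hu, inverts_of_pair hu hv huv⟩

/-- `C(x)` has odd order for `x ∈ RO K`. -/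
theorem G2_odd (h : Hyp t s K) {x : G} (hx : x ∈ RO K) :
    Odd (Nat.card (Subgroup.centralizer ({x} : Set G))) := by
  rw [← Nat.not_even_iff_odd]
  intro heven
  have h2 : 2 ∣ Nat.card (Subgroup.centralizer ({x} : Set G)) := even_iff_two_dvd.1 heven
  have : Fact (Nat.Prime 2) := ⟨Nat.prime_two⟩
  obtain ⟨z, hz⟩ := exists_prime_orderOf_dvd_card' (G := Subgroup.centralizer ({x} : Set G)) 2 h2
  have hz' : orderOf (z : G) = 2 := by rw [Subgroup.orderOf_coe]; exact hz
  have hzK : (z : G) ∈ conjSet K := G1_invol_mem h hz'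
  have hcomm : x * (z : G) = (z : G) * x := (mem_centralizer_singleton' x _).1 z.2
  exact hx.2.1 (G1_commute h hzK hcomm hx.1)

/-- an involution inverting `x ∈ RO K` inverts `C(x)`. -/
theorem G2_inverts (h : Hyp t s K) {x u : G} (hx : x ∈ RO K) (hu : orderOf u = 2)
    (hux : u * x * u⁻¹ = x⁻¹) :
    ∀ y ∈ Subgroup.centralizer ({x} : Set G), u * y * u⁻¹ = y⁻¹ := by
  have huu := sq_of_order_two hu
  have huK : u ∈ conjSet K := G1_invol_mem h hu
  apply Cfsg.Agent.Lib.Helper9.inverts_of_fixedPointFree huu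
  · intro d hd
    rw [mem_centralizer_singleton'] at hd ⊢
    -- `x (u d u⁻¹) = (u d u⁻¹) x`
    have hxi : u⁻¹ * x * u = x⁻¹ := by
      have : u⁻¹ * x * u = u * x * u⁻¹ := by rw [inv_of_order_two hu]
      rw [this, hux]
    have hd' : x⁻¹ * d = d * x⁻¹ := by
      have : x⁻¹ * d = x⁻¹ * (d * x) * x⁻¹ := by group
      rw [this, ← hd]
      group
    have h2 : x * (u * d * u⁻¹) = u * ((u⁻¹ * x * u) * d) * u⁻¹ := by group
    have h3 : u * d * u⁻¹ * x = u * (d * (u⁻¹ * x * u)) * u⁻¹ := by group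
    rw [h2, h3, hxi, hd']
  · intro d hd hfix
    by_contra hd1
    have hdu : d * u = u * d := by
      have : u * d = (u * d * u⁻¹) * u := by group
      rw [this, hfix]
    have hdK : d ∈ conjSet K := G1_commute h huK hdu hd1
    have hxd : x * d = d * x := (mem_centralizer_singleton' x _).1 hd
    exact hx.2.1 (G1_commute h hdK hxd hx.1)

theorem G2_comm (h : Hyp t s K) {x : G} (hx : x ∈ RO K) :
    ∀ y ∈ Subgroup.centralizer ({x} : Set G), ∀ z ∈ Subgroup.centralizer ({x} : Set G),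
      y * z = z * y := by
  obtain ⟨u, hu, hux⟩ := hx.2.2
  have hinv := G2_inverts h hx hu hux
  intro y hy z hz
  have h1 := hinv y hy
  have h2 := hinv z hz
  have h3 := hinv (y * z) (Subgroup.mul_mem _ hy hz)
  have h4 : u * (y * z) * u⁻¹ = (u * y * u⁻¹) * (u * z * u⁻¹) := by group
  rw [h4, h1, h2, mul_inv_rev] at h3
  -- y⁻¹ z⁻¹ = z⁻¹ y⁻¹
  have h5 : (y⁻¹ * z⁻¹)⁻¹ = (z⁻¹ * y⁻¹)⁻¹ := by rw [h3]
  rw [mul_inv_rev, mul_inv_rev, inv_inv, inv_inv] at h5
  exact h5.symm

/-- for `y ∈ C(x)#`: `y ∈ RO K` and `C(y) = C(x)`. -/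
theorem G2_cent (h : Hyp t s K) {x y : G} (hx : x ∈ RO K)
    (hy : y ∈ Subgroup.centralizer ({x} : Set G)) (hy1 : y ≠ 1) :
    y ∈ RO K ∧ Subgroup.centralizer ({y} : Set G) = Subgroup.centralizer ({x} : Set G) := by
  obtain ⟨u, hu, hux⟩ := hx.2.2
  have hxy : x * y = y * x := (mem_centralizer_singleton' x _).1 hy
  have hyRO : y ∈ RO K := by
    refine ⟨hy1, ?_, u, hu, G2_inverts h hx hu hux y hy⟩
    intro hyK
    exact hx.2.1 (G1_commute h hyK hxy hx.1)
  refine ⟨hyRO, ?_⟩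
  have hxCy : x ∈ Subgroup.centralizer ({y} : Set G) := by
    rw [mem_centralizer_singleton']
    exact hxy.symm
  apply le_antisymm
  · intro z hz
    rw [mem_centralizer_singleton']
    exact G2_comm h hyRO x hxCy z hz
  · intro z hz
    rw [mem_centralizer_singleton']
    exact G2_comm h hx y hy z hz

/-- the involutions inverting `x ∈ RO K` are exactly the coset `C(x) u`. -/
theorem G2_beta_RO (h : Hyp t s K) {x : G} (hx : x ∈ RO K) :
    S3282.beta x = Nat.card (Subgroup.centralizer ({x} : Set G)) := by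
  obtain ⟨u, hu, hux⟩ := hx.2.2
  have huu := sq_of_order_two hu
  have hui := inv_of_order_two hu
  have hinv := G2_inverts h hx hu hux
  have hodd := G2_odd h hx
  have hxinv : x⁻¹ ∈ Subgroup.centralizer ({x} : Set G) := by
    rw [mem_centralizer_singleton']
    group
  have hxmem : x ∈ Subgroup.centralizer ({x} : Set G) := by
    rw [mem_centralizer_singleton']
  -- `u ∉ C(x)`
  have huC : ∀ c ∈ Subgroup.centralizer ({x} : Set G), c * u ≠ 1 := by
    intro c hc hcu
    have hcu' : c = u := by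
      have : c = c * u * u := by rw [mul_assoc, huu, mul_one]
      rw [this, hcu, one_mul]
    rw [hcu'] at hc
    -- an involution in a group of odd order
    have h2 : orderOf (⟨u, hc⟩ : Subgroup.centralizer ({x} : Set G)) = 2 := by
      rw [← hu]
      exact Subgroup.orderOf_mk u hc
    have h3 := orderOf_dvd_natCard (⟨u, hc⟩ : Subgroup.centralizer ({x} : Set G))
    rw [h2] at h3
    exact (Nat.not_even_iff_odd.2 hodd) (even_iff_two_dvd.2 h3)
  unfold S3282.beta
  symm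
  apply Nat.card_congr
  refine
    { toFun := fun c => ⟨(c.1 * u, (c.1 * u)⁻¹ * x), ?_, ?_, ?_⟩
      invFun := fun p => ⟨p.1.1 * u, ?_⟩
      left_inv := ?_
      right_inv := ?_ }
  · -- `c u` is an involution
    show orderOf (c.1 * u) = 2
    apply order_two_of_sq _ (huC c.1 c.2)
    have h1 := hinv c.1 c.2
    calc c.1 * u * (c.1 * u) = c.1 * (u * c.1 * u⁻¹) * (u * u) := by group
      _ = 1 := by rw [h1, huu]; group
  · -- `(c u)⁻¹ x` is an involution
    show orderOf ((c.1 * u)⁻¹ * x) = 2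
    have h1 := hinv c.1 c.2
    have hcx : x * c.1 = c.1 * x := (mem_centralizer_singleton' x _).1 c.2
    have hcx' : x * c.1⁻¹ = c.1⁻¹ * x := by
      have : x * c.1⁻¹ = c.1⁻¹ * (c.1 * x) * c.1⁻¹ := by group
      rw [this, ← hcx]
      group
    have hv : (c.1 * u)⁻¹ * x = u * (c.1⁻¹ * x) := by rw [mul_inv_rev, hui]; group
    have hmem : c.1⁻¹ * x ∈ Subgroup.centralizer ({x} : Set G) :=
      Subgroup.mul_mem _ (Subgroup.inv_mem _ c.2) hxmem
    have h2 := hinv _ hmem
    apply order_two_of_sq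
    · rw [hv]
      calc u * (c.1⁻¹ * x) * (u * (c.1⁻¹ * x))
          = (u * (c.1⁻¹ * x) * u⁻¹) * (u * u) * (c.1⁻¹ * x) := by group
        _ = 1 := by rw [h2, huu]; group
    · rw [hv]
      intro hone
      -- `u = (c⁻¹ x)⁻¹ ∈ C(x)`
      have h3 : (c.1⁻¹ * x)⁻¹ * u = 1 := by
        have h4 : u * (c.1⁻¹ * x) * u⁻¹ = (c.1⁻¹ * x)⁻¹ := h2
        have h5 : (c.1⁻¹ * x)⁻¹ * u = u * (c.1⁻¹ * x) * u⁻¹ * u := by rw [h4]
        rw [h5]
        have : u * (c.1⁻¹ * x) * u⁻¹ * u = u * (c.1⁻¹ * x) := by group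
        rw [this, hone]
      exact huC _ (Subgroup.inv_mem _ hmem) h3
  · show c.1 * u * ((c.1 * u)⁻¹ * x) = x
    group
  · -- `p.1 u ∈ C(x)`
    have hp1 := p.2.1
    have hp2 := p.2.2.1
    have hp3 := p.2.2.2
    have hpx : p.1.1 * x * p.1.1⁻¹ = x⁻¹ := inverts_of_pair hp1 hp2 hp3
    rw [mem_centralizer_singleton']
    have hux' : u * x = x⁻¹ * u := by
      have : u * x = (u * x * u⁻¹) * u := by group
      rw [this, hux]
    have hpx' : p.1.1 * x⁻¹ = x * p.1.1 := by
      have h6 : p.1.1 * x⁻¹ * p.1.1⁻¹ = x := by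
        have : p.1.1 * x⁻¹ * p.1.1⁻¹ = (p.1.1 * x * p.1.1⁻¹)⁻¹ := by group
        rw [this, hpx, inv_inv]
      have : p.1.1 * x⁻¹ = (p.1.1 * x⁻¹ * p.1.1⁻¹) * p.1.1 := by group
      rw [this, h6]
    calc x * (p.1.1 * u) = (x * p.1.1) * u := by group
      _ = p.1.1 * x⁻¹ * u := by rw [hpx']
      _ = p.1.1 * (x⁻¹ * u) := by group
      _ = p.1.1 * (u * x) := by rw [hux']
      _ = p.1.1 * u * x := by group
  · intro c
    apply Subtype.ext
    show c.1 * u * u = c.1
    rw [mul_assoc, huu, mul_one]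
  · intro p
    apply Subtype.ext
    have hp3 := p.2.2.2
    apply Prod.ext
    · show p.1.1 * u * u = p.1.1
      rw [mul_assoc, huu, mul_one]
    · show (p.1.1 * u * u)⁻¹ * x = p.1.2
      have e1 : p.1.1 * u * u = p.1.1 := by rw [mul_assoc, huu, mul_one]
      rw [e1]
      calc p.1.1⁻¹ * x = p.1.1⁻¹ * (p.1.1 * p.1.2) := by rw [hp3]
        _ = p.1.2 := by group

end Fin

end Cfsg.Agent.Lib.Helper8.S3282G2b
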