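import Mathlib
import Cfsg.Prelude.Def_GeometricClasses
import Cfsg.Agent.Lib.Helper7.AschDefs
import Cfsg.Agent.Lib.Helper8.S5630CoreF45

/-! # S5630 piece CORE-F3 (helper8): reduction of the quadratic case to the bilinear case CORE-F1 (odd characteristic) -/

set_option autoImplicit false

namespace Cfsg.Agent.Lib.Helper8.S5630CoreF3

open Matrix Cfsg.Geo Cfsg.Agent.Lib.Helper7.Asch

variable {F : Type*} [Field F] {n : ℕ}

theorem two_ne_zero_of_odd [Fintype F] (ho : Odd (Fintype.card F)) : (2 : F) ≠ 0 := by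
  intro h2
  have h3 : ringChar F = 2 := by
    have hdvd : ringChar F ∣ 2 := by
      rw [← ringChar.spec F 2]
      exact_mod_cast h2
    have hp : (ringChar F).Prime := CharP.char_is_prime F (ringChar F)
    exact (Nat.prime_dvd_prime_iff_eq hp Nat.prime_two).1 hdvd
  have h4 := FiniteField.even_card_iff_char_two.1 h3
  rcases ho with ⟨k, hk⟩
  omega

/-- in odd characteristic a similarity of the polar form is a similarity of the quadratic form -/
theorem mem_quadSimilarityGroup_of_mem_similarityGroup [Fintype F] (Q : (Fin n → F) → F)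
    (hQ : IsNondegenerateQuadraticForm Q) (ho : Odd (Fintype.card F)) (h : GL (Fin n) F)
    (hsim : h ∈ similarityGroup (QuadraticMap.polar Q)) : h ∈ quadSimilarityGroup Q := by
  have h2 : (2 : F) ≠ 0 := two_ne_zero_of_odd ho
  obtain ⟨c, hc⟩ := hsim
  refine ⟨c, ?_⟩
  intro v
  have hself : ∀ w : Fin n → F, QuadraticMap.polar Q w w = 2 * Q w := by
    intro w
    unfold QuadraticMap.polar
    have h3 : w + w = (2 : F) • w := (two_smul F w).symm
    rw [h3, hQ.smul]
    ring
  have h4 := hc v v
  rw [hself, hself] at h4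
  have h5 : (2 : F) * (Q ((h : Matrix (Fin n) (Fin n) F) *ᵥ v) - (c : F) * Q v) = 0 := by
    linear_combination h4
  rcases mul_eq_zero.1 h5 with h6 | h6
  · exact absurd h6 h2
  · exact sub_eq_zero.1 h6

/-- **CORE-F3** from **CORE-F1** (given as the hypothesis `F1`, exactly the statement of CORE-F1 for this `R`, `h`) -/
theorem mem_quadSimilarityGroup_of_normalizes_of_F1 [Fintype F] (R : Subgroup (GL (Fin n) F))
    (Q : (Fin n → F) → F) (hQ : IsNondegenerateQuadraticForm Q) (ho : Odd (Fintype.card F))
    (hfix : FixesQuadForm (matrixSet R) Q) (h : GL (Fin n) F)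
    (F1 : ∀ f : (Fin n → F) → (Fin n → F) → F, IsBilinearForm f → IsNondegenerateForm f →
      FixesForm (matrixSet R) f → h ∈ similarityGroup f) :
    h ∈ quadSimilarityGroup Q :=
  mem_quadSimilarityGroup_of_mem_similarityGroup Q hQ ho h
    (F1 _ hQ.polar_bilinear hQ.nondegenerate
      (Cfsg.Agent.Lib.Helper8.S5630CoreF45.fixesForm_polar (matrixSet R) Q hfix))

end Cfsg.Agent.Lib.Helper8.S5630CoreF3
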