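import Mathlib
import Cfsg.Agent.Lib.Helper13.TensSODefs
import Cfsg.Agent.Lib.Helper20.S5666ExitDefs
import Cfsg.Agent.Lib.Helper13.S5666FOAPI

/-! # S5666 EXIT (a ≥ 4), piece E-ALG (helper8): matrix algebra on `W`
(a) `K` skew, `L := K - r_w K r_w` with `L²` scalar, `b ≥ 3` ⇒ `K w = 0`;  (b) the non-singular vectors span `W`. -/

set_option autoImplicit false
set_option linter.unusedSectionVars false
set_option linter.unusedVariables false

namespace Cfsg.Agent.Lib.Helper8.S5666EALG

open Matrix Module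
open Cfsg.Agent.Lib.Helper16.Tens Cfsg.Agent.Lib.Helper10.TensFund Cfsg.Agent.Lib.Helper13.TensSO
open Cfsg.Agent.Lib.Helper3.SpT (bf SympG E E_mulVec E_mul_E bf_add_left bf_add_right
  bf_smul_left bf_smul_right bf_zero_left bf_zero_right bf_sub_left bf_sub_right bf_neg_left bf_neg_right mat_ext_mulVec)
open Cfsg.Agent.Lib.Helper20.S5666Exit
open scoped Kronecker

variable {F : Type*} [Field F] [Fintype F] {a b : ℕ}
variable {J1 : Matrix (Fin a) (Fin a) F} {J2 : Matrix (Fin b) (Fin b) F}

/-- E-ALG (a): `K` skew, `L := K - r_w K r_w` with `L² ` scalar, `b ≥ 3` ⇒ `K w = 0` -/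
theorem skew_refl_sq (hJ2 : OrthG J2) (h2 : (2 : F) ≠ 0) (hb : 3 ≤ b) (Kk : Matrix (Fin b) (Fin b) F)
    (hK : ∀ w w', bf J2 (Kk *ᵥ w) w' = - bf J2 w (Kk *ᵥ w')) (w : Fin b → F) (hw : bf J2 w w ≠ 0) (κ : F)
    (hL : (Kk - reflM J2 w * Kk * reflM J2 w) * (Kk - reflM J2 w * Kk * reflM J2 w) =
      κ • (1 : Matrix (Fin b) (Fin b) F)) :
    Kk *ᵥ w = 0 := by
  set v : Fin b → F := Kk *ᵥ w with hv
  set Q : F := bf J2 w w with hQ
  -- `v ⟂ w`
  have hvw : bf J2 v w = 0 := by
    have h1 := hK w w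
    rw [hJ2.symm w (Kk *ᵥ w)] at h1
    have h3 : (2 : F) * bf J2 v w = 0 := by rw [hv]; linear_combination h1
    rcases mul_eq_zero.1 h3 with h4 | h4
    · exact absurd h4 h2
    · exact h4
  have hwv : bf J2 w v = 0 := by rw [hJ2.symm]; exact hvw
  -- the action of `L`
  have hLt : ∀ t : Fin b → F, (Kk - reflM J2 w * Kk * reflM J2 w) *ᵥ t =
      (2 / Q) • (bf J2 t w • v - bf J2 t v • w) := by
    intro t
    rw [Matrix.sub_mulVec, ← Matrix.mulVec_mulVec, ← Matrix.mulVec_mulVec, reflM_mulVec J2 w t,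
      Matrix.mulVec_sub, Matrix.mulVec_smul, ← hv, reflM_mulVec, bf_sub_left, bf_smul_left, hvw, mul_zero, sub_zero]
    have h1 : bf J2 (Kk *ᵥ t) w = - bf J2 t v := by rw [hK t w]
    rw [h1]
    funext i
    simp only [Pi.sub_apply, Pi.smul_apply, smul_eq_mul]
    ring
  have hL2 : ∀ t : Fin b → F, (Kk - reflM J2 w * Kk * reflM J2 w) *ᵥ ((Kk - reflM J2 w * Kk * reflM J2 w) *ᵥ t) =
      κ • t := by
    intro t
    rw [Matrix.mulVec_mulVec, hL, Matrix.smul_mulVec, Matrix.one_mulVec]
  have hw0 : w ≠ 0 := by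
    intro h
    apply hw
    rw [hQ, h, bf_zero_left]
  have hQ0 : Q ≠ 0 := hw
  -- `κ = 0`
  have hκ : κ = 0 := by
    obtain ⟨t, ht0, htv, htw⟩ := Cfsg.Agent.Lib.Helper13.S5666API.exists_ker_two (F := F) (E := Fin b → F)
      (by rw [Module.finrank_fin_fun]; exact hb) (Cfsg.Agent.Lib.Helper13.S5666T4.bfR J2 v)
      (Cfsg.Agent.Lib.Helper13.S5666T4.bfR J2 w)
    have htv' : bf J2 t v = 0 := htv
    have htw' : bf J2 t w = 0 := htw
    have h1 := hL2 t
    rw [hLt t, htv', htw', zero_smul, zero_smul, sub_zero, smul_zero, Matrix.mulVec_zero] at h1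
    by_contra hκ0
    apply ht0
    have h3 := congrArg (fun z => κ⁻¹ • z) h1
    simp only [smul_zero, smul_smul, inv_mul_cancel₀ hκ0, one_smul] at h3
    exact h3.symm
  -- `f₂(v,v) = 0`
  have hLw : (Kk - reflM J2 w * Kk * reflM J2 w) *ᵥ w = (2 : F) • v := by
    rw [hLt w, hwv, zero_smul, sub_zero, smul_smul]
    congr 1
    rw [← hQ]
    field_simp
  have hLv : (Kk - reflM J2 w * Kk * reflM J2 w) *ᵥ v = (-(2 / Q) * bf J2 v v) • w := by
    rw [hLt v, hvw, zero_smul, zero_sub, smul_neg, smul_smul, ← neg_smul, neg_mul]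
  have hvv : bf J2 v v = 0 := by
    have h1 := hL2 w
    rw [hLw, Matrix.mulVec_smul, hLv, hκ, zero_smul, smul_smul] at h1
    have h3 : (2 : F) * (-(2 / Q) * bf J2 v v) = 0 := by
      by_contra h4
      apply hw0
      have h5 := congrArg (fun z => ((2 : F) * (-(2 / Q) * bf J2 v v))⁻¹ • z) h1
      simp only [smul_zero, smul_smul, inv_mul_cancel₀ h4, one_smul] at h5
      exact h5
    rcases mul_eq_zero.1 h3 with h4 | h4
    · exact absurd h4 h2
    · rcases mul_eq_zero.1 h4 with h5 | h5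
      · exfalso
        have h6 : (2 : F) / Q = 0 := by linear_combination -h5
        rcases div_eq_zero_iff.1 h6 with h7 | h7
        · exact h2 h7
        · exact hQ0 h7
      · exact h5
  -- `v = 0`
  by_contra hv0
  obtain ⟨t, ht⟩ : ∃ t, bf J2 t v ≠ 0 := by
    by_contra hcon
    push Not at hcon
    apply hv0
    apply hJ2.nondeg
    intro y
    rw [hJ2.symm]
    exact hcon y
  have h1 := hL2 t
  rw [hLt t, Matrix.mulVec_smul, Matrix.mulVec_sub, Matrix.mulVec_smul, Matrix.mulVec_smul, hLv, hLw, hvv, mul_zero,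
    zero_smul, smul_zero, zero_sub, hκ, zero_smul, smul_neg, smul_smul, smul_smul, neg_eq_zero] at h1
  have h3 : 2 / Q * bf J2 t v * 2 = 0 := by
    by_contra h4
    apply hv0
    have h5 := congrArg (fun z => (2 / Q * bf J2 t v * 2)⁻¹ • z) h1
    simp only [smul_zero, smul_smul, inv_mul_cancel₀ h4, one_smul] at h5
    exact h5
  rcases mul_eq_zero.1 h3 with h4 | h4
  · rcases mul_eq_zero.1 h4 with h5 | h5
    · rcases div_eq_zero_iff.1 h5 with h7 | h7
      · exact h2 h7
      · exact hQ0 h7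
    · exact ht h5
  · exact h2 h4

/-- E-ALG (b): the non-singular vectors span `W` -/
theorem eq_zero_of_nonsing (hJ2 : OrthG J2) (h2 : (2 : F) ≠ 0) (Kk : Matrix (Fin b) (Fin b) F)
    (h : ∀ w, bf J2 w w ≠ 0 → Kk *ᵥ w = 0) : Kk = 0 := by
  apply mat_ext_mulVec
  intro w
  rw [Matrix.zero_mulVec]
  by_cases hw : bf J2 w w ≠ 0
  · exact h w hw
  · push Not at hw
    by_cases hw0 : w = 0
    · rw [hw0, Matrix.mulVec_zero]
    · obtain ⟨x, hx⟩ : ∃ x, bf J2 w x ≠ 0 := by
        by_contra hcon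
        push Not at hcon
        exact hw0 (hJ2.nondeg w hcon)
      have hxw : bf J2 x w = bf J2 w x := hJ2.symm x w
      -- `Q(w + t x) = t (2 f(w,x) + t Q(x))`
      have hQt : ∀ t : F, bf J2 (w + t • x) (w + t • x) = t * (2 * bf J2 w x + t * bf J2 x x) := by
        intro t
        rw [bf_add_left, bf_add_right, bf_add_right, bf_smul_left, bf_smul_left, bf_smul_right, bf_smul_right, hw, hxw]
        ring
      by_cases hxx : bf J2 x x = 0
      · have h1 : Kk *ᵥ (w + (1 : F) • x) = 0 := by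
          apply h
          rw [hQt, hxx]
          simp only [mul_zero, add_zero, one_mul]
          exact mul_ne_zero h2 hx
        have h3 : Kk *ᵥ (w + (-1 : F) • x) = 0 := by
          apply h
          rw [hQt, hxx]
          simp only [mul_zero, add_zero]
          exact mul_ne_zero (by norm_num) (mul_ne_zero h2 hx)
        rw [Matrix.mulVec_add, Matrix.mulVec_smul] at h1 h3
        have h4 : (2 : F) • (Kk *ᵥ w) = 0 := by
          have := congrArg₂ (· + ·) h1 h3
          simp only [add_zero] at this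
          rw [← this, two_smul]
          simp only [one_smul, neg_smul]
          abel
        rcases smul_eq_zero.1 h4 with h5 | h5
        · exact absurd h5 h2
        · exact h5
      · have hKx : Kk *ᵥ x = 0 := h x hxx
        obtain ⟨t, ht0, ht⟩ : ∃ t : F, t ≠ 0 ∧ 2 * bf J2 w x + t * bf J2 x x ≠ 0 := by
          by_cases h1 : 2 * bf J2 w x + 1 * bf J2 x x ≠ 0
          · exact ⟨1, one_ne_zero, h1⟩
          · push Not at h1
            refine ⟨-1, by norm_num, ?_⟩
            intro h3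
            have h4 : (2 : F) * (2 * bf J2 w x) = 0 := by linear_combination h1 + h3
            rcases mul_eq_zero.1 h4 with h5 | h5
            · exact h2 h5
            · rcases mul_eq_zero.1 h5 with h6 | h6
              · exact h2 h6
              · exact hx h6
        have h1 : Kk *ᵥ (w + t • x) = 0 := by
          apply h
          rw [hQt]
          exact mul_ne_zero ht0 ht
        rw [Matrix.mulVec_add, Matrix.mulVec_smul, hKx, smul_zero, add_zero] at h1
        exact h1

end Cfsg.Agent.Lib.Helper8.S5666EALG
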