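import Mathlib
import Cfsg.Agent.Lib.Helper13.TensSODefs
import Cfsg.Agent.Lib.Helper20.S5666ExitDefs
import Cfsg.Agent.Lib.Helper13.S5666FOAPI

/-! # S5666 EXIT (a ≥ 4), pieces E-S and E-P (helper8): the elements `siegU`; spanning of `u₀^⊥ ⊗ W`; `(u₀^⊥)^⊥ = ⟨u₀⟩` -/

set_option autoImplicit false
set_option linter.unusedSectionVars false
set_option linter.unusedVariables false

namespace Cfsg.Agent.Lib.Helper8.S5666ES

open Matrix Module
open Cfsg.Agent.Lib.Helper16.Tens Cfsg.Agent.Lib.Helper10.TensFund Cfsg.Agent.Lib.Helper13.TensSO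
open Cfsg.Agent.Lib.Helper28.TensU (ctrL ctrL_apply ctrL_pur hypL mem_hypL_iff ptL mem_ptL_iff pur_mem_ptL rootGLL
  rootGLL_val act_rootGLL rootGLL_mem_SL rootGLL_mem_kron)
open Cfsg.Agent.Lib.Helper3.SpT (bf SympG E E_mulVec E_mul_E uni uni_val uni_inv_val bf_add_left bf_add_right
  bf_smul_left bf_smul_right bf_kron_pur bf_zero_left bf_zero_right bf_sub_left bf_sub_right eq_sum_pur)
open Cfsg.Agent.Lib.Helper23.S5637T3b (kronGL kronGL_val kronGL_mem_kron)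
open Cfsg.Agent.Lib.Helper20.S5666Exit
open scoped Kronecker

variable {F : Type*} [Field F] [Fintype F] {a b : ℕ}
variable {J1 : Matrix (Fin a) (Fin a) F} {J2 : Matrix (Fin b) (Fin b) F}

local notation "V" => (Fin a × Fin b → F)

/-! ## E-S -/

/-- E-S (a) -/
theorem siegU_mem_iso (hS : SetupSO J1 J2) (u₀ x : Fin a → F) (c : F) (hx : bf J1 x u₀ = 0) :
    siegU (b := b) J1 hS.h1 u₀ x c hx ∈ IsoG (J1 ⊗ₖ J2) := by
  have hJ1 := hS.h1
  apply Cfsg.Agent.Lib.Helper13.S5666T4.mem_IsoG_of_pur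
  intro u u' w w'
  rw [act_siegU_pur, act_siegU_pur, bf_kron_pur, bf_kron_pur]
  congr 1
  have hx' : bf J1 u₀ x = 0 := hJ1.eq_zero_comm hx
  have e1 : bf J1 u₀ u' = - bf J1 u' u₀ := hJ1.skew _ _
  have e2 : bf J1 x u' = - bf J1 u' x := hJ1.skew _ _
  simp only [bf_add_left, bf_add_right, bf_smul_left, bf_smul_right, hJ1.alt, hx, hx', e1, e2]
  ring

/-- E-S (b) -/
theorem inRadL_siegU (hJ1 : SympG J1) (u₀ x : Fin a → F) (c : F) (hx : bf J1 x u₀ = 0) :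
    InRadL J1 u₀ (siegU (b := b) J1 hJ1 u₀ x c hx) := by
  have hx' : bf J1 u₀ x = 0 := hJ1.eq_zero_comm hx
  constructor
  · intro v hv
    obtain ⟨w, rfl⟩ := (mem_ptL_iff u₀ v).1 hv
    rw [act_siegU_pur, hJ1.alt, hx', mul_zero, add_zero, zero_smul, zero_smul, add_zero, add_zero]
  · intro v hv
    rw [mem_hypL_iff] at hv
    rw [act_siegU, hv, pur_zero_right, add_zero, add_sub_cancel_left]
    exact pur_mem_ptL _ _

/-- E-S (c) -/
theorem cls_siegU (hS : SetupSO J1 J2) (u₀ x : Fin a → F) (c : F) (hx : bf J1 x u₀ = 0) :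
    Cls J1 J2 u₀ (siegU (b := b) J1 hS.h1 u₀ x c hx) (fun y => bf J1 y x • (1 : Matrix (Fin b) (Fin b) F)) := by
  refine ⟨siegU_mem_iso hS u₀ x c hx, inRadL_siegU hS.h1 u₀ x c hx, ?_⟩
  intro y hy w
  rw [act_siegU_pur, hy, mul_zero, zero_add, zero_smul, add_zero, pur_add_left, pur_smul_left,
    Matrix.smul_mulVec, Matrix.one_mulVec, pur_smul_right]

theorem ctrL_smul_add (c : F) (φ ψ : Fin a → F) (v : V) :
    ctrL (c • φ + ψ) v = c • ctrL φ v + ctrL ψ v := by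
  funext j
  simp only [ctrL_apply, Pi.add_apply, Pi.smul_apply, smul_eq_mul, mul_add, Finset.sum_add_distrib, Finset.mul_sum]
  congr 1
  apply Finset.sum_congr rfl
  intro i _
  ring

/-- E-S (d) -/
theorem siegU_zero (hJ1 : SympG J1) (u₀ : Fin a → F) (c : F) :
    siegU (b := b) J1 hJ1 u₀ 0 c (Cfsg.Agent.Lib.Helper3.SpT.bf_zero_left J1 u₀) = rU J1 hJ1 u₀ c := by
  apply Cfsg.Agent.Lib.Helper13.S5666T4.gl_ext
  intro v
  rw [act_siegU, act_rU, pur_zero_left, add_zero, ctrL_smul_add, Matrix.mulVec_zero]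
  have h0 : ctrL (b := b) (0 : Fin a → F) v = 0 := by
    funext j
    simp [ctrL_apply]
  rw [h0, add_zero, pur_smul_right]

/-! ## E-P -/

/-- E-P (a): `u₀^⊥ ⊗ W` is spanned by the pure tensors `y ⊗ w`, `y ⟂ u₀` -/
theorem eq_on_hypL (u₀ : Fin a → F) (f g : V →ₗ[F] V)
    (h : ∀ (y : Fin a → F) (w : Fin b → F), bf J1 y u₀ = 0 → f (pur y w) = g (pur y w)) :
    ∀ v ∈ hypL (b := b) (J1 *ᵥ u₀), f v = g v := by
  intro v hv
  rw [mem_hypL_iff] at hv
  rw [eq_sum_pur v, map_sum, map_sum]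
  apply Finset.sum_congr rfl
  intro j _
  apply h
  have := congrFun hv j
  rw [ctrL_apply] at this
  exact this

/-- E-P (b): `(u₀^⊥)^⊥ = ⟨u₀⟩` -/
theorem exists_not_perp (hJ1 : SympG J1) (u₀ x : Fin a → F) (hx : bf J1 x u₀ = 0) (hxs : ∀ c : F, x ≠ c • u₀) :
    ∃ x'' : Fin a → F, bf J1 x'' u₀ = 0 ∧ bf J1 x x'' ≠ 0 := by
  by_contra hcon
  push Not at hcon
  by_cases hu0 : u₀ = 0
  · apply hxs 0
    rw [zero_smul]
    apply hJ1.nondeg
    intro y
    exact hcon y (by rw [hu0, bf_zero_right])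
  · obtain ⟨u₁, hu₁⟩ := Cfsg.Agent.Lib.Helper13.S5666API.exists_bf_eq_one hJ1 u₀ hu0
    apply hxs (-(bf J1 x u₁))
    have key : x - (-(bf J1 x u₁)) • u₀ = 0 := by
      apply hJ1.nondeg
      intro y
      have h1 := hcon (y - bf J1 y u₀ • u₁) (by rw [bf_sub_left, bf_smul_left, hu₁, mul_one, sub_self])
      rw [bf_sub_right, bf_smul_right] at h1
      rw [bf_sub_left, bf_smul_left, hJ1.skew u₀ y]
      linear_combination h1
    exact sub_eq_zero.1 key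

end Cfsg.Agent.Lib.Helper8.S5666ES
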