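import Mathlib
import Cfsg.Agent.Lib.Helper13.OrthNondeg

/-! S5702 farm-out (architect helper1): the char-free geometry lemmas FO-G5, FO-G7, FO-G8, FO-G9, FO-G10
for a quadratic form with non-degenerate polar form over a finite field. -/

set_option autoImplicit false

namespace Cfsg.Agent.Lib.Helper8.S5702FOG5

open Matrix Module QuadraticMap Cfsg.Agent.Lib.Helper6 Cfsg.Agent.Lib.Helper13
open Cfsg.Agent.Lib.Helper13.OND

variable {k : Type*} [Field k] {n : ℕ} {q₀ : QuadraticForm k (Fin n → k)}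

/-- separation on the left, in terms of `polar` -/
theorem eq_zero_of_polar (h : (polarBilin q₀).Nondegenerate) (x : Fin n → k)
    (hx : ∀ y, polar (⇑q₀) x y = 0) : x = 0 :=
  h.1 x (fun y => by rw [polarBilin_apply_apply]; exact hx y)

/-- FO-G9.  A dual vector: `c ∉ k u` gives `e` with `B c e = 1`, `B u e = 0`. -/
theorem exists_dual (h : (polarBilin q₀).Nondegenerate) (u c : Fin n → k)
    (hind : ∀ k₁ : k, c ≠ k₁ • u) :
    ∃ e : Fin n → k, polarBilin q₀ c e = 1 ∧ polarBilin q₀ u e = 0 := by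
  simp only [polarBilin_apply_apply]
  have key : ∃ e₀, polar (⇑q₀) u e₀ = 0 ∧ polar (⇑q₀) c e₀ ≠ 0 := by
    by_contra hcon
    push Not at hcon
    by_cases hu : ∀ y, polar (⇑q₀) u y = 0
    · have hc0 : c = 0 := eq_zero_of_polar h c (fun y => hcon y (hu y))
      exact hind 0 (by rw [hc0, zero_smul])
    · push Not at hu
      obtain ⟨y, hy⟩ := hu
      obtain ⟨y₀, hy₀⟩ : ∃ y₀, y₀ = (polar (⇑q₀) u y)⁻¹ • y := ⟨_, rfl⟩
      have h1 : polar (⇑q₀) u y₀ = 1 := by
        rw [hy₀, polar_smul_right, smul_eq_mul, inv_mul_cancel₀ hy]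
      apply hind (polar (⇑q₀) c y₀)
      have : c - polar (⇑q₀) c y₀ • u = 0 := by
        apply eq_zero_of_polar h
        intro x
        have hx : polar (⇑q₀) u (x - polar (⇑q₀) u x • y₀) = 0 := by
          rw [polar_sub_right, polar_smul_right, h1, smul_eq_mul, mul_one, sub_self]
        have := hcon _ hx
        rw [polar_sub_right, polar_smul_right, smul_eq_mul] at this
        rw [polar_sub_left, polar_smul_left, smul_eq_mul]
        linear_combination this
      exact sub_eq_zero.mp this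
  obtain ⟨e₀, h0, h1⟩ := key
  refine ⟨(polar (⇑q₀) c e₀)⁻¹ • e₀, ?_, ?_⟩
  · rw [polar_smul_right, smul_eq_mul, inv_mul_cancel₀ h1]
  · rw [polar_smul_right, h0, smul_zero]

/-- a vector dual to `c` and perpendicular to `u` and `c'`, when `c ∉ ⟨u, c'⟩` -/
theorem exists_dual2 (h : (polarBilin q₀).Nondegenerate) (u c c' : Fin n → k)
    (hind : ∀ k₁ k₂ : k, c ≠ k₁ • u + k₂ • c') :
    ∃ e : Fin n → k, polar (⇑q₀) c e = 1 ∧ polar (⇑q₀) u e = 0 ∧ polar (⇑q₀) c' e = 0 := by
  have key : ∃ e₀, polar (⇑q₀) u e₀ = 0 ∧ polar (⇑q₀) c' e₀ = 0 ∧ polar (⇑q₀) c e₀ ≠ 0 := by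
    by_contra hcon
    push Not at hcon
    let L : Fin 2 → (Fin n → k) →ₗ[k] k := ![polarBilin q₀ u, polarBilin q₀ c']
    have hle : (⨅ i, LinearMap.ker (L i)) ≤ LinearMap.ker (polarBilin q₀ c) := by
      intro x hx
      rw [Submodule.mem_iInf] at hx
      have h0 := hx 0
      have h1 := hx 1
      simp only [L, LinearMap.mem_ker, Matrix.cons_val_zero, Matrix.cons_val_one,
        polarBilin_apply_apply] at h0 h1
      rw [LinearMap.mem_ker, polarBilin_apply_apply]
      exact hcon x h0 h1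
    have hmem := mem_span_of_iInf_ker_le_ker hle
    rw [Submodule.mem_span_range_iff_exists_fun] at hmem
    obtain ⟨a, ha⟩ := hmem
    rw [Fin.sum_univ_two] at ha
    simp only [L, Matrix.cons_val_zero, Matrix.cons_val_one] at ha
    apply hind (a 0) (a 1)
    have : c - (a 0 • u + a 1 • c') = 0 := by
      apply eq_zero_of_polar h
      intro x
      have hx := congrArg (fun f : (Fin n → k) →ₗ[k] k => f x) ha
      simp only [LinearMap.add_apply, LinearMap.smul_apply, polarBilin_apply_apply,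
        smul_eq_mul] at hx
      rw [polar_sub_left, polar_add_left, polar_smul_left, polar_smul_left, smul_eq_mul,
        smul_eq_mul]
      linear_combination -hx
    exact sub_eq_zero.mp this
  obtain ⟨e₀, h0, h0', h1⟩ := key
  refine ⟨(polar (⇑q₀) c e₀)⁻¹ • e₀, ?_, ?_, ?_⟩
  · rw [polar_smul_right, smul_eq_mul, inv_mul_cancel₀ h1]
  · rw [polar_smul_right, h0, smul_zero]
  · rw [polar_smul_right, h0', smul_zero]

/-- FO-G5.  A singular partner of `c`, perpendicular to `u` and `c'`. -/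
theorem exists_partner (h : (polarBilin q₀).Nondegenerate) (u c c' : Fin n → k) (hcc : q₀ c = 0)
    (huc : polarBilin q₀ u c = 0) (hc'c : polarBilin q₀ c' c = 0)
    (hind : ∀ k₁ k₂ : k, c ≠ k₁ • u + k₂ • c') :
    ∃ f : Fin n → k, q₀ f = 0 ∧ polarBilin q₀ c f = 1 ∧ polarBilin q₀ u f = 0 ∧
      polarBilin q₀ c' f = 0 := by
  simp only [polarBilin_apply_apply] at huc hc'c ⊢
  obtain ⟨e₀, h1, h2, h3⟩ := exists_dual2 h u c c' hind
  have hcc' : polar (⇑q₀) c c = 0 := by rw [polar_self, hcc, smul_zero]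
  refine ⟨e₀ - q₀ e₀ • c, ?_, ?_, ?_, ?_⟩
  · rw [Q_sub, Q_smul, hcc, polar_smul_right, polar_comm (⇑q₀) e₀ c, h1, smul_eq_mul]
    ring
  · rw [polar_sub_right, polar_smul_right, hcc', h1]
    simp
  · rw [polar_sub_right, polar_smul_right, huc, h2]
    simp
  · rw [polar_sub_right, polar_smul_right, hc'c, h3]
    simp

variable [Finite k]

/-- FO-G7.  A hyperbolic pair. -/
theorem exists_hyp_pair (h : (polarBilin q₀).Nondegenerate) (hn : 3 ≤ n) :
    ∃ u v : Fin n → k, q₀ u = 0 ∧ q₀ v = 0 ∧ polarBilin q₀ u v = 1 := by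
  simp only [polarBilin_apply_apply]
  have h3 : 3 ≤ finrank k (⊤ : Submodule k (Fin n → k)) := by
    rw [finrank_top, Module.finrank_fintype_fun_eq_card, Fintype.card_fin]
    exact hn
  have hnd : NdOn q₀ ⊤ := by
    intro x _ hx0
    by_contra hne
    push Not at hne
    exact hx0 (eq_zero_of_polar h x (fun y => hne y Submodule.mem_top))
  obtain ⟨e, -, e', -, he, he', hee'⟩ := OND.exists_hyp_pair q₀ ⊤ hnd h3
  exact ⟨e, e', he, he', hee'⟩

/-- FO-G8. -/
theorem exists_ts_partner (h : (polarBilin q₀).Nondegenerate) (hn : 5 ≤ n) (u : Fin n → k)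
    (hu0 : u ≠ 0) (_huu : q₀ u = 0) :
    ∃ c e : Fin n → k, q₀ c = 0 ∧ polarBilin q₀ u c = 0 ∧ polarBilin q₀ c e = 1 ∧
      polarBilin q₀ u e = 0 := by
  obtain ⟨C, hC⟩ := Submodule.exists_isCompl (Submodule.span k {u})
  have h1 := Submodule.finrank_add_eq_of_isCompl hC
  rw [Module.finrank_fintype_fun_eq_card, Fintype.card_fin, finrank_span_singleton hu0] at h1
  have h2 := finrank_le_inf_ker_add_one C (polarBilin q₀ u)
  obtain ⟨c, hc, hc0, hQc⟩ := exists_singular_sub q₀ (C ⊓ LinearMap.ker (polarBilin q₀ u))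
    (by omega)
  rw [Submodule.mem_inf, LinearMap.mem_ker] at hc
  have hind : ∀ k₁ : k, c ≠ k₁ • u := by
    intro k₁ hk
    apply hc0
    have : c ∈ Submodule.span k {u} ⊓ C :=
      ⟨by rw [hk]; exact Submodule.smul_mem _ _ (Submodule.mem_span_singleton_self u), hc.1⟩
    rw [hC.inf_eq_bot] at this
    exact (Submodule.mem_bot k).mp this
  obtain ⟨e, he1, he2⟩ := exists_dual h u c hind
  exact ⟨c, e, hQc, hc.2, he1, he2⟩

/-- FO-G10.  Singular vectors span. -/
theorem span_singular (h : (polarBilin q₀).Nondegenerate) (hn : 3 ≤ n) (x : Fin n → k) :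
    x ∈ Submodule.span k {c : Fin n → k | q₀ c = 0} := by
  obtain ⟨u, v, hu, hv, huv⟩ := exists_hyp_pair h hn
  rw [polarBilin_apply_apply] at huv
  obtain ⟨x', hx'⟩ : ∃ x', x' = x - polar (⇑q₀) x v • u - polar (⇑q₀) x u • v := ⟨_, rfl⟩
  obtain ⟨h1, h2⟩ := hyp_proj q₀ u v x hu hv huv
  rw [← hx'] at h1 h2
  have hs := hyp_sing q₀ u v x' hu hv huv h1 h2
  have hmu : u ∈ Submodule.span k {c : Fin n → k | q₀ c = 0} := Submodule.subset_span hu
  have hmv : v ∈ Submodule.span k {c : Fin n → k | q₀ c = 0} := Submodule.subset_span hv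
  have hms : x' - q₀ x' • u + v ∈ Submodule.span k {c : Fin n → k | q₀ c = 0} :=
    Submodule.subset_span hs
  have e : x = (x' - q₀ x' • u + v) + (q₀ x' + polar (⇑q₀) x v) • u +
      (polar (⇑q₀) x u - 1) • v := by
    rw [hx']
    module
  rw [e]
  exact Submodule.add_mem _ (Submodule.add_mem _ hms (Submodule.smul_mem _ _ hmu))
    (Submodule.smul_mem _ _ hmv)

end Cfsg.Agent.Lib.Helper8.S5702FOG5
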