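import Mathlib
import Cfsg.Prelude.Def_GeometricClasses
import Cfsg.Agent.Lib.Helper6.OrthForms
import Cfsg.Agent.Lib.Helper6.SiegelOmega
import Cfsg.Agent.Lib.Helper13.OrthNondeg
import Cfsg.Agent.Lib.Helper13.OrthMax
import Cfsg.Agent.Lib.Helper6.S5814PSUBF

/-!
# S5814 / S5835 / S5859, piece P-FLD (helper8): `Ω` does not normalise a field subalgebra of odd prime degree

`not_omega_le_fieldNormalizer` of `notes/S5814Skel_helper29.lean.txt`, exact signature.
`ρ = ρ_{u,w} = 1 + N` (`u, w` singular, orthogonal, independent), `N x = polar w x • u - polar u x • w`.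
If `ρ` normalises `K` then for `k ∈ K` the element `d = ρ k ρ⁻¹ - k ∈ K` satisfies `d ρ = N k - k N`, whose range
lies in `⟨u, w, k u, k w⟩` of dimension `≤ 4 < n`; non-zero elements of `K` are invertible, so `d = 0` and `N`
commutes with `K`.  Then `k ↦ k w = -N (k u')` is an injective linear map `K → ⟨u, w⟩`, so `r ≤ 2`.
-/

set_option autoImplicit false
set_option linter.unusedSectionVars false
set_option linter.unusedVariables false

namespace Cfsg.Agent.Lib.Helper8.S5814PFLD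

open Matrix Cfsg.Geo Module QuadraticMap
open Cfsg.Agent.Lib.Helper6 Cfsg.Agent.Lib.Helper13 Cfsg.Agent.Lib.Helper13.OND

universe u
variable {F : Type u} [Field F] [Fintype F] {ι : Type} [Fintype ι] [DecidableEq ι]
variable (Q : QuadraticForm F (ι → F))

/-- the Siegel data: singular orthogonal `u, w`, a vector `u'` with `N u' = -w ≠ 0`, and `1 + N ∈ Ω` -/
theorem exists_siegel_data (hQ : (polarBilin Q).Nondegenerate) (h5 : 5 ≤ Fintype.card ι) :
    ∃ (u w u' : ι → F) (g : GL ι F), w ≠ 0 ∧ g ∈ omegaGL ⇑Q ∧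
      (g : Matrix ι ι F) = 1 + (vecMulVec u (Cfsg.polarVec ⇑Q w) - vecMulVec w (Cfsg.polarVec ⇑Q u)) ∧
      (∀ x, (vecMulVec u (Cfsg.polarVec ⇑Q w) - vecMulVec w (Cfsg.polarVec ⇑Q u)) *ᵥ x =
        polar (⇑Q) w x • u - polar (⇑Q) u x • w) ∧
      (vecMulVec u (Cfsg.polarVec ⇑Q w) - vecMulVec w (Cfsg.polarVec ⇑Q u)) *ᵥ u' = -w := by
  have hNd : NdOn Q ⊤ := by
    intro x _ hx0
    by_contra hne
    push Not at hne
    exact hx0 (hQ.1 x (fun y => hne y Submodule.mem_top))
  have hfin : finrank F (⊤ : Submodule F (ι → F)) = Fintype.card ι := by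
    rw [finrank_top, Module.finrank_fintype_fun_eq_card]
  obtain ⟨u, -, hu0, hQu⟩ := exists_singular_sub Q ⊤ (by omega)
  obtain ⟨u', -, hQu', huu'⟩ := Cfsg.Agent.Lib.Helper13.OND.exists_partner Q ⊤ hNd Submodule.mem_top hu0 hQu
  obtain ⟨w, -, hw0, hQw, huw, hu'w⟩ := exists_singular_cut2 Q ⊤ u u' (by omega)
  have hNx : ∀ x, (vecMulVec u (Cfsg.polarVec ⇑Q w) - vecMulVec w (Cfsg.polarVec ⇑Q u)) *ᵥ x =
      polar (⇑Q) w x • u - polar (⇑Q) u x • w := by
    intro x
    rw [Matrix.sub_mulVec, vecMulVec_mulVec, vecMulVec_mulVec, polarVec_dot, polarVec_dot]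
    ext i
    simp only [Pi.sub_apply, Pi.smul_apply, MulOpposite.smul_eq_mul_unop, MulOpposite.unop_op, smul_eq_mul]
    ring
  have hρΩ := siegIso_mem_Omega Q hQ h5 u w hQu huw
  refine ⟨u, w, u', ((siegIso Q u w hQu huw : ↥(Cfsg.isometryGroup F ⇑Q)) : GL ι F), hw0,
    (mem_omegaGL_iff Q _).2 ⟨_, hρΩ, rfl⟩, ?_, hNx, ?_⟩
  · have h := Cfsg.Agent.Lib.Helper6.S5814PSUBF.sieg_smul_eq Q u w hQw 1
    rw [one_smul, one_smul] at h
    exact h
  · rw [hNx, polar_comm (⇑Q) w u', hu'w, huu']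
    ext i
    simp

/-- P-FLD : `Ω` does not normalise a field subalgebra of odd prime degree. -/
theorem not_omega_le_fieldNormalizer (hQ : (polarBilin Q).Nondegenerate) (h5 : 5 ≤ Fintype.card ι)
    (r : ℕ) (hr : r.Prime) (hr2 : r ≠ 2) (K : Subalgebra F (Matrix ι ι F))
    (hK : IsFieldSubalgebra r K) : ¬ omegaGL ⇑Q ≤ subalgebraNormalizer K := by
  classical
  intro hle
  obtain ⟨u, w, u', g, hw0, hgΩ, hgval, hNx, hNu'⟩ := exists_siegel_data Q hQ h5
  set N : Matrix ι ι F := vecMulVec u (Cfsg.polarVec ⇑Q w) - vecMulVec w (Cfsg.polarVec ⇑Q u) with hN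
  have hnorm : ∀ k : Matrix ι ι F, k ∈ K ↔
      (g : Matrix ι ι F) * k * ((g⁻¹ : GL ι F) : Matrix ι ι F) ∈ K := hle hgΩ
  have hfinV : finrank F (ι → F) = Fintype.card ι := Module.finrank_fintype_fun_eq_card F
  -- Step 1: `N` commutes with `K`
  have hcomm : ∀ k ∈ K, N * k = k * N := by
    intro k hk
    have hc : (g : Matrix ι ι F) * k * ((g⁻¹ : GL ι F) : Matrix ι ι F) ∈ K := (hnorm k).1 hk
    have hdK : (g : Matrix ι ι F) * k * ((g⁻¹ : GL ι F) : Matrix ι ι F) - k ∈ K := K.sub_mem hc hk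
    have hdg : ((g : Matrix ι ι F) * k * ((g⁻¹ : GL ι F) : Matrix ι ι F) - k) * (g : Matrix ι ι F) =
        N * k - k * N := by
      rw [sub_mul, mul_assoc, ← Units.val_mul, inv_mul_cancel, Units.val_one, mul_one, hgval]
      noncomm_ring
    by_contra hne
    have hd0 : (g : Matrix ι ι F) * k * ((g⁻¹ : GL ι F) : Matrix ι ι F) - k ≠ 0 := by
      intro h0
      rw [h0, zero_mul] at hdg
      exact hne (sub_eq_zero.mp hdg.symm)
    obtain ⟨y, hyK, hdy⟩ := hK.inv _ hdK hd0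
    have hall : ∀ v : ι → F, v ∈ Submodule.span F
        ((({u, w, k *ᵥ u, k *ᵥ w} : Finset (ι → F)) : Set (ι → F))) := by
      intro v
      obtain ⟨z, hv⟩ : ∃ z : ι → F, v =
          (((g : Matrix ι ι F) * k * ((g⁻¹ : GL ι F) : Matrix ι ι F) - k) * (g : Matrix ι ι F)) *ᵥ z := by
        refine ⟨(((g⁻¹ : GL ι F) : Matrix ι ι F) * y) *ᵥ v, ?_⟩
        rw [mulVec_mulVec, mul_assoc, ← mul_assoc (g : Matrix ι ι F), ← Units.val_mul, mul_inv_cancel,
          Units.val_one, one_mul, hdy, one_mulVec]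
      rw [hv, hdg, sub_mulVec, ← mulVec_mulVec, ← mulVec_mulVec, hNx, hNx, mulVec_sub, mulVec_smul,
        mulVec_smul]
      have hu_mem : u ∈ Submodule.span F ((({u, w, k *ᵥ u, k *ᵥ w} : Finset (ι → F)) : Set (ι → F))) :=
        Submodule.subset_span (by simp)
      have hw_mem : w ∈ Submodule.span F ((({u, w, k *ᵥ u, k *ᵥ w} : Finset (ι → F)) : Set (ι → F))) :=
        Submodule.subset_span (by simp)
      have hku_mem : k *ᵥ u ∈ Submodule.span F ((({u, w, k *ᵥ u, k *ᵥ w} : Finset (ι → F)) : Set (ι → F))) :=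
        Submodule.subset_span (by simp)
      have hkw_mem : k *ᵥ w ∈ Submodule.span F ((({u, w, k *ᵥ u, k *ᵥ w} : Finset (ι → F)) : Set (ι → F))) :=
        Submodule.subset_span (by simp)
      exact Submodule.sub_mem _
        (Submodule.sub_mem _ (Submodule.smul_mem _ _ hu_mem) (Submodule.smul_mem _ _ hw_mem))
        (Submodule.sub_mem _ (Submodule.smul_mem _ _ hku_mem) (Submodule.smul_mem _ _ hkw_mem))
    have htop : Submodule.span F ((({u, w, k *ᵥ u, k *ᵥ w} : Finset (ι → F)) : Set (ι → F))) = ⊤ :=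
      Submodule.eq_top_iff'.2 hall
    have h1 : finrank F ↥(Submodule.span F ((({u, w, k *ᵥ u, k *ᵥ w} : Finset (ι → F)) : Set (ι → F)))) ≤
        ({u, w, k *ᵥ u, k *ᵥ w} : Finset (ι → F)).card :=
      finrank_span_finset_le_card (R := F) ({u, w, k *ᵥ u, k *ᵥ w} : Finset (ι → F))
    rw [htop, finrank_top, hfinV] at h1
    have h2 : ({u, w, k *ᵥ u, k *ᵥ w} : Finset (ι → F)).card ≤ 4 := Finset.card_le_four
    omega
  -- Step 2: `k ↦ k w` is an injective linear map `K → ⟨u, w⟩`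
  let φ : ↥K →ₗ[F] (ι → F) :=
    { toFun := fun k => (k : Matrix ι ι F) *ᵥ w
      map_add' := fun a b => by
        show ((a : Matrix ι ι F) + (b : Matrix ι ι F)) *ᵥ w = _
        rw [Matrix.add_mulVec]
      map_smul' := fun c a => by
        show (c • (a : Matrix ι ι F)) *ᵥ w = _
        rw [Matrix.smul_mulVec]
        rfl }
  have hφinj : Function.Injective φ := by
    rw [← LinearMap.ker_eq_bot, LinearMap.ker_eq_bot']
    intro k hk
    by_contra hk0
    have hk0' : (k : Matrix ι ι F) ≠ 0 := fun h => hk0 (Subtype.ext h)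
    obtain ⟨y, hyK, hky⟩ := hK.inv _ k.2 hk0'
    have hyk : y * (k : Matrix ι ι F) = 1 := by rw [hK.comm y hyK _ k.2, hky]
    have hkw : (k : Matrix ι ι F) *ᵥ w = 0 := hk
    have : w = 0 := by
      have h1 : (y * (k : Matrix ι ι F)) *ᵥ w = w := by rw [hyk, one_mulVec]
      rw [← mulVec_mulVec, hkw, mulVec_zero] at h1
      exact h1.symm
    exact hw0 this
  have hrange : LinearMap.range φ ≤ Submodule.span F ((({u, w} : Finset (ι → F)) : Set (ι → F))) := by
    rintro _ ⟨k, rfl⟩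
    show (k : Matrix ι ι F) *ᵥ w ∈ _
    have hw' : w = N *ᵥ (-u') := by rw [mulVec_neg, hNu', neg_neg]
    have hkw : (k : Matrix ι ι F) *ᵥ w = polar (⇑Q) w ((k : Matrix ι ι F) *ᵥ (-u')) • u -
        polar (⇑Q) u ((k : Matrix ι ι F) *ᵥ (-u')) • w := by
      conv_lhs => rw [hw']
      rw [mulVec_mulVec, ← hcomm _ k.2, ← mulVec_mulVec, hNx]
    rw [hkw]
    have hu_mem : u ∈ Submodule.span F ((({u, w} : Finset (ι → F)) : Set (ι → F))) :=
      Submodule.subset_span (by simp)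
    have hw_mem : w ∈ Submodule.span F ((({u, w} : Finset (ι → F)) : Set (ι → F))) :=
      Submodule.subset_span (by simp)
    exact Submodule.sub_mem _ (Submodule.smul_mem _ _ hu_mem) (Submodule.smul_mem _ _ hw_mem)
  have h1 : finrank F ↥K = finrank F ↥(LinearMap.range φ) := (LinearMap.finrank_range_of_inj hφinj).symm
  have h2 := Submodule.finrank_mono hrange
  have h3 : finrank F ↥(Submodule.span F ((({u, w} : Finset (ι → F)) : Set (ι → F)))) ≤
      ({u, w} : Finset (ι → F)).card := finrank_span_finset_le_card (R := F) ({u, w} : Finset (ι → F))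
  have h4 : ({u, w} : Finset (ι → F)).card ≤ 2 := Finset.card_le_two
  have h5' := hK.finrank_eq
  have h6 := hr.two_le
  omega

end Cfsg.Agent.Lib.Helper8.S5814PFLD
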