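import Mathlib

set_option autoImplicit false

/-! # Steinberg's presentation of `SL₂(F)`: abstract normal forms -/

namespace Cfsg.Agent.Lib.Helper8.SL2P

variable {F : Type*} [Field F] {Γ : Type*} [Group Γ]

/-- `w(t) = X(t) Y(-t⁻¹) X(t)` -/
def W (X Y : F → Γ) (t : F) : Γ := X t * Y (-t⁻¹) * X t

/-- `h(t) = w(t) w(-1)` -/
def H (X Y : F → Γ) (t : F) : Γ := W X Y t * W X Y (-1)

/-- Steinberg's relations for `SL₂` -/
structure Rel (X Y : F → Γ) : Prop where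
  X_add : ∀ a b, X (a + b) = X a * X b
  Y_add : ∀ a b, Y (a + b) = Y a * Y b
  conj : ∀ t : F, t ≠ 0 → ∀ u, W X Y t * X u = Y (-(t⁻¹ * t⁻¹ * u)) * W X Y t
  hmul : ∀ t u : F, t ≠ 0 → u ≠ 0 → H X Y (t * u) = H X Y t * H X Y u

namespace Rel

variable {X Y : F → Γ} (R : Rel X Y)
include R

theorem X_zero : X 0 = 1 := by
  have := R.X_add 0 0
  rw [add_zero] at this
  exact mul_left_cancel (a := X 0) (by rw [mul_one]; exact this.symm)

theorem Y_zero : Y 0 = 1 := by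
  have := R.Y_add 0 0
  rw [add_zero] at this
  exact mul_left_cancel (a := Y 0) (by rw [mul_one]; exact this.symm)

theorem X_neg (a : F) : X (-a) = (X a)⁻¹ := by
  apply eq_inv_of_mul_eq_one_left
  rw [← R.X_add, neg_add_cancel, R.X_zero]

theorem Y_neg (a : F) : Y (-a) = (Y a)⁻¹ := by
  apply eq_inv_of_mul_eq_one_left
  rw [← R.Y_add, neg_add_cancel, R.Y_zero]

theorem W_inv (t : F) : (W X Y t)⁻¹ = W X Y (-t) := by
  unfold W
  rw [mul_inv_rev, mul_inv_rev, inv_neg, neg_neg, R.X_neg, ← R.Y_neg, neg_neg, mul_assoc]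

theorem W_mul_neg (t : F) : W X Y t * W X Y (-t) = 1 := by
  rw [← R.W_inv, mul_inv_cancel]

theorem W_neg_mul (t : F) : W X Y (-t) * W X Y t = 1 := by
  rw [← R.W_inv, inv_mul_cancel]

theorem H_one : H X Y 1 = 1 := R.W_mul_neg 1

/-- `w(t) Y(v) = X(-t²v) w(t)` -/
theorem conj' {t : F} (ht : t ≠ 0) (v : F) : W X Y t * Y v = X (-(t * t * v)) * W X Y t := by
  have h := R.conj (-t) (neg_ne_zero.mpr ht) (-(t * t * v))
  rw [← R.W_inv] at h
  have e : -((-t)⁻¹ * (-t)⁻¹ * -(t * t * v)) = v := by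
    field_simp
  rw [e] at h
  generalize X (-(t * t * v)) = A at h ⊢
  have h2 : A * W X Y t = W X Y t * Y v := by
    have := congrArg (fun z => W X Y t * z * W X Y t) h
    simp only [mul_assoc, mul_inv_cancel_left, inv_mul_cancel, mul_one] at this
    exact this
  exact h2.symm

/-- `w(1)` -/
theorem wo_X (u : F) : W X Y 1 * X u = Y (-u) * W X Y 1 := by
  have := R.conj 1 one_ne_zero u
  simpa using this

theorem wo_Y (v : F) : W X Y 1 * Y v = X (-v) * W X Y 1 := by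
  have := R.conj' one_ne_zero v
  simpa using this

theorem wi_X (u : F) : W X Y (-1) * X u = Y (-u) * W X Y (-1) := by
  have := R.conj (-1) (by simp) u
  simpa using this

theorem wi_Y (v : F) : W X Y (-1) * Y v = X (-v) * W X Y (-1) := by
  have := R.conj' (t := -1) (by simp) v
  simpa using this

/-- `h(t) X(u) = X(t²u) h(t)` -/
theorem H_X {t : F} (ht : t ≠ 0) (u : F) : H X Y t * X u = X (t * t * u) * H X Y t := by
  unfold H
  rw [mul_assoc, R.wi_X, ← mul_assoc, R.conj' ht, mul_assoc]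
  congr 2
  ring

theorem H_Y {t : F} (ht : t ≠ 0) (v : F) :
    H X Y t * Y v = Y (t⁻¹ * t⁻¹ * v) * H X Y t := by
  unfold H
  rw [mul_assoc, R.wi_Y, ← mul_assoc, R.conj t ht, mul_assoc]
  congr 2
  ring

/-- `X(u) h(t) = h(t) X(t⁻²u)` -/
theorem X_H {t : F} (ht : t ≠ 0) (u : F) : X u * H X Y t = H X Y t * X (t⁻¹ * t⁻¹ * u) := by
  rw [R.H_X ht]
  congr 2
  field_simp

theorem W_braid {s : F} (hs : s ≠ 0) : W X Y s = Y (-s⁻¹) * X s * Y (-s⁻¹) := by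
  have h := R.conj s hs s
  have e : -(s⁻¹ * s⁻¹ * s) = -s⁻¹ := by field_simp
  rw [e] at h
  unfold W at h ⊢
  have := congrArg (fun z => z * (X s)⁻¹) h
  simp only [mul_assoc, mul_inv_cancel, mul_one] at this
  rw [mul_assoc, mul_assoc]
  exact this

/-- `w(1) w(t) = w(t⁻¹) w(1)` -/
theorem wo_W {t : F} (ht : t ≠ 0) : W X Y 1 * W X Y t = W X Y t⁻¹ * W X Y 1 := by
  rw [R.W_braid (inv_ne_zero ht), inv_inv]
  conv_lhs => unfold W
  rw [← mul_assoc, ← mul_assoc]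
  rw [show W X Y 1 = X 1 * Y (-(1:F)⁻¹) * X 1 from rfl] 
  rw [show X (1:F) * Y (-(1:F)⁻¹) * X 1 = W X Y 1 from rfl]
  rw [R.wo_X, mul_assoc (Y (-t)), R.wo_Y, neg_neg, mul_assoc (Y (-t)), mul_assoc (X t⁻¹), R.wo_X]
  simp only [mul_assoc]

/-- `w(1) h(t) = h(t⁻¹) w(1)` -/
theorem wo_H {t : F} (ht : t ≠ 0) : W X Y 1 * H X Y t = H X Y t⁻¹ * W X Y 1 := by
  unfold H
  rw [← mul_assoc, R.wo_W ht, mul_assoc, mul_assoc]
  congr 1
  rw [R.W_neg_mul, ← R.W_inv, mul_inv_cancel]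

theorem H_inv {t : F} (ht : t ≠ 0) : H X Y t * H X Y t⁻¹ = 1 := by
  rw [← R.hmul t t⁻¹ ht (inv_ne_zero ht), mul_inv_cancel₀ ht, R.H_one]

/-- `w(1)² = h(-1)` -/
theorem wo_sq : W X Y 1 * W X Y 1 = H X Y (-1) := by
  have h1 : H X Y (-1) * H X Y (-1) = 1 := by
    rw [← R.hmul (-1) (-1) (by simp) (by simp)]
    simp [R.H_one]
  have h2 : H X Y (-1) = W X Y (-1) * W X Y (-1) := rfl
  have h3 : W X Y 1 * W X Y 1 * H X Y (-1) = 1 := by
    rw [h2, mul_assoc, ← mul_assoc (W X Y 1) (W X Y (-1)), R.W_mul_neg, one_mul, R.W_mul_neg]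
  calc W X Y 1 * W X Y 1 = W X Y 1 * W X Y 1 * (H X Y (-1) * H X Y (-1)) := by rw [h1, mul_one]
    _ = (W X Y 1 * W X Y 1 * H X Y (-1)) * H X Y (-1) := by simp only [mul_assoc]
    _ = H X Y (-1) := by rw [h3, one_mul]

theorem X_Hneg (u : F) : X u * H X Y (-1) = H X Y (-1) * X u := by
  rw [R.H_X (by simp)]
  congr 2
  ring

/-- the rank one Bruhat relation -/
theorem wo_X_wo {u : F} (hu : u ≠ 0) :
    W X Y 1 * X u * W X Y 1 = X (-u⁻¹) * H X Y (-u⁻¹) * W X Y 1 * X (-u⁻¹) := by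
  have hY : Y (-u) = X (-u⁻¹) * W X Y u⁻¹ * X (-u⁻¹) := by
    unfold W
    rw [inv_inv, R.X_neg]
    simp only [mul_assoc, inv_mul_cancel_left, mul_inv_cancel, mul_one]
  have hW : W X Y u⁻¹ = H X Y u⁻¹ * W X Y 1 := by
    unfold H
    rw [mul_assoc, R.W_neg_mul, mul_one]
  have hH : H X Y (-u⁻¹) = H X Y u⁻¹ * H X Y (-1) := by
    rw [← R.hmul _ _ (inv_ne_zero hu) (by simp)]
    congr 1
    ring
  have hwH : W X Y 1 * H X Y (-1) = H X Y (-1) * W X Y 1 := by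
    have := R.wo_H (t := -1) (by simp)
    rw [this]
    congr 2
    norm_num
  rw [R.wo_X, hY, hW, hH]
  calc X (-u⁻¹) * (H X Y u⁻¹ * W X Y 1) * X (-u⁻¹) * W X Y 1 * W X Y 1
      = X (-u⁻¹) * H X Y u⁻¹ * W X Y 1 * (X (-u⁻¹) * (W X Y 1 * W X Y 1)) := by
        simp only [mul_assoc]
    _ = X (-u⁻¹) * H X Y u⁻¹ * W X Y 1 * (H X Y (-1) * X (-u⁻¹)) := by
        rw [R.wo_sq, R.X_Hneg]
    _ = X (-u⁻¹) * H X Y u⁻¹ * (W X Y 1 * H X Y (-1)) * X (-u⁻¹) := by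
        simp only [mul_assoc]
    _ = X (-u⁻¹) * (H X Y u⁻¹ * H X Y (-1)) * W X Y 1 * X (-u⁻¹) := by
        rw [hwH]; simp only [mul_assoc]

end Rel

end Cfsg.Agent.Lib.Helper8.SL2P
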