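import Cfsg.Agent.Lib.Helper8.SL2Pres1

set_option autoImplicit false

/-! # Steinberg's presentation of `SL₂(F)`: normal forms and the homomorphism -/

namespace Cfsg.Agent.Lib.Helper8.SL2P

variable {F : Type*} [Field F] {Γ : Type*} [Group Γ]

/-- the normal forms `X(u) h(a)` and `X(u) h(a) w X(v)` -/
def NF (X Y : F → Γ) (k : Γ) : Prop :=
  (∃ u a : F, a ≠ 0 ∧ k = X u * H X Y a) ∨
    (∃ u a v : F, a ≠ 0 ∧ k = X u * H X Y a * W X Y 1 * X v)

namespace Rel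

variable {X Y : F → Γ} (R : Rel X Y)
include R

theorem nf_one : NF X Y (1 : Γ) :=
  Or.inl ⟨0, 1, one_ne_zero, by rw [R.X_zero, R.H_one, one_mul]⟩

theorem nf_X (b : F) {k : Γ} (hk : NF X Y k) : NF X Y (X b * k) := by
  rcases hk with ⟨u, a, ha, rfl⟩ | ⟨u, a, v, ha, rfl⟩
  · exact Or.inl ⟨b + u, a, ha, by rw [R.X_add, mul_assoc]⟩
  · exact Or.inr ⟨b + u, a, v, ha, by rw [R.X_add]; simp only [mul_assoc]⟩

theorem H_wo {a : F} (ha : a ≠ 0) : H X Y a * W X Y 1 = W X Y 1 * H X Y a⁻¹ := by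
  rw [R.wo_H (inv_ne_zero ha), inv_inv]

theorem nf_wo {k : Γ} (hk : NF X Y k) : NF X Y (W X Y 1 * k) := by
  rcases hk with ⟨u, a, ha, rfl⟩ | ⟨u, a, v, ha, rfl⟩
  · refine Or.inr ⟨0, a⁻¹, a⁻¹ * a⁻¹ * u, inv_ne_zero ha, ?_⟩
    rw [R.X_zero, one_mul, R.X_H ha, ← mul_assoc, R.wo_H ha]
  · by_cases hu : u = 0
    · subst hu
      refine Or.inl ⟨(-a⁻¹) * (-a⁻¹) * v, -a⁻¹, by simpa using ha, ?_⟩
      have hH : H X Y (-a⁻¹) = H X Y a⁻¹ * H X Y (-1) := by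
        rw [← R.hmul _ _ (inv_ne_zero ha) (by simp)]
        congr 1
        ring
      rw [R.X_zero, one_mul, ← R.H_X (by simpa using ha), hH, ← R.wo_sq]
      rw [← mul_assoc, ← mul_assoc, R.wo_H ha]
      simp only [mul_assoc]
    · refine Or.inr ⟨-u⁻¹, -u⁻¹ * a, a * a * (-u⁻¹) + v, mul_ne_zero (by simpa using hu) ha, ?_⟩
      have h1 : W X Y 1 * (X u * H X Y a * W X Y 1 * X v) =
          (W X Y 1 * X u * W X Y 1) * (H X Y a⁻¹ * X v) := by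
        rw [mul_assoc (X u), R.H_wo ha]
        simp only [mul_assoc]
      rw [h1, R.wo_X_wo hu]
      have h2 : X (-u⁻¹) * (H X Y a⁻¹ * X v) = H X Y a⁻¹ * (X (a * a * (-u⁻¹)) * X v) := by
        rw [← mul_assoc, R.X_H (inv_ne_zero ha), inv_inv, mul_assoc]
      rw [mul_assoc _ (X (-u⁻¹)) _, h2, R.X_add, R.hmul _ _ (by simpa using hu) ha]
      rw [mul_assoc _ (W X Y 1) _, ← mul_assoc (W X Y 1) (H X Y a⁻¹), R.wo_H (inv_ne_zero ha),
        inv_inv]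
      simp only [mul_assoc]

theorem wo_inv_eq : (W X Y 1)⁻¹ = W X Y 1 * (W X Y 1 * W X Y 1) := by
  have h1 : H X Y (-1) * H X Y (-1) = 1 := by
    rw [← R.hmul (-1) (-1) (by simp) (by simp)]
    simp [R.H_one]
  rw [R.wo_sq]
  apply inv_eq_of_mul_eq_one_right
  rw [← mul_assoc, R.wo_sq, h1]

theorem nf_wo_inv {k : Γ} (hk : NF X Y k) : NF X Y ((W X Y 1)⁻¹ * k) := by
  rw [R.wo_inv_eq, mul_assoc, mul_assoc]
  exact R.nf_wo (R.nf_wo (R.nf_wo hk))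

theorem Y_eq (b : F) : Y b = W X Y 1 * (X (-b) * (W X Y 1)⁻¹) := by
  rw [← mul_assoc, R.wo_X, neg_neg, mul_assoc, mul_inv_cancel, mul_one]

theorem nf_Y (b : F) {k : Γ} (hk : NF X Y k) : NF X Y (Y b * k) := by
  rw [R.Y_eq, mul_assoc, mul_assoc]
  exact R.nf_wo (R.nf_X _ (R.nf_wo_inv hk))

theorem nf_of_mem {k : Γ} (hk : k ∈ Subgroup.closure (Set.range X ∪ Set.range Y)) :
    NF X Y k := by
  induction hk using Subgroup.closure_induction_left with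
  | one => exact R.nf_one
  | mul_left x hx y _ ih =>
    rcases hx with ⟨b, rfl⟩ | ⟨b, rfl⟩
    · exact R.nf_X b ih
    · exact R.nf_Y b ih
  | inv_mul_cancel x hx y _ ih =>
    rcases hx with ⟨b, rfl⟩ | ⟨b, rfl⟩
    · rw [← R.X_neg]
      exact R.nf_X _ ih
    · rw [← R.Y_neg]
      exact R.nf_Y _ ih

end Rel

/-- relations in a product -/
theorem Rel.prod {Γ' : Type*} [Group Γ'] {X Y : F → Γ} {X' Y' : F → Γ'} (R : Rel X Y)
    (R' : Rel X' Y') : Rel (fun a => (X a, X' a)) (fun a => (Y a, Y' a)) where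
  X_add a b := Prod.ext (R.X_add a b) (R'.X_add a b)
  Y_add a b := Prod.ext (R.Y_add a b) (R'.Y_add a b)
  conj t ht u := Prod.ext (R.conj t ht u) (R'.conj t ht u)
  hmul t u ht hu := Prod.ext (R.hmul t u ht hu) (R'.hmul t u ht hu)

end Cfsg.Agent.Lib.Helper8.SL2P
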