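import Cfsg.Agent.Lib.Helper8.SL2Pres2

set_option autoImplicit false

/-! # Steinberg's presentation of `SL₂(F)`: the matrix side -/

namespace Cfsg.Agent.Lib.Helper8.SL2P

open Matrix

variable {F : Type*} [Field F]

/-- upper elementary matrices -/
def xs (t : F) : SpecialLinearGroup (Fin 2) F := ⟨!![1, t; 0, 1], by simp [det_fin_two]⟩

/-- lower elementary matrices -/
def ys (t : F) : SpecialLinearGroup (Fin 2) F := ⟨!![1, 0; t, 1], by simp [det_fin_two]⟩

theorem coe_xs (t : F) : (xs t : Matrix (Fin 2) (Fin 2) F) = !![1, t; 0, 1] := rfl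

theorem coe_ys (t : F) : (ys t : Matrix (Fin 2) (Fin 2) F) = !![1, 0; t, 1] := rfl

theorem sl_ext {A B : SpecialLinearGroup (Fin 2) F}
    (h : (A : Matrix (Fin 2) (Fin 2) F) = (B : Matrix (Fin 2) (Fin 2) F)) : A = B :=
  Subtype.ext h

theorem xs_add (a b : F) : xs (a + b) = xs a * xs b := by
  apply sl_ext
  rw [Matrix.SpecialLinearGroup.coe_mul, coe_xs, coe_xs, coe_xs]
  ext i j
  fin_cases i <;> fin_cases j <;> simp [Matrix.mul_apply, Fin.sum_univ_two, add_comm]

theorem ys_add (a b : F) : ys (a + b) = ys a * ys b := by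
  apply sl_ext
  rw [Matrix.SpecialLinearGroup.coe_mul, coe_ys, coe_ys, coe_ys]
  ext i j
  fin_cases i <;> fin_cases j <;> simp [Matrix.mul_apply, Fin.sum_univ_two, add_comm]

theorem coe_W {t : F} (ht : t ≠ 0) :
    ((W xs ys t : SpecialLinearGroup (Fin 2) F) : Matrix (Fin 2) (Fin 2) F) = !![0, t; -t⁻¹, 0] := by
  unfold W
  rw [Matrix.SpecialLinearGroup.coe_mul, Matrix.SpecialLinearGroup.coe_mul, coe_xs, coe_ys]
  ext i j
  fin_cases i <;> fin_cases j <;> simp [Matrix.mul_apply, Fin.sum_univ_two, ht]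

theorem coe_H {t : F} (ht : t ≠ 0) :
    ((H xs ys t : SpecialLinearGroup (Fin 2) F) : Matrix (Fin 2) (Fin 2) F) = !![t, 0; 0, t⁻¹] := by
  unfold H
  rw [Matrix.SpecialLinearGroup.coe_mul, coe_W ht, coe_W (by simp : (-1 : F) ≠ 0)]
  ext i j
  fin_cases i <;> fin_cases j <;> simp [Matrix.mul_apply, Fin.sum_univ_two]

theorem rel_sl2 : Rel (xs (F := F)) ys where
  X_add := xs_add
  Y_add := ys_add
  conj t ht u := by
    apply sl_ext
    rw [Matrix.SpecialLinearGroup.coe_mul, Matrix.SpecialLinearGroup.coe_mul, coe_W ht, coe_xs, coe_ys]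
    ext i j
    fin_cases i <;> fin_cases j <;> simp [Matrix.mul_apply, Fin.sum_univ_two]
    field_simp
  hmul t u ht hu := by
    apply sl_ext
    rw [Matrix.SpecialLinearGroup.coe_mul, coe_H ht, coe_H hu, coe_H (mul_ne_zero ht hu)]
    ext i j
    fin_cases i <;> fin_cases j <;> simp [Matrix.mul_apply, Fin.sum_univ_two, mul_comm]

/-- every element with nonzero lower left entry is a product of three elementary matrices -/
theorem eq_of_ne (g : SpecialLinearGroup (Fin 2) F) (hc : (g : Matrix (Fin 2) (Fin 2) F) 1 0 ≠ 0) :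
    g = xs (((g : Matrix (Fin 2) (Fin 2) F) 0 0 - 1) / (g : Matrix (Fin 2) (Fin 2) F) 1 0) *
      ys ((g : Matrix (Fin 2) (Fin 2) F) 1 0) *
      xs (((g : Matrix (Fin 2) (Fin 2) F) 1 1 - 1) / (g : Matrix (Fin 2) (Fin 2) F) 1 0) := by
  have hdet := g.2
  rw [det_fin_two] at hdet
  apply sl_ext
  rw [Matrix.SpecialLinearGroup.coe_mul, Matrix.SpecialLinearGroup.coe_mul, coe_xs, coe_ys, coe_xs]
  generalize (g : Matrix (Fin 2) (Fin 2) F) = M at hc hdet ⊢
  ext i j
  fin_cases i <;> fin_cases j <;> simp [Matrix.mul_apply, Fin.sum_univ_two]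
  · field_simp
    ring
  · field_simp
    linear_combination (-1 : F) * hdet
  · field_simp
    ring

theorem mem_closure_sl2 (g : SpecialLinearGroup (Fin 2) F) :
    g ∈ Subgroup.closure (Set.range (xs (F := F)) ∪ Set.range ys) := by
  have hx : ∀ t : F, xs t ∈ Subgroup.closure (Set.range (xs (F := F)) ∪ Set.range ys) :=
    fun t => Subgroup.subset_closure (Or.inl ⟨t, rfl⟩)
  have hy : ∀ t : F, ys t ∈ Subgroup.closure (Set.range (xs (F := F)) ∪ Set.range ys) :=
    fun t => Subgroup.subset_closure (Or.inr ⟨t, rfl⟩)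
  have key : ∀ g : SpecialLinearGroup (Fin 2) F, (g : Matrix (Fin 2) (Fin 2) F) 1 0 ≠ 0 →
      g ∈ Subgroup.closure (Set.range (xs (F := F)) ∪ Set.range ys) := by
    intro g hc
    rw [eq_of_ne g hc]
    exact mul_mem (mul_mem (hx _) (hy _)) (hx _)
  by_cases hc : (g : Matrix (Fin 2) (Fin 2) F) 1 0 = 0
  · have hdet := g.2
    rw [det_fin_two, hc, mul_zero, sub_zero] at hdet
    have ha : (g : Matrix (Fin 2) (Fin 2) F) 0 0 ≠ 0 := by
      intro h
      rw [h, zero_mul] at hdet
      exact zero_ne_one hdet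
    have h1 : ys 1 * g ∈ Subgroup.closure (Set.range (xs (F := F)) ∪ Set.range ys) := by
      apply key
      rw [Matrix.SpecialLinearGroup.coe_mul, coe_ys]
      simp [Matrix.mul_apply, Fin.sum_univ_two, hc, ha]
    have := mul_mem (inv_mem (hy 1)) h1
    rwa [inv_mul_cancel_left] at this
  · exact key g hc

end Cfsg.Agent.Lib.Helper8.SL2P
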