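import Cfsg.Agent.Lib.Helper8.SL2Pres3

set_option autoImplicit false

/-! # Steinberg's presentation of `SL₂(F)`: the homomorphism -/

namespace Cfsg.Agent.Lib.Helper8.SL2P

open Matrix

variable {F : Type*} [Field F] {Γ : Type*} [Group Γ]

theorem W_prod {Γ' : Type*} [Group Γ'] (X Y : F → Γ) (X' Y' : F → Γ') (t : F) :
    W (fun a => (X a, X' a)) (fun a => (Y a, Y' a)) t = (W X Y t, W X' Y' t) := rfl

theorem H_prod {Γ' : Type*} [Group Γ'] (X Y : F → Γ) (X' Y' : F → Γ') (t : F) :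
    H (fun a => (X a, X' a)) (fun a => (Y a, Y' a)) t = (H X Y t, H X' Y' t) := rfl

theorem nf1_eq_one {u a : F} (ha : a ≠ 0)
    (h : xs u * H xs ys a = (1 : SpecialLinearGroup (Fin 2) F)) : u = 0 ∧ a = 1 := by
  have h' := congrArg (fun g : SpecialLinearGroup (Fin 2) F => (g : Matrix (Fin 2) (Fin 2) F)) h
  simp only [Matrix.SpecialLinearGroup.coe_mul, coe_xs, coe_H ha,
    Matrix.SpecialLinearGroup.coe_one] at h'
  have h00 := congrFun (congrFun h' 0) 0
  have h01 := congrFun (congrFun h' 0) 1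
  simp [Matrix.mul_apply, Fin.sum_univ_two] at h00 h01
  refine ⟨?_, h00⟩
  rcases h01 with h | h
  · exact h
  · exact absurd h ha

theorem nf2_ne_one {u a v : F} (ha : a ≠ 0) :
    xs u * H xs ys a * W xs ys 1 * xs v ≠ (1 : SpecialLinearGroup (Fin 2) F) := by
  intro h
  have h' := congrArg (fun g : SpecialLinearGroup (Fin 2) F => (g : Matrix (Fin 2) (Fin 2) F)) h
  simp only [Matrix.SpecialLinearGroup.coe_mul, coe_xs, coe_H ha, coe_W (one_ne_zero : (1 : F) ≠ 0),
    Matrix.SpecialLinearGroup.coe_one] at h'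
  have h10 := congrFun (congrFun h' 1) 0
  simp [Matrix.mul_apply, Fin.sum_univ_two] at h10
  exact ha h10

/-- **Steinberg**: a pair of one-parameter subgroups satisfying the `SL₂`-relations is the image
of the elementary matrices under a homomorphism from `SL₂(F)` -/
theorem exists_hom {X Y : F → Γ} (R : Rel X Y) :
    ∃ φ : SpecialLinearGroup (Fin 2) F →* Γ, (∀ t, φ (xs t) = X t) ∧ (∀ t, φ (ys t) = Y t) ∧
      φ.range = Subgroup.closure (Set.range X ∪ Set.range Y) := by
  classical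
  let XX : F → SpecialLinearGroup (Fin 2) F × Γ := fun a => (xs a, X a)
  let YY : F → SpecialLinearGroup (Fin 2) F × Γ := fun a => (ys a, Y a)
  have RP : Rel XX YY := rel_sl2.prod R
  let K : Subgroup (SpecialLinearGroup (Fin 2) F × Γ) :=
    Subgroup.closure (Set.range XX ∪ Set.range YY)
  have hXK : ∀ t, XX t ∈ K := fun t => Subgroup.subset_closure (Or.inl ⟨t, rfl⟩)
  have hYK : ∀ t, YY t ∈ K := fun t => Subgroup.subset_closure (Or.inr ⟨t, rfl⟩)
  have key : ∀ k ∈ K, k.1 = 1 → k.2 = 1 := by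
    intro k hk h1
    rcases RP.nf_of_mem hk with ⟨u, a, ha, rfl⟩ | ⟨u, a, v, ha, rfl⟩
    · have e1 : (XX u * H XX YY a).1 = xs u * H xs ys a := rfl
      have e2 : (XX u * H XX YY a).2 = X u * H X Y a := rfl
      rw [e1] at h1
      obtain ⟨rfl, rfl⟩ := nf1_eq_one ha h1
      rw [e2, R.X_zero, R.H_one, one_mul]
    · exfalso
      have e1 : (XX u * H XX YY a * W XX YY 1 * XX v).1 =
          xs u * H xs ys a * W xs ys 1 * xs v := rfl
      rw [e1] at h1
      exact nf2_ne_one ha h1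
  have uniq : ∀ (g : SpecialLinearGroup (Fin 2) F) (γ γ' : Γ), (g, γ) ∈ K → (g, γ') ∈ K →
      γ = γ' := by
    intro g γ γ' h1 h2
    have h3 := K.mul_mem (K.inv_mem h1) h2
    rw [Prod.inv_mk, Prod.mk_mul_mk] at h3
    have h4 := key _ h3 (inv_mul_cancel g)
    exact inv_mul_eq_one.mp h4
  have surj : ∀ g : SpecialLinearGroup (Fin 2) F, ∃ γ : Γ, (g, γ) ∈ K := by
    intro g
    induction mem_closure_sl2 g using Subgroup.closure_induction with
    | mem x hx =>
      rcases hx with ⟨t, rfl⟩ | ⟨t, rfl⟩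
      · exact ⟨X t, hXK t⟩
      · exact ⟨Y t, hYK t⟩
    | one => exact ⟨1, K.one_mem⟩
    | mul x y _ _ ihx ihy =>
      obtain ⟨γ, hγ⟩ := ihx
      obtain ⟨γ', hγ'⟩ := ihy
      have := K.mul_mem hγ hγ'
      rw [Prod.mk_mul_mk] at this
      exact ⟨γ * γ', this⟩
    | inv x _ ih =>
      obtain ⟨γ, hγ⟩ := ih
      have := K.inv_mem hγ
      rw [Prod.inv_mk] at this
      exact ⟨γ⁻¹, this⟩
  choose f hf using surj
  have hmul : ∀ g g', f (g * g') = f g * f g' := by
    intro g g'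
    have := K.mul_mem (hf g) (hf g')
    rw [Prod.mk_mul_mk] at this
    exact uniq _ _ _ (hf (g * g')) this
  let φ : SpecialLinearGroup (Fin 2) F →* Γ := MonoidHom.mk' f hmul
  have hφ : ∀ g, φ g = f g := fun g => rfl
  have hx : ∀ t, φ (xs t) = X t := fun t => uniq _ _ _ (hf (xs t)) (hXK t)
  have hy : ∀ t, φ (ys t) = Y t := fun t => uniq _ _ _ (hf (ys t)) (hYK t)
  refine ⟨φ, hx, hy, le_antisymm ?_ ?_⟩
  · rintro _ ⟨g, rfl⟩
    have hK : ∀ k ∈ K, k.2 ∈ Subgroup.closure (Set.range X ∪ Set.range Y) := by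
      intro k hk
      induction hk using Subgroup.closure_induction with
      | mem x hx =>
        rcases hx with ⟨t, rfl⟩ | ⟨t, rfl⟩
        · exact Subgroup.subset_closure (Or.inl ⟨t, rfl⟩)
        · exact Subgroup.subset_closure (Or.inr ⟨t, rfl⟩)
      | one => exact Subgroup.one_mem _
      | mul x y _ _ ihx ihy => exact Subgroup.mul_mem _ ihx ihy
      | inv x _ ih => exact Subgroup.inv_mem _ ih
    exact hK _ (hf g)
  · rw [Subgroup.closure_le]
    rintro _ (⟨t, rfl⟩ | ⟨t, rfl⟩)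
    · exact ⟨xs t, hx t⟩
    · exact ⟨ys t, hy t⟩

end Cfsg.Agent.Lib.Helper8.SL2P
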