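import Mathlib
import Cfsg.Prelude.Def_GeometricClasses
import Cfsg.Agent.S0781
import Cfsg.Agent.Lib.Helper6.SUSimple
import Cfsg.Agent.Lib.Helper6.UnitaryCount
import Cfsg.Agent.Lib.Helper13.SUMax
import Cfsg.Agent.Lib.Helper13.SUNondeg

/-!
# SU corollary family, piece PU5 (helper8): `SU_n(q)` lies in no subfield subgroup of a proper subfield

`not_su_le_subfieldSubgroup` of `notes/SUCorSkel_helper9.lean.txt`, exact signature.

Every unitary transvection `t` is a commutator in `SU_n(q)` (S0781), so if `SU ≤ P (GL_n(F₀) F^*) P⁻¹` the scalars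
cancel and `P⁻¹ t P` has its entries in `F₀`; so does `P⁻¹ (ε N_v) P` (`N_v = v v^*`, `ε` of trace zero) for every isotropic
`v`, and products of such.  For a hyperbolic pair `x, y` and `v = m x + y + z` (`z ⊥ x, y` of norm `-(m + m^q)`):
`N_x N_v N_y = m^q N_x N_y` with `N_x N_y ≠ 0`, hence `ε m^q ∈ F₀` for every `m ∈ F`: `F₀ = F`.
-/

set_option autoImplicit false
set_option linter.unusedSectionVars false
set_option linter.unusedVariables false

namespace Cfsg.Agent.Lib.Helper8.SUCorPU5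

open Cfsg Cfsg.Geo Matrix Module
open Cfsg.Agent.Lib.Helper6 Cfsg.Agent.Lib.Helper6.SUG Cfsg.Agent.Lib.Helper13
open Cfsg.Agent.S0779 Cfsg.Agent.S0781

section general
variable {F : Type*} [Field F] {ι : Type} [Fintype ι] [DecidableEq ι]

/-- all entries in the subfield -/
def EntriesIn (F₀ : Subfield F) (M : Matrix ι ι F) : Prop := ∀ i j, M i j ∈ F₀

theorem EntriesIn.mul {F₀ : Subfield F} {M N : Matrix ι ι F} (hM : EntriesIn F₀ M) (hN : EntriesIn F₀ N) :
    EntriesIn F₀ (M * N) := by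
  intro i j
  rw [Matrix.mul_apply]
  exact F₀.sum_mem (fun k _ => F₀.mul_mem (hM i k) (hN k j))

theorem EntriesIn.sub {F₀ : Subfield F} {M N : Matrix ι ι F} (hM : EntriesIn F₀ M) (hN : EntriesIn F₀ N) :
    EntriesIn F₀ (M - N) := fun i j => F₀.sub_mem (hM i j) (hN i j)

theorem EntriesIn.one {F₀ : Subfield F} : EntriesIn F₀ (1 : Matrix ι ι F) := by
  intro i j
  rw [Matrix.one_apply]
  split_ifs
  · exact F₀.one_mem
  · exact F₀.zero_mem

/-- `P⁻¹ M P` has its entries in the subfield -/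
def Over (F₀ : Subfield F) (P : GL ι F) (M : Matrix ι ι F) : Prop :=
  EntriesIn F₀ (((P⁻¹ : GL ι F) : Matrix ι ι F) * M * (P : Matrix ι ι F))

theorem Over.mul {F₀ : Subfield F} {P : GL ι F} {M N : Matrix ι ι F} (hM : Over F₀ P M) (hN : Over F₀ P N) :
    Over F₀ P (M * N) := by
  unfold Over at *
  have h : ((P⁻¹ : GL ι F) : Matrix ι ι F) * (M * N) * (P : Matrix ι ι F) =
      (((P⁻¹ : GL ι F) : Matrix ι ι F) * M * (P : Matrix ι ι F)) *
        (((P⁻¹ : GL ι F) : Matrix ι ι F) * N * (P : Matrix ι ι F)) := by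
    have hPP : (P : Matrix ι ι F) * ((P⁻¹ : GL ι F) : Matrix ι ι F) = 1 := by
      rw [← Units.val_mul, mul_inv_cancel, Units.val_one]
    calc ((P⁻¹ : GL ι F) : Matrix ι ι F) * (M * N) * (P : Matrix ι ι F)
        = ((P⁻¹ : GL ι F) : Matrix ι ι F) * M * 1 * N * (P : Matrix ι ι F) := by
          rw [Matrix.mul_one]; simp only [Matrix.mul_assoc]
      _ = _ := by rw [← hPP]; simp only [Matrix.mul_assoc]
  rw [h]
  exact hM.mul hN

theorem Over.sub {F₀ : Subfield F} {P : GL ι F} {M N : Matrix ι ι F} (hM : Over F₀ P M) (hN : Over F₀ P N) :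
    Over F₀ P (M - N) := by
  unfold Over at *
  rw [Matrix.mul_sub, Matrix.sub_mul]
  exact EntriesIn.sub hM hN

theorem Over.one {F₀ : Subfield F} {P : GL ι F} : Over F₀ P (1 : Matrix ι ι F) := by
  unfold Over
  rw [Matrix.mul_one, ← Units.val_mul, inv_mul_cancel, Units.val_one]
  exact EntriesIn.one

/-- the ratio lemma: `M ≠ 0` and `β • M` both over `F₀` force `β ∈ F₀` -/
theorem Over.ratio {F₀ : Subfield F} {P : GL ι F} {M : Matrix ι ι F} (hM : Over F₀ P M) (hM0 : M ≠ 0)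
    (β : F) (hβ : Over F₀ P (β • M)) : β ∈ F₀ := by
  unfold Over at *
  have hne : ((P⁻¹ : GL ι F) : Matrix ι ι F) * M * (P : Matrix ι ι F) ≠ 0 := by
    intro h0
    apply hM0
    have h1 : M = (P : Matrix ι ι F) * (((P⁻¹ : GL ι F) : Matrix ι ι F) * M * (P : Matrix ι ι F)) *
        ((P⁻¹ : GL ι F) : Matrix ι ι F) := by
      rw [← Matrix.mul_assoc, ← Matrix.mul_assoc, ← Units.val_mul, mul_inv_cancel, Units.val_one,
        Matrix.one_mul, Matrix.mul_assoc, ← Units.val_mul, mul_inv_cancel, Units.val_one, Matrix.mul_one]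
    rw [h1, h0, Matrix.mul_zero, Matrix.zero_mul]
  obtain ⟨i, j, hij⟩ : ∃ i j, (((P⁻¹ : GL ι F) : Matrix ι ι F) * M * (P : Matrix ι ι F)) i j ≠ 0 := by
    by_contra hcon
    push Not at hcon
    apply hne
    ext i j
    exact hcon i j
  have h1 := hβ i j
  rw [Matrix.mul_smul, Matrix.smul_mul, Matrix.smul_apply, smul_eq_mul] at h1
  have h2 := hM i j
  have h3 : β = (β * (((P⁻¹ : GL ι F) : Matrix ι ι F) * M * (P : Matrix ι ι F)) i j) *
      ((((P⁻¹ : GL ι F) : Matrix ι ι F) * M * (P : Matrix ι ι F)) i j)⁻¹ := by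
    field_simp
  rw [h3]
  exact F₀.mul_mem h1 (F₀.inv_mem h2)

/-- the shape of the elements of a subfield subgroup -/
theorem exists_smul_of_mem [Nonempty ι] (F₀ : Subfield F) (P g : GL ι F) (hg : g ∈ subfieldSubgroup F₀ P) :
    ∃ (c c' : F) (A A' : Matrix ι ι F), c * c' = 1 ∧ EntriesIn F₀ A ∧ EntriesIn F₀ A' ∧
      ((P⁻¹ : GL ι F) : Matrix ι ι F) * (g : Matrix ι ι F) * (P : Matrix ι ι F) = c • A ∧
      ((P⁻¹ : GL ι F) : Matrix ι ι F) * ((g⁻¹ : GL ι F) : Matrix ι ι F) * (P : Matrix ι ι F) = c' • A' := by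
  unfold subfieldSubgroup at hg
  rw [Subgroup.mem_map] at hg
  obtain ⟨x, hx, rfl⟩ := hg
  have e1 : P⁻¹ * (MulAut.conj P).toMonoidHom x * P = x := by
    rw [MulEquiv.coe_toMonoidHom, MulAut.conj_apply]
    group
  have e2 : P⁻¹ * ((MulAut.conj P).toMonoidHom x)⁻¹ * P = x⁻¹ := by
    rw [MulEquiv.coe_toMonoidHom, MulAut.conj_apply]
    group
  rw [Subgroup.mem_sup_of_normal_right] at hx
  obtain ⟨y, ⟨y₀, rfl⟩, z, hz, rfl⟩ := hx
  obtain ⟨c, hc⟩ := (mem_scalars_iff z).1 hz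
  obtain ⟨c', hc'⟩ := (mem_scalars_iff z⁻¹).1 ((scalars ι F).inv_mem hz)
  have hcc : (c : F) * (c' : F) = 1 := by
    have h1 : (z : Matrix ι ι F) * ((z⁻¹ : GL ι F) : Matrix ι ι F) = 1 := by
      rw [← Units.val_mul, mul_inv_cancel, Units.val_one]
    rw [hc, hc', Matrix.smul_mul, Matrix.mul_smul, Matrix.one_mul, smul_smul] at h1
    have i : ι := Classical.arbitrary ι
    have h2 := congrFun (congrFun h1 i) i
    rw [Matrix.smul_apply, Matrix.one_apply_eq, smul_eq_mul, mul_one] at h2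
    exact h2
  refine ⟨c, c', (Matrix.GeneralLinearGroup.map (F₀.subtype : F₀ →+* F) y₀ : GL ι F),
    ((Matrix.GeneralLinearGroup.map (F₀.subtype : F₀ →+* F) y₀)⁻¹ : GL ι F), hcc, ?_, ?_, ?_, ?_⟩
  · intro i j
    rw [Matrix.GeneralLinearGroup.map_apply]
    exact SetLike.coe_mem _
  · intro i j
    rw [← map_inv, Matrix.GeneralLinearGroup.map_apply]
    exact SetLike.coe_mem _
  · rw [← Units.val_mul, ← Units.val_mul, e1, Units.val_mul, hc, Matrix.mul_smul, Matrix.mul_one]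
  · rw [← Units.val_mul, ← Units.val_mul, e2, _root_.mul_inv_rev, Units.val_mul, hc', Matrix.smul_mul,
      Matrix.one_mul]

end general

section su
variable {F : Type*} [Field F] [Fintype F] {n q : ℕ}

local notation "hh" => Cfsg.hermForm n F q

/-- the rank one matrix `v v^*` -/
def Nm (q : ℕ) (v : Fin n → F) : Matrix (Fin n) (Fin n) F := vecMulVec v (fun j => v j ^ q)

theorem transvection_eq (v : Fin n → F) (c : F) : Cfsg.unitaryTransvection n q v c = 1 + c • Nm q v := rfl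

theorem Nm_mulVec (v w : Fin n → F) : Nm q v *ᵥ w = hh w v • v := by
  have h := transvection_mulVec (q := q) v 1 w
  rw [transvection_eq, one_smul, one_mul, Matrix.add_mulVec, Matrix.one_mulVec] at h
  exact add_left_cancel h

/-- every unitary transvection is over `F₀` (it is a commutator, so the scalars cancel) -/
theorem over_transvection (hF : Fintype.card F = q ^ 2) (hn : 3 ≤ n) (hex : ¬ (n = 3 ∧ q = 2))
    (F₀ : Subfield F) (P : GL (Fin n) F)
    (hle : GU n F q ⊓ specialLinear (Fin n) F ≤ subfieldSubgroup F₀ P)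
    (v : Fin n → F) (c : F) (hvv : hh v v = 0) (hc : c ^ q = -c) :
    Over F₀ P (Cfsg.unitaryTransvection n q v c) := by
  have hq2 := two_le_q hF
  have hn' : 4 ≤ n ∨ (n = 3 ∧ 3 ≤ q) := by
    by_cases h4 : 4 ≤ n
    · exact Or.inl h4
    · have h3 : n = 3 := by omega
      refine Or.inr ⟨h3, ?_⟩
      by_contra hq3
      exact hex ⟨h3, by omega⟩
  have : Nonempty (Fin n) := ⟨⟨0, by omega⟩⟩
  obtain ⟨B, C, hBC⟩ := Cfsg.Agent.S0781.result hF n hn' (tv hF v c hvv hc) v c hvv rfl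
  obtain ⟨c₁, c₁', A₁, A₁', h11, hA₁, hA₁', e₁, e₁'⟩ :=
    exists_smul_of_mem F₀ P _ (hle (suGL_mem B))
  obtain ⟨c₂, c₂', A₂, A₂', h22, hA₂, hA₂', e₂, e₂'⟩ :=
    exists_smul_of_mem F₀ P _ (hle (suGL_mem C))
  have hgl : suGL n F q (tv hF v c hvv hc) =
      suGL n F q B * suGL n F q C * (suGL n F q B)⁻¹ * (suGL n F q C)⁻¹ := by
    rw [← hBC, commutatorElement_def, map_mul, map_mul, map_mul, map_inv, map_inv]
  have hmat : Cfsg.unitaryTransvection n q v c =
      (suGL n F q B : Matrix (Fin n) (Fin n) F) * (suGL n F q C : Matrix (Fin n) (Fin n) F) *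
        (((suGL n F q B)⁻¹ : GL (Fin n) F) : Matrix (Fin n) (Fin n) F) *
        (((suGL n F q C)⁻¹ : GL (Fin n) F) : Matrix (Fin n) (Fin n) F) := by
    have h2 := congrArg (fun g : GL (Fin n) F => (g : Matrix (Fin n) (Fin n) F)) hgl
    simp only [Units.val_mul] at h2
    rw [← h2]
    rfl
  have hPP : (P : Matrix (Fin n) (Fin n) F) * ((P⁻¹ : GL (Fin n) F) : Matrix (Fin n) (Fin n) F) = 1 := by
    rw [← Units.val_mul, mul_inv_cancel, Units.val_one]
  have hsplit : ∀ a b c d : Matrix (Fin n) (Fin n) F,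
      ((P⁻¹ : GL (Fin n) F) : Matrix (Fin n) (Fin n) F) * (a * b * c * d) * (P : Matrix (Fin n) (Fin n) F) =
      (((P⁻¹ : GL (Fin n) F) : Matrix (Fin n) (Fin n) F) * a * (P : Matrix (Fin n) (Fin n) F)) *
      (((P⁻¹ : GL (Fin n) F) : Matrix (Fin n) (Fin n) F) * b * (P : Matrix (Fin n) (Fin n) F)) *
      (((P⁻¹ : GL (Fin n) F) : Matrix (Fin n) (Fin n) F) * c * (P : Matrix (Fin n) (Fin n) F)) *
      (((P⁻¹ : GL (Fin n) F) : Matrix (Fin n) (Fin n) F) * d * (P : Matrix (Fin n) (Fin n) F)) := by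
    intro a b c d
    calc ((P⁻¹ : GL (Fin n) F) : Matrix (Fin n) (Fin n) F) * (a * b * c * d) * (P : Matrix (Fin n) (Fin n) F)
        = ((P⁻¹ : GL (Fin n) F) : Matrix (Fin n) (Fin n) F) * a * 1 * b * 1 * c * 1 * d *
            (P : Matrix (Fin n) (Fin n) F) := by
          simp only [Matrix.mul_one, Matrix.mul_assoc]
      _ = _ := by rw [← hPP]; simp only [Matrix.mul_assoc]
  unfold Over
  rw [hmat, hsplit, e₁, e₂, e₁', e₂']
  have hfin : c₁ • A₁ * c₂ • A₂ * c₁' • A₁' * c₂' • A₂' = A₁ * A₂ * A₁' * A₂' := by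
    simp only [Matrix.smul_mul, Matrix.mul_smul, smul_smul]
    have : c₂' * (c₁' * (c₂ * c₁)) = 1 := by
      calc c₂' * (c₁' * (c₂ * c₁)) = (c₁ * c₁') * (c₂ * c₂') := by ring
        _ = 1 := by rw [h11, h22, one_mul]
    rw [this, one_smul]
  rw [hfin]
  exact ((hA₁.mul hA₂).mul hA₁').mul hA₂'

theorem smulNm_mulVec (c : F) (v w : Fin n → F) : (c • Nm q v) *ᵥ w = (c * hh w v) • v := by
  rw [Matrix.smul_mulVec, Nm_mulVec, smul_smul]

theorem over_smul_Nm (hF : Fintype.card F = q ^ 2) (hn : 3 ≤ n) (hex : ¬ (n = 3 ∧ q = 2))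
    (F₀ : Subfield F) (P : GL (Fin n) F)
    (hle : GU n F q ⊓ specialLinear (Fin n) F ≤ subfieldSubgroup F₀ P)
    (v : Fin n → F) (c : F) (hvv : hh v v = 0) (hc : c ^ q = -c) : Over F₀ P (c • Nm q v) := by
  have h := (over_transvection hF hn hex F₀ P hle v c hvv hc).sub Over.one
  rwa [transvection_eq, add_sub_cancel_left] at h

/-- **PU5** `SU_n(q)` lies in no subfield subgroup of a proper subfield -/
theorem not_su_le_subfieldSubgroup (hF : Fintype.card F = q ^ 2) (hn : 3 ≤ n) (hex : ¬ (n = 3 ∧ q = 2))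
    (F₀ : Subfield F) (h : F₀ ≠ ⊤) (P : GL (Fin n) F) :
    ¬ GU n F q ⊓ specialLinear (Fin n) F ≤ subfieldSubgroup F₀ P := by
  intro hle
  apply h
  have hq0 := q_pos hF
  obtain ⟨ε, hε0, hε⟩ := exists_trace_zero hF
  have hU := SUND.hB_isU (n := n) hF
  obtain ⟨x, -, hx0, hxx'⟩ := UND.exists_iso_in hU ⊤ (by
    rw [finrank_top, Module.finrank_fin_fun]; omega)
  have hxx : hh x x = 0 := hxx'
  obtain ⟨y, hyx, hxy, hyy⟩ := exists_herm_partner hF x hx0 hxx
  have hS : NDOn (SUND.hB n hF) (UND.cutS (SUND.hB n hF) ⊤ {x, y}) :=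
    UND.ndOn_cut_hyp hU ⊤ hU.ndOn_top x y Submodule.mem_top Submodule.mem_top hxx hyy hxy
  obtain ⟨s₀, -, hs₀0, hs₀⟩ := UND.exists_ne_zero_cut (B := SUND.hB n hF) ⊤ 2 ![x, y] (by
    rw [finrank_top, Module.finrank_fin_fun]; omega)
  have hs₀S : s₀ ∈ UND.cutS (SUND.hB n hF) ⊤ {x, y} := by
    refine ⟨Submodule.mem_top, fun t ht => ?_⟩
    rw [Set.mem_insert_iff, Set.mem_singleton_iff] at ht
    rcases ht with rfl | rfl
    · simpa using hs₀ 0
    · simpa using hs₀ 1
  have key : ∀ m : F, ε * m ^ q ∈ F₀ := by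
    intro m
    obtain ⟨z, hzx, hzy, hzz⟩ : ∃ z : Fin n → F, hh z x = 0 ∧ hh z y = 0 ∧ hh z z = -(m + m ^ q) := by
      by_cases hs : -(m + m ^ q) = 0
      · exact ⟨0, herm_zero_left _, herm_zero_left _, by rw [herm_zero_left, hs]⟩
      · have hfix : conjQ hF (-(m + m ^ q)) = -(m + m ^ q) := by
          rw [conjQ_apply, neg_pow_q hF, add_pow_q hF, pow_q_q hF, add_comm]
        obtain ⟨z, hzS, hzz⟩ := UND.exists_norm_in hU _ hS s₀ hs₀S hs₀0 (-(m + m ^ q)) hs hfix
        exact ⟨z, hzS.2 x (by simp), hzS.2 y (by simp), hzz⟩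
    have hxz : hh x z = 0 := by rw [← herm_conj hF z x, hzx, zero_pow hq0.ne']
    have hyz : hh y z = 0 := by rw [← herm_conj hF z y, hzy, zero_pow hq0.ne']
    have hvx : hh (m • x + y + z) x = 1 := by
      rw [herm_add_left, herm_add_left, herm_smul_left, hxx, hyx, hzx]; ring
    have hyv : hh y (m • x + y + z) = m ^ q := by
      rw [herm_add_right hF, herm_add_right hF, herm_smul_right, hyx, hyy, hyz]; ring
    have hxv : hh x (m • x + y + z) = 1 := by
      rw [herm_add_right hF, herm_add_right hF, herm_smul_right, hxx, hxy, hxz]; ring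
    have hzv : hh z (m • x + y + z) = -(m + m ^ q) := by
      rw [herm_add_right hF, herm_add_right hF, herm_smul_right, hzx, hzy, hzz]; ring
    have hvv : hh (m • x + y + z) (m • x + y + z) = 0 := by
      rw [herm_add_left, herm_add_left, herm_smul_left, hxv, hyv, hzv]; ring
    have hNx := over_smul_Nm hF hn hex F₀ P hle x ε hxx hε
    have hNv := over_smul_Nm hF hn hex F₀ P hle (m • x + y + z) ε hvv hε
    have hNy := over_smul_Nm hF hn hex F₀ P hle y ε hyy hε
    have hprod3 : (ε • Nm q x) * (ε • Nm q (m • x + y + z)) * (ε • Nm q y) =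
        (ε * m ^ q) • ((ε • Nm q x) * (ε • Nm q y)) := by
      apply mat_ext
      intro w
      rw [Matrix.smul_mulVec, ← Matrix.mulVec_mulVec, ← Matrix.mulVec_mulVec, ← Matrix.mulVec_mulVec,
        smulNm_mulVec ε y w, Matrix.mulVec_smul, Matrix.mulVec_smul, Matrix.mulVec_smul,
        smulNm_mulVec ε (m • x + y + z) y, Matrix.mulVec_smul, smulNm_mulVec ε x (m • x + y + z),
        smulNm_mulVec ε x y, hyv, hvx, hyx]
      module
    have hne : (ε • Nm q x) * (ε • Nm q y) ≠ 0 := by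
      intro h0
      have h1 := congrArg (fun M : Matrix (Fin n) (Fin n) F => M *ᵥ x) h0
      simp only [Matrix.zero_mulVec] at h1
      rw [← Matrix.mulVec_mulVec, smulNm_mulVec ε y x, Matrix.mulVec_smul, smulNm_mulVec ε x y, hxy, hyx,
        mul_one, smul_smul] at h1
      rcases smul_eq_zero.1 h1 with h2 | h2
      · exact hε0 (mul_self_eq_zero.1 h2)
      · exact hx0 h2
    have h3 := (hNx.mul hNv).mul hNy
    rw [hprod3] at h3
    exact Over.ratio (hNx.mul hNy) hne _ h3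
  rw [eq_top_iff]
  intro t _
  have h1 := key ((t / ε) ^ q)
  rw [pow_q_q hF, mul_div_cancel₀ _ hε0] at h1
  exact h1

end su

end Cfsg.Agent.Lib.Helper8.SUCorPU5
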