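import Cfsg.Agent.Lib.Helper16.StCCB.Defs

/-!
# S2398 / S2100 (helper14's farm, Part B of helper16), helper8: piece [B0] `wt_commTerms` (spare)

The weight `wt D m` is additive along chains (`IsWt`), so the root `i r + j s` of a term of the commutator formula has weight
`i wt(r) + j wt(s)`.
-/

set_option autoImplicit false

namespace Cfsg.Agent.Lib.Helper14.StCC.B

open Cfsg.Lie Cfsg.Agent.Lib.Helper8.Chev

namespace Helper8

variable {D : ChevalleyDatum}

theorem chainRoot_wt_exact {a : ℕ → ℤ} (ha : IsWt D a) {r s i q : ℕ} (hr : r < D.nroots)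
    (hs : s < D.nroots) (hi : 1 ≤ i) (h : D.chainRoot r s i = some q) : a q = a s + (i : ℤ) * a r := by
  obtain ⟨M, hM⟩ := chainRoot_spec h
  have hz : ((q, M), i - 1) ∈ (D.chainEntry r s).zipIdx := by
    rw [List.mem_zipIdx_iff_getElem?]
    exact hM
  have := ha.2 r hr s hs ((q, M), i - 1) hz
  simp only [] at this
  rw [this]
  have : ((i - 1 : ℕ) : ℤ) + 1 = (i : ℤ) := by omega
  rw [this]

theorem isWt_wt (hD : D ∈ [chevG2, chevB2, chevD4, chevF4, chevE6, chevE7, chevE8]) (m : ℕ → ℤ) :
    IsWt D (wt D m) := by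
  have J := validJ_of_mem hD
  have H := validH_of_mem hD
  exact isWt_sum m D.rank (fun i _ => isWt_aco J.V J.T H.hsz H.wt (D.simple i))

/-- the exponents of the terms of the commutator formula -/
theorem wt_commTerms_of_isWt (V : Valid0 D) {a : ℕ → ℤ} (ha : IsWt D a) {r s : ℕ} (hr : r < D.nroots)
    (hs : s < D.nroots) {c : ℕ × ℤ × ℕ × ℕ} (hc : c ∈ D.commTerms r s) :
    a c.1 = (c.2.2.1 : ℤ) * a r + (c.2.2.2 : ℤ) * a s := by
  unfold ChevalleyDatum.commTerms at hc
  simp only [List.mem_filterMap, List.mem_cons, List.not_mem_nil, or_false] at hc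
  obtain ⟨cand, hcand, hmap⟩ := hc
  have key : ∃ k, cand.1 = some k ∧ c = (k, cand.2) := by
    cases h : cand.1 with
    | none => rw [h] at hmap; simp at hmap
    | some k =>
      rw [h] at hmap
      simp only [Option.map_some, Option.some.injEq] at hmap
      exact ⟨k, rfl, hmap.symm⟩
  obtain ⟨k, hk, rfl⟩ := key
  rcases hcand with rfl | rfl | rfl | rfl | rfl | rfl | rfl
  · have := chainRoot_wt_exact ha hr hs (by norm_num) hk
    simp only [] at this ⊢
    rw [this]; push_cast; ring
  · have := chainRoot_wt_exact ha hr hs (by norm_num) hk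
    simp only [] at this ⊢
    rw [this]; push_cast; ring
  · have := chainRoot_wt_exact ha hs hr (by norm_num) hk
    simp only [] at this ⊢
    rw [this]; push_cast; ring
  · have := chainRoot_wt_exact ha hr hs (by norm_num) hk
    simp only [] at this ⊢
    rw [this]; push_cast; ring
  · have := chainRoot_wt_exact ha hs hr (by norm_num) hk
    simp only [] at this ⊢
    rw [this]; push_cast; ring
  · simp only [] at hk
    cases h3 : D.chainRoot r s 3 with
    | none => rw [h3] at hk; simp at hk
    | some k3 =>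
      rw [h3] at hk
      simp only [Option.bind_some] at hk
      have e3 := chainRoot_wt_exact ha hr hs (by norm_num) h3
      have hk3 : k3 < D.nroots := (chainRoot_wt V ha hr hs h3).1
      have e := chainRoot_wt_exact ha hk3 hs (by norm_num) hk
      simp only [] at e ⊢
      rw [e, e3]; push_cast; ring
  · simp only [] at hk
    cases h3 : D.chainRoot s r 3 with
    | none => rw [h3] at hk; simp at hk
    | some k3 =>
      rw [h3] at hk
      simp only [Option.bind_some] at hk
      have e3 := chainRoot_wt_exact ha hs hr (by norm_num) h3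
      have hk3 : k3 < D.nroots := (chainRoot_wt V ha hs hr h3).1
      have e := chainRoot_wt_exact ha hk3 hr (by norm_num) hk
      simp only [] at e ⊢
      rw [e, e3]; push_cast; ring

/-- [B0] (spare of helper8; same statement as the skeleton's `wt_commTerms`) -/
theorem wt_commTerms_helper8 (hD : D ∈ [chevG2, chevB2, chevD4, chevF4, chevE6, chevE7, chevE8])
    (m : ℕ → ℤ) {r s : ℕ} (hr : r < D.nroots) (hs : s < D.nroots) (h1 : s ≠ r) (h2 : s ≠ D.neg r)
    {c : ℕ × ℤ × ℕ × ℕ} (hc : c ∈ D.commTerms r s) :
    c.1 < D.nroots ∧ wt D m c.1 = (c.2.2.1 : ℤ) * wt D m r + (c.2.2.2 : ℤ) * wt D m s := by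
  have _ := h1
  have _ := h2
  have V := valid0_of_mem hD
  exact ⟨commTerms_lt V hr hs c hc, wt_commTerms_of_isWt V (isWt_wt hD m) hr hs hc⟩

end Helper8

end Cfsg.Agent.Lib.Helper14.StCC.B
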