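import Mathlib

set_option autoImplicit false

/-! Combinatorics of a finite reflection group acting on its root system: lengths as numbers of
inversions, and the factorisation along a parabolic subgroup. -/

namespace Cfsg.Agent.Lib.Helper8.Weyl

open Finset

/-- combinatorial data of a root system with its fundamental reflections: `n` roots (the second
half of them positive), `l` fundamental roots `p i` with reflections `s i`, the negation `ng`,
coordinates `c` (of the coroots) and the matrix `A` describing the reflections on them -/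
structure WData where
  n : ℕ
  l : ℕ
  s : Fin l → Equiv.Perm (Fin n)
  p : Fin l → Fin n
  ng : Fin n → Fin n
  c : Fin n → Fin l → ℤ
  A : Fin l → Fin l → ℤ

namespace WData

variable (X : WData)

/-- positive roots -/
def pos (r : Fin X.n) : Prop := X.n / 2 ≤ r.val

instance : DecidablePred X.pos := fun r => Nat.decLe _ _

/-- the axioms -/
structure Ok : Prop where
  s_invol : ∀ i r, X.s i (X.s i r) = r
  s_ng : ∀ i r, X.s i (X.ng r) = X.ng (X.s i r)
  pos_ng : ∀ r, X.pos (X.ng r) ↔ ¬ X.pos r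
  s_p : ∀ i, X.s i (X.p i) = X.ng (X.p i)
  s_pos : ∀ i r, X.pos r → r ≠ X.p i → X.pos (X.s i r)
  p_pos : ∀ i, X.pos (X.p i)
  c_ng : ∀ r k, X.c (X.ng r) k = - X.c r k
  c_pos : ∀ r k, X.pos r → 0 ≤ X.c r k
  c_p : ∀ i k, X.c (X.p i) k = if k = i then 1 else 0
  c_s : ∀ i r k, X.c (X.s i r) k = X.c r k - if k = i then ∑ j, X.c r j * X.A j i else 0
  c_inj : ∀ r r', X.c r = X.c r' → r = r'
  triv : ∀ w ∈ Subgroup.closure (Set.range X.s), (∀ r, X.pos r → X.pos (w r)) → w = 1

/-- the parabolic subgroup of the reflection group -/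
def WJ (J : Set (Fin X.l)) : Subgroup (Equiv.Perm (Fin X.n)) := Subgroup.closure (X.s '' J)

/-- the inversions of `w` -/
def inv (w : Equiv.Perm (Fin X.n)) : Finset (Fin X.n) :=
  univ.filter fun r => X.pos r ∧ ¬ X.pos (w r)

/-- the number of inversions -/
def len (w : Equiv.Perm (Fin X.n)) : ℕ := (X.inv w).card

/-- linearity on the coordinates -/
def Lin (w : Equiv.Perm (Fin X.n)) : Prop :=
  ∀ r k, X.c (w r) k = ∑ j, X.c r j * X.c (w (X.p j)) k

/-- roots of the subsystem -/
def inJ (J : Set (Fin X.l)) (r : Fin X.n) : Prop := ∀ k, k ∉ J → X.c r k = 0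

variable {X}

theorem mem_inv {w : Equiv.Perm (Fin X.n)} {r : Fin X.n} :
    r ∈ X.inv w ↔ X.pos r ∧ ¬ X.pos (w r) := by
  simp [inv]

theorem s_mem {J : Set (Fin X.l)} {i : Fin X.l} (hi : i ∈ J) : X.s i ∈ X.WJ J :=
  Subgroup.subset_closure ⟨i, hi, rfl⟩

theorem WJ_mono {J K : Set (Fin X.l)} (h : J ⊆ K) : X.WJ J ≤ X.WJ K :=
  Subgroup.closure_mono (Set.image_mono h)

theorem WJ_le_top (J : Set (Fin X.l)) : X.WJ J ≤ Subgroup.closure (Set.range X.s) :=
  Subgroup.closure_mono (Set.image_subset_range _ _)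

theorem WJ_univ : X.WJ Set.univ = Subgroup.closure (Set.range X.s) := by
  unfold WJ
  rw [Set.image_univ]

section

variable (hX : X.Ok)
include hX

theorem s_mul_s (i : Fin X.l) : X.s i * X.s i = 1 := by
  ext r
  simp [hX.s_invol]

theorem s_inv (i : Fin X.l) : (X.s i)⁻¹ = X.s i := by
  rw [inv_eq_iff_mul_eq_one]
  exact s_mul_s hX i

theorem WJ_induction_left {J : Set (Fin X.l)} {P : Equiv.Perm (Fin X.n) → Prop} (h1 : P 1)
    (hs : ∀ i ∈ J, ∀ y ∈ X.WJ J, P y → P (X.s i * y)) {w : Equiv.Perm (Fin X.n)}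
    (hw : w ∈ X.WJ J) : P w := by
  unfold WJ at hw
  induction hw using Subgroup.closure_induction_left with
  | one => exact h1
  | mul_left x hx y hy ih =>
    obtain ⟨i, hi, rfl⟩ := hx
    exact hs i hi y hy ih
  | inv_mul_cancel x hx y hy ih =>
    obtain ⟨i, hi, rfl⟩ := hx
    rw [s_inv hX]
    exact hs i hi y hy ih

theorem WJ_induction_right {J : Set (Fin X.l)} {P : Equiv.Perm (Fin X.n) → Prop} (h1 : P 1)
    (hs : ∀ i ∈ J, ∀ y ∈ X.WJ J, P y → P (y * X.s i)) {w : Equiv.Perm (Fin X.n)}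
    (hw : w ∈ X.WJ J) : P w := by
  unfold WJ at hw
  induction hw using Subgroup.closure_induction_right with
  | one => exact h1
  | mul_right x hx y hy ih =>
    obtain ⟨i, hi, rfl⟩ := hy
    exact hs i hi x hx ih
  | mul_inv_cancel x hx y hy ih =>
    obtain ⟨i, hi, rfl⟩ := hy
    rw [s_inv hX]
    exact hs i hi x hx ih

theorem w_ng {J : Set (Fin X.l)} {w : Equiv.Perm (Fin X.n)} (hw : w ∈ X.WJ J) :
    ∀ r, w (X.ng r) = X.ng (w r) := by
  refine WJ_induction_left hX (P := fun w => ∀ r, w (X.ng r) = X.ng (w r)) ?_ ?_ hw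
  · intro r; rfl
  · intro i hi y hy ih r
    rw [Equiv.Perm.mul_apply, Equiv.Perm.mul_apply, ih, hX.s_ng]

/-! ### multiplying by a fundamental reflection changes the length by one -/

theorem erase_inv_mul_s (w : Equiv.Perm (Fin X.n)) (j : Fin X.l) :
    (X.inv (w * X.s j)).erase (X.p j) = ((X.inv w).erase (X.p j)).image (X.s j) := by
  ext r
  simp only [mem_erase, mem_image, mem_inv, Equiv.Perm.mul_apply]
  constructor
  · rintro ⟨hne, hpos, hnp⟩
    refine ⟨X.s j r, ⟨?_, hX.s_pos j r hpos hne, hnp⟩, hX.s_invol j r⟩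
    intro h
    have : r = X.ng (X.p j) := by rw [← hX.s_p j, ← h, hX.s_invol]
    rw [this] at hpos
    exact (hX.pos_ng _).mp hpos (hX.p_pos j)
  · rintro ⟨r', ⟨hne', hpos', hnp'⟩, rfl⟩
    refine ⟨?_, hX.s_pos j r' hpos' hne', ?_⟩
    · intro h
      have : r' = X.ng (X.p j) := by rw [← hX.s_p j, ← h, hX.s_invol]
      rw [this] at hpos'
      exact (hX.pos_ng _).mp hpos' (hX.p_pos j)
    · rw [hX.s_invol]
      exact hnp'

theorem p_mem_inv (w : Equiv.Perm (Fin X.n)) (j : Fin X.l) :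
    X.p j ∈ X.inv w ↔ ¬ X.pos (w (X.p j)) := by
  rw [mem_inv]
  exact and_iff_right (hX.p_pos j)

theorem p_mem_inv_mul_s (w : Equiv.Perm (Fin X.n)) (hwn : ∀ r, w (X.ng r) = X.ng (w r))
    (j : Fin X.l) : X.p j ∈ X.inv (w * X.s j) ↔ X.pos (w (X.p j)) := by
  rw [mem_inv, Equiv.Perm.mul_apply, hX.s_p, hwn, hX.pos_ng, not_not]
  exact and_iff_right (hX.p_pos j)

theorem len_mul_s (w : Equiv.Perm (Fin X.n)) (hwn : ∀ r, w (X.ng r) = X.ng (w r))
    (j : Fin X.l) :
    (X.pos (w (X.p j)) → X.len (w * X.s j) = X.len w + 1) ∧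
      (¬ X.pos (w (X.p j)) → X.len (w * X.s j) + 1 = X.len w) := by
  have hcard : ((X.inv (w * X.s j)).erase (X.p j)).card = ((X.inv w).erase (X.p j)).card := by
    rw [erase_inv_mul_s hX, card_image_of_injective _ (X.s j).injective]
  constructor
  · intro h
    have h1 : X.p j ∈ X.inv (w * X.s j) := (p_mem_inv_mul_s hX w hwn j).mpr h
    have h2 : X.p j ∉ X.inv w := fun hh => (p_mem_inv hX w j).mp hh h
    unfold len
    rw [← card_erase_add_one h1, hcard, erase_eq_of_notMem h2]
  · intro h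
    have h1 : X.p j ∉ X.inv (w * X.s j) := fun hh => h ((p_mem_inv_mul_s hX w hwn j).mp hh)
    have h2 : X.p j ∈ X.inv w := (p_mem_inv hX w j).mpr h
    unfold len
    rw [← card_erase_add_one h2, ← hcard, erase_eq_of_notMem h1]

/-! ### linearity -/

theorem lin_one : X.Lin 1 := by
  intro r k
  simp [hX.c_p]

theorem lin_s_mul (i : Fin X.l) (y : Equiv.Perm (Fin X.n)) (hy : X.Lin y) : X.Lin (X.s i * y) := by
  intro r k
  simp only [Equiv.Perm.mul_apply]
  rw [hX.c_s]
  have hk : ∀ j, X.c (X.s i (y (X.p j))) k =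
      X.c (y (X.p j)) k - if k = i then ∑ m, X.c (y (X.p j)) m * X.A m i else 0 :=
    fun j => hX.c_s i _ k
  simp only [hk]
  by_cases hki : k = i
  · simp only [if_pos hki]
    have h2 : ∑ m, X.c (y r) m * X.A m i =
        ∑ j, X.c r j * ∑ m, X.c (y (X.p j)) m * X.A m i := by
      simp only [hy r, Finset.sum_mul, Finset.mul_sum]
      rw [Finset.sum_comm]
      apply Finset.sum_congr rfl
      intro j _
      apply Finset.sum_congr rfl
      intro m _
      ring
    rw [h2, hy r k, ← Finset.sum_sub_distrib]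
    apply Finset.sum_congr rfl
    intro j _
    ring
  · simp only [if_neg hki, sub_zero]
    exact hy r k

theorem lin_of_mem {J : Set (Fin X.l)} {w : Equiv.Perm (Fin X.n)} (hw : w ∈ X.WJ J) :
    X.Lin w := by
  refine WJ_induction_left hX (P := fun w => X.Lin w) ?_ ?_ hw
  · exact lin_one hX
  · intro i hi y hy ih
    exact lin_s_mul hX i y ih

/-- elements of the reflection group are determined by the images of the fundamental roots -/
theorem lin_det {w w' : Equiv.Perm (Fin X.n)} (hw : X.Lin w) (hw' : X.Lin w')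
    (h : ∀ j, w (X.p j) = w' (X.p j)) : w = w' := by
  ext r
  congr 1
  apply hX.c_inj
  funext k
  rw [hw r k, hw' r k]
  apply Finset.sum_congr rfl
  intro j _
  rw [h j]

end

end WData

end Cfsg.Agent.Lib.Helper8.Weyl
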