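import Cfsg.Agent.Lib.Helper8.Weyl1

set_option autoImplicit false

/-! The factorisation of a reflection group along a parabolic subgroup, with additive lengths. -/

namespace Cfsg.Agent.Lib.Helper8.Weyl

open Finset

namespace WData

variable {X : WData}

theorem len_one : X.len 1 = 0 := by
  unfold len
  rw [card_eq_zero]
  ext r
  simp [mem_inv]

section

variable (hX : X.Ok)
include hX

theorem inJ_p {J : Set (Fin X.l)} {j : Fin X.l} (hj : j ∈ J) : X.inJ J (X.p j) := by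
  intro k hk
  rw [hX.c_p]
  have : k ≠ j := fun h => hk (h ▸ hj)
  simp [this]

theorem c_WJ {J : Set (Fin X.l)} {v : Equiv.Perm (Fin X.n)} (hv : v ∈ X.WJ J) :
    ∀ r k, k ∉ J → X.c (v r) k = X.c r k := by
  refine WJ_induction_left hX (P := fun v => ∀ r k, k ∉ J → X.c (v r) k = X.c r k) ?_ ?_ hv
  · intro r k _
    rfl
  · intro i hi y _ ih r k hk
    rw [Equiv.Perm.mul_apply, hX.c_s]
    have : k ≠ i := fun h => hk (h ▸ hi)
    rw [if_neg this, sub_zero]
    exact ih r k hk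

theorem inJ_WJ {J : Set (Fin X.l)} {v : Equiv.Perm (Fin X.n)} (hv : v ∈ X.WJ J) (r : Fin X.n) :
    X.inJ J (v r) ↔ X.inJ J r := by
  constructor
  · intro h k hk
    rw [← c_WJ hX hv r k hk]
    exact h k hk
  · intro h k hk
    rw [c_WJ hX hv r k hk]
    exact h k hk

theorem pos_WJ {J : Set (Fin X.l)} {v : Equiv.Perm (Fin X.n)} (hv : v ∈ X.WJ J) :
    ∀ r, X.pos r → ¬ X.inJ J r → X.pos (v r) := by
  refine WJ_induction_left hX (P := fun v => ∀ r, X.pos r → ¬ X.inJ J r → X.pos (v r)) ?_ ?_ hv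
  · intro r h _
    exact h
  · intro i hi y hy ih r hr hnJ
    rw [Equiv.Perm.mul_apply]
    apply hX.s_pos i _ (ih r hr hnJ)
    intro h
    apply hnJ
    rw [← inJ_WJ hX hy r, h]
    exact inJ_p hX hi

theorem pos_of_inJ {J : Set (Fin X.l)} {u : Equiv.Perm (Fin X.n)} (hu : X.Lin u)
    (hup : ∀ j ∈ J, X.pos (u (X.p j))) : ∀ r, X.pos r → X.inJ J r → X.pos (u r) := by
  intro r hr hJ
  by_contra hn
  have hng : X.pos (X.ng (u r)) := (hX.pos_ng _).mpr hn
  have h0 : ∀ k, X.c (u r) k = 0 := by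
    intro k
    apply le_antisymm
    · have := hX.c_pos _ k hng
      rw [hX.c_ng] at this
      linarith
    · rw [hu r k]
      apply Finset.sum_nonneg
      intro j _
      by_cases hj : j ∈ J
      · exact mul_nonneg (hX.c_pos r j hr) (hX.c_pos _ k (hup j hj))
      · rw [hJ j hj, zero_mul]
  have heq : X.ng (u r) = u r := by
    apply hX.c_inj
    funext k
    rw [hX.c_ng, h0 k, neg_zero]
  rw [heq] at hng
  exact hn hng

theorem inv_mul {J : Set (Fin X.l)} {u v : Equiv.Perm (Fin X.n)} (hu : X.Lin u)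
    (hun : ∀ r, u (X.ng r) = X.ng (u r)) (hup : ∀ j ∈ J, X.pos (u (X.p j)))
    (hv : v ∈ X.WJ J) :
    X.inv (u * v) = X.inv v ∪ (X.inv u).image (v⁻¹ : Equiv.Perm (Fin X.n)) := by
  have hv' : v⁻¹ ∈ X.WJ J := inv_mem hv
  ext r
  simp only [mem_union, mem_image, mem_inv, Equiv.Perm.mul_apply]
  constructor
  · rintro ⟨hr, hn⟩
    by_cases hJ : X.inJ J r
    · left
      refine ⟨hr, fun hp => hn ?_⟩
      exact pos_of_inJ hX hu hup _ hp ((inJ_WJ hX hv r).mpr hJ)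
    · right
      refine ⟨v r, ⟨pos_WJ hX hv r hr hJ, hn⟩, ?_⟩
      simp
  · rintro (⟨hr, hn⟩ | ⟨r', ⟨hr', hn'⟩, rfl⟩)
    · have hJ : X.inJ J r := by
        by_contra hJ
        exact hn (pos_WJ hX hv r hr hJ)
      refine ⟨hr, ?_⟩
      have hJv : X.inJ J (X.ng (v r)) := by
        intro k hk
        rw [hX.c_ng, (inJ_WJ hX hv r).mpr hJ k hk, neg_zero]
      have := pos_of_inJ hX hu hup _ ((hX.pos_ng _).mpr hn) hJv
      rw [hun, hX.pos_ng] at this
      exact this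
    · have hJ' : ¬ X.inJ J r' := fun hJ' => hn' (pos_of_inJ hX hu hup r' hr' hJ')
      refine ⟨pos_WJ hX hv' r' hr' hJ', ?_⟩
      simpa using hn'

theorem len_mul {J : Set (Fin X.l)} {u v : Equiv.Perm (Fin X.n)} (hu : X.Lin u)
    (hun : ∀ r, u (X.ng r) = X.ng (u r)) (hup : ∀ j ∈ J, X.pos (u (X.p j)))
    (hv : v ∈ X.WJ J) : X.len (u * v) = X.len u + X.len v := by
  unfold len
  rw [inv_mul hX hu hun hup hv, card_union_of_disjoint,
    card_image_of_injective _ (v⁻¹ : Equiv.Perm (Fin X.n)).injective, add_comm]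
  rw [disjoint_left]
  intro r h1 h2
  rw [mem_inv] at h1
  rw [mem_image] at h2
  obtain ⟨r', hr', rfl⟩ := h2
  rw [mem_inv] at hr'
  apply h1.2
  simpa using hr'.1

theorem exists_factor {J K : Set (Fin X.l)} (hJK : J ⊆ K) :
    ∀ (m : ℕ) (w : Equiv.Perm (Fin X.n)), w ∈ X.WJ K → X.len w = m →
      ∃ u ∈ X.WJ K, ∃ v ∈ X.WJ J, (∀ j ∈ J, X.pos (u (X.p j))) ∧ w = u * v := by
  intro m
  induction m using Nat.strong_induction_on with
  | _ m ih =>
    intro w hw hlen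
    by_cases hall : ∀ j ∈ J, X.pos (w (X.p j))
    · exact ⟨w, hw, 1, one_mem _, hall, (mul_one w).symm⟩
    · push_neg at hall
      obtain ⟨j, hj, hneg⟩ := hall
      have hwn := w_ng hX hw
      have h1 := (len_mul_s hX w hwn j).2 hneg
      have hw' : w * X.s j ∈ X.WJ K := mul_mem hw (s_mem (hJK hj))
      obtain ⟨u, hu, v, hv, hup, e⟩ := ih (X.len (w * X.s j)) (by omega) (w * X.s j) hw' rfl
      refine ⟨u, hu, v * X.s j, mul_mem hv (s_mem hj), hup, ?_⟩
      rw [← mul_assoc, ← e, mul_assoc, s_mul_s hX, mul_one]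

theorem factor_unique {J K : Set (Fin X.l)} {u u' v v' : Equiv.Perm (Fin X.n)}
    (hu : u ∈ X.WJ K) (hu' : u' ∈ X.WJ K) (hup : ∀ j ∈ J, X.pos (u (X.p j)))
    (hup' : ∀ j ∈ J, X.pos (u' (X.p j))) (hv : v ∈ X.WJ J) (hv' : v' ∈ X.WJ J)
    (e : u * v = u' * v') : u = u' ∧ v = v' := by
  have hx : v' * v⁻¹ ∈ X.WJ J := mul_mem hv' (inv_mem hv)
  have hx' : (v' * v⁻¹)⁻¹ ∈ X.WJ J := inv_mem hx
  have e1 : u = u' * (v' * v⁻¹) := by
    rw [← mul_assoc, ← e, mul_assoc, mul_inv_cancel, mul_one]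
  have e2 : u' = u * (v' * v⁻¹)⁻¹ := by
    rw [e1, mul_assoc, mul_inv_cancel, mul_one]
  have l1 := len_mul hX (lin_of_mem hX hu') (w_ng hX hu') hup' hx
  have l2 := len_mul hX (lin_of_mem hX hu) (w_ng hX hu) hup hx'
  rw [← e1] at l1
  rw [← e2] at l2
  have h0 : X.len (v' * v⁻¹) = 0 := by omega
  have hx1 : v' * v⁻¹ = 1 := by
    apply hX.triv _ (WJ_le_top J hx)
    intro r hr
    by_contra hn
    have hmem : r ∈ X.inv (v' * v⁻¹) := mem_inv.mpr ⟨hr, hn⟩
    unfold len at h0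
    rw [card_eq_zero] at h0
    rw [h0] at hmem
    simp at hmem
  have hvv : v' = v := mul_inv_eq_one.mp hx1
  subst hvv
  exact ⟨mul_right_cancel e, rfl⟩

end

open Classical in
/-- the Poincaré sum of a parabolic subgroup at `q` -/
noncomputable def PW (X : WData) (K : Set (Fin X.l)) (q : ℕ) : ℕ :=
  ∑ w ∈ univ.filter (fun w => w ∈ X.WJ K), q ^ X.len w

open Classical in
/-- the distinguished coset representatives -/
noncomputable def DJ (X : WData) (K J : Set (Fin X.l)) : Finset (Equiv.Perm (Fin X.n)) :=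
  univ.filter fun u => u ∈ X.WJ K ∧ ∀ j ∈ J, X.pos (u (X.p j))

theorem PW_empty (q : ℕ) : X.PW ∅ q = 1 := by
  classical
  unfold PW
  have : (univ.filter fun w => w ∈ X.WJ ∅) = {1} := by
    ext w
    simp only [mem_filter, mem_univ, true_and, mem_singleton, WJ, Set.image_empty,
      Subgroup.closure_empty, Subgroup.mem_bot]
  rw [this, sum_singleton, len_one, pow_zero]

section

variable (hX : X.Ok)
include hX

theorem PW_factor {J K : Set (Fin X.l)} (hJK : J ⊆ K) (q : ℕ) :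
    X.PW K q = (∑ u ∈ X.DJ K J, q ^ X.len u) * X.PW J q := by
  classical
  unfold PW
  rw [Finset.sum_mul_sum, ← Finset.sum_product']
  symm
  apply Finset.sum_bij (fun (uv : Equiv.Perm (Fin X.n) × Equiv.Perm (Fin X.n)) _ => uv.1 * uv.2)
  · rintro ⟨u, v⟩ huv
    simp only [DJ, mem_product, mem_filter, mem_univ, true_and] at huv ⊢
    exact mul_mem huv.1.1 (WJ_mono hJK huv.2)
  · rintro ⟨u, v⟩ huv ⟨u', v'⟩ huv' e
    simp only [DJ, mem_product, mem_filter, mem_univ, true_and] at huv huv'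
    obtain ⟨h1, h2⟩ := factor_unique hX huv.1.1 huv'.1.1 huv.1.2 huv'.1.2 huv.2 huv'.2 e
    rw [h1, h2]
  · intro w hw
    simp only [mem_filter, mem_univ, true_and] at hw
    obtain ⟨u, hu, v, hv, hup, e⟩ := exists_factor hX hJK _ w hw rfl
    refine ⟨(u, v), ?_, e.symm⟩
    simp only [DJ, mem_product, mem_filter, mem_univ, true_and]
    exact ⟨⟨hu, hup⟩, hv⟩
  · rintro ⟨u, v⟩ huv
    simp only [DJ, mem_product, mem_filter, mem_univ, true_and] at huv
    show q ^ X.len u * q ^ X.len v = q ^ X.len (u * v)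
    rw [len_mul hX (lin_of_mem hX huv.1.1) (w_ng hX huv.1.1) huv.1.2 huv.2, pow_add]

theorem DJ_eq_image {J K : Set (Fin X.l)} {m : ℕ}
    (ua : Fin m → Equiv.Perm (Fin X.n)) (h0 : ∃ a, ua a = 1) (hmem : ∀ a, ua a ∈ X.WJ K)
    (hpos : ∀ a, ∀ j ∈ J, X.pos (ua a (X.p j)))
    (hclos : ∀ a, ∀ i ∈ K, (∃ b, X.s i * ua a = ua b) ∨ (∃ j ∈ J, X.s i * ua a = ua a * X.s j)) :
    X.DJ K J = univ.image ua := by
  classical
  have cover : ∀ w ∈ X.WJ K, ∃ a, ∃ v ∈ X.WJ J, w = ua a * v := by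
    intro w hw
    refine WJ_induction_left hX (P := fun w => ∃ a, ∃ v ∈ X.WJ J, w = ua a * v) ?_ ?_ hw
    · obtain ⟨a, ha⟩ := h0
      exact ⟨a, 1, one_mem _, by rw [ha, mul_one]⟩
    · rintro i hi y _ ⟨a, v, hv, rfl⟩
      rcases hclos a i hi with ⟨b, hb⟩ | ⟨j, hj, hb⟩
      · exact ⟨b, v, hv, by rw [← mul_assoc, hb]⟩
      · exact ⟨a, X.s j * v, mul_mem (s_mem hj) hv, by rw [← mul_assoc, hb, mul_assoc]⟩
  ext u
  simp only [DJ, mem_filter, mem_univ, true_and, mem_image]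
  constructor
  · rintro ⟨hu, hup⟩
    obtain ⟨a, v, hv, e⟩ := cover u hu
    refine ⟨a, ?_⟩
    have := factor_unique hX hu (hmem a) hup (hpos a) (one_mem _) hv (by rw [mul_one]; exact e)
    exact this.1.symm
  · rintro ⟨a, rfl⟩
    exact ⟨hmem a, hpos a⟩

theorem sum_DJ {J K : Set (Fin X.l)} {m : ℕ}
    (ua : Fin m → Equiv.Perm (Fin X.n)) (h0 : ∃ a, ua a = 1) (hmem : ∀ a, ua a ∈ X.WJ K)
    (hpos : ∀ a, ∀ j ∈ J, X.pos (ua a (X.p j)))
    (hclos : ∀ a, ∀ i ∈ K, (∃ b, X.s i * ua a = ua b) ∨ (∃ j ∈ J, X.s i * ua a = ua a * X.s j))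
    (hinj : Function.Injective ua) (q : ℕ) :
    ∑ u ∈ X.DJ K J, q ^ X.len u = ∑ a : Fin m, q ^ X.len (ua a) := by
  classical
  rw [DJ_eq_image hX ua h0 hmem hpos hclos, Finset.sum_image]
  intro a _ b _ h
  exact hinj h

end

end WData

end Cfsg.Agent.Lib.Helper8.Weyl
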