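import Cfsg.Agent.Lib.Helper8.Weyl2
import Cfsg.Agent.Lib.Helper8.ChevH1

set_option autoImplicit false

/-! Kernel-checkable certificates for the distinguished coset representatives of a parabolic
subgroup, in terms of packed tables. -/

namespace Cfsg.Agent.Lib.Helper8.Weyl

open Finset Cfsg.Agent.Lib.Helper8.Chev

/-- entry `(a, r)` of a packed table with rows of length `n` -/
def at2 (T n a r : ℕ) : ℕ := getP 8 T (a * n + r)

/-- membership in a list through the recursor -/
noncomputable def memF (a : ℕ) (l : List ℕ) : Bool :=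
  @List.rec ℕ (fun _ => Bool) false (fun b _ ih => Nat.beq a b || ih) l

theorem memF_eq_true {a : ℕ} {l : List ℕ} : memF a l = true ↔ a ∈ l := by
  induction l with
  | nil => simp [memF]
  | cons b l ih =>
    show (Nat.beq a b || memF a l) = true ↔ _
    rw [Bool.or_eq_true, ih, Nat.beq_eq, List.mem_cons]

/-- pairwise distinctness through the recursor -/
noncomputable def nodupF (l : List ℕ) : Bool :=
  @List.rec ℕ (fun _ => Bool) true (fun a t ih => allF (fun b => !(Nat.beq a b)) t && ih) l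

theorem nodupF_nodup {l : List ℕ} (h : nodupF l = true) : l.Nodup := by
  induction l with
  | nil => exact List.nodup_nil
  | cons a t ih =>
    have h' : (allF (fun b => !(Nat.beq a b)) t && nodupF t) = true := h
    rw [Bool.and_eq_true, allF_eq_true] at h'
    rw [List.nodup_cons]
    refine ⟨fun hmem => ?_, ih h'.2⟩
    have := h'.1 a hmem
    simp at this

/-- counting through `Nat.rec` -/
noncomputable def cntF (p : ℕ → Bool) (n : ℕ) : ℕ :=
  @Nat.rec (fun _ => ℕ) 0 (fun k ih => cond (p k) (ih + 1) ih) n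

theorem cntF_eq (p : ℕ → Bool) (n : ℕ) :
    cntF p n = ∑ k ∈ Finset.range n, if p k = true then 1 else 0 := by
  induction n with
  | zero => rfl
  | succ n ih =>
    rw [Finset.sum_range_succ, ← ih]
    show cond (p n) (cntF p n + 1) (cntF p n) = _
    cases p n <;> simp

theorem cond_true_iff (c x y : Bool) :
    cond c x y = true ↔ (c = true ∧ x = true) ∨ (c = false ∧ y = true) := by
  cases c <;> simp

/-- the key of a table row: its values at the fundamental roots -/
noncomputable def keyF (TT n : ℕ) (pl : List ℕ) (b : ℕ) : ℕ :=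
  packL 8 (mapF (fun pk => at2 TT n b pk) pl)

noncomputable def keysF (TT n : ℕ) (pl : List ℕ) (m : ℕ) : List ℕ :=
  @Nat.rec (fun _ => List ℕ) [] (fun b ih => keyF TT n pl b :: ih) m

theorem keysF_eq (TT n : ℕ) (pl : List ℕ) (m : ℕ) :
    keysF TT n pl m = ((List.range m).map (keyF TT n pl)).reverse := by
  induction m with
  | zero => rfl
  | succ m ih =>
    rw [List.range_succ, List.map_append, List.reverse_append, ← ih]
    rfl

/-- the entries of a certificate: parent, generator, closure codes, length -/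
abbrev Ent : Type := ℕ × ℕ × List ℕ × ℕ

noncomputable def checkEnt (n h SS : ℕ) (pl K J : List ℕ) (TT m : ℕ) (b : ℕ) (e : Ent) : Bool :=
  (Nat.beq b 0 || (Nat.blt e.1 b && memF e.2.1 K &&
      forallLtF (fun r => Nat.beq (at2 TT n b r) (at2 SS n e.2.1 (at2 TT n e.1 r))) n)) &&
  allF (fun j => Nat.ble h (at2 TT n b (nthF 0 pl j))) J &&
  allF (fun i => withNat (nthF 0 e.2.2.1 i) fun code =>
      cond (Nat.blt code m)
        (allF (fun pk => Nat.beq (at2 SS n i (at2 TT n b pk)) (at2 TT n code pk)) pl)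
        (memF (code - m) J &&
          allF (fun pk => Nat.beq (at2 SS n i (at2 TT n b pk))
            (at2 TT n b (at2 SS n (code - m) pk))) pl)) K &&
  Nat.beq e.2.2.2 (cntF (fun r => Nat.ble h r && Nat.blt (at2 TT n b r) h) n)

noncomputable def checkStep (n l SS : ℕ) (pl K J : List ℕ) (TT : ℕ) (ents : List Ent) : Bool :=
  Nat.blt 0 ents.length &&
  allF (fun i => Nat.blt i l) K &&
  allF (fun j => memF j K) J &&
  forallLtF (fun r => Nat.beq (at2 TT n 0 r) r) n &&
  allIdxF (fun b e => checkEnt n (n / 2) SS pl K J TT ents.length b e) ents 0 &&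
  nodupF (keysF TT n pl ents.length)

/-- the set of indices of a list -/
def KS (l : ℕ) (K : List ℕ) : Set (Fin l) := {i | i.val ∈ K}

namespace WData

variable {X : WData}

theorem len_eq_sum (w : Equiv.Perm (Fin X.n)) (f : ℕ → ℕ) (hf : ∀ r : Fin X.n, (w r).val = f r.val) :
    X.len w = ∑ k ∈ Finset.range X.n,
      if (Nat.ble (X.n / 2) k && Nat.blt (f k) (X.n / 2)) = true then 1 else 0 := by
  unfold len inv
  rw [Finset.card_filter, ← Fin.sum_univ_eq_sum_range
    (fun k => if (Nat.ble (X.n / 2) k && Nat.blt (f k) (X.n / 2)) = true then 1 else 0) X.n]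
  apply Finset.sum_congr rfl
  intro r _
  have : (X.pos r ∧ ¬ X.pos (w r)) ↔
      (Nat.ble (X.n / 2) r.val && Nat.blt (f r.val) (X.n / 2)) = true := by
    rw [Bool.and_eq_true, Nat.ble_eq, Nat.blt_eq, ← hf r]
    unfold pos
    rw [not_le]
  simp only [this]

section

variable (hX : X.Ok) {SS : ℕ} {pl : List ℕ}
  (hSS : ∀ (i : Fin X.l) (r : Fin X.n), at2 SS X.n i.val r.val = (X.s i r).val)
  (hpl : ∀ j : Fin X.l, nthF 0 pl j.val = (X.p j).val) (hlen : pl.length = X.l)
include hX hSS hpl hlen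

theorem mem_pl (j : Fin X.l) : (X.p j).val ∈ pl := by
  rw [← hpl j, nthF_eq_getD, List.getD_eq_getElem _ _ (by rw [hlen]; exact j.isLt)]
  exact List.getElem_mem _

theorem of_mem_pl {pk : ℕ} (h : pk ∈ pl) : ∃ j : Fin X.l, (X.p j).val = pk := by
  obtain ⟨idx, hidx, rfl⟩ := List.getElem_of_mem h
  refine ⟨⟨idx, by rw [← hlen]; exact hidx⟩, ?_⟩
  rw [← hpl, nthF_eq_getD, List.getD_eq_getElem _ _ hidx]

/-- the main soundness statement for one step of the chain -/
theorem PW_step {K J : List ℕ} {TT : ℕ} {ents : List Ent}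
    (h : checkStep X.n X.l SS pl K J TT ents = true) (q : ℕ) :
    X.PW (KS X.l K) q = (ents.map fun e => q ^ e.2.2.2).sum * X.PW (KS X.l J) q := by
  classical
  simp only [checkStep, Bool.and_eq_true, Nat.blt_eq, allF_eq_true, memF_eq_true,
    forallLtF_eq_true, Nat.beq_eq, allIdxF_eq_true, zero_add] at h
  obtain ⟨⟨⟨⟨⟨hm, hKl⟩, hJK⟩, hid⟩, hent⟩, hnd⟩ := h
  have hnd := nodupF_nodup hnd
  set m := ents.length with hmdef
  -- the entries
  have hE : ∀ b (hb : b < m), checkEnt X.n (X.n / 2) SS pl K J TT m b ents[b] = true :=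
    fun b hb => hent b ents[b] (List.getElem?_eq_getElem hb)
  have hJKs : KS X.l J ⊆ KS X.l K := fun j hj => hJK j.val hj
  -- representing permutations
  have rep : ∀ b, b < m → ∃ u ∈ X.WJ (KS X.l K), ∀ r : Fin X.n, (u r).val = at2 TT X.n b r.val := by
    intro b
    induction b using Nat.strong_induction_on with
    | _ b ih =>
      intro hb
      have hc := hE b hb
      simp only [checkEnt, Bool.and_eq_true, Bool.or_eq_true, Nat.beq_eq, Nat.blt_eq,
        memF_eq_true, forallLtF_eq_true] at hc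
      obtain ⟨⟨⟨htree, _⟩, _⟩, _⟩ := hc
      rcases htree with rfl | ⟨⟨hpar, hgen⟩, htab⟩
      · refine ⟨1, one_mem _, fun r => ?_⟩
        rw [hid r.val r.isLt]
        rfl
      · obtain ⟨ua, hua, hval⟩ := ih _ hpar (lt_trans hpar hb)
        have hi : (ents[b]).2.1 < X.l := hKl _ hgen
        refine ⟨X.s ⟨_, hi⟩ * ua, mul_mem (s_mem hgen) hua, fun r => ?_⟩
        rw [Equiv.Perm.mul_apply, ← hSS, hval, ← htab r.val r.isLt]
  choose! uf huf using rep
  let ua : Fin m → Equiv.Perm (Fin X.n) := fun a => uf a.val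
  have hua_mem : ∀ a : Fin m, ua a ∈ X.WJ (KS X.l K) := fun a => (huf a.val a.isLt).1
  have hua_val : ∀ (a : Fin m) (r : Fin X.n), (ua a r).val = at2 TT X.n a.val r.val :=
    fun a => (huf a.val a.isLt).2
  have hua_lin : ∀ a : Fin m, X.Lin (ua a) := fun a => lin_of_mem hX (hua_mem a)
  -- the properties of the entries
  have h0 : ∃ a, ua a = 1 := by
    refine ⟨⟨0, hm⟩, ?_⟩
    ext r
    rw [hua_val, hid r.val r.isLt]
    rfl
  have hpos : ∀ a, ∀ j ∈ KS X.l J, X.pos (ua a (X.p j)) := by
    intro a j hj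
    have hc := hE a.val a.isLt
    simp only [checkEnt, Bool.and_eq_true, allF_eq_true, Nat.ble_eq] at hc
    obtain ⟨⟨⟨_, hp⟩, _⟩, _⟩ := hc
    have := hp j.val hj
    rw [hpl j, ← hua_val] at this
    exact this
  have hclos : ∀ a, ∀ i ∈ KS X.l K, (∃ b, X.s i * ua a = ua b) ∨
      (∃ j ∈ KS X.l J, X.s i * ua a = ua a * X.s j) := by
    intro a i hi
    have hc := hE a.val a.isLt
    simp only [checkEnt, Bool.and_eq_true, allF_eq_true, withNat_eq, cond_true_iff, Nat.blt_eq,
      memF_eq_true, Nat.beq_eq] at hc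
    obtain ⟨⟨_, hcl⟩, _⟩ := hc
    have hsi : X.Lin (X.s i * ua a) := lin_of_mem hX (mul_mem (s_mem hi) (hua_mem a))
    rcases hcl i.val hi with ⟨hlt, hall⟩ | ⟨hge, hjJ, hall⟩
    · left
      refine ⟨⟨_, hlt⟩, ?_⟩
      apply lin_det hX hsi (hua_lin _)
      intro j
      apply Fin.ext
      rw [Equiv.Perm.mul_apply, ← hSS, hua_val, hua_val]
      exact hall _ (mem_pl hX hSS hpl hlen j)
    · right
      have hj : (nthF 0 (ents[a.val]).2.2.1 i.val - m) < X.l := hKl _ (hJK _ hjJ)
      refine ⟨⟨_, hj⟩, hjJ, ?_⟩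
      have hsj : X.Lin (ua a * X.s ⟨_, hj⟩) :=
        lin_of_mem hX (mul_mem (hua_mem a) (s_mem (hJK _ hjJ)))
      apply lin_det hX hsi hsj
      intro k
      apply Fin.ext
      rw [Equiv.Perm.mul_apply, Equiv.Perm.mul_apply, ← hSS, hua_val, hua_val, ← hSS]
      exact hall _ (mem_pl hX hSS hpl hlen k)
  have hinj : Function.Injective ua := by
    intro a b hab
    have hkey : keyF TT X.n pl a.val = keyF TT X.n pl b.val := by
      unfold keyF
      rw [mapF_eq_map, mapF_eq_map]
      congr 1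
      apply List.map_congr_left
      intro pk hpk
      obtain ⟨j, rfl⟩ := of_mem_pl hX hSS hpl hlen hpk
      rw [← hua_val, ← hua_val, hab]
    rw [keysF_eq, List.nodup_reverse] at hnd
    have := List.inj_on_of_nodup_map hnd (List.mem_range.mpr a.isLt) (List.mem_range.mpr b.isLt) hkey
    exact Fin.ext this
  have hlens : ∀ a : Fin m, X.len (ua a) = (ents[a.val]).2.2.2 := by
    intro a
    have hc := hE a.val a.isLt
    simp only [checkEnt, Bool.and_eq_true, Nat.beq_eq] at hc
    obtain ⟨_, hl⟩ := hc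
    rw [hl, cntF_eq]
    exact len_eq_sum (ua a) (fun k => at2 TT X.n a.val k) (hua_val a)
  rw [PW_factor hX hJKs, sum_DJ hX ua h0 hua_mem hpos hclos hinj]
  congr 1
  simp only [hlens]
  rw [← List.sum_ofFn, List.ofFn_getElem_eq_map ents (fun e : Ent => q ^ e.2.2.2)]

end

end WData

end Cfsg.Agent.Lib.Helper8.Weyl
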