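import Cfsg.Agent.Lib.Helper8.Weyl3

set_option autoImplicit false

/-! Chains of parabolic subgroups, and the polynomial arithmetic used to compare the resulting
Poincaré polynomial with the product formula. -/

namespace Cfsg.Agent.Lib.Helper8.Weyl

open Finset Cfsg.Agent.Lib.Helper8.Chev

/-- one step of the chain: the smaller set of generators, the packed tables and the entries -/
abbrev Step : Type := List ℕ × ℕ × List Ent

noncomputable def checkChain (n l SS : ℕ) (pl : List ℕ) : List Step → List ℕ → Bool
  | [], K => K.isEmpty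
  | st :: rest, K => checkStep n l SS pl K st.1 st.2.1 st.2.2 && checkChain n l SS pl rest st.1

/-- the product of the Poincaré sums of the steps -/
def chainProd (q : ℕ) : List Step → ℕ
  | [] => 1
  | st :: rest => (st.2.2.map fun e => q ^ e.2.2.2).sum * chainProd q rest

namespace WData

variable {X : WData}

theorem PW_chain (hX : X.Ok) {SS : ℕ} {pl : List ℕ}
    (hSS : ∀ (i : Fin X.l) (r : Fin X.n), at2 SS X.n i.val r.val = (X.s i r).val)
    (hpl : ∀ j : Fin X.l, nthF 0 pl j.val = (X.p j).val) (hlen : pl.length = X.l) (q : ℕ) :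
    ∀ (steps : List Step) (K : List ℕ), checkChain X.n X.l SS pl steps K = true →
      X.PW (KS X.l K) q = chainProd q steps := by
  intro steps
  induction steps with
  | nil =>
    intro K h
    have hK : K = [] := by
      simpa [checkChain] using h
    subst hK
    have : KS X.l [] = ∅ := by
      ext i
      simp [KS]
    rw [this, PW_empty]
    rfl
  | cons st rest ih =>
    intro K h
    simp only [checkChain, Bool.and_eq_true] at h
    rw [PW_step hX hSS hpl hlen h.1 q, ih st.1 h.2]
    rfl

theorem KS_range : KS X.l (List.range X.l) = Set.univ := by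
  ext i
  simp [KS]

open Classical in
/-- the Poincaré sum of the whole reflection group -/
theorem sum_W (hX : X.Ok) {SS : ℕ} {pl : List ℕ}
    (hSS : ∀ (i : Fin X.l) (r : Fin X.n), at2 SS X.n i.val r.val = (X.s i r).val)
    (hpl : ∀ j : Fin X.l, nthF 0 pl j.val = (X.p j).val) (hlen : pl.length = X.l) (q : ℕ)
    {steps : List Step} (h : checkChain X.n X.l SS pl steps (List.range X.l) = true) :
    ∑ w ∈ univ.filter (fun w => w ∈ Subgroup.closure (Set.range X.s)), q ^ X.len w =
      chainProd q steps := by
  have := PW_chain hX hSS hpl hlen q steps _ h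
  rw [KS_range] at this
  unfold PW at this
  rw [WJ_univ] at this
  convert this

end WData

/-! ### polynomials as lists of coefficients -/

/-- evaluation (Horner) -/
def pev (x : ℤ) (p : List ℤ) : ℤ := p.foldr (fun a acc => a + x * acc) 0

@[simp] theorem pev_nil (x : ℤ) : pev x [] = 0 := rfl
@[simp] theorem pev_cons (x a : ℤ) (p : List ℤ) : pev x (a :: p) = a + x * pev x p := rfl

/-- addition -/
noncomputable def padd (p : List ℤ) : List ℤ → List ℤ :=
  @List.rec ℤ (fun _ => List ℤ → List ℤ) (fun q => q)
    (fun a p' ih q => @List.rec ℤ (fun _ => List ℤ) (a :: p') (fun b q' _ => (a + b) :: ih q') q) p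

@[simp] theorem padd_nil (q : List ℤ) : padd [] q = q := rfl
@[simp] theorem padd_cons_nil (a : ℤ) (p : List ℤ) : padd (a :: p) [] = a :: p := rfl
@[simp] theorem padd_cons_cons (a b : ℤ) (p q : List ℤ) :
    padd (a :: p) (b :: q) = (a + b) :: padd p q := rfl

theorem pev_padd (x : ℤ) : ∀ p q : List ℤ, pev x (padd p q) = pev x p + pev x q
  | [], q => by simp
  | a :: p, [] => by simp
  | a :: p, b :: q => by
    rw [padd_cons_cons, pev_cons, pev_cons, pev_cons, pev_padd x p q]
    ring

/-- scalar multiplication -/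
noncomputable def psmul (a : ℤ) (p : List ℤ) : List ℤ := mapF (fun b => a * b) p

theorem pev_psmul (x a : ℤ) (p : List ℤ) : pev x (psmul a p) = a * pev x p := by
  unfold psmul
  rw [mapF_eq_map]
  induction p with
  | nil => simp
  | cons b p ih =>
    rw [List.map_cons, pev_cons, pev_cons, ih]
    ring

/-- multiplication -/
noncomputable def pmul (p q : List ℤ) : List ℤ :=
  @List.rec ℤ (fun _ => List ℤ) [] (fun a _ ih => padd (psmul a q) (0 :: ih)) p

@[simp] theorem pmul_nil (q : List ℤ) : pmul [] q = [] := rfl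
theorem pmul_cons (a : ℤ) (p q : List ℤ) :
    pmul (a :: p) q = padd (psmul a q) (0 :: pmul p q) := rfl

theorem pev_pmul (x : ℤ) (p q : List ℤ) : pev x (pmul p q) = pev x p * pev x q := by
  induction p with
  | nil => simp
  | cons a p ih =>
    rw [pmul_cons, pev_padd, pev_psmul, pev_cons, pev_cons, ih]
    ring

/-- the monomial `x ^ d` -/
noncomputable def pmono (d : ℕ) : List ℤ :=
  @Nat.rec (fun _ => List ℤ) [1] (fun _ ih => 0 :: ih) d

theorem pev_pmono (x : ℤ) (d : ℕ) : pev x (pmono d) = x ^ d := by
  induction d with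
  | zero => simp [pmono]
  | succ d ih =>
    show pev x (0 :: pmono d) = _
    rw [pev_cons, ih, pow_succ]
    ring

/-- `∑ x ^ d` over a list of exponents -/
noncomputable def pdegs (ds : List ℕ) : List ℤ :=
  @List.rec ℕ (fun _ => List ℤ) [] (fun d _ ih => padd (pmono d) ih) ds

theorem pev_pdegs (x : ℤ) (ds : List ℕ) : pev x (pdegs ds) = (ds.map fun d => x ^ d).sum := by
  induction ds with
  | nil => rfl
  | cons d ds ih =>
    show pev x (padd (pmono d) (pdegs ds)) = _
    rw [pev_padd, pev_pmono, ih, List.map_cons, List.sum_cons]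

/-- the polynomial of a chain -/
noncomputable def chainPoly (steps : List Step) : List ℤ :=
  @List.rec Step (fun _ => List ℤ) [1]
    (fun st _ ih => pmul (pdegs (mapF (fun e : Ent => e.2.2.2) st.2.2)) ih) steps

theorem cast_sum_pow (q : ℕ) (es : List Ent) :
    (((es.map fun e => q ^ e.2.2.2).sum : ℕ) : ℤ) =
      ((es.map fun e : Ent => e.2.2.2).map fun d => (q : ℤ) ^ d).sum := by
  induction es with
  | nil => simp
  | cons e es ih =>
    simp only [List.map_cons, List.sum_cons, Nat.cast_add, Nat.cast_pow, ih]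

theorem pev_chainPoly (q : ℕ) (steps : List Step) :
    pev (q : ℤ) (chainPoly steps) = (chainProd q steps : ℤ) := by
  induction steps with
  | nil => simp [chainPoly, chainProd]
  | cons st rest ih =>
    show pev (q : ℤ) (pmul (pdegs (mapF (fun e : Ent => e.2.2.2) st.2.2)) (chainPoly rest)) = _
    rw [pev_pmul, ih, pev_pdegs, mapF_eq_map]
    show _ = (((st.2.2.map fun e => q ^ e.2.2.2).sum * chainProd q rest : ℕ) : ℤ)
    rw [Nat.cast_mul, cast_sum_pow]

/-- `∏ (x ^ d - 1)` over a list of degrees -/
noncomputable def degPoly (ds : List ℕ) : List ℤ :=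
  @List.rec ℕ (fun _ => List ℤ) [1] (fun d _ ih => pmul (padd [-1] (pmono d)) ih) ds

theorem pev_degPoly (x : ℤ) (ds : List ℕ) :
    pev x (degPoly ds) = (ds.map fun d => x ^ d - 1).prod := by
  induction ds with
  | nil => simp [degPoly]
  | cons d ds ih =>
    show pev x (pmul (padd [-1] (pmono d)) (degPoly ds)) = _
    have h1 : pev x [-1] = -1 := by
      rw [pev_cons, pev_nil]
      ring
    rw [pev_pmul, pev_padd, pev_pmono, ih, List.map_cons, List.prod_cons, h1]
    ring

/-- `(x - 1) ^ l` -/
noncomputable def xm1Poly (l : ℕ) : List ℤ :=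
  @Nat.rec (fun _ => List ℤ) [1] (fun _ ih => pmul [-1, 1] ih) l

theorem pev_xm1Poly (x : ℤ) (l : ℕ) : pev x (xm1Poly l) = (x - 1) ^ l := by
  induction l with
  | zero => simp [xm1Poly]
  | succ l ih =>
    show pev x (pmul [-1, 1] (xm1Poly l)) = _
    have h1 : pev x [-1, 1] = x - 1 := by
      rw [pev_cons, pev_cons, pev_nil]
      ring
    rw [pev_pmul, ih, pow_succ, h1]
    ring

end Cfsg.Agent.Lib.Helper8.Weyl
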